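import Cfsg.Agent.Lib.Helper92.OutCo1A

set_option autoImplicit false

namespace Cfsg.Agent.Lib.Helper92.OC1

open Cfsg Cfsg.Spor Cfsg.Agent.Lib.Helper7 Cfsg.Agent.Lib.Helper92 Cfsg.Agent.Lib.Helper92.OC2

set_option maxRecDepth 100000 in
def c1et1M : List (List ℤ) :=
  [[Int.negSucc 3, Int.ofNat 0, Int.ofNat 0, Int.ofNat 0, Int.ofNat 0, Int.ofNat 0, Int.ofNat 0, Int.ofNat 0, Int.ofNat 0, Int.ofNat 0, Int.ofNat 0, Int.ofNat 0, Int.ofNat 0, Int.ofNat 0, Int.ofNat 0, Int.ofNat 0, Int.ofNat 0, Int.ofNat 0, Int.ofNat 0, Int.ofNat 0, Int.ofNat 0, Int.ofNat 0, Int.ofNat 0, Int.ofNat 4],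
  [Int.ofNat 4, Int.ofNat 0, Int.ofNat 0, Int.ofNat 0, Int.ofNat 0, Int.ofNat 0, Int.ofNat 0, Int.ofNat 0, Int.ofNat 0, Int.ofNat 0, Int.ofNat 0, Int.ofNat 0, Int.ofNat 0, Int.ofNat 0, Int.ofNat 0, Int.ofNat 0, Int.ofNat 0, Int.ofNat 0, Int.ofNat 0, Int.ofNat 0, Int.ofNat 0, Int.ofNat 0, Int.ofNat 0, Int.ofNat 4],
  [Int.ofNat 0, Int.ofNat 4, Int.ofNat 0, Int.ofNat 0, Int.ofNat 0, Int.ofNat 0, Int.ofNat 0, Int.ofNat 0, Int.ofNat 0, Int.ofNat 0, Int.ofNat 0, Int.ofNat 0, Int.ofNat 0, Int.ofNat 0, Int.ofNat 0, Int.ofNat 0, Int.ofNat 0, Int.ofNat 0, Int.ofNat 0, Int.ofNat 0, Int.ofNat 0, Int.ofNat 0, Int.ofNat 0, Int.ofNat 4],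
  [Int.ofNat 4, Int.ofNat 0, Int.ofNat 4, Int.ofNat 0, Int.ofNat 0, Int.ofNat 0, Int.ofNat 0, Int.ofNat 0, Int.ofNat 0, Int.ofNat 0, Int.ofNat 0, Int.ofNat 0, Int.ofNat 0, Int.ofNat 0, Int.ofNat 0, Int.ofNat 0, Int.ofNat 0, Int.ofNat 0, Int.ofNat 0, Int.ofNat 0, Int.ofNat 0, Int.ofNat 0, Int.ofNat 0, Int.ofNat 0],
  [Int.ofNat 0, Int.ofNat 0, Int.ofNat 0, Int.ofNat 0, Int.ofNat 0, Int.ofNat 0, Int.ofNat 0, Int.ofNat 0, Int.ofNat 0, Int.ofNat 0, Int.ofNat 0, Int.ofNat 0, Int.ofNat 0, Int.ofNat 0, Int.ofNat 0, Int.ofNat 0, Int.ofNat 0, Int.ofNat 0, Int.ofNat 0, Int.ofNat 0, Int.ofNat 4, Int.ofNat 0, Int.ofNat 4, Int.ofNat 0],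
  [Int.ofNat 0, Int.ofNat 0, Int.ofNat 0, Int.ofNat 0, Int.negSucc 1, Int.ofNat 0, Int.ofNat 0, Int.ofNat 0, Int.ofNat 0, Int.negSucc 1, Int.negSucc 1, Int.ofNat 0, Int.ofNat 0, Int.negSucc 1, Int.ofNat 0, Int.negSucc 1, Int.negSucc 1, Int.ofNat 0, Int.ofNat 0, Int.ofNat 0, Int.ofNat 2, Int.ofNat 0, Int.ofNat 2, Int.ofNat 0],
  [Int.ofNat 0, Int.ofNat 0, Int.negSucc 1, Int.ofNat 0, Int.ofNat 0, Int.ofNat 0, Int.ofNat 0, Int.negSucc 1, Int.ofNat 0, Int.negSucc 1, Int.ofNat 2, Int.ofNat 0, Int.negSucc 1, Int.negSucc 1, Int.ofNat 2, Int.negSucc 1, Int.ofNat 0, Int.ofNat 0, Int.ofNat 0, Int.ofNat 0, Int.ofNat 0, Int.ofNat 0, Int.ofNat 0, Int.ofNat 0],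
  [Int.negSucc 0, Int.negSucc 0, Int.ofNat 1, Int.negSucc 0, Int.ofNat 1, Int.negSucc 0, Int.ofNat 1, Int.negSucc 0, Int.ofNat 1, Int.negSucc 0, Int.ofNat 3, Int.ofNat 1, Int.negSucc 0, Int.negSucc 0, Int.ofNat 1, Int.negSucc 0, Int.ofNat 1, Int.negSucc 0, Int.ofNat 1, Int.ofNat 1, Int.ofNat 1, Int.ofNat 1, Int.ofNat 1, Int.negSucc 0],
  [Int.negSucc 0, Int.negSucc 0, Int.negSucc 0, Int.negSucc 0, Int.ofNat 1, Int.ofNat 1, Int.negSucc 0, Int.negSucc 0, Int.ofNat 1, Int.ofNat 1, Int.negSucc 2, Int.ofNat 1, Int.negSucc 0, Int.negSucc 0, Int.ofNat 1, Int.ofNat 1, Int.ofNat 1, Int.negSucc 0, Int.negSucc 0, Int.ofNat 1, Int.ofNat 1, Int.ofNat 1, Int.negSucc 0, Int.negSucc 0],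
  [Int.negSucc 2, Int.ofNat 1, Int.ofNat 1, Int.ofNat 1, Int.ofNat 1, Int.negSucc 0, Int.ofNat 1, Int.negSucc 0, Int.ofNat 1, Int.ofNat 1, Int.negSucc 0, Int.negSucc 0, Int.ofNat 1, Int.ofNat 1, Int.negSucc 0, Int.negSucc 0, Int.ofNat 1, Int.negSucc 0, Int.ofNat 1, Int.negSucc 0, Int.negSucc 0, Int.negSucc 0, Int.negSucc 0, Int.negSucc 0],
  [Int.ofNat 3, Int.negSucc 0, Int.negSucc 0, Int.negSucc 0, Int.negSucc 0, Int.negSucc 0, Int.negSucc 0, Int.negSucc 0, Int.negSucc 0, Int.negSucc 0, Int.negSucc 0, Int.negSucc 0, Int.negSucc 0, Int.negSucc 0, Int.negSucc 0, Int.negSucc 0, Int.negSucc 0, Int.negSucc 0, Int.negSucc 0, Int.negSucc 0, Int.negSucc 0, Int.negSucc 0, Int.negSucc 0, Int.negSucc 0],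
  [Int.negSucc 0, Int.negSucc 0, Int.negSucc 0, Int.negSucc 0, Int.negSucc 0, Int.negSucc 0, Int.negSucc 0, Int.negSucc 0, Int.negSucc 0, Int.negSucc 0, Int.negSucc 0, Int.negSucc 0, Int.negSucc 0, Int.negSucc 0, Int.negSucc 0, Int.negSucc 0, Int.negSucc 0, Int.negSucc 0, Int.negSucc 0, Int.negSucc 0, Int.negSucc 0, Int.negSucc 0, Int.negSucc 0, Int.ofNat 3],
  [Int.ofNat 1, Int.negSucc 0, Int.ofNat 1, Int.negSucc 0, Int.negSucc 0, Int.negSucc 0, Int.negSucc 0, Int.ofNat 1, Int.negSucc 0, Int.ofNat 1, Int.ofNat 1, Int.ofNat 1, Int.negSucc 0, Int.negSucc 0, Int.negSucc 0, Int.negSucc 0, Int.negSucc 0, Int.negSucc 0, Int.ofNat 1, Int.negSucc 0, Int.negSucc 0, Int.ofNat 1, Int.negSucc 0, Int.ofNat 3],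
  [Int.negSucc 0, Int.ofNat 1, Int.negSucc 0, Int.ofNat 1, Int.negSucc 0, Int.negSucc 0, Int.negSucc 0, Int.negSucc 0, Int.ofNat 1, Int.negSucc 0, Int.ofNat 1, Int.ofNat 1, Int.ofNat 1, Int.negSucc 0, Int.negSucc 0, Int.negSucc 0, Int.negSucc 0, Int.negSucc 0, Int.negSucc 0, Int.ofNat 1, Int.negSucc 0, Int.negSucc 0, Int.ofNat 1, Int.ofNat 3],
  [Int.ofNat 2, Int.ofNat 0, Int.ofNat 2, Int.ofNat 2, Int.ofNat 0, Int.ofNat 0, Int.ofNat 0, Int.ofNat 0, Int.ofNat 0, Int.ofNat 0, Int.ofNat 2, Int.ofNat 0, Int.ofNat 0, Int.ofNat 0, Int.ofNat 0, Int.ofNat 0, Int.ofNat 0, Int.ofNat 0, Int.negSucc 1, Int.ofNat 2, Int.ofNat 0, Int.ofNat 0, Int.ofNat 2, Int.negSucc 1],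
  [Int.ofNat 2, Int.ofNat 0, Int.ofNat 0, Int.ofNat 0, Int.ofNat 0, Int.ofNat 0, Int.ofNat 0, Int.ofNat 2, Int.ofNat 0, Int.ofNat 0, Int.ofNat 0, Int.ofNat 0, Int.ofNat 0, Int.ofNat 0, Int.ofNat 0, Int.negSucc 1, Int.ofNat 2, Int.ofNat 0, Int.ofNat 0, Int.ofNat 2, Int.ofNat 2, Int.ofNat 0, Int.ofNat 2, Int.negSucc 1],
  [Int.negSucc 1, Int.ofNat 0, Int.ofNat 0, Int.ofNat 0, Int.negSucc 1, Int.ofNat 0, Int.negSucc 1, Int.ofNat 0, Int.ofNat 0, Int.ofNat 0, Int.ofNat 0, Int.ofNat 0, Int.ofNat 0, Int.negSucc 1, Int.ofNat 0, Int.negSucc 1, Int.ofNat 0, Int.ofNat 0, Int.ofNat 0, Int.ofNat 0, Int.ofNat 2, Int.negSucc 1, Int.ofNat 0, Int.ofNat 2],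
  [Int.negSucc 1, Int.negSucc 1, Int.negSucc 1, Int.ofNat 0, Int.ofNat 0, Int.ofNat 0, Int.ofNat 0, Int.ofNat 0, Int.ofNat 0, Int.negSucc 1, Int.ofNat 2, Int.ofNat 0, Int.ofNat 0, Int.ofNat 0, Int.ofNat 0, Int.negSucc 1, Int.ofNat 0, Int.ofNat 0, Int.ofNat 0, Int.ofNat 0, Int.negSucc 1, Int.ofNat 0, Int.ofNat 0, Int.ofNat 2],
  [Int.ofNat 0, Int.ofNat 0, Int.ofNat 0, Int.ofNat 0, Int.ofNat 0, Int.ofNat 0, Int.ofNat 0, Int.ofNat 0, Int.ofNat 0, Int.ofNat 0, Int.ofNat 4, Int.ofNat 0, Int.ofNat 0, Int.ofNat 0, Int.ofNat 0, Int.ofNat 0, Int.ofNat 0, Int.ofNat 0, Int.ofNat 0, Int.ofNat 0, Int.ofNat 0, Int.ofNat 0, Int.ofNat 0, Int.negSucc 3],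
  [Int.ofNat 0, Int.ofNat 0, Int.ofNat 0, Int.ofNat 0, Int.ofNat 0, Int.ofNat 0, Int.ofNat 0, Int.ofNat 0, Int.ofNat 0, Int.ofNat 0, Int.negSucc 3, Int.ofNat 0, Int.ofNat 0, Int.ofNat 0, Int.ofNat 0, Int.ofNat 0, Int.ofNat 0, Int.ofNat 0, Int.ofNat 0, Int.ofNat 0, Int.ofNat 0, Int.ofNat 0, Int.ofNat 0, Int.negSucc 3],
  [Int.ofNat 0, Int.ofNat 0, Int.ofNat 0, Int.ofNat 0, Int.ofNat 0, Int.ofNat 0, Int.ofNat 0, Int.ofNat 0, Int.ofNat 0, Int.ofNat 0, Int.ofNat 0, Int.ofNat 0, Int.ofNat 0, Int.ofNat 0, Int.ofNat 0, Int.negSucc 3, Int.ofNat 0, Int.ofNat 0, Int.ofNat 0, Int.ofNat 0, Int.ofNat 0, Int.ofNat 0, Int.ofNat 0, Int.negSucc 3],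
  [Int.ofNat 0, Int.ofNat 0, Int.ofNat 0, Int.ofNat 0, Int.ofNat 0, Int.ofNat 0, Int.ofNat 0, Int.ofNat 0, Int.ofNat 0, Int.ofNat 0, Int.ofNat 0, Int.ofNat 0, Int.ofNat 0, Int.ofNat 0, Int.ofNat 0, Int.ofNat 4, Int.ofNat 0, Int.ofNat 0, Int.ofNat 0, Int.ofNat 0, Int.ofNat 0, Int.ofNat 0, Int.ofNat 0, Int.negSucc 3],
  [Int.negSucc 1, Int.negSucc 1, Int.negSucc 1, Int.ofNat 0, Int.ofNat 0, Int.ofNat 0, Int.ofNat 0, Int.ofNat 0, Int.ofNat 0, Int.negSucc 1, Int.negSucc 1, Int.ofNat 0, Int.ofNat 0, Int.ofNat 0, Int.ofNat 0, Int.ofNat 2, Int.ofNat 0, Int.ofNat 0, Int.ofNat 0, Int.ofNat 0, Int.negSucc 1, Int.ofNat 0, Int.ofNat 0, Int.ofNat 2],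
  [Int.negSucc 1, Int.ofNat 0, Int.ofNat 0, Int.ofNat 0, Int.negSucc 1, Int.ofNat 0, Int.negSucc 1, Int.ofNat 0, Int.ofNat 0, Int.ofNat 0, Int.ofNat 0, Int.ofNat 0, Int.ofNat 0, Int.negSucc 1, Int.ofNat 0, Int.ofNat 2, Int.ofNat 0, Int.ofNat 0, Int.ofNat 0, Int.ofNat 0, Int.negSucc 1, Int.negSucc 1, Int.ofNat 0, Int.ofNat 2],
  [Int.ofNat 2, Int.ofNat 0, Int.ofNat 0, Int.ofNat 0, Int.ofNat 0, Int.ofNat 0, Int.ofNat 0, Int.ofNat 2, Int.ofNat 0, Int.ofNat 0, Int.ofNat 0, Int.ofNat 0, Int.ofNat 0, Int.ofNat 0, Int.ofNat 0, Int.ofNat 2, Int.ofNat 2, Int.ofNat 0, Int.ofNat 0, Int.ofNat 2, Int.negSucc 1, Int.ofNat 0, Int.ofNat 2, Int.negSucc 1],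
  [Int.negSucc 1, Int.ofNat 0, Int.ofNat 2, Int.ofNat 2, Int.ofNat 0, Int.ofNat 0, Int.ofNat 0, Int.ofNat 0, Int.ofNat 0, Int.ofNat 0, Int.ofNat 2, Int.ofNat 0, Int.ofNat 0, Int.ofNat 0, Int.ofNat 0, Int.ofNat 0, Int.ofNat 0, Int.ofNat 0, Int.ofNat 2, Int.ofNat 2, Int.ofNat 0, Int.ofNat 0, Int.ofNat 2, Int.negSucc 1],
  [Int.ofNat 1, Int.negSucc 0, Int.negSucc 2, Int.ofNat 1, Int.negSucc 0, Int.negSucc 0, Int.negSucc 0, Int.negSucc 0, Int.negSucc 0, Int.negSucc 0, Int.ofNat 1, Int.negSucc 0, Int.negSucc 0, Int.negSucc 0, Int.negSucc 0, Int.negSucc 0, Int.negSucc 0, Int.negSucc 0, Int.ofNat 1, Int.ofNat 1, Int.negSucc 0, Int.negSucc 0, Int.ofNat 1, Int.ofNat 1],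
  [Int.negSucc 0, Int.negSucc 2, Int.ofNat 1, Int.negSucc 0, Int.negSucc 0, Int.negSucc 0, Int.negSucc 0, Int.negSucc 0, Int.negSucc 0, Int.ofNat 1, Int.negSucc 0, Int.negSucc 0, Int.negSucc 0, Int.negSucc 0, Int.negSucc 0, Int.negSucc 0, Int.negSucc 0, Int.ofNat 1, Int.ofNat 1, Int.negSucc 0, Int.negSucc 0, Int.ofNat 1, Int.ofNat 1, Int.ofNat 1],
  [Int.ofNat 1, Int.negSucc 2, Int.negSucc 0, Int.negSucc 0, Int.negSucc 0, Int.negSucc 0, Int.negSucc 0, Int.ofNat 1, Int.negSucc 0, Int.negSucc 0, Int.ofNat 1, Int.ofNat 1, Int.negSucc 0, Int.negSucc 0, Int.negSucc 0, Int.negSucc 0, Int.negSucc 0, Int.ofNat 1, Int.negSucc 0, Int.negSucc 0, Int.negSucc 0, Int.negSucc 0, Int.ofNat 1, Int.ofNat 1],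
  [Int.ofNat 1, Int.negSucc 0, Int.negSucc 0, Int.negSucc 0, Int.negSucc 2, Int.ofNat 1, Int.negSucc 0, Int.negSucc 0, Int.negSucc 0, Int.negSucc 0, Int.negSucc 0, Int.negSucc 0, Int.negSucc 0, Int.negSucc 0, Int.negSucc 0, Int.negSucc 0, Int.negSucc 0, Int.ofNat 1, Int.negSucc 0, Int.ofNat 1, Int.negSucc 0, Int.ofNat 1, Int.ofNat 1, Int.ofNat 1],
  [Int.negSucc 0, Int.negSucc 0, Int.ofNat 1, Int.negSucc 0, Int.negSucc 2, Int.ofNat 1, Int.negSucc 0, Int.ofNat 1, Int.negSucc 0, Int.ofNat 1, Int.ofNat 1, Int.ofNat 1, Int.negSucc 0, Int.negSucc 0, Int.negSucc 0, Int.negSucc 0, Int.negSucc 0, Int.ofNat 1, Int.ofNat 1, Int.ofNat 1, Int.negSucc 0, Int.negSucc 0, Int.ofNat 1, Int.ofNat 1],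
  [Int.ofNat 1, Int.negSucc 0, Int.negSucc 0, Int.ofNat 1, Int.negSucc 0, Int.negSucc 2, Int.ofNat 1, Int.negSucc 0, Int.ofNat 1, Int.negSucc 0, Int.ofNat 1, Int.ofNat 1, Int.ofNat 1, Int.negSucc 0, Int.negSucc 0, Int.negSucc 0, Int.negSucc 0, Int.negSucc 0, Int.ofNat 1, Int.ofNat 1, Int.ofNat 1, Int.negSucc 0, Int.negSucc 0, Int.ofNat 1],
  [Int.negSucc 0, Int.ofNat 1, Int.ofNat 1, Int.ofNat 3, Int.ofNat 1, Int.negSucc 0, Int.ofNat 1, Int.negSucc 0, Int.negSucc 0, Int.negSucc 0, Int.ofNat 1, Int.negSucc 0, Int.negSucc 0, Int.ofNat 1, Int.ofNat 1, Int.negSucc 0, Int.ofNat 1, Int.ofNat 1, Int.negSucc 0, Int.ofNat 1, Int.ofNat 1, Int.negSucc 0, Int.ofNat 1, Int.negSucc 0],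
  [Int.ofNat 3, Int.ofNat 1, Int.negSucc 0, Int.ofNat 1, Int.negSucc 0, Int.negSucc 0, Int.negSucc 0, Int.ofNat 1, Int.negSucc 0, Int.negSucc 0, Int.ofNat 1, Int.ofNat 1, Int.negSucc 0, Int.ofNat 1, Int.ofNat 1, Int.negSucc 0, Int.ofNat 1, Int.ofNat 1, Int.negSucc 0, Int.ofNat 1, Int.negSucc 0, Int.ofNat 1, Int.ofNat 1, Int.negSucc 0],
  [Int.negSucc 1, Int.ofNat 0, Int.ofNat 2, Int.ofNat 0, Int.negSucc 1, Int.negSucc 1, Int.negSucc 1, Int.ofNat 0, Int.ofNat 0, Int.ofNat 0, Int.ofNat 2, Int.ofNat 2, Int.ofNat 0, Int.ofNat 0, Int.ofNat 0, Int.ofNat 0, Int.ofNat 0, Int.ofNat 0, Int.ofNat 0, Int.ofNat 0, Int.ofNat 0, Int.ofNat 0, Int.ofNat 0, Int.ofNat 2],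
  [Int.negSucc 1, Int.negSucc 1, Int.negSucc 1, Int.ofNat 0, Int.ofNat 0, Int.ofNat 0, Int.ofNat 2, Int.ofNat 2, Int.ofNat 0, Int.ofNat 0, Int.ofNat 0, Int.ofNat 0, Int.ofNat 0, Int.ofNat 0, Int.ofNat 0, Int.ofNat 0, Int.ofNat 0, Int.ofNat 0, Int.ofNat 0, Int.ofNat 2, Int.ofNat 0, Int.negSucc 1, Int.ofNat 0, Int.ofNat 2],
  [Int.ofNat 0, Int.ofNat 0, Int.ofNat 0, Int.ofNat 0, Int.ofNat 0, Int.ofNat 0, Int.ofNat 0, Int.ofNat 0, Int.ofNat 0, Int.ofNat 0, Int.ofNat 0, Int.ofNat 0, Int.ofNat 0, Int.ofNat 0, Int.ofNat 0, Int.ofNat 0, Int.ofNat 0, Int.ofNat 0, Int.ofNat 0, Int.ofNat 0, Int.ofNat 0, Int.negSucc 3, Int.ofNat 0, Int.negSucc 3],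
  [Int.ofNat 0, Int.ofNat 0, Int.ofNat 0, Int.ofNat 0, Int.ofNat 0, Int.ofNat 0, Int.ofNat 0, Int.ofNat 0, Int.ofNat 0, Int.ofNat 0, Int.ofNat 0, Int.ofNat 0, Int.ofNat 0, Int.ofNat 0, Int.ofNat 0, Int.ofNat 0, Int.ofNat 0, Int.ofNat 0, Int.ofNat 0, Int.ofNat 0, Int.ofNat 0, Int.negSucc 3, Int.ofNat 0, Int.negSucc 3],
  [Int.ofNat 0, Int.ofNat 0, Int.ofNat 0, Int.ofNat 0, Int.ofNat 0, Int.ofNat 0, Int.negSucc 3, Int.ofNat 0, Int.ofNat 0, Int.ofNat 0, Int.ofNat 0, Int.ofNat 0, Int.ofNat 0, Int.ofNat 0, Int.ofNat 0, Int.ofNat 0, Int.ofNat 0, Int.ofNat 0, Int.ofNat 0, Int.ofNat 0, Int.ofNat 0, Int.ofNat 0, Int.ofNat 0, Int.negSucc 3],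
  [Int.ofNat 0, Int.ofNat 0, Int.ofNat 0, Int.ofNat 0, Int.ofNat 0, Int.ofNat 0, Int.ofNat 4, Int.ofNat 0, Int.ofNat 0, Int.ofNat 0, Int.ofNat 0, Int.ofNat 0, Int.ofNat 0, Int.ofNat 0, Int.ofNat 0, Int.ofNat 0, Int.ofNat 0, Int.ofNat 0, Int.ofNat 0, Int.ofNat 0, Int.ofNat 0, Int.ofNat 0, Int.ofNat 0, Int.negSucc 3],
  [Int.negSucc 3, Int.ofNat 0, Int.ofNat 0, Int.ofNat 0, Int.ofNat 0, Int.ofNat 0, Int.ofNat 0, Int.ofNat 0, Int.ofNat 0, Int.ofNat 0, Int.ofNat 0, Int.ofNat 0, Int.ofNat 0, Int.ofNat 0, Int.ofNat 0, Int.ofNat 0, Int.ofNat 0, Int.ofNat 0, Int.ofNat 0, Int.ofNat 4, Int.ofNat 0, Int.ofNat 0, Int.ofNat 0, Int.ofNat 0],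
  [Int.ofNat 4, Int.ofNat 0, Int.ofNat 0, Int.ofNat 0, Int.ofNat 0, Int.ofNat 0, Int.ofNat 0, Int.ofNat 0, Int.ofNat 0, Int.ofNat 0, Int.ofNat 0, Int.ofNat 0, Int.ofNat 0, Int.ofNat 0, Int.ofNat 0, Int.ofNat 0, Int.ofNat 0, Int.ofNat 0, Int.ofNat 0, Int.ofNat 4, Int.ofNat 0, Int.ofNat 0, Int.ofNat 0, Int.ofNat 0],
  [Int.ofNat 0, Int.ofNat 4, Int.ofNat 0, Int.ofNat 0, Int.ofNat 0, Int.ofNat 0, Int.ofNat 0, Int.ofNat 0, Int.ofNat 0, Int.ofNat 0, Int.ofNat 0, Int.ofNat 0, Int.ofNat 0, Int.ofNat 0, Int.ofNat 0, Int.ofNat 0, Int.ofNat 0, Int.ofNat 0, Int.ofNat 0, Int.ofNat 0, Int.ofNat 4, Int.ofNat 0, Int.ofNat 0, Int.ofNat 0],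
  [Int.ofNat 2, Int.negSucc 1, Int.ofNat 2, Int.ofNat 0, Int.ofNat 0, Int.ofNat 0, Int.ofNat 0, Int.ofNat 0, Int.ofNat 0, Int.negSucc 1, Int.negSucc 1, Int.ofNat 0, Int.ofNat 0, Int.ofNat 0, Int.ofNat 0, Int.negSucc 1, Int.ofNat 0, Int.ofNat 0, Int.ofNat 0, Int.ofNat 0, Int.ofNat 2, Int.ofNat 0, Int.ofNat 0, Int.ofNat 2],
  [Int.ofNat 0, Int.ofNat 0, Int.ofNat 0, Int.ofNat 0, Int.ofNat 0, Int.ofNat 0, Int.negSucc 1, Int.negSucc 1, Int.ofNat 0, Int.ofNat 0, Int.ofNat 0, Int.ofNat 0, Int.negSucc 1, Int.ofNat 0, Int.ofNat 0, Int.ofNat 0, Int.ofNat 0, Int.ofNat 2, Int.ofNat 0, Int.ofNat 0, Int.ofNat 2, Int.negSucc 1, Int.ofNat 2, Int.ofNat 2],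
  [Int.ofNat 1, Int.ofNat 1, Int.ofNat 1, Int.negSucc 0, Int.negSucc 0, Int.negSucc 0, Int.ofNat 1, Int.ofNat 1, Int.ofNat 1, Int.negSucc 0, Int.negSucc 0, Int.ofNat 1, Int.negSucc 0, Int.negSucc 0, Int.negSucc 0, Int.negSucc 0, Int.negSucc 0, Int.ofNat 1, Int.ofNat 1, Int.ofNat 3, Int.ofNat 1, Int.ofNat 1, Int.ofNat 1, Int.negSucc 0],
  [Int.ofNat 1, Int.ofNat 1, Int.negSucc 0, Int.negSucc 0, Int.ofNat 1, Int.ofNat 1, Int.ofNat 1, Int.negSucc 0, Int.negSucc 0, Int.negSucc 0, Int.ofNat 1, Int.ofNat 1, Int.negSucc 0, Int.negSucc 0, Int.ofNat 1, Int.negSucc 0, Int.ofNat 1, Int.negSucc 0, Int.ofNat 1, Int.ofNat 1, Int.ofNat 1, Int.negSucc 0, Int.ofNat 3, Int.negSucc 0],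
  [Int.negSucc 0, Int.negSucc 0, Int.ofNat 1, Int.negSucc 0, Int.negSucc 0, Int.ofNat 1, Int.ofNat 1, Int.negSucc 0, Int.negSucc 0, Int.negSucc 0, Int.ofNat 1, Int.ofNat 1, Int.negSucc 0, Int.negSucc 2, Int.ofNat 1, Int.negSucc 0, Int.negSucc 0, Int.negSucc 0, Int.ofNat 1, Int.ofNat 1, Int.ofNat 1, Int.negSucc 0, Int.ofNat 1, Int.ofNat 1],
  [Int.negSucc 0, Int.negSucc 0, Int.negSucc 0, Int.negSucc 0, Int.negSucc 0, Int.negSucc 0, Int.negSucc 0, Int.negSucc 0, Int.negSucc 0, Int.ofNat 1, Int.negSucc 0, Int.ofNat 1, Int.negSucc 0, Int.negSucc 2, Int.ofNat 1, Int.ofNat 1, Int.negSucc 0, Int.negSucc 0, Int.negSucc 0, Int.ofNat 1, Int.ofNat 1, Int.negSucc 0, Int.negSucc 0, Int.ofNat 1],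
  [Int.negSucc 0, Int.ofNat 1, Int.negSucc 0, Int.ofNat 1, Int.negSucc 0, Int.negSucc 0, Int.ofNat 1, Int.negSucc 0, Int.negSucc 0, Int.negSucc 0, Int.negSucc 0, Int.negSucc 0, Int.negSucc 0, Int.negSucc 0, Int.negSucc 0, Int.negSucc 0, Int.ofNat 1, Int.ofNat 1, Int.negSucc 0, Int.ofNat 1, Int.negSucc 0, Int.negSucc 0, Int.negSucc 2, Int.ofNat 1],
  [Int.negSucc 0, Int.ofNat 1, Int.ofNat 1, Int.ofNat 1, Int.negSucc 0, Int.ofNat 1, Int.negSucc 0, Int.negSucc 0, Int.negSucc 0, Int.ofNat 1, Int.ofNat 1, Int.negSucc 0, Int.negSucc 0, Int.negSucc 0, Int.negSucc 0, Int.ofNat 1, Int.ofNat 1, Int.ofNat 1, Int.ofNat 1, Int.ofNat 1, Int.negSucc 0, Int.negSucc 0, Int.ofNat 3, Int.ofNat 1],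
  [Int.ofNat 2, Int.ofNat 0, Int.ofNat 0, Int.ofNat 0, Int.negSucc 1, Int.ofNat 0, Int.ofNat 0, Int.ofNat 0, Int.ofNat 0, Int.ofNat 0, Int.ofNat 0, Int.ofNat 0, Int.ofNat 0, Int.negSucc 1, Int.negSucc 1, Int.ofNat 0, Int.ofNat 0, Int.ofNat 0, Int.ofNat 2, Int.ofNat 2, Int.negSucc 1, Int.ofNat 0, Int.ofNat 2, Int.ofNat 0],
  [Int.ofNat 2, Int.ofNat 2, Int.ofNat 0, Int.ofNat 0, Int.ofNat 0, Int.ofNat 0, Int.ofNat 0, Int.ofNat 0, Int.ofNat 0, Int.ofNat 0, Int.ofNat 0, Int.ofNat 2, Int.ofNat 0, Int.ofNat 0, Int.ofNat 0, Int.ofNat 0, Int.negSucc 1, Int.ofNat 0, Int.negSucc 1, Int.ofNat 2, Int.ofNat 0, Int.negSucc 1, Int.negSucc 1, Int.ofNat 0],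
  [Int.ofNat 0, Int.ofNat 0, Int.ofNat 2, Int.ofNat 0, Int.ofNat 2, Int.ofNat 0, Int.ofNat 0, Int.ofNat 0, Int.ofNat 0, Int.ofNat 0, Int.ofNat 0, Int.ofNat 2, Int.ofNat 0, Int.ofNat 2, Int.ofNat 0, Int.ofNat 0, Int.ofNat 0, Int.ofNat 0, Int.negSucc 1, Int.ofNat 2, Int.ofNat 0, Int.negSucc 1, Int.ofNat 0, Int.ofNat 2],
  [Int.ofNat 0, Int.negSucc 1, Int.ofNat 0, Int.ofNat 0, Int.ofNat 0, Int.ofNat 2, Int.ofNat 0, Int.ofNat 2, Int.ofNat 0, Int.ofNat 0, Int.ofNat 0, Int.ofNat 0, Int.ofNat 0, Int.ofNat 0, Int.ofNat 2, Int.ofNat 0, Int.ofNat 2, Int.ofNat 0, Int.ofNat 0, Int.ofNat 0, Int.ofNat 0, Int.negSucc 1, Int.ofNat 2, Int.ofNat 2],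
  [Int.ofNat 0, Int.ofNat 2, Int.ofNat 0, Int.negSucc 1, Int.negSucc 1, Int.ofNat 0, Int.ofNat 0, Int.ofNat 2, Int.ofNat 0, Int.ofNat 0, Int.ofNat 0, Int.ofNat 0, Int.ofNat 0, Int.negSucc 1, Int.ofNat 0, Int.ofNat 0, Int.ofNat 0, Int.negSucc 1, Int.ofNat 0, Int.ofNat 0, Int.ofNat 0, Int.negSucc 1, Int.ofNat 0, Int.negSucc 1],
  [Int.ofNat 2, Int.ofNat 0, Int.negSucc 1, Int.negSucc 1, Int.ofNat 0, Int.ofNat 0, Int.ofNat 2, Int.ofNat 0, Int.ofNat 0, Int.ofNat 0, Int.ofNat 0, Int.ofNat 0, Int.negSucc 1, Int.ofNat 0, Int.ofNat 0, Int.ofNat 0, Int.negSucc 1, Int.ofNat 0, Int.ofNat 0, Int.ofNat 0, Int.negSucc 1, Int.ofNat 0, Int.ofNat 0, Int.negSucc 1],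
  [Int.negSucc 1, Int.ofNat 0, Int.ofNat 2, Int.negSucc 1, Int.ofNat 0, Int.ofNat 0, Int.ofNat 2, Int.ofNat 0, Int.ofNat 0, Int.ofNat 0, Int.ofNat 0, Int.ofNat 0, Int.negSucc 1, Int.ofNat 0, Int.ofNat 0, Int.ofNat 0, Int.negSucc 1, Int.ofNat 0, Int.ofNat 0, Int.ofNat 0, Int.negSucc 1, Int.ofNat 0, Int.ofNat 0, Int.negSucc 1],
  [Int.negSucc 1, Int.ofNat 2, Int.ofNat 0, Int.negSucc 1, Int.ofNat 0, Int.ofNat 0, Int.ofNat 0, Int.negSucc 1, Int.ofNat 0, Int.negSucc 1, Int.ofNat 0, Int.ofNat 0, Int.ofNat 0, Int.ofNat 0, Int.ofNat 0, Int.ofNat 0, Int.negSucc 1, Int.ofNat 0, Int.ofNat 2, Int.ofNat 0, Int.ofNat 0, Int.ofNat 0, Int.ofNat 0, Int.negSucc 1],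
  [Int.ofNat 2, Int.ofNat 2, Int.ofNat 0, Int.negSucc 1, Int.ofNat 0, Int.ofNat 0, Int.ofNat 0, Int.ofNat 2, Int.ofNat 0, Int.ofNat 2, Int.ofNat 0, Int.ofNat 0, Int.ofNat 0, Int.ofNat 0, Int.ofNat 0, Int.ofNat 0, Int.negSucc 1, Int.ofNat 0, Int.negSucc 1, Int.ofNat 0, Int.ofNat 0, Int.ofNat 0, Int.ofNat 0, Int.negSucc 1],
  [Int.ofNat 0, Int.ofNat 2, Int.ofNat 2, Int.ofNat 0, Int.negSucc 1, Int.ofNat 0, Int.ofNat 0, Int.ofNat 0, Int.ofNat 2, Int.ofNat 0, Int.ofNat 2, Int.ofNat 0, Int.ofNat 0, Int.ofNat 0, Int.ofNat 0, Int.ofNat 0, Int.ofNat 0, Int.negSucc 1, Int.ofNat 0, Int.negSucc 1, Int.ofNat 0, Int.ofNat 0, Int.ofNat 0, Int.negSucc 1],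
  [Int.ofNat 1, Int.negSucc 0, Int.negSucc 0, Int.ofNat 1, Int.negSucc 0, Int.ofNat 1, Int.ofNat 1, Int.ofNat 1, Int.ofNat 1, Int.negSucc 0, Int.ofNat 1, Int.negSucc 0, Int.negSucc 0, Int.ofNat 1, Int.ofNat 1, Int.negSucc 0, Int.ofNat 1, Int.negSucc 0, Int.negSucc 0, Int.negSucc 0, Int.negSucc 0, Int.ofNat 1, Int.ofNat 1, Int.ofNat 3],
  [Int.ofNat 1, Int.negSucc 0, Int.ofNat 1, Int.ofNat 1, Int.ofNat 1, Int.ofNat 1, Int.negSucc 0, Int.ofNat 1, Int.negSucc 0, Int.negSucc 0, Int.ofNat 1, Int.ofNat 1, Int.negSucc 0, Int.ofNat 1, Int.negSucc 0, Int.negSucc 0, Int.negSucc 0, Int.negSucc 0, Int.ofNat 1, Int.ofNat 1, Int.ofNat 1, Int.negSucc 0, Int.negSucc 0, Int.ofNat 3],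
  [Int.ofNat 1, Int.ofNat 3, Int.ofNat 1, Int.ofNat 1, Int.ofNat 1, Int.ofNat 1, Int.negSucc 0, Int.ofNat 1, Int.negSucc 0, Int.negSucc 0, Int.ofNat 1, Int.ofNat 1, Int.negSucc 0, Int.ofNat 1, Int.negSucc 0, Int.negSucc 0, Int.negSucc 0, Int.negSucc 0, Int.ofNat 1, Int.ofNat 1, Int.ofNat 1, Int.negSucc 0, Int.negSucc 0, Int.negSucc 0],
  [Int.ofNat 1, Int.negSucc 0, Int.ofNat 1, Int.ofNat 1, Int.ofNat 1, Int.ofNat 1, Int.ofNat 1, Int.ofNat 1, Int.negSucc 0, Int.ofNat 1, Int.ofNat 1, Int.negSucc 0, Int.negSucc 0, Int.negSucc 0, Int.negSucc 0, Int.negSucc 0, Int.negSucc 0, Int.negSucc 0, Int.ofNat 3, Int.ofNat 1, Int.negSucc 0, Int.ofNat 1, Int.ofNat 1, Int.negSucc 0],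
  [Int.negSucc 0, Int.ofNat 1, Int.negSucc 0, Int.ofNat 1, Int.ofNat 1, Int.ofNat 1, Int.negSucc 0, Int.negSucc 0, Int.negSucc 0, Int.ofNat 1, Int.ofNat 1, Int.negSucc 0, Int.negSucc 0, Int.negSucc 0, Int.negSucc 0, Int.negSucc 0, Int.negSucc 0, Int.negSucc 0, Int.ofNat 3, Int.negSucc 0, Int.negSucc 0, Int.negSucc 0, Int.ofNat 1, Int.ofNat 1],
  [Int.negSucc 0, Int.ofNat 1, Int.ofNat 1, Int.ofNat 1, Int.ofNat 1, Int.negSucc 0, Int.ofNat 1, Int.negSucc 0, Int.negSucc 0, Int.negSucc 0, Int.negSucc 0, Int.negSucc 0, Int.negSucc 0, Int.negSucc 0, Int.negSucc 0, Int.ofNat 1, Int.negSucc 0, Int.negSucc 0, Int.negSucc 2, Int.negSucc 0, Int.negSucc 0, Int.negSucc 0, Int.negSucc 0, Int.ofNat 1],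
  [Int.negSucc 0, Int.negSucc 0, Int.negSucc 0, Int.negSucc 0, Int.negSucc 0, Int.ofNat 1, Int.negSucc 0, Int.ofNat 1, Int.negSucc 0, Int.negSucc 0, Int.negSucc 0, Int.negSucc 0, Int.ofNat 1, Int.ofNat 1, Int.negSucc 0, Int.negSucc 2, Int.negSucc 0, Int.negSucc 0, Int.negSucc 0, Int.ofNat 1, Int.negSucc 0, Int.ofNat 1, Int.negSucc 0, Int.ofNat 1],
  [Int.ofNat 1, Int.ofNat 1, Int.ofNat 1, Int.ofNat 1, Int.ofNat 1, Int.ofNat 1, Int.ofNat 1, Int.ofNat 1, Int.ofNat 1, Int.ofNat 1, Int.negSucc 0, Int.negSucc 0, Int.negSucc 0, Int.negSucc 0, Int.negSucc 0, Int.negSucc 2, Int.ofNat 1, Int.negSucc 0, Int.ofNat 1, Int.ofNat 1, Int.negSucc 0, Int.ofNat 1, Int.negSucc 0, Int.ofNat 1],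
  [Int.ofNat 1, Int.negSucc 0, Int.negSucc 0, Int.negSucc 2, Int.negSucc 0, Int.ofNat 1, Int.ofNat 1, Int.negSucc 0, Int.negSucc 0, Int.ofNat 1, Int.ofNat 1, Int.ofNat 1, Int.ofNat 1, Int.ofNat 1, Int.ofNat 1, Int.ofNat 1, Int.negSucc 0, Int.ofNat 1, Int.negSucc 0, Int.ofNat 1, Int.ofNat 1, Int.negSucc 0, Int.ofNat 1, Int.ofNat 1],
  [Int.negSucc 0, Int.negSucc 0, Int.ofNat 1, Int.negSucc 2, Int.negSucc 0, Int.ofNat 1, Int.ofNat 1, Int.ofNat 1, Int.negSucc 0, Int.negSucc 0, Int.negSucc 0, Int.negSucc 0, Int.ofNat 1, Int.ofNat 1, Int.ofNat 1, Int.ofNat 1, Int.negSucc 0, Int.ofNat 1, Int.ofNat 1, Int.ofNat 1, Int.ofNat 1, Int.ofNat 1, Int.ofNat 1, Int.ofNat 1],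
  [Int.ofNat 1, Int.negSucc 0, Int.negSucc 0, Int.ofNat 1, Int.negSucc 2, Int.negSucc 0, Int.ofNat 1, Int.ofNat 1, Int.ofNat 1, Int.negSucc 0, Int.negSucc 0, Int.negSucc 0, Int.negSucc 0, Int.ofNat 1, Int.ofNat 1, Int.ofNat 1, Int.ofNat 1, Int.negSucc 0, Int.ofNat 1, Int.ofNat 1, Int.ofNat 1, Int.ofNat 1, Int.ofNat 1, Int.ofNat 1],
  [Int.negSucc 0, Int.ofNat 1, Int.ofNat 1, Int.ofNat 1, Int.negSucc 2, Int.negSucc 0, Int.negSucc 0, Int.negSucc 0, Int.ofNat 1, Int.negSucc 0, Int.negSucc 0, Int.negSucc 0, Int.negSucc 0, Int.ofNat 1, Int.ofNat 1, Int.ofNat 1, Int.ofNat 1, Int.negSucc 0, Int.ofNat 1, Int.negSucc 0, Int.ofNat 1, Int.negSucc 0, Int.ofNat 1, Int.negSucc 0],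
  [Int.ofNat 1, Int.negSucc 2, Int.negSucc 0, Int.negSucc 0, Int.negSucc 0, Int.ofNat 1, Int.negSucc 0, Int.negSucc 0, Int.negSucc 0, Int.negSucc 0, Int.ofNat 1, Int.ofNat 1, Int.ofNat 1, Int.ofNat 1, Int.negSucc 0, Int.ofNat 1, Int.negSucc 0, Int.ofNat 1, Int.negSucc 0, Int.ofNat 1, Int.negSucc 0, Int.ofNat 1, Int.ofNat 1, Int.negSucc 0],
  [Int.negSucc 2, Int.ofNat 1, Int.negSucc 0, Int.negSucc 0, Int.negSucc 0, Int.ofNat 1, Int.negSucc 0, Int.negSucc 0, Int.negSucc 0, Int.negSucc 0, Int.ofNat 1, Int.ofNat 1, Int.ofNat 1, Int.ofNat 1, Int.negSucc 0, Int.ofNat 1, Int.negSucc 0, Int.ofNat 1, Int.negSucc 0, Int.ofNat 1, Int.negSucc 0, Int.ofNat 1, Int.ofNat 1, Int.negSucc 0],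
  [Int.negSucc 2, Int.negSucc 0, Int.negSucc 0, Int.negSucc 0, Int.negSucc 0, Int.negSucc 0, Int.negSucc 0, Int.ofNat 1, Int.ofNat 1, Int.ofNat 1, Int.negSucc 0, Int.ofNat 1, Int.negSucc 0, Int.negSucc 0, Int.ofNat 1, Int.ofNat 1, Int.negSucc 0, Int.negSucc 0, Int.ofNat 1, Int.ofNat 1, Int.ofNat 1, Int.ofNat 1, Int.ofNat 1, Int.negSucc 0],
  [Int.ofNat 0, Int.negSucc 1, Int.negSucc 1, Int.ofNat 0, Int.ofNat 0, Int.ofNat 0, Int.negSucc 1, Int.ofNat 0, Int.ofNat 0, Int.ofNat 0, Int.negSucc 1, Int.ofNat 0, Int.negSucc 1, Int.ofNat 0, Int.ofNat 2, Int.ofNat 0, Int.ofNat 0, Int.ofNat 0, Int.ofNat 0, Int.ofNat 0, Int.ofNat 0, Int.ofNat 0, Int.ofNat 2, Int.negSucc 1],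
  [Int.ofNat 0, Int.negSucc 1, Int.ofNat 2, Int.ofNat 0, Int.ofNat 0, Int.ofNat 0, Int.ofNat 2, Int.ofNat 0, Int.ofNat 0, Int.ofNat 0, Int.ofNat 2, Int.ofNat 0, Int.negSucc 1, Int.ofNat 0, Int.ofNat 2, Int.ofNat 0, Int.ofNat 0, Int.ofNat 0, Int.ofNat 0, Int.ofNat 0, Int.ofNat 0, Int.ofNat 0, Int.negSucc 1, Int.negSucc 1],
  [Int.ofNat 0, Int.ofNat 0, Int.ofNat 0, Int.ofNat 0, Int.ofNat 0, Int.ofNat 2, Int.ofNat 0, Int.negSucc 1, Int.ofNat 0, Int.ofNat 0, Int.ofNat 0, Int.ofNat 0, Int.ofNat 2, Int.negSucc 1, Int.ofNat 0, Int.ofNat 2, Int.ofNat 0, Int.ofNat 0, Int.ofNat 0, Int.ofNat 2, Int.ofNat 0, Int.negSucc 1, Int.ofNat 0, Int.negSucc 1],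
  [Int.ofNat 0, Int.ofNat 0, Int.ofNat 0, Int.ofNat 0, Int.ofNat 0, Int.negSucc 1, Int.ofNat 0, Int.negSucc 1, Int.ofNat 0, Int.ofNat 0, Int.ofNat 0, Int.ofNat 0, Int.ofNat 2, Int.negSucc 1, Int.ofNat 0, Int.negSucc 1, Int.ofNat 0, Int.ofNat 0, Int.ofNat 0, Int.ofNat 2, Int.ofNat 0, Int.negSucc 1, Int.ofNat 0, Int.negSucc 1],
  [Int.negSucc 0, Int.negSucc 0, Int.negSucc 0, Int.ofNat 1, Int.ofNat 1, Int.negSucc 0, Int.ofNat 1, Int.negSucc 0, Int.negSucc 0, Int.ofNat 1, Int.ofNat 1, Int.negSucc 0, Int.ofNat 1, Int.negSucc 0, Int.ofNat 1, Int.negSucc 0, Int.ofNat 1, Int.ofNat 1, Int.negSucc 0, Int.ofNat 3, Int.ofNat 1, Int.negSucc 0, Int.ofNat 1, Int.ofNat 1],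
  [Int.negSucc 0, Int.negSucc 0, Int.ofNat 1, Int.ofNat 1, Int.negSucc 0, Int.negSucc 0, Int.negSucc 0, Int.negSucc 0, Int.ofNat 1, Int.ofNat 1, Int.negSucc 0, Int.ofNat 3, Int.negSucc 0, Int.ofNat 1, Int.ofNat 1, Int.negSucc 0, Int.negSucc 0, Int.negSucc 0, Int.ofNat 1, Int.ofNat 1, Int.ofNat 1, Int.ofNat 1, Int.ofNat 1, Int.ofNat 1],
  [Int.ofNat 1, Int.ofNat 1, Int.negSucc 0, Int.ofNat 1, Int.negSucc 0, Int.negSucc 0, Int.negSucc 0, Int.negSucc 0, Int.negSucc 0, Int.ofNat 1, Int.negSucc 0, Int.ofNat 1, Int.negSucc 2, Int.ofNat 1, Int.ofNat 1, Int.negSucc 0, Int.negSucc 0, Int.negSucc 0, Int.negSucc 0, Int.ofNat 1, Int.ofNat 1, Int.ofNat 1, Int.ofNat 1, Int.negSucc 0],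
  [Int.ofNat 1, Int.ofNat 1, Int.ofNat 1, Int.ofNat 1, Int.ofNat 1, Int.negSucc 0, Int.ofNat 1, Int.negSucc 0, Int.negSucc 0, Int.negSucc 0, Int.negSucc 0, Int.negSucc 0, Int.ofNat 1, Int.negSucc 0, Int.ofNat 1, Int.negSucc 2, Int.ofNat 1, Int.ofNat 1, Int.negSucc 0, Int.negSucc 0, Int.negSucc 0, Int.negSucc 0, Int.ofNat 1, Int.negSucc 0],
  [Int.ofNat 0, Int.ofNat 0, Int.ofNat 0, Int.ofNat 0, Int.ofNat 0, Int.negSucc 1, Int.ofNat 2, Int.ofNat 0, Int.ofNat 0, Int.ofNat 2, Int.ofNat 2, Int.ofNat 0, Int.ofNat 2, Int.negSucc 1, Int.ofNat 0, Int.ofNat 0, Int.ofNat 0, Int.ofNat 0, Int.ofNat 0, Int.ofNat 0, Int.ofNat 2, Int.ofNat 0, Int.ofNat 0, Int.ofNat 2],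
  [Int.ofNat 0, Int.ofNat 0, Int.ofNat 0, Int.ofNat 0, Int.negSucc 1, Int.ofNat 2, Int.ofNat 0, Int.ofNat 0, Int.ofNat 2, Int.ofNat 2, Int.ofNat 0, Int.ofNat 2, Int.negSucc 1, Int.ofNat 0, Int.ofNat 0, Int.ofNat 0, Int.ofNat 0, Int.ofNat 0, Int.ofNat 0, Int.ofNat 2, Int.ofNat 0, Int.ofNat 0, Int.ofNat 0, Int.ofNat 2],
  [Int.ofNat 0, Int.ofNat 0, Int.ofNat 0, Int.ofNat 0, Int.negSucc 1, Int.ofNat 2, Int.ofNat 0, Int.ofNat 0, Int.ofNat 2, Int.negSucc 1, Int.ofNat 0, Int.negSucc 1, Int.negSucc 1, Int.ofNat 0, Int.ofNat 0, Int.ofNat 0, Int.ofNat 0, Int.ofNat 0, Int.ofNat 0, Int.ofNat 2, Int.ofNat 0, Int.ofNat 0, Int.ofNat 0, Int.ofNat 2],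
  [Int.ofNat 0, Int.ofNat 0, Int.ofNat 0, Int.ofNat 0, Int.ofNat 0, Int.ofNat 0, Int.negSucc 1, Int.ofNat 0, Int.negSucc 1, Int.ofNat 0, Int.ofNat 0, Int.ofNat 0, Int.ofNat 0, Int.ofNat 2, Int.ofNat 2, Int.ofNat 0, Int.negSucc 1, Int.ofNat 0, Int.ofNat 0, Int.ofNat 0, Int.ofNat 2, Int.ofNat 0, Int.negSucc 1, Int.ofNat 2],
  [Int.ofNat 0, Int.ofNat 0, Int.ofNat 0, Int.ofNat 0, Int.ofNat 0, Int.ofNat 0, Int.negSucc 1, Int.ofNat 0, Int.negSucc 1, Int.ofNat 0, Int.ofNat 0, Int.ofNat 0, Int.ofNat 0, Int.ofNat 2, Int.ofNat 2, Int.ofNat 0, Int.negSucc 1, Int.ofNat 0, Int.ofNat 0, Int.ofNat 0, Int.ofNat 2, Int.ofNat 0, Int.negSucc 1, Int.ofNat 2],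
  [Int.negSucc 1, Int.ofNat 0, Int.ofNat 0, Int.ofNat 0, Int.ofNat 0, Int.ofNat 0, Int.ofNat 0, Int.negSucc 1, Int.ofNat 0, Int.negSucc 1, Int.ofNat 0, Int.ofNat 0, Int.ofNat 0, Int.ofNat 0, Int.ofNat 2, Int.ofNat 2, Int.ofNat 0, Int.negSucc 1, Int.ofNat 0, Int.ofNat 0, Int.ofNat 0, Int.ofNat 2, Int.ofNat 0, Int.ofNat 2],
  [Int.ofNat 2, Int.ofNat 0, Int.ofNat 0, Int.ofNat 0, Int.ofNat 0, Int.ofNat 0, Int.ofNat 0, Int.negSucc 1, Int.ofNat 0, Int.negSucc 1, Int.ofNat 0, Int.ofNat 0, Int.ofNat 0, Int.ofNat 0, Int.ofNat 2, Int.ofNat 2, Int.ofNat 0, Int.negSucc 1, Int.ofNat 0, Int.ofNat 0, Int.ofNat 0, Int.ofNat 2, Int.ofNat 0, Int.negSucc 1],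
  [Int.ofNat 0, Int.ofNat 0, Int.ofNat 0, Int.ofNat 0, Int.negSucc 1, Int.ofNat 0, Int.negSucc 1, Int.ofNat 0, Int.ofNat 0, Int.ofNat 0, Int.ofNat 0, Int.ofNat 2, Int.ofNat 2, Int.ofNat 0, Int.negSucc 1, Int.ofNat 0, Int.ofNat 0, Int.ofNat 0, Int.ofNat 2, Int.ofNat 0, Int.ofNat 2, Int.ofNat 0, Int.ofNat 0, Int.negSucc 1],
  [Int.negSucc 0, Int.negSucc 0, Int.negSucc 0, Int.ofNat 1, Int.negSucc 0, Int.ofNat 1, Int.negSucc 0, Int.ofNat 1, Int.negSucc 2, Int.negSucc 0, Int.negSucc 0, Int.negSucc 0, Int.negSucc 0, Int.ofNat 1, Int.negSucc 0, Int.negSucc 0, Int.ofNat 1, Int.ofNat 1, Int.negSucc 0, Int.ofNat 1, Int.ofNat 1, Int.ofNat 1, Int.ofNat 1, Int.ofNat 1],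
  [Int.negSucc 0, Int.negSucc 0, Int.negSucc 0, Int.ofNat 1, Int.negSucc 0, Int.ofNat 1, Int.negSucc 0, Int.negSucc 0, Int.negSucc 0, Int.ofNat 1, Int.ofNat 1, Int.ofNat 1, Int.negSucc 0, Int.ofNat 1, Int.ofNat 1, Int.negSucc 0, Int.negSucc 2, Int.negSucc 0, Int.negSucc 0, Int.negSucc 0, Int.ofNat 1, Int.ofNat 1, Int.ofNat 1, Int.ofNat 1],
  [Int.ofNat 0, Int.ofNat 0, Int.ofNat 0, Int.ofNat 0, Int.ofNat 0, Int.ofNat 0, Int.ofNat 0, Int.ofNat 0, Int.ofNat 0, Int.ofNat 0, Int.ofNat 0, Int.ofNat 2, Int.ofNat 0, Int.ofNat 2, Int.ofNat 0, Int.negSucc 1, Int.negSucc 1, Int.negSucc 1, Int.ofNat 0, Int.ofNat 0, Int.ofNat 0, Int.ofNat 2, Int.ofNat 2, Int.negSucc 1],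
  [Int.ofNat 0, Int.ofNat 0, Int.ofNat 0, Int.ofNat 0, Int.ofNat 0, Int.ofNat 0, Int.ofNat 0, Int.ofNat 0, Int.ofNat 0, Int.ofNat 0, Int.ofNat 0, Int.ofNat 2, Int.ofNat 0, Int.ofNat 2, Int.ofNat 0, Int.ofNat 2, Int.negSucc 1, Int.negSucc 1, Int.ofNat 0, Int.ofNat 0, Int.ofNat 0, Int.ofNat 2, Int.negSucc 1, Int.negSucc 1],
  [Int.ofNat 0, Int.negSucc 1, Int.ofNat 2, Int.ofNat 0, Int.ofNat 0, Int.ofNat 0, Int.ofNat 2, Int.ofNat 0, Int.ofNat 0, Int.ofNat 0, Int.ofNat 2, Int.ofNat 0, Int.ofNat 2, Int.ofNat 0, Int.negSucc 1, Int.ofNat 0, Int.ofNat 0, Int.ofNat 0, Int.ofNat 0, Int.ofNat 0, Int.ofNat 0, Int.ofNat 0, Int.negSucc 1, Int.negSucc 1],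
  [Int.ofNat 0, Int.ofNat 2, Int.negSucc 1, Int.ofNat 0, Int.ofNat 0, Int.ofNat 0, Int.negSucc 1, Int.ofNat 0, Int.ofNat 0, Int.ofNat 0, Int.ofNat 2, Int.ofNat 0, Int.negSucc 1, Int.ofNat 0, Int.negSucc 1, Int.ofNat 0, Int.ofNat 0, Int.ofNat 0, Int.ofNat 0, Int.ofNat 0, Int.ofNat 0, Int.ofNat 0, Int.negSucc 1, Int.negSucc 1],
  [Int.negSucc 1, Int.negSucc 1, Int.ofNat 0, Int.ofNat 0, Int.ofNat 0, Int.ofNat 0, Int.ofNat 0, Int.ofNat 0, Int.ofNat 0, Int.ofNat 0, Int.ofNat 0, Int.negSucc 1, Int.ofNat 0, Int.ofNat 0, Int.ofNat 0, Int.ofNat 0, Int.ofNat 2, Int.ofNat 0, Int.negSucc 1, Int.negSucc 1, Int.ofNat 0, Int.negSucc 1, Int.ofNat 2, Int.ofNat 0],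
  [Int.ofNat 2, Int.negSucc 1, Int.ofNat 0, Int.ofNat 0, Int.ofNat 0, Int.ofNat 0, Int.ofNat 0, Int.ofNat 0, Int.ofNat 0, Int.ofNat 0, Int.ofNat 0, Int.ofNat 2, Int.ofNat 0, Int.ofNat 0, Int.ofNat 0, Int.ofNat 0, Int.ofNat 2, Int.ofNat 0, Int.ofNat 2, Int.negSucc 1, Int.ofNat 0, Int.ofNat 2, Int.ofNat 2, Int.ofNat 0],
  [Int.ofNat 2, Int.ofNat 2, Int.negSucc 1, Int.ofNat 0, Int.ofNat 0, Int.ofNat 0, Int.ofNat 0, Int.ofNat 0, Int.ofNat 0, Int.ofNat 0, Int.ofNat 0, Int.ofNat 0, Int.ofNat 2, Int.ofNat 0, Int.ofNat 0, Int.ofNat 0, Int.ofNat 0, Int.ofNat 2, Int.ofNat 0, Int.ofNat 2, Int.negSucc 1, Int.ofNat 0, Int.ofNat 2, Int.ofNat 0],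
  [Int.negSucc 0, Int.negSucc 0, Int.ofNat 3, Int.negSucc 0, Int.negSucc 0, Int.negSucc 0, Int.negSucc 0, Int.negSucc 0, Int.negSucc 0, Int.ofNat 1, Int.ofNat 1, Int.negSucc 0, Int.ofNat 1, Int.negSucc 0, Int.negSucc 0, Int.ofNat 1, Int.negSucc 0, Int.ofNat 1, Int.negSucc 0, Int.ofNat 1, Int.negSucc 0, Int.negSucc 0, Int.ofNat 1, Int.ofNat 1],
  [Int.negSucc 0, Int.negSucc 0, Int.negSucc 0, Int.negSucc 0, Int.negSucc 0, Int.negSucc 0, Int.ofNat 1, Int.ofNat 1, Int.negSucc 0, Int.ofNat 1, Int.negSucc 0, Int.negSucc 0, Int.ofNat 1, Int.negSucc 0, Int.ofNat 1, Int.negSucc 0, Int.ofNat 1, Int.negSucc 0, Int.negSucc 0, Int.ofNat 1, Int.negSucc 0, Int.negSucc 0, Int.ofNat 3, Int.ofNat 1],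
  [Int.ofNat 0, Int.ofNat 0, Int.ofNat 0, Int.ofNat 0, Int.negSucc 1, Int.ofNat 0, Int.ofNat 0, Int.ofNat 0, Int.ofNat 0, Int.ofNat 2, Int.ofNat 0, Int.ofNat 0, Int.ofNat 2, Int.negSucc 1, Int.ofNat 2, Int.ofNat 0, Int.ofNat 0, Int.ofNat 0, Int.ofNat 0, Int.ofNat 0, Int.ofNat 0, Int.negSucc 1, Int.ofNat 2, Int.negSucc 1],
  [Int.ofNat 0, Int.ofNat 0, Int.negSucc 1, Int.ofNat 0, Int.ofNat 0, Int.ofNat 0, Int.ofNat 0, Int.ofNat 0, Int.ofNat 2, Int.negSucc 1, Int.ofNat 0, Int.ofNat 0, Int.ofNat 2, Int.ofNat 0, Int.ofNat 2, Int.ofNat 0, Int.ofNat 0, Int.ofNat 2, Int.ofNat 0, Int.ofNat 0, Int.negSucc 1, Int.ofNat 0, Int.ofNat 0, Int.negSucc 1],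
  [Int.negSucc 1, Int.negSucc 1, Int.ofNat 0, Int.negSucc 1, Int.ofNat 0, Int.negSucc 1, Int.ofNat 0, Int.ofNat 0, Int.ofNat 0, Int.ofNat 0, Int.ofNat 2, Int.negSucc 1, Int.ofNat 0, Int.ofNat 0, Int.ofNat 0, Int.ofNat 2, Int.ofNat 0, Int.ofNat 0, Int.negSucc 1, Int.ofNat 0, Int.ofNat 0, Int.ofNat 0, Int.ofNat 0, Int.ofNat 0],
  [Int.negSucc 1, Int.negSucc 1, Int.ofNat 0, Int.negSucc 1, Int.ofNat 0, Int.ofNat 2, Int.ofNat 0, Int.ofNat 0, Int.ofNat 0, Int.ofNat 0, Int.negSucc 1, Int.negSucc 1, Int.ofNat 0, Int.ofNat 0, Int.ofNat 0, Int.negSucc 1, Int.ofNat 0, Int.ofNat 0, Int.ofNat 2, Int.ofNat 0, Int.ofNat 0, Int.ofNat 0, Int.ofNat 0, Int.ofNat 0],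
  [Int.ofNat 2, Int.ofNat 0, Int.negSucc 1, Int.ofNat 0, Int.ofNat 0, Int.ofNat 0, Int.ofNat 0, Int.ofNat 0, Int.ofNat 0, Int.ofNat 0, Int.ofNat 0, Int.ofNat 0, Int.ofNat 0, Int.negSucc 1, Int.ofNat 2, Int.negSucc 1, Int.negSucc 1, Int.negSucc 1, Int.ofNat 0, Int.ofNat 0, Int.negSucc 1, Int.ofNat 0, Int.ofNat 0, Int.ofNat 0],
  [Int.ofNat 2, Int.ofNat 0, Int.ofNat 2, Int.ofNat 0, Int.ofNat 0, Int.ofNat 0, Int.ofNat 0, Int.ofNat 0, Int.ofNat 0, Int.ofNat 0, Int.ofNat 0, Int.ofNat 0, Int.ofNat 0, Int.negSucc 1, Int.ofNat 2, Int.ofNat 2, Int.negSucc 1, Int.negSucc 1, Int.ofNat 0, Int.ofNat 0, Int.negSucc 1, Int.ofNat 0, Int.ofNat 0, Int.ofNat 0],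
  [Int.ofNat 0, Int.ofNat 2, Int.ofNat 0, Int.ofNat 0, Int.ofNat 2, Int.ofNat 0, Int.ofNat 0, Int.ofNat 0, Int.ofNat 0, Int.ofNat 0, Int.ofNat 0, Int.ofNat 0, Int.ofNat 0, Int.ofNat 0, Int.ofNat 2, Int.ofNat 2, Int.ofNat 0, Int.negSucc 1, Int.ofNat 0, Int.ofNat 0, Int.negSucc 1, Int.ofNat 0, Int.ofNat 2, Int.ofNat 2],
  [Int.ofNat 0, Int.ofNat 0, Int.ofNat 0, Int.ofNat 0, Int.ofNat 0, Int.ofNat 0, Int.ofNat 2, Int.ofNat 0, Int.ofNat 0, Int.ofNat 0, Int.ofNat 0, Int.ofNat 0, Int.ofNat 0, Int.ofNat 0, Int.negSucc 1, Int.ofNat 2, Int.ofNat 0, Int.ofNat 0, Int.ofNat 2, Int.ofNat 2, Int.ofNat 0, Int.negSucc 1, Int.ofNat 2, Int.ofNat 2],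
  [Int.ofNat 1, Int.ofNat 1, Int.ofNat 1, Int.ofNat 1, Int.negSucc 0, Int.ofNat 1, Int.ofNat 1, Int.negSucc 0, Int.negSucc 0, Int.negSucc 0, Int.negSucc 0, Int.negSucc 0, Int.negSucc 0, Int.negSucc 0, Int.negSucc 0, Int.ofNat 1, Int.negSucc 0, Int.ofNat 1, Int.ofNat 1, Int.ofNat 1, Int.negSucc 0, Int.negSucc 2, Int.ofNat 1, Int.negSucc 0],
  [Int.negSucc 0, Int.negSucc 2, Int.ofNat 1, Int.ofNat 1, Int.ofNat 1, Int.ofNat 1, Int.ofNat 1, Int.negSucc 0, Int.ofNat 1, Int.ofNat 1, Int.negSucc 0, Int.negSucc 0, Int.negSucc 0, Int.negSucc 0, Int.negSucc 0, Int.negSucc 0, Int.negSucc 0, Int.negSucc 0, Int.ofNat 1, Int.negSucc 0, Int.ofNat 1, Int.ofNat 1, Int.ofNat 1, Int.negSucc 0],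
  [Int.negSucc 0, Int.ofNat 1, Int.negSucc 2, Int.ofNat 1, Int.ofNat 1, Int.ofNat 1, Int.ofNat 1, Int.negSucc 0, Int.ofNat 1, Int.ofNat 1, Int.negSucc 0, Int.negSucc 0, Int.negSucc 0, Int.negSucc 0, Int.negSucc 0, Int.negSucc 0, Int.negSucc 0, Int.negSucc 0, Int.ofNat 1, Int.negSucc 0, Int.ofNat 1, Int.ofNat 1, Int.ofNat 1, Int.negSucc 0],
  [Int.ofNat 1, Int.negSucc 2, Int.ofNat 1, Int.ofNat 1, Int.ofNat 1, Int.ofNat 1, Int.negSucc 0, Int.ofNat 1, Int.ofNat 1, Int.negSucc 0, Int.negSucc 0, Int.negSucc 0, Int.negSucc 0, Int.negSucc 0, Int.negSucc 0, Int.negSucc 0, Int.negSucc 0, Int.ofNat 1, Int.negSucc 0, Int.ofNat 1, Int.ofNat 1, Int.ofNat 1, Int.negSucc 0, Int.negSucc 0],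
  [Int.negSucc 0, Int.negSucc 2, Int.negSucc 0, Int.ofNat 1, Int.ofNat 1, Int.ofNat 1, Int.negSucc 0, Int.negSucc 0, Int.ofNat 1, Int.ofNat 1, Int.ofNat 1, Int.ofNat 1, Int.negSucc 0, Int.negSucc 0, Int.negSucc 0, Int.negSucc 0, Int.negSucc 0, Int.ofNat 1, Int.ofNat 1, Int.ofNat 1, Int.ofNat 1, Int.negSucc 0, Int.negSucc 0, Int.negSucc 0],
  [Int.negSucc 0, Int.negSucc 0, Int.ofNat 1, Int.ofNat 1, Int.negSucc 2, Int.ofNat 1, Int.ofNat 1, Int.ofNat 1, Int.ofNat 1, Int.negSucc 0, Int.negSucc 0, Int.negSucc 0, Int.negSucc 0, Int.ofNat 1, Int.ofNat 1, Int.negSucc 0, Int.negSucc 0, Int.negSucc 0, Int.negSucc 0, Int.ofNat 1, Int.ofNat 1, Int.negSucc 0, Int.ofNat 1, Int.negSucc 0],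
  [Int.ofNat 1, Int.negSucc 0, Int.negSucc 0, Int.ofNat 1, Int.negSucc 2, Int.ofNat 1, Int.ofNat 1, Int.negSucc 0, Int.ofNat 1, Int.ofNat 1, Int.ofNat 1, Int.ofNat 1, Int.negSucc 0, Int.ofNat 1, Int.ofNat 1, Int.negSucc 0, Int.negSucc 0, Int.negSucc 0, Int.ofNat 1, Int.ofNat 1, Int.ofNat 1, Int.ofNat 1, Int.ofNat 1, Int.negSucc 0],
  [Int.ofNat 1, Int.ofNat 1, Int.negSucc 0, Int.negSucc 0, Int.ofNat 1, Int.negSucc 2, Int.ofNat 1, Int.ofNat 1, Int.negSucc 0, Int.ofNat 1, Int.ofNat 1, Int.ofNat 1, Int.ofNat 1, Int.negSucc 0, Int.ofNat 1, Int.ofNat 1, Int.negSucc 0, Int.negSucc 0, Int.negSucc 0, Int.ofNat 1, Int.ofNat 1, Int.ofNat 1, Int.ofNat 1, Int.negSucc 0],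
  [Int.negSucc 0, Int.negSucc 0, Int.ofNat 1, Int.ofNat 1, Int.ofNat 1, Int.negSucc 0, Int.negSucc 0, Int.negSucc 0, Int.negSucc 0, Int.negSucc 0, Int.negSucc 0, Int.ofNat 1, Int.ofNat 1, Int.negSucc 0, Int.ofNat 3, Int.negSucc 0, Int.negSucc 0, Int.ofNat 1, Int.negSucc 0, Int.negSucc 0, Int.negSucc 0, Int.negSucc 0, Int.ofNat 1, Int.ofNat 1],
  [Int.ofNat 1, Int.ofNat 1, Int.negSucc 0, Int.negSucc 0, Int.negSucc 0, Int.negSucc 0, Int.negSucc 0, Int.negSucc 0, Int.ofNat 1, Int.ofNat 1, Int.negSucc 0, Int.ofNat 3, Int.negSucc 0, Int.negSucc 0, Int.ofNat 1, Int.negSucc 0, Int.negSucc 0, Int.negSucc 0, Int.negSucc 0, Int.ofNat 1, Int.negSucc 0, Int.negSucc 0, Int.ofNat 1, Int.ofNat 1],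
  [Int.ofNat 0, Int.ofNat 0, Int.ofNat 2, Int.ofNat 0, Int.ofNat 0, Int.ofNat 0, Int.ofNat 0, Int.ofNat 0, Int.ofNat 0, Int.ofNat 2, Int.ofNat 0, Int.ofNat 2, Int.negSucc 1, Int.ofNat 0, Int.ofNat 2, Int.ofNat 0, Int.ofNat 0, Int.ofNat 0, Int.negSucc 1, Int.ofNat 2, Int.ofNat 0, Int.ofNat 0, Int.ofNat 2, Int.ofNat 0],
  [Int.ofNat 0, Int.ofNat 0, Int.ofNat 0, Int.ofNat 0, Int.negSucc 1, Int.ofNat 0, Int.ofNat 2, Int.ofNat 0, Int.negSucc 1, Int.ofNat 0, Int.ofNat 0, Int.ofNat 0, Int.ofNat 2, Int.ofNat 0, Int.ofNat 2, Int.ofNat 0, Int.ofNat 0, Int.ofNat 2, Int.ofNat 0, Int.ofNat 2, Int.ofNat 0, Int.ofNat 0, Int.ofNat 2, Int.ofNat 0],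
  [Int.ofNat 0, Int.ofNat 0, Int.ofNat 0, Int.negSucc 1, Int.negSucc 1, Int.negSucc 1, Int.ofNat 0, Int.negSucc 1, Int.negSucc 1, Int.ofNat 0, Int.ofNat 0, Int.ofNat 0, Int.ofNat 2, Int.ofNat 0, Int.ofNat 0, Int.ofNat 0, Int.ofNat 0, Int.ofNat 0, Int.ofNat 0, Int.ofNat 0, Int.ofNat 0, Int.negSucc 1, Int.ofNat 2, Int.ofNat 0],
  [Int.ofNat 0, Int.ofNat 0, Int.ofNat 0, Int.negSucc 1, Int.negSucc 1, Int.ofNat 2, Int.ofNat 0, Int.negSucc 1, Int.negSucc 1, Int.ofNat 0, Int.ofNat 0, Int.ofNat 0, Int.ofNat 2, Int.ofNat 0, Int.ofNat 0, Int.ofNat 0, Int.ofNat 0, Int.ofNat 0, Int.ofNat 0, Int.ofNat 0, Int.ofNat 0, Int.negSucc 1, Int.negSucc 1, Int.ofNat 0],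
  [Int.ofNat 0, Int.ofNat 0, Int.ofNat 0, Int.negSucc 1, Int.ofNat 0, Int.ofNat 0, Int.negSucc 1, Int.negSucc 1, Int.ofNat 2, Int.ofNat 0, Int.ofNat 0, Int.negSucc 1, Int.ofNat 0, Int.negSucc 1, Int.ofNat 0, Int.ofNat 0, Int.ofNat 0, Int.ofNat 2, Int.ofNat 0, Int.ofNat 0, Int.ofNat 0, Int.ofNat 0, Int.negSucc 1, Int.ofNat 0],
  [Int.ofNat 0, Int.ofNat 0, Int.ofNat 0, Int.ofNat 2, Int.ofNat 0, Int.ofNat 0, Int.ofNat 2, Int.negSucc 1, Int.negSucc 1, Int.ofNat 0, Int.ofNat 0, Int.negSucc 1, Int.ofNat 0, Int.ofNat 2, Int.ofNat 0, Int.ofNat 0, Int.ofNat 0, Int.ofNat 2, Int.ofNat 0, Int.ofNat 0, Int.ofNat 0, Int.ofNat 0, Int.negSucc 1, Int.ofNat 0],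
  [Int.ofNat 0, Int.negSucc 1, Int.negSucc 1, Int.ofNat 0, Int.ofNat 2, Int.ofNat 0, Int.ofNat 0, Int.ofNat 2, Int.ofNat 0, Int.ofNat 0, Int.ofNat 0, Int.ofNat 0, Int.ofNat 0, Int.negSucc 1, Int.ofNat 0, Int.ofNat 2, Int.ofNat 0, Int.ofNat 0, Int.ofNat 0, Int.ofNat 2, Int.negSucc 1, Int.ofNat 0, Int.ofNat 0, Int.ofNat 0],
  [Int.ofNat 0, Int.negSucc 1, Int.ofNat 2, Int.ofNat 0, Int.ofNat 2, Int.ofNat 0, Int.ofNat 0, Int.negSucc 1, Int.ofNat 0, Int.ofNat 0, Int.ofNat 0, Int.ofNat 0, Int.ofNat 0, Int.negSucc 1, Int.ofNat 0, Int.ofNat 2, Int.ofNat 0, Int.ofNat 0, Int.ofNat 0, Int.ofNat 2, Int.negSucc 1, Int.ofNat 0, Int.ofNat 0, Int.ofNat 0],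
  [Int.ofNat 0, Int.ofNat 0, Int.negSucc 1, Int.ofNat 2, Int.ofNat 0, Int.ofNat 2, Int.ofNat 0, Int.ofNat 0, Int.negSucc 1, Int.ofNat 0, Int.ofNat 0, Int.ofNat 0, Int.ofNat 0, Int.ofNat 0, Int.negSucc 1, Int.ofNat 0, Int.ofNat 2, Int.ofNat 0, Int.ofNat 0, Int.ofNat 0, Int.ofNat 2, Int.negSucc 1, Int.ofNat 0, Int.ofNat 0],
  [Int.negSucc 0, Int.negSucc 0, Int.ofNat 1, Int.ofNat 1, Int.negSucc 0, Int.ofNat 1, Int.ofNat 1, Int.ofNat 1, Int.negSucc 0, Int.negSucc 0, Int.negSucc 0, Int.ofNat 1, Int.ofNat 1, Int.negSucc 0, Int.negSucc 2, Int.negSucc 0, Int.ofNat 1, Int.negSucc 0, Int.ofNat 1, Int.ofNat 1, Int.ofNat 1, Int.negSucc 0, Int.negSucc 0, Int.negSucc 0],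
  [Int.ofNat 1, Int.negSucc 0, Int.ofNat 1, Int.ofNat 1, Int.ofNat 1, Int.negSucc 0, Int.negSucc 0, Int.negSucc 0, Int.ofNat 1, Int.ofNat 1, Int.negSucc 0, Int.negSucc 2, Int.negSucc 0, Int.ofNat 1, Int.negSucc 0, Int.ofNat 1, Int.ofNat 1, Int.ofNat 1, Int.negSucc 0, Int.negSucc 0, Int.negSucc 0, Int.negSucc 0, Int.ofNat 1, Int.negSucc 0],
  [Int.negSucc 0, Int.ofNat 1, Int.negSucc 0, Int.ofNat 1, Int.negSucc 0, Int.negSucc 0, Int.ofNat 1, Int.ofNat 1, Int.ofNat 3, Int.ofNat 1, Int.negSucc 0, Int.negSucc 0, Int.ofNat 1, Int.negSucc 0, Int.negSucc 0, Int.ofNat 1, Int.negSucc 0, Int.ofNat 1, Int.ofNat 1, Int.ofNat 1, Int.negSucc 0, Int.ofNat 1, Int.negSucc 0, Int.ofNat 1],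
  [Int.negSucc 0, Int.ofNat 1, Int.negSucc 0, Int.ofNat 1, Int.ofNat 1, Int.ofNat 1, Int.negSucc 0, Int.negSucc 0, Int.ofNat 1, Int.negSucc 0, Int.negSucc 0, Int.ofNat 1, Int.ofNat 1, Int.negSucc 0, Int.negSucc 0, Int.ofNat 1, Int.ofNat 3, Int.negSucc 0, Int.ofNat 1, Int.negSucc 0, Int.ofNat 1, Int.negSucc 0, Int.ofNat 1, Int.ofNat 1],
  [Int.ofNat 1, Int.negSucc 0, Int.ofNat 1, Int.ofNat 1, Int.negSucc 0, Int.ofNat 1, Int.ofNat 1, Int.ofNat 1, Int.negSucc 0, Int.negSucc 0, Int.negSucc 0, Int.negSucc 0, Int.negSucc 0, Int.negSucc 2, Int.negSucc 0, Int.ofNat 1, Int.ofNat 1, Int.negSucc 0, Int.negSucc 0, Int.ofNat 1, Int.ofNat 1, Int.ofNat 1, Int.negSucc 0, Int.negSucc 0],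
  [Int.ofNat 1, Int.negSucc 0, Int.negSucc 0, Int.ofNat 1, Int.negSucc 0, Int.negSucc 0, Int.negSucc 0, Int.ofNat 1, Int.negSucc 0, Int.ofNat 1, Int.ofNat 1, Int.negSucc 0, Int.negSucc 0, Int.negSucc 2, Int.negSucc 0, Int.negSucc 0, Int.ofNat 1, Int.negSucc 0, Int.ofNat 1, Int.ofNat 1, Int.ofNat 1, Int.ofNat 1, Int.ofNat 1, Int.negSucc 0],
  [Int.negSucc 0, Int.ofNat 1, Int.ofNat 1, Int.ofNat 1, Int.ofNat 1, Int.negSucc 0, Int.ofNat 1, Int.ofNat 1, Int.negSucc 0, Int.ofNat 1, Int.ofNat 1, Int.negSucc 0, Int.negSucc 0, Int.negSucc 0, Int.ofNat 1, Int.ofNat 1, Int.negSucc 0, Int.negSucc 0, Int.negSucc 0, Int.negSucc 0, Int.ofNat 1, Int.negSucc 0, Int.negSucc 2, Int.negSucc 0],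
  [Int.negSucc 0, Int.ofNat 1, Int.negSucc 0, Int.ofNat 1, Int.ofNat 1, Int.ofNat 1, Int.negSucc 0, Int.ofNat 1, Int.negSucc 0, Int.negSucc 0, Int.negSucc 0, Int.negSucc 0, Int.negSucc 0, Int.negSucc 0, Int.ofNat 1, Int.negSucc 0, Int.negSucc 0, Int.negSucc 0, Int.ofNat 1, Int.negSucc 0, Int.ofNat 1, Int.negSucc 0, Int.ofNat 3, Int.negSucc 0],
  [Int.ofNat 0, Int.negSucc 1, Int.ofNat 0, Int.ofNat 0, Int.ofNat 0, Int.ofNat 0, Int.ofNat 0, Int.ofNat 2, Int.ofNat 0, Int.ofNat 0, Int.ofNat 0, Int.ofNat 0, Int.ofNat 0, Int.negSucc 1, Int.ofNat 0, Int.ofNat 0, Int.negSucc 1, Int.negSucc 1, Int.ofNat 2, Int.ofNat 0, Int.ofNat 2, Int.ofNat 0, Int.ofNat 2, Int.ofNat 0],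
  [Int.ofNat 0, Int.ofNat 2, Int.ofNat 0, Int.ofNat 0, Int.ofNat 0, Int.ofNat 0, Int.negSucc 1, Int.ofNat 0, Int.negSucc 1, Int.ofNat 0, Int.ofNat 2, Int.ofNat 0, Int.ofNat 0, Int.ofNat 0, Int.negSucc 1, Int.ofNat 0, Int.negSucc 1, Int.ofNat 0, Int.ofNat 0, Int.ofNat 2, Int.ofNat 0, Int.ofNat 2, Int.ofNat 0, Int.ofNat 0],
  [Int.ofNat 1, Int.negSucc 0, Int.ofNat 1, Int.ofNat 1, Int.ofNat 1, Int.ofNat 1, Int.negSucc 2, Int.negSucc 0, Int.negSucc 0, Int.negSucc 0, Int.ofNat 1, Int.ofNat 1, Int.ofNat 1, Int.ofNat 1, Int.negSucc 0, Int.negSucc 0, Int.negSucc 0, Int.ofNat 1, Int.ofNat 1, Int.ofNat 1, Int.negSucc 0, Int.ofNat 1, Int.ofNat 1, Int.ofNat 1],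
  [Int.negSucc 0, Int.ofNat 1, Int.ofNat 1, Int.ofNat 1, Int.negSucc 0, Int.ofNat 1, Int.ofNat 1, Int.ofNat 1, Int.ofNat 1, Int.negSucc 2, Int.negSucc 0, Int.negSucc 0, Int.negSucc 0, Int.ofNat 1, Int.ofNat 1, Int.ofNat 1, Int.ofNat 1, Int.negSucc 0, Int.negSucc 0, Int.negSucc 0, Int.ofNat 1, Int.ofNat 1, Int.ofNat 1, Int.ofNat 1],
  [Int.ofNat 2, Int.ofNat 0, Int.ofNat 0, Int.ofNat 0, Int.negSucc 1, Int.ofNat 0, Int.ofNat 0, Int.ofNat 0, Int.ofNat 2, Int.negSucc 1, Int.ofNat 0, Int.ofNat 0, Int.ofNat 0, Int.ofNat 0, Int.ofNat 0, Int.ofNat 2, Int.ofNat 0, Int.negSucc 1, Int.ofNat 0, Int.negSucc 1, Int.ofNat 2, Int.ofNat 0, Int.ofNat 0, Int.ofNat 0],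
  [Int.ofNat 0, Int.ofNat 0, Int.ofNat 0, Int.negSucc 1, Int.ofNat 0, Int.ofNat 0, Int.ofNat 0, Int.ofNat 2, Int.negSucc 1, Int.ofNat 0, Int.ofNat 0, Int.ofNat 0, Int.ofNat 0, Int.ofNat 0, Int.ofNat 2, Int.ofNat 0, Int.negSucc 1, Int.ofNat 0, Int.negSucc 1, Int.ofNat 2, Int.ofNat 0, Int.ofNat 0, Int.ofNat 2, Int.ofNat 0],
  [Int.ofNat 0, Int.ofNat 0, Int.ofNat 0, Int.negSucc 1, Int.ofNat 0, Int.ofNat 0, Int.ofNat 0, Int.negSucc 1, Int.negSucc 1, Int.ofNat 0, Int.ofNat 0, Int.ofNat 0, Int.ofNat 0, Int.ofNat 0, Int.ofNat 2, Int.ofNat 0, Int.negSucc 1, Int.ofNat 0, Int.ofNat 2, Int.ofNat 2, Int.ofNat 0, Int.ofNat 0, Int.ofNat 2, Int.ofNat 0],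
  [Int.ofNat 0, Int.ofNat 0, Int.ofNat 2, Int.negSucc 1, Int.ofNat 0, Int.ofNat 0, Int.ofNat 0, Int.ofNat 0, Int.ofNat 0, Int.negSucc 1, Int.ofNat 0, Int.ofNat 2, Int.ofNat 0, Int.negSucc 1, Int.ofNat 2, Int.ofNat 0, Int.ofNat 0, Int.ofNat 2, Int.ofNat 0, Int.ofNat 0, Int.ofNat 0, Int.negSucc 1, Int.ofNat 0, Int.ofNat 0],
  [Int.ofNat 0, Int.ofNat 0, Int.negSucc 1, Int.negSucc 1, Int.ofNat 0, Int.ofNat 0, Int.ofNat 0, Int.ofNat 0, Int.ofNat 0, Int.ofNat 2, Int.ofNat 0, Int.negSucc 1, Int.ofNat 0, Int.negSucc 1, Int.ofNat 2, Int.ofNat 0, Int.ofNat 0, Int.ofNat 2, Int.ofNat 0, Int.ofNat 0, Int.ofNat 0, Int.ofNat 2, Int.ofNat 0, Int.ofNat 0],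
  [Int.ofNat 0, Int.ofNat 0, Int.ofNat 0, Int.negSucc 1, Int.negSucc 1, Int.ofNat 0, Int.ofNat 0, Int.ofNat 0, Int.ofNat 0, Int.ofNat 0, Int.ofNat 2, Int.ofNat 0, Int.negSucc 1, Int.ofNat 0, Int.negSucc 1, Int.ofNat 2, Int.ofNat 0, Int.ofNat 0, Int.ofNat 2, Int.ofNat 0, Int.ofNat 0, Int.ofNat 0, Int.ofNat 2, Int.ofNat 0],
  [Int.ofNat 0, Int.ofNat 0, Int.ofNat 0, Int.ofNat 0, Int.negSucc 1, Int.ofNat 2, Int.ofNat 0, Int.ofNat 0, Int.ofNat 0, Int.negSucc 1, Int.ofNat 0, Int.ofNat 0, Int.negSucc 1, Int.ofNat 0, Int.ofNat 0, Int.ofNat 0, Int.ofNat 0, Int.ofNat 2, Int.ofNat 2, Int.ofNat 0, Int.negSucc 1, Int.ofNat 0, Int.ofNat 2, Int.ofNat 0],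
  [Int.ofNat 0, Int.negSucc 1, Int.ofNat 2, Int.ofNat 0, Int.ofNat 0, Int.ofNat 0, Int.negSucc 1, Int.ofNat 0, Int.ofNat 0, Int.negSucc 1, Int.ofNat 0, Int.ofNat 0, Int.ofNat 0, Int.ofNat 0, Int.ofNat 2, Int.ofNat 2, Int.ofNat 0, Int.negSucc 1, Int.ofNat 0, Int.ofNat 2, Int.ofNat 0, Int.ofNat 0, Int.ofNat 0, Int.ofNat 0],
  [Int.ofNat 0, Int.ofNat 2, Int.negSucc 1, Int.ofNat 0, Int.ofNat 0, Int.ofNat 0, Int.negSucc 1, Int.ofNat 0, Int.ofNat 0, Int.negSucc 1, Int.ofNat 0, Int.ofNat 0, Int.ofNat 0, Int.ofNat 0, Int.ofNat 2, Int.ofNat 2, Int.ofNat 0, Int.negSucc 1, Int.ofNat 0, Int.ofNat 2, Int.ofNat 0, Int.ofNat 0, Int.ofNat 0, Int.ofNat 0],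
  [Int.ofNat 0, Int.negSucc 1, Int.ofNat 0, Int.ofNat 0, Int.ofNat 0, Int.ofNat 0, Int.negSucc 1, Int.ofNat 0, Int.ofNat 0, Int.ofNat 0, Int.ofNat 0, Int.negSucc 1, Int.negSucc 1, Int.ofNat 0, Int.ofNat 0, Int.ofNat 2, Int.ofNat 0, Int.ofNat 2, Int.ofNat 2, Int.ofNat 0, Int.ofNat 0, Int.ofNat 0, Int.ofNat 2, Int.ofNat 0],
  [Int.negSucc 0, Int.ofNat 1, Int.negSucc 0, Int.negSucc 0, Int.negSucc 0, Int.negSucc 0, Int.negSucc 0, Int.ofNat 1, Int.ofNat 1, Int.negSucc 0, Int.negSucc 0, Int.negSucc 0, Int.negSucc 0, Int.negSucc 0, Int.negSucc 0, Int.ofNat 1, Int.negSucc 0, Int.ofNat 1, Int.ofNat 3, Int.ofNat 1, Int.negSucc 0, Int.ofNat 1, Int.ofNat 1, Int.negSucc 0],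
  [Int.negSucc 0, Int.ofNat 1, Int.ofNat 1, Int.negSucc 0, Int.negSucc 0, Int.ofNat 1, Int.ofNat 1, Int.ofNat 1, Int.ofNat 1, Int.ofNat 1, Int.ofNat 1, Int.negSucc 0, Int.negSucc 0, Int.negSucc 0, Int.negSucc 0, Int.negSucc 0, Int.negSucc 0, Int.ofNat 1, Int.negSucc 2, Int.ofNat 1, Int.negSucc 0, Int.ofNat 1, Int.negSucc 0, Int.negSucc 0],
  [Int.ofNat 1, Int.negSucc 0, Int.negSucc 0, Int.ofNat 1, Int.negSucc 0, Int.ofNat 1, Int.ofNat 1, Int.negSucc 0, Int.ofNat 1, Int.negSucc 0, Int.negSucc 0, Int.ofNat 1, Int.negSucc 0, Int.negSucc 0, Int.ofNat 1, Int.negSucc 2, Int.ofNat 1, Int.negSucc 0, Int.ofNat 1, Int.ofNat 1, Int.negSucc 0, Int.ofNat 1, Int.negSucc 0, Int.negSucc 0],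
  [Int.negSucc 0, Int.ofNat 1, Int.ofNat 1, Int.negSucc 0, Int.ofNat 1, Int.ofNat 1, Int.negSucc 0, Int.negSucc 0, Int.negSucc 0, Int.ofNat 1, Int.negSucc 0, Int.ofNat 1, Int.ofNat 1, Int.ofNat 1, Int.ofNat 1, Int.negSucc 2, Int.negSucc 0, Int.negSucc 0, Int.negSucc 0, Int.ofNat 1, Int.negSucc 0, Int.ofNat 1, Int.negSucc 0, Int.negSucc 0],
  [Int.negSucc 0, Int.negSucc 0, Int.ofNat 1, Int.negSucc 2, Int.negSucc 0, Int.ofNat 1, Int.ofNat 1, Int.ofNat 1, Int.negSucc 0, Int.ofNat 1, Int.negSucc 0, Int.ofNat 1, Int.ofNat 1, Int.negSucc 0, Int.negSucc 0, Int.negSucc 0, Int.negSucc 0, Int.ofNat 1, Int.ofNat 1, Int.negSucc 0, Int.negSucc 0, Int.ofNat 1, Int.ofNat 1, Int.negSucc 0],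
  [Int.ofNat 1, Int.negSucc 0, Int.negSucc 0, Int.negSucc 2, Int.negSucc 0, Int.ofNat 1, Int.ofNat 1, Int.negSucc 0, Int.negSucc 0, Int.negSucc 0, Int.ofNat 1, Int.negSucc 0, Int.ofNat 1, Int.negSucc 0, Int.negSucc 0, Int.negSucc 0, Int.negSucc 0, Int.ofNat 1, Int.negSucc 0, Int.negSucc 0, Int.negSucc 0, Int.negSucc 0, Int.ofNat 1, Int.negSucc 0],
  [Int.ofNat 1, Int.ofNat 1, Int.negSucc 0, Int.negSucc 0, Int.negSucc 2, Int.negSucc 0, Int.ofNat 1, Int.ofNat 1, Int.negSucc 0, Int.negSucc 0, Int.negSucc 0, Int.ofNat 1, Int.negSucc 0, Int.ofNat 1, Int.negSucc 0, Int.negSucc 0, Int.negSucc 0, Int.negSucc 0, Int.ofNat 1, Int.negSucc 0, Int.negSucc 0, Int.negSucc 0, Int.negSucc 0, Int.negSucc 0],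
  [Int.negSucc 0, Int.negSucc 0, Int.ofNat 1, Int.ofNat 1, Int.negSucc 0, Int.ofNat 1, Int.ofNat 1, Int.ofNat 1, Int.negSucc 0, Int.ofNat 1, Int.ofNat 1, Int.ofNat 1, Int.negSucc 0, Int.ofNat 3, Int.ofNat 1, Int.ofNat 1, Int.ofNat 1, Int.ofNat 1, Int.ofNat 1, Int.negSucc 0, Int.ofNat 1, Int.negSucc 0, Int.ofNat 1, Int.ofNat 1],
  [Int.ofNat 1, Int.negSucc 0, Int.ofNat 1, Int.ofNat 1, Int.ofNat 1, Int.negSucc 0, Int.ofNat 1, Int.ofNat 1, Int.ofNat 1, Int.negSucc 0, Int.ofNat 3, Int.ofNat 1, Int.ofNat 1, Int.ofNat 1, Int.ofNat 1, Int.ofNat 1, Int.negSucc 0, Int.ofNat 1, Int.negSucc 0, Int.ofNat 1, Int.negSucc 0, Int.negSucc 0, Int.ofNat 1, Int.ofNat 1],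
  [Int.ofNat 0, Int.ofNat 2, Int.ofNat 0, Int.ofNat 0, Int.ofNat 0, Int.negSucc 1, Int.ofNat 0, Int.ofNat 0, Int.ofNat 0, Int.negSucc 1, Int.ofNat 2, Int.ofNat 0, Int.ofNat 0, Int.ofNat 0, Int.ofNat 0, Int.ofNat 0, Int.negSucc 1, Int.ofNat 0, Int.negSucc 1, Int.ofNat 0, Int.negSucc 1, Int.negSucc 1, Int.ofNat 0, Int.ofNat 0],
  [Int.ofNat 0, Int.ofNat 0, Int.ofNat 0, Int.ofNat 0, Int.negSucc 1, Int.ofNat 0, Int.ofNat 0, Int.ofNat 2, Int.ofNat 0, Int.ofNat 0, Int.negSucc 1, Int.ofNat 0, Int.negSucc 1, Int.negSucc 1, Int.ofNat 0, Int.ofNat 0, Int.ofNat 0, Int.ofNat 0, Int.ofNat 2, Int.ofNat 0, Int.negSucc 1, Int.negSucc 1, Int.ofNat 0, Int.ofNat 0],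
  [Int.ofNat 0, Int.ofNat 0, Int.ofNat 0, Int.ofNat 0, Int.ofNat 0, Int.ofNat 0, Int.ofNat 0, Int.ofNat 2, Int.ofNat 0, Int.ofNat 2, Int.ofNat 0, Int.ofNat 0, Int.negSucc 1, Int.ofNat 0, Int.ofNat 0, Int.ofNat 2, Int.ofNat 2, Int.ofNat 0, Int.ofNat 2, Int.ofNat 0, Int.ofNat 0, Int.negSucc 1, Int.ofNat 2, Int.ofNat 0],
  [Int.ofNat 0, Int.ofNat 0, Int.ofNat 0, Int.ofNat 0, Int.ofNat 0, Int.ofNat 0, Int.ofNat 0, Int.ofNat 2, Int.ofNat 0, Int.negSucc 1, Int.ofNat 0, Int.ofNat 0, Int.negSucc 1, Int.ofNat 0, Int.ofNat 0, Int.negSucc 1, Int.ofNat 2, Int.ofNat 0, Int.negSucc 1, Int.ofNat 0, Int.ofNat 0, Int.negSucc 1, Int.negSucc 1, Int.ofNat 0],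
  [Int.ofNat 0, Int.ofNat 0, Int.ofNat 0, Int.negSucc 1, Int.ofNat 2, Int.ofNat 0, Int.ofNat 0, Int.negSucc 1, Int.ofNat 0, Int.negSucc 1, Int.ofNat 2, Int.ofNat 0, Int.ofNat 0, Int.ofNat 0, Int.negSucc 1, Int.ofNat 0, Int.negSucc 1, Int.ofNat 0, Int.ofNat 0, Int.ofNat 0, Int.ofNat 0, Int.negSucc 1, Int.ofNat 0, Int.ofNat 0],
  [Int.ofNat 0, Int.ofNat 0, Int.ofNat 0, Int.negSucc 1, Int.ofNat 2, Int.ofNat 0, Int.ofNat 0, Int.negSucc 1, Int.ofNat 0, Int.ofNat 2, Int.negSucc 1, Int.ofNat 0, Int.ofNat 0, Int.ofNat 0, Int.negSucc 1, Int.ofNat 0, Int.negSucc 1, Int.ofNat 0, Int.ofNat 0, Int.ofNat 0, Int.ofNat 0, Int.negSucc 1, Int.ofNat 0, Int.ofNat 0],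
  [Int.ofNat 0, Int.ofNat 0, Int.ofNat 0, Int.ofNat 0, Int.ofNat 2, Int.ofNat 2, Int.ofNat 2, Int.ofNat 0, Int.ofNat 0, Int.ofNat 2, Int.negSucc 1, Int.ofNat 0, Int.ofNat 0, Int.ofNat 0, Int.ofNat 0, Int.ofNat 0, Int.negSucc 1, Int.ofNat 2, Int.ofNat 0, Int.ofNat 2, Int.ofNat 0, Int.ofNat 0, Int.ofNat 0, Int.ofNat 0],
  [Int.ofNat 0, Int.ofNat 0, Int.ofNat 2, Int.ofNat 0, Int.ofNat 0, Int.ofNat 0, Int.ofNat 0, Int.ofNat 2, Int.negSucc 1, Int.ofNat 0, Int.ofNat 0, Int.ofNat 2, Int.ofNat 0, Int.ofNat 2, Int.ofNat 2, Int.ofNat 0, Int.ofNat 0, Int.ofNat 0, Int.ofNat 2, Int.ofNat 0, Int.negSucc 1, Int.ofNat 0, Int.ofNat 0, Int.ofNat 0],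
  [Int.ofNat 1, Int.ofNat 1, Int.negSucc 0, Int.negSucc 0, Int.negSucc 0, Int.negSucc 0, Int.negSucc 0, Int.ofNat 1, Int.negSucc 2, Int.ofNat 1, Int.ofNat 1, Int.ofNat 1, Int.negSucc 0, Int.ofNat 1, Int.ofNat 1, Int.ofNat 1, Int.negSucc 0, Int.negSucc 0, Int.ofNat 1, Int.negSucc 0, Int.negSucc 0, Int.negSucc 0, Int.negSucc 0, Int.ofNat 1],
  [Int.negSucc 0, Int.negSucc 0, Int.negSucc 0, Int.ofNat 1, Int.ofNat 1, Int.negSucc 0, Int.negSucc 0, Int.negSucc 0, Int.negSucc 0, Int.negSucc 0, Int.ofNat 1, Int.negSucc 2, Int.ofNat 1, Int.ofNat 1, Int.ofNat 1, Int.negSucc 0, Int.ofNat 1, Int.ofNat 1, Int.ofNat 1, Int.negSucc 0, Int.negSucc 0, Int.ofNat 1, Int.negSucc 0, Int.ofNat 1],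
  [Int.ofNat 0, Int.ofNat 0, Int.ofNat 0, Int.ofNat 0, Int.ofNat 0, Int.negSucc 1, Int.ofNat 0, Int.ofNat 0, Int.ofNat 0, Int.ofNat 0, Int.ofNat 2, Int.negSucc 1, Int.ofNat 2, Int.ofNat 0, Int.ofNat 0, Int.ofNat 0, Int.ofNat 0, Int.ofNat 0, Int.ofNat 2, Int.ofNat 0, Int.ofNat 0, Int.ofNat 2, Int.negSucc 1, Int.negSucc 1],
  [Int.ofNat 0, Int.ofNat 0, Int.ofNat 0, Int.ofNat 0, Int.negSucc 1, Int.ofNat 0, Int.ofNat 0, Int.ofNat 0, Int.ofNat 0, Int.ofNat 2, Int.negSucc 1, Int.ofNat 2, Int.ofNat 0, Int.ofNat 0, Int.ofNat 0, Int.ofNat 0, Int.ofNat 0, Int.ofNat 2, Int.ofNat 0, Int.ofNat 0, Int.ofNat 2, Int.negSucc 1, Int.ofNat 0, Int.negSucc 1],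
  [Int.ofNat 0, Int.ofNat 0, Int.ofNat 0, Int.ofNat 0, Int.negSucc 1, Int.ofNat 0, Int.ofNat 0, Int.ofNat 0, Int.ofNat 0, Int.negSucc 1, Int.ofNat 2, Int.negSucc 1, Int.ofNat 0, Int.ofNat 0, Int.ofNat 0, Int.ofNat 0, Int.ofNat 0, Int.ofNat 2, Int.ofNat 0, Int.ofNat 0, Int.ofNat 2, Int.ofNat 2, Int.ofNat 0, Int.negSucc 1],
  [Int.ofNat 0, Int.ofNat 0, Int.ofNat 0, Int.ofNat 0, Int.ofNat 0, Int.ofNat 2, Int.negSucc 1, Int.ofNat 2, Int.negSucc 1, Int.ofNat 0, Int.ofNat 2, Int.ofNat 0, Int.ofNat 0, Int.ofNat 0, Int.ofNat 0, Int.ofNat 0, Int.ofNat 0, Int.ofNat 0, Int.ofNat 0, Int.ofNat 2, Int.ofNat 0, Int.ofNat 0, Int.negSucc 1, Int.negSucc 1],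
  [Int.ofNat 0, Int.ofNat 0, Int.ofNat 0, Int.ofNat 0, Int.ofNat 0, Int.ofNat 2, Int.negSucc 1, Int.negSucc 1, Int.negSucc 1, Int.ofNat 0, Int.negSucc 1, Int.ofNat 0, Int.ofNat 0, Int.ofNat 0, Int.ofNat 0, Int.ofNat 0, Int.ofNat 0, Int.ofNat 0, Int.ofNat 0, Int.ofNat 2, Int.ofNat 0, Int.ofNat 0, Int.negSucc 1, Int.negSucc 1],
  [Int.negSucc 1, Int.ofNat 0, Int.ofNat 0, Int.ofNat 0, Int.ofNat 0, Int.ofNat 0, Int.ofNat 2, Int.negSucc 1, Int.negSucc 1, Int.negSucc 1, Int.ofNat 0, Int.negSucc 1, Int.ofNat 0, Int.ofNat 0, Int.ofNat 0, Int.ofNat 0, Int.ofNat 0, Int.ofNat 0, Int.ofNat 0, Int.ofNat 0, Int.ofNat 2, Int.ofNat 0, Int.ofNat 0, Int.negSucc 1],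
  [Int.ofNat 0, Int.negSucc 1, Int.negSucc 1, Int.ofNat 0, Int.ofNat 0, Int.ofNat 0, Int.ofNat 2, Int.negSucc 1, Int.ofNat 0, Int.negSucc 1, Int.ofNat 0, Int.ofNat 0, Int.ofNat 2, Int.ofNat 0, Int.ofNat 0, Int.ofNat 0, Int.ofNat 0, Int.ofNat 0, Int.ofNat 2, Int.ofNat 0, Int.ofNat 2, Int.ofNat 0, Int.ofNat 0, Int.ofNat 0],
  [Int.ofNat 0, Int.ofNat 0, Int.ofNat 0, Int.ofNat 2, Int.negSucc 1, Int.ofNat 0, Int.negSucc 1, Int.ofNat 0, Int.ofNat 0, Int.ofNat 2, Int.ofNat 0, Int.ofNat 0, Int.ofNat 0, Int.ofNat 0, Int.ofNat 0, Int.ofNat 2, Int.ofNat 0, Int.ofNat 2, Int.ofNat 0, Int.ofNat 0, Int.ofNat 0, Int.negSucc 1, Int.negSucc 1, Int.ofNat 0],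
  [Int.ofNat 0, Int.ofNat 0, Int.ofNat 0, Int.ofNat 0, Int.ofNat 0, Int.negSucc 1, Int.ofNat 0, Int.ofNat 2, Int.ofNat 0, Int.ofNat 0, Int.negSucc 1, Int.ofNat 0, Int.ofNat 0, Int.ofNat 2, Int.negSucc 1, Int.ofNat 0, Int.ofNat 2, Int.ofNat 0, Int.ofNat 0, Int.ofNat 2, Int.negSucc 1, Int.ofNat 0, Int.ofNat 0, Int.ofNat 0],
  [Int.ofNat 0, Int.ofNat 0, Int.ofNat 0, Int.ofNat 0, Int.ofNat 0, Int.ofNat 2, Int.ofNat 0, Int.negSucc 1, Int.ofNat 0, Int.ofNat 2, Int.negSucc 1, Int.ofNat 0, Int.ofNat 0, Int.ofNat 2, Int.ofNat 0, Int.ofNat 0, Int.ofNat 0, Int.negSucc 1, Int.ofNat 0, Int.ofNat 0, Int.ofNat 0, Int.negSucc 1, Int.ofNat 2, Int.ofNat 0],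
  [Int.ofNat 0, Int.ofNat 0, Int.ofNat 0, Int.ofNat 0, Int.negSucc 1, Int.ofNat 2, Int.ofNat 2, Int.ofNat 0, Int.ofNat 0, Int.ofNat 2, Int.negSucc 1, Int.ofNat 0, Int.ofNat 0, Int.ofNat 0, Int.ofNat 0, Int.ofNat 0, Int.negSucc 1, Int.negSucc 1, Int.ofNat 0, Int.ofNat 2, Int.ofNat 0, Int.ofNat 0, Int.ofNat 0, Int.ofNat 0],
  [Int.ofNat 0, Int.ofNat 0, Int.ofNat 0, Int.ofNat 0, Int.negSucc 1, Int.negSucc 1, Int.negSucc 1, Int.ofNat 0, Int.ofNat 0, Int.negSucc 1, Int.ofNat 2, Int.ofNat 0, Int.ofNat 0, Int.ofNat 0, Int.ofNat 0, Int.ofNat 0, Int.negSucc 1, Int.negSucc 1, Int.ofNat 0, Int.ofNat 2, Int.ofNat 0, Int.ofNat 0, Int.ofNat 0, Int.ofNat 0],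
  [Int.ofNat 2, Int.negSucc 1, Int.ofNat 0, Int.ofNat 0, Int.ofNat 0, Int.negSucc 1, Int.ofNat 0, Int.ofNat 0, Int.negSucc 1, Int.ofNat 0, Int.ofNat 0, Int.ofNat 0, Int.ofNat 0, Int.negSucc 1, Int.negSucc 1, Int.ofNat 0, Int.ofNat 2, Int.ofNat 0, Int.negSucc 1, Int.ofNat 0, Int.ofNat 0, Int.ofNat 0, Int.ofNat 0, Int.ofNat 0],
  [Int.negSucc 1, Int.ofNat 2, Int.ofNat 0, Int.ofNat 0, Int.ofNat 0, Int.negSucc 1, Int.ofNat 0, Int.ofNat 0, Int.ofNat 2, Int.ofNat 0, Int.ofNat 0, Int.ofNat 0, Int.ofNat 0, Int.ofNat 2, Int.negSucc 1, Int.ofNat 0, Int.negSucc 1, Int.ofNat 0, Int.ofNat 2, Int.ofNat 0, Int.ofNat 0, Int.ofNat 0, Int.ofNat 0, Int.ofNat 0],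
  [Int.ofNat 0, Int.ofNat 0, Int.ofNat 0, Int.ofNat 0, Int.ofNat 0, Int.ofNat 0, Int.ofNat 0, Int.ofNat 2, Int.ofNat 0, Int.negSucc 1, Int.negSucc 1, Int.ofNat 0, Int.ofNat 0, Int.ofNat 0, Int.ofNat 2, Int.ofNat 0, Int.ofNat 0, Int.ofNat 0, Int.negSucc 1, Int.ofNat 0, Int.ofNat 2, Int.ofNat 0, Int.ofNat 2, Int.negSucc 1],
  [Int.ofNat 0, Int.ofNat 0, Int.ofNat 0, Int.ofNat 0, Int.ofNat 0, Int.ofNat 0, Int.ofNat 0, Int.negSucc 1, Int.ofNat 0, Int.ofNat 2, Int.ofNat 2, Int.ofNat 0, Int.ofNat 0, Int.ofNat 0, Int.ofNat 2, Int.ofNat 0, Int.ofNat 0, Int.ofNat 0, Int.ofNat 2, Int.ofNat 0, Int.ofNat 2, Int.ofNat 0, Int.ofNat 2, Int.negSucc 1],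
  [Int.ofNat 2, Int.ofNat 0, Int.ofNat 0, Int.ofNat 0, Int.ofNat 0, Int.ofNat 0, Int.ofNat 0, Int.ofNat 0, Int.negSucc 1, Int.ofNat 0, Int.ofNat 2, Int.ofNat 2, Int.ofNat 0, Int.ofNat 0, Int.ofNat 0, Int.ofNat 2, Int.ofNat 0, Int.ofNat 0, Int.ofNat 0, Int.ofNat 2, Int.ofNat 0, Int.ofNat 2, Int.ofNat 0, Int.negSucc 1],
  [Int.negSucc 1, Int.ofNat 0, Int.ofNat 0, Int.ofNat 0, Int.ofNat 0, Int.ofNat 0, Int.negSucc 1, Int.negSucc 1, Int.negSucc 1, Int.negSucc 1, Int.ofNat 0, Int.ofNat 2, Int.ofNat 0, Int.ofNat 0, Int.ofNat 0, Int.ofNat 0, Int.ofNat 0, Int.ofNat 0, Int.ofNat 0, Int.ofNat 0, Int.negSucc 1, Int.ofNat 0, Int.ofNat 0, Int.ofNat 2],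
  [Int.ofNat 0, Int.ofNat 0, Int.ofNat 0, Int.negSucc 1, Int.negSucc 1, Int.negSucc 1, Int.negSucc 1, Int.ofNat 0, Int.ofNat 2, Int.ofNat 0, Int.ofNat 0, Int.ofNat 0, Int.ofNat 0, Int.ofNat 0, Int.ofNat 0, Int.ofNat 0, Int.ofNat 0, Int.negSucc 1, Int.ofNat 0, Int.ofNat 0, Int.negSucc 1, Int.ofNat 0, Int.ofNat 0, Int.ofNat 2],
  [Int.ofNat 1, Int.ofNat 1, Int.ofNat 1, Int.ofNat 1, Int.negSucc 0, Int.ofNat 1, Int.negSucc 0, Int.ofNat 1, Int.ofNat 1, Int.ofNat 1, Int.ofNat 1, Int.negSucc 0, Int.negSucc 0, Int.ofNat 1, Int.ofNat 3, Int.ofNat 1, Int.ofNat 1, Int.ofNat 1, Int.negSucc 0, Int.ofNat 1, Int.negSucc 0, Int.ofNat 1, Int.ofNat 1, Int.negSucc 0],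
  [Int.ofNat 1, Int.negSucc 0, Int.negSucc 0, Int.ofNat 1, Int.negSucc 0, Int.ofNat 1, Int.ofNat 1, Int.ofNat 1, Int.negSucc 0, Int.ofNat 1, Int.negSucc 0, Int.ofNat 1, Int.ofNat 1, Int.ofNat 1, Int.ofNat 1, Int.ofNat 1, Int.ofNat 1, Int.ofNat 3, Int.ofNat 1, Int.negSucc 0, Int.ofNat 1, Int.ofNat 1, Int.ofNat 1, Int.negSucc 0],
  [Int.negSucc 1, Int.ofNat 0, Int.ofNat 0, Int.negSucc 1, Int.negSucc 1, Int.negSucc 1, Int.ofNat 0, Int.ofNat 0, Int.negSucc 1, Int.ofNat 0, Int.negSucc 1, Int.ofNat 0, Int.ofNat 0, Int.ofNat 0, Int.negSucc 1, Int.ofNat 0, Int.ofNat 0, Int.ofNat 0, Int.ofNat 0, Int.negSucc 1, Int.ofNat 0, Int.ofNat 0, Int.ofNat 0, Int.ofNat 0],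
  [Int.negSucc 1, Int.ofNat 0, Int.ofNat 0, Int.negSucc 1, Int.negSucc 1, Int.ofNat 2, Int.ofNat 0, Int.ofNat 0, Int.negSucc 1, Int.ofNat 0, Int.ofNat 2, Int.ofNat 0, Int.ofNat 0, Int.ofNat 0, Int.negSucc 1, Int.ofNat 0, Int.ofNat 0, Int.ofNat 0, Int.ofNat 0, Int.negSucc 1, Int.ofNat 0, Int.ofNat 0, Int.ofNat 0, Int.ofNat 0],
  [Int.ofNat 2, Int.ofNat 0, Int.negSucc 1, Int.ofNat 0, Int.ofNat 0, Int.ofNat 0, Int.negSucc 1, Int.ofNat 0, Int.ofNat 0, Int.ofNat 0, Int.ofNat 0, Int.negSucc 1, Int.ofNat 0, Int.ofNat 0, Int.ofNat 0, Int.ofNat 2, Int.ofNat 0, Int.ofNat 0, Int.negSucc 1, Int.negSucc 1, Int.negSucc 1, Int.ofNat 0, Int.ofNat 0, Int.ofNat 0],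
  [Int.ofNat 2, Int.ofNat 0, Int.ofNat 2, Int.ofNat 0, Int.ofNat 0, Int.ofNat 0, Int.ofNat 2, Int.ofNat 0, Int.ofNat 0, Int.ofNat 0, Int.ofNat 0, Int.negSucc 1, Int.ofNat 0, Int.ofNat 0, Int.ofNat 0, Int.negSucc 1, Int.ofNat 0, Int.ofNat 0, Int.ofNat 2, Int.negSucc 1, Int.negSucc 1, Int.ofNat 0, Int.ofNat 0, Int.ofNat 0],
  [Int.ofNat 0, Int.ofNat 2, Int.ofNat 0, Int.ofNat 0, Int.ofNat 0, Int.ofNat 0, Int.ofNat 2, Int.ofNat 0, Int.ofNat 0, Int.ofNat 2, Int.ofNat 2, Int.negSucc 1, Int.ofNat 0, Int.ofNat 0, Int.ofNat 0, Int.ofNat 0, Int.ofNat 0, Int.ofNat 0, Int.ofNat 2, Int.negSucc 1, Int.ofNat 0, Int.ofNat 0, Int.ofNat 0, Int.ofNat 2],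
  [Int.ofNat 0, Int.ofNat 2, Int.ofNat 2, Int.ofNat 0, Int.ofNat 0, Int.ofNat 0, Int.ofNat 2, Int.ofNat 0, Int.ofNat 0, Int.ofNat 0, Int.ofNat 0, Int.negSucc 1, Int.ofNat 0, Int.ofNat 2, Int.ofNat 0, Int.ofNat 0, Int.ofNat 0, Int.negSucc 1, Int.ofNat 0, Int.ofNat 0, Int.ofNat 2, Int.ofNat 0, Int.ofNat 0, Int.ofNat 2],
  [Int.ofNat 3, Int.ofNat 1, Int.ofNat 1, Int.ofNat 1, Int.negSucc 0, Int.ofNat 1, Int.ofNat 1, Int.negSucc 0, Int.ofNat 1, Int.negSucc 0, Int.negSucc 0, Int.negSucc 0, Int.ofNat 1, Int.ofNat 1, Int.ofNat 1, Int.negSucc 0, Int.negSucc 0, Int.negSucc 0, Int.ofNat 1, Int.negSucc 0, Int.ofNat 1, Int.negSucc 0, Int.negSucc 0, Int.ofNat 1],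
  [Int.ofNat 1, Int.negSucc 0, Int.negSucc 0, Int.ofNat 3, Int.ofNat 1, Int.ofNat 1, Int.ofNat 1, Int.negSucc 0, Int.ofNat 1, Int.ofNat 1, Int.negSucc 0, Int.ofNat 1, Int.negSucc 0, Int.negSucc 0, Int.negSucc 0, Int.ofNat 1, Int.ofNat 1, Int.ofNat 1, Int.negSucc 0, Int.negSucc 0, Int.negSucc 0, Int.ofNat 1, Int.negSucc 0, Int.ofNat 1],
  [Int.negSucc 0, Int.ofNat 1, Int.ofNat 1, Int.ofNat 1, Int.ofNat 1, Int.negSucc 0, Int.ofNat 1, Int.negSucc 0, Int.ofNat 1, Int.ofNat 1, Int.negSucc 0, Int.ofNat 1, Int.negSucc 0, Int.negSucc 0, Int.negSucc 2, Int.ofNat 1, Int.ofNat 1, Int.negSucc 0, Int.negSucc 0, Int.negSucc 0, Int.negSucc 0, Int.ofNat 1, Int.negSucc 0, Int.negSucc 0],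
  [Int.ofNat 1, Int.ofNat 1, Int.ofNat 1, Int.ofNat 1, Int.negSucc 0, Int.ofNat 1, Int.negSucc 0, Int.ofNat 1, Int.ofNat 1, Int.negSucc 0, Int.ofNat 1, Int.negSucc 0, Int.negSucc 0, Int.negSucc 2, Int.ofNat 1, Int.ofNat 1, Int.negSucc 0, Int.negSucc 0, Int.negSucc 0, Int.negSucc 0, Int.ofNat 1, Int.negSucc 0, Int.negSucc 0, Int.negSucc 0],
  [Int.negSucc 0, Int.ofNat 1, Int.negSucc 0, Int.ofNat 1, Int.negSucc 0, Int.ofNat 1, Int.negSucc 0, Int.negSucc 0, Int.ofNat 1, Int.ofNat 1, Int.negSucc 0, Int.ofNat 1, Int.negSucc 0, Int.negSucc 2, Int.ofNat 1, Int.ofNat 1, Int.negSucc 0, Int.negSucc 0, Int.ofNat 1, Int.negSucc 0, Int.ofNat 1, Int.ofNat 1, Int.negSucc 0, Int.negSucc 0],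
  [Int.negSucc 0, Int.negSucc 0, Int.ofNat 1, Int.ofNat 1, Int.ofNat 1, Int.negSucc 0, Int.negSucc 0, Int.ofNat 1, Int.ofNat 1, Int.negSucc 0, Int.ofNat 1, Int.ofNat 1, Int.negSucc 2, Int.ofNat 1, Int.negSucc 0, Int.ofNat 1, Int.negSucc 0, Int.negSucc 0, Int.negSucc 0, Int.negSucc 0, Int.ofNat 1, Int.negSucc 0, Int.ofNat 1, Int.negSucc 0],
  [Int.ofNat 1, Int.negSucc 0, Int.negSucc 0, Int.ofNat 1, Int.ofNat 1, Int.negSucc 0, Int.negSucc 0, Int.negSucc 0, Int.ofNat 1, Int.ofNat 1, Int.negSucc 0, Int.negSucc 0, Int.negSucc 2, Int.ofNat 1, Int.negSucc 0, Int.ofNat 1, Int.negSucc 0, Int.negSucc 0, Int.ofNat 1, Int.negSucc 0, Int.ofNat 1, Int.ofNat 1, Int.ofNat 1, Int.negSucc 0],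
  [Int.ofNat 1, Int.ofNat 1, Int.negSucc 0, Int.negSucc 0, Int.ofNat 1, Int.ofNat 1, Int.negSucc 0, Int.negSucc 0, Int.negSucc 0, Int.ofNat 1, Int.ofNat 1, Int.negSucc 0, Int.negSucc 0, Int.negSucc 2, Int.ofNat 1, Int.negSucc 0, Int.ofNat 1, Int.negSucc 0, Int.negSucc 0, Int.ofNat 1, Int.negSucc 0, Int.ofNat 1, Int.ofNat 1, Int.negSucc 0],
  [Int.negSucc 0, Int.negSucc 0, Int.ofNat 1, Int.negSucc 0, Int.ofNat 1, Int.ofNat 1, Int.negSucc 0, Int.negSucc 0, Int.ofNat 1, Int.ofNat 1, Int.ofNat 1, Int.ofNat 1, Int.ofNat 1, Int.negSucc 2, Int.ofNat 1, Int.negSucc 0, Int.ofNat 1, Int.negSucc 0, Int.ofNat 1, Int.ofNat 1, Int.negSucc 0, Int.ofNat 1, Int.ofNat 1, Int.ofNat 1],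
  [Int.negSucc 0, Int.ofNat 1, Int.ofNat 1, Int.negSucc 0, Int.negSucc 0, Int.ofNat 1, Int.ofNat 1, Int.ofNat 1, Int.ofNat 1, Int.ofNat 1, Int.negSucc 2, Int.ofNat 1, Int.negSucc 0, Int.ofNat 1, Int.negSucc 0, Int.ofNat 1, Int.ofNat 1, Int.negSucc 0, Int.ofNat 1, Int.ofNat 1, Int.negSucc 0, Int.negSucc 0, Int.ofNat 1, Int.ofNat 1],
  [Int.ofNat 2, Int.ofNat 0, Int.ofNat 0, Int.ofNat 0, Int.negSucc 1, Int.ofNat 2, Int.ofNat 0, Int.ofNat 0, Int.ofNat 0, Int.ofNat 2, Int.negSucc 1, Int.ofNat 0, Int.negSucc 1, Int.ofNat 0, Int.ofNat 0, Int.ofNat 2, Int.ofNat 0, Int.ofNat 0, Int.ofNat 0, Int.ofNat 0, Int.ofNat 0, Int.negSucc 1, Int.ofNat 0, Int.ofNat 0],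
  [Int.ofNat 2, Int.ofNat 0, Int.negSucc 1, Int.ofNat 0, Int.ofNat 0, Int.ofNat 0, Int.ofNat 0, Int.negSucc 1, Int.negSucc 1, Int.ofNat 0, Int.ofNat 0, Int.ofNat 0, Int.ofNat 2, Int.ofNat 0, Int.ofNat 0, Int.ofNat 2, Int.ofNat 0, Int.ofNat 0, Int.ofNat 0, Int.ofNat 0, Int.negSucc 1, Int.ofNat 2, Int.ofNat 0, Int.ofNat 0],
  [Int.negSucc 1, Int.ofNat 0, Int.ofNat 2, Int.ofNat 0, Int.ofNat 0, Int.ofNat 0, Int.ofNat 0, Int.negSucc 1, Int.negSucc 1, Int.ofNat 0, Int.ofNat 0, Int.ofNat 0, Int.ofNat 2, Int.ofNat 0, Int.ofNat 0, Int.ofNat 2, Int.ofNat 0, Int.ofNat 0, Int.ofNat 0, Int.ofNat 0, Int.negSucc 1, Int.ofNat 2, Int.ofNat 0, Int.ofNat 0],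
  [Int.negSucc 1, Int.ofNat 0, Int.negSucc 1, Int.ofNat 0, Int.ofNat 0, Int.ofNat 0, Int.ofNat 0, Int.negSucc 1, Int.negSucc 1, Int.ofNat 0, Int.ofNat 0, Int.ofNat 0, Int.ofNat 2, Int.ofNat 0, Int.ofNat 0, Int.negSucc 1, Int.ofNat 0, Int.ofNat 0, Int.ofNat 0, Int.ofNat 0, Int.negSucc 1, Int.ofNat 2, Int.ofNat 0, Int.ofNat 0],
  [Int.ofNat 0, Int.ofNat 0, Int.ofNat 0, Int.negSucc 1, Int.ofNat 0, Int.ofNat 0, Int.ofNat 2, Int.ofNat 0, Int.ofNat 0, Int.negSucc 1, Int.ofNat 0, Int.negSucc 1, Int.negSucc 1, Int.ofNat 0, Int.ofNat 0, Int.ofNat 0, Int.ofNat 0, Int.ofNat 2, Int.ofNat 0, Int.negSucc 1, Int.negSucc 1, Int.ofNat 0, Int.ofNat 0, Int.ofNat 0],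
  [Int.ofNat 0, Int.ofNat 0, Int.ofNat 0, Int.ofNat 2, Int.ofNat 0, Int.ofNat 0, Int.negSucc 1, Int.ofNat 0, Int.ofNat 0, Int.ofNat 2, Int.ofNat 0, Int.negSucc 1, Int.ofNat 2, Int.ofNat 0, Int.ofNat 0, Int.ofNat 0, Int.ofNat 0, Int.ofNat 2, Int.ofNat 0, Int.negSucc 1, Int.negSucc 1, Int.ofNat 0, Int.ofNat 0, Int.ofNat 0],
  [Int.ofNat 0, Int.ofNat 0, Int.negSucc 1, Int.ofNat 0, Int.ofNat 2, Int.ofNat 2, Int.negSucc 1, Int.ofNat 0, Int.negSucc 1, Int.ofNat 0, Int.ofNat 0, Int.ofNat 0, Int.ofNat 0, Int.ofNat 0, Int.ofNat 0, Int.ofNat 2, Int.ofNat 0, Int.ofNat 0, Int.ofNat 0, Int.negSucc 1, Int.ofNat 0, Int.ofNat 2, Int.ofNat 0, Int.ofNat 0],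
  [Int.ofNat 0, Int.ofNat 0, Int.ofNat 2, Int.ofNat 0, Int.ofNat 2, Int.ofNat 2, Int.negSucc 1, Int.ofNat 0, Int.negSucc 1, Int.ofNat 0, Int.ofNat 0, Int.ofNat 0, Int.ofNat 0, Int.ofNat 0, Int.ofNat 0, Int.ofNat 2, Int.ofNat 0, Int.ofNat 0, Int.ofNat 0, Int.negSucc 1, Int.ofNat 0, Int.negSucc 1, Int.ofNat 0, Int.ofNat 0],
  [Int.ofNat 0, Int.ofNat 0, Int.ofNat 0, Int.ofNat 2, Int.ofNat 0, Int.ofNat 2, Int.ofNat 2, Int.negSucc 1, Int.ofNat 0, Int.negSucc 1, Int.ofNat 0, Int.ofNat 0, Int.ofNat 0, Int.ofNat 0, Int.ofNat 0, Int.ofNat 0, Int.ofNat 2, Int.ofNat 0, Int.ofNat 0, Int.ofNat 0, Int.negSucc 1, Int.ofNat 0, Int.negSucc 1, Int.ofNat 0],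
  [Int.ofNat 0, Int.ofNat 0, Int.ofNat 0, Int.ofNat 0, Int.ofNat 0, Int.ofNat 0, Int.ofNat 2, Int.negSucc 1, Int.ofNat 0, Int.ofNat 0, Int.ofNat 2, Int.ofNat 0, Int.ofNat 0, Int.ofNat 0, Int.negSucc 1, Int.ofNat 2, Int.ofNat 2, Int.negSucc 1, Int.ofNat 0, Int.ofNat 0, Int.ofNat 0, Int.ofNat 0, Int.negSucc 1, Int.ofNat 0],
  [Int.ofNat 0, Int.ofNat 0, Int.ofNat 0, Int.ofNat 2, Int.negSucc 1, Int.ofNat 0, Int.ofNat 0, Int.ofNat 2, Int.ofNat 0, Int.ofNat 0, Int.ofNat 0, Int.negSucc 1, Int.ofNat 2, Int.ofNat 2, Int.negSucc 1, Int.ofNat 0, Int.ofNat 0, Int.ofNat 0, Int.ofNat 0, Int.negSucc 1, Int.ofNat 0, Int.ofNat 0, Int.ofNat 0, Int.ofNat 0],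
  [Int.ofNat 0, Int.ofNat 0, Int.ofNat 0, Int.ofNat 2, Int.negSucc 1, Int.ofNat 0, Int.ofNat 0, Int.ofNat 2, Int.ofNat 0, Int.ofNat 0, Int.ofNat 0, Int.negSucc 1, Int.ofNat 2, Int.ofNat 2, Int.negSucc 1, Int.ofNat 0, Int.ofNat 0, Int.ofNat 0, Int.ofNat 0, Int.negSucc 1, Int.ofNat 0, Int.ofNat 0, Int.ofNat 0, Int.ofNat 0],
  [Int.ofNat 0, Int.ofNat 0, Int.negSucc 1, Int.ofNat 2, Int.ofNat 0, Int.ofNat 2, Int.ofNat 0, Int.ofNat 0, Int.ofNat 2, Int.ofNat 2, Int.ofNat 0, Int.ofNat 0, Int.ofNat 0, Int.ofNat 0, Int.ofNat 0, Int.ofNat 0, Int.ofNat 0, Int.negSucc 1, Int.ofNat 0, Int.negSucc 1, Int.ofNat 0, Int.ofNat 0, Int.negSucc 1, Int.ofNat 0],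
  [Int.negSucc 0, Int.negSucc 0, Int.ofNat 1, Int.ofNat 1, Int.ofNat 1, Int.ofNat 1, Int.ofNat 1, Int.ofNat 1, Int.ofNat 1, Int.ofNat 1, Int.negSucc 0, Int.negSucc 0, Int.negSucc 0, Int.ofNat 1, Int.negSucc 0, Int.negSucc 0, Int.ofNat 1, Int.negSucc 2, Int.negSucc 0, Int.negSucc 0, Int.negSucc 0, Int.ofNat 1, Int.negSucc 0, Int.negSucc 0],
  [Int.negSucc 0, Int.negSucc 0, Int.negSucc 0, Int.ofNat 1, Int.ofNat 1, Int.negSucc 0, Int.negSucc 0, Int.ofNat 1, Int.ofNat 1, Int.negSucc 0, Int.ofNat 1, Int.negSucc 0, Int.negSucc 0, Int.ofNat 1, Int.negSucc 0, Int.ofNat 1, Int.ofNat 1, Int.negSucc 2, Int.ofNat 1, Int.negSucc 0, Int.negSucc 0, Int.ofNat 1, Int.ofNat 1, Int.negSucc 0],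
  [Int.negSucc 0, Int.negSucc 0, Int.ofNat 1, Int.negSucc 0, Int.ofNat 1, Int.negSucc 0, Int.negSucc 0, Int.ofNat 1, Int.negSucc 2, Int.ofNat 1, Int.ofNat 1, Int.ofNat 1, Int.negSucc 0, Int.negSucc 0, Int.ofNat 1, Int.ofNat 1, Int.ofNat 1, Int.negSucc 0, Int.ofNat 1, Int.negSucc 0, Int.negSucc 0, Int.negSucc 0, Int.ofNat 1, Int.negSucc 0],
  [Int.negSucc 0, Int.negSucc 0, Int.negSucc 0, Int.negSucc 0, Int.ofNat 1, Int.ofNat 1, Int.ofNat 1, Int.ofNat 1, Int.negSucc 2, Int.negSucc 0, Int.negSucc 0, Int.ofNat 1, Int.negSucc 0, Int.negSucc 0, Int.ofNat 1, Int.negSucc 0, Int.ofNat 1, Int.negSucc 0, Int.negSucc 0, Int.negSucc 0, Int.negSucc 0, Int.negSucc 0, Int.negSucc 0, Int.negSucc 0],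
  [Int.negSucc 0, Int.negSucc 0, Int.negSucc 0, Int.negSucc 0, Int.ofNat 1, Int.ofNat 1, Int.ofNat 1, Int.ofNat 1, Int.negSucc 0, Int.ofNat 1, Int.ofNat 1, Int.ofNat 3, Int.ofNat 1, Int.negSucc 0, Int.ofNat 1, Int.ofNat 1, Int.ofNat 1, Int.negSucc 0, Int.ofNat 1, Int.negSucc 0, Int.ofNat 1, Int.negSucc 0, Int.negSucc 0, Int.negSucc 0],
  [Int.negSucc 0, Int.ofNat 1, Int.ofNat 1, Int.negSucc 0, Int.negSucc 0, Int.negSucc 0, Int.negSucc 0, Int.ofNat 1, Int.ofNat 1, Int.ofNat 1, Int.ofNat 1, Int.negSucc 0, Int.negSucc 0, Int.ofNat 1, Int.negSucc 0, Int.ofNat 1, Int.negSucc 0, Int.ofNat 3, Int.ofNat 1, Int.negSucc 0, Int.ofNat 1, Int.ofNat 1, Int.ofNat 1, Int.negSucc 0],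
  [Int.ofNat 1, Int.negSucc 0, Int.negSucc 0, Int.negSucc 0, Int.negSucc 0, Int.negSucc 0, Int.negSucc 0, Int.ofNat 1, Int.ofNat 1, Int.negSucc 0, Int.negSucc 0, Int.negSucc 0, Int.negSucc 0, Int.ofNat 1, Int.negSucc 0, Int.negSucc 0, Int.negSucc 0, Int.ofNat 3, Int.ofNat 1, Int.negSucc 0, Int.negSucc 0, Int.ofNat 1, Int.ofNat 1, Int.ofNat 1],
  [Int.negSucc 0, Int.ofNat 1, Int.ofNat 1, Int.ofNat 1, Int.negSucc 0, Int.negSucc 0, Int.negSucc 0, Int.negSucc 0, Int.negSucc 0, Int.negSucc 0, Int.ofNat 1, Int.ofNat 1, Int.negSucc 0, Int.negSucc 0, Int.negSucc 0, Int.negSucc 0, Int.ofNat 1, Int.negSucc 0, Int.negSucc 0, Int.negSucc 0, Int.ofNat 3, Int.ofNat 1, Int.negSucc 0, Int.ofNat 1],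
  [Int.ofNat 2, Int.ofNat 0, Int.ofNat 0, Int.ofNat 2, Int.ofNat 0, Int.ofNat 0, Int.ofNat 0, Int.ofNat 0, Int.ofNat 0, Int.negSucc 1, Int.ofNat 0, Int.ofNat 2, Int.ofNat 0, Int.ofNat 0, Int.ofNat 0, Int.negSucc 1, Int.ofNat 2, Int.ofNat 0, Int.ofNat 0, Int.ofNat 0, Int.ofNat 2, Int.ofNat 2, Int.ofNat 0, Int.ofNat 0],
  [Int.ofNat 0, Int.ofNat 0, Int.ofNat 2, Int.ofNat 0, Int.ofNat 0, Int.ofNat 0, Int.ofNat 0, Int.ofNat 0, Int.negSucc 1, Int.ofNat 0, Int.ofNat 2, Int.ofNat 0, Int.ofNat 0, Int.ofNat 0, Int.negSucc 1, Int.ofNat 2, Int.ofNat 0, Int.ofNat 0, Int.ofNat 0, Int.ofNat 2, Int.ofNat 2, Int.ofNat 0, Int.ofNat 2, Int.ofNat 0],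
  [Int.ofNat 0, Int.ofNat 0, Int.negSucc 1, Int.ofNat 0, Int.ofNat 0, Int.ofNat 0, Int.ofNat 0, Int.ofNat 0, Int.negSucc 1, Int.ofNat 0, Int.negSucc 1, Int.ofNat 0, Int.ofNat 0, Int.ofNat 0, Int.negSucc 1, Int.ofNat 2, Int.ofNat 0, Int.ofNat 0, Int.ofNat 0, Int.ofNat 2, Int.ofNat 2, Int.ofNat 0, Int.ofNat 2, Int.ofNat 0],
  [Int.ofNat 0, Int.negSucc 1, Int.ofNat 0, Int.ofNat 0, Int.ofNat 0, Int.negSucc 1, Int.ofNat 0, Int.ofNat 2, Int.ofNat 0, Int.ofNat 0, Int.ofNat 0, Int.negSucc 1, Int.ofNat 0, Int.negSucc 1, Int.ofNat 2, Int.ofNat 2, Int.ofNat 0, Int.ofNat 2, Int.ofNat 0, Int.ofNat 0, Int.ofNat 0, Int.ofNat 0, Int.ofNat 0, Int.ofNat 0],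
  [Int.ofNat 0, Int.negSucc 1, Int.ofNat 0, Int.ofNat 0, Int.ofNat 0, Int.negSucc 1, Int.ofNat 0, Int.negSucc 1, Int.ofNat 0, Int.ofNat 0, Int.ofNat 0, Int.ofNat 2, Int.ofNat 0, Int.negSucc 1, Int.ofNat 2, Int.ofNat 2, Int.ofNat 0, Int.ofNat 2, Int.ofNat 0, Int.ofNat 0, Int.ofNat 0, Int.ofNat 0, Int.ofNat 0, Int.ofNat 0],
  [Int.ofNat 0, Int.ofNat 0, Int.negSucc 1, Int.ofNat 0, Int.ofNat 0, Int.ofNat 0, Int.negSucc 1, Int.ofNat 0, Int.negSucc 1, Int.ofNat 0, Int.ofNat 0, Int.ofNat 0, Int.ofNat 2, Int.ofNat 0, Int.negSucc 1, Int.ofNat 2, Int.ofNat 2, Int.ofNat 0, Int.ofNat 2, Int.ofNat 0, Int.ofNat 0, Int.ofNat 0, Int.ofNat 0, Int.ofNat 0],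
  [Int.negSucc 0, Int.negSucc 0, Int.ofNat 1, Int.ofNat 1, Int.negSucc 0, Int.ofNat 1, Int.negSucc 0, Int.ofNat 1, Int.negSucc 2, Int.negSucc 0, Int.negSucc 0, Int.negSucc 0, Int.ofNat 1, Int.negSucc 0, Int.negSucc 0, Int.ofNat 1, Int.ofNat 1, Int.ofNat 1, Int.ofNat 1, Int.ofNat 1, Int.negSucc 0, Int.ofNat 1, Int.negSucc 0, Int.negSucc 0],
  [Int.ofNat 1, Int.negSucc 0, Int.ofNat 1, Int.negSucc 0, Int.ofNat 1, Int.negSucc 2, Int.negSucc 0, Int.negSucc 0, Int.negSucc 0, Int.ofNat 1, Int.negSucc 0, Int.negSucc 0, Int.ofNat 1, Int.ofNat 1, Int.ofNat 1, Int.ofNat 1, Int.ofNat 1, Int.negSucc 0, Int.ofNat 1, Int.negSucc 0, Int.negSucc 0, Int.negSucc 0, Int.ofNat 1, Int.negSucc 0],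
  [Int.negSucc 0, Int.ofNat 1, Int.negSucc 0, Int.ofNat 1, Int.negSucc 0, Int.negSucc 0, Int.ofNat 1, Int.ofNat 1, Int.negSucc 0, Int.ofNat 1, Int.negSucc 0, Int.negSucc 0, Int.ofNat 1, Int.negSucc 0, Int.ofNat 3, Int.ofNat 1, Int.negSucc 0, Int.ofNat 1, Int.ofNat 1, Int.ofNat 1, Int.negSucc 0, Int.ofNat 1, Int.negSucc 0, Int.ofNat 1],
  [Int.negSucc 0, Int.ofNat 1, Int.negSucc 0, Int.ofNat 1, Int.ofNat 1, Int.ofNat 1, Int.negSucc 0, Int.negSucc 0, Int.ofNat 1, Int.negSucc 0, Int.negSucc 0, Int.ofNat 1, Int.ofNat 1, Int.negSucc 0, Int.negSucc 0, Int.ofNat 1, Int.negSucc 0, Int.ofNat 3, Int.ofNat 1, Int.negSucc 0, Int.ofNat 1, Int.negSucc 0, Int.ofNat 1, Int.ofNat 1],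
  [Int.ofNat 1, Int.negSucc 0, Int.ofNat 1, Int.negSucc 0, Int.ofNat 1, Int.negSucc 0, Int.ofNat 1, Int.ofNat 1, Int.negSucc 0, Int.negSucc 0, Int.negSucc 0, Int.negSucc 0, Int.negSucc 0, Int.negSucc 0, Int.negSucc 2, Int.ofNat 1, Int.negSucc 0, Int.ofNat 1, Int.negSucc 0, Int.ofNat 1, Int.ofNat 1, Int.ofNat 1, Int.ofNat 1, Int.negSucc 0],
  [Int.ofNat 1, Int.negSucc 0, Int.negSucc 0, Int.negSucc 0, Int.ofNat 1, Int.ofNat 1, Int.negSucc 0, Int.ofNat 1, Int.negSucc 0, Int.ofNat 1, Int.ofNat 1, Int.negSucc 0, Int.negSucc 0, Int.negSucc 0, Int.negSucc 2, Int.negSucc 0, Int.negSucc 0, Int.ofNat 1, Int.ofNat 1, Int.ofNat 1, Int.ofNat 1, Int.ofNat 1, Int.negSucc 0, Int.negSucc 0],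
  [Int.ofNat 1, Int.negSucc 0, Int.negSucc 0, Int.negSucc 0, Int.negSucc 2, Int.negSucc 0, Int.ofNat 1, Int.negSucc 0, Int.ofNat 1, Int.ofNat 1, Int.negSucc 0, Int.ofNat 1, Int.negSucc 0, Int.ofNat 1, Int.ofNat 1, Int.ofNat 1, Int.ofNat 1, Int.negSucc 0, Int.ofNat 1, Int.negSucc 0, Int.ofNat 1, Int.negSucc 0, Int.negSucc 0, Int.negSucc 0],
  [Int.negSucc 0, Int.ofNat 1, Int.ofNat 1, Int.ofNat 1, Int.ofNat 3, Int.negSucc 0, Int.negSucc 0, Int.negSucc 0, Int.negSucc 0, Int.negSucc 0, Int.negSucc 0, Int.ofNat 1, Int.ofNat 1, Int.negSucc 0, Int.ofNat 1, Int.ofNat 1, Int.negSucc 0, Int.negSucc 0, Int.negSucc 0, Int.negSucc 0, Int.ofNat 1, Int.negSucc 0, Int.negSucc 0, Int.negSucc 0],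
  [Int.negSucc 0, Int.negSucc 0, Int.ofNat 1, Int.ofNat 1, Int.negSucc 0, Int.negSucc 0, Int.negSucc 0, Int.negSucc 0, Int.ofNat 1, Int.negSucc 0, Int.negSucc 0, Int.ofNat 1, Int.negSucc 0, Int.negSucc 0, Int.negSucc 0, Int.ofNat 1, Int.negSucc 0, Int.ofNat 3, Int.ofNat 1, Int.negSucc 0, Int.negSucc 0, Int.ofNat 1, Int.ofNat 1, Int.negSucc 0],
  [Int.ofNat 1, Int.negSucc 0, Int.negSucc 0, Int.ofNat 1, Int.negSucc 0, Int.negSucc 0, Int.negSucc 0, Int.ofNat 1, Int.ofNat 1, Int.ofNat 1, Int.ofNat 1, Int.negSucc 0, Int.negSucc 0, Int.negSucc 0, Int.negSucc 0, Int.ofNat 1, Int.negSucc 0, Int.ofNat 3, Int.negSucc 0, Int.negSucc 0, Int.negSucc 0, Int.negSucc 0, Int.ofNat 1, Int.negSucc 0],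
  [Int.ofNat 1, Int.ofNat 1, Int.negSucc 0, Int.negSucc 0, Int.ofNat 1, Int.negSucc 0, Int.negSucc 0, Int.negSucc 0, Int.ofNat 1, Int.ofNat 1, Int.ofNat 1, Int.ofNat 1, Int.negSucc 0, Int.negSucc 0, Int.negSucc 0, Int.negSucc 0, Int.ofNat 1, Int.negSucc 0, Int.ofNat 3, Int.negSucc 0, Int.negSucc 0, Int.negSucc 0, Int.negSucc 0, Int.negSucc 0],
  [Int.negSucc 0, Int.negSucc 0, Int.ofNat 1, Int.ofNat 1, Int.ofNat 1, Int.ofNat 1, Int.ofNat 1, Int.ofNat 1, Int.negSucc 0, Int.ofNat 1, Int.ofNat 1, Int.negSucc 0, Int.negSucc 2, Int.negSucc 0, Int.ofNat 1, Int.negSucc 0, Int.ofNat 1, Int.ofNat 1, Int.ofNat 1, Int.ofNat 1, Int.negSucc 0, Int.ofNat 1, Int.negSucc 0, Int.ofNat 1],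
  [Int.ofNat 1, Int.ofNat 1, Int.ofNat 1, Int.ofNat 1, Int.ofNat 1, Int.negSucc 0, Int.ofNat 1, Int.ofNat 1, Int.negSucc 0, Int.negSucc 2, Int.negSucc 0, Int.ofNat 1, Int.negSucc 0, Int.ofNat 1, Int.ofNat 1, Int.ofNat 1, Int.ofNat 1, Int.negSucc 0, Int.ofNat 1, Int.negSucc 0, Int.negSucc 0, Int.negSucc 0, Int.ofNat 1, Int.ofNat 1],
  [Int.ofNat 1, Int.ofNat 1, Int.ofNat 1, Int.ofNat 1, Int.negSucc 0, Int.negSucc 0, Int.ofNat 1, Int.ofNat 1, Int.negSucc 0, Int.negSucc 0, Int.ofNat 1, Int.ofNat 1, Int.negSucc 0, Int.negSucc 0, Int.ofNat 1, Int.ofNat 3, Int.negSucc 0, Int.negSucc 0, Int.ofNat 1, Int.negSucc 0, Int.ofNat 1, Int.negSucc 0, Int.negSucc 0, Int.ofNat 1],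
  [Int.ofNat 1, Int.ofNat 1, Int.negSucc 0, Int.ofNat 1, Int.ofNat 1, Int.ofNat 1, Int.ofNat 1, Int.ofNat 1, Int.negSucc 0, Int.negSucc 0, Int.ofNat 1, Int.negSucc 0, Int.negSucc 0, Int.negSucc 0, Int.negSucc 0, Int.ofNat 3, Int.negSucc 0, Int.ofNat 1, Int.ofNat 1, Int.ofNat 1, Int.negSucc 0, Int.negSucc 0, Int.negSucc 0, Int.ofNat 1],
  [Int.ofNat 0, Int.ofNat 0, Int.ofNat 2, Int.ofNat 0, Int.ofNat 2, Int.ofNat 0, Int.ofNat 0, Int.ofNat 0, Int.ofNat 0, Int.negSucc 1, Int.ofNat 0, Int.ofNat 0, Int.ofNat 0, Int.ofNat 0, Int.negSucc 1, Int.ofNat 2, Int.ofNat 0, Int.ofNat 0, Int.ofNat 2, Int.ofNat 0, Int.negSucc 1, Int.negSucc 1, Int.ofNat 0, Int.ofNat 0],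
  [Int.ofNat 0, Int.ofNat 0, Int.negSucc 1, Int.ofNat 0, Int.ofNat 2, Int.ofNat 0, Int.ofNat 0, Int.ofNat 0, Int.ofNat 0, Int.ofNat 2, Int.ofNat 0, Int.ofNat 0, Int.ofNat 0, Int.ofNat 0, Int.negSucc 1, Int.negSucc 1, Int.ofNat 0, Int.ofNat 0, Int.negSucc 1, Int.ofNat 0, Int.negSucc 1, Int.negSucc 1, Int.ofNat 0, Int.ofNat 0],
  [Int.ofNat 0, Int.negSucc 1, Int.ofNat 0, Int.ofNat 2, Int.ofNat 0, Int.negSucc 1, Int.ofNat 0, Int.ofNat 0, Int.ofNat 0, Int.negSucc 1, Int.ofNat 0, Int.ofNat 2, Int.ofNat 0, Int.ofNat 0, Int.negSucc 1, Int.ofNat 0, Int.negSucc 1, Int.ofNat 0, Int.ofNat 0, Int.negSucc 1, Int.ofNat 0, Int.ofNat 0, Int.ofNat 0, Int.ofNat 0],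
  [Int.ofNat 0, Int.negSucc 1, Int.ofNat 0, Int.ofNat 2, Int.ofNat 0, Int.ofNat 2, Int.ofNat 0, Int.ofNat 0, Int.ofNat 0, Int.ofNat 2, Int.ofNat 0, Int.ofNat 2, Int.ofNat 0, Int.ofNat 0, Int.negSucc 1, Int.ofNat 0, Int.negSucc 1, Int.ofNat 0, Int.ofNat 0, Int.negSucc 1, Int.ofNat 0, Int.ofNat 0, Int.ofNat 0, Int.ofNat 0],
  [Int.negSucc 0, Int.ofNat 1, Int.negSucc 0, Int.ofNat 1, Int.ofNat 1, Int.ofNat 1, Int.ofNat 1, Int.ofNat 1, Int.negSucc 0, Int.ofNat 1, Int.negSucc 0, Int.ofNat 1, Int.negSucc 0, Int.ofNat 1, Int.negSucc 2, Int.negSucc 0, Int.negSucc 0, Int.negSucc 0, Int.negSucc 0, Int.negSucc 0, Int.negSucc 0, Int.ofNat 1, Int.ofNat 1, Int.negSucc 0],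
  [Int.negSucc 0, Int.negSucc 0, Int.ofNat 1, Int.ofNat 1, Int.negSucc 0, Int.ofNat 1, Int.ofNat 1, Int.ofNat 1, Int.negSucc 0, Int.negSucc 0, Int.ofNat 1, Int.negSucc 0, Int.negSucc 0, Int.ofNat 1, Int.negSucc 0, Int.negSucc 0, Int.ofNat 1, Int.ofNat 1, Int.ofNat 1, Int.ofNat 1, Int.negSucc 0, Int.negSucc 0, Int.negSucc 2, Int.negSucc 0],
  [Int.ofNat 0, Int.ofNat 0, Int.negSucc 1, Int.ofNat 0, Int.ofNat 0, Int.ofNat 0, Int.ofNat 0, Int.ofNat 0, Int.ofNat 0, Int.ofNat 0, Int.ofNat 2, Int.ofNat 0, Int.ofNat 0, Int.ofNat 2, Int.negSucc 1, Int.ofNat 0, Int.ofNat 2, Int.ofNat 0, Int.ofNat 2, Int.ofNat 0, Int.ofNat 0, Int.negSucc 1, Int.negSucc 1, Int.ofNat 0],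
  [Int.ofNat 0, Int.negSucc 1, Int.negSucc 1, Int.ofNat 0, Int.ofNat 0, Int.negSucc 1, Int.ofNat 0, Int.ofNat 0, Int.ofNat 0, Int.ofNat 0, Int.ofNat 0, Int.ofNat 0, Int.ofNat 0, Int.ofNat 2, Int.ofNat 0, Int.ofNat 0, Int.ofNat 2, Int.negSucc 1, Int.ofNat 0, Int.ofNat 2, Int.ofNat 0, Int.ofNat 2, Int.ofNat 0, Int.ofNat 0],
  [Int.negSucc 1, Int.ofNat 0, Int.ofNat 0, Int.ofNat 2, Int.negSucc 1, Int.ofNat 0, Int.negSucc 1, Int.negSucc 1, Int.ofNat 0, Int.ofNat 0, Int.ofNat 0, Int.ofNat 0, Int.ofNat 0, Int.ofNat 0, Int.ofNat 2, Int.ofNat 0, Int.ofNat 0, Int.ofNat 0, Int.ofNat 0, Int.ofNat 0, Int.ofNat 0, Int.ofNat 0, Int.negSucc 1, Int.negSucc 1],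
  [Int.ofNat 0, Int.ofNat 0, Int.ofNat 2, Int.negSucc 1, Int.ofNat 0, Int.negSucc 1, Int.negSucc 1, Int.ofNat 0, Int.ofNat 0, Int.ofNat 0, Int.ofNat 0, Int.ofNat 0, Int.ofNat 0, Int.ofNat 2, Int.ofNat 0, Int.ofNat 0, Int.ofNat 0, Int.ofNat 0, Int.ofNat 0, Int.ofNat 0, Int.ofNat 0, Int.negSucc 1, Int.negSucc 1, Int.negSucc 1],
  [Int.ofNat 0, Int.ofNat 0, Int.negSucc 1, Int.negSucc 1, Int.ofNat 0, Int.negSucc 1, Int.negSucc 1, Int.ofNat 0, Int.ofNat 0, Int.ofNat 0, Int.ofNat 0, Int.ofNat 0, Int.ofNat 0, Int.ofNat 2, Int.ofNat 0, Int.ofNat 0, Int.ofNat 0, Int.ofNat 0, Int.ofNat 0, Int.ofNat 0, Int.ofNat 0, Int.ofNat 2, Int.negSucc 1, Int.negSucc 1],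
  [Int.ofNat 0, Int.negSucc 1, Int.ofNat 0, Int.negSucc 1, Int.ofNat 0, Int.ofNat 0, Int.ofNat 0, Int.ofNat 0, Int.ofNat 0, Int.ofNat 0, Int.ofNat 2, Int.ofNat 0, Int.ofNat 2, Int.ofNat 0, Int.ofNat 0, Int.ofNat 0, Int.ofNat 0, Int.negSucc 1, Int.negSucc 1, Int.ofNat 0, Int.negSucc 1, Int.ofNat 0, Int.ofNat 0, Int.negSucc 1],
  [Int.ofNat 0, Int.negSucc 1, Int.ofNat 0, Int.negSucc 1, Int.ofNat 0, Int.ofNat 0, Int.ofNat 0, Int.ofNat 0, Int.ofNat 0, Int.ofNat 0, Int.negSucc 1, Int.ofNat 0, Int.ofNat 2, Int.ofNat 0, Int.ofNat 0, Int.ofNat 0, Int.ofNat 0, Int.negSucc 1, Int.ofNat 2, Int.ofNat 0, Int.negSucc 1, Int.ofNat 0, Int.ofNat 0, Int.negSucc 1],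
  [Int.ofNat 0, Int.ofNat 0, Int.negSucc 1, Int.ofNat 0, Int.negSucc 1, Int.ofNat 0, Int.ofNat 0, Int.ofNat 0, Int.ofNat 0, Int.ofNat 0, Int.ofNat 0, Int.negSucc 1, Int.ofNat 0, Int.ofNat 2, Int.ofNat 0, Int.ofNat 0, Int.ofNat 0, Int.ofNat 0, Int.negSucc 1, Int.ofNat 2, Int.ofNat 0, Int.negSucc 1, Int.ofNat 0, Int.negSucc 1],
  [Int.negSucc 1, Int.negSucc 1, Int.ofNat 0, Int.ofNat 0, Int.negSucc 1, Int.ofNat 0, Int.ofNat 0, Int.ofNat 0, Int.ofNat 2, Int.ofNat 0, Int.ofNat 0, Int.ofNat 0, Int.ofNat 2, Int.ofNat 2, Int.ofNat 0, Int.ofNat 0, Int.ofNat 0, Int.ofNat 0, Int.ofNat 0, Int.ofNat 2, Int.ofNat 0, Int.negSucc 1, Int.ofNat 0, Int.ofNat 0],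
  [Int.ofNat 0, Int.negSucc 1, Int.ofNat 0, Int.ofNat 0, Int.ofNat 0, Int.ofNat 2, Int.ofNat 0, Int.ofNat 0, Int.ofNat 0, Int.ofNat 2, Int.ofNat 2, Int.ofNat 0, Int.ofNat 0, Int.ofNat 0, Int.ofNat 0, Int.ofNat 0, Int.ofNat 2, Int.ofNat 0, Int.negSucc 1, Int.ofNat 0, Int.negSucc 1, Int.negSucc 1, Int.ofNat 0, Int.ofNat 0],
  [Int.negSucc 0, Int.ofNat 1, Int.negSucc 0, Int.negSucc 0, Int.negSucc 0, Int.ofNat 1, Int.ofNat 1, Int.ofNat 1, Int.ofNat 1, Int.ofNat 1, Int.ofNat 1, Int.ofNat 1, Int.ofNat 1, Int.negSucc 0, Int.negSucc 0, Int.negSucc 0, Int.ofNat 1, Int.negSucc 0, Int.negSucc 0, Int.ofNat 1, Int.negSucc 2, Int.negSucc 0, Int.negSucc 0, Int.negSucc 0],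
  [Int.negSucc 0, Int.ofNat 1, Int.negSucc 0, Int.negSucc 0, Int.negSucc 0, Int.ofNat 1, Int.negSucc 0, Int.ofNat 1, Int.ofNat 1, Int.negSucc 0, Int.negSucc 2, Int.negSucc 0, Int.ofNat 1, Int.ofNat 1, Int.negSucc 0, Int.negSucc 0, Int.ofNat 1, Int.negSucc 0, Int.ofNat 1, Int.ofNat 1, Int.negSucc 0, Int.ofNat 1, Int.ofNat 1, Int.negSucc 0],
  [Int.ofNat 0, Int.negSucc 1, Int.ofNat 0, Int.ofNat 0, Int.negSucc 1, Int.ofNat 2, Int.negSucc 1, Int.ofNat 0, Int.ofNat 0, Int.ofNat 2, Int.ofNat 0, Int.negSucc 1, Int.ofNat 0, Int.ofNat 0, Int.ofNat 0, Int.ofNat 2, Int.ofNat 0, Int.ofNat 0, Int.ofNat 0, Int.ofNat 0, Int.ofNat 2, Int.ofNat 0, Int.ofNat 0, Int.ofNat 0],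
  [Int.ofNat 0, Int.negSucc 1, Int.ofNat 0, Int.ofNat 0, Int.negSucc 1, Int.negSucc 1, Int.ofNat 2, Int.ofNat 0, Int.ofNat 0, Int.negSucc 1, Int.ofNat 0, Int.negSucc 1, Int.ofNat 0, Int.ofNat 0, Int.ofNat 0, Int.negSucc 1, Int.ofNat 0, Int.ofNat 0, Int.ofNat 0, Int.ofNat 0, Int.ofNat 2, Int.ofNat 0, Int.ofNat 0, Int.ofNat 0],
  [Int.ofNat 0, Int.ofNat 0, Int.negSucc 1, Int.ofNat 0, Int.ofNat 0, Int.ofNat 2, Int.ofNat 0, Int.ofNat 0, Int.negSucc 1, Int.ofNat 2, Int.ofNat 0, Int.ofNat 0, Int.negSucc 1, Int.negSucc 1, Int.ofNat 0, Int.ofNat 0, Int.ofNat 0, Int.ofNat 0, Int.negSucc 1, Int.ofNat 0, Int.ofNat 0, Int.negSucc 1, Int.ofNat 0, Int.ofNat 0],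
  [Int.ofNat 0, Int.ofNat 0, Int.ofNat 2, Int.ofNat 0, Int.ofNat 0, Int.ofNat 2, Int.ofNat 0, Int.ofNat 0, Int.ofNat 2, Int.negSucc 1, Int.ofNat 0, Int.ofNat 0, Int.ofNat 2, Int.ofNat 2, Int.ofNat 0, Int.ofNat 0, Int.ofNat 0, Int.ofNat 0, Int.ofNat 2, Int.ofNat 0, Int.ofNat 0, Int.negSucc 1, Int.ofNat 0, Int.ofNat 0],
  [Int.ofNat 0, Int.ofNat 0, Int.ofNat 0, Int.ofNat 0, Int.ofNat 0, Int.negSucc 1, Int.ofNat 0, Int.ofNat 2, Int.ofNat 0, Int.ofNat 2, Int.ofNat 0, Int.ofNat 2, Int.negSucc 1, Int.ofNat 0, Int.ofNat 2, Int.ofNat 0, Int.ofNat 0, Int.ofNat 0, Int.ofNat 0, Int.ofNat 0, Int.ofNat 2, Int.ofNat 2, Int.ofNat 0, Int.ofNat 0],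
  [Int.ofNat 0, Int.ofNat 0, Int.ofNat 0, Int.ofNat 0, Int.ofNat 0, Int.negSucc 1, Int.ofNat 0, Int.negSucc 1, Int.ofNat 0, Int.negSucc 1, Int.ofNat 0, Int.negSucc 1, Int.negSucc 1, Int.ofNat 0, Int.ofNat 2, Int.ofNat 0, Int.ofNat 0, Int.ofNat 0, Int.ofNat 0, Int.ofNat 0, Int.ofNat 2, Int.negSucc 1, Int.ofNat 0, Int.ofNat 0],
  [Int.ofNat 0, Int.ofNat 0, Int.ofNat 0, Int.ofNat 0, Int.ofNat 0, Int.ofNat 0, Int.negSucc 1, Int.ofNat 0, Int.negSucc 1, Int.ofNat 0, Int.negSucc 1, Int.ofNat 0, Int.negSucc 1, Int.negSucc 1, Int.ofNat 0, Int.ofNat 2, Int.ofNat 0, Int.ofNat 0, Int.ofNat 0, Int.ofNat 0, Int.ofNat 0, Int.ofNat 2, Int.negSucc 1, Int.ofNat 0],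
  [Int.ofNat 0, Int.ofNat 0, Int.ofNat 0, Int.ofNat 0, Int.ofNat 2, Int.ofNat 0, Int.negSucc 1, Int.ofNat 0, Int.ofNat 0, Int.ofNat 0, Int.negSucc 1, Int.ofNat 2, Int.ofNat 0, Int.ofNat 0, Int.ofNat 0, Int.ofNat 2, Int.ofNat 2, Int.ofNat 0, Int.ofNat 2, Int.ofNat 0, Int.ofNat 0, Int.ofNat 2, Int.ofNat 0, Int.ofNat 0],
  [Int.ofNat 0, Int.ofNat 2, Int.ofNat 0, Int.negSucc 1, Int.ofNat 0, Int.ofNat 0, Int.ofNat 0, Int.negSucc 1, Int.ofNat 2, Int.ofNat 0, Int.ofNat 0, Int.ofNat 0, Int.ofNat 2, Int.ofNat 2, Int.ofNat 0, Int.ofNat 2, Int.ofNat 0, Int.ofNat 0, Int.ofNat 2, Int.ofNat 0, Int.ofNat 0, Int.ofNat 0, Int.ofNat 0, Int.ofNat 0],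
  [Int.ofNat 1, Int.negSucc 0, Int.ofNat 1, Int.negSucc 0, Int.negSucc 0, Int.ofNat 1, Int.ofNat 1, Int.negSucc 0, Int.negSucc 0, Int.negSucc 0, Int.negSucc 0, Int.negSucc 2, Int.negSucc 0, Int.ofNat 1, Int.ofNat 1, Int.ofNat 1, Int.negSucc 0, Int.ofNat 1, Int.negSucc 0, Int.ofNat 1, Int.negSucc 0, Int.ofNat 1, Int.negSucc 0, Int.ofNat 1],
  [Int.ofNat 1, Int.ofNat 1, Int.negSucc 0, Int.negSucc 0, Int.negSucc 0, Int.negSucc 0, Int.ofNat 1, Int.negSucc 0, Int.negSucc 0, Int.ofNat 1, Int.negSucc 0, Int.ofNat 1, Int.negSucc 0, Int.negSucc 0, Int.negSucc 0, Int.ofNat 1, Int.negSucc 0, Int.ofNat 1, Int.negSucc 0, Int.negSucc 2, Int.ofNat 1, Int.ofNat 1, Int.ofNat 1, Int.ofNat 1],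
  [Int.ofNat 0, Int.ofNat 0, Int.ofNat 2, Int.ofNat 0, Int.ofNat 0, Int.ofNat 0, Int.ofNat 2, Int.ofNat 0, Int.ofNat 0, Int.ofNat 0, Int.negSucc 1, Int.ofNat 2, Int.ofNat 0, Int.ofNat 0, Int.ofNat 0, Int.ofNat 0, Int.ofNat 0, Int.ofNat 2, Int.ofNat 0, Int.negSucc 1, Int.ofNat 0, Int.ofNat 2, Int.ofNat 2, Int.ofNat 0],
  [Int.ofNat 0, Int.ofNat 0, Int.negSucc 1, Int.ofNat 0, Int.ofNat 0, Int.ofNat 0, Int.negSucc 1, Int.ofNat 0, Int.ofNat 0, Int.ofNat 0, Int.ofNat 2, Int.ofNat 2, Int.ofNat 0, Int.ofNat 0, Int.ofNat 0, Int.ofNat 0, Int.ofNat 0, Int.ofNat 2, Int.ofNat 0, Int.negSucc 1, Int.ofNat 0, Int.ofNat 2, Int.negSucc 1, Int.ofNat 0],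
  [Int.ofNat 0, Int.ofNat 0, Int.ofNat 0, Int.ofNat 0, Int.ofNat 0, Int.negSucc 1, Int.negSucc 1, Int.negSucc 1, Int.ofNat 2, Int.ofNat 2, Int.ofNat 0, Int.ofNat 0, Int.negSucc 1, Int.ofNat 0, Int.ofNat 0, Int.ofNat 2, Int.ofNat 0, Int.ofNat 2, Int.ofNat 0, Int.ofNat 0, Int.ofNat 0, Int.ofNat 0, Int.ofNat 0, Int.ofNat 0],
  [Int.ofNat 0, Int.ofNat 0, Int.ofNat 0, Int.ofNat 0, Int.ofNat 0, Int.ofNat 2, Int.ofNat 2, Int.negSucc 1, Int.ofNat 2, Int.negSucc 1, Int.ofNat 0, Int.ofNat 0, Int.negSucc 1, Int.ofNat 0, Int.ofNat 0, Int.negSucc 1, Int.ofNat 0, Int.ofNat 2, Int.ofNat 0, Int.ofNat 0, Int.ofNat 0, Int.ofNat 0, Int.ofNat 0, Int.ofNat 0],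
  [Int.ofNat 0, Int.ofNat 0, Int.ofNat 0, Int.negSucc 1, Int.ofNat 0, Int.ofNat 0, Int.ofNat 2, Int.negSucc 1, Int.ofNat 2, Int.ofNat 0, Int.ofNat 2, Int.ofNat 0, Int.negSucc 1, Int.ofNat 0, Int.negSucc 1, Int.ofNat 0, Int.ofNat 0, Int.ofNat 0, Int.ofNat 0, Int.ofNat 0, Int.ofNat 2, Int.ofNat 0, Int.ofNat 0, Int.ofNat 0],
  [Int.ofNat 0, Int.ofNat 0, Int.ofNat 2, Int.negSucc 1, Int.ofNat 0, Int.ofNat 0, Int.ofNat 0, Int.ofNat 0, Int.ofNat 0, Int.negSucc 1, Int.negSucc 1, Int.ofNat 0, Int.ofNat 2, Int.ofNat 0, Int.ofNat 0, Int.ofNat 0, Int.ofNat 0, Int.ofNat 0, Int.ofNat 0, Int.ofNat 0, Int.ofNat 2, Int.ofNat 2, Int.negSucc 1, Int.ofNat 0],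
  [Int.ofNat 1, Int.ofNat 1, Int.negSucc 0, Int.negSucc 0, Int.ofNat 1, Int.ofNat 1, Int.negSucc 0, Int.negSucc 0, Int.negSucc 0, Int.negSucc 0, Int.negSucc 0, Int.negSucc 0, Int.ofNat 1, Int.ofNat 1, Int.ofNat 1, Int.ofNat 1, Int.ofNat 1, Int.ofNat 1, Int.negSucc 0, Int.negSucc 0, Int.ofNat 3, Int.ofNat 1, Int.negSucc 0, Int.ofNat 1],
  [Int.ofNat 3, Int.ofNat 1, Int.negSucc 0, Int.ofNat 1, Int.ofNat 1, Int.negSucc 0, Int.negSucc 0, Int.ofNat 1, Int.ofNat 1, Int.negSucc 0, Int.negSucc 0, Int.negSucc 0, Int.negSucc 0, Int.negSucc 0, Int.negSucc 0, Int.ofNat 1, Int.ofNat 1, Int.ofNat 1, Int.ofNat 1, Int.ofNat 1, Int.ofNat 1, Int.negSucc 0, Int.negSucc 0, Int.ofNat 1],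
  [Int.negSucc 0, Int.ofNat 1, Int.ofNat 3, Int.ofNat 1, Int.ofNat 1, Int.negSucc 0, Int.negSucc 0, Int.ofNat 1, Int.ofNat 1, Int.negSucc 0, Int.negSucc 0, Int.negSucc 0, Int.negSucc 0, Int.negSucc 0, Int.negSucc 0, Int.ofNat 1, Int.ofNat 1, Int.ofNat 1, Int.ofNat 1, Int.ofNat 1, Int.ofNat 1, Int.negSucc 0, Int.negSucc 0, Int.ofNat 1],
  [Int.ofNat 1, Int.ofNat 3, Int.ofNat 1, Int.ofNat 1, Int.negSucc 0, Int.negSucc 0, Int.ofNat 1, Int.ofNat 1, Int.negSucc 0, Int.negSucc 0, Int.negSucc 0, Int.negSucc 0, Int.negSucc 0, Int.negSucc 0, Int.ofNat 1, Int.ofNat 1, Int.ofNat 1, Int.ofNat 1, Int.ofNat 1, Int.ofNat 1, Int.negSucc 0, Int.negSucc 0, Int.negSucc 0, Int.ofNat 1],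
  [Int.negSucc 0, Int.ofNat 3, Int.negSucc 0, Int.ofNat 1, Int.negSucc 0, Int.negSucc 0, Int.ofNat 1, Int.negSucc 0, Int.negSucc 0, Int.ofNat 1, Int.ofNat 1, Int.ofNat 1, Int.negSucc 0, Int.negSucc 0, Int.ofNat 1, Int.ofNat 1, Int.ofNat 1, Int.ofNat 1, Int.negSucc 0, Int.ofNat 1, Int.negSucc 0, Int.ofNat 1, Int.negSucc 0, Int.ofNat 1],
  [Int.negSucc 0, Int.negSucc 0, Int.negSucc 0, Int.ofNat 1, Int.ofNat 3, Int.ofNat 1, Int.negSucc 0, Int.negSucc 0, Int.ofNat 1, Int.ofNat 1, Int.ofNat 1, Int.ofNat 1, Int.negSucc 0, Int.negSucc 0, Int.ofNat 1, Int.ofNat 1, Int.negSucc 0, Int.negSucc 0, Int.ofNat 1, Int.ofNat 1, Int.negSucc 0, Int.negSucc 0, Int.ofNat 1, Int.ofNat 1],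
  [Int.ofNat 1, Int.negSucc 0, Int.ofNat 1, Int.ofNat 1, Int.ofNat 3, Int.ofNat 1, Int.negSucc 0, Int.ofNat 1, Int.ofNat 1, Int.negSucc 0, Int.negSucc 0, Int.negSucc 0, Int.negSucc 0, Int.negSucc 0, Int.ofNat 1, Int.ofNat 1, Int.negSucc 0, Int.negSucc 0, Int.negSucc 0, Int.ofNat 1, Int.negSucc 0, Int.ofNat 1, Int.ofNat 1, Int.ofNat 1],
  [Int.ofNat 1, Int.ofNat 1, Int.negSucc 0, Int.ofNat 1, Int.ofNat 1, Int.ofNat 3, Int.ofNat 1, Int.negSucc 0, Int.ofNat 1, Int.ofNat 1, Int.negSucc 0, Int.negSucc 0, Int.negSucc 0, Int.negSucc 0, Int.negSucc 0, Int.ofNat 1, Int.ofNat 1, Int.negSucc 0, Int.negSucc 0, Int.negSucc 0, Int.ofNat 1, Int.negSucc 0, Int.ofNat 1, Int.ofNat 1],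
  [Int.ofNat 0, Int.ofNat 0, Int.ofNat 2, Int.ofNat 0, Int.ofNat 0, Int.ofNat 2, Int.ofNat 2, Int.ofNat 0, Int.ofNat 2, Int.ofNat 0, Int.negSucc 1, Int.ofNat 0, Int.ofNat 0, Int.negSucc 1, Int.negSucc 1, Int.ofNat 0, Int.ofNat 0, Int.negSucc 1, Int.ofNat 0, Int.ofNat 0, Int.ofNat 0, Int.ofNat 0, Int.ofNat 0, Int.ofNat 0],
  [Int.ofNat 0, Int.ofNat 0, Int.ofNat 2, Int.ofNat 2, Int.ofNat 0, Int.ofNat 2, Int.ofNat 0, Int.negSucc 1, Int.ofNat 0, Int.ofNat 0, Int.negSucc 1, Int.negSucc 1, Int.ofNat 0, Int.ofNat 0, Int.negSucc 1, Int.ofNat 0, Int.ofNat 0, Int.ofNat 0, Int.ofNat 0, Int.ofNat 0, Int.ofNat 0, Int.ofNat 0, Int.ofNat 2, Int.ofNat 0],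
  [Int.ofNat 1, Int.ofNat 1, Int.negSucc 0, Int.ofNat 1, Int.negSucc 0, Int.ofNat 1, Int.ofNat 1, Int.negSucc 0, Int.ofNat 1, Int.ofNat 1, Int.negSucc 0, Int.negSucc 0, Int.ofNat 1, Int.negSucc 0, Int.negSucc 2, Int.ofNat 1, Int.negSucc 0, Int.negSucc 0, Int.ofNat 1, Int.ofNat 1, Int.ofNat 1, Int.ofNat 1, Int.ofNat 1, Int.ofNat 1],
  [Int.ofNat 1, Int.ofNat 1, Int.negSucc 0, Int.ofNat 1, Int.ofNat 1, Int.negSucc 0, Int.negSucc 0, Int.negSucc 0, Int.ofNat 1, Int.negSucc 0, Int.ofNat 1, Int.negSucc 0, Int.ofNat 1, Int.negSucc 0, Int.ofNat 1, Int.ofNat 1, Int.ofNat 1, Int.negSucc 2, Int.ofNat 1, Int.negSucc 0, Int.ofNat 1, Int.ofNat 1, Int.ofNat 1, Int.ofNat 1],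
  [Int.ofNat 0, Int.ofNat 0, Int.ofNat 2, Int.ofNat 2, Int.ofNat 0, Int.ofNat 0, Int.ofNat 0, Int.ofNat 0, Int.ofNat 0, Int.negSucc 1, Int.ofNat 0, Int.negSucc 1, Int.ofNat 0, Int.negSucc 1, Int.ofNat 2, Int.ofNat 0, Int.ofNat 0, Int.negSucc 1, Int.ofNat 0, Int.ofNat 0, Int.ofNat 0, Int.ofNat 2, Int.ofNat 0, Int.ofNat 0],
  [Int.ofNat 0, Int.ofNat 0, Int.negSucc 1, Int.ofNat 2, Int.ofNat 0, Int.ofNat 0, Int.ofNat 0, Int.ofNat 0, Int.ofNat 0, Int.ofNat 2, Int.ofNat 0, Int.negSucc 1, Int.ofNat 0, Int.negSucc 1, Int.ofNat 2, Int.ofNat 0, Int.ofNat 0, Int.negSucc 1, Int.ofNat 0, Int.ofNat 0, Int.ofNat 0, Int.ofNat 2, Int.ofNat 0, Int.ofNat 0],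
  [Int.ofNat 0, Int.ofNat 0, Int.negSucc 1, Int.ofNat 0, Int.ofNat 2, Int.ofNat 0, Int.ofNat 2, Int.ofNat 2, Int.ofNat 0, Int.ofNat 0, Int.negSucc 1, Int.ofNat 0, Int.ofNat 0, Int.ofNat 0, Int.negSucc 1, Int.ofNat 0, Int.ofNat 0, Int.ofNat 0, Int.ofNat 2, Int.negSucc 1, Int.ofNat 0, Int.ofNat 0, Int.ofNat 0, Int.ofNat 0],
  [Int.ofNat 0, Int.ofNat 0, Int.ofNat 2, Int.ofNat 0, Int.negSucc 1, Int.ofNat 0, Int.negSucc 1, Int.ofNat 2, Int.ofNat 0, Int.ofNat 0, Int.negSucc 1, Int.ofNat 0, Int.ofNat 0, Int.ofNat 0, Int.negSucc 1, Int.ofNat 0, Int.ofNat 0, Int.ofNat 0, Int.negSucc 1, Int.negSucc 1, Int.ofNat 0, Int.ofNat 0, Int.ofNat 0, Int.ofNat 0],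
  [Int.ofNat 0, Int.ofNat 0, Int.ofNat 0, Int.ofNat 0, Int.ofNat 0, Int.ofNat 0, Int.negSucc 1, Int.ofNat 0, Int.ofNat 0, Int.ofNat 0, Int.ofNat 0, Int.ofNat 2, Int.ofNat 0, Int.ofNat 2, Int.negSucc 1, Int.ofNat 0, Int.negSucc 1, Int.negSucc 1, Int.negSucc 1, Int.negSucc 1, Int.ofNat 0, Int.ofNat 0, Int.ofNat 0, Int.ofNat 0],
  [Int.ofNat 0, Int.ofNat 0, Int.ofNat 0, Int.ofNat 0, Int.ofNat 0, Int.ofNat 0, Int.negSucc 1, Int.ofNat 0, Int.ofNat 0, Int.ofNat 0, Int.ofNat 0, Int.negSucc 1, Int.ofNat 0, Int.ofNat 2, Int.negSucc 1, Int.ofNat 0, Int.negSucc 1, Int.negSucc 1, Int.ofNat 2, Int.negSucc 1, Int.ofNat 0, Int.ofNat 0, Int.ofNat 0, Int.ofNat 0],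
  [Int.ofNat 0, Int.ofNat 0, Int.ofNat 0, Int.ofNat 0, Int.ofNat 0, Int.ofNat 0, Int.ofNat 0, Int.negSucc 1, Int.ofNat 0, Int.ofNat 0, Int.ofNat 0, Int.ofNat 0, Int.negSucc 1, Int.ofNat 0, Int.ofNat 2, Int.negSucc 1, Int.ofNat 0, Int.negSucc 1, Int.negSucc 1, Int.ofNat 2, Int.negSucc 1, Int.ofNat 0, Int.ofNat 0, Int.ofNat 0],
  [Int.ofNat 0, Int.ofNat 0, Int.ofNat 0, Int.ofNat 0, Int.ofNat 0, Int.ofNat 0, Int.ofNat 0, Int.negSucc 1, Int.ofNat 2, Int.ofNat 2, Int.ofNat 2, Int.ofNat 2, Int.ofNat 0, Int.ofNat 0, Int.ofNat 2, Int.ofNat 0, Int.ofNat 0, Int.negSucc 1, Int.ofNat 0, Int.ofNat 2, Int.ofNat 0, Int.ofNat 0, Int.ofNat 0, Int.ofNat 0],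
  [Int.ofNat 0, Int.ofNat 0, Int.ofNat 0, Int.ofNat 0, Int.negSucc 1, Int.ofNat 2, Int.ofNat 2, Int.ofNat 2, Int.ofNat 2, Int.ofNat 0, Int.ofNat 0, Int.ofNat 2, Int.ofNat 0, Int.ofNat 0, Int.negSucc 1, Int.ofNat 0, Int.ofNat 2, Int.ofNat 0, Int.ofNat 0, Int.ofNat 0, Int.ofNat 0, Int.ofNat 0, Int.ofNat 0, Int.ofNat 0],
  [Int.ofNat 0, Int.ofNat 0, Int.ofNat 0, Int.ofNat 0, Int.negSucc 1, Int.ofNat 2, Int.ofNat 0, Int.ofNat 0, Int.ofNat 0, Int.ofNat 0, Int.ofNat 0, Int.ofNat 0, Int.negSucc 1, Int.ofNat 0, Int.negSucc 1, Int.ofNat 0, Int.ofNat 2, Int.ofNat 0, Int.negSucc 1, Int.negSucc 1, Int.ofNat 0, Int.negSucc 1, Int.ofNat 0, Int.ofNat 0],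
  [Int.ofNat 0, Int.ofNat 0, Int.negSucc 1, Int.ofNat 0, Int.negSucc 1, Int.ofNat 0, Int.ofNat 0, Int.ofNat 0, Int.negSucc 1, Int.ofNat 0, Int.ofNat 0, Int.ofNat 0, Int.ofNat 0, Int.ofNat 2, Int.ofNat 0, Int.ofNat 0, Int.ofNat 0, Int.negSucc 1, Int.ofNat 0, Int.ofNat 0, Int.negSucc 1, Int.ofNat 2, Int.negSucc 1, Int.ofNat 0],
  [Int.negSucc 0, Int.negSucc 0, Int.ofNat 1, Int.ofNat 1, Int.negSucc 0, Int.ofNat 1, Int.negSucc 0, Int.negSucc 0, Int.negSucc 0, Int.ofNat 1, Int.ofNat 1, Int.ofNat 1, Int.ofNat 1, Int.ofNat 3, Int.ofNat 1, Int.ofNat 1, Int.ofNat 1, Int.negSucc 0, Int.ofNat 1, Int.negSucc 0, Int.negSucc 0, Int.ofNat 1, Int.negSucc 0, Int.negSucc 0],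
  [Int.negSucc 0, Int.negSucc 0, Int.negSucc 0, Int.ofNat 1, Int.negSucc 0, Int.negSucc 0, Int.ofNat 1, Int.negSucc 0, Int.negSucc 0, Int.negSucc 0, Int.negSucc 0, Int.ofNat 1, Int.ofNat 1, Int.ofNat 3, Int.ofNat 1, Int.negSucc 0, Int.ofNat 1, Int.negSucc 0, Int.negSucc 0, Int.negSucc 0, Int.negSucc 0, Int.ofNat 1, Int.ofNat 1, Int.negSucc 0],
  [Int.negSucc 0, Int.negSucc 0, Int.ofNat 1, Int.negSucc 0, Int.ofNat 1, Int.negSucc 0, Int.negSucc 0, Int.ofNat 1, Int.negSucc 0, Int.ofNat 1, Int.negSucc 0, Int.negSucc 0, Int.ofNat 1, Int.negSucc 0, Int.negSucc 0, Int.negSucc 0, Int.negSucc 0, Int.ofNat 1, Int.negSucc 0, Int.ofNat 1, Int.negSucc 0, Int.ofNat 1, Int.ofNat 3, Int.negSucc 0],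
  [Int.negSucc 0, Int.negSucc 0, Int.negSucc 0, Int.negSucc 0, Int.ofNat 1, Int.ofNat 1, Int.ofNat 1, Int.ofNat 1, Int.negSucc 0, Int.negSucc 0, Int.ofNat 1, Int.negSucc 0, Int.ofNat 1, Int.negSucc 0, Int.negSucc 0, Int.ofNat 1, Int.negSucc 0, Int.ofNat 1, Int.ofNat 1, Int.ofNat 1, Int.negSucc 0, Int.ofNat 1, Int.negSucc 2, Int.negSucc 0],
  [Int.negSucc 0, Int.negSucc 0, Int.negSucc 0, Int.negSucc 0, Int.ofNat 3, Int.ofNat 1, Int.negSucc 0, Int.negSucc 0, Int.negSucc 0, Int.negSucc 0, Int.ofNat 1, Int.negSucc 0, Int.ofNat 1, Int.ofNat 1, Int.negSucc 0, Int.ofNat 1, Int.ofNat 1, Int.ofNat 1, Int.ofNat 1, Int.negSucc 0, Int.negSucc 0, Int.negSucc 0, Int.negSucc 0, Int.negSucc 0],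
  [Int.negSucc 0, Int.ofNat 1, Int.negSucc 0, Int.negSucc 0, Int.negSucc 0, Int.negSucc 0, Int.negSucc 0, Int.ofNat 1, Int.ofNat 1, Int.ofNat 1, Int.negSucc 0, Int.negSucc 0, Int.negSucc 0, Int.negSucc 0, Int.ofNat 1, Int.ofNat 1, Int.ofNat 1, Int.negSucc 0, Int.ofNat 3, Int.negSucc 0, Int.ofNat 1, Int.negSucc 0, Int.negSucc 0, Int.negSucc 0],
  [Int.ofNat 0, Int.negSucc 1, Int.ofNat 0, Int.ofNat 0, Int.ofNat 0, Int.ofNat 0, Int.ofNat 0, Int.ofNat 2, Int.ofNat 0, Int.ofNat 0, Int.negSucc 1, Int.negSucc 1, Int.negSucc 1, Int.ofNat 0, Int.ofNat 2, Int.ofNat 0, Int.ofNat 2, Int.ofNat 0, Int.ofNat 2, Int.ofNat 0, Int.ofNat 0, Int.ofNat 0, Int.ofNat 0, Int.ofNat 0],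
  [Int.ofNat 0, Int.ofNat 0, Int.ofNat 0, Int.ofNat 0, Int.negSucc 1, Int.ofNat 0, Int.ofNat 0, Int.ofNat 0, Int.ofNat 0, Int.ofNat 0, Int.ofNat 2, Int.ofNat 0, Int.ofNat 0, Int.negSucc 1, Int.negSucc 1, Int.negSucc 1, Int.ofNat 0, Int.ofNat 2, Int.ofNat 0, Int.ofNat 2, Int.ofNat 0, Int.ofNat 2, Int.ofNat 0, Int.ofNat 0],
  [Int.ofNat 0, Int.ofNat 0, Int.ofNat 0, Int.ofNat 0, Int.ofNat 0, Int.ofNat 0, Int.negSucc 1, Int.negSucc 1, Int.ofNat 0, Int.ofNat 0, Int.ofNat 2, Int.ofNat 0, Int.ofNat 0, Int.ofNat 0, Int.negSucc 1, Int.negSucc 1, Int.ofNat 2, Int.ofNat 2, Int.ofNat 0, Int.ofNat 0, Int.ofNat 0, Int.ofNat 0, Int.ofNat 2, Int.ofNat 0],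
  [Int.ofNat 0, Int.ofNat 0, Int.ofNat 0, Int.ofNat 0, Int.ofNat 0, Int.negSucc 1, Int.negSucc 1, Int.ofNat 0, Int.ofNat 0, Int.ofNat 2, Int.ofNat 0, Int.ofNat 0, Int.ofNat 0, Int.negSucc 1, Int.negSucc 1, Int.ofNat 2, Int.ofNat 2, Int.ofNat 0, Int.ofNat 0, Int.ofNat 0, Int.ofNat 0, Int.ofNat 2, Int.ofNat 0, Int.ofNat 0],
  [Int.ofNat 0, Int.ofNat 0, Int.ofNat 0, Int.ofNat 0, Int.ofNat 0, Int.negSucc 1, Int.negSucc 1, Int.ofNat 0, Int.ofNat 0, Int.negSucc 1, Int.ofNat 0, Int.ofNat 0, Int.ofNat 0, Int.negSucc 1, Int.negSucc 1, Int.ofNat 2, Int.ofNat 2, Int.ofNat 0, Int.ofNat 0, Int.ofNat 0, Int.ofNat 0, Int.negSucc 1, Int.ofNat 0, Int.ofNat 0],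
  [Int.ofNat 0, Int.ofNat 0, Int.ofNat 0, Int.ofNat 0, Int.ofNat 0, Int.ofNat 0, Int.ofNat 0, Int.ofNat 0, Int.negSucc 1, Int.ofNat 2, Int.negSucc 1, Int.negSucc 1, Int.negSucc 1, Int.ofNat 0, Int.ofNat 0, Int.ofNat 2, Int.ofNat 0, Int.ofNat 0, Int.negSucc 1, Int.ofNat 0, Int.negSucc 1, Int.ofNat 0, Int.ofNat 0, Int.ofNat 0],
  [Int.ofNat 0, Int.ofNat 0, Int.ofNat 0, Int.ofNat 0, Int.ofNat 0, Int.ofNat 0, Int.ofNat 0, Int.ofNat 0, Int.negSucc 1, Int.negSucc 1, Int.ofNat 2, Int.ofNat 2, Int.negSucc 1, Int.ofNat 0, Int.ofNat 0, Int.ofNat 2, Int.ofNat 0, Int.ofNat 0, Int.ofNat 2, Int.ofNat 0, Int.negSucc 1, Int.ofNat 0, Int.ofNat 0, Int.ofNat 0],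
  [Int.ofNat 0, Int.ofNat 0, Int.ofNat 0, Int.ofNat 0, Int.ofNat 0, Int.ofNat 0, Int.ofNat 0, Int.ofNat 0, Int.ofNat 0, Int.negSucc 1, Int.negSucc 1, Int.ofNat 2, Int.ofNat 2, Int.negSucc 1, Int.ofNat 0, Int.ofNat 0, Int.ofNat 2, Int.ofNat 0, Int.ofNat 0, Int.ofNat 2, Int.ofNat 0, Int.negSucc 1, Int.ofNat 0, Int.ofNat 0],
  [Int.ofNat 0, Int.ofNat 0, Int.ofNat 0, Int.ofNat 0, Int.ofNat 0, Int.ofNat 0, Int.ofNat 0, Int.ofNat 0, Int.negSucc 1, Int.ofNat 0, Int.ofNat 0, Int.ofNat 0, Int.ofNat 0, Int.negSucc 1, Int.ofNat 0, Int.ofNat 2, Int.ofNat 2, Int.ofNat 0, Int.negSucc 1, Int.ofNat 2, Int.ofNat 2, Int.negSucc 1, Int.ofNat 0, Int.ofNat 0],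
  [Int.ofNat 0, Int.ofNat 0, Int.ofNat 0, Int.ofNat 0, Int.ofNat 0, Int.negSucc 1, Int.ofNat 0, Int.ofNat 0, Int.ofNat 0, Int.ofNat 0, Int.negSucc 1, Int.ofNat 0, Int.ofNat 2, Int.ofNat 2, Int.ofNat 0, Int.negSucc 1, Int.ofNat 2, Int.ofNat 2, Int.negSucc 1, Int.ofNat 0, Int.ofNat 0, Int.ofNat 0, Int.ofNat 0, Int.ofNat 0],
  [Int.ofNat 0, Int.ofNat 0, Int.ofNat 0, Int.ofNat 0, Int.negSucc 1, Int.negSucc 1, Int.ofNat 0, Int.ofNat 0, Int.ofNat 0, Int.ofNat 2, Int.ofNat 0, Int.ofNat 0, Int.ofNat 2, Int.ofNat 0, Int.ofNat 0, Int.ofNat 0, Int.ofNat 0, Int.ofNat 2, Int.negSucc 1, Int.ofNat 0, Int.ofNat 2, Int.ofNat 0, Int.negSucc 1, Int.ofNat 0],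
  [Int.ofNat 0, Int.ofNat 0, Int.negSucc 1, Int.ofNat 0, Int.negSucc 1, Int.ofNat 0, Int.ofNat 0, Int.ofNat 0, Int.ofNat 2, Int.ofNat 0, Int.ofNat 2, Int.ofNat 2, Int.ofNat 2, Int.ofNat 0, Int.negSucc 1, Int.ofNat 0, Int.ofNat 0, Int.ofNat 0, Int.ofNat 0, Int.ofNat 0, Int.ofNat 0, Int.negSucc 1, Int.ofNat 0, Int.ofNat 0],
  [Int.negSucc 0, Int.negSucc 0, Int.ofNat 1, Int.ofNat 1, Int.negSucc 0, Int.ofNat 1, Int.ofNat 1, Int.ofNat 1, Int.negSucc 0, Int.negSucc 0, Int.ofNat 1, Int.negSucc 0, Int.negSucc 0, Int.ofNat 1, Int.negSucc 0, Int.negSucc 0, Int.ofNat 1, Int.ofNat 1, Int.negSucc 2, Int.ofNat 1, Int.negSucc 0, Int.negSucc 0, Int.ofNat 1, Int.negSucc 0],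
  [Int.negSucc 0, Int.negSucc 0, Int.negSucc 0, Int.ofNat 1, Int.negSucc 0, Int.negSucc 0, Int.negSucc 0, Int.ofNat 1, Int.negSucc 0, Int.ofNat 1, Int.negSucc 0, Int.negSucc 0, Int.negSucc 0, Int.ofNat 1, Int.negSucc 0, Int.ofNat 1, Int.ofNat 1, Int.ofNat 1, Int.ofNat 3, Int.ofNat 1, Int.negSucc 0, Int.negSucc 0, Int.negSucc 0, Int.negSucc 0],
  [Int.negSucc 0, Int.ofNat 1, Int.negSucc 0, Int.negSucc 0, Int.negSucc 0, Int.negSucc 0, Int.negSucc 0, Int.ofNat 1, Int.negSucc 0, Int.negSucc 0, Int.ofNat 1, Int.ofNat 1, Int.ofNat 1, Int.negSucc 0, Int.ofNat 1, Int.ofNat 3, Int.ofNat 1, Int.negSucc 0, Int.ofNat 1, Int.negSucc 0, Int.negSucc 0, Int.negSucc 0, Int.negSucc 0, Int.negSucc 0],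
  [Int.ofNat 1, Int.negSucc 0, Int.ofNat 1, Int.ofNat 1, Int.ofNat 1, Int.negSucc 0, Int.ofNat 1, Int.ofNat 1, Int.ofNat 1, Int.ofNat 1, Int.ofNat 1, Int.ofNat 1, Int.negSucc 0, Int.ofNat 1, Int.ofNat 1, Int.ofNat 3, Int.negSucc 0, Int.negSucc 0, Int.negSucc 0, Int.negSucc 0, Int.negSucc 0, Int.negSucc 0, Int.negSucc 0, Int.negSucc 0],
  [Int.negSucc 0, Int.negSucc 0, Int.ofNat 1, Int.ofNat 3, Int.negSucc 0, Int.ofNat 1, Int.negSucc 0, Int.ofNat 1, Int.negSucc 0, Int.negSucc 0, Int.negSucc 0, Int.ofNat 1, Int.negSucc 0, Int.ofNat 1, Int.negSucc 0, Int.ofNat 1, Int.ofNat 1, Int.ofNat 1, Int.ofNat 1, Int.ofNat 1, Int.ofNat 1, Int.negSucc 0, Int.negSucc 0, Int.ofNat 1],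
  [Int.ofNat 1, Int.negSucc 0, Int.negSucc 0, Int.ofNat 3, Int.negSucc 0, Int.ofNat 1, Int.negSucc 0, Int.negSucc 0, Int.negSucc 0, Int.ofNat 1, Int.ofNat 1, Int.negSucc 0, Int.negSucc 0, Int.ofNat 1, Int.negSucc 0, Int.ofNat 1, Int.ofNat 1, Int.ofNat 1, Int.negSucc 0, Int.ofNat 1, Int.ofNat 1, Int.ofNat 1, Int.negSucc 0, Int.ofNat 1],
  [Int.negSucc 0, Int.ofNat 1, Int.negSucc 0, Int.negSucc 0, Int.ofNat 3, Int.negSucc 0, Int.ofNat 1, Int.negSucc 0, Int.negSucc 0, Int.negSucc 0, Int.ofNat 1, Int.ofNat 1, Int.negSucc 0, Int.negSucc 0, Int.ofNat 1, Int.negSucc 0, Int.ofNat 1, Int.ofNat 1, Int.ofNat 1, Int.negSucc 0, Int.ofNat 1, Int.ofNat 1, Int.ofNat 1, Int.ofNat 1],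
  [Int.ofNat 1, Int.negSucc 0, Int.ofNat 1, Int.negSucc 0, Int.ofNat 1, Int.negSucc 0, Int.ofNat 1, Int.negSucc 0, Int.negSucc 0, Int.negSucc 0, Int.ofNat 1, Int.ofNat 1, Int.negSucc 0, Int.negSucc 2, Int.ofNat 1, Int.negSucc 0, Int.negSucc 0, Int.ofNat 1, Int.ofNat 1, Int.negSucc 0, Int.ofNat 1, Int.ofNat 1, Int.negSucc 0, Int.negSucc 0],
  [Int.negSucc 0, Int.ofNat 1, Int.negSucc 0, Int.ofNat 1, Int.negSucc 0, Int.negSucc 0, Int.negSucc 0, Int.ofNat 1, Int.ofNat 1, Int.negSucc 0, Int.negSucc 2, Int.ofNat 1, Int.negSucc 0, Int.negSucc 0, Int.ofNat 1, Int.ofNat 1, Int.negSucc 0, Int.ofNat 1, Int.ofNat 1, Int.negSucc 0, Int.ofNat 1, Int.negSucc 0, Int.ofNat 1, Int.negSucc 0],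
  [Int.ofNat 0, Int.negSucc 1, Int.ofNat 0, Int.ofNat 0, Int.ofNat 0, Int.negSucc 1, Int.ofNat 0, Int.ofNat 2, Int.ofNat 0, Int.ofNat 0, Int.negSucc 1, Int.ofNat 0, Int.negSucc 1, Int.ofNat 0, Int.ofNat 0, Int.ofNat 2, Int.ofNat 0, Int.ofNat 0, Int.ofNat 0, Int.ofNat 0, Int.ofNat 2, Int.ofNat 0, Int.ofNat 2, Int.ofNat 0],
  [Int.ofNat 0, Int.ofNat 0, Int.ofNat 0, Int.ofNat 0, Int.ofNat 0, Int.ofNat 2, Int.ofNat 0, Int.negSucc 1, Int.negSucc 1, Int.ofNat 0, Int.ofNat 2, Int.ofNat 0, Int.ofNat 0, Int.ofNat 0, Int.ofNat 2, Int.ofNat 2, Int.ofNat 0, Int.ofNat 0, Int.negSucc 1, Int.ofNat 0, Int.ofNat 0, Int.negSucc 1, Int.ofNat 0, Int.ofNat 0],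
  [Int.ofNat 0, Int.ofNat 0, Int.ofNat 0, Int.negSucc 1, Int.ofNat 0, Int.ofNat 0, Int.ofNat 2, Int.ofNat 0, Int.ofNat 0, Int.negSucc 1, Int.ofNat 0, Int.ofNat 2, Int.ofNat 2, Int.ofNat 0, Int.ofNat 0, Int.ofNat 0, Int.ofNat 0, Int.negSucc 1, Int.ofNat 0, Int.ofNat 2, Int.negSucc 1, Int.ofNat 0, Int.ofNat 0, Int.ofNat 0],
  [Int.ofNat 0, Int.ofNat 0, Int.ofNat 0, Int.negSucc 1, Int.ofNat 0, Int.ofNat 0, Int.negSucc 1, Int.ofNat 0, Int.ofNat 0, Int.ofNat 2, Int.ofNat 0, Int.ofNat 2, Int.ofNat 2, Int.ofNat 0, Int.ofNat 0, Int.ofNat 0, Int.ofNat 0, Int.negSucc 1, Int.ofNat 0, Int.ofNat 2, Int.negSucc 1, Int.ofNat 0, Int.ofNat 0, Int.ofNat 0],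
  [Int.ofNat 0, Int.negSucc 1, Int.negSucc 1, Int.ofNat 2, Int.ofNat 0, Int.ofNat 0, Int.ofNat 2, Int.ofNat 0, Int.negSucc 1, Int.ofNat 0, Int.ofNat 0, Int.ofNat 0, Int.negSucc 1, Int.ofNat 0, Int.ofNat 0, Int.ofNat 0, Int.ofNat 0, Int.ofNat 2, Int.ofNat 0, Int.ofNat 0, Int.ofNat 0, Int.ofNat 2, Int.ofNat 0, Int.ofNat 0],
  [Int.ofNat 0, Int.negSucc 1, Int.ofNat 2, Int.ofNat 2, Int.ofNat 0, Int.ofNat 0, Int.negSucc 1, Int.ofNat 0, Int.negSucc 1, Int.ofNat 0, Int.ofNat 0, Int.ofNat 0, Int.negSucc 1, Int.ofNat 0, Int.ofNat 0, Int.ofNat 0, Int.ofNat 0, Int.ofNat 2, Int.ofNat 0, Int.ofNat 0, Int.ofNat 0, Int.ofNat 2, Int.ofNat 0, Int.ofNat 0],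
  [Int.ofNat 0, Int.ofNat 2, Int.negSucc 1, Int.ofNat 0, Int.ofNat 0, Int.negSucc 1, Int.negSucc 1, Int.ofNat 0, Int.ofNat 0, Int.ofNat 0, Int.ofNat 0, Int.ofNat 2, Int.ofNat 0, Int.ofNat 0, Int.negSucc 1, Int.ofNat 0, Int.ofNat 0, Int.ofNat 0, Int.ofNat 2, Int.ofNat 0, Int.ofNat 0, Int.ofNat 2, Int.ofNat 0, Int.ofNat 0],
  [Int.ofNat 0, Int.ofNat 2, Int.negSucc 1, Int.ofNat 0, Int.negSucc 1, Int.ofNat 2, Int.ofNat 2, Int.negSucc 1, Int.ofNat 0, Int.ofNat 0, Int.ofNat 0, Int.ofNat 0, Int.ofNat 0, Int.ofNat 0, Int.ofNat 0, Int.ofNat 0, Int.ofNat 0, Int.ofNat 2, Int.ofNat 0, Int.ofNat 0, Int.ofNat 0, Int.ofNat 0, Int.negSucc 1, Int.ofNat 0],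
  [Int.ofNat 0, Int.negSucc 1, Int.ofNat 2, Int.negSucc 1, Int.ofNat 0, Int.ofNat 0, Int.ofNat 2, Int.negSucc 1, Int.ofNat 0, Int.ofNat 0, Int.ofNat 0, Int.ofNat 0, Int.ofNat 0, Int.ofNat 2, Int.negSucc 1, Int.ofNat 0, Int.ofNat 2, Int.ofNat 0, Int.ofNat 0, Int.ofNat 0, Int.ofNat 0, Int.ofNat 0, Int.ofNat 0, Int.ofNat 0],
  [Int.ofNat 0, Int.ofNat 0, Int.ofNat 0, Int.ofNat 0, Int.negSucc 1, Int.ofNat 2, Int.negSucc 1, Int.ofNat 0, Int.ofNat 0, Int.ofNat 2, Int.negSucc 1, Int.ofNat 0, Int.ofNat 0, Int.ofNat 0, Int.ofNat 0, Int.ofNat 0, Int.ofNat 2, Int.negSucc 1, Int.ofNat 0, Int.ofNat 2, Int.ofNat 0, Int.ofNat 0, Int.ofNat 0, Int.ofNat 0],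
  [Int.ofNat 0, Int.ofNat 0, Int.ofNat 0, Int.ofNat 0, Int.negSucc 1, Int.ofNat 2, Int.negSucc 1, Int.ofNat 0, Int.ofNat 0, Int.ofNat 2, Int.negSucc 1, Int.ofNat 0, Int.ofNat 0, Int.ofNat 0, Int.ofNat 0, Int.ofNat 0, Int.ofNat 2, Int.negSucc 1, Int.ofNat 0, Int.ofNat 2, Int.ofNat 0, Int.ofNat 0, Int.ofNat 0, Int.ofNat 0],
  [Int.ofNat 0, Int.ofNat 0, Int.ofNat 0, Int.negSucc 1, Int.ofNat 2, Int.negSucc 1, Int.ofNat 0, Int.ofNat 0, Int.ofNat 2, Int.negSucc 1, Int.ofNat 0, Int.ofNat 0, Int.ofNat 0, Int.ofNat 0, Int.ofNat 0, Int.ofNat 2, Int.negSucc 1, Int.ofNat 0, Int.ofNat 2, Int.ofNat 0, Int.ofNat 0, Int.ofNat 0, Int.ofNat 0, Int.ofNat 0],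
  [Int.ofNat 0, Int.ofNat 0, Int.ofNat 0, Int.negSucc 1, Int.ofNat 2, Int.negSucc 1, Int.ofNat 0, Int.ofNat 0, Int.ofNat 2, Int.ofNat 2, Int.ofNat 0, Int.ofNat 0, Int.ofNat 0, Int.ofNat 0, Int.ofNat 0, Int.ofNat 2, Int.negSucc 1, Int.ofNat 0, Int.negSucc 1, Int.ofNat 0, Int.ofNat 0, Int.ofNat 0, Int.ofNat 0, Int.ofNat 0],
  [Int.ofNat 0, Int.ofNat 0, Int.negSucc 1, Int.negSucc 1, Int.ofNat 0, Int.ofNat 0, Int.ofNat 2, Int.ofNat 0, Int.ofNat 2, Int.negSucc 1, Int.ofNat 0, Int.ofNat 0, Int.ofNat 0, Int.ofNat 2, Int.ofNat 0, Int.ofNat 2, Int.ofNat 0, Int.ofNat 0, Int.ofNat 0, Int.ofNat 0, Int.negSucc 1, Int.ofNat 0, Int.ofNat 0, Int.ofNat 0],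
  [Int.ofNat 0, Int.ofNat 0, Int.ofNat 2, Int.negSucc 1, Int.ofNat 0, Int.ofNat 0, Int.ofNat 2, Int.ofNat 0, Int.ofNat 2, Int.ofNat 2, Int.ofNat 0, Int.ofNat 0, Int.ofNat 0, Int.ofNat 2, Int.ofNat 0, Int.ofNat 2, Int.ofNat 0, Int.ofNat 0, Int.ofNat 0, Int.ofNat 0, Int.negSucc 1, Int.ofNat 0, Int.ofNat 0, Int.ofNat 0],
  [Int.ofNat 0, Int.ofNat 0, Int.ofNat 0, Int.ofNat 2, Int.negSucc 1, Int.ofNat 0, Int.ofNat 0, Int.ofNat 2, Int.ofNat 0, Int.ofNat 2, Int.ofNat 2, Int.ofNat 0, Int.ofNat 0, Int.ofNat 0, Int.ofNat 2, Int.ofNat 0, Int.ofNat 2, Int.ofNat 0, Int.ofNat 0, Int.ofNat 0, Int.ofNat 0, Int.negSucc 1, Int.ofNat 0, Int.ofNat 0],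
  [Int.ofNat 0, Int.ofNat 0, Int.ofNat 0, Int.ofNat 0, Int.negSucc 1, Int.negSucc 1, Int.ofNat 0, Int.ofNat 2, Int.ofNat 0, Int.ofNat 0, Int.ofNat 0, Int.ofNat 0, Int.ofNat 0, Int.ofNat 0, Int.ofNat 0, Int.negSucc 1, Int.ofNat 2, Int.negSucc 1, Int.ofNat 0, Int.ofNat 0, Int.negSucc 1, Int.negSucc 1, Int.ofNat 0, Int.ofNat 0],
  [Int.ofNat 0, Int.negSucc 1, Int.negSucc 1, Int.ofNat 0, Int.ofNat 2, Int.ofNat 0, Int.ofNat 0, Int.ofNat 0, Int.ofNat 0, Int.ofNat 0, Int.ofNat 0, Int.ofNat 0, Int.negSucc 1, Int.ofNat 2, Int.negSucc 1, Int.ofNat 0, Int.ofNat 0, Int.negSucc 1, Int.negSucc 1, Int.ofNat 0, Int.ofNat 0, Int.ofNat 0, Int.ofNat 0, Int.ofNat 0],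
  [Int.negSucc 1, Int.ofNat 0, Int.ofNat 0, Int.ofNat 2, Int.ofNat 0, Int.ofNat 2, Int.ofNat 0, Int.ofNat 0, Int.ofNat 2, Int.ofNat 0, Int.ofNat 0, Int.ofNat 2, Int.ofNat 0, Int.ofNat 0, Int.ofNat 0, Int.ofNat 0, Int.negSucc 1, Int.ofNat 0, Int.ofNat 0, Int.ofNat 0, Int.ofNat 0, Int.ofNat 0, Int.negSucc 1, Int.negSucc 1],
  [Int.negSucc 1, Int.ofNat 0, Int.ofNat 0, Int.ofNat 2, Int.ofNat 0, Int.ofNat 0, Int.ofNat 0, Int.ofNat 0, Int.ofNat 0, Int.ofNat 0, Int.ofNat 0, Int.ofNat 0, Int.ofNat 0, Int.negSucc 1, Int.negSucc 1, Int.ofNat 0, Int.ofNat 2, Int.ofNat 0, Int.ofNat 0, Int.ofNat 2, Int.ofNat 0, Int.ofNat 2, Int.ofNat 0, Int.negSucc 1],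
  [Int.ofNat 0, Int.negSucc 1, Int.negSucc 1, Int.ofNat 2, Int.ofNat 0, Int.ofNat 0, Int.negSucc 1, Int.negSucc 1, Int.ofNat 0, Int.ofNat 0, Int.ofNat 0, Int.ofNat 0, Int.ofNat 0, Int.negSucc 1, Int.negSucc 1, Int.ofNat 0, Int.ofNat 2, Int.ofNat 0, Int.ofNat 0, Int.ofNat 0, Int.ofNat 0, Int.ofNat 0, Int.ofNat 0, Int.ofNat 0],
  [Int.ofNat 0, Int.negSucc 1, Int.ofNat 2, Int.ofNat 2, Int.ofNat 0, Int.ofNat 0, Int.ofNat 2, Int.negSucc 1, Int.ofNat 0, Int.ofNat 0, Int.ofNat 0, Int.ofNat 0, Int.ofNat 0, Int.negSucc 1, Int.negSucc 1, Int.ofNat 0, Int.ofNat 2, Int.ofNat 0, Int.ofNat 0, Int.ofNat 0, Int.ofNat 0, Int.ofNat 0, Int.ofNat 0, Int.ofNat 0],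
  [Int.ofNat 0, Int.ofNat 2, Int.ofNat 0, Int.ofNat 0, Int.negSucc 1, Int.ofNat 2, Int.ofNat 0, Int.ofNat 2, Int.ofNat 0, Int.ofNat 0, Int.negSucc 1, Int.negSucc 1, Int.ofNat 0, Int.ofNat 0, Int.ofNat 0, Int.ofNat 0, Int.ofNat 0, Int.ofNat 0, Int.ofNat 0, Int.ofNat 2, Int.ofNat 0, Int.negSucc 1, Int.ofNat 0, Int.ofNat 0],
  [Int.ofNat 0, Int.negSucc 1, Int.ofNat 0, Int.ofNat 0, Int.ofNat 2, Int.ofNat 2, Int.ofNat 0, Int.ofNat 2, Int.ofNat 0, Int.ofNat 0, Int.negSucc 1, Int.negSucc 1, Int.ofNat 0, Int.ofNat 0, Int.ofNat 0, Int.ofNat 0, Int.ofNat 0, Int.ofNat 0, Int.ofNat 0, Int.ofNat 2, Int.ofNat 0, Int.negSucc 1, Int.ofNat 0, Int.ofNat 0],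
  [Int.ofNat 0, Int.ofNat 0, Int.negSucc 1, Int.ofNat 0, Int.ofNat 0, Int.ofNat 0, Int.ofNat 2, Int.ofNat 0, Int.ofNat 0, Int.ofNat 2, Int.ofNat 0, Int.ofNat 0, Int.negSucc 1, Int.ofNat 2, Int.ofNat 0, Int.ofNat 0, Int.negSucc 1, Int.ofNat 2, Int.ofNat 0, Int.ofNat 0, Int.ofNat 0, Int.ofNat 0, Int.negSucc 1, Int.ofNat 0],
  [Int.ofNat 0, Int.ofNat 0, Int.ofNat 2, Int.ofNat 0, Int.ofNat 0, Int.ofNat 0, Int.ofNat 2, Int.ofNat 0, Int.ofNat 0, Int.negSucc 1, Int.ofNat 0, Int.ofNat 0, Int.negSucc 1, Int.ofNat 2, Int.ofNat 0, Int.ofNat 0, Int.negSucc 1, Int.ofNat 2, Int.ofNat 0, Int.ofNat 0, Int.ofNat 0, Int.ofNat 0, Int.negSucc 1, Int.ofNat 0],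
  [Int.negSucc 1, Int.ofNat 0, Int.ofNat 0, Int.ofNat 2, Int.ofNat 0, Int.ofNat 0, Int.ofNat 0, Int.ofNat 2, Int.ofNat 0, Int.ofNat 0, Int.negSucc 1, Int.ofNat 0, Int.ofNat 0, Int.negSucc 1, Int.ofNat 2, Int.ofNat 0, Int.ofNat 0, Int.negSucc 1, Int.ofNat 2, Int.ofNat 0, Int.ofNat 0, Int.ofNat 0, Int.ofNat 0, Int.ofNat 0],
  [Int.ofNat 1, Int.negSucc 0, Int.negSucc 0, Int.ofNat 1, Int.ofNat 1, Int.negSucc 0, Int.negSucc 0, Int.ofNat 1, Int.negSucc 0, Int.ofNat 1, Int.negSucc 0, Int.negSucc 0, Int.negSucc 0, Int.negSucc 0, Int.ofNat 1, Int.ofNat 1, Int.ofNat 1, Int.negSucc 2, Int.ofNat 1, Int.negSucc 0, Int.ofNat 1, Int.negSucc 0, Int.ofNat 1, Int.negSucc 0],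
  [Int.ofNat 1, Int.ofNat 1, Int.negSucc 0, Int.negSucc 0, Int.ofNat 1, Int.negSucc 0, Int.ofNat 1, Int.negSucc 0, Int.negSucc 0, Int.negSucc 0, Int.negSucc 0, Int.ofNat 1, Int.ofNat 1, Int.ofNat 1, Int.negSucc 2, Int.ofNat 1, Int.negSucc 0, Int.ofNat 1, Int.negSucc 0, Int.ofNat 1, Int.ofNat 1, Int.negSucc 0, Int.negSucc 0, Int.negSucc 0],
  [Int.negSucc 0, Int.negSucc 0, Int.ofNat 1, Int.ofNat 1, Int.ofNat 1, Int.ofNat 1, Int.ofNat 1, Int.negSucc 0, Int.negSucc 0, Int.negSucc 0, Int.negSucc 0, Int.ofNat 1, Int.ofNat 1, Int.ofNat 1, Int.negSucc 0, Int.ofNat 1, Int.negSucc 0, Int.ofNat 3, Int.negSucc 0, Int.ofNat 1, Int.ofNat 1, Int.negSucc 0, Int.negSucc 0, Int.ofNat 1],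
  [Int.negSucc 0, Int.ofNat 1, Int.ofNat 1, Int.ofNat 1, Int.negSucc 0, Int.negSucc 0, Int.ofNat 1, Int.negSucc 0, Int.ofNat 1, Int.ofNat 1, Int.ofNat 1, Int.ofNat 3, Int.negSucc 0, Int.negSucc 0, Int.negSucc 0, Int.ofNat 1, Int.negSucc 0, Int.negSucc 0, Int.negSucc 0, Int.ofNat 1, Int.negSucc 0, Int.ofNat 1, Int.ofNat 1, Int.ofNat 1],
  [Int.ofNat 2, Int.ofNat 0, Int.ofNat 0, Int.ofNat 2, Int.ofNat 0, Int.ofNat 0, Int.ofNat 0, Int.negSucc 1, Int.ofNat 0, Int.ofNat 0, Int.ofNat 0, Int.ofNat 2, Int.negSucc 1, Int.ofNat 0, Int.ofNat 0, Int.ofNat 0, Int.ofNat 0, Int.ofNat 0, Int.negSucc 1, Int.ofNat 0, Int.negSucc 1, Int.ofNat 0, Int.ofNat 2, Int.ofNat 0],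
  [Int.ofNat 2, Int.ofNat 0, Int.ofNat 0, Int.ofNat 2, Int.ofNat 0, Int.ofNat 0, Int.ofNat 0, Int.negSucc 1, Int.ofNat 0, Int.ofNat 0, Int.ofNat 0, Int.ofNat 2, Int.negSucc 1, Int.ofNat 0, Int.ofNat 0, Int.ofNat 0, Int.ofNat 0, Int.ofNat 0, Int.ofNat 2, Int.ofNat 0, Int.negSucc 1, Int.ofNat 0, Int.negSucc 1, Int.ofNat 0],
  [Int.ofNat 0, Int.negSucc 1, Int.ofNat 2, Int.ofNat 0, Int.ofNat 0, Int.ofNat 0, Int.ofNat 0, Int.negSucc 1, Int.ofNat 0, Int.ofNat 0, Int.negSucc 1, Int.ofNat 0, Int.ofNat 0, Int.ofNat 0, Int.ofNat 2, Int.ofNat 0, Int.ofNat 0, Int.ofNat 2, Int.ofNat 0, Int.ofNat 0, Int.ofNat 2, Int.negSucc 1, Int.ofNat 0, Int.ofNat 0],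
  [Int.ofNat 0, Int.negSucc 1, Int.negSucc 1, Int.ofNat 0, Int.ofNat 0, Int.ofNat 0, Int.ofNat 0, Int.negSucc 1, Int.ofNat 0, Int.ofNat 0, Int.ofNat 2, Int.ofNat 0, Int.ofNat 0, Int.ofNat 0, Int.ofNat 2, Int.ofNat 0, Int.ofNat 0, Int.ofNat 2, Int.ofNat 0, Int.ofNat 0, Int.ofNat 2, Int.negSucc 1, Int.ofNat 0, Int.ofNat 0],
  [Int.negSucc 1, Int.ofNat 0, Int.ofNat 0, Int.negSucc 1, Int.ofNat 0, Int.negSucc 1, Int.ofNat 2, Int.ofNat 0, Int.ofNat 0, Int.negSucc 1, Int.ofNat 0, Int.ofNat 0, Int.ofNat 0, Int.ofNat 0, Int.ofNat 0, Int.negSucc 1, Int.ofNat 0, Int.ofNat 0, Int.ofNat 0, Int.ofNat 2, Int.ofNat 0, Int.ofNat 0, Int.ofNat 0, Int.negSucc 1],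
  [Int.negSucc 1, Int.ofNat 0, Int.ofNat 2, Int.negSucc 1, Int.ofNat 0, Int.ofNat 0, Int.ofNat 0, Int.negSucc 1, Int.ofNat 0, Int.ofNat 0, Int.ofNat 0, Int.ofNat 2, Int.ofNat 0, Int.negSucc 1, Int.ofNat 0, Int.negSucc 1, Int.ofNat 0, Int.ofNat 0, Int.ofNat 0, Int.ofNat 0, Int.ofNat 0, Int.ofNat 0, Int.ofNat 0, Int.negSucc 1],
  [Int.ofNat 1, Int.negSucc 0, Int.negSucc 2, Int.negSucc 0, Int.ofNat 1, Int.ofNat 1, Int.ofNat 1, Int.negSucc 0, Int.negSucc 0, Int.ofNat 1, Int.ofNat 1, Int.ofNat 1, Int.negSucc 0, Int.negSucc 0, Int.ofNat 1, Int.negSucc 0, Int.ofNat 1, Int.ofNat 1, Int.negSucc 0, Int.ofNat 1, Int.ofNat 1, Int.ofNat 1, Int.ofNat 1, Int.ofNat 1],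
  [Int.ofNat 1, Int.ofNat 1, Int.ofNat 1, Int.ofNat 1, Int.negSucc 0, Int.negSucc 2, Int.negSucc 0, Int.ofNat 1, Int.ofNat 1, Int.ofNat 1, Int.negSucc 0, Int.negSucc 0, Int.ofNat 1, Int.ofNat 1, Int.ofNat 1, Int.negSucc 0, Int.negSucc 0, Int.ofNat 1, Int.negSucc 0, Int.ofNat 1, Int.ofNat 1, Int.negSucc 0, Int.ofNat 1, Int.ofNat 1],
  [Int.ofNat 1, Int.ofNat 1, Int.ofNat 1, Int.ofNat 1, Int.negSucc 0, Int.negSucc 2, Int.negSucc 0, Int.ofNat 1, Int.ofNat 1, Int.ofNat 1, Int.negSucc 0, Int.negSucc 0, Int.ofNat 1, Int.ofNat 1, Int.ofNat 1, Int.negSucc 0, Int.negSucc 0, Int.ofNat 1, Int.negSucc 0, Int.ofNat 1, Int.ofNat 1, Int.negSucc 0, Int.ofNat 1, Int.ofNat 1],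
  [Int.ofNat 1, Int.ofNat 1, Int.ofNat 1, Int.negSucc 0, Int.negSucc 2, Int.negSucc 0, Int.ofNat 1, Int.ofNat 1, Int.ofNat 1, Int.negSucc 0, Int.negSucc 0, Int.ofNat 1, Int.ofNat 1, Int.ofNat 1, Int.negSucc 0, Int.negSucc 0, Int.ofNat 1, Int.negSucc 0, Int.ofNat 1, Int.ofNat 1, Int.negSucc 0, Int.ofNat 1, Int.ofNat 1, Int.ofNat 1],
  [Int.negSucc 0, Int.ofNat 1, Int.negSucc 0, Int.negSucc 0, Int.negSucc 2, Int.negSucc 0, Int.ofNat 1, Int.negSucc 0, Int.ofNat 1, Int.ofNat 1, Int.ofNat 1, Int.negSucc 0, Int.ofNat 1, Int.ofNat 1, Int.negSucc 0, Int.negSucc 0, Int.ofNat 1, Int.negSucc 0, Int.negSucc 0, Int.ofNat 1, Int.negSucc 0, Int.negSucc 0, Int.ofNat 1, Int.ofNat 1],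
  [Int.negSucc 0, Int.negSucc 0, Int.negSucc 0, Int.negSucc 0, Int.ofNat 1, Int.ofNat 1, Int.negSucc 2, Int.negSucc 0, Int.ofNat 1, Int.ofNat 1, Int.negSucc 0, Int.negSucc 0, Int.ofNat 1, Int.ofNat 1, Int.ofNat 1, Int.negSucc 0, Int.ofNat 1, Int.ofNat 1, Int.ofNat 1, Int.negSucc 0, Int.negSucc 0, Int.negSucc 0, Int.negSucc 0, Int.ofNat 1],
  [Int.ofNat 1, Int.negSucc 0, Int.ofNat 1, Int.negSucc 0, Int.ofNat 1, Int.ofNat 1, Int.negSucc 2, Int.ofNat 1, Int.ofNat 1, Int.negSucc 0, Int.ofNat 1, Int.ofNat 1, Int.ofNat 1, Int.ofNat 1, Int.ofNat 1, Int.negSucc 0, Int.ofNat 1, Int.ofNat 1, Int.negSucc 0, Int.negSucc 0, Int.negSucc 0, Int.ofNat 1, Int.negSucc 0, Int.ofNat 1],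
  [Int.negSucc 0, Int.ofNat 1, Int.negSucc 0, Int.ofNat 1, Int.negSucc 0, Int.ofNat 1, Int.ofNat 1, Int.negSucc 2, Int.ofNat 1, Int.ofNat 1, Int.negSucc 0, Int.ofNat 1, Int.ofNat 1, Int.ofNat 1, Int.ofNat 1, Int.ofNat 1, Int.negSucc 0, Int.ofNat 1, Int.ofNat 1, Int.negSucc 0, Int.negSucc 0, Int.negSucc 0, Int.ofNat 1, Int.ofNat 1],
  [Int.ofNat 1, Int.negSucc 0, Int.ofNat 1, Int.negSucc 0, Int.negSucc 0, Int.negSucc 0, Int.ofNat 3, Int.negSucc 0, Int.negSucc 0, Int.ofNat 1, Int.negSucc 0, Int.negSucc 0, Int.negSucc 0, Int.ofNat 1, Int.negSucc 0, Int.ofNat 1, Int.negSucc 0, Int.negSucc 0, Int.negSucc 0, Int.ofNat 1, Int.negSucc 0, Int.ofNat 1, Int.ofNat 1, Int.negSucc 0],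
  [Int.negSucc 0, Int.negSucc 0, Int.negSucc 0, Int.ofNat 3, Int.negSucc 0, Int.negSucc 0, Int.ofNat 1, Int.negSucc 0, Int.negSucc 0, Int.negSucc 0, Int.ofNat 1, Int.negSucc 0, Int.ofNat 1, Int.negSucc 0, Int.negSucc 0, Int.negSucc 0, Int.ofNat 1, Int.negSucc 0, Int.ofNat 1, Int.ofNat 1, Int.ofNat 1, Int.negSucc 0, Int.ofNat 1, Int.negSucc 0],
  [Int.negSucc 0, Int.negSucc 0, Int.negSucc 0, Int.ofNat 3, Int.negSucc 0, Int.negSucc 0, Int.ofNat 1, Int.negSucc 0, Int.negSucc 0, Int.negSucc 0, Int.ofNat 1, Int.negSucc 0, Int.ofNat 1, Int.negSucc 0, Int.negSucc 0, Int.negSucc 0, Int.ofNat 1, Int.negSucc 0, Int.ofNat 1, Int.ofNat 1, Int.ofNat 1, Int.negSucc 0, Int.ofNat 1, Int.negSucc 0],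
  [Int.negSucc 0, Int.ofNat 1, Int.negSucc 0, Int.ofNat 3, Int.ofNat 1, Int.negSucc 0, Int.negSucc 0, Int.ofNat 1, Int.ofNat 1, Int.negSucc 0, Int.ofNat 1, Int.negSucc 0, Int.negSucc 0, Int.ofNat 1, Int.ofNat 1, Int.negSucc 0, Int.negSucc 0, Int.negSucc 0, Int.negSucc 0, Int.negSucc 0, Int.negSucc 0, Int.negSucc 0, Int.ofNat 1, Int.negSucc 0],
  [Int.ofNat 0, Int.negSucc 1, Int.ofNat 0, Int.ofNat 2, Int.ofNat 0, Int.negSucc 1, Int.ofNat 0, Int.ofNat 2, Int.ofNat 2, Int.ofNat 0, Int.ofNat 2, Int.ofNat 0, Int.ofNat 0, Int.ofNat 0, Int.ofNat 0, Int.ofNat 0, Int.negSucc 1, Int.negSucc 1, Int.ofNat 0, Int.ofNat 0, Int.ofNat 0, Int.ofNat 0, Int.ofNat 0, Int.ofNat 0],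
  [Int.ofNat 0, Int.negSucc 1, Int.ofNat 0, Int.ofNat 2, Int.ofNat 0, Int.ofNat 2, Int.ofNat 0, Int.ofNat 2, Int.ofNat 2, Int.ofNat 0, Int.negSucc 1, Int.ofNat 0, Int.ofNat 0, Int.ofNat 0, Int.ofNat 0, Int.ofNat 0, Int.negSucc 1, Int.negSucc 1, Int.ofNat 0, Int.ofNat 0, Int.ofNat 0, Int.ofNat 0, Int.ofNat 0, Int.ofNat 0],
  [Int.negSucc 1, Int.negSucc 1, Int.ofNat 0, Int.ofNat 2, Int.ofNat 0, Int.ofNat 0, Int.ofNat 0, Int.ofNat 2, Int.ofNat 2, Int.ofNat 0, Int.ofNat 0, Int.ofNat 2, Int.ofNat 0, Int.ofNat 0, Int.negSucc 1, Int.ofNat 0, Int.ofNat 0, Int.ofNat 0, Int.ofNat 0, Int.ofNat 0, Int.ofNat 0, Int.negSucc 1, Int.ofNat 0, Int.ofNat 0],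
  [Int.ofNat 2, Int.ofNat 2, Int.ofNat 0, Int.negSucc 1, Int.ofNat 0, Int.ofNat 0, Int.ofNat 0, Int.ofNat 2, Int.negSucc 1, Int.ofNat 0, Int.ofNat 0, Int.ofNat 2, Int.ofNat 0, Int.ofNat 0, Int.negSucc 1, Int.ofNat 0, Int.ofNat 0, Int.ofNat 0, Int.ofNat 0, Int.ofNat 0, Int.ofNat 0, Int.negSucc 1, Int.ofNat 0, Int.ofNat 0],
  [Int.ofNat 0, Int.ofNat 0, Int.ofNat 2, Int.ofNat 0, Int.ofNat 0, Int.ofNat 0, Int.ofNat 0, Int.ofNat 0, Int.ofNat 0, Int.ofNat 0, Int.ofNat 0, Int.ofNat 0, Int.negSucc 1, Int.ofNat 2, Int.ofNat 0, Int.negSucc 1, Int.ofNat 0, Int.ofNat 0, Int.negSucc 1, Int.ofNat 0, Int.negSucc 1, Int.ofNat 0, Int.ofNat 2, Int.ofNat 2],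
  [Int.ofNat 0, Int.ofNat 0, Int.negSucc 1, Int.ofNat 0, Int.ofNat 0, Int.ofNat 0, Int.ofNat 0, Int.ofNat 0, Int.ofNat 0, Int.ofNat 0, Int.ofNat 0, Int.ofNat 0, Int.negSucc 1, Int.ofNat 2, Int.ofNat 0, Int.negSucc 1, Int.ofNat 0, Int.ofNat 0, Int.ofNat 2, Int.ofNat 0, Int.negSucc 1, Int.ofNat 0, Int.ofNat 2, Int.ofNat 2],
  [Int.ofNat 2, Int.ofNat 0, Int.ofNat 0, Int.negSucc 1, Int.ofNat 0, Int.ofNat 0, Int.ofNat 0, Int.ofNat 0, Int.ofNat 0, Int.ofNat 0, Int.ofNat 0, Int.ofNat 0, Int.ofNat 0, Int.negSucc 1, Int.ofNat 2, Int.ofNat 0, Int.negSucc 1, Int.ofNat 0, Int.ofNat 0, Int.ofNat 2, Int.ofNat 0, Int.negSucc 1, Int.ofNat 0, Int.ofNat 2],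
  [Int.ofNat 0, Int.ofNat 2, Int.ofNat 2, Int.negSucc 1, Int.ofNat 2, Int.ofNat 0, Int.ofNat 0, Int.ofNat 0, Int.ofNat 0, Int.ofNat 0, Int.ofNat 0, Int.ofNat 0, Int.ofNat 0, Int.ofNat 0, Int.ofNat 2, Int.ofNat 0, Int.ofNat 0, Int.ofNat 0, Int.ofNat 0, Int.ofNat 2, Int.ofNat 0, Int.negSucc 1, Int.ofNat 2, Int.ofNat 0],
  [Int.negSucc 1, Int.ofNat 2, Int.ofNat 0, Int.ofNat 0, Int.ofNat 0, Int.ofNat 0, Int.ofNat 0, Int.ofNat 0, Int.ofNat 0, Int.ofNat 0, Int.ofNat 0, Int.ofNat 2, Int.ofNat 0, Int.ofNat 0, Int.ofNat 0, Int.ofNat 0, Int.ofNat 2, Int.ofNat 0, Int.negSucc 1, Int.ofNat 2, Int.ofNat 0, Int.ofNat 2, Int.ofNat 2, Int.ofNat 0],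
  [Int.ofNat 2, Int.negSucc 1, Int.ofNat 0, Int.ofNat 0, Int.negSucc 1, Int.ofNat 0, Int.negSucc 1, Int.negSucc 1, Int.ofNat 0, Int.ofNat 0, Int.ofNat 0, Int.ofNat 2, Int.ofNat 0, Int.negSucc 1, Int.ofNat 0, Int.ofNat 0, Int.ofNat 0, Int.ofNat 0, Int.negSucc 1, Int.ofNat 0, Int.ofNat 0, Int.ofNat 0, Int.ofNat 0, Int.ofNat 0],
  [Int.ofNat 2, Int.negSucc 1, Int.negSucc 1, Int.ofNat 0, Int.negSucc 1, Int.negSucc 1, Int.ofNat 0, Int.ofNat 0, Int.ofNat 0, Int.negSucc 1, Int.ofNat 0, Int.ofNat 0, Int.ofNat 0, Int.ofNat 0, Int.ofNat 0, Int.ofNat 0, Int.ofNat 0, Int.ofNat 0, Int.negSucc 1, Int.ofNat 2, Int.ofNat 0, Int.ofNat 0, Int.ofNat 0, Int.ofNat 0],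
  [Int.negSucc 2, Int.ofNat 1, Int.ofNat 1, Int.ofNat 1, Int.negSucc 0, Int.negSucc 0, Int.negSucc 0, Int.negSucc 0, Int.ofNat 1, Int.negSucc 0, Int.ofNat 1, Int.ofNat 1, Int.ofNat 1, Int.ofNat 1, Int.ofNat 1, Int.ofNat 1, Int.ofNat 1, Int.ofNat 1, Int.negSucc 0, Int.ofNat 1, Int.ofNat 1, Int.negSucc 0, Int.ofNat 1, Int.negSucc 0],
  [Int.negSucc 2, Int.ofNat 1, Int.negSucc 0, Int.ofNat 1, Int.negSucc 0, Int.ofNat 1, Int.ofNat 1, Int.negSucc 0, Int.ofNat 1, Int.ofNat 1, Int.negSucc 0, Int.ofNat 1, Int.ofNat 1, Int.ofNat 1, Int.ofNat 1, Int.negSucc 0, Int.ofNat 1, Int.ofNat 1, Int.ofNat 1, Int.ofNat 1, Int.ofNat 1, Int.negSucc 0, Int.negSucc 0, Int.negSucc 0],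
  [Int.ofNat 1, Int.ofNat 1, Int.ofNat 1, Int.ofNat 1, Int.ofNat 1, Int.negSucc 0, Int.ofNat 1, Int.negSucc 0, Int.ofNat 1, Int.negSucc 0, Int.negSucc 0, Int.negSucc 0, Int.ofNat 1, Int.ofNat 1, Int.ofNat 1, Int.negSucc 0, Int.negSucc 0, Int.ofNat 1, Int.ofNat 1, Int.ofNat 1, Int.negSucc 2, Int.ofNat 1, Int.ofNat 1, Int.negSucc 0],
  [Int.ofNat 1, Int.ofNat 1, Int.negSucc 0, Int.ofNat 1, Int.ofNat 1, Int.ofNat 1, Int.negSucc 0, Int.negSucc 0, Int.ofNat 1, Int.ofNat 1, Int.ofNat 1, Int.negSucc 0, Int.ofNat 1, Int.ofNat 1, Int.ofNat 1, Int.ofNat 1, Int.negSucc 0, Int.ofNat 1, Int.negSucc 0, Int.ofNat 1, Int.negSucc 2, Int.ofNat 1, Int.negSucc 0, Int.negSucc 0],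
  [Int.negSucc 0, Int.negSucc 0, Int.ofNat 1, Int.negSucc 0, Int.ofNat 1, Int.negSucc 0, Int.negSucc 0, Int.negSucc 0, Int.ofNat 1, Int.ofNat 1, Int.ofNat 1, Int.negSucc 0, Int.ofNat 1, Int.ofNat 1, Int.negSucc 0, Int.ofNat 1, Int.negSucc 0, Int.negSucc 0, Int.negSucc 0, Int.ofNat 1, Int.negSucc 2, Int.ofNat 1, Int.negSucc 0, Int.ofNat 1],
  [Int.negSucc 0, Int.negSucc 0, Int.negSucc 0, Int.negSucc 0, Int.ofNat 1, Int.ofNat 1, Int.negSucc 0, Int.negSucc 0, Int.negSucc 0, Int.ofNat 1, Int.negSucc 0, Int.ofNat 1, Int.ofNat 1, Int.ofNat 1, Int.negSucc 0, Int.ofNat 1, Int.ofNat 1, Int.negSucc 0, Int.ofNat 1, Int.negSucc 0, Int.ofNat 1, Int.negSucc 2, Int.negSucc 0, Int.ofNat 1],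
  [Int.ofNat 0, Int.ofNat 0, Int.ofNat 0, Int.ofNat 0, Int.ofNat 0, Int.ofNat 2, Int.ofNat 2, Int.ofNat 2, Int.negSucc 1, Int.ofNat 0, Int.negSucc 1, Int.ofNat 0, Int.ofNat 0, Int.ofNat 0, Int.ofNat 0, Int.ofNat 0, Int.ofNat 0, Int.ofNat 0, Int.ofNat 0, Int.ofNat 2, Int.ofNat 0, Int.ofNat 0, Int.negSucc 1, Int.negSucc 1],
  [Int.ofNat 0, Int.ofNat 0, Int.negSucc 1, Int.ofNat 0, Int.ofNat 0, Int.ofNat 0, Int.ofNat 0, Int.ofNat 0, Int.ofNat 2, Int.ofNat 2, Int.ofNat 2, Int.negSucc 1, Int.ofNat 0, Int.negSucc 1, Int.ofNat 0, Int.ofNat 0, Int.ofNat 0, Int.ofNat 0, Int.ofNat 0, Int.ofNat 0, Int.ofNat 0, Int.ofNat 0, Int.ofNat 2, Int.negSucc 1],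
  [Int.negSucc 1, Int.negSucc 1, Int.ofNat 0, Int.ofNat 0, Int.ofNat 0, Int.ofNat 0, Int.ofNat 0, Int.ofNat 0, Int.ofNat 2, Int.ofNat 0, Int.ofNat 0, Int.negSucc 1, Int.ofNat 0, Int.negSucc 1, Int.ofNat 0, Int.negSucc 1, Int.ofNat 0, Int.ofNat 0, Int.ofNat 0, Int.ofNat 0, Int.negSucc 1, Int.ofNat 0, Int.ofNat 2, Int.ofNat 0],
  [Int.negSucc 1, Int.ofNat 0, Int.ofNat 0, Int.ofNat 0, Int.ofNat 0, Int.ofNat 0, Int.ofNat 0, Int.ofNat 2, Int.ofNat 0, Int.ofNat 0, Int.negSucc 1, Int.ofNat 0, Int.negSucc 1, Int.ofNat 0, Int.negSucc 1, Int.ofNat 0, Int.ofNat 0, Int.ofNat 0, Int.ofNat 0, Int.negSucc 1, Int.ofNat 0, Int.ofNat 2, Int.negSucc 1, Int.ofNat 0],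
  [Int.ofNat 2, Int.ofNat 0, Int.ofNat 0, Int.ofNat 0, Int.ofNat 0, Int.ofNat 0, Int.ofNat 0, Int.negSucc 1, Int.ofNat 0, Int.ofNat 0, Int.ofNat 2, Int.ofNat 0, Int.negSucc 1, Int.ofNat 0, Int.negSucc 1, Int.ofNat 0, Int.ofNat 0, Int.ofNat 0, Int.ofNat 0, Int.negSucc 1, Int.ofNat 0, Int.negSucc 1, Int.negSucc 1, Int.ofNat 0]]

set_option maxRecDepth 100000 in
theorem c1et1_chk : pmChk (List.replicate 14 [1, 0, 25, 26]).flatten nxL c1et1M 0 0 = true := by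
  decide +kernel

theorem c1et1_ne : wE letE2 (List.replicate 14 [1, 0, 25, 26]).flatten ≠ 1 ∧ wE letE2 (List.replicate 14 [1, 0, 25, 26]).flatten ≠ negElt :=
  ne_pm_of_chk nxL_mem c1et1_chk

set_option maxRecDepth 100000 in
def c1et2M : List (List ℤ) :=
  [[Int.negSucc 3, Int.ofNat 0, Int.ofNat 0, Int.ofNat 0, Int.ofNat 0, Int.ofNat 0, Int.ofNat 0, Int.ofNat 0, Int.ofNat 0, Int.ofNat 0, Int.ofNat 0, Int.ofNat 0, Int.ofNat 0, Int.ofNat 0, Int.ofNat 0, Int.ofNat 0, Int.ofNat 0, Int.ofNat 0, Int.ofNat 0, Int.ofNat 0, Int.ofNat 0, Int.ofNat 0, Int.ofNat 0, Int.ofNat 4],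
  [Int.ofNat 4, Int.ofNat 0, Int.ofNat 0, Int.ofNat 0, Int.ofNat 0, Int.ofNat 0, Int.ofNat 0, Int.ofNat 0, Int.ofNat 0, Int.ofNat 0, Int.ofNat 0, Int.ofNat 0, Int.ofNat 0, Int.ofNat 0, Int.ofNat 0, Int.ofNat 0, Int.ofNat 0, Int.ofNat 0, Int.ofNat 0, Int.ofNat 0, Int.ofNat 0, Int.ofNat 0, Int.ofNat 0, Int.ofNat 4],
  [Int.ofNat 0, Int.ofNat 4, Int.ofNat 0, Int.ofNat 0, Int.ofNat 0, Int.ofNat 0, Int.ofNat 0, Int.ofNat 0, Int.ofNat 0, Int.ofNat 0, Int.ofNat 0, Int.ofNat 0, Int.ofNat 0, Int.ofNat 0, Int.ofNat 0, Int.ofNat 0, Int.ofNat 0, Int.ofNat 0, Int.ofNat 0, Int.ofNat 0, Int.ofNat 0, Int.ofNat 0, Int.ofNat 0, Int.ofNat 4],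
  [Int.ofNat 4, Int.ofNat 0, Int.ofNat 4, Int.ofNat 0, Int.ofNat 0, Int.ofNat 0, Int.ofNat 0, Int.ofNat 0, Int.ofNat 0, Int.ofNat 0, Int.ofNat 0, Int.ofNat 0, Int.ofNat 0, Int.ofNat 0, Int.ofNat 0, Int.ofNat 0, Int.ofNat 0, Int.ofNat 0, Int.ofNat 0, Int.ofNat 0, Int.ofNat 0, Int.ofNat 0, Int.ofNat 0, Int.ofNat 0],
  [Int.ofNat 0, Int.ofNat 0, Int.ofNat 0, Int.ofNat 0, Int.ofNat 0, Int.ofNat 0, Int.ofNat 0, Int.ofNat 0, Int.ofNat 0, Int.ofNat 0, Int.ofNat 0, Int.ofNat 0, Int.ofNat 0, Int.ofNat 0, Int.ofNat 0, Int.ofNat 0, Int.ofNat 0, Int.ofNat 0, Int.ofNat 0, Int.ofNat 0, Int.ofNat 4, Int.ofNat 0, Int.ofNat 4, Int.ofNat 0],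
  [Int.ofNat 0, Int.ofNat 0, Int.ofNat 0, Int.ofNat 0, Int.negSucc 1, Int.ofNat 0, Int.ofNat 0, Int.ofNat 0, Int.ofNat 0, Int.negSucc 1, Int.negSucc 1, Int.ofNat 0, Int.ofNat 0, Int.negSucc 1, Int.ofNat 0, Int.negSucc 1, Int.negSucc 1, Int.ofNat 0, Int.ofNat 0, Int.ofNat 0, Int.ofNat 2, Int.ofNat 0, Int.ofNat 2, Int.ofNat 0],
  [Int.ofNat 0, Int.ofNat 0, Int.negSucc 1, Int.ofNat 0, Int.ofNat 0, Int.ofNat 0, Int.ofNat 0, Int.negSucc 1, Int.ofNat 0, Int.negSucc 1, Int.ofNat 2, Int.ofNat 0, Int.negSucc 1, Int.negSucc 1, Int.ofNat 2, Int.negSucc 1, Int.ofNat 0, Int.ofNat 0, Int.ofNat 0, Int.ofNat 0, Int.ofNat 0, Int.ofNat 0, Int.ofNat 0, Int.ofNat 0],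
  [Int.negSucc 0, Int.negSucc 0, Int.ofNat 1, Int.negSucc 0, Int.ofNat 1, Int.negSucc 0, Int.ofNat 1, Int.negSucc 0, Int.ofNat 1, Int.negSucc 0, Int.ofNat 3, Int.ofNat 1, Int.negSucc 0, Int.negSucc 0, Int.ofNat 1, Int.negSucc 0, Int.ofNat 1, Int.negSucc 0, Int.ofNat 1, Int.ofNat 1, Int.ofNat 1, Int.ofNat 1, Int.ofNat 1, Int.negSucc 0],
  [Int.negSucc 0, Int.negSucc 0, Int.negSucc 0, Int.negSucc 0, Int.ofNat 1, Int.ofNat 1, Int.negSucc 0, Int.negSucc 0, Int.ofNat 1, Int.ofNat 1, Int.negSucc 2, Int.ofNat 1, Int.negSucc 0, Int.negSucc 0, Int.ofNat 1, Int.ofNat 1, Int.ofNat 1, Int.negSucc 0, Int.negSucc 0, Int.ofNat 1, Int.ofNat 1, Int.ofNat 1, Int.negSucc 0, Int.negSucc 0],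
  [Int.negSucc 2, Int.ofNat 1, Int.ofNat 1, Int.ofNat 1, Int.ofNat 1, Int.negSucc 0, Int.ofNat 1, Int.negSucc 0, Int.ofNat 1, Int.ofNat 1, Int.negSucc 0, Int.negSucc 0, Int.ofNat 1, Int.ofNat 1, Int.negSucc 0, Int.negSucc 0, Int.ofNat 1, Int.negSucc 0, Int.ofNat 1, Int.negSucc 0, Int.negSucc 0, Int.negSucc 0, Int.negSucc 0, Int.negSucc 0],
  [Int.ofNat 3, Int.negSucc 0, Int.negSucc 0, Int.negSucc 0, Int.negSucc 0, Int.negSucc 0, Int.negSucc 0, Int.negSucc 0, Int.negSucc 0, Int.negSucc 0, Int.negSucc 0, Int.negSucc 0, Int.negSucc 0, Int.negSucc 0, Int.negSucc 0, Int.negSucc 0, Int.negSucc 0, Int.negSucc 0, Int.negSucc 0, Int.negSucc 0, Int.negSucc 0, Int.negSucc 0, Int.negSucc 0, Int.negSucc 0],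
  [Int.negSucc 0, Int.negSucc 0, Int.negSucc 0, Int.negSucc 0, Int.negSucc 0, Int.negSucc 0, Int.negSucc 0, Int.negSucc 0, Int.negSucc 0, Int.negSucc 0, Int.negSucc 0, Int.negSucc 0, Int.negSucc 0, Int.negSucc 0, Int.negSucc 0, Int.negSucc 0, Int.negSucc 0, Int.negSucc 0, Int.negSucc 0, Int.negSucc 0, Int.negSucc 0, Int.negSucc 0, Int.negSucc 0, Int.ofNat 3],
  [Int.ofNat 1, Int.negSucc 0, Int.ofNat 1, Int.negSucc 0, Int.negSucc 0, Int.negSucc 0, Int.negSucc 0, Int.ofNat 1, Int.negSucc 0, Int.ofNat 1, Int.ofNat 1, Int.ofNat 1, Int.negSucc 0, Int.negSucc 0, Int.negSucc 0, Int.negSucc 0, Int.negSucc 0, Int.negSucc 0, Int.ofNat 1, Int.negSucc 0, Int.negSucc 0, Int.ofNat 1, Int.negSucc 0, Int.ofNat 3],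
  [Int.negSucc 0, Int.ofNat 1, Int.negSucc 0, Int.ofNat 1, Int.negSucc 0, Int.negSucc 0, Int.negSucc 0, Int.negSucc 0, Int.ofNat 1, Int.negSucc 0, Int.ofNat 1, Int.ofNat 1, Int.ofNat 1, Int.negSucc 0, Int.negSucc 0, Int.negSucc 0, Int.negSucc 0, Int.negSucc 0, Int.negSucc 0, Int.ofNat 1, Int.negSucc 0, Int.negSucc 0, Int.ofNat 1, Int.ofNat 3],
  [Int.ofNat 2, Int.ofNat 0, Int.ofNat 2, Int.ofNat 2, Int.ofNat 0, Int.ofNat 0, Int.ofNat 0, Int.ofNat 0, Int.ofNat 0, Int.ofNat 0, Int.ofNat 2, Int.ofNat 0, Int.ofNat 0, Int.ofNat 0, Int.ofNat 0, Int.ofNat 0, Int.ofNat 0, Int.ofNat 0, Int.negSucc 1, Int.ofNat 2, Int.ofNat 0, Int.ofNat 0, Int.ofNat 2, Int.negSucc 1],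
  [Int.ofNat 2, Int.ofNat 0, Int.ofNat 0, Int.ofNat 0, Int.ofNat 0, Int.ofNat 0, Int.ofNat 0, Int.ofNat 2, Int.ofNat 0, Int.ofNat 0, Int.ofNat 0, Int.ofNat 0, Int.ofNat 0, Int.ofNat 0, Int.ofNat 0, Int.negSucc 1, Int.ofNat 2, Int.ofNat 0, Int.ofNat 0, Int.ofNat 2, Int.ofNat 2, Int.ofNat 0, Int.ofNat 2, Int.negSucc 1],
  [Int.negSucc 1, Int.ofNat 0, Int.ofNat 0, Int.ofNat 0, Int.negSucc 1, Int.ofNat 0, Int.negSucc 1, Int.ofNat 0, Int.ofNat 0, Int.ofNat 0, Int.ofNat 0, Int.ofNat 0, Int.ofNat 0, Int.negSucc 1, Int.ofNat 0, Int.negSucc 1, Int.ofNat 0, Int.ofNat 0, Int.ofNat 0, Int.ofNat 0, Int.ofNat 2, Int.negSucc 1, Int.ofNat 0, Int.ofNat 2],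
  [Int.negSucc 1, Int.negSucc 1, Int.negSucc 1, Int.ofNat 0, Int.ofNat 0, Int.ofNat 0, Int.ofNat 0, Int.ofNat 0, Int.ofNat 0, Int.negSucc 1, Int.ofNat 2, Int.ofNat 0, Int.ofNat 0, Int.ofNat 0, Int.ofNat 0, Int.negSucc 1, Int.ofNat 0, Int.ofNat 0, Int.ofNat 0, Int.ofNat 0, Int.negSucc 1, Int.ofNat 0, Int.ofNat 0, Int.ofNat 2],
  [Int.ofNat 0, Int.ofNat 0, Int.ofNat 0, Int.ofNat 0, Int.ofNat 0, Int.ofNat 0, Int.ofNat 0, Int.ofNat 0, Int.ofNat 0, Int.ofNat 0, Int.ofNat 4, Int.ofNat 0, Int.ofNat 0, Int.ofNat 0, Int.ofNat 0, Int.ofNat 0, Int.ofNat 0, Int.ofNat 0, Int.ofNat 0, Int.ofNat 0, Int.ofNat 0, Int.ofNat 0, Int.ofNat 0, Int.negSucc 3],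
  [Int.ofNat 0, Int.ofNat 0, Int.ofNat 0, Int.ofNat 0, Int.ofNat 0, Int.ofNat 0, Int.ofNat 0, Int.ofNat 0, Int.ofNat 0, Int.ofNat 0, Int.negSucc 3, Int.ofNat 0, Int.ofNat 0, Int.ofNat 0, Int.ofNat 0, Int.ofNat 0, Int.ofNat 0, Int.ofNat 0, Int.ofNat 0, Int.ofNat 0, Int.ofNat 0, Int.ofNat 0, Int.ofNat 0, Int.negSucc 3],
  [Int.ofNat 0, Int.ofNat 0, Int.ofNat 0, Int.ofNat 0, Int.ofNat 0, Int.ofNat 0, Int.ofNat 0, Int.ofNat 0, Int.ofNat 0, Int.ofNat 0, Int.ofNat 0, Int.ofNat 0, Int.ofNat 0, Int.ofNat 0, Int.ofNat 0, Int.ofNat 0, Int.negSucc 3, Int.ofNat 0, Int.ofNat 0, Int.ofNat 0, Int.ofNat 0, Int.ofNat 0, Int.ofNat 0, Int.negSucc 3],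
  [Int.ofNat 0, Int.ofNat 0, Int.ofNat 0, Int.ofNat 0, Int.ofNat 0, Int.ofNat 0, Int.ofNat 0, Int.ofNat 0, Int.ofNat 0, Int.ofNat 0, Int.ofNat 0, Int.ofNat 0, Int.ofNat 0, Int.ofNat 0, Int.ofNat 0, Int.ofNat 0, Int.negSucc 3, Int.ofNat 0, Int.ofNat 0, Int.ofNat 0, Int.ofNat 0, Int.ofNat 0, Int.ofNat 0, Int.negSucc 3],
  [Int.negSucc 1, Int.negSucc 1, Int.negSucc 1, Int.ofNat 0, Int.ofNat 2, Int.ofNat 0, Int.ofNat 0, Int.ofNat 0, Int.ofNat 0, Int.ofNat 0, Int.ofNat 0, Int.ofNat 0, Int.ofNat 0, Int.ofNat 2, Int.ofNat 0, Int.ofNat 0, Int.negSucc 1, Int.ofNat 0, Int.ofNat 0, Int.ofNat 0, Int.ofNat 0, Int.ofNat 0, Int.ofNat 2, Int.ofNat 2],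
  [Int.negSucc 1, Int.ofNat 0, Int.ofNat 0, Int.ofNat 0, Int.negSucc 1, Int.ofNat 0, Int.negSucc 1, Int.ofNat 0, Int.negSucc 1, Int.ofNat 0, Int.ofNat 0, Int.ofNat 0, Int.ofNat 0, Int.ofNat 0, Int.ofNat 0, Int.ofNat 0, Int.ofNat 2, Int.ofNat 0, Int.ofNat 2, Int.ofNat 2, Int.ofNat 0, Int.ofNat 0, Int.ofNat 0, Int.ofNat 2],
  [Int.ofNat 2, Int.ofNat 0, Int.ofNat 0, Int.ofNat 0, Int.negSucc 1, Int.ofNat 0, Int.negSucc 1, Int.ofNat 0, Int.negSucc 1, Int.ofNat 0, Int.ofNat 0, Int.ofNat 0, Int.ofNat 0, Int.ofNat 0, Int.ofNat 0, Int.ofNat 0, Int.ofNat 2, Int.ofNat 0, Int.ofNat 2, Int.ofNat 2, Int.ofNat 0, Int.ofNat 0, Int.ofNat 0, Int.negSucc 1],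
  [Int.ofNat 0, Int.ofNat 0, Int.ofNat 0, Int.ofNat 2, Int.ofNat 0, Int.ofNat 0, Int.ofNat 0, Int.negSucc 1, Int.ofNat 0, Int.negSucc 1, Int.ofNat 0, Int.negSucc 1, Int.ofNat 0, Int.ofNat 0, Int.ofNat 0, Int.ofNat 0, Int.ofNat 0, Int.ofNat 0, Int.ofNat 0, Int.ofNat 2, Int.ofNat 0, Int.ofNat 2, Int.ofNat 2, Int.negSucc 1],
  [Int.negSucc 0, Int.negSucc 0, Int.negSucc 0, Int.ofNat 1, Int.negSucc 0, Int.negSucc 0, Int.negSucc 0, Int.negSucc 2, Int.ofNat 1, Int.negSucc 0, Int.ofNat 1, Int.negSucc 0, Int.ofNat 1, Int.negSucc 0, Int.negSucc 0, Int.ofNat 1, Int.negSucc 0, Int.negSucc 0, Int.ofNat 1, Int.ofNat 1, Int.ofNat 1, Int.ofNat 1, Int.ofNat 1, Int.ofNat 1],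
  [Int.negSucc 0, Int.negSucc 0, Int.ofNat 1, Int.negSucc 0, Int.negSucc 0, Int.negSucc 0, Int.negSucc 2, Int.ofNat 1, Int.negSucc 0, Int.ofNat 1, Int.negSucc 0, Int.ofNat 1, Int.negSucc 0, Int.negSucc 0, Int.ofNat 1, Int.negSucc 0, Int.negSucc 0, Int.ofNat 1, Int.ofNat 1, Int.ofNat 1, Int.ofNat 1, Int.ofNat 1, Int.negSucc 0, Int.ofNat 1],
  [Int.ofNat 1, Int.negSucc 0, Int.negSucc 0, Int.negSucc 0, Int.negSucc 0, Int.negSucc 0, Int.negSucc 2, Int.negSucc 0, Int.negSucc 0, Int.negSucc 0, Int.ofNat 1, Int.negSucc 0, Int.negSucc 0, Int.negSucc 0, Int.ofNat 1, Int.negSucc 0, Int.negSucc 0, Int.ofNat 1, Int.negSucc 0, Int.ofNat 1, Int.ofNat 1, Int.negSucc 0, Int.negSucc 0, Int.ofNat 1],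
  [Int.ofNat 1, Int.negSucc 0, Int.negSucc 0, Int.negSucc 0, Int.negSucc 0, Int.ofNat 1, Int.negSucc 0, Int.ofNat 1, Int.negSucc 0, Int.negSucc 0, Int.negSucc 0, Int.ofNat 1, Int.negSucc 0, Int.negSucc 0, Int.ofNat 1, Int.negSucc 0, Int.negSucc 0, Int.negSucc 0, Int.negSucc 2, Int.ofNat 1, Int.negSucc 0, Int.negSucc 0, Int.negSucc 0, Int.ofNat 1],
  [Int.negSucc 0, Int.negSucc 0, Int.ofNat 1, Int.negSucc 0, Int.negSucc 0, Int.ofNat 1, Int.negSucc 0, Int.negSucc 0, Int.negSucc 0, Int.ofNat 1, Int.ofNat 1, Int.negSucc 0, Int.negSucc 0, Int.negSucc 0, Int.ofNat 1, Int.negSucc 0, Int.negSucc 0, Int.negSucc 0, Int.ofNat 3, Int.ofNat 1, Int.negSucc 0, Int.ofNat 1, Int.negSucc 0, Int.ofNat 1],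
  [Int.negSucc 0, Int.negSucc 0, Int.negSucc 0, Int.ofNat 1, Int.negSucc 0, Int.negSucc 0, Int.ofNat 1, Int.negSucc 0, Int.negSucc 0, Int.negSucc 0, Int.ofNat 1, Int.ofNat 1, Int.negSucc 0, Int.negSucc 0, Int.negSucc 0, Int.ofNat 1, Int.negSucc 0, Int.negSucc 0, Int.negSucc 0, Int.ofNat 3, Int.ofNat 1, Int.negSucc 0, Int.ofNat 1, Int.ofNat 1],
  [Int.ofNat 0, Int.ofNat 0, Int.ofNat 0, Int.ofNat 2, Int.ofNat 0, Int.ofNat 0, Int.ofNat 0, Int.negSucc 1, Int.ofNat 0, Int.negSucc 1, Int.ofNat 0, Int.ofNat 2, Int.ofNat 0, Int.ofNat 0, Int.ofNat 0, Int.ofNat 0, Int.ofNat 0, Int.ofNat 0, Int.ofNat 0, Int.ofNat 2, Int.ofNat 0, Int.negSucc 1, Int.ofNat 2, Int.negSucc 1],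
  [Int.ofNat 2, Int.ofNat 0, Int.ofNat 0, Int.ofNat 0, Int.negSucc 1, Int.ofNat 0, Int.negSucc 1, Int.ofNat 0, Int.ofNat 2, Int.ofNat 0, Int.ofNat 0, Int.ofNat 0, Int.ofNat 0, Int.ofNat 0, Int.ofNat 0, Int.ofNat 0, Int.ofNat 2, Int.ofNat 0, Int.negSucc 1, Int.ofNat 2, Int.ofNat 0, Int.ofNat 0, Int.ofNat 0, Int.negSucc 1],
  [Int.negSucc 1, Int.ofNat 0, Int.ofNat 0, Int.ofNat 0, Int.negSucc 1, Int.ofNat 0, Int.negSucc 1, Int.ofNat 0, Int.ofNat 2, Int.ofNat 0, Int.ofNat 0, Int.ofNat 0, Int.ofNat 0, Int.ofNat 0, Int.ofNat 0, Int.ofNat 0, Int.ofNat 2, Int.ofNat 0, Int.negSucc 1, Int.ofNat 2, Int.ofNat 0, Int.ofNat 0, Int.ofNat 0, Int.ofNat 2],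
  [Int.negSucc 1, Int.negSucc 1, Int.negSucc 1, Int.ofNat 0, Int.negSucc 1, Int.ofNat 0, Int.ofNat 0, Int.ofNat 0, Int.ofNat 0, Int.ofNat 0, Int.ofNat 0, Int.ofNat 0, Int.ofNat 0, Int.ofNat 2, Int.ofNat 0, Int.ofNat 0, Int.ofNat 2, Int.ofNat 0, Int.ofNat 0, Int.ofNat 0, Int.ofNat 0, Int.ofNat 0, Int.ofNat 2, Int.ofNat 2],
  [Int.ofNat 0, Int.ofNat 0, Int.ofNat 0, Int.ofNat 0, Int.negSucc 3, Int.ofNat 0, Int.ofNat 0, Int.ofNat 0, Int.ofNat 0, Int.ofNat 0, Int.ofNat 0, Int.ofNat 0, Int.ofNat 0, Int.ofNat 0, Int.ofNat 0, Int.ofNat 0, Int.ofNat 0, Int.ofNat 0, Int.ofNat 0, Int.ofNat 0, Int.ofNat 0, Int.ofNat 0, Int.ofNat 0, Int.negSucc 3],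
  [Int.ofNat 0, Int.ofNat 0, Int.ofNat 0, Int.ofNat 0, Int.negSucc 3, Int.ofNat 0, Int.ofNat 0, Int.ofNat 0, Int.ofNat 0, Int.ofNat 0, Int.ofNat 0, Int.ofNat 0, Int.ofNat 0, Int.ofNat 0, Int.ofNat 0, Int.ofNat 0, Int.ofNat 0, Int.ofNat 0, Int.ofNat 0, Int.ofNat 0, Int.ofNat 0, Int.ofNat 0, Int.ofNat 0, Int.negSucc 3],
  [Int.ofNat 0, Int.ofNat 0, Int.ofNat 0, Int.ofNat 0, Int.ofNat 0, Int.ofNat 0, Int.ofNat 0, Int.ofNat 0, Int.ofNat 0, Int.ofNat 0, Int.ofNat 0, Int.ofNat 0, Int.ofNat 0, Int.negSucc 3, Int.ofNat 0, Int.ofNat 0, Int.ofNat 0, Int.ofNat 0, Int.ofNat 0, Int.ofNat 0, Int.ofNat 0, Int.ofNat 0, Int.ofNat 0, Int.negSucc 3],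
  [Int.ofNat 0, Int.ofNat 0, Int.ofNat 0, Int.ofNat 0, Int.ofNat 0, Int.ofNat 0, Int.ofNat 0, Int.ofNat 0, Int.ofNat 0, Int.ofNat 0, Int.ofNat 0, Int.ofNat 0, Int.ofNat 0, Int.ofNat 4, Int.ofNat 0, Int.ofNat 0, Int.ofNat 0, Int.ofNat 0, Int.ofNat 0, Int.ofNat 0, Int.ofNat 0, Int.ofNat 0, Int.ofNat 0, Int.negSucc 3],
  [Int.negSucc 3, Int.ofNat 0, Int.ofNat 0, Int.ofNat 0, Int.ofNat 0, Int.ofNat 0, Int.ofNat 0, Int.ofNat 4, Int.ofNat 0, Int.ofNat 0, Int.ofNat 0, Int.ofNat 0, Int.ofNat 0, Int.ofNat 0, Int.ofNat 0, Int.ofNat 0, Int.ofNat 0, Int.ofNat 0, Int.ofNat 0, Int.ofNat 0, Int.ofNat 0, Int.ofNat 0, Int.ofNat 0, Int.ofNat 0],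
  [Int.ofNat 4, Int.ofNat 0, Int.ofNat 0, Int.ofNat 0, Int.ofNat 0, Int.ofNat 0, Int.ofNat 0, Int.negSucc 3, Int.ofNat 0, Int.ofNat 0, Int.ofNat 0, Int.ofNat 0, Int.ofNat 0, Int.ofNat 0, Int.ofNat 0, Int.ofNat 0, Int.ofNat 0, Int.ofNat 0, Int.ofNat 0, Int.ofNat 0, Int.ofNat 0, Int.ofNat 0, Int.ofNat 0, Int.ofNat 0],
  [Int.ofNat 0, Int.ofNat 4, Int.ofNat 0, Int.ofNat 0, Int.ofNat 0, Int.ofNat 0, Int.ofNat 0, Int.ofNat 0, Int.negSucc 3, Int.ofNat 0, Int.ofNat 0, Int.ofNat 0, Int.ofNat 0, Int.ofNat 0, Int.ofNat 0, Int.ofNat 0, Int.ofNat 0, Int.ofNat 0, Int.ofNat 0, Int.ofNat 0, Int.ofNat 0, Int.ofNat 0, Int.ofNat 0, Int.ofNat 0],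
  [Int.ofNat 2, Int.negSucc 1, Int.ofNat 2, Int.ofNat 0, Int.ofNat 0, Int.ofNat 0, Int.ofNat 0, Int.ofNat 0, Int.negSucc 1, Int.ofNat 0, Int.ofNat 0, Int.ofNat 2, Int.ofNat 2, Int.ofNat 0, Int.ofNat 0, Int.ofNat 0, Int.ofNat 0, Int.ofNat 0, Int.ofNat 2, Int.ofNat 0, Int.ofNat 0, Int.ofNat 0, Int.ofNat 0, Int.ofNat 2],
  [Int.ofNat 0, Int.ofNat 0, Int.ofNat 0, Int.ofNat 0, Int.ofNat 0, Int.negSucc 1, Int.ofNat 0, Int.ofNat 0, Int.ofNat 2, Int.ofNat 2, Int.ofNat 0, Int.ofNat 0, Int.ofNat 0, Int.ofNat 0, Int.ofNat 0, Int.ofNat 2, Int.ofNat 0, Int.ofNat 0, Int.ofNat 0, Int.ofNat 0, Int.ofNat 2, Int.negSucc 1, Int.ofNat 2, Int.ofNat 2],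
  [Int.ofNat 1, Int.ofNat 1, Int.ofNat 1, Int.ofNat 1, Int.negSucc 0, Int.negSucc 0, Int.ofNat 1, Int.ofNat 1, Int.ofNat 1, Int.negSucc 0, Int.negSucc 2, Int.negSucc 0, Int.negSucc 0, Int.negSucc 0, Int.ofNat 1, Int.negSucc 0, Int.negSucc 0, Int.ofNat 1, Int.negSucc 0, Int.ofNat 1, Int.negSucc 0, Int.negSucc 0, Int.ofNat 1, Int.negSucc 0],
  [Int.ofNat 1, Int.ofNat 1, Int.negSucc 0, Int.ofNat 1, Int.negSucc 0, Int.ofNat 1, Int.ofNat 1, Int.negSucc 2, Int.negSucc 0, Int.negSucc 0, Int.negSucc 0, Int.ofNat 1, Int.negSucc 0, Int.negSucc 0, Int.ofNat 1, Int.negSucc 0, Int.ofNat 1, Int.ofNat 1, Int.ofNat 1, Int.negSucc 0, Int.negSucc 0, Int.negSucc 0, Int.ofNat 1, Int.negSucc 0],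
  [Int.negSucc 0, Int.negSucc 0, Int.ofNat 1, Int.negSucc 0, Int.negSucc 0, Int.negSucc 0, Int.ofNat 3, Int.negSucc 0, Int.negSucc 0, Int.ofNat 1, Int.ofNat 1, Int.ofNat 1, Int.negSucc 0, Int.negSucc 0, Int.negSucc 0, Int.ofNat 1, Int.ofNat 1, Int.negSucc 0, Int.ofNat 1, Int.ofNat 1, Int.ofNat 1, Int.ofNat 1, Int.ofNat 1, Int.ofNat 1],
  [Int.negSucc 0, Int.negSucc 0, Int.negSucc 0, Int.negSucc 0, Int.negSucc 0, Int.ofNat 1, Int.negSucc 2, Int.negSucc 0, Int.negSucc 0, Int.negSucc 0, Int.negSucc 0, Int.ofNat 1, Int.negSucc 0, Int.negSucc 0, Int.negSucc 0, Int.negSucc 0, Int.ofNat 1, Int.negSucc 0, Int.negSucc 0, Int.ofNat 1, Int.ofNat 1, Int.ofNat 1, Int.negSucc 0, Int.ofNat 1],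
  [Int.negSucc 0, Int.negSucc 0, Int.negSucc 0, Int.ofNat 1, Int.negSucc 0, Int.negSucc 0, Int.negSucc 0, Int.negSucc 0, Int.ofNat 1, Int.negSucc 0, Int.negSucc 0, Int.ofNat 1, Int.ofNat 1, Int.ofNat 1, Int.negSucc 0, Int.negSucc 0, Int.negSucc 0, Int.negSucc 0, Int.negSucc 0, Int.negSucc 0, Int.ofNat 1, Int.negSucc 2, Int.negSucc 0, Int.ofNat 1],
  [Int.negSucc 0, Int.negSucc 0, Int.ofNat 1, Int.ofNat 1, Int.negSucc 0, Int.ofNat 1, Int.ofNat 1, Int.negSucc 0, Int.ofNat 1, Int.ofNat 1, Int.ofNat 1, Int.ofNat 1, Int.ofNat 1, Int.ofNat 1, Int.negSucc 0, Int.ofNat 1, Int.negSucc 0, Int.negSucc 0, Int.ofNat 1, Int.negSucc 0, Int.ofNat 1, Int.negSucc 2, Int.ofNat 1, Int.ofNat 1],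
  [Int.ofNat 1, Int.ofNat 1, Int.negSucc 0, Int.ofNat 1, Int.negSucc 0, Int.ofNat 1, Int.ofNat 3, Int.ofNat 1, Int.negSucc 0, Int.negSucc 0, Int.negSucc 0, Int.negSucc 0, Int.negSucc 0, Int.ofNat 1, Int.negSucc 0, Int.negSucc 0, Int.negSucc 0, Int.negSucc 0, Int.negSucc 0, Int.ofNat 1, Int.negSucc 0, Int.negSucc 0, Int.ofNat 1, Int.negSucc 0],
  [Int.ofNat 1, Int.negSucc 0, Int.ofNat 3, Int.ofNat 1, Int.negSucc 0, Int.negSucc 0, Int.ofNat 1, Int.ofNat 1, Int.negSucc 0, Int.negSucc 0, Int.ofNat 1, Int.ofNat 1, Int.negSucc 0, Int.negSucc 0, Int.negSucc 0, Int.negSucc 0, Int.ofNat 1, Int.negSucc 0, Int.negSucc 0, Int.ofNat 1, Int.negSucc 0, Int.negSucc 0, Int.negSucc 0, Int.negSucc 0],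
  [Int.ofNat 0, Int.ofNat 2, Int.negSucc 1, Int.ofNat 2, Int.ofNat 0, Int.ofNat 0, Int.ofNat 0, Int.ofNat 0, Int.ofNat 0, Int.ofNat 0, Int.ofNat 2, Int.ofNat 2, Int.ofNat 0, Int.ofNat 0, Int.ofNat 0, Int.ofNat 0, Int.ofNat 2, Int.ofNat 0, Int.ofNat 0, Int.ofNat 0, Int.ofNat 0, Int.negSucc 1, Int.ofNat 0, Int.ofNat 2],
  [Int.ofNat 0, Int.negSucc 1, Int.ofNat 0, Int.ofNat 0, Int.ofNat 2, Int.negSucc 1, Int.ofNat 2, Int.ofNat 0, Int.ofNat 0, Int.ofNat 0, Int.ofNat 0, Int.ofNat 0, Int.ofNat 0, Int.ofNat 2, Int.ofNat 2, Int.ofNat 0, Int.ofNat 0, Int.ofNat 0, Int.ofNat 0, Int.ofNat 2, Int.ofNat 0, Int.ofNat 0, Int.ofNat 0, Int.ofNat 2],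
  [Int.ofNat 0, Int.ofNat 2, Int.ofNat 0, Int.ofNat 0, Int.ofNat 0, Int.negSucc 1, Int.ofNat 0, Int.negSucc 1, Int.ofNat 0, Int.ofNat 0, Int.ofNat 0, Int.ofNat 0, Int.ofNat 0, Int.ofNat 0, Int.ofNat 2, Int.ofNat 0, Int.negSucc 1, Int.ofNat 0, Int.ofNat 0, Int.ofNat 0, Int.ofNat 0, Int.negSucc 1, Int.negSucc 1, Int.negSucc 1],
  [Int.ofNat 2, Int.ofNat 0, Int.ofNat 0, Int.ofNat 0, Int.negSucc 1, Int.ofNat 0, Int.negSucc 1, Int.ofNat 0, Int.ofNat 0, Int.ofNat 0, Int.ofNat 0, Int.ofNat 0, Int.ofNat 0, Int.ofNat 2, Int.ofNat 0, Int.negSucc 1, Int.ofNat 0, Int.ofNat 0, Int.ofNat 0, Int.ofNat 0, Int.negSucc 1, Int.negSucc 1, Int.ofNat 0, Int.negSucc 1],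
  [Int.negSucc 1, Int.ofNat 0, Int.ofNat 0, Int.ofNat 0, Int.negSucc 1, Int.ofNat 0, Int.negSucc 1, Int.ofNat 0, Int.ofNat 0, Int.ofNat 0, Int.ofNat 0, Int.ofNat 0, Int.ofNat 0, Int.ofNat 2, Int.ofNat 0, Int.negSucc 1, Int.ofNat 0, Int.ofNat 0, Int.ofNat 0, Int.ofNat 0, Int.negSucc 1, Int.ofNat 2, Int.ofNat 0, Int.negSucc 1],
  [Int.negSucc 1, Int.ofNat 0, Int.ofNat 0, Int.ofNat 0, Int.ofNat 0, Int.ofNat 0, Int.negSucc 1, Int.negSucc 1, Int.ofNat 0, Int.ofNat 0, Int.ofNat 2, Int.ofNat 0, Int.ofNat 2, Int.ofNat 0, Int.ofNat 0, Int.negSucc 1, Int.ofNat 0, Int.ofNat 0, Int.negSucc 1, Int.ofNat 0, Int.ofNat 0, Int.ofNat 0, Int.ofNat 0, Int.negSucc 1],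
  [Int.ofNat 2, Int.ofNat 0, Int.ofNat 0, Int.ofNat 0, Int.ofNat 0, Int.ofNat 0, Int.negSucc 1, Int.ofNat 2, Int.ofNat 0, Int.ofNat 0, Int.negSucc 1, Int.ofNat 0, Int.ofNat 2, Int.ofNat 0, Int.ofNat 0, Int.negSucc 1, Int.ofNat 0, Int.ofNat 0, Int.ofNat 2, Int.ofNat 0, Int.ofNat 0, Int.ofNat 0, Int.ofNat 0, Int.negSucc 1],
  [Int.ofNat 0, Int.ofNat 2, Int.ofNat 0, Int.ofNat 0, Int.ofNat 0, Int.ofNat 0, Int.ofNat 0, Int.negSucc 1, Int.ofNat 2, Int.ofNat 0, Int.ofNat 0, Int.negSucc 1, Int.ofNat 0, Int.ofNat 2, Int.ofNat 0, Int.ofNat 0, Int.negSucc 1, Int.ofNat 0, Int.ofNat 0, Int.ofNat 2, Int.ofNat 0, Int.ofNat 0, Int.ofNat 0, Int.negSucc 1],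
  [Int.ofNat 0, Int.negSucc 1, Int.ofNat 0, Int.ofNat 0, Int.ofNat 0, Int.ofNat 0, Int.ofNat 0, Int.negSucc 1, Int.ofNat 2, Int.ofNat 0, Int.ofNat 0, Int.negSucc 1, Int.ofNat 0, Int.ofNat 2, Int.ofNat 0, Int.ofNat 0, Int.negSucc 1, Int.ofNat 0, Int.ofNat 0, Int.ofNat 2, Int.ofNat 0, Int.ofNat 0, Int.ofNat 0, Int.ofNat 2],
  [Int.ofNat 0, Int.ofNat 0, Int.ofNat 0, Int.ofNat 0, Int.negSucc 1, Int.ofNat 2, Int.ofNat 0, Int.ofNat 0, Int.negSucc 1, Int.ofNat 0, Int.ofNat 2, Int.ofNat 0, Int.ofNat 0, Int.negSucc 1, Int.ofNat 0, Int.ofNat 0, Int.ofNat 2, Int.ofNat 0, Int.ofNat 0, Int.ofNat 0, Int.ofNat 0, Int.negSucc 1, Int.ofNat 0, Int.ofNat 2],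
  [Int.ofNat 1, Int.ofNat 1, Int.ofNat 1, Int.negSucc 0, Int.negSucc 0, Int.ofNat 1, Int.ofNat 1, Int.ofNat 1, Int.negSucc 0, Int.negSucc 0, Int.ofNat 1, Int.ofNat 1, Int.ofNat 1, Int.negSucc 0, Int.negSucc 0, Int.negSucc 0, Int.ofNat 3, Int.negSucc 0, Int.ofNat 1, Int.ofNat 1, Int.negSucc 0, Int.negSucc 0, Int.ofNat 1, Int.negSucc 0],
  [Int.ofNat 1, Int.ofNat 1, Int.negSucc 0, Int.negSucc 0, Int.ofNat 1, Int.ofNat 1, Int.ofNat 1, Int.ofNat 1, Int.ofNat 1, Int.negSucc 0, Int.negSucc 0, Int.negSucc 0, Int.negSucc 0, Int.ofNat 3, Int.ofNat 1, Int.negSucc 0, Int.negSucc 0, Int.negSucc 0, Int.ofNat 1, Int.ofNat 1, Int.negSucc 0, Int.ofNat 1, Int.ofNat 1, Int.negSucc 0],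
  [Int.negSucc 0, Int.negSucc 0, Int.ofNat 1, Int.negSucc 0, Int.negSucc 0, Int.ofNat 1, Int.negSucc 0, Int.negSucc 0, Int.ofNat 1, Int.ofNat 1, Int.ofNat 1, Int.negSucc 0, Int.negSucc 0, Int.ofNat 1, Int.ofNat 1, Int.ofNat 1, Int.negSucc 2, Int.negSucc 0, Int.ofNat 1, Int.negSucc 0, Int.ofNat 1, Int.negSucc 0, Int.negSucc 0, Int.ofNat 1],
  [Int.negSucc 0, Int.negSucc 0, Int.negSucc 0, Int.negSucc 0, Int.negSucc 0, Int.negSucc 0, Int.ofNat 1, Int.negSucc 0, Int.ofNat 1, Int.negSucc 0, Int.negSucc 0, Int.negSucc 0, Int.negSucc 0, Int.ofNat 1, Int.ofNat 1, Int.negSucc 0, Int.negSucc 2, Int.negSucc 0, Int.negSucc 0, Int.negSucc 0, Int.ofNat 1, Int.negSucc 0, Int.ofNat 1, Int.ofNat 1],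
  [Int.negSucc 0, Int.negSucc 2, Int.negSucc 0, Int.ofNat 1, Int.ofNat 1, Int.ofNat 1, Int.negSucc 0, Int.negSucc 0, Int.negSucc 0, Int.ofNat 1, Int.ofNat 1, Int.negSucc 0, Int.negSucc 0, Int.negSucc 0, Int.negSucc 0, Int.negSucc 0, Int.negSucc 0, Int.negSucc 0, Int.negSucc 0, Int.negSucc 0, Int.negSucc 0, Int.negSucc 0, Int.ofNat 1, Int.ofNat 1],
  [Int.ofNat 1, Int.ofNat 3, Int.ofNat 1, Int.negSucc 0, Int.negSucc 0, Int.ofNat 1, Int.ofNat 1, Int.negSucc 0, Int.ofNat 1, Int.negSucc 0, Int.ofNat 1, Int.negSucc 0, Int.ofNat 1, Int.ofNat 1, Int.negSucc 0, Int.negSucc 0, Int.ofNat 1, Int.negSucc 0, Int.ofNat 1, Int.negSucc 0, Int.negSucc 0, Int.negSucc 0, Int.ofNat 1, Int.ofNat 1],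
  [Int.ofNat 1, Int.ofNat 1, Int.negSucc 0, Int.negSucc 0, Int.negSucc 0, Int.negSucc 0, Int.negSucc 0, Int.ofNat 1, Int.negSucc 0, Int.ofNat 1, Int.ofNat 1, Int.ofNat 1, Int.negSucc 0, Int.negSucc 0, Int.ofNat 1, Int.negSucc 0, Int.ofNat 1, Int.negSucc 0, Int.negSucc 0, Int.ofNat 1, Int.ofNat 1, Int.ofNat 1, Int.ofNat 3, Int.ofNat 1],
  [Int.negSucc 0, Int.ofNat 1, Int.ofNat 1, Int.negSucc 0, Int.negSucc 0, Int.negSucc 0, Int.negSucc 0, Int.negSucc 0, Int.negSucc 0, Int.negSucc 0, Int.negSucc 0, Int.negSucc 0, Int.negSucc 0, Int.negSucc 0, Int.ofNat 1, Int.negSucc 0, Int.ofNat 1, Int.negSucc 0, Int.ofNat 1, Int.ofNat 1, Int.ofNat 1, Int.negSucc 0, Int.ofNat 3, Int.ofNat 1],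
  [Int.ofNat 3, Int.negSucc 0, Int.ofNat 1, Int.ofNat 1, Int.negSucc 0, Int.negSucc 0, Int.negSucc 0, Int.negSucc 0, Int.negSucc 0, Int.negSucc 0, Int.negSucc 0, Int.negSucc 0, Int.negSucc 0, Int.negSucc 0, Int.negSucc 0, Int.ofNat 1, Int.negSucc 0, Int.ofNat 1, Int.negSucc 0, Int.ofNat 1, Int.ofNat 1, Int.ofNat 1, Int.negSucc 0, Int.ofNat 1],
  [Int.negSucc 0, Int.ofNat 3, Int.ofNat 1, Int.ofNat 1, Int.ofNat 1, Int.negSucc 0, Int.negSucc 0, Int.negSucc 0, Int.ofNat 1, Int.negSucc 0, Int.negSucc 0, Int.ofNat 1, Int.ofNat 1, Int.ofNat 1, Int.negSucc 0, Int.ofNat 1, Int.ofNat 1, Int.ofNat 1, Int.ofNat 1, Int.ofNat 1, Int.ofNat 1, Int.ofNat 1, Int.ofNat 1, Int.ofNat 1],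
  [Int.ofNat 1, Int.ofNat 1, Int.negSucc 0, Int.negSucc 0, Int.negSucc 0, Int.ofNat 1, Int.negSucc 0, Int.negSucc 0, Int.ofNat 1, Int.ofNat 1, Int.ofNat 1, Int.negSucc 0, Int.ofNat 1, Int.ofNat 1, Int.ofNat 1, Int.ofNat 1, Int.ofNat 1, Int.ofNat 1, Int.ofNat 1, Int.ofNat 1, Int.negSucc 0, Int.ofNat 3, Int.ofNat 1, Int.ofNat 1],
  [Int.ofNat 0, Int.ofNat 0, Int.ofNat 2, Int.negSucc 1, Int.negSucc 1, Int.ofNat 0, Int.negSucc 1, Int.negSucc 1, Int.ofNat 0, Int.ofNat 0, Int.ofNat 0, Int.negSucc 1, Int.ofNat 0, Int.ofNat 0, Int.ofNat 0, Int.ofNat 0, Int.ofNat 0, Int.ofNat 0, Int.ofNat 0, Int.ofNat 0, Int.negSucc 1, Int.ofNat 2, Int.ofNat 0, Int.ofNat 0],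
  [Int.ofNat 0, Int.negSucc 1, Int.negSucc 1, Int.negSucc 1, Int.ofNat 0, Int.negSucc 1, Int.ofNat 2, Int.ofNat 0, Int.ofNat 0, Int.ofNat 0, Int.negSucc 1, Int.ofNat 0, Int.ofNat 0, Int.ofNat 0, Int.ofNat 0, Int.ofNat 0, Int.ofNat 0, Int.ofNat 0, Int.ofNat 0, Int.negSucc 1, Int.ofNat 2, Int.ofNat 0, Int.ofNat 0, Int.ofNat 0],
  [Int.negSucc 1, Int.ofNat 0, Int.ofNat 0, Int.ofNat 0, Int.ofNat 0, Int.ofNat 0, Int.ofNat 2, Int.ofNat 0, Int.ofNat 0, Int.ofNat 0, Int.negSucc 1, Int.ofNat 0, Int.ofNat 0, Int.ofNat 0, Int.ofNat 2, Int.ofNat 0, Int.ofNat 0, Int.ofNat 2, Int.ofNat 0, Int.negSucc 1, Int.ofNat 2, Int.ofNat 0, Int.ofNat 0, Int.negSucc 1],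
  [Int.negSucc 1, Int.ofNat 0, Int.ofNat 0, Int.ofNat 0, Int.ofNat 0, Int.ofNat 0, Int.negSucc 1, Int.ofNat 0, Int.ofNat 0, Int.ofNat 0, Int.ofNat 2, Int.ofNat 0, Int.ofNat 0, Int.ofNat 0, Int.ofNat 2, Int.ofNat 0, Int.ofNat 0, Int.ofNat 2, Int.ofNat 0, Int.negSucc 1, Int.ofNat 2, Int.ofNat 0, Int.ofNat 0, Int.negSucc 1],
  [Int.ofNat 0, Int.negSucc 1, Int.ofNat 0, Int.ofNat 0, Int.ofNat 0, Int.ofNat 0, Int.ofNat 2, Int.ofNat 0, Int.ofNat 0, Int.ofNat 0, Int.ofNat 0, Int.ofNat 0, Int.negSucc 1, Int.ofNat 2, Int.ofNat 0, Int.ofNat 0, Int.ofNat 2, Int.ofNat 0, Int.ofNat 2, Int.ofNat 0, Int.ofNat 0, Int.negSucc 1, Int.ofNat 0, Int.negSucc 1],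
  [Int.ofNat 0, Int.negSucc 1, Int.ofNat 0, Int.ofNat 0, Int.ofNat 0, Int.ofNat 0, Int.negSucc 1, Int.ofNat 0, Int.ofNat 0, Int.ofNat 0, Int.ofNat 0, Int.ofNat 0, Int.negSucc 1, Int.ofNat 2, Int.ofNat 0, Int.ofNat 0, Int.ofNat 2, Int.ofNat 0, Int.negSucc 1, Int.ofNat 0, Int.ofNat 0, Int.negSucc 1, Int.ofNat 0, Int.negSucc 1],
  [Int.negSucc 1, Int.ofNat 0, Int.negSucc 1, Int.ofNat 0, Int.negSucc 1, Int.ofNat 0, Int.ofNat 0, Int.ofNat 2, Int.ofNat 2, Int.ofNat 0, Int.ofNat 0, Int.ofNat 2, Int.ofNat 0, Int.ofNat 0, Int.ofNat 0, Int.ofNat 0, Int.ofNat 0, Int.ofNat 0, Int.ofNat 0, Int.ofNat 2, Int.ofNat 0, Int.ofNat 0, Int.negSucc 1, Int.ofNat 0],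
  [Int.negSucc 1, Int.ofNat 0, Int.ofNat 0, Int.ofNat 0, Int.negSucc 1, Int.ofNat 0, Int.ofNat 0, Int.ofNat 0, Int.ofNat 0, Int.ofNat 0, Int.ofNat 2, Int.ofNat 2, Int.ofNat 2, Int.ofNat 0, Int.ofNat 0, Int.ofNat 0, Int.ofNat 0, Int.ofNat 2, Int.negSucc 1, Int.negSucc 1, Int.ofNat 0, Int.ofNat 0, Int.ofNat 0, Int.ofNat 0],
  [Int.ofNat 1, Int.negSucc 0, Int.negSucc 0, Int.negSucc 0, Int.negSucc 0, Int.negSucc 0, Int.ofNat 1, Int.ofNat 1, Int.negSucc 0, Int.negSucc 0, Int.ofNat 1, Int.ofNat 1, Int.ofNat 1, Int.ofNat 1, Int.negSucc 0, Int.negSucc 0, Int.ofNat 1, Int.ofNat 1, Int.negSucc 2, Int.negSucc 0, Int.negSucc 0, Int.ofNat 1, Int.ofNat 1, Int.negSucc 0],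
  [Int.negSucc 0, Int.ofNat 1, Int.ofNat 1, Int.ofNat 1, Int.negSucc 0, Int.negSucc 0, Int.negSucc 0, Int.negSucc 0, Int.negSucc 0, Int.ofNat 1, Int.ofNat 1, Int.negSucc 0, Int.negSucc 0, Int.ofNat 1, Int.ofNat 1, Int.ofNat 1, Int.ofNat 1, Int.negSucc 0, Int.negSucc 0, Int.ofNat 1, Int.ofNat 1, Int.negSucc 2, Int.negSucc 0, Int.negSucc 0],
  [Int.ofNat 1, Int.negSucc 0, Int.negSucc 0, Int.ofNat 1, Int.negSucc 0, Int.negSucc 0, Int.ofNat 1, Int.ofNat 1, Int.ofNat 1, Int.negSucc 0, Int.negSucc 0, Int.ofNat 1, Int.ofNat 1, Int.ofNat 1, Int.ofNat 1, Int.negSucc 0, Int.ofNat 1, Int.negSucc 0, Int.ofNat 1, Int.ofNat 3, Int.negSucc 0, Int.negSucc 0, Int.negSucc 0, Int.ofNat 1],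
  [Int.negSucc 0, Int.negSucc 0, Int.ofNat 1, Int.negSucc 0, Int.negSucc 0, Int.ofNat 1, Int.ofNat 1, Int.ofNat 1, Int.negSucc 0, Int.negSucc 0, Int.ofNat 1, Int.ofNat 1, Int.ofNat 1, Int.ofNat 1, Int.negSucc 0, Int.ofNat 1, Int.negSucc 0, Int.ofNat 1, Int.ofNat 3, Int.negSucc 0, Int.negSucc 0, Int.negSucc 0, Int.ofNat 1, Int.ofNat 1],
  [Int.ofNat 1, Int.negSucc 0, Int.negSucc 0, Int.negSucc 0, Int.negSucc 0, Int.ofNat 1, Int.ofNat 1, Int.negSucc 0, Int.negSucc 0, Int.ofNat 1, Int.negSucc 0, Int.negSucc 0, Int.ofNat 1, Int.ofNat 1, Int.negSucc 0, Int.ofNat 1, Int.negSucc 0, Int.ofNat 1, Int.negSucc 2, Int.negSucc 0, Int.negSucc 0, Int.ofNat 1, Int.ofNat 1, Int.ofNat 1],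
  [Int.ofNat 1, Int.negSucc 0, Int.negSucc 2, Int.negSucc 0, Int.negSucc 0, Int.negSucc 0, Int.negSucc 0, Int.negSucc 0, Int.ofNat 1, Int.negSucc 0, Int.ofNat 1, Int.negSucc 0, Int.ofNat 1, Int.negSucc 0, Int.negSucc 0, Int.ofNat 1, Int.ofNat 1, Int.ofNat 1, Int.ofNat 1, Int.ofNat 1, Int.ofNat 1, Int.negSucc 0, Int.negSucc 0, Int.ofNat 1],
  [Int.negSucc 0, Int.negSucc 0, Int.ofNat 3, Int.negSucc 0, Int.negSucc 0, Int.negSucc 0, Int.negSucc 0, Int.ofNat 1, Int.ofNat 1, Int.ofNat 1, Int.negSucc 0, Int.ofNat 1, Int.ofNat 1, Int.negSucc 0, Int.negSucc 0, Int.ofNat 1, Int.ofNat 1, Int.ofNat 1, Int.negSucc 0, Int.ofNat 1, Int.ofNat 1, Int.ofNat 1, Int.negSucc 0, Int.ofNat 1],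
  [Int.negSucc 0, Int.negSucc 0, Int.negSucc 0, Int.ofNat 3, Int.negSucc 0, Int.negSucc 0, Int.negSucc 0, Int.negSucc 0, Int.ofNat 1, Int.ofNat 1, Int.ofNat 1, Int.negSucc 0, Int.ofNat 1, Int.ofNat 1, Int.negSucc 0, Int.negSucc 0, Int.ofNat 1, Int.ofNat 1, Int.ofNat 1, Int.negSucc 0, Int.ofNat 1, Int.ofNat 1, Int.ofNat 1, Int.ofNat 1],
  [Int.ofNat 0, Int.ofNat 0, Int.ofNat 0, Int.ofNat 2, Int.negSucc 1, Int.negSucc 1, Int.ofNat 0, Int.ofNat 0, Int.ofNat 0, Int.ofNat 0, Int.ofNat 0, Int.negSucc 1, Int.ofNat 0, Int.ofNat 0, Int.negSucc 1, Int.negSucc 1, Int.ofNat 0, Int.ofNat 0, Int.ofNat 0, Int.ofNat 0, Int.ofNat 0, Int.ofNat 2, Int.ofNat 0, Int.negSucc 1],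
  [Int.ofNat 2, Int.negSucc 1, Int.negSucc 1, Int.ofNat 0, Int.ofNat 0, Int.ofNat 0, Int.ofNat 0, Int.ofNat 0, Int.negSucc 1, Int.ofNat 0, Int.ofNat 0, Int.negSucc 1, Int.negSucc 1, Int.ofNat 0, Int.ofNat 0, Int.ofNat 0, Int.ofNat 0, Int.ofNat 0, Int.ofNat 2, Int.ofNat 0, Int.ofNat 0, Int.ofNat 0, Int.ofNat 0, Int.negSucc 1],
  [Int.negSucc 3, Int.ofNat 0, Int.ofNat 0, Int.ofNat 0, Int.ofNat 0, Int.ofNat 0, Int.ofNat 0, Int.ofNat 0, Int.ofNat 0, Int.ofNat 0, Int.ofNat 0, Int.ofNat 0, Int.ofNat 0, Int.ofNat 0, Int.ofNat 0, Int.ofNat 0, Int.ofNat 0, Int.ofNat 0, Int.ofNat 4, Int.ofNat 0, Int.ofNat 0, Int.ofNat 0, Int.ofNat 0, Int.ofNat 0],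
  [Int.negSucc 3, Int.ofNat 0, Int.ofNat 0, Int.ofNat 0, Int.ofNat 4, Int.ofNat 0, Int.ofNat 0, Int.ofNat 0, Int.ofNat 0, Int.ofNat 0, Int.ofNat 0, Int.ofNat 0, Int.ofNat 0, Int.ofNat 0, Int.ofNat 0, Int.ofNat 0, Int.ofNat 0, Int.ofNat 0, Int.ofNat 0, Int.ofNat 0, Int.ofNat 0, Int.ofNat 0, Int.ofNat 0, Int.ofNat 0],
  [Int.ofNat 2, Int.negSucc 1, Int.negSucc 1, Int.ofNat 0, Int.ofNat 2, Int.ofNat 0, Int.ofNat 0, Int.ofNat 0, Int.ofNat 0, Int.ofNat 0, Int.ofNat 0, Int.ofNat 0, Int.ofNat 0, Int.negSucc 1, Int.ofNat 0, Int.ofNat 0, Int.negSucc 1, Int.ofNat 0, Int.ofNat 0, Int.ofNat 0, Int.ofNat 0, Int.ofNat 0, Int.negSucc 1, Int.negSucc 1],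
  [Int.ofNat 2, Int.negSucc 1, Int.ofNat 2, Int.ofNat 0, Int.ofNat 2, Int.ofNat 0, Int.ofNat 0, Int.ofNat 0, Int.ofNat 0, Int.ofNat 0, Int.ofNat 0, Int.ofNat 0, Int.ofNat 0, Int.negSucc 1, Int.ofNat 0, Int.ofNat 0, Int.negSucc 1, Int.ofNat 0, Int.ofNat 0, Int.ofNat 0, Int.ofNat 0, Int.ofNat 0, Int.ofNat 2, Int.negSucc 1],
  [Int.ofNat 0, Int.negSucc 1, Int.ofNat 0, Int.ofNat 0, Int.ofNat 0, Int.ofNat 0, Int.ofNat 0, Int.ofNat 0, Int.ofNat 0, Int.ofNat 0, Int.negSucc 1, Int.ofNat 0, Int.ofNat 0, Int.ofNat 2, Int.ofNat 0, Int.ofNat 0, Int.ofNat 0, Int.ofNat 0, Int.ofNat 0, Int.ofNat 2, Int.ofNat 2, Int.negSucc 1, Int.ofNat 2, Int.negSucc 1],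
  [Int.ofNat 0, Int.ofNat 2, Int.ofNat 0, Int.ofNat 0, Int.ofNat 0, Int.ofNat 0, Int.ofNat 0, Int.ofNat 0, Int.ofNat 0, Int.ofNat 0, Int.negSucc 1, Int.ofNat 0, Int.ofNat 0, Int.negSucc 1, Int.ofNat 0, Int.ofNat 0, Int.ofNat 0, Int.ofNat 0, Int.ofNat 0, Int.ofNat 2, Int.ofNat 2, Int.negSucc 1, Int.ofNat 2, Int.negSucc 1],
  [Int.negSucc 1, Int.ofNat 2, Int.ofNat 0, Int.ofNat 0, Int.ofNat 0, Int.ofNat 0, Int.ofNat 2, Int.negSucc 1, Int.ofNat 2, Int.ofNat 0, Int.ofNat 0, Int.ofNat 0, Int.negSucc 1, Int.ofNat 0, Int.ofNat 0, Int.ofNat 0, Int.negSucc 1, Int.ofNat 0, Int.ofNat 0, Int.ofNat 0, Int.ofNat 0, Int.ofNat 0, Int.ofNat 2, Int.ofNat 0],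
  [Int.ofNat 2, Int.ofNat 2, Int.ofNat 0, Int.ofNat 0, Int.ofNat 0, Int.ofNat 0, Int.ofNat 2, Int.ofNat 2, Int.ofNat 2, Int.ofNat 0, Int.ofNat 0, Int.ofNat 0, Int.negSucc 1, Int.ofNat 0, Int.ofNat 0, Int.ofNat 0, Int.negSucc 1, Int.ofNat 0, Int.ofNat 0, Int.ofNat 0, Int.ofNat 0, Int.ofNat 0, Int.ofNat 2, Int.ofNat 0],
  [Int.ofNat 2, Int.ofNat 2, Int.ofNat 2, Int.ofNat 0, Int.ofNat 0, Int.ofNat 0, Int.ofNat 0, Int.ofNat 2, Int.ofNat 2, Int.ofNat 2, Int.ofNat 0, Int.ofNat 0, Int.ofNat 0, Int.negSucc 1, Int.ofNat 0, Int.ofNat 0, Int.ofNat 0, Int.negSucc 1, Int.ofNat 0, Int.ofNat 0, Int.ofNat 0, Int.ofNat 0, Int.ofNat 0, Int.ofNat 0],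
  [Int.ofNat 1, Int.ofNat 1, Int.ofNat 1, Int.ofNat 1, Int.ofNat 1, Int.ofNat 1, Int.negSucc 0, Int.ofNat 1, Int.ofNat 1, Int.ofNat 1, Int.negSucc 0, Int.negSucc 0, Int.negSucc 0, Int.negSucc 0, Int.ofNat 1, Int.negSucc 0, Int.ofNat 1, Int.negSucc 0, Int.negSucc 0, Int.negSucc 0, Int.negSucc 0, Int.negSucc 0, Int.ofNat 1, Int.ofNat 3],
  [Int.ofNat 1, Int.ofNat 1, Int.ofNat 1, Int.negSucc 0, Int.ofNat 1, Int.ofNat 1, Int.ofNat 1, Int.negSucc 0, Int.negSucc 0, Int.negSucc 0, Int.negSucc 0, Int.ofNat 1, Int.negSucc 0, Int.ofNat 1, Int.negSucc 0, Int.negSucc 0, Int.negSucc 0, Int.negSucc 0, Int.negSucc 0, Int.ofNat 1, Int.ofNat 1, Int.ofNat 1, Int.ofNat 1, Int.ofNat 3],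
  [Int.ofNat 2, Int.ofNat 2, Int.ofNat 2, Int.ofNat 0, Int.ofNat 0, Int.ofNat 2, Int.ofNat 0, Int.negSucc 1, Int.ofNat 0, Int.ofNat 0, Int.ofNat 0, Int.ofNat 2, Int.ofNat 0, Int.ofNat 0, Int.ofNat 0, Int.ofNat 0, Int.negSucc 1, Int.ofNat 0, Int.ofNat 0, Int.ofNat 0, Int.ofNat 2, Int.ofNat 0, Int.ofNat 0, Int.ofNat 0],
  [Int.ofNat 2, Int.ofNat 0, Int.ofNat 0, Int.ofNat 0, Int.ofNat 0, Int.negSucc 1, Int.ofNat 2, Int.ofNat 0, Int.ofNat 0, Int.ofNat 0, Int.ofNat 2, Int.ofNat 0, Int.ofNat 0, Int.negSucc 1, Int.ofNat 0, Int.ofNat 0, Int.ofNat 0, Int.ofNat 0, Int.ofNat 2, Int.ofNat 2, Int.ofNat 0, Int.ofNat 2, Int.ofNat 0, Int.ofNat 0],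
  [Int.negSucc 0, Int.ofNat 1, Int.ofNat 1, Int.ofNat 1, Int.ofNat 1, Int.negSucc 0, Int.negSucc 0, Int.negSucc 2, Int.negSucc 0, Int.negSucc 0, Int.ofNat 1, Int.negSucc 0, Int.negSucc 0, Int.negSucc 0, Int.ofNat 1, Int.negSucc 0, Int.ofNat 1, Int.ofNat 1, Int.ofNat 1, Int.negSucc 0, Int.negSucc 0, Int.negSucc 0, Int.ofNat 1, Int.ofNat 1],
  [Int.negSucc 0, Int.ofNat 1, Int.negSucc 0, Int.ofNat 1, Int.ofNat 1, Int.ofNat 1, Int.ofNat 1, Int.negSucc 2, Int.negSucc 0, Int.ofNat 1, Int.negSucc 0, Int.negSucc 0, Int.negSucc 0, Int.negSucc 0, Int.ofNat 1, Int.ofNat 1, Int.ofNat 1, Int.ofNat 1, Int.negSucc 0, Int.negSucc 0, Int.negSucc 0, Int.negSucc 0, Int.negSucc 0, Int.ofNat 1],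
  [Int.negSucc 0, Int.negSucc 0, Int.ofNat 1, Int.negSucc 0, Int.ofNat 1, Int.ofNat 1, Int.ofNat 1, Int.negSucc 0, Int.negSucc 0, Int.negSucc 0, Int.negSucc 0, Int.ofNat 1, Int.negSucc 0, Int.negSucc 0, Int.negSucc 0, Int.negSucc 2, Int.negSucc 0, Int.ofNat 1, Int.ofNat 1, Int.negSucc 0, Int.ofNat 1, Int.ofNat 1, Int.ofNat 1, Int.ofNat 1],
  [Int.negSucc 0, Int.negSucc 0, Int.negSucc 0, Int.negSucc 0, Int.ofNat 1, Int.negSucc 0, Int.negSucc 0, Int.negSucc 0, Int.negSucc 0, Int.ofNat 1, Int.ofNat 1, Int.ofNat 1, Int.negSucc 0, Int.negSucc 0, Int.negSucc 0, Int.ofNat 3, Int.negSucc 0, Int.ofNat 1, Int.negSucc 0, Int.negSucc 0, Int.ofNat 1, Int.ofNat 1, Int.negSucc 0, Int.ofNat 1],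
  [Int.ofNat 0, Int.ofNat 0, Int.ofNat 0, Int.ofNat 0, Int.ofNat 2, Int.ofNat 0, Int.ofNat 0, Int.ofNat 0, Int.ofNat 0, Int.negSucc 1, Int.negSucc 1, Int.ofNat 2, Int.ofNat 0, Int.ofNat 0, Int.ofNat 0, Int.ofNat 0, Int.ofNat 0, Int.ofNat 2, Int.ofNat 0, Int.ofNat 0, Int.negSucc 1, Int.ofNat 2, Int.ofNat 0, Int.negSucc 1],
  [Int.ofNat 0, Int.ofNat 0, Int.ofNat 0, Int.ofNat 0, Int.ofNat 0, Int.ofNat 2, Int.ofNat 0, Int.ofNat 0, Int.ofNat 0, Int.ofNat 0, Int.ofNat 0, Int.ofNat 0, Int.ofNat 0, Int.negSucc 1, Int.ofNat 2, Int.ofNat 0, Int.ofNat 0, Int.ofNat 2, Int.ofNat 2, Int.ofNat 0, Int.negSucc 1, Int.negSucc 1, Int.ofNat 0, Int.negSucc 1],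
  [Int.negSucc 0, Int.negSucc 0, Int.negSucc 0, Int.negSucc 2, Int.ofNat 1, Int.negSucc 0, Int.ofNat 1, Int.ofNat 1, Int.negSucc 0, Int.ofNat 1, Int.ofNat 1, Int.negSucc 0, Int.negSucc 0, Int.negSucc 0, Int.negSucc 0, Int.ofNat 1, Int.ofNat 1, Int.negSucc 0, Int.ofNat 1, Int.ofNat 1, Int.negSucc 0, Int.negSucc 0, Int.ofNat 1, Int.ofNat 1],
  [Int.negSucc 0, Int.negSucc 0, Int.ofNat 1, Int.negSucc 0, Int.negSucc 0, Int.negSucc 0, Int.negSucc 2, Int.ofNat 1, Int.negSucc 0, Int.ofNat 1, Int.ofNat 1, Int.negSucc 0, Int.ofNat 1, Int.ofNat 1, Int.negSucc 0, Int.negSucc 0, Int.negSucc 0, Int.negSucc 0, Int.ofNat 1, Int.ofNat 1, Int.negSucc 0, Int.ofNat 1, Int.ofNat 1, Int.ofNat 1],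
  [Int.ofNat 1, Int.ofNat 1, Int.negSucc 0, Int.ofNat 1, Int.negSucc 0, Int.ofNat 1, Int.negSucc 2, Int.ofNat 1, Int.negSucc 0, Int.ofNat 1, Int.ofNat 1, Int.negSucc 0, Int.ofNat 1, Int.ofNat 1, Int.ofNat 1, Int.negSucc 0, Int.negSucc 0, Int.ofNat 1, Int.ofNat 1, Int.ofNat 1, Int.negSucc 0, Int.ofNat 1, Int.ofNat 1, Int.negSucc 0],
  [Int.ofNat 1, Int.negSucc 0, Int.ofNat 1, Int.negSucc 0, Int.ofNat 1, Int.negSucc 2, Int.ofNat 1, Int.negSucc 0, Int.ofNat 1, Int.ofNat 1, Int.negSucc 0, Int.ofNat 1, Int.ofNat 1, Int.ofNat 1, Int.negSucc 0, Int.negSucc 0, Int.ofNat 1, Int.ofNat 1, Int.ofNat 1, Int.negSucc 0, Int.ofNat 1, Int.ofNat 1, Int.ofNat 1, Int.negSucc 0],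
  [Int.negSucc 0, Int.negSucc 0, Int.negSucc 0, Int.negSucc 0, Int.ofNat 1, Int.negSucc 2, Int.ofNat 1, Int.ofNat 1, Int.ofNat 1, Int.negSucc 0, Int.ofNat 1, Int.negSucc 0, Int.ofNat 1, Int.ofNat 1, Int.negSucc 0, Int.negSucc 0, Int.ofNat 1, Int.ofNat 1, Int.negSucc 0, Int.negSucc 0, Int.ofNat 1, Int.negSucc 0, Int.ofNat 1, Int.negSucc 0],
  [Int.negSucc 0, Int.negSucc 0, Int.negSucc 0, Int.negSucc 0, Int.negSucc 0, Int.ofNat 1, Int.ofNat 1, Int.ofNat 1, Int.negSucc 0, Int.ofNat 1, Int.negSucc 0, Int.negSucc 0, Int.ofNat 1, Int.ofNat 1, Int.negSucc 0, Int.negSucc 0, Int.ofNat 1, Int.ofNat 1, Int.ofNat 1, Int.ofNat 1, Int.negSucc 2, Int.ofNat 1, Int.negSucc 0, Int.negSucc 0],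
  [Int.ofNat 1, Int.negSucc 0, Int.ofNat 1, Int.negSucc 0, Int.negSucc 0, Int.ofNat 1, Int.ofNat 1, Int.negSucc 0, Int.negSucc 0, Int.negSucc 0, Int.ofNat 1, Int.ofNat 1, Int.ofNat 1, Int.ofNat 1, Int.negSucc 0, Int.negSucc 0, Int.ofNat 1, Int.ofNat 1, Int.negSucc 0, Int.ofNat 1, Int.negSucc 2, Int.negSucc 0, Int.negSucc 0, Int.negSucc 0],
  [Int.negSucc 0, Int.ofNat 1, Int.negSucc 0, Int.ofNat 1, Int.negSucc 0, Int.negSucc 0, Int.ofNat 1, Int.ofNat 1, Int.negSucc 0, Int.negSucc 0, Int.negSucc 0, Int.ofNat 1, Int.ofNat 1, Int.ofNat 1, Int.ofNat 1, Int.negSucc 0, Int.negSucc 0, Int.ofNat 1, Int.ofNat 1, Int.negSucc 0, Int.ofNat 1, Int.negSucc 2, Int.negSucc 0, Int.negSucc 0],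
  [Int.ofNat 0, Int.negSucc 1, Int.ofNat 0, Int.ofNat 0, Int.ofNat 0, Int.negSucc 1, Int.ofNat 2, Int.ofNat 2, Int.negSucc 1, Int.ofNat 0, Int.ofNat 0, Int.ofNat 0, Int.ofNat 0, Int.ofNat 2, Int.ofNat 0, Int.ofNat 0, Int.ofNat 0, Int.ofNat 0, Int.ofNat 0, Int.ofNat 0, Int.ofNat 2, Int.negSucc 1, Int.ofNat 0, Int.ofNat 0],
  [Int.ofNat 0, Int.ofNat 0, Int.negSucc 1, Int.ofNat 2, Int.ofNat 2, Int.negSucc 1, Int.ofNat 0, Int.ofNat 0, Int.ofNat 0, Int.ofNat 0, Int.ofNat 2, Int.ofNat 0, Int.ofNat 0, Int.ofNat 0, Int.ofNat 0, Int.ofNat 0, Int.ofNat 0, Int.ofNat 2, Int.negSucc 1, Int.ofNat 0, Int.ofNat 0, Int.negSucc 1, Int.ofNat 0, Int.ofNat 0],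
  [Int.negSucc 0, Int.negSucc 0, Int.ofNat 1, Int.ofNat 1, Int.ofNat 1, Int.negSucc 2, Int.ofNat 1, Int.ofNat 1, Int.ofNat 1, Int.negSucc 0, Int.ofNat 1, Int.ofNat 1, Int.ofNat 1, Int.negSucc 0, Int.negSucc 0, Int.negSucc 0, Int.negSucc 0, Int.ofNat 1, Int.negSucc 0, Int.ofNat 1, Int.negSucc 0, Int.negSucc 0, Int.negSucc 0, Int.negSucc 0],
  [Int.negSucc 0, Int.ofNat 1, Int.ofNat 1, Int.ofNat 1, Int.negSucc 0, Int.ofNat 1, Int.ofNat 1, Int.ofNat 1, Int.ofNat 1, Int.negSucc 0, Int.negSucc 0, Int.ofNat 1, Int.negSucc 0, Int.negSucc 0, Int.negSucc 0, Int.negSucc 0, Int.ofNat 1, Int.negSucc 0, Int.negSucc 0, Int.ofNat 1, Int.negSucc 0, Int.negSucc 2, Int.ofNat 1, Int.negSucc 0],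
  [Int.ofNat 1, Int.negSucc 0, Int.negSucc 0, Int.ofNat 1, Int.negSucc 0, Int.ofNat 1, Int.ofNat 1, Int.ofNat 1, Int.ofNat 1, Int.ofNat 1, Int.ofNat 1, Int.ofNat 1, Int.negSucc 0, Int.negSucc 0, Int.negSucc 0, Int.ofNat 1, Int.ofNat 1, Int.negSucc 0, Int.negSucc 0, Int.ofNat 1, Int.ofNat 1, Int.negSucc 2, Int.ofNat 1, Int.ofNat 1],
  [Int.ofNat 1, Int.negSucc 0, Int.ofNat 1, Int.ofNat 1, Int.negSucc 0, Int.negSucc 0, Int.negSucc 0, Int.ofNat 1, Int.ofNat 1, Int.negSucc 0, Int.negSucc 0, Int.ofNat 1, Int.negSucc 0, Int.negSucc 0, Int.negSucc 0, Int.negSucc 0, Int.ofNat 1, Int.negSucc 0, Int.ofNat 1, Int.ofNat 1, Int.ofNat 1, Int.negSucc 2, Int.negSucc 0, Int.ofNat 1],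
  [Int.negSucc 0, Int.ofNat 1, Int.ofNat 1, Int.ofNat 1, Int.negSucc 0, Int.negSucc 0, Int.negSucc 2, Int.ofNat 1, Int.negSucc 0, Int.ofNat 1, Int.negSucc 0, Int.ofNat 1, Int.negSucc 0, Int.negSucc 0, Int.negSucc 0, Int.ofNat 1, Int.ofNat 1, Int.negSucc 0, Int.negSucc 0, Int.ofNat 1, Int.ofNat 1, Int.negSucc 0, Int.negSucc 0, Int.ofNat 1],
  [Int.ofNat 1, Int.negSucc 0, Int.negSucc 0, Int.negSucc 0, Int.ofNat 1, Int.negSucc 0, Int.ofNat 3, Int.ofNat 1, Int.ofNat 1, Int.negSucc 0, Int.negSucc 0, Int.ofNat 1, Int.ofNat 1, Int.ofNat 1, Int.negSucc 0, Int.ofNat 1, Int.negSucc 0, Int.negSucc 0, Int.ofNat 1, Int.ofNat 1, Int.ofNat 1, Int.negSucc 0, Int.negSucc 0, Int.ofNat 1],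
  [Int.ofNat 1, Int.negSucc 0, Int.ofNat 1, Int.ofNat 1, Int.negSucc 0, Int.negSucc 0, Int.ofNat 1, Int.ofNat 1, Int.ofNat 1, Int.negSucc 0, Int.negSucc 0, Int.negSucc 0, Int.negSucc 0, Int.ofNat 1, Int.ofNat 1, Int.negSucc 0, Int.negSucc 0, Int.ofNat 1, Int.negSucc 0, Int.ofNat 3, Int.ofNat 1, Int.ofNat 1, Int.negSucc 0, Int.ofNat 1],
  [Int.negSucc 0, Int.negSucc 0, Int.negSucc 0, Int.ofNat 1, Int.negSucc 0, Int.negSucc 0, Int.ofNat 1, Int.negSucc 0, Int.ofNat 1, Int.ofNat 1, Int.ofNat 1, Int.ofNat 1, Int.negSucc 0, Int.ofNat 1, Int.ofNat 1, Int.negSucc 0, Int.negSucc 0, Int.ofNat 1, Int.ofNat 1, Int.ofNat 3, Int.ofNat 1, Int.negSucc 0, Int.negSucc 0, Int.ofNat 1],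
  [Int.negSucc 0, Int.negSucc 0, Int.negSucc 0, Int.negSucc 0, Int.ofNat 1, Int.negSucc 0, Int.negSucc 0, Int.ofNat 1, Int.negSucc 0, Int.ofNat 1, Int.ofNat 1, Int.ofNat 1, Int.ofNat 1, Int.negSucc 0, Int.ofNat 1, Int.ofNat 1, Int.negSucc 0, Int.negSucc 0, Int.ofNat 1, Int.ofNat 1, Int.ofNat 3, Int.ofNat 1, Int.negSucc 0, Int.ofNat 1],
  [Int.ofNat 0, Int.ofNat 0, Int.ofNat 0, Int.ofNat 0, Int.ofNat 2, Int.ofNat 0, Int.negSucc 1, Int.ofNat 0, Int.negSucc 1, Int.negSucc 1, Int.negSucc 1, Int.ofNat 0, Int.ofNat 0, Int.ofNat 0, Int.ofNat 2, Int.negSucc 1, Int.ofNat 0, Int.ofNat 0, Int.ofNat 0, Int.ofNat 0, Int.ofNat 0, Int.ofNat 0, Int.ofNat 0, Int.negSucc 1],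
  [Int.ofNat 0, Int.ofNat 2, Int.ofNat 0, Int.negSucc 1, Int.ofNat 0, Int.negSucc 1, Int.negSucc 1, Int.negSucc 1, Int.ofNat 0, Int.ofNat 0, Int.ofNat 0, Int.ofNat 2, Int.negSucc 1, Int.ofNat 0, Int.ofNat 0, Int.ofNat 0, Int.ofNat 0, Int.ofNat 0, Int.ofNat 0, Int.ofNat 0, Int.ofNat 0, Int.ofNat 0, Int.ofNat 0, Int.negSucc 1],
  [Int.ofNat 0, Int.negSucc 1, Int.ofNat 0, Int.ofNat 0, Int.ofNat 0, Int.ofNat 0, Int.ofNat 0, Int.ofNat 0, Int.ofNat 0, Int.ofNat 0, Int.ofNat 0, Int.ofNat 2, Int.negSucc 1, Int.ofNat 0, Int.ofNat 2, Int.ofNat 0, Int.ofNat 0, Int.ofNat 2, Int.ofNat 0, Int.ofNat 2, Int.ofNat 0, Int.ofNat 2, Int.ofNat 0, Int.ofNat 2],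
  [Int.ofNat 0, Int.ofNat 0, Int.ofNat 0, Int.ofNat 0, Int.ofNat 0, Int.ofNat 0, Int.ofNat 0, Int.ofNat 0, Int.negSucc 1, Int.ofNat 0, Int.ofNat 0, Int.ofNat 2, Int.ofNat 0, Int.ofNat 0, Int.ofNat 0, Int.ofNat 0, Int.ofNat 0, Int.ofNat 2, Int.negSucc 1, Int.ofNat 2, Int.ofNat 2, Int.ofNat 0, Int.ofNat 2, Int.ofNat 2],
  [Int.ofNat 1, Int.ofNat 1, Int.ofNat 1, Int.negSucc 0, Int.negSucc 0, Int.negSucc 0, Int.negSucc 0, Int.negSucc 0, Int.negSucc 0, Int.negSucc 0, Int.negSucc 0, Int.ofNat 3, Int.ofNat 1, Int.negSucc 0, Int.negSucc 0, Int.negSucc 0, Int.negSucc 0, Int.ofNat 1, Int.negSucc 0, Int.ofNat 1, Int.ofNat 1, Int.negSucc 0, Int.ofNat 1, Int.negSucc 0],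
  [Int.ofNat 1, Int.ofNat 1, Int.negSucc 0, Int.negSucc 0, Int.negSucc 0, Int.ofNat 1, Int.ofNat 1, Int.negSucc 0, Int.negSucc 0, Int.ofNat 1, Int.ofNat 1, Int.ofNat 3, Int.ofNat 1, Int.negSucc 0, Int.negSucc 0, Int.ofNat 1, Int.negSucc 0, Int.ofNat 1, Int.ofNat 1, Int.ofNat 1, Int.ofNat 1, Int.negSucc 0, Int.negSucc 0, Int.negSucc 0],
  [Int.negSucc 0, Int.ofNat 1, Int.ofNat 1, Int.negSucc 0, Int.ofNat 1, Int.negSucc 0, Int.negSucc 0, Int.negSucc 0, Int.ofNat 3, Int.ofNat 1, Int.negSucc 0, Int.negSucc 0, Int.ofNat 1, Int.ofNat 1, Int.negSucc 0, Int.negSucc 0, Int.ofNat 1, Int.negSucc 0, Int.ofNat 1, Int.ofNat 1, Int.ofNat 1, Int.ofNat 1, Int.ofNat 1, Int.negSucc 0],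
  [Int.negSucc 0, Int.ofNat 1, Int.negSucc 0, Int.negSucc 0, Int.ofNat 1, Int.ofNat 1, Int.ofNat 1, Int.negSucc 0, Int.ofNat 3, Int.negSucc 0, Int.ofNat 1, Int.negSucc 0, Int.ofNat 1, Int.ofNat 1, Int.negSucc 0, Int.ofNat 1, Int.ofNat 1, Int.negSucc 0, Int.negSucc 0, Int.ofNat 1, Int.ofNat 1, Int.ofNat 1, Int.negSucc 0, Int.negSucc 0],
  [Int.ofNat 0, Int.negSucc 1, Int.ofNat 0, Int.ofNat 0, Int.ofNat 0, Int.ofNat 2, Int.ofNat 0, Int.negSucc 1, Int.ofNat 2, Int.negSucc 1, Int.ofNat 0, Int.negSucc 1, Int.ofNat 0, Int.ofNat 0, Int.ofNat 0, Int.ofNat 0, Int.ofNat 0, Int.ofNat 0, Int.negSucc 1, Int.ofNat 0, Int.ofNat 0, Int.ofNat 0, Int.negSucc 1, Int.ofNat 0],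
  [Int.ofNat 0, Int.negSucc 1, Int.ofNat 0, Int.ofNat 0, Int.ofNat 0, Int.ofNat 0, Int.negSucc 1, Int.ofNat 2, Int.ofNat 0, Int.ofNat 0, Int.negSucc 1, Int.ofNat 0, Int.ofNat 2, Int.negSucc 1, Int.ofNat 0, Int.ofNat 0, Int.ofNat 0, Int.negSucc 1, Int.ofNat 0, Int.negSucc 1, Int.ofNat 0, Int.ofNat 0, Int.ofNat 0, Int.ofNat 0],
  [Int.negSucc 0, Int.ofNat 1, Int.negSucc 0, Int.ofNat 1, Int.ofNat 1, Int.ofNat 1, Int.negSucc 0, Int.ofNat 3, Int.negSucc 0, Int.ofNat 1, Int.negSucc 0, Int.negSucc 0, Int.ofNat 1, Int.negSucc 0, Int.ofNat 1, Int.ofNat 1, Int.ofNat 1, Int.negSucc 0, Int.negSucc 0, Int.negSucc 0, Int.ofNat 1, Int.ofNat 1, Int.ofNat 1, Int.negSucc 0],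
  [Int.ofNat 1, Int.ofNat 1, Int.ofNat 1, Int.negSucc 0, Int.ofNat 1, Int.negSucc 0, Int.ofNat 1, Int.ofNat 1, Int.ofNat 1, Int.negSucc 0, Int.ofNat 3, Int.negSucc 0, Int.ofNat 1, Int.negSucc 0, Int.negSucc 0, Int.ofNat 1, Int.negSucc 0, Int.ofNat 1, Int.ofNat 1, Int.ofNat 1, Int.negSucc 0, Int.negSucc 0, Int.negSucc 0, Int.negSucc 0],
  [Int.ofNat 0, Int.ofNat 0, Int.ofNat 0, Int.ofNat 0, Int.ofNat 2, Int.ofNat 0, Int.ofNat 0, Int.ofNat 0, Int.ofNat 0, Int.negSucc 1, Int.ofNat 2, Int.negSucc 1, Int.ofNat 0, Int.ofNat 0, Int.ofNat 0, Int.ofNat 0, Int.ofNat 0, Int.ofNat 2, Int.ofNat 0, Int.ofNat 0, Int.negSucc 1, Int.negSucc 1, Int.ofNat 0, Int.ofNat 2],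
  [Int.ofNat 0, Int.ofNat 0, Int.ofNat 0, Int.ofNat 2, Int.ofNat 0, Int.ofNat 0, Int.ofNat 0, Int.ofNat 0, Int.negSucc 1, Int.ofNat 2, Int.negSucc 1, Int.ofNat 0, Int.ofNat 0, Int.ofNat 0, Int.ofNat 0, Int.ofNat 0, Int.ofNat 2, Int.ofNat 0, Int.ofNat 0, Int.negSucc 1, Int.negSucc 1, Int.ofNat 0, Int.ofNat 0, Int.ofNat 2],
  [Int.ofNat 0, Int.ofNat 0, Int.ofNat 0, Int.ofNat 2, Int.ofNat 0, Int.ofNat 0, Int.ofNat 0, Int.ofNat 0, Int.negSucc 1, Int.negSucc 1, Int.ofNat 2, Int.ofNat 0, Int.ofNat 0, Int.ofNat 0, Int.ofNat 0, Int.ofNat 0, Int.ofNat 2, Int.ofNat 0, Int.ofNat 0, Int.negSucc 1, Int.negSucc 1, Int.ofNat 0, Int.ofNat 0, Int.ofNat 2],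
  [Int.ofNat 0, Int.ofNat 0, Int.ofNat 0, Int.ofNat 2, Int.ofNat 0, Int.ofNat 2, Int.ofNat 0, Int.negSucc 1, Int.negSucc 1, Int.ofNat 2, Int.ofNat 0, Int.ofNat 0, Int.ofNat 0, Int.negSucc 1, Int.negSucc 1, Int.ofNat 0, Int.ofNat 0, Int.ofNat 0, Int.ofNat 0, Int.ofNat 0, Int.ofNat 0, Int.ofNat 0, Int.ofNat 0, Int.ofNat 2],
  [Int.ofNat 0, Int.ofNat 0, Int.ofNat 0, Int.ofNat 2, Int.ofNat 0, Int.ofNat 2, Int.ofNat 0, Int.ofNat 2, Int.negSucc 1, Int.negSucc 1, Int.ofNat 0, Int.ofNat 0, Int.ofNat 0, Int.negSucc 1, Int.negSucc 1, Int.ofNat 0, Int.ofNat 0, Int.ofNat 0, Int.ofNat 0, Int.ofNat 0, Int.ofNat 0, Int.ofNat 0, Int.ofNat 0, Int.ofNat 2],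
  [Int.ofNat 0, Int.ofNat 0, Int.ofNat 0, Int.ofNat 0, Int.ofNat 2, Int.ofNat 0, Int.ofNat 2, Int.ofNat 0, Int.ofNat 2, Int.negSucc 1, Int.negSucc 1, Int.ofNat 0, Int.ofNat 0, Int.ofNat 0, Int.negSucc 1, Int.negSucc 1, Int.ofNat 0, Int.ofNat 0, Int.ofNat 0, Int.ofNat 0, Int.ofNat 0, Int.ofNat 0, Int.ofNat 0, Int.ofNat 2],
  [Int.ofNat 1, Int.ofNat 1, Int.ofNat 1, Int.ofNat 1, Int.ofNat 1, Int.ofNat 1, Int.ofNat 1, Int.negSucc 0, Int.ofNat 1, Int.ofNat 1, Int.ofNat 1, Int.negSucc 0, Int.negSucc 0, Int.negSucc 0, Int.negSucc 0, Int.ofNat 1, Int.negSucc 0, Int.ofNat 1, Int.negSucc 0, Int.negSucc 0, Int.ofNat 3, Int.negSucc 0, Int.negSucc 0, Int.negSucc 0],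
  [Int.ofNat 1, Int.ofNat 1, Int.ofNat 1, Int.ofNat 1, Int.negSucc 0, Int.ofNat 1, Int.ofNat 1, Int.ofNat 1, Int.negSucc 0, Int.negSucc 0, Int.negSucc 0, Int.negSucc 0, Int.ofNat 1, Int.negSucc 0, Int.ofNat 1, Int.negSucc 0, Int.negSucc 0, Int.ofNat 3, Int.negSucc 0, Int.negSucc 0, Int.ofNat 1, Int.ofNat 1, Int.ofNat 1, Int.negSucc 0],
  [Int.ofNat 0, Int.ofNat 0, Int.ofNat 0, Int.negSucc 1, Int.ofNat 0, Int.negSucc 1, Int.ofNat 0, Int.ofNat 0, Int.ofNat 0, Int.ofNat 0, Int.ofNat 0, Int.ofNat 0, Int.ofNat 2, Int.ofNat 0, Int.negSucc 1, Int.ofNat 0, Int.ofNat 0, Int.ofNat 0, Int.ofNat 0, Int.negSucc 1, Int.ofNat 2, Int.ofNat 0, Int.ofNat 2, Int.ofNat 2],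
  [Int.ofNat 0, Int.ofNat 0, Int.ofNat 0, Int.negSucc 1, Int.ofNat 0, Int.ofNat 0, Int.ofNat 0, Int.ofNat 0, Int.ofNat 2, Int.ofNat 0, Int.ofNat 2, Int.ofNat 0, Int.ofNat 0, Int.ofNat 0, Int.ofNat 2, Int.ofNat 0, Int.ofNat 0, Int.negSucc 1, Int.ofNat 0, Int.ofNat 0, Int.ofNat 0, Int.negSucc 1, Int.negSucc 1, Int.ofNat 2],
  [Int.ofNat 1, Int.ofNat 1, Int.ofNat 1, Int.negSucc 0, Int.ofNat 1, Int.ofNat 1, Int.ofNat 1, Int.ofNat 1, Int.ofNat 1, Int.negSucc 0, Int.ofNat 1, Int.negSucc 0, Int.negSucc 0, Int.ofNat 1, Int.ofNat 3, Int.negSucc 0, Int.ofNat 1, Int.negSucc 0, Int.negSucc 0, Int.ofNat 1, Int.negSucc 0, Int.negSucc 0, Int.negSucc 0, Int.negSucc 0],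
  [Int.ofNat 1, Int.ofNat 1, Int.negSucc 0, Int.negSucc 0, Int.ofNat 1, Int.negSucc 0, Int.negSucc 0, Int.ofNat 1, Int.ofNat 1, Int.ofNat 1, Int.negSucc 0, Int.negSucc 0, Int.negSucc 0, Int.ofNat 1, Int.ofNat 3, Int.ofNat 1, Int.ofNat 1, Int.negSucc 0, Int.ofNat 1, Int.ofNat 1, Int.negSucc 0, Int.negSucc 0, Int.ofNat 1, Int.negSucc 0],
  [Int.negSucc 0, Int.ofNat 1, Int.negSucc 0, Int.ofNat 1, Int.ofNat 3, Int.negSucc 0, Int.negSucc 0, Int.negSucc 0, Int.negSucc 0, Int.negSucc 0, Int.ofNat 1, Int.ofNat 1, Int.ofNat 1, Int.ofNat 1, Int.negSucc 0, Int.ofNat 1, Int.ofNat 1, Int.negSucc 0, Int.ofNat 1, Int.negSucc 0, Int.ofNat 1, Int.ofNat 1, Int.ofNat 1, Int.negSucc 0],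
  [Int.ofNat 1, Int.negSucc 0, Int.ofNat 1, Int.negSucc 0, Int.negSucc 2, Int.negSucc 0, Int.ofNat 1, Int.negSucc 0, Int.ofNat 1, Int.ofNat 1, Int.ofNat 1, Int.ofNat 1, Int.negSucc 0, Int.negSucc 0, Int.negSucc 0, Int.ofNat 1, Int.negSucc 0, Int.negSucc 0, Int.negSucc 0, Int.negSucc 0, Int.ofNat 1, Int.ofNat 1, Int.ofNat 1, Int.negSucc 0],
  [Int.negSucc 0, Int.ofNat 1, Int.ofNat 1, Int.ofNat 1, Int.negSucc 0, Int.ofNat 1, Int.negSucc 0, Int.negSucc 0, Int.ofNat 1, Int.negSucc 0, Int.negSucc 0, Int.ofNat 1, Int.ofNat 1, Int.negSucc 0, Int.negSucc 0, Int.negSucc 0, Int.ofNat 1, Int.negSucc 2, Int.negSucc 0, Int.ofNat 1, Int.ofNat 1, Int.negSucc 0, Int.negSucc 0, Int.ofNat 1],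
  [Int.ofNat 1, Int.ofNat 1, Int.negSucc 0, Int.ofNat 1, Int.negSucc 0, Int.ofNat 1, Int.negSucc 0, Int.ofNat 1, Int.ofNat 1, Int.ofNat 1, Int.ofNat 1, Int.negSucc 0, Int.ofNat 1, Int.negSucc 0, Int.negSucc 0, Int.negSucc 0, Int.ofNat 1, Int.negSucc 2, Int.ofNat 1, Int.ofNat 1, Int.ofNat 1, Int.ofNat 1, Int.negSucc 0, Int.ofNat 1],
  [Int.negSucc 0, Int.ofNat 1, Int.ofNat 1, Int.negSucc 0, Int.ofNat 1, Int.negSucc 0, Int.ofNat 1, Int.negSucc 0, Int.ofNat 1, Int.ofNat 1, Int.ofNat 1, Int.ofNat 1, Int.negSucc 0, Int.ofNat 1, Int.negSucc 0, Int.negSucc 0, Int.negSucc 0, Int.ofNat 1, Int.negSucc 2, Int.ofNat 1, Int.ofNat 1, Int.ofNat 1, Int.ofNat 1, Int.ofNat 1],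
  [Int.ofNat 2, Int.ofNat 0, Int.ofNat 0, Int.ofNat 0, Int.ofNat 0, Int.ofNat 0, Int.ofNat 0, Int.negSucc 1, Int.ofNat 2, Int.ofNat 0, Int.ofNat 0, Int.ofNat 2, Int.ofNat 0, Int.ofNat 0, Int.ofNat 0, Int.negSucc 1, Int.negSucc 1, Int.ofNat 2, Int.negSucc 1, Int.ofNat 0, Int.ofNat 0, Int.ofNat 0, Int.ofNat 0, Int.ofNat 0],
  [Int.ofNat 0, Int.ofNat 0, Int.ofNat 0, Int.ofNat 0, Int.negSucc 1, Int.ofNat 2, Int.ofNat 0, Int.ofNat 0, Int.ofNat 2, Int.ofNat 0, Int.ofNat 0, Int.ofNat 0, Int.negSucc 1, Int.negSucc 1, Int.ofNat 2, Int.negSucc 1, Int.ofNat 0, Int.ofNat 0, Int.ofNat 0, Int.ofNat 0, Int.ofNat 2, Int.ofNat 0, Int.ofNat 0, Int.ofNat 0],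
  [Int.ofNat 0, Int.ofNat 0, Int.ofNat 0, Int.negSucc 1, Int.ofNat 0, Int.ofNat 0, Int.ofNat 0, Int.ofNat 0, Int.ofNat 2, Int.ofNat 0, Int.ofNat 0, Int.ofNat 0, Int.negSucc 1, Int.ofNat 0, Int.ofNat 0, Int.negSucc 1, Int.ofNat 2, Int.negSucc 1, Int.ofNat 0, Int.ofNat 0, Int.ofNat 2, Int.ofNat 0, Int.ofNat 2, Int.ofNat 0],
  [Int.ofNat 0, Int.ofNat 0, Int.ofNat 0, Int.negSucc 1, Int.ofNat 0, Int.ofNat 0, Int.ofNat 0, Int.ofNat 0, Int.negSucc 1, Int.ofNat 0, Int.ofNat 2, Int.negSucc 1, Int.ofNat 0, Int.ofNat 2, Int.ofNat 2, Int.negSucc 1, Int.ofNat 2, Int.ofNat 0, Int.ofNat 0, Int.ofNat 0, Int.ofNat 0, Int.ofNat 0, Int.ofNat 0, Int.ofNat 0],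
  [Int.ofNat 0, Int.ofNat 0, Int.ofNat 0, Int.negSucc 1, Int.negSucc 1, Int.ofNat 0, Int.ofNat 0, Int.ofNat 0, Int.ofNat 0, Int.ofNat 0, Int.ofNat 2, Int.ofNat 0, Int.ofNat 2, Int.ofNat 0, Int.ofNat 2, Int.negSucc 1, Int.ofNat 0, Int.ofNat 0, Int.ofNat 2, Int.ofNat 0, Int.ofNat 0, Int.ofNat 0, Int.negSucc 1, Int.ofNat 0],
  [Int.ofNat 0, Int.ofNat 0, Int.ofNat 0, Int.negSucc 1, Int.negSucc 1, Int.ofNat 0, Int.ofNat 0, Int.ofNat 0, Int.ofNat 0, Int.ofNat 0, Int.negSucc 1, Int.ofNat 0, Int.ofNat 2, Int.ofNat 0, Int.ofNat 2, Int.ofNat 2, Int.ofNat 0, Int.ofNat 0, Int.negSucc 1, Int.ofNat 0, Int.ofNat 0, Int.ofNat 0, Int.ofNat 2, Int.ofNat 0],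
  [Int.ofNat 0, Int.ofNat 0, Int.ofNat 0, Int.ofNat 0, Int.ofNat 2, Int.negSucc 1, Int.ofNat 2, Int.ofNat 0, Int.ofNat 0, Int.ofNat 2, Int.ofNat 2, Int.ofNat 0, Int.ofNat 0, Int.ofNat 0, Int.ofNat 0, Int.ofNat 0, Int.negSucc 1, Int.negSucc 1, Int.ofNat 0, Int.negSucc 1, Int.ofNat 0, Int.ofNat 0, Int.ofNat 0, Int.ofNat 0],
  [Int.ofNat 0, Int.ofNat 0, Int.ofNat 0, Int.ofNat 0, Int.ofNat 2, Int.ofNat 2, Int.negSucc 1, Int.ofNat 0, Int.ofNat 0, Int.negSucc 1, Int.negSucc 1, Int.ofNat 0, Int.ofNat 0, Int.ofNat 0, Int.ofNat 0, Int.ofNat 0, Int.negSucc 1, Int.negSucc 1, Int.ofNat 0, Int.negSucc 1, Int.ofNat 0, Int.ofNat 0, Int.ofNat 0, Int.ofNat 0],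
  [Int.ofNat 0, Int.ofNat 0, Int.ofNat 0, Int.ofNat 0, Int.ofNat 2, Int.ofNat 2, Int.ofNat 0, Int.ofNat 2, Int.ofNat 0, Int.ofNat 0, Int.ofNat 0, Int.ofNat 0, Int.ofNat 0, Int.ofNat 0, Int.ofNat 0, Int.ofNat 2, Int.negSucc 1, Int.negSucc 1, Int.ofNat 0, Int.ofNat 0, Int.ofNat 2, Int.ofNat 2, Int.ofNat 0, Int.ofNat 0],
  [Int.ofNat 0, Int.ofNat 0, Int.ofNat 0, Int.ofNat 0, Int.ofNat 0, Int.ofNat 2, Int.ofNat 0, Int.ofNat 2, Int.negSucc 1, Int.ofNat 0, Int.ofNat 2, Int.ofNat 0, Int.ofNat 0, Int.ofNat 0, Int.negSucc 1, Int.ofNat 2, Int.ofNat 0, Int.ofNat 0, Int.ofNat 2, Int.ofNat 0, Int.ofNat 0, Int.ofNat 2, Int.ofNat 0, Int.ofNat 0],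
  [Int.ofNat 0, Int.ofNat 0, Int.ofNat 0, Int.ofNat 0, Int.ofNat 0, Int.ofNat 2, Int.negSucc 1, Int.ofNat 0, Int.negSucc 1, Int.negSucc 1, Int.ofNat 0, Int.ofNat 0, Int.ofNat 0, Int.ofNat 0, Int.negSucc 1, Int.ofNat 0, Int.ofNat 0, Int.ofNat 0, Int.ofNat 2, Int.negSucc 1, Int.negSucc 1, Int.ofNat 0, Int.ofNat 0, Int.ofNat 0],
  [Int.negSucc 1, Int.ofNat 0, Int.ofNat 0, Int.ofNat 0, Int.ofNat 0, Int.ofNat 0, Int.ofNat 0, Int.ofNat 0, Int.ofNat 2, Int.negSucc 1, Int.ofNat 0, Int.negSucc 1, Int.negSucc 1, Int.ofNat 0, Int.ofNat 0, Int.ofNat 0, Int.ofNat 0, Int.negSucc 1, Int.ofNat 0, Int.ofNat 0, Int.ofNat 0, Int.ofNat 2, Int.negSucc 1, Int.ofNat 0],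
  [Int.ofNat 1, Int.negSucc 0, Int.negSucc 0, Int.ofNat 1, Int.ofNat 1, Int.ofNat 1, Int.negSucc 0, Int.negSucc 0, Int.ofNat 3, Int.negSucc 0, Int.ofNat 1, Int.negSucc 0, Int.negSucc 0, Int.ofNat 1, Int.ofNat 1, Int.ofNat 1, Int.ofNat 1, Int.negSucc 0, Int.ofNat 1, Int.negSucc 0, Int.ofNat 1, Int.ofNat 1, Int.negSucc 0, Int.negSucc 0],
  [Int.negSucc 0, Int.negSucc 0, Int.ofNat 1, Int.ofNat 1, Int.ofNat 1, Int.negSucc 0, Int.negSucc 0, Int.ofNat 3, Int.negSucc 0, Int.ofNat 1, Int.negSucc 0, Int.negSucc 0, Int.ofNat 1, Int.ofNat 1, Int.ofNat 1, Int.ofNat 1, Int.negSucc 0, Int.ofNat 1, Int.negSucc 0, Int.ofNat 1, Int.ofNat 1, Int.negSucc 0, Int.ofNat 1, Int.negSucc 0],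
  [Int.ofNat 1, Int.negSucc 0, Int.negSucc 0, Int.ofNat 1, Int.ofNat 1, Int.negSucc 0, Int.negSucc 0, Int.negSucc 2, Int.negSucc 0, Int.negSucc 0, Int.ofNat 1, Int.ofNat 1, Int.ofNat 1, Int.ofNat 1, Int.ofNat 1, Int.ofNat 1, Int.negSucc 0, Int.ofNat 1, Int.ofNat 1, Int.ofNat 1, Int.ofNat 1, Int.ofNat 1, Int.ofNat 1, Int.negSucc 0],
  [Int.ofNat 1, Int.negSucc 0, Int.ofNat 1, Int.ofNat 1, Int.negSucc 0, Int.ofNat 1, Int.ofNat 1, Int.ofNat 1, Int.negSucc 0, Int.negSucc 0, Int.ofNat 1, Int.ofNat 1, Int.ofNat 1, Int.negSucc 0, Int.ofNat 1, Int.ofNat 1, Int.ofNat 1, Int.ofNat 1, Int.negSucc 0, Int.ofNat 1, Int.negSucc 0, Int.negSucc 2, Int.ofNat 1, Int.negSucc 0],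
  [Int.negSucc 0, Int.negSucc 0, Int.negSucc 0, Int.ofNat 1, Int.negSucc 0, Int.ofNat 1, Int.ofNat 1, Int.negSucc 0, Int.negSucc 0, Int.ofNat 1, Int.negSucc 0, Int.negSucc 0, Int.ofNat 1, Int.negSucc 0, Int.ofNat 1, Int.ofNat 1, Int.ofNat 1, Int.ofNat 1, Int.ofNat 1, Int.ofNat 1, Int.negSucc 0, Int.ofNat 3, Int.ofNat 1, Int.negSucc 0],
  [Int.ofNat 1, Int.negSucc 0, Int.negSucc 0, Int.negSucc 0, Int.ofNat 1, Int.negSucc 0, Int.ofNat 1, Int.ofNat 1, Int.negSucc 0, Int.negSucc 0, Int.ofNat 1, Int.negSucc 0, Int.negSucc 0, Int.ofNat 1, Int.negSucc 0, Int.ofNat 1, Int.ofNat 1, Int.ofNat 1, Int.ofNat 1, Int.ofNat 1, Int.ofNat 1, Int.negSucc 0, Int.ofNat 3, Int.negSucc 0],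
  [Int.negSucc 1, Int.ofNat 0, Int.ofNat 0, Int.ofNat 0, Int.negSucc 1, Int.ofNat 0, Int.ofNat 0, Int.ofNat 0, Int.ofNat 0, Int.negSucc 1, Int.ofNat 0, Int.ofNat 0, Int.ofNat 0, Int.negSucc 1, Int.ofNat 0, Int.ofNat 0, Int.negSucc 1, Int.ofNat 2, Int.ofNat 2, Int.ofNat 0, Int.ofNat 0, Int.negSucc 1, Int.ofNat 0, Int.ofNat 0],
  [Int.ofNat 0, Int.negSucc 1, Int.ofNat 0, Int.ofNat 0, Int.ofNat 0, Int.ofNat 0, Int.negSucc 1, Int.ofNat 0, Int.ofNat 0, Int.ofNat 0, Int.negSucc 1, Int.ofNat 0, Int.ofNat 0, Int.negSucc 1, Int.ofNat 2, Int.ofNat 2, Int.ofNat 0, Int.ofNat 0, Int.negSucc 1, Int.ofNat 0, Int.negSucc 1, Int.ofNat 0, Int.ofNat 0, Int.ofNat 0],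
  [Int.negSucc 0, Int.ofNat 1, Int.negSucc 0, Int.negSucc 0, Int.ofNat 1, Int.negSucc 0, Int.negSucc 0, Int.ofNat 1, Int.ofNat 1, Int.ofNat 1, Int.negSucc 0, Int.ofNat 1, Int.ofNat 1, Int.negSucc 0, Int.ofNat 1, Int.ofNat 3, Int.ofNat 1, Int.negSucc 0, Int.negSucc 0, Int.ofNat 1, Int.negSucc 0, Int.ofNat 1, Int.ofNat 1, Int.negSucc 0],
  [Int.negSucc 0, Int.negSucc 0, Int.ofNat 1, Int.negSucc 0, Int.negSucc 0, Int.ofNat 1, Int.negSucc 0, Int.negSucc 0, Int.ofNat 1, Int.negSucc 0, Int.negSucc 0, Int.negSucc 0, Int.ofNat 1, Int.ofNat 1, Int.ofNat 1, Int.ofNat 3, Int.ofNat 1, Int.ofNat 1, Int.ofNat 1, Int.ofNat 1, Int.ofNat 1, Int.negSucc 0, Int.ofNat 1, Int.negSucc 0],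
  [Int.ofNat 0, Int.ofNat 0, Int.negSucc 1, Int.negSucc 1, Int.negSucc 1, Int.ofNat 0, Int.ofNat 0, Int.ofNat 0, Int.ofNat 0, Int.negSucc 1, Int.negSucc 1, Int.negSucc 1, Int.ofNat 0, Int.ofNat 0, Int.ofNat 0, Int.ofNat 2, Int.ofNat 0, Int.ofNat 0, Int.ofNat 0, Int.ofNat 2, Int.ofNat 0, Int.ofNat 0, Int.ofNat 0, Int.ofNat 0],
  [Int.ofNat 0, Int.ofNat 0, Int.ofNat 2, Int.negSucc 1, Int.negSucc 1, Int.ofNat 0, Int.ofNat 0, Int.ofNat 0, Int.ofNat 0, Int.ofNat 2, Int.ofNat 2, Int.negSucc 1, Int.ofNat 0, Int.ofNat 0, Int.ofNat 0, Int.negSucc 1, Int.ofNat 0, Int.ofNat 0, Int.ofNat 0, Int.ofNat 2, Int.ofNat 0, Int.ofNat 0, Int.ofNat 0, Int.ofNat 0],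
  [Int.ofNat 2, Int.ofNat 0, Int.negSucc 1, Int.ofNat 0, Int.ofNat 0, Int.ofNat 0, Int.ofNat 0, Int.negSucc 1, Int.ofNat 0, Int.ofNat 0, Int.ofNat 0, Int.ofNat 0, Int.negSucc 1, Int.negSucc 1, Int.ofNat 0, Int.ofNat 0, Int.ofNat 2, Int.ofNat 0, Int.ofNat 2, Int.ofNat 2, Int.ofNat 0, Int.ofNat 0, Int.ofNat 0, Int.ofNat 0],
  [Int.negSucc 1, Int.ofNat 0, Int.ofNat 2, Int.ofNat 0, Int.ofNat 0, Int.ofNat 0, Int.ofNat 0, Int.negSucc 1, Int.ofNat 0, Int.ofNat 0, Int.ofNat 0, Int.ofNat 0, Int.ofNat 2, Int.ofNat 2, Int.ofNat 0, Int.ofNat 0, Int.negSucc 1, Int.ofNat 0, Int.negSucc 1, Int.ofNat 2, Int.ofNat 0, Int.ofNat 0, Int.ofNat 0, Int.ofNat 0],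
  [Int.ofNat 0, Int.ofNat 0, Int.ofNat 0, Int.ofNat 0, Int.ofNat 0, Int.ofNat 0, Int.ofNat 2, Int.ofNat 2, Int.ofNat 0, Int.ofNat 0, Int.negSucc 1, Int.ofNat 2, Int.ofNat 0, Int.negSucc 1, Int.negSucc 1, Int.ofNat 0, Int.ofNat 0, Int.ofNat 0, Int.ofNat 0, Int.ofNat 0, Int.ofNat 0, Int.ofNat 2, Int.ofNat 0, Int.negSucc 1],
  [Int.ofNat 0, Int.ofNat 0, Int.ofNat 0, Int.ofNat 0, Int.ofNat 0, Int.ofNat 0, Int.ofNat 2, Int.negSucc 1, Int.ofNat 0, Int.ofNat 0, Int.ofNat 2, Int.negSucc 1, Int.ofNat 0, Int.negSucc 1, Int.negSucc 1, Int.ofNat 0, Int.ofNat 0, Int.ofNat 0, Int.ofNat 0, Int.ofNat 0, Int.ofNat 0, Int.negSucc 1, Int.ofNat 0, Int.negSucc 1],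
  [Int.ofNat 0, Int.ofNat 0, Int.ofNat 0, Int.ofNat 0, Int.ofNat 0, Int.ofNat 0, Int.ofNat 0, Int.ofNat 2, Int.negSucc 1, Int.ofNat 0, Int.ofNat 0, Int.ofNat 2, Int.negSucc 1, Int.ofNat 0, Int.negSucc 1, Int.negSucc 1, Int.ofNat 0, Int.ofNat 0, Int.ofNat 0, Int.ofNat 0, Int.ofNat 0, Int.ofNat 0, Int.negSucc 1, Int.negSucc 1],
  [Int.negSucc 0, Int.negSucc 0, Int.negSucc 0, Int.ofNat 1, Int.ofNat 1, Int.ofNat 1, Int.negSucc 0, Int.ofNat 1, Int.negSucc 0, Int.ofNat 1, Int.ofNat 1, Int.ofNat 3, Int.negSucc 0, Int.ofNat 1, Int.negSucc 0, Int.negSucc 0, Int.ofNat 1, Int.ofNat 1, Int.ofNat 1, Int.negSucc 0, Int.ofNat 1, Int.negSucc 0, Int.negSucc 0, Int.ofNat 1],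
  [Int.ofNat 1, Int.ofNat 1, Int.ofNat 1, Int.negSucc 0, Int.ofNat 1, Int.negSucc 0, Int.ofNat 1, Int.ofNat 1, Int.ofNat 3, Int.negSucc 0, Int.ofNat 1, Int.negSucc 0, Int.negSucc 0, Int.ofNat 1, Int.ofNat 1, Int.ofNat 1, Int.negSucc 0, Int.ofNat 1, Int.negSucc 0, Int.negSucc 0, Int.negSucc 0, Int.negSucc 0, Int.negSucc 0, Int.ofNat 1],
  [Int.ofNat 1, Int.ofNat 1, Int.ofNat 1, Int.negSucc 0, Int.ofNat 1, Int.negSucc 0, Int.ofNat 1, Int.ofNat 1, Int.ofNat 3, Int.negSucc 0, Int.ofNat 1, Int.negSucc 0, Int.negSucc 0, Int.ofNat 1, Int.ofNat 1, Int.ofNat 1, Int.negSucc 0, Int.ofNat 1, Int.negSucc 0, Int.negSucc 0, Int.negSucc 0, Int.negSucc 0, Int.negSucc 0, Int.ofNat 1],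
  [Int.ofNat 1, Int.ofNat 1, Int.ofNat 1, Int.negSucc 0, Int.negSucc 0, Int.ofNat 1, Int.ofNat 1, Int.ofNat 1, Int.negSucc 0, Int.ofNat 1, Int.negSucc 0, Int.ofNat 1, Int.negSucc 0, Int.negSucc 0, Int.negSucc 0, Int.ofNat 1, Int.ofNat 3, Int.ofNat 1, Int.ofNat 1, Int.negSucc 0, Int.negSucc 0, Int.negSucc 0, Int.negSucc 0, Int.ofNat 1],
  [Int.ofNat 1, Int.ofNat 1, Int.ofNat 1, Int.negSucc 0, Int.negSucc 0, Int.ofNat 1, Int.ofNat 1, Int.ofNat 1, Int.negSucc 0, Int.ofNat 1, Int.negSucc 0, Int.ofNat 1, Int.negSucc 0, Int.negSucc 0, Int.negSucc 0, Int.ofNat 1, Int.ofNat 3, Int.ofNat 1, Int.ofNat 1, Int.negSucc 0, Int.negSucc 0, Int.negSucc 0, Int.negSucc 0, Int.ofNat 1],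
  [Int.ofNat 1, Int.ofNat 1, Int.negSucc 0, Int.negSucc 0, Int.negSucc 0, Int.negSucc 0, Int.negSucc 0, Int.ofNat 1, Int.negSucc 0, Int.negSucc 0, Int.ofNat 1, Int.ofNat 1, Int.negSucc 0, Int.negSucc 0, Int.negSucc 0, Int.negSucc 0, Int.ofNat 3, Int.ofNat 1, Int.negSucc 0, Int.negSucc 0, Int.negSucc 0, Int.negSucc 0, Int.ofNat 1, Int.ofNat 1],
  [Int.negSucc 0, Int.ofNat 1, Int.negSucc 0, Int.negSucc 0, Int.negSucc 0, Int.negSucc 0, Int.negSucc 0, Int.negSucc 0, Int.ofNat 1, Int.negSucc 0, Int.ofNat 1, Int.ofNat 3, Int.negSucc 0, Int.negSucc 0, Int.negSucc 0, Int.ofNat 1, Int.ofNat 1, Int.negSucc 0, Int.ofNat 1, Int.negSucc 0, Int.negSucc 0, Int.negSucc 0, Int.ofNat 1, Int.ofNat 1],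
  [Int.negSucc 0, Int.ofNat 1, Int.ofNat 1, Int.negSucc 0, Int.negSucc 0, Int.ofNat 1, Int.ofNat 1, Int.negSucc 0, Int.ofNat 1, Int.ofNat 1, Int.negSucc 0, Int.ofNat 3, Int.negSucc 0, Int.negSucc 0, Int.negSucc 0, Int.negSucc 0, Int.ofNat 1, Int.negSucc 0, Int.negSucc 0, Int.negSucc 0, Int.negSucc 0, Int.negSucc 0, Int.negSucc 0, Int.ofNat 1],
  [Int.ofNat 2, Int.ofNat 0, Int.ofNat 0, Int.ofNat 0, Int.ofNat 0, Int.ofNat 2, Int.ofNat 2, Int.ofNat 0, Int.ofNat 0, Int.ofNat 2, Int.ofNat 0, Int.ofNat 2, Int.negSucc 1, Int.ofNat 0, Int.ofNat 0, Int.ofNat 0, Int.ofNat 2, Int.ofNat 0, Int.negSucc 1, Int.ofNat 0, Int.ofNat 0, Int.ofNat 0, Int.ofNat 0, Int.ofNat 0],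
  [Int.ofNat 2, Int.negSucc 1, Int.ofNat 2, Int.ofNat 0, Int.ofNat 0, Int.ofNat 0, Int.ofNat 0, Int.ofNat 2, Int.ofNat 2, Int.negSucc 1, Int.ofNat 0, Int.ofNat 0, Int.ofNat 0, Int.ofNat 2, Int.ofNat 0, Int.ofNat 0, Int.ofNat 0, Int.ofNat 2, Int.ofNat 0, Int.ofNat 0, Int.ofNat 0, Int.ofNat 0, Int.ofNat 0, Int.ofNat 0],
  [Int.negSucc 0, Int.ofNat 3, Int.negSucc 0, Int.negSucc 0, Int.negSucc 0, Int.negSucc 0, Int.negSucc 0, Int.ofNat 1, Int.ofNat 1, Int.negSucc 0, Int.ofNat 1, Int.negSucc 0, Int.negSucc 0, Int.ofNat 1, Int.negSucc 0, Int.ofNat 1, Int.negSucc 0, Int.ofNat 1, Int.negSucc 0, Int.negSucc 0, Int.ofNat 1, Int.negSucc 0, Int.negSucc 0, Int.ofNat 1],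
  [Int.ofNat 1, Int.negSucc 0, Int.negSucc 0, Int.negSucc 0, Int.ofNat 3, Int.negSucc 0, Int.negSucc 0, Int.negSucc 0, Int.negSucc 0, Int.negSucc 0, Int.ofNat 1, Int.ofNat 1, Int.negSucc 0, Int.ofNat 1, Int.negSucc 0, Int.negSucc 0, Int.ofNat 1, Int.negSucc 0, Int.ofNat 1, Int.negSucc 0, Int.ofNat 1, Int.negSucc 0, Int.negSucc 0, Int.ofNat 1],
  [Int.negSucc 0, Int.ofNat 1, Int.ofNat 1, Int.ofNat 1, Int.ofNat 1, Int.ofNat 1, Int.ofNat 1, Int.ofNat 1, Int.negSucc 0, Int.negSucc 0, Int.ofNat 1, Int.ofNat 1, Int.negSucc 0, Int.negSucc 0, Int.ofNat 1, Int.negSucc 0, Int.negSucc 0, Int.ofNat 1, Int.ofNat 1, Int.ofNat 1, Int.ofNat 1, Int.ofNat 1, Int.negSucc 2, Int.negSucc 0],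
  [Int.ofNat 1, Int.ofNat 1, Int.ofNat 1, Int.ofNat 1, Int.ofNat 1, Int.ofNat 1, Int.ofNat 1, Int.negSucc 0, Int.negSucc 0, Int.ofNat 1, Int.ofNat 1, Int.negSucc 0, Int.negSucc 0, Int.ofNat 1, Int.negSucc 0, Int.negSucc 0, Int.ofNat 1, Int.ofNat 1, Int.ofNat 1, Int.ofNat 1, Int.ofNat 1, Int.negSucc 2, Int.negSucc 0, Int.negSucc 0],
  [Int.negSucc 0, Int.ofNat 1, Int.negSucc 0, Int.ofNat 1, Int.ofNat 1, Int.ofNat 1, Int.ofNat 1, Int.ofNat 1, Int.negSucc 0, Int.negSucc 0, Int.negSucc 0, Int.ofNat 1, Int.negSucc 0, Int.ofNat 1, Int.negSucc 0, Int.negSucc 0, Int.ofNat 1, Int.ofNat 1, Int.negSucc 0, Int.ofNat 1, Int.ofNat 1, Int.ofNat 3, Int.negSucc 0, Int.negSucc 0],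
  [Int.negSucc 0, Int.negSucc 0, Int.negSucc 0, Int.ofNat 1, Int.ofNat 1, Int.negSucc 0, Int.ofNat 1, Int.ofNat 1, Int.negSucc 0, Int.ofNat 1, Int.ofNat 3, Int.negSucc 0, Int.ofNat 1, Int.negSucc 0, Int.ofNat 1, Int.negSucc 0, Int.negSucc 0, Int.negSucc 0, Int.ofNat 1, Int.ofNat 1, Int.ofNat 1, Int.ofNat 1, Int.ofNat 1, Int.negSucc 0],
  [Int.ofNat 1, Int.negSucc 0, Int.ofNat 1, Int.ofNat 1, Int.ofNat 1, Int.negSucc 0, Int.ofNat 1, Int.negSucc 0, Int.negSucc 0, Int.negSucc 0, Int.negSucc 2, Int.ofNat 1, Int.ofNat 1, Int.negSucc 0, Int.ofNat 1, Int.negSucc 0, Int.negSucc 0, Int.negSucc 0, Int.negSucc 0, Int.ofNat 1, Int.ofNat 1, Int.negSucc 0, Int.ofNat 1, Int.negSucc 0],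
  [Int.ofNat 1, Int.ofNat 1, Int.negSucc 0, Int.ofNat 1, Int.ofNat 1, Int.ofNat 1, Int.negSucc 0, Int.ofNat 1, Int.negSucc 0, Int.negSucc 0, Int.negSucc 0, Int.negSucc 2, Int.ofNat 1, Int.ofNat 1, Int.negSucc 0, Int.ofNat 1, Int.negSucc 0, Int.negSucc 0, Int.negSucc 0, Int.negSucc 0, Int.ofNat 1, Int.ofNat 1, Int.negSucc 0, Int.negSucc 0],
  [Int.negSucc 0, Int.negSucc 0, Int.ofNat 1, Int.ofNat 1, Int.ofNat 1, Int.ofNat 1, Int.negSucc 0, Int.ofNat 1, Int.ofNat 1, Int.negSucc 0, Int.negSucc 0, Int.negSucc 0, Int.ofNat 3, Int.ofNat 1, Int.negSucc 0, Int.ofNat 1, Int.negSucc 0, Int.negSucc 0, Int.ofNat 1, Int.negSucc 0, Int.ofNat 1, Int.ofNat 1, Int.negSucc 0, Int.ofNat 1],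
  [Int.ofNat 1, Int.ofNat 1, Int.ofNat 1, Int.negSucc 0, Int.ofNat 1, Int.ofNat 1, Int.negSucc 0, Int.negSucc 0, Int.negSucc 0, Int.ofNat 3, Int.ofNat 1, Int.negSucc 0, Int.ofNat 1, Int.negSucc 0, Int.negSucc 0, Int.ofNat 1, Int.negSucc 0, Int.ofNat 1, Int.ofNat 1, Int.negSucc 0, Int.negSucc 0, Int.negSucc 0, Int.ofNat 1, Int.ofNat 1],
  [Int.ofNat 1, Int.ofNat 1, Int.ofNat 1, Int.negSucc 0, Int.ofNat 1, Int.ofNat 1, Int.ofNat 1, Int.ofNat 1, Int.negSucc 0, Int.ofNat 1, Int.negSucc 0, Int.negSucc 0, Int.ofNat 1, Int.negSucc 0, Int.negSucc 0, Int.negSucc 0, Int.negSucc 0, Int.ofNat 1, Int.ofNat 1, Int.ofNat 1, Int.negSucc 2, Int.ofNat 1, Int.ofNat 1, Int.ofNat 1],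
  [Int.ofNat 1, Int.ofNat 1, Int.ofNat 1, Int.negSucc 0, Int.ofNat 1, Int.ofNat 1, Int.ofNat 1, Int.negSucc 0, Int.ofNat 1, Int.negSucc 0, Int.negSucc 2, Int.ofNat 1, Int.ofNat 1, Int.negSucc 0, Int.ofNat 1, Int.negSucc 0, Int.negSucc 0, Int.negSucc 0, Int.ofNat 1, Int.negSucc 0, Int.ofNat 1, Int.ofNat 1, Int.ofNat 1, Int.ofNat 1],
  [Int.ofNat 1, Int.ofNat 1, Int.ofNat 1, Int.negSucc 0, Int.ofNat 1, Int.ofNat 1, Int.ofNat 1, Int.negSucc 0, Int.negSucc 0, Int.ofNat 1, Int.negSucc 0, Int.negSucc 0, Int.negSucc 0, Int.negSucc 0, Int.ofNat 1, Int.ofNat 1, Int.negSucc 0, Int.negSucc 0, Int.negSucc 0, Int.negSucc 0, Int.ofNat 3, Int.ofNat 1, Int.ofNat 1, Int.ofNat 1],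
  [Int.ofNat 1, Int.ofNat 1, Int.negSucc 0, Int.negSucc 0, Int.ofNat 1, Int.negSucc 0, Int.negSucc 0, Int.negSucc 0, Int.negSucc 0, Int.negSucc 0, Int.ofNat 1, Int.negSucc 0, Int.negSucc 0, Int.negSucc 0, Int.ofNat 1, Int.negSucc 0, Int.negSucc 0, Int.negSucc 0, Int.ofNat 1, Int.negSucc 0, Int.ofNat 3, Int.ofNat 1, Int.negSucc 0, Int.ofNat 1],
  [Int.ofNat 1, Int.negSucc 0, Int.negSucc 0, Int.negSucc 0, Int.ofNat 1, Int.negSucc 0, Int.ofNat 1, Int.negSucc 0, Int.negSucc 0, Int.ofNat 3, Int.negSucc 0, Int.negSucc 0, Int.negSucc 0, Int.ofNat 1, Int.negSucc 0, Int.ofNat 1, Int.negSucc 0, Int.negSucc 0, Int.negSucc 0, Int.negSucc 0, Int.ofNat 1, Int.ofNat 1, Int.negSucc 0, Int.ofNat 1],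
  [Int.negSucc 0, Int.ofNat 1, Int.ofNat 1, Int.ofNat 1, Int.negSucc 0, Int.negSucc 0, Int.negSucc 0, Int.negSucc 0, Int.ofNat 1, Int.negSucc 2, Int.negSucc 0, Int.negSucc 0, Int.ofNat 1, Int.negSucc 0, Int.negSucc 0, Int.ofNat 1, Int.ofNat 1, Int.negSucc 0, Int.ofNat 1, Int.negSucc 0, Int.ofNat 1, Int.ofNat 1, Int.negSucc 0, Int.ofNat 1],
  [Int.ofNat 1, Int.negSucc 0, Int.negSucc 0, Int.ofNat 1, Int.negSucc 0, Int.negSucc 2, Int.negSucc 0, Int.negSucc 0, Int.ofNat 1, Int.negSucc 0, Int.ofNat 1, Int.ofNat 1, Int.ofNat 1, Int.negSucc 0, Int.ofNat 1, Int.ofNat 1, Int.negSucc 0, Int.negSucc 0, Int.negSucc 0, Int.negSucc 0, Int.ofNat 1, Int.ofNat 1, Int.ofNat 1, Int.negSucc 0],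
  [Int.negSucc 0, Int.negSucc 0, Int.ofNat 1, Int.ofNat 1, Int.negSucc 0, Int.negSucc 2, Int.negSucc 0, Int.ofNat 1, Int.ofNat 1, Int.ofNat 1, Int.negSucc 0, Int.negSucc 0, Int.ofNat 1, Int.negSucc 0, Int.ofNat 1, Int.ofNat 1, Int.negSucc 0, Int.negSucc 0, Int.ofNat 1, Int.negSucc 0, Int.ofNat 1, Int.negSucc 0, Int.ofNat 1, Int.negSucc 0],
  [Int.ofNat 1, Int.negSucc 0, Int.negSucc 0, Int.ofNat 1, Int.ofNat 1, Int.negSucc 0, Int.negSucc 2, Int.negSucc 0, Int.ofNat 1, Int.ofNat 1, Int.ofNat 1, Int.negSucc 0, Int.negSucc 0, Int.ofNat 1, Int.negSucc 0, Int.ofNat 1, Int.ofNat 1, Int.negSucc 0, Int.negSucc 0, Int.ofNat 1, Int.negSucc 0, Int.ofNat 1, Int.negSucc 0, Int.negSucc 0],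
  [Int.negSucc 1, Int.ofNat 0, Int.ofNat 0, Int.ofNat 2, Int.ofNat 0, Int.ofNat 0, Int.negSucc 1, Int.ofNat 0, Int.ofNat 2, Int.ofNat 0, Int.ofNat 0, Int.ofNat 0, Int.ofNat 0, Int.ofNat 0, Int.ofNat 0, Int.ofNat 0, Int.ofNat 0, Int.ofNat 0, Int.ofNat 0, Int.ofNat 2, Int.negSucc 1, Int.ofNat 2, Int.negSucc 1, Int.ofNat 0],
  [Int.ofNat 2, Int.ofNat 0, Int.ofNat 0, Int.negSucc 1, Int.ofNat 0, Int.ofNat 2, Int.ofNat 0, Int.ofNat 0, Int.ofNat 0, Int.ofNat 0, Int.ofNat 0, Int.ofNat 0, Int.ofNat 0, Int.ofNat 0, Int.ofNat 0, Int.ofNat 0, Int.ofNat 2, Int.negSucc 1, Int.ofNat 2, Int.negSucc 1, Int.negSucc 1, Int.ofNat 0, Int.ofNat 0, Int.ofNat 0],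
  [Int.negSucc 0, Int.ofNat 1, Int.ofNat 1, Int.negSucc 0, Int.negSucc 0, Int.ofNat 3, Int.ofNat 1, Int.ofNat 1, Int.negSucc 0, Int.ofNat 1, Int.ofNat 1, Int.negSucc 0, Int.negSucc 0, Int.negSucc 0, Int.ofNat 1, Int.ofNat 1, Int.ofNat 1, Int.negSucc 0, Int.ofNat 1, Int.negSucc 0, Int.negSucc 0, Int.ofNat 1, Int.negSucc 0, Int.ofNat 1],
  [Int.negSucc 0, Int.ofNat 1, Int.negSucc 0, Int.negSucc 0, Int.ofNat 1, Int.ofNat 1, Int.ofNat 1, Int.ofNat 1, Int.negSucc 0, Int.negSucc 0, Int.negSucc 0, Int.negSucc 0, Int.ofNat 1, Int.ofNat 1, Int.negSucc 0, Int.ofNat 1, Int.negSucc 0, Int.ofNat 1, Int.ofNat 1, Int.negSucc 0, Int.ofNat 1, Int.ofNat 3, Int.negSucc 0, Int.ofNat 1],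
  [Int.ofNat 1, Int.negSucc 0, Int.ofNat 1, Int.negSucc 0, Int.ofNat 1, Int.ofNat 1, Int.negSucc 0, Int.negSucc 0, Int.negSucc 0, Int.negSucc 0, Int.negSucc 0, Int.negSucc 0, Int.ofNat 1, Int.ofNat 1, Int.negSucc 0, Int.ofNat 1, Int.negSucc 0, Int.ofNat 1, Int.ofNat 1, Int.negSucc 2, Int.ofNat 1, Int.ofNat 1, Int.negSucc 0, Int.negSucc 0],
  [Int.ofNat 1, Int.negSucc 0, Int.negSucc 0, Int.negSucc 0, Int.ofNat 1, Int.negSucc 0, Int.ofNat 1, Int.negSucc 0, Int.negSucc 0, Int.ofNat 1, Int.ofNat 1, Int.negSucc 0, Int.ofNat 1, Int.ofNat 1, Int.negSucc 0, Int.negSucc 0, Int.negSucc 0, Int.ofNat 1, Int.negSucc 0, Int.negSucc 2, Int.ofNat 1, Int.ofNat 1, Int.ofNat 1, Int.negSucc 0],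
  [Int.negSucc 0, Int.ofNat 1, Int.ofNat 1, Int.ofNat 1, Int.negSucc 0, Int.negSucc 0, Int.negSucc 0, Int.ofNat 1, Int.negSucc 0, Int.ofNat 1, Int.ofNat 1, Int.negSucc 0, Int.negSucc 2, Int.ofNat 1, Int.negSucc 0, Int.negSucc 0, Int.ofNat 1, Int.ofNat 1, Int.ofNat 1, Int.negSucc 0, Int.negSucc 0, Int.ofNat 1, Int.negSucc 0, Int.negSucc 0],
  [Int.negSucc 0, Int.ofNat 1, Int.negSucc 0, Int.ofNat 1, Int.negSucc 0, Int.ofNat 1, Int.ofNat 1, Int.ofNat 1, Int.negSucc 0, Int.negSucc 0, Int.negSucc 0, Int.negSucc 0, Int.negSucc 2, Int.ofNat 1, Int.negSucc 0, Int.ofNat 1, Int.ofNat 1, Int.ofNat 1, Int.negSucc 0, Int.negSucc 0, Int.negSucc 0, Int.ofNat 1, Int.ofNat 1, Int.negSucc 0],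
  [Int.ofNat 0, Int.negSucc 1, Int.ofNat 0, Int.ofNat 0, Int.negSucc 1, Int.ofNat 0, Int.ofNat 0, Int.ofNat 0, Int.ofNat 2, Int.ofNat 0, Int.ofNat 0, Int.ofNat 2, Int.ofNat 0, Int.ofNat 0, Int.negSucc 1, Int.ofNat 2, Int.ofNat 0, Int.ofNat 0, Int.ofNat 2, Int.negSucc 1, Int.ofNat 0, Int.ofNat 0, Int.ofNat 0, Int.ofNat 0],
  [Int.ofNat 0, Int.ofNat 2, Int.ofNat 0, Int.ofNat 0, Int.ofNat 0, Int.ofNat 0, Int.negSucc 1, Int.ofNat 0, Int.ofNat 0, Int.ofNat 0, Int.ofNat 0, Int.negSucc 1, Int.ofNat 2, Int.ofNat 0, Int.ofNat 0, Int.ofNat 2, Int.ofNat 0, Int.ofNat 2, Int.negSucc 1, Int.ofNat 0, Int.ofNat 0, Int.ofNat 0, Int.negSucc 1, Int.ofNat 0],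
  [Int.ofNat 1, Int.negSucc 0, Int.ofNat 1, Int.negSucc 0, Int.ofNat 1, Int.negSucc 0, Int.negSucc 0, Int.ofNat 1, Int.ofNat 1, Int.negSucc 0, Int.negSucc 0, Int.negSucc 0, Int.ofNat 3, Int.ofNat 1, Int.negSucc 0, Int.ofNat 1, Int.ofNat 1, Int.ofNat 1, Int.negSucc 0, Int.ofNat 1, Int.negSucc 0, Int.ofNat 1, Int.negSucc 0, Int.ofNat 1],
  [Int.negSucc 0, Int.ofNat 1, Int.negSucc 0, Int.ofNat 1, Int.negSucc 0, Int.ofNat 1, Int.negSucc 0, Int.ofNat 1, Int.negSucc 0, Int.negSucc 0, Int.ofNat 1, Int.ofNat 1, Int.negSucc 0, Int.negSucc 0, Int.negSucc 0, Int.ofNat 3, Int.ofNat 1, Int.negSucc 0, Int.ofNat 1, Int.ofNat 1, Int.ofNat 1, Int.negSucc 0, Int.ofNat 1, Int.ofNat 1],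
  [Int.ofNat 1, Int.negSucc 0, Int.ofNat 1, Int.ofNat 1, Int.negSucc 0, Int.ofNat 1, Int.negSucc 0, Int.ofNat 1, Int.negSucc 0, Int.negSucc 2, Int.negSucc 0, Int.ofNat 1, Int.negSucc 0, Int.negSucc 0, Int.negSucc 0, Int.ofNat 1, Int.ofNat 1, Int.negSucc 0, Int.ofNat 1, Int.ofNat 1, Int.negSucc 0, Int.negSucc 0, Int.ofNat 1, Int.negSucc 0],
  [Int.negSucc 0, Int.ofNat 1, Int.ofNat 1, Int.negSucc 0, Int.ofNat 1, Int.negSucc 0, Int.ofNat 1, Int.negSucc 0, Int.negSucc 2, Int.negSucc 0, Int.ofNat 1, Int.negSucc 0, Int.negSucc 0, Int.negSucc 0, Int.ofNat 1, Int.ofNat 1, Int.negSucc 0, Int.ofNat 1, Int.ofNat 1, Int.negSucc 0, Int.negSucc 0, Int.ofNat 1, Int.ofNat 1, Int.negSucc 0],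
  [Int.ofNat 1, Int.ofNat 1, Int.negSucc 0, Int.negSucc 0, Int.ofNat 1, Int.negSucc 0, Int.ofNat 1, Int.ofNat 1, Int.negSucc 2, Int.ofNat 1, Int.negSucc 0, Int.ofNat 1, Int.negSucc 0, Int.negSucc 0, Int.ofNat 1, Int.ofNat 1, Int.negSucc 0, Int.ofNat 1, Int.negSucc 0, Int.negSucc 0, Int.negSucc 0, Int.negSucc 0, Int.ofNat 1, Int.negSucc 0],
  [Int.ofNat 1, Int.negSucc 0, Int.negSucc 0, Int.negSucc 0, Int.ofNat 1, Int.negSucc 0, Int.ofNat 1, Int.negSucc 0, Int.ofNat 1, Int.negSucc 0, Int.negSucc 0, Int.ofNat 1, Int.negSucc 0, Int.negSucc 2, Int.negSucc 0, Int.ofNat 1, Int.negSucc 0, Int.ofNat 1, Int.ofNat 1, Int.ofNat 1, Int.negSucc 0, Int.ofNat 1, Int.ofNat 1, Int.negSucc 0],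
  [Int.negSucc 0, Int.negSucc 0, Int.ofNat 1, Int.negSucc 0, Int.ofNat 1, Int.negSucc 0, Int.ofNat 1, Int.ofNat 1, Int.ofNat 1, Int.ofNat 1, Int.ofNat 1, Int.negSucc 0, Int.negSucc 0, Int.negSucc 2, Int.negSucc 0, Int.ofNat 1, Int.negSucc 0, Int.ofNat 1, Int.negSucc 0, Int.ofNat 1, Int.negSucc 0, Int.negSucc 0, Int.ofNat 1, Int.negSucc 0],
  [Int.ofNat 1, Int.negSucc 0, Int.negSucc 0, Int.ofNat 1, Int.negSucc 0, Int.ofNat 1, Int.negSucc 0, Int.ofNat 1, Int.ofNat 1, Int.ofNat 1, Int.ofNat 1, Int.ofNat 1, Int.negSucc 0, Int.negSucc 0, Int.negSucc 2, Int.negSucc 0, Int.ofNat 1, Int.negSucc 0, Int.ofNat 1, Int.negSucc 0, Int.ofNat 1, Int.negSucc 0, Int.negSucc 0, Int.negSucc 0],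
  [Int.negSucc 1, Int.ofNat 0, Int.ofNat 0, Int.ofNat 2, Int.ofNat 0, Int.ofNat 2, Int.ofNat 0, Int.ofNat 2, Int.ofNat 0, Int.ofNat 0, Int.ofNat 0, Int.ofNat 0, Int.negSucc 1, Int.ofNat 0, Int.negSucc 1, Int.negSucc 1, Int.ofNat 2, Int.ofNat 0, Int.ofNat 0, Int.ofNat 0, Int.ofNat 0, Int.ofNat 0, Int.ofNat 0, Int.ofNat 0],
  [Int.ofNat 2, Int.ofNat 0, Int.ofNat 2, Int.ofNat 0, Int.ofNat 2, Int.ofNat 0, Int.ofNat 0, Int.ofNat 0, Int.ofNat 0, Int.negSucc 1, Int.ofNat 0, Int.negSucc 1, Int.negSucc 1, Int.ofNat 2, Int.ofNat 0, Int.ofNat 0, Int.ofNat 0, Int.ofNat 0, Int.ofNat 0, Int.ofNat 0, Int.negSucc 1, Int.ofNat 0, Int.ofNat 0, Int.ofNat 0],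
  [Int.ofNat 0, Int.ofNat 2, Int.ofNat 0, Int.ofNat 0, Int.ofNat 0, Int.ofNat 0, Int.ofNat 0, Int.ofNat 0, Int.ofNat 2, Int.ofNat 0, Int.ofNat 2, Int.ofNat 0, Int.ofNat 0, Int.ofNat 0, Int.ofNat 0, Int.ofNat 2, Int.negSucc 1, Int.ofNat 0, Int.ofNat 2, Int.ofNat 0, Int.ofNat 0, Int.ofNat 0, Int.negSucc 1, Int.ofNat 2],
  [Int.ofNat 0, Int.ofNat 0, Int.ofNat 0, Int.ofNat 0, Int.ofNat 2, Int.ofNat 0, Int.ofNat 0, Int.ofNat 2, Int.ofNat 0, Int.ofNat 0, Int.ofNat 0, Int.ofNat 0, Int.ofNat 0, Int.negSucc 1, Int.negSucc 1, Int.ofNat 2, Int.ofNat 2, Int.ofNat 0, Int.ofNat 2, Int.ofNat 0, Int.ofNat 0, Int.ofNat 0, Int.ofNat 0, Int.ofNat 2],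
  [Int.ofNat 1, Int.ofNat 1, Int.ofNat 1, Int.ofNat 1, Int.ofNat 1, Int.ofNat 1, Int.negSucc 0, Int.ofNat 1, Int.negSucc 0, Int.negSucc 0, Int.negSucc 0, Int.negSucc 0, Int.negSucc 0, Int.negSucc 2, Int.negSucc 0, Int.ofNat 1, Int.ofNat 1, Int.ofNat 1, Int.ofNat 1, Int.negSucc 0, Int.negSucc 0, Int.negSucc 0, Int.negSucc 0, Int.negSucc 0],
  [Int.ofNat 1, Int.ofNat 1, Int.negSucc 0, Int.ofNat 1, Int.ofNat 1, Int.negSucc 0, Int.ofNat 1, Int.ofNat 1, Int.negSucc 0, Int.ofNat 1, Int.ofNat 1, Int.negSucc 0, Int.negSucc 0, Int.negSucc 2, Int.negSucc 0, Int.negSucc 0, Int.ofNat 1, Int.ofNat 1, Int.negSucc 0, Int.negSucc 0, Int.negSucc 0, Int.negSucc 0, Int.ofNat 1, Int.negSucc 0],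
  [Int.ofNat 1, Int.ofNat 1, Int.negSucc 0, Int.negSucc 0, Int.negSucc 0, Int.ofNat 1, Int.negSucc 0, Int.ofNat 1, Int.negSucc 0, Int.negSucc 0, Int.negSucc 2, Int.ofNat 1, Int.negSucc 0, Int.ofNat 1, Int.ofNat 1, Int.negSucc 0, Int.negSucc 0, Int.negSucc 0, Int.ofNat 1, Int.negSucc 0, Int.ofNat 1, Int.ofNat 1, Int.ofNat 1, Int.negSucc 0],
  [Int.negSucc 0, Int.negSucc 0, Int.ofNat 1, Int.ofNat 1, Int.ofNat 1, Int.ofNat 1, Int.ofNat 1, Int.ofNat 1, Int.ofNat 1, Int.ofNat 1, Int.negSucc 2, Int.ofNat 1, Int.ofNat 1, Int.negSucc 0, Int.ofNat 1, Int.negSucc 0, Int.ofNat 1, Int.negSucc 0, Int.negSucc 0, Int.negSucc 0, Int.ofNat 1, Int.ofNat 1, Int.ofNat 1, Int.negSucc 0],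
  [Int.negSucc 0, Int.ofNat 1, Int.ofNat 1, Int.negSucc 0, Int.negSucc 0, Int.ofNat 1, Int.negSucc 0, Int.negSucc 0, Int.ofNat 1, Int.ofNat 1, Int.ofNat 1, Int.ofNat 1, Int.ofNat 1, Int.ofNat 1, Int.negSucc 0, Int.ofNat 1, Int.negSucc 2, Int.ofNat 1, Int.ofNat 1, Int.ofNat 1, Int.ofNat 1, Int.ofNat 1, Int.negSucc 0, Int.negSucc 0],
  [Int.ofNat 1, Int.ofNat 1, Int.negSucc 0, Int.negSucc 0, Int.negSucc 0, Int.ofNat 1, Int.negSucc 0, Int.ofNat 1, Int.ofNat 1, Int.negSucc 0, Int.negSucc 0, Int.negSucc 0, Int.ofNat 1, Int.ofNat 1, Int.negSucc 0, Int.ofNat 1, Int.negSucc 2, Int.ofNat 1, Int.negSucc 0, Int.ofNat 1, Int.ofNat 1, Int.negSucc 0, Int.negSucc 0, Int.negSucc 0],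
  [Int.negSucc 0, Int.ofNat 1, Int.ofNat 1, Int.negSucc 0, Int.negSucc 0, Int.negSucc 0, Int.ofNat 1, Int.negSucc 0, Int.ofNat 1, Int.ofNat 1, Int.negSucc 0, Int.negSucc 0, Int.negSucc 0, Int.ofNat 1, Int.ofNat 1, Int.negSucc 0, Int.ofNat 1, Int.negSucc 2, Int.ofNat 1, Int.negSucc 0, Int.ofNat 1, Int.ofNat 1, Int.negSucc 0, Int.negSucc 0],
  [Int.ofNat 1, Int.negSucc 0, Int.negSucc 0, Int.ofNat 1, Int.negSucc 0, Int.ofNat 1, Int.ofNat 1, Int.negSucc 0, Int.ofNat 1, Int.ofNat 1, Int.negSucc 0, Int.negSucc 0, Int.negSucc 0, Int.ofNat 1, Int.ofNat 3, Int.negSucc 0, Int.ofNat 1, Int.negSucc 0, Int.ofNat 1, Int.negSucc 0, Int.ofNat 1, Int.ofNat 1, Int.negSucc 0, Int.ofNat 1],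
  [Int.ofNat 1, Int.negSucc 0, Int.ofNat 1, Int.ofNat 1, Int.negSucc 0, Int.ofNat 1, Int.ofNat 1, Int.negSucc 0, Int.negSucc 0, Int.negSucc 0, Int.ofNat 1, Int.ofNat 3, Int.negSucc 0, Int.ofNat 1, Int.negSucc 0, Int.ofNat 1, Int.negSucc 0, Int.ofNat 1, Int.ofNat 1, Int.negSucc 0, Int.ofNat 1, Int.negSucc 0, Int.negSucc 0, Int.ofNat 1],
  [Int.ofNat 0, Int.ofNat 2, Int.ofNat 0, Int.ofNat 0, Int.ofNat 0, Int.ofNat 0, Int.ofNat 2, Int.ofNat 0, Int.negSucc 1, Int.negSucc 1, Int.ofNat 0, Int.ofNat 2, Int.negSucc 1, Int.ofNat 2, Int.negSucc 1, Int.ofNat 0, Int.ofNat 0, Int.ofNat 0, Int.ofNat 0, Int.ofNat 0, Int.ofNat 0, Int.ofNat 0, Int.ofNat 0, Int.ofNat 0],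
  [Int.ofNat 0, Int.ofNat 2, Int.ofNat 0, Int.ofNat 0, Int.ofNat 0, Int.ofNat 0, Int.ofNat 0, Int.ofNat 0, Int.negSucc 1, Int.ofNat 2, Int.ofNat 0, Int.ofNat 0, Int.negSucc 1, Int.ofNat 0, Int.ofNat 0, Int.ofNat 0, Int.negSucc 1, Int.negSucc 1, Int.ofNat 2, Int.ofNat 2, Int.ofNat 0, Int.ofNat 0, Int.ofNat 0, Int.ofNat 0],
  [Int.ofNat 1, Int.negSucc 0, Int.ofNat 1, Int.ofNat 1, Int.ofNat 1, Int.ofNat 1, Int.negSucc 0, Int.negSucc 0, Int.negSucc 0, Int.ofNat 1, Int.negSucc 0, Int.ofNat 1, Int.negSucc 0, Int.ofNat 1, Int.ofNat 1, Int.negSucc 0, Int.negSucc 0, Int.negSucc 0, Int.ofNat 3, Int.ofNat 1, Int.negSucc 0, Int.negSucc 0, Int.ofNat 1, Int.ofNat 1],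
  [Int.ofNat 1, Int.negSucc 0, Int.negSucc 0, Int.ofNat 1, Int.ofNat 1, Int.negSucc 0, Int.ofNat 1, Int.negSucc 0, Int.negSucc 0, Int.negSucc 0, Int.ofNat 1, Int.ofNat 1, Int.negSucc 0, Int.ofNat 1, Int.ofNat 1, Int.ofNat 1, Int.negSucc 0, Int.negSucc 0, Int.negSucc 2, Int.ofNat 1, Int.negSucc 0, Int.negSucc 0, Int.negSucc 0, Int.ofNat 1],
  [Int.negSucc 0, Int.ofNat 1, Int.negSucc 0, Int.negSucc 0, Int.ofNat 1, Int.ofNat 1, Int.ofNat 1, Int.ofNat 1, Int.ofNat 1, Int.negSucc 0, Int.negSucc 0, Int.negSucc 0, Int.ofNat 1, Int.negSucc 0, Int.negSucc 0, Int.negSucc 0, Int.ofNat 1, Int.ofNat 1, Int.negSucc 0, Int.negSucc 2, Int.negSucc 0, Int.ofNat 1, Int.negSucc 0, Int.ofNat 1],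
  [Int.negSucc 0, Int.ofNat 1, Int.ofNat 1, Int.negSucc 0, Int.ofNat 1, Int.negSucc 0, Int.negSucc 0, Int.ofNat 1, Int.ofNat 1, Int.ofNat 1, Int.ofNat 1, Int.negSucc 0, Int.ofNat 1, Int.negSucc 0, Int.negSucc 0, Int.ofNat 1, Int.ofNat 1, Int.ofNat 1, Int.ofNat 1, Int.negSucc 2, Int.negSucc 0, Int.ofNat 1, Int.ofNat 1, Int.ofNat 1],
  [Int.ofNat 2, Int.ofNat 0, Int.ofNat 0, Int.ofNat 0, Int.ofNat 0, Int.ofNat 0, Int.ofNat 0, Int.ofNat 2, Int.ofNat 0, Int.ofNat 0, Int.ofNat 0, Int.negSucc 1, Int.ofNat 0, Int.negSucc 1, Int.ofNat 0, Int.ofNat 0, Int.ofNat 0, Int.ofNat 2, Int.ofNat 0, Int.negSucc 1, Int.negSucc 1, Int.ofNat 2, Int.ofNat 0, Int.ofNat 0],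
  [Int.ofNat 2, Int.ofNat 0, Int.ofNat 0, Int.ofNat 0, Int.ofNat 0, Int.ofNat 2, Int.ofNat 0, Int.ofNat 0, Int.ofNat 0, Int.ofNat 0, Int.ofNat 2, Int.negSucc 1, Int.ofNat 0, Int.ofNat 0, Int.ofNat 2, Int.ofNat 0, Int.negSucc 1, Int.negSucc 1, Int.ofNat 0, Int.ofNat 0, Int.ofNat 0, Int.negSucc 1, Int.ofNat 0, Int.ofNat 0],
  [Int.negSucc 0, Int.ofNat 1, Int.ofNat 1, Int.negSucc 0, Int.ofNat 1, Int.ofNat 1, Int.ofNat 1, Int.ofNat 1, Int.ofNat 1, Int.negSucc 0, Int.ofNat 1, Int.negSucc 0, Int.ofNat 1, Int.ofNat 1, Int.ofNat 1, Int.negSucc 0, Int.negSucc 0, Int.negSucc 2, Int.ofNat 1, Int.ofNat 1, Int.negSucc 0, Int.negSucc 0, Int.ofNat 1, Int.ofNat 1],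
  [Int.negSucc 0, Int.negSucc 0, Int.ofNat 1, Int.negSucc 0, Int.ofNat 1, Int.ofNat 1, Int.negSucc 0, Int.ofNat 1, Int.ofNat 1, Int.ofNat 1, Int.ofNat 1, Int.ofNat 1, Int.negSucc 0, Int.ofNat 1, Int.negSucc 0, Int.ofNat 1, Int.ofNat 1, Int.ofNat 1, Int.negSucc 0, Int.negSucc 0, Int.negSucc 2, Int.ofNat 1, Int.ofNat 1, Int.ofNat 1],
  [Int.ofNat 1, Int.ofNat 1, Int.negSucc 0, Int.negSucc 0, Int.negSucc 0, Int.ofNat 1, Int.negSucc 0, Int.ofNat 1, Int.ofNat 1, Int.ofNat 1, Int.ofNat 1, Int.ofNat 1, Int.negSucc 0, Int.negSucc 0, Int.negSucc 0, Int.ofNat 1, Int.negSucc 0, Int.ofNat 1, Int.negSucc 0, Int.negSucc 0, Int.negSucc 2, Int.ofNat 1, Int.negSucc 0, Int.negSucc 0],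
  [Int.ofNat 1, Int.negSucc 0, Int.negSucc 0, Int.negSucc 0, Int.ofNat 1, Int.negSucc 0, Int.ofNat 1, Int.ofNat 1, Int.ofNat 1, Int.ofNat 1, Int.ofNat 1, Int.negSucc 0, Int.negSucc 0, Int.negSucc 0, Int.ofNat 1, Int.negSucc 0, Int.ofNat 1, Int.negSucc 0, Int.negSucc 0, Int.negSucc 2, Int.ofNat 1, Int.negSucc 0, Int.ofNat 1, Int.negSucc 0],
  [Int.negSucc 0, Int.negSucc 0, Int.ofNat 1, Int.negSucc 0, Int.ofNat 1, Int.negSucc 0, Int.ofNat 1, Int.negSucc 0, Int.ofNat 1, Int.negSucc 0, Int.negSucc 0, Int.ofNat 1, Int.negSucc 0, Int.negSucc 0, Int.ofNat 1, Int.negSucc 0, Int.ofNat 1, Int.negSucc 0, Int.ofNat 1, Int.negSucc 2, Int.ofNat 1, Int.ofNat 1, Int.ofNat 1, Int.negSucc 0],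
  [Int.negSucc 0, Int.ofNat 1, Int.ofNat 1, Int.negSucc 0, Int.negSucc 0, Int.negSucc 0, Int.ofNat 1, Int.ofNat 1, Int.negSucc 0, Int.ofNat 1, Int.ofNat 1, Int.ofNat 1, Int.negSucc 0, Int.ofNat 1, Int.negSucc 2, Int.negSucc 0, Int.negSucc 0, Int.ofNat 1, Int.ofNat 1, Int.negSucc 0, Int.negSucc 0, Int.negSucc 0, Int.ofNat 1, Int.negSucc 0],
  [Int.ofNat 1, Int.ofNat 1, Int.negSucc 0, Int.negSucc 0, Int.negSucc 0, Int.negSucc 0, Int.ofNat 1, Int.negSucc 0, Int.negSucc 0, Int.negSucc 0, Int.negSucc 0, Int.negSucc 0, Int.negSucc 0, Int.ofNat 1, Int.negSucc 2, Int.negSucc 0, Int.negSucc 0, Int.ofNat 1, Int.negSucc 0, Int.negSucc 0, Int.negSucc 0, Int.ofNat 1, Int.ofNat 1, Int.negSucc 0],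
  [Int.ofNat 1, Int.ofNat 1, Int.ofNat 1, Int.negSucc 0, Int.negSucc 0, Int.negSucc 0, Int.negSucc 0, Int.ofNat 1, Int.negSucc 0, Int.negSucc 0, Int.negSucc 0, Int.negSucc 0, Int.negSucc 0, Int.negSucc 0, Int.ofNat 1, Int.negSucc 2, Int.negSucc 0, Int.negSucc 0, Int.ofNat 1, Int.negSucc 0, Int.negSucc 0, Int.negSucc 0, Int.ofNat 1, Int.negSucc 0],
  [Int.ofNat 0, Int.ofNat 0, Int.ofNat 0, Int.ofNat 0, Int.ofNat 0, Int.ofNat 0, Int.ofNat 0, Int.ofNat 2, Int.ofNat 0, Int.ofNat 2, Int.ofNat 2, Int.ofNat 0, Int.ofNat 0, Int.ofNat 0, Int.ofNat 2, Int.ofNat 0, Int.ofNat 0, Int.ofNat 0, Int.ofNat 2, Int.ofNat 0, Int.ofNat 2, Int.ofNat 0, Int.ofNat 2, Int.ofNat 2],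
  [Int.ofNat 0, Int.ofNat 0, Int.ofNat 0, Int.ofNat 0, Int.ofNat 2, Int.ofNat 0, Int.ofNat 2, Int.ofNat 2, Int.ofNat 0, Int.ofNat 0, Int.ofNat 0, Int.ofNat 2, Int.ofNat 0, Int.ofNat 0, Int.ofNat 0, Int.ofNat 2, Int.ofNat 0, Int.ofNat 2, Int.ofNat 0, Int.ofNat 2, Int.ofNat 0, Int.ofNat 0, Int.ofNat 0, Int.ofNat 2],
  [Int.ofNat 1, Int.ofNat 1, Int.ofNat 1, Int.negSucc 0, Int.ofNat 1, Int.negSucc 0, Int.negSucc 0, Int.negSucc 0, Int.negSucc 0, Int.negSucc 0, Int.negSucc 0, Int.ofNat 1, Int.negSucc 0, Int.negSucc 0, Int.negSucc 0, Int.ofNat 1, Int.negSucc 0, Int.ofNat 1, Int.negSucc 0, Int.negSucc 0, Int.negSucc 0, Int.negSucc 2, Int.negSucc 0, Int.negSucc 0],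
  [Int.ofNat 1, Int.negSucc 0, Int.ofNat 1, Int.negSucc 0, Int.negSucc 0, Int.negSucc 0, Int.ofNat 1, Int.negSucc 0, Int.negSucc 0, Int.negSucc 0, Int.negSucc 0, Int.ofNat 1, Int.negSucc 0, Int.negSucc 0, Int.negSucc 0, Int.ofNat 1, Int.negSucc 0, Int.negSucc 0, Int.ofNat 1, Int.ofNat 1, Int.negSucc 2, Int.negSucc 0, Int.negSucc 0, Int.negSucc 0],
  [Int.negSucc 0, Int.ofNat 1, Int.negSucc 0, Int.ofNat 1, Int.ofNat 1, Int.ofNat 1, Int.ofNat 1, Int.negSucc 0, Int.negSucc 0, Int.ofNat 1, Int.ofNat 1, Int.ofNat 1, Int.negSucc 0, Int.ofNat 1, Int.ofNat 1, Int.ofNat 3, Int.ofNat 1, Int.ofNat 1, Int.ofNat 1, Int.ofNat 1, Int.negSucc 0, Int.negSucc 0, Int.ofNat 1, Int.ofNat 1],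
  [Int.negSucc 0, Int.ofNat 1, Int.ofNat 1, Int.ofNat 1, Int.ofNat 1, Int.negSucc 0, Int.negSucc 0, Int.negSucc 0, Int.negSucc 0, Int.negSucc 0, Int.negSucc 0, Int.ofNat 1, Int.negSucc 0, Int.ofNat 1, Int.ofNat 1, Int.negSucc 2, Int.ofNat 1, Int.ofNat 1, Int.negSucc 0, Int.ofNat 1, Int.negSucc 0, Int.negSucc 0, Int.negSucc 0, Int.ofNat 1],
  [Int.negSucc 0, Int.ofNat 1, Int.ofNat 1, Int.negSucc 0, Int.ofNat 1, Int.negSucc 0, Int.negSucc 0, Int.ofNat 1, Int.negSucc 0, Int.negSucc 0, Int.ofNat 1, Int.negSucc 0, Int.negSucc 2, Int.ofNat 1, Int.ofNat 1, Int.negSucc 0, Int.ofNat 1, Int.negSucc 0, Int.negSucc 0, Int.ofNat 1, Int.negSucc 0, Int.ofNat 1, Int.negSucc 0, Int.ofNat 1],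
  [Int.ofNat 1, Int.negSucc 0, Int.negSucc 0, Int.ofNat 1, Int.negSucc 0, Int.negSucc 0, Int.ofNat 1, Int.ofNat 1, Int.ofNat 1, Int.ofNat 1, Int.ofNat 1, Int.negSucc 0, Int.ofNat 3, Int.negSucc 0, Int.ofNat 1, Int.negSucc 0, Int.negSucc 0, Int.negSucc 0, Int.ofNat 1, Int.ofNat 1, Int.negSucc 0, Int.ofNat 1, Int.negSucc 0, Int.ofNat 1],
  [Int.ofNat 1, Int.negSucc 0, Int.negSucc 0, Int.negSucc 0, Int.negSucc 0, Int.ofNat 1, Int.ofNat 1, Int.negSucc 0, Int.negSucc 0, Int.negSucc 0, Int.negSucc 0, Int.negSucc 0, Int.ofNat 1, Int.ofNat 1, Int.ofNat 1, Int.ofNat 1, Int.ofNat 1, Int.negSucc 0, Int.ofNat 1, Int.ofNat 1, Int.ofNat 1, Int.ofNat 3, Int.negSucc 0, Int.ofNat 1],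
  [Int.negSucc 0, Int.negSucc 0, Int.ofNat 1, Int.negSucc 0, Int.negSucc 0, Int.ofNat 1, Int.ofNat 1, Int.ofNat 1, Int.negSucc 0, Int.ofNat 1, Int.ofNat 1, Int.ofNat 1, Int.ofNat 1, Int.ofNat 1, Int.ofNat 1, Int.ofNat 1, Int.ofNat 1, Int.negSucc 0, Int.negSucc 0, Int.ofNat 1, Int.ofNat 1, Int.negSucc 2, Int.negSucc 0, Int.ofNat 1],
  [Int.negSucc 0, Int.negSucc 0, Int.negSucc 0, Int.ofNat 1, Int.negSucc 0, Int.negSucc 0, Int.ofNat 1, Int.ofNat 1, Int.ofNat 1, Int.negSucc 0, Int.ofNat 1, Int.ofNat 1, Int.ofNat 1, Int.ofNat 1, Int.ofNat 1, Int.ofNat 1, Int.ofNat 1, Int.ofNat 1, Int.negSucc 0, Int.negSucc 0, Int.ofNat 1, Int.ofNat 1, Int.negSucc 2, Int.ofNat 1],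
  [Int.ofNat 0, Int.ofNat 0, Int.ofNat 0, Int.ofNat 0, Int.ofNat 0, Int.negSucc 1, Int.ofNat 0, Int.ofNat 0, Int.ofNat 0, Int.negSucc 1, Int.ofNat 0, Int.ofNat 0, Int.ofNat 0, Int.ofNat 2, Int.ofNat 0, Int.ofNat 0, Int.ofNat 2, Int.ofNat 0, Int.negSucc 1, Int.negSucc 1, Int.ofNat 0, Int.ofNat 0, Int.negSucc 1, Int.negSucc 1],
  [Int.ofNat 0, Int.ofNat 0, Int.negSucc 1, Int.ofNat 0, Int.ofNat 0, Int.ofNat 0, Int.negSucc 1, Int.ofNat 0, Int.ofNat 0, Int.ofNat 0, Int.ofNat 2, Int.ofNat 0, Int.ofNat 0, Int.ofNat 2, Int.ofNat 0, Int.negSucc 1, Int.negSucc 1, Int.ofNat 0, Int.ofNat 0, Int.negSucc 1, Int.ofNat 0, Int.ofNat 0, Int.ofNat 0, Int.negSucc 1],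
  [Int.negSucc 1, Int.negSucc 1, Int.ofNat 0, Int.ofNat 0, Int.ofNat 0, Int.ofNat 0, Int.ofNat 0, Int.ofNat 2, Int.ofNat 0, Int.ofNat 0, Int.ofNat 2, Int.ofNat 0, Int.ofNat 0, Int.ofNat 2, Int.ofNat 0, Int.negSucc 1, Int.negSucc 1, Int.ofNat 0, Int.ofNat 0, Int.ofNat 0, Int.ofNat 0, Int.ofNat 2, Int.ofNat 0, Int.ofNat 0],
  [Int.negSucc 1, Int.ofNat 0, Int.ofNat 0, Int.ofNat 0, Int.ofNat 0, Int.ofNat 2, Int.ofNat 0, Int.ofNat 2, Int.ofNat 0, Int.ofNat 2, Int.ofNat 0, Int.ofNat 0, Int.ofNat 0, Int.negSucc 1, Int.ofNat 0, Int.negSucc 1, Int.ofNat 0, Int.ofNat 0, Int.negSucc 1, Int.ofNat 0, Int.ofNat 2, Int.ofNat 0, Int.ofNat 0, Int.ofNat 0],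
  [Int.ofNat 1, Int.negSucc 0, Int.negSucc 0, Int.negSucc 0, Int.ofNat 1, Int.ofNat 1, Int.negSucc 0, Int.ofNat 1, Int.ofNat 1, Int.ofNat 1, Int.negSucc 0, Int.ofNat 1, Int.ofNat 1, Int.negSucc 0, Int.negSucc 0, Int.negSucc 2, Int.ofNat 1, Int.negSucc 0, Int.negSucc 0, Int.negSucc 0, Int.ofNat 1, Int.negSucc 0, Int.ofNat 1, Int.negSucc 0],
  [Int.ofNat 1, Int.negSucc 0, Int.ofNat 1, Int.negSucc 0, Int.ofNat 1, Int.negSucc 0, Int.ofNat 1, Int.ofNat 1, Int.ofNat 1, Int.negSucc 0, Int.ofNat 1, Int.ofNat 1, Int.ofNat 1, Int.negSucc 0, Int.negSucc 0, Int.ofNat 3, Int.ofNat 1, Int.negSucc 0, Int.ofNat 1, Int.negSucc 0, Int.ofNat 1, Int.negSucc 0, Int.negSucc 0, Int.negSucc 0],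
  [Int.ofNat 1, Int.ofNat 1, Int.negSucc 0, Int.negSucc 0, Int.ofNat 3, Int.negSucc 0, Int.negSucc 0, Int.negSucc 0, Int.ofNat 1, Int.ofNat 1, Int.negSucc 0, Int.ofNat 1, Int.negSucc 0, Int.ofNat 1, Int.ofNat 1, Int.ofNat 1, Int.ofNat 1, Int.ofNat 1, Int.negSucc 0, Int.ofNat 1, Int.negSucc 0, Int.ofNat 1, Int.negSucc 0, Int.negSucc 0],
  [Int.ofNat 1, Int.ofNat 1, Int.ofNat 1, Int.negSucc 0, Int.ofNat 3, Int.ofNat 1, Int.ofNat 1, Int.negSucc 0, Int.ofNat 1, Int.negSucc 0, Int.ofNat 1, Int.ofNat 1, Int.negSucc 0, Int.ofNat 1, Int.ofNat 1, Int.negSucc 0, Int.ofNat 1, Int.ofNat 1, Int.ofNat 1, Int.ofNat 1, Int.negSucc 0, Int.ofNat 1, Int.ofNat 1, Int.negSucc 0],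
  [Int.ofNat 0, Int.ofNat 0, Int.ofNat 0, Int.negSucc 1, Int.ofNat 0, Int.ofNat 0, Int.ofNat 0, Int.negSucc 1, Int.ofNat 0, Int.ofNat 0, Int.ofNat 2, Int.ofNat 0, Int.negSucc 1, Int.negSucc 1, Int.ofNat 0, Int.ofNat 0, Int.negSucc 1, Int.ofNat 0, Int.ofNat 0, Int.ofNat 0, Int.ofNat 0, Int.ofNat 0, Int.negSucc 1, Int.ofNat 2],
  [Int.ofNat 0, Int.ofNat 0, Int.ofNat 0, Int.negSucc 1, Int.ofNat 0, Int.ofNat 0, Int.ofNat 0, Int.ofNat 0, Int.negSucc 1, Int.negSucc 1, Int.negSucc 1, Int.ofNat 0, Int.ofNat 0, Int.ofNat 0, Int.ofNat 0, Int.ofNat 0, Int.negSucc 1, Int.ofNat 0, Int.ofNat 0, Int.negSucc 1, Int.ofNat 2, Int.ofNat 0, Int.ofNat 0, Int.ofNat 2],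
  [Int.ofNat 1, Int.ofNat 1, Int.ofNat 1, Int.negSucc 0, Int.ofNat 1, Int.ofNat 1, Int.ofNat 1, Int.ofNat 1, Int.negSucc 0, Int.negSucc 0, Int.negSucc 0, Int.ofNat 1, Int.ofNat 1, Int.ofNat 1, Int.ofNat 1, Int.ofNat 1, Int.negSucc 0, Int.ofNat 1, Int.ofNat 1, Int.negSucc 0, Int.ofNat 3, Int.ofNat 1, Int.ofNat 1, Int.negSucc 0],
  [Int.ofNat 3, Int.ofNat 1, Int.ofNat 1, Int.ofNat 1, Int.ofNat 1, Int.ofNat 1, Int.negSucc 0, Int.ofNat 1, Int.ofNat 1, Int.ofNat 1, Int.ofNat 1, Int.negSucc 0, Int.negSucc 0, Int.negSucc 0, Int.ofNat 1, Int.ofNat 1, Int.ofNat 1, Int.ofNat 1, Int.ofNat 1, Int.negSucc 0, Int.ofNat 1, Int.ofNat 1, Int.negSucc 0, Int.negSucc 0],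
  [Int.negSucc 0, Int.ofNat 1, Int.ofNat 1, Int.negSucc 0, Int.ofNat 1, Int.negSucc 0, Int.negSucc 0, Int.ofNat 1, Int.ofNat 1, Int.negSucc 0, Int.negSucc 0, Int.negSucc 0, Int.negSucc 0, Int.negSucc 0, Int.negSucc 0, Int.negSucc 0, Int.ofNat 1, Int.negSucc 0, Int.ofNat 1, Int.negSucc 0, Int.negSucc 0, Int.ofNat 1, Int.negSucc 0, Int.ofNat 3],
  [Int.ofNat 1, Int.ofNat 1, Int.negSucc 0, Int.ofNat 1, Int.negSucc 0, Int.negSucc 0, Int.ofNat 1, Int.ofNat 1, Int.negSucc 0, Int.negSucc 0, Int.negSucc 0, Int.negSucc 0, Int.negSucc 0, Int.negSucc 0, Int.negSucc 0, Int.ofNat 1, Int.negSucc 0, Int.ofNat 1, Int.negSucc 0, Int.negSucc 0, Int.ofNat 1, Int.negSucc 0, Int.negSucc 0, Int.ofNat 3],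
  [Int.negSucc 0, Int.ofNat 1, Int.ofNat 1, Int.ofNat 1, Int.negSucc 0, Int.negSucc 0, Int.ofNat 1, Int.negSucc 0, Int.negSucc 0, Int.ofNat 1, Int.ofNat 1, Int.ofNat 1, Int.negSucc 0, Int.negSucc 0, Int.negSucc 0, Int.ofNat 1, Int.negSucc 0, Int.ofNat 1, Int.ofNat 1, Int.negSucc 0, Int.ofNat 1, Int.ofNat 1, Int.negSucc 0, Int.ofNat 3],
  [Int.negSucc 0, Int.ofNat 1, Int.ofNat 1, Int.ofNat 1, Int.ofNat 1, Int.ofNat 1, Int.negSucc 0, Int.ofNat 1, Int.ofNat 1, Int.negSucc 0, Int.ofNat 1, Int.negSucc 0, Int.negSucc 0, Int.negSucc 0, Int.negSucc 0, Int.ofNat 1, Int.negSucc 0, Int.negSucc 0, Int.ofNat 1, Int.ofNat 1, Int.negSucc 0, Int.negSucc 0, Int.ofNat 1, Int.ofNat 3],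
  [Int.ofNat 1, Int.ofNat 1, Int.negSucc 0, Int.ofNat 1, Int.ofNat 1, Int.ofNat 1, Int.negSucc 0, Int.negSucc 0, Int.ofNat 1, Int.ofNat 1, Int.negSucc 0, Int.ofNat 1, Int.negSucc 0, Int.negSucc 0, Int.negSucc 0, Int.ofNat 1, Int.negSucc 0, Int.negSucc 0, Int.negSucc 0, Int.ofNat 1, Int.negSucc 0, Int.ofNat 1, Int.ofNat 1, Int.ofNat 3],
  [Int.ofNat 1, Int.ofNat 1, Int.ofNat 1, Int.negSucc 0, Int.ofNat 1, Int.ofNat 1, Int.ofNat 1, Int.negSucc 0, Int.negSucc 0, Int.ofNat 1, Int.ofNat 1, Int.negSucc 0, Int.ofNat 1, Int.negSucc 0, Int.negSucc 0, Int.negSucc 0, Int.ofNat 1, Int.negSucc 0, Int.negSucc 0, Int.negSucc 0, Int.ofNat 1, Int.negSucc 0, Int.ofNat 1, Int.ofNat 3],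
  [Int.ofNat 2, Int.ofNat 2, Int.ofNat 2, Int.ofNat 0, Int.ofNat 0, Int.ofNat 2, Int.ofNat 2, Int.ofNat 0, Int.ofNat 0, Int.ofNat 0, Int.ofNat 0, Int.ofNat 0, Int.ofNat 2, Int.negSucc 1, Int.ofNat 0, Int.negSucc 1, Int.ofNat 0, Int.ofNat 0, Int.ofNat 0, Int.ofNat 0, Int.ofNat 0, Int.ofNat 0, Int.ofNat 0, Int.ofNat 0],
  [Int.ofNat 0, Int.ofNat 0, Int.ofNat 2, Int.ofNat 2, Int.ofNat 0, Int.ofNat 0, Int.ofNat 0, Int.ofNat 0, Int.ofNat 0, Int.ofNat 2, Int.negSucc 1, Int.ofNat 0, Int.negSucc 1, Int.ofNat 0, Int.ofNat 0, Int.ofNat 0, Int.ofNat 0, Int.ofNat 0, Int.ofNat 0, Int.ofNat 0, Int.ofNat 2, Int.ofNat 2, Int.ofNat 2, Int.ofNat 0],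
  [Int.ofNat 1, Int.ofNat 1, Int.negSucc 0, Int.ofNat 1, Int.negSucc 0, Int.negSucc 0, Int.negSucc 0, Int.negSucc 0, Int.ofNat 1, Int.ofNat 1, Int.negSucc 2, Int.ofNat 1, Int.negSucc 0, Int.negSucc 0, Int.negSucc 0, Int.negSucc 0, Int.negSucc 0, Int.negSucc 0, Int.ofNat 1, Int.negSucc 0, Int.ofNat 1, Int.ofNat 1, Int.ofNat 1, Int.ofNat 1],
  [Int.ofNat 1, Int.negSucc 0, Int.negSucc 0, Int.ofNat 1, Int.ofNat 1, Int.negSucc 0, Int.negSucc 0, Int.negSucc 2, Int.negSucc 0, Int.negSucc 0, Int.ofNat 1, Int.negSucc 0, Int.ofNat 1, Int.negSucc 0, Int.ofNat 1, Int.negSucc 0, Int.ofNat 1, Int.negSucc 0, Int.ofNat 1, Int.ofNat 1, Int.ofNat 1, Int.negSucc 0, Int.negSucc 0, Int.ofNat 1],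
  [Int.negSucc 0, Int.ofNat 1, Int.ofNat 1, Int.ofNat 1, Int.ofNat 1, Int.negSucc 0, Int.ofNat 1, Int.negSucc 0, Int.negSucc 0, Int.negSucc 0, Int.ofNat 1, Int.negSucc 0, Int.ofNat 1, Int.negSucc 0, Int.ofNat 1, Int.negSucc 0, Int.ofNat 1, Int.negSucc 0, Int.ofNat 1, Int.ofNat 3, Int.ofNat 1, Int.ofNat 1, Int.negSucc 0, Int.negSucc 0],
  [Int.negSucc 0, Int.ofNat 1, Int.negSucc 0, Int.ofNat 1, Int.ofNat 1, Int.ofNat 1, Int.negSucc 0, Int.negSucc 0, Int.negSucc 0, Int.ofNat 1, Int.negSucc 0, Int.negSucc 0, Int.ofNat 1, Int.negSucc 0, Int.ofNat 1, Int.ofNat 1, Int.ofNat 1, Int.negSucc 0, Int.negSucc 0, Int.ofNat 3, Int.ofNat 1, Int.ofNat 1, Int.ofNat 1, Int.negSucc 0],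
  [Int.negSucc 0, Int.ofNat 1, Int.negSucc 0, Int.negSucc 0, Int.ofNat 1, Int.negSucc 0, Int.ofNat 1, Int.ofNat 1, Int.ofNat 1, Int.ofNat 1, Int.negSucc 0, Int.negSucc 0, Int.ofNat 1, Int.ofNat 1, Int.negSucc 0, Int.negSucc 0, Int.ofNat 3, Int.ofNat 1, Int.ofNat 1, Int.negSucc 0, Int.negSucc 0, Int.ofNat 1, Int.ofNat 1, Int.negSucc 0],
  [Int.ofNat 1, Int.negSucc 0, Int.ofNat 1, Int.ofNat 1, Int.negSucc 0, Int.negSucc 0, Int.negSucc 0, Int.ofNat 1, Int.negSucc 0, Int.negSucc 0, Int.negSucc 0, Int.negSucc 0, Int.negSucc 0, Int.negSucc 0, Int.negSucc 0, Int.negSucc 0, Int.negSucc 2, Int.ofNat 1, Int.negSucc 0, Int.negSucc 0, Int.negSucc 0, Int.ofNat 1, Int.ofNat 1, Int.negSucc 0],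
  [Int.negSucc 0, Int.ofNat 1, Int.negSucc 0, Int.negSucc 0, Int.ofNat 1, Int.negSucc 0, Int.negSucc 0, Int.negSucc 0, Int.negSucc 0, Int.negSucc 0, Int.negSucc 2, Int.ofNat 1, Int.ofNat 1, Int.ofNat 1, Int.negSucc 0, Int.ofNat 1, Int.negSucc 0, Int.negSucc 0, Int.negSucc 0, Int.negSucc 0, Int.negSucc 0, Int.negSucc 0, Int.negSucc 0, Int.ofNat 1],
  [Int.ofNat 1, Int.ofNat 1, Int.ofNat 1, Int.negSucc 0, Int.ofNat 1, Int.negSucc 0, Int.negSucc 0, Int.ofNat 1, Int.negSucc 0, Int.ofNat 1, Int.ofNat 3, Int.negSucc 0, Int.ofNat 1, Int.ofNat 1, Int.negSucc 0, Int.ofNat 1, Int.negSucc 0, Int.negSucc 0, Int.ofNat 1, Int.negSucc 0, Int.negSucc 0, Int.ofNat 1, Int.negSucc 0, Int.ofNat 1],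
  [Int.negSucc 0, Int.ofNat 1, Int.ofNat 1, Int.ofNat 1, Int.negSucc 0, Int.ofNat 1, Int.negSucc 0, Int.negSucc 0, Int.ofNat 1, Int.negSucc 0, Int.ofNat 1, Int.ofNat 3, Int.negSucc 0, Int.ofNat 1, Int.ofNat 1, Int.negSucc 0, Int.ofNat 1, Int.negSucc 0, Int.negSucc 0, Int.ofNat 1, Int.negSucc 0, Int.negSucc 0, Int.ofNat 1, Int.ofNat 1],
  [Int.ofNat 2, Int.ofNat 0, Int.ofNat 0, Int.ofNat 0, Int.negSucc 1, Int.ofNat 0, Int.ofNat 0, Int.ofNat 0, Int.ofNat 0, Int.ofNat 0, Int.ofNat 2, Int.ofNat 2, Int.negSucc 1, Int.ofNat 0, Int.ofNat 0, Int.ofNat 0, Int.ofNat 0, Int.negSucc 1, Int.negSucc 1, Int.ofNat 2, Int.ofNat 0, Int.ofNat 0, Int.ofNat 0, Int.ofNat 0],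
  [Int.ofNat 0, Int.negSucc 1, Int.ofNat 0, Int.ofNat 0, Int.ofNat 0, Int.ofNat 0, Int.ofNat 0, Int.ofNat 2, Int.ofNat 2, Int.negSucc 1, Int.ofNat 0, Int.ofNat 0, Int.ofNat 0, Int.ofNat 0, Int.negSucc 1, Int.negSucc 1, Int.ofNat 2, Int.ofNat 0, Int.ofNat 0, Int.ofNat 0, Int.ofNat 2, Int.ofNat 0, Int.ofNat 0, Int.ofNat 0],
  [Int.negSucc 0, Int.ofNat 1, Int.negSucc 0, Int.ofNat 1, Int.negSucc 0, Int.ofNat 1, Int.negSucc 0, Int.ofNat 1, Int.ofNat 1, Int.negSucc 0, Int.ofNat 1, Int.negSucc 0, Int.negSucc 0, Int.negSucc 0, Int.negSucc 0, Int.negSucc 0, Int.ofNat 1, Int.ofNat 1, Int.negSucc 0, Int.negSucc 0, Int.ofNat 3, Int.negSucc 0, Int.negSucc 0, Int.negSucc 0],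
  [Int.negSucc 0, Int.negSucc 0, Int.negSucc 0, Int.ofNat 1, Int.negSucc 0, Int.ofNat 1, Int.negSucc 0, Int.ofNat 1, Int.negSucc 0, Int.negSucc 0, Int.ofNat 3, Int.ofNat 1, Int.negSucc 0, Int.ofNat 1, Int.negSucc 0, Int.negSucc 0, Int.ofNat 1, Int.negSucc 0, Int.ofNat 1, Int.negSucc 0, Int.negSucc 0, Int.ofNat 1, Int.negSucc 0, Int.negSucc 0],
  [Int.negSucc 0, Int.negSucc 0, Int.negSucc 0, Int.ofNat 1, Int.negSucc 0, Int.ofNat 1, Int.negSucc 0, Int.ofNat 1, Int.negSucc 0, Int.negSucc 0, Int.ofNat 3, Int.ofNat 1, Int.negSucc 0, Int.ofNat 1, Int.negSucc 0, Int.negSucc 0, Int.ofNat 1, Int.negSucc 0, Int.ofNat 1, Int.negSucc 0, Int.negSucc 0, Int.ofNat 1, Int.negSucc 0, Int.negSucc 0],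
  [Int.negSucc 0, Int.negSucc 0, Int.ofNat 1, Int.ofNat 1, Int.negSucc 0, Int.negSucc 0, Int.ofNat 1, Int.ofNat 1, Int.negSucc 0, Int.ofNat 1, Int.negSucc 2, Int.ofNat 1, Int.negSucc 0, Int.ofNat 1, Int.negSucc 0, Int.ofNat 1, Int.ofNat 1, Int.negSucc 0, Int.negSucc 0, Int.negSucc 0, Int.negSucc 0, Int.ofNat 1, Int.ofNat 1, Int.negSucc 0],
  [Int.ofNat 1, Int.negSucc 0, Int.ofNat 1, Int.ofNat 1, Int.ofNat 1, Int.ofNat 1, Int.negSucc 0, Int.ofNat 1, Int.ofNat 1, Int.negSucc 0, Int.ofNat 1, Int.ofNat 1, Int.negSucc 0, Int.negSucc 0, Int.negSucc 0, Int.ofNat 1, Int.negSucc 2, Int.negSucc 0, Int.negSucc 0, Int.negSucc 0, Int.negSucc 0, Int.ofNat 1, Int.negSucc 0, Int.negSucc 0],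
  [Int.ofNat 1, Int.negSucc 0, Int.negSucc 0, Int.ofNat 1, Int.ofNat 1, Int.negSucc 0, Int.ofNat 1, Int.ofNat 1, Int.ofNat 1, Int.ofNat 1, Int.negSucc 0, Int.ofNat 1, Int.negSucc 0, Int.negSucc 0, Int.negSucc 0, Int.negSucc 0, Int.negSucc 2, Int.negSucc 0, Int.ofNat 1, Int.negSucc 0, Int.negSucc 0, Int.ofNat 1, Int.ofNat 1, Int.negSucc 0],
  [Int.negSucc 1, Int.ofNat 0, Int.ofNat 0, Int.ofNat 2, Int.ofNat 2, Int.ofNat 0, Int.ofNat 0, Int.ofNat 0, Int.ofNat 0, Int.ofNat 2, Int.ofNat 0, Int.ofNat 0, Int.negSucc 1, Int.ofNat 0, Int.ofNat 0, Int.ofNat 0, Int.negSucc 1, Int.ofNat 0, Int.ofNat 0, Int.negSucc 1, Int.ofNat 0, Int.ofNat 0, Int.ofNat 2, Int.ofNat 0],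
  [Int.negSucc 1, Int.ofNat 0, Int.ofNat 0, Int.ofNat 2, Int.ofNat 0, Int.ofNat 0, Int.ofNat 0, Int.ofNat 0, Int.negSucc 1, Int.negSucc 1, Int.ofNat 0, Int.negSucc 1, Int.ofNat 0, Int.ofNat 2, Int.ofNat 0, Int.ofNat 0, Int.ofNat 0, Int.ofNat 0, Int.ofNat 2, Int.ofNat 2, Int.ofNat 0, Int.ofNat 0, Int.ofNat 0, Int.ofNat 0],
  [Int.ofNat 1, Int.negSucc 0, Int.negSucc 0, Int.ofNat 1, Int.negSucc 0, Int.negSucc 0, Int.negSucc 0, Int.negSucc 0, Int.negSucc 0, Int.negSucc 0, Int.ofNat 1, Int.negSucc 0, Int.ofNat 1, Int.ofNat 1, Int.negSucc 0, Int.ofNat 1, Int.negSucc 0, Int.negSucc 0, Int.ofNat 3, Int.ofNat 1, Int.ofNat 1, Int.negSucc 0, Int.negSucc 0, Int.negSucc 0],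
  [Int.ofNat 1, Int.negSucc 0, Int.negSucc 0, Int.ofNat 1, Int.negSucc 0, Int.negSucc 0, Int.ofNat 1, Int.negSucc 0, Int.negSucc 0, Int.negSucc 0, Int.negSucc 0, Int.negSucc 0, Int.negSucc 0, Int.ofNat 1, Int.negSucc 0, Int.ofNat 1, Int.ofNat 1, Int.negSucc 0, Int.ofNat 1, Int.negSucc 0, Int.negSucc 0, Int.ofNat 3, Int.ofNat 1, Int.negSucc 0],
  [Int.negSucc 1, Int.ofNat 0, Int.ofNat 0, Int.ofNat 2, Int.negSucc 1, Int.ofNat 0, Int.ofNat 0, Int.negSucc 1, Int.ofNat 0, Int.ofNat 0, Int.ofNat 0, Int.ofNat 0, Int.ofNat 0, Int.ofNat 0, Int.ofNat 0, Int.ofNat 2, Int.ofNat 0, Int.ofNat 0, Int.ofNat 2, Int.negSucc 1, Int.ofNat 0, Int.ofNat 2, Int.ofNat 0, Int.ofNat 0],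
  [Int.ofNat 0, Int.ofNat 0, Int.ofNat 2, Int.negSucc 1, Int.ofNat 0, Int.ofNat 0, Int.negSucc 1, Int.ofNat 0, Int.ofNat 0, Int.ofNat 0, Int.ofNat 0, Int.ofNat 0, Int.ofNat 0, Int.ofNat 0, Int.ofNat 2, Int.ofNat 0, Int.ofNat 0, Int.ofNat 2, Int.negSucc 1, Int.ofNat 0, Int.ofNat 2, Int.ofNat 0, Int.negSucc 1, Int.ofNat 0],
  [Int.ofNat 0, Int.ofNat 0, Int.negSucc 1, Int.negSucc 1, Int.ofNat 0, Int.ofNat 0, Int.negSucc 1, Int.ofNat 0, Int.ofNat 0, Int.ofNat 0, Int.ofNat 0, Int.ofNat 0, Int.ofNat 0, Int.ofNat 0, Int.ofNat 2, Int.ofNat 0, Int.ofNat 0, Int.ofNat 2, Int.ofNat 2, Int.ofNat 0, Int.ofNat 2, Int.ofNat 0, Int.negSucc 1, Int.ofNat 0],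
  [Int.ofNat 0, Int.negSucc 1, Int.ofNat 2, Int.negSucc 1, Int.ofNat 0, Int.ofNat 0, Int.ofNat 0, Int.ofNat 2, Int.ofNat 0, Int.ofNat 0, Int.ofNat 0, Int.ofNat 2, Int.ofNat 0, Int.ofNat 0, Int.ofNat 0, Int.ofNat 0, Int.ofNat 0, Int.negSucc 1, Int.negSucc 1, Int.ofNat 2, Int.ofNat 0, Int.ofNat 0, Int.ofNat 0, Int.ofNat 0],
  [Int.ofNat 0, Int.negSucc 1, Int.negSucc 1, Int.negSucc 1, Int.ofNat 0, Int.ofNat 0, Int.ofNat 0, Int.negSucc 1, Int.ofNat 0, Int.ofNat 0, Int.ofNat 0, Int.negSucc 1, Int.ofNat 0, Int.ofNat 0, Int.ofNat 0, Int.ofNat 0, Int.ofNat 0, Int.negSucc 1, Int.ofNat 2, Int.ofNat 2, Int.ofNat 0, Int.ofNat 0, Int.ofNat 0, Int.ofNat 0],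
  [Int.ofNat 0, Int.ofNat 0, Int.negSucc 1, Int.negSucc 1, Int.negSucc 1, Int.ofNat 0, Int.ofNat 0, Int.ofNat 0, Int.negSucc 1, Int.ofNat 0, Int.ofNat 0, Int.ofNat 0, Int.negSucc 1, Int.ofNat 0, Int.ofNat 0, Int.ofNat 0, Int.ofNat 0, Int.ofNat 0, Int.negSucc 1, Int.ofNat 2, Int.ofNat 2, Int.ofNat 0, Int.ofNat 0, Int.ofNat 0],
  [Int.negSucc 0, Int.negSucc 0, Int.ofNat 1, Int.negSucc 0, Int.negSucc 0, Int.ofNat 1, Int.negSucc 0, Int.negSucc 0, Int.ofNat 1, Int.negSucc 0, Int.negSucc 0, Int.ofNat 3, Int.ofNat 1, Int.ofNat 1, Int.ofNat 1, Int.negSucc 0, Int.ofNat 1, Int.ofNat 1, Int.ofNat 1, Int.ofNat 1, Int.ofNat 1, Int.negSucc 0, Int.ofNat 1, Int.negSucc 0],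
  [Int.negSucc 0, Int.negSucc 0, Int.ofNat 1, Int.negSucc 0, Int.negSucc 0, Int.ofNat 1, Int.negSucc 0, Int.negSucc 0, Int.ofNat 3, Int.ofNat 1, Int.ofNat 1, Int.ofNat 1, Int.negSucc 0, Int.ofNat 1, Int.ofNat 1, Int.ofNat 1, Int.ofNat 1, Int.ofNat 1, Int.negSucc 0, Int.ofNat 1, Int.negSucc 0, Int.negSucc 0, Int.ofNat 1, Int.negSucc 0],
  [Int.ofNat 0, Int.ofNat 0, Int.negSucc 1, Int.negSucc 1, Int.negSucc 1, Int.ofNat 0, Int.ofNat 0, Int.ofNat 0, Int.ofNat 2, Int.ofNat 0, Int.ofNat 0, Int.ofNat 0, Int.negSucc 1, Int.ofNat 0, Int.ofNat 0, Int.ofNat 0, Int.ofNat 0, Int.ofNat 0, Int.negSucc 1, Int.ofNat 2, Int.negSucc 1, Int.ofNat 0, Int.ofNat 0, Int.ofNat 0],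
  [Int.ofNat 0, Int.ofNat 0, Int.negSucc 1, Int.negSucc 1, Int.negSucc 1, Int.ofNat 0, Int.negSucc 1, Int.ofNat 0, Int.negSucc 1, Int.ofNat 0, Int.negSucc 1, Int.ofNat 0, Int.ofNat 0, Int.ofNat 0, Int.ofNat 0, Int.ofNat 0, Int.ofNat 2, Int.ofNat 0, Int.ofNat 0, Int.ofNat 0, Int.ofNat 0, Int.ofNat 0, Int.ofNat 2, Int.ofNat 0],
  [Int.negSucc 0, Int.negSucc 0, Int.ofNat 1, Int.negSucc 0, Int.negSucc 2, Int.ofNat 1, Int.negSucc 0, Int.ofNat 1, Int.negSucc 0, Int.ofNat 1, Int.negSucc 0, Int.ofNat 1, Int.ofNat 1, Int.negSucc 0, Int.ofNat 1, Int.ofNat 1, Int.ofNat 1, Int.ofNat 1, Int.ofNat 1, Int.ofNat 1, Int.ofNat 1, Int.ofNat 1, Int.ofNat 1, Int.negSucc 0],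
  [Int.negSucc 0, Int.negSucc 0, Int.negSucc 0, Int.negSucc 0, Int.negSucc 2, Int.negSucc 0, Int.ofNat 1, Int.ofNat 1, Int.negSucc 0, Int.negSucc 0, Int.ofNat 1, Int.ofNat 1, Int.ofNat 1, Int.negSucc 0, Int.ofNat 1, Int.negSucc 0, Int.ofNat 1, Int.ofNat 1, Int.negSucc 0, Int.ofNat 1, Int.ofNat 1, Int.ofNat 1, Int.negSucc 0, Int.negSucc 0],
  [Int.ofNat 1, Int.ofNat 1, Int.ofNat 1, Int.negSucc 0, Int.ofNat 1, Int.ofNat 1, Int.ofNat 1, Int.negSucc 0, Int.negSucc 0, Int.ofNat 1, Int.negSucc 0, Int.ofNat 1, Int.negSucc 0, Int.negSucc 2, Int.ofNat 1, Int.negSucc 0, Int.ofNat 1, Int.ofNat 1, Int.negSucc 0, Int.negSucc 0, Int.negSucc 0, Int.negSucc 0, Int.negSucc 0, Int.negSucc 0],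
  [Int.negSucc 0, Int.negSucc 0, Int.negSucc 0, Int.ofNat 1, Int.negSucc 0, Int.ofNat 1, Int.negSucc 0, Int.negSucc 0, Int.ofNat 1, Int.negSucc 0, Int.negSucc 0, Int.ofNat 1, Int.ofNat 1, Int.ofNat 3, Int.ofNat 1, Int.negSucc 0, Int.negSucc 0, Int.ofNat 1, Int.ofNat 1, Int.negSucc 0, Int.negSucc 0, Int.negSucc 0, Int.negSucc 0, Int.negSucc 0],
  [Int.negSucc 0, Int.negSucc 0, Int.ofNat 1, Int.negSucc 0, Int.ofNat 1, Int.negSucc 0, Int.negSucc 0, Int.ofNat 3, Int.negSucc 0, Int.ofNat 1, Int.negSucc 0, Int.negSucc 0, Int.negSucc 0, Int.negSucc 0, Int.ofNat 1, Int.ofNat 1, Int.negSucc 0, Int.negSucc 0, Int.ofNat 1, Int.negSucc 0, Int.ofNat 1, Int.ofNat 1, Int.negSucc 0, Int.negSucc 0],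
  [Int.ofNat 1, Int.negSucc 0, Int.negSucc 0, Int.negSucc 0, Int.ofNat 1, Int.negSucc 0, Int.negSucc 0, Int.negSucc 2, Int.negSucc 0, Int.negSucc 0, Int.ofNat 1, Int.ofNat 1, Int.negSucc 0, Int.negSucc 0, Int.ofNat 1, Int.ofNat 1, Int.negSucc 0, Int.negSucc 0, Int.negSucc 0, Int.negSucc 0, Int.ofNat 1, Int.negSucc 0, Int.negSucc 0, Int.negSucc 0],
  [Int.negSucc 0, Int.ofNat 1, Int.negSucc 0, Int.negSucc 0, Int.negSucc 0, Int.ofNat 1, Int.negSucc 0, Int.negSucc 0, Int.negSucc 2, Int.negSucc 0, Int.negSucc 0, Int.ofNat 1, Int.ofNat 1, Int.negSucc 0, Int.negSucc 0, Int.ofNat 1, Int.ofNat 1, Int.negSucc 0, Int.negSucc 0, Int.negSucc 0, Int.negSucc 0, Int.ofNat 1, Int.negSucc 0, Int.negSucc 0],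
  [Int.ofNat 0, Int.negSucc 1, Int.ofNat 0, Int.ofNat 0, Int.ofNat 0, Int.ofNat 2, Int.ofNat 0, Int.ofNat 0, Int.negSucc 1, Int.ofNat 0, Int.ofNat 0, Int.ofNat 2, Int.ofNat 2, Int.ofNat 0, Int.ofNat 0, Int.ofNat 2, Int.ofNat 2, Int.ofNat 0, Int.ofNat 0, Int.ofNat 0, Int.ofNat 0, Int.ofNat 2, Int.ofNat 0, Int.ofNat 0],
  [Int.ofNat 0, Int.ofNat 0, Int.ofNat 2, Int.ofNat 0, Int.ofNat 0, Int.negSucc 1, Int.ofNat 0, Int.ofNat 0, Int.ofNat 2, Int.ofNat 2, Int.ofNat 0, Int.ofNat 0, Int.ofNat 2, Int.ofNat 2, Int.ofNat 0, Int.ofNat 0, Int.ofNat 0, Int.ofNat 0, Int.ofNat 2, Int.ofNat 0, Int.ofNat 0, Int.negSucc 1, Int.ofNat 0, Int.ofNat 0],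
  [Int.ofNat 1, Int.ofNat 1, Int.negSucc 0, Int.ofNat 1, Int.negSucc 0, Int.negSucc 0, Int.ofNat 1, Int.ofNat 1, Int.negSucc 0, Int.ofNat 1, Int.negSucc 0, Int.negSucc 2, Int.negSucc 0, Int.ofNat 1, Int.ofNat 1, Int.negSucc 0, Int.negSucc 0, Int.ofNat 1, Int.negSucc 0, Int.ofNat 1, Int.negSucc 0, Int.negSucc 0, Int.negSucc 0, Int.ofNat 1],
  [Int.ofNat 1, Int.ofNat 1, Int.negSucc 0, Int.ofNat 1, Int.negSucc 0, Int.ofNat 1, Int.negSucc 0, Int.negSucc 0, Int.negSucc 0, Int.ofNat 1, Int.negSucc 0, Int.ofNat 1, Int.ofNat 1, Int.negSucc 0, Int.negSucc 0, Int.negSucc 0, Int.negSucc 0, Int.ofNat 1, Int.ofNat 1, Int.negSucc 2, Int.negSucc 0, Int.negSucc 0, Int.ofNat 1, Int.ofNat 1],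
  [Int.ofNat 0, Int.ofNat 0, Int.ofNat 2, Int.ofNat 0, Int.ofNat 0, Int.ofNat 0, Int.ofNat 2, Int.ofNat 2, Int.negSucc 1, Int.ofNat 2, Int.ofNat 0, Int.ofNat 0, Int.ofNat 0, Int.ofNat 0, Int.negSucc 1, Int.ofNat 0, Int.ofNat 0, Int.ofNat 0, Int.ofNat 0, Int.ofNat 0, Int.ofNat 0, Int.ofNat 2, Int.ofNat 2, Int.ofNat 0],
  [Int.ofNat 0, Int.ofNat 0, Int.negSucc 1, Int.ofNat 0, Int.ofNat 0, Int.ofNat 0, Int.negSucc 1, Int.ofNat 2, Int.negSucc 1, Int.negSucc 1, Int.ofNat 0, Int.ofNat 0, Int.ofNat 0, Int.ofNat 0, Int.negSucc 1, Int.ofNat 0, Int.ofNat 0, Int.ofNat 0, Int.ofNat 0, Int.ofNat 0, Int.ofNat 0, Int.ofNat 2, Int.negSucc 1, Int.ofNat 0],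
  [Int.negSucc 1, Int.ofNat 0, Int.negSucc 1, Int.ofNat 2, Int.ofNat 0, Int.ofNat 0, Int.negSucc 1, Int.ofNat 0, Int.ofNat 0, Int.ofNat 0, Int.negSucc 1, Int.ofNat 0, Int.ofNat 0, Int.ofNat 0, Int.negSucc 1, Int.ofNat 2, Int.ofNat 0, Int.ofNat 0, Int.ofNat 0, Int.ofNat 0, Int.ofNat 0, Int.negSucc 1, Int.ofNat 0, Int.ofNat 0],
  [Int.negSucc 1, Int.ofNat 0, Int.ofNat 2, Int.ofNat 2, Int.ofNat 0, Int.ofNat 0, Int.ofNat 2, Int.ofNat 0, Int.ofNat 0, Int.ofNat 0, Int.ofNat 2, Int.ofNat 0, Int.ofNat 0, Int.ofNat 0, Int.negSucc 1, Int.negSucc 1, Int.ofNat 0, Int.ofNat 0, Int.ofNat 0, Int.ofNat 0, Int.ofNat 0, Int.negSucc 1, Int.ofNat 0, Int.ofNat 0],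
  [Int.ofNat 2, Int.ofNat 0, Int.negSucc 1, Int.ofNat 2, Int.ofNat 0, Int.ofNat 0, Int.ofNat 2, Int.ofNat 0, Int.ofNat 0, Int.ofNat 0, Int.ofNat 2, Int.ofNat 0, Int.ofNat 0, Int.ofNat 0, Int.negSucc 1, Int.negSucc 1, Int.ofNat 0, Int.ofNat 0, Int.ofNat 0, Int.ofNat 0, Int.ofNat 0, Int.negSucc 1, Int.ofNat 0, Int.ofNat 0],
  [Int.ofNat 2, Int.ofNat 0, Int.ofNat 2, Int.ofNat 2, Int.negSucc 1, Int.negSucc 1, Int.ofNat 0, Int.ofNat 0, Int.ofNat 0, Int.ofNat 0, Int.ofNat 0, Int.ofNat 0, Int.ofNat 0, Int.ofNat 0, Int.ofNat 0, Int.negSucc 1, Int.ofNat 0, Int.ofNat 0, Int.ofNat 0, Int.ofNat 0, Int.ofNat 2, Int.ofNat 0, Int.negSucc 1, Int.ofNat 0],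
  [Int.ofNat 0, Int.ofNat 2, Int.ofNat 0, Int.ofNat 2, Int.ofNat 0, Int.negSucc 1, Int.ofNat 0, Int.ofNat 0, Int.ofNat 0, Int.ofNat 0, Int.ofNat 0, Int.ofNat 0, Int.ofNat 0, Int.ofNat 2, Int.ofNat 0, Int.negSucc 1, Int.ofNat 2, Int.ofNat 0, Int.ofNat 0, Int.ofNat 0, Int.ofNat 2, Int.ofNat 0, Int.ofNat 0, Int.ofNat 2],
  [Int.ofNat 2, Int.ofNat 0, Int.ofNat 0, Int.ofNat 0, Int.ofNat 2, Int.ofNat 0, Int.ofNat 2, Int.ofNat 0, Int.negSucc 1, Int.ofNat 0, Int.ofNat 0, Int.ofNat 0, Int.ofNat 0, Int.ofNat 0, Int.ofNat 0, Int.ofNat 0, Int.ofNat 2, Int.ofNat 0, Int.negSucc 1, Int.ofNat 2, Int.ofNat 0, Int.ofNat 0, Int.ofNat 0, Int.ofNat 2],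
  [Int.ofNat 0, Int.ofNat 2, Int.ofNat 2, Int.ofNat 0, Int.ofNat 0, Int.ofNat 0, Int.ofNat 0, Int.negSucc 1, Int.ofNat 0, Int.ofNat 0, Int.ofNat 0, Int.ofNat 2, Int.ofNat 2, Int.negSucc 1, Int.ofNat 0, Int.ofNat 0, Int.ofNat 0, Int.ofNat 0, Int.ofNat 0, Int.ofNat 0, Int.ofNat 0, Int.negSucc 1, Int.negSucc 1, Int.ofNat 0],
  [Int.ofNat 2, Int.ofNat 2, Int.ofNat 0, Int.ofNat 0, Int.ofNat 0, Int.ofNat 0, Int.negSucc 1, Int.ofNat 0, Int.ofNat 0, Int.ofNat 0, Int.ofNat 2, Int.ofNat 2, Int.negSucc 1, Int.ofNat 0, Int.ofNat 0, Int.ofNat 0, Int.ofNat 0, Int.ofNat 0, Int.ofNat 0, Int.ofNat 0, Int.negSucc 1, Int.negSucc 1, Int.ofNat 0, Int.ofNat 0],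
  [Int.negSucc 1, Int.ofNat 2, Int.ofNat 0, Int.ofNat 0, Int.ofNat 0, Int.ofNat 0, Int.negSucc 1, Int.ofNat 0, Int.ofNat 0, Int.ofNat 0, Int.negSucc 1, Int.negSucc 1, Int.negSucc 1, Int.ofNat 0, Int.ofNat 0, Int.ofNat 0, Int.ofNat 0, Int.ofNat 0, Int.ofNat 0, Int.ofNat 0, Int.negSucc 1, Int.ofNat 2, Int.ofNat 0, Int.ofNat 0],
  [Int.negSucc 1, Int.ofNat 0, Int.ofNat 0, Int.ofNat 0, Int.ofNat 2, Int.negSucc 1, Int.ofNat 0, Int.negSucc 1, Int.ofNat 0, Int.ofNat 0, Int.ofNat 2, Int.ofNat 0, Int.ofNat 0, Int.ofNat 0, Int.ofNat 0, Int.ofNat 0, Int.negSucc 1, Int.ofNat 0, Int.negSucc 1, Int.ofNat 0, Int.ofNat 0, Int.ofNat 0, Int.negSucc 1, Int.ofNat 0],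
  [Int.ofNat 2, Int.ofNat 0, Int.ofNat 0, Int.ofNat 0, Int.ofNat 2, Int.negSucc 1, Int.ofNat 0, Int.ofNat 2, Int.ofNat 0, Int.ofNat 0, Int.negSucc 1, Int.ofNat 0, Int.ofNat 0, Int.ofNat 0, Int.ofNat 0, Int.ofNat 0, Int.negSucc 1, Int.ofNat 0, Int.ofNat 2, Int.ofNat 0, Int.ofNat 0, Int.ofNat 0, Int.negSucc 1, Int.ofNat 0],
  [Int.negSucc 1, Int.ofNat 2, Int.ofNat 0, Int.ofNat 0, Int.ofNat 0, Int.ofNat 2, Int.negSucc 1, Int.ofNat 0, Int.ofNat 2, Int.ofNat 0, Int.ofNat 0, Int.negSucc 1, Int.ofNat 0, Int.ofNat 0, Int.ofNat 0, Int.ofNat 0, Int.ofNat 0, Int.negSucc 1, Int.ofNat 0, Int.ofNat 2, Int.ofNat 0, Int.ofNat 0, Int.ofNat 0, Int.ofNat 0],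
  [Int.ofNat 2, Int.negSucc 1, Int.ofNat 0, Int.ofNat 0, Int.ofNat 0, Int.ofNat 2, Int.negSucc 1, Int.ofNat 0, Int.ofNat 2, Int.ofNat 0, Int.ofNat 0, Int.negSucc 1, Int.ofNat 0, Int.ofNat 0, Int.ofNat 0, Int.ofNat 0, Int.ofNat 0, Int.negSucc 1, Int.ofNat 0, Int.ofNat 2, Int.ofNat 0, Int.ofNat 0, Int.ofNat 0, Int.ofNat 0],
  [Int.ofNat 0, Int.ofNat 0, Int.ofNat 2, Int.negSucc 1, Int.ofNat 0, Int.ofNat 2, Int.ofNat 0, Int.ofNat 0, Int.negSucc 1, Int.ofNat 0, Int.ofNat 0, Int.ofNat 0, Int.ofNat 0, Int.ofNat 0, Int.negSucc 1, Int.ofNat 0, Int.ofNat 2, Int.ofNat 0, Int.ofNat 0, Int.ofNat 0, Int.ofNat 2, Int.negSucc 1, Int.ofNat 0, Int.ofNat 0],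
  [Int.ofNat 1, Int.ofNat 1, Int.negSucc 0, Int.negSucc 0, Int.negSucc 0, Int.ofNat 3, Int.ofNat 1, Int.ofNat 1, Int.negSucc 0, Int.negSucc 0, Int.negSucc 0, Int.ofNat 1, Int.ofNat 1, Int.negSucc 0, Int.negSucc 0, Int.negSucc 0, Int.ofNat 1, Int.ofNat 1, Int.ofNat 1, Int.ofNat 1, Int.ofNat 1, Int.negSucc 0, Int.negSucc 0, Int.ofNat 1],
  [Int.ofNat 1, Int.ofNat 1, Int.negSucc 0, Int.negSucc 0, Int.ofNat 1, Int.ofNat 1, Int.negSucc 0, Int.negSucc 0, Int.ofNat 1, Int.negSucc 0, Int.ofNat 1, Int.ofNat 1, Int.negSucc 0, Int.ofNat 1, Int.negSucc 0, Int.negSucc 0, Int.negSucc 0, Int.negSucc 0, Int.ofNat 1, Int.ofNat 1, Int.negSucc 0, Int.ofNat 3, Int.ofNat 1, Int.ofNat 1],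
  [Int.ofNat 0, Int.ofNat 0, Int.ofNat 2, Int.ofNat 0, Int.ofNat 0, Int.ofNat 2, Int.negSucc 1, Int.negSucc 1, Int.ofNat 0, Int.ofNat 0, Int.ofNat 2, Int.ofNat 0, Int.negSucc 1, Int.ofNat 0, Int.ofNat 0, Int.ofNat 0, Int.negSucc 1, Int.ofNat 0, Int.ofNat 0, Int.ofNat 0, Int.ofNat 0, Int.ofNat 2, Int.ofNat 0, Int.ofNat 0],
  [Int.ofNat 0, Int.ofNat 0, Int.negSucc 1, Int.ofNat 0, Int.ofNat 0, Int.negSucc 1, Int.ofNat 2, Int.negSucc 1, Int.ofNat 0, Int.ofNat 0, Int.negSucc 1, Int.ofNat 0, Int.negSucc 1, Int.ofNat 0, Int.ofNat 0, Int.ofNat 0, Int.negSucc 1, Int.ofNat 0, Int.ofNat 0, Int.ofNat 0, Int.ofNat 0, Int.ofNat 2, Int.ofNat 0, Int.ofNat 0],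
  [Int.negSucc 1, Int.negSucc 1, Int.ofNat 0, Int.ofNat 0, Int.ofNat 0, Int.ofNat 2, Int.ofNat 2, Int.ofNat 0, Int.negSucc 1, Int.ofNat 0, Int.ofNat 0, Int.negSucc 1, Int.ofNat 0, Int.ofNat 0, Int.ofNat 0, Int.ofNat 0, Int.ofNat 0, Int.negSucc 1, Int.ofNat 0, Int.negSucc 1, Int.ofNat 0, Int.ofNat 0, Int.ofNat 0, Int.ofNat 0],
  [Int.ofNat 2, Int.ofNat 2, Int.ofNat 0, Int.ofNat 0, Int.ofNat 0, Int.ofNat 2, Int.negSucc 1, Int.ofNat 0, Int.ofNat 2, Int.ofNat 0, Int.ofNat 0, Int.negSucc 1, Int.ofNat 0, Int.ofNat 0, Int.ofNat 0, Int.ofNat 0, Int.ofNat 0, Int.negSucc 1, Int.ofNat 0, Int.negSucc 1, Int.ofNat 0, Int.ofNat 0, Int.ofNat 0, Int.ofNat 0],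
  [Int.ofNat 0, Int.ofNat 0, Int.negSucc 1, Int.ofNat 0, Int.negSucc 1, Int.ofNat 0, Int.negSucc 1, Int.ofNat 0, Int.ofNat 0, Int.ofNat 2, Int.ofNat 0, Int.ofNat 0, Int.ofNat 0, Int.ofNat 0, Int.ofNat 0, Int.ofNat 0, Int.ofNat 0, Int.ofNat 0, Int.ofNat 0, Int.negSucc 1, Int.ofNat 2, Int.ofNat 0, Int.ofNat 2, Int.ofNat 2],
  [Int.ofNat 0, Int.ofNat 0, Int.ofNat 2, Int.ofNat 0, Int.negSucc 1, Int.ofNat 0, Int.negSucc 1, Int.ofNat 0, Int.ofNat 0, Int.negSucc 1, Int.ofNat 0, Int.ofNat 0, Int.ofNat 0, Int.ofNat 0, Int.ofNat 0, Int.ofNat 0, Int.ofNat 0, Int.ofNat 0, Int.ofNat 0, Int.negSucc 1, Int.ofNat 2, Int.ofNat 0, Int.ofNat 2, Int.ofNat 2],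
  [Int.ofNat 2, Int.ofNat 0, Int.ofNat 0, Int.ofNat 2, Int.ofNat 0, Int.negSucc 1, Int.ofNat 0, Int.negSucc 1, Int.ofNat 0, Int.ofNat 0, Int.negSucc 1, Int.ofNat 0, Int.ofNat 0, Int.ofNat 0, Int.ofNat 0, Int.ofNat 0, Int.ofNat 0, Int.ofNat 0, Int.ofNat 0, Int.ofNat 0, Int.negSucc 1, Int.ofNat 2, Int.ofNat 0, Int.ofNat 2],
  [Int.ofNat 0, Int.ofNat 2, Int.ofNat 2, Int.ofNat 2, Int.ofNat 0, Int.negSucc 1, Int.ofNat 0, Int.negSucc 1, Int.ofNat 0, Int.ofNat 2, Int.ofNat 0, Int.ofNat 0, Int.ofNat 0, Int.ofNat 0, Int.ofNat 0, Int.ofNat 2, Int.ofNat 0, Int.ofNat 0, Int.ofNat 0, Int.ofNat 0, Int.ofNat 0, Int.ofNat 2, Int.ofNat 0, Int.ofNat 0],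
  [Int.ofNat 2, Int.ofNat 0, Int.negSucc 1, Int.ofNat 0, Int.negSucc 1, Int.ofNat 0, Int.ofNat 2, Int.ofNat 0, Int.ofNat 0, Int.ofNat 0, Int.ofNat 0, Int.ofNat 0, Int.ofNat 2, Int.ofNat 0, Int.ofNat 0, Int.ofNat 0, Int.ofNat 0, Int.ofNat 0, Int.ofNat 2, Int.ofNat 0, Int.ofNat 0, Int.ofNat 2, Int.ofNat 2, Int.ofNat 0],
  [Int.negSucc 1, Int.ofNat 0, Int.ofNat 2, Int.ofNat 0, Int.negSucc 1, Int.ofNat 0, Int.ofNat 0, Int.negSucc 1, Int.negSucc 1, Int.ofNat 0, Int.ofNat 0, Int.negSucc 1, Int.ofNat 0, Int.ofNat 0, Int.ofNat 0, Int.ofNat 0, Int.ofNat 0, Int.ofNat 0, Int.ofNat 0, Int.negSucc 1, Int.ofNat 0, Int.ofNat 0, Int.ofNat 2, Int.ofNat 0],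
  [Int.negSucc 1, Int.ofNat 0, Int.negSucc 1, Int.ofNat 0, Int.ofNat 0, Int.negSucc 1, Int.ofNat 2, Int.ofNat 0, Int.ofNat 0, Int.ofNat 0, Int.ofNat 0, Int.ofNat 0, Int.ofNat 0, Int.ofNat 0, Int.ofNat 2, Int.ofNat 0, Int.negSucc 1, Int.ofNat 0, Int.ofNat 0, Int.negSucc 1, Int.ofNat 0, Int.ofNat 0, Int.negSucc 1, Int.ofNat 0],
  [Int.ofNat 0, Int.negSucc 1, Int.ofNat 0, Int.ofNat 0, Int.ofNat 2, Int.negSucc 1, Int.ofNat 2, Int.ofNat 0, Int.ofNat 0, Int.ofNat 0, Int.ofNat 0, Int.ofNat 0, Int.ofNat 0, Int.ofNat 2, Int.ofNat 2, Int.ofNat 0, Int.ofNat 0, Int.ofNat 0, Int.ofNat 0, Int.negSucc 1, Int.ofNat 0, Int.ofNat 0, Int.ofNat 0, Int.negSucc 1],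
  [Int.ofNat 0, Int.negSucc 1, Int.ofNat 0, Int.ofNat 0, Int.ofNat 2, Int.ofNat 2, Int.negSucc 1, Int.ofNat 0, Int.ofNat 0, Int.ofNat 0, Int.ofNat 0, Int.ofNat 0, Int.ofNat 0, Int.ofNat 2, Int.ofNat 2, Int.ofNat 0, Int.ofNat 0, Int.ofNat 0, Int.ofNat 0, Int.negSucc 1, Int.ofNat 0, Int.ofNat 0, Int.ofNat 0, Int.negSucc 1],
  [Int.ofNat 0, Int.ofNat 0, Int.ofNat 0, Int.ofNat 0, Int.ofNat 0, Int.ofNat 0, Int.ofNat 2, Int.ofNat 2, Int.ofNat 0, Int.ofNat 0, Int.ofNat 0, Int.ofNat 0, Int.negSucc 1, Int.ofNat 0, Int.ofNat 0, Int.ofNat 0, Int.ofNat 0, Int.ofNat 2, Int.ofNat 0, Int.ofNat 0, Int.ofNat 2, Int.negSucc 1, Int.negSucc 1, Int.negSucc 1],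
  [Int.ofNat 0, Int.ofNat 0, Int.ofNat 0, Int.ofNat 0, Int.ofNat 0, Int.ofNat 0, Int.negSucc 1, Int.ofNat 2, Int.ofNat 0, Int.ofNat 0, Int.ofNat 0, Int.ofNat 0, Int.negSucc 1, Int.ofNat 0, Int.ofNat 0, Int.ofNat 0, Int.ofNat 0, Int.ofNat 2, Int.ofNat 0, Int.ofNat 0, Int.ofNat 2, Int.negSucc 1, Int.ofNat 2, Int.negSucc 1],
  [Int.negSucc 0, Int.negSucc 0, Int.negSucc 0, Int.negSucc 0, Int.negSucc 0, Int.negSucc 0, Int.negSucc 0, Int.ofNat 3, Int.ofNat 1, Int.negSucc 0, Int.negSucc 0, Int.ofNat 1, Int.negSucc 0, Int.negSucc 0, Int.negSucc 0, Int.negSucc 0, Int.negSucc 0, Int.ofNat 1, Int.ofNat 1, Int.ofNat 1, Int.ofNat 1, Int.negSucc 0, Int.ofNat 1, Int.ofNat 1],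
  [Int.negSucc 0, Int.ofNat 1, Int.negSucc 0, Int.negSucc 0, Int.negSucc 0, Int.negSucc 0, Int.negSucc 0, Int.negSucc 0, Int.negSucc 0, Int.negSucc 0, Int.ofNat 3, Int.ofNat 1, Int.ofNat 1, Int.negSucc 0, Int.ofNat 1, Int.negSucc 0, Int.negSucc 0, Int.ofNat 1, Int.negSucc 0, Int.ofNat 1, Int.negSucc 0, Int.ofNat 1, Int.negSucc 0, Int.ofNat 1],
  [Int.ofNat 1, Int.negSucc 0, Int.ofNat 1, Int.negSucc 0, Int.ofNat 1, Int.negSucc 0, Int.negSucc 0, Int.negSucc 0, Int.negSucc 0, Int.negSucc 0, Int.ofNat 3, Int.ofNat 1, Int.ofNat 1, Int.ofNat 1, Int.ofNat 1, Int.negSucc 0, Int.ofNat 1, Int.ofNat 1, Int.negSucc 0, Int.ofNat 1, Int.negSucc 0, Int.ofNat 1, Int.ofNat 1, Int.negSucc 0],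
  [Int.negSucc 0, Int.ofNat 1, Int.ofNat 1, Int.ofNat 1, Int.negSucc 0, Int.ofNat 1, Int.negSucc 0, Int.ofNat 1, Int.negSucc 0, Int.negSucc 0, Int.negSucc 0, Int.negSucc 0, Int.negSucc 0, Int.ofNat 3, Int.ofNat 1, Int.ofNat 1, Int.ofNat 1, Int.ofNat 1, Int.negSucc 0, Int.ofNat 1, Int.ofNat 1, Int.negSucc 0, Int.ofNat 1, Int.negSucc 0],
  [Int.ofNat 1, Int.negSucc 0, Int.negSucc 0, Int.negSucc 0, Int.negSucc 2, Int.negSucc 0, Int.negSucc 0, Int.ofNat 1, Int.ofNat 1, Int.negSucc 0, Int.negSucc 0, Int.ofNat 1, Int.ofNat 1, Int.ofNat 1, Int.negSucc 0, Int.ofNat 1, Int.negSucc 0, Int.negSucc 0, Int.ofNat 1, Int.ofNat 1, Int.ofNat 1, Int.negSucc 0, Int.negSucc 0, Int.ofNat 1],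
  [Int.negSucc 0, Int.negSucc 0, Int.negSucc 0, Int.negSucc 2, Int.negSucc 0, Int.negSucc 0, Int.ofNat 1, Int.ofNat 1, Int.negSucc 0, Int.negSucc 0, Int.ofNat 1, Int.ofNat 1, Int.ofNat 1, Int.negSucc 0, Int.ofNat 1, Int.negSucc 0, Int.negSucc 0, Int.ofNat 1, Int.ofNat 1, Int.ofNat 1, Int.negSucc 0, Int.negSucc 0, Int.ofNat 1, Int.ofNat 1],
  [Int.ofNat 1, Int.negSucc 0, Int.ofNat 1, Int.negSucc 2, Int.negSucc 0, Int.negSucc 0, Int.ofNat 1, Int.negSucc 0, Int.negSucc 0, Int.ofNat 1, Int.negSucc 0, Int.negSucc 0, Int.ofNat 1, Int.negSucc 0, Int.ofNat 1, Int.negSucc 0, Int.negSucc 0, Int.ofNat 1, Int.negSucc 0, Int.ofNat 1, Int.negSucc 0, Int.ofNat 1, Int.ofNat 1, Int.ofNat 1],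
  [Int.ofNat 1, Int.ofNat 1, Int.negSucc 0, Int.negSucc 2, Int.negSucc 0, Int.negSucc 0, Int.negSucc 0, Int.negSucc 0, Int.ofNat 1, Int.negSucc 0, Int.ofNat 1, Int.ofNat 1, Int.negSucc 0, Int.negSucc 0, Int.ofNat 1, Int.negSucc 0, Int.ofNat 1, Int.ofNat 1, Int.ofNat 1, Int.ofNat 1, Int.negSucc 0, Int.negSucc 0, Int.negSucc 0, Int.ofNat 1],
  [Int.negSucc 0, Int.ofNat 1, Int.ofNat 1, Int.negSucc 2, Int.negSucc 0, Int.negSucc 0, Int.negSucc 0, Int.ofNat 1, Int.ofNat 1, Int.ofNat 1, Int.negSucc 0, Int.negSucc 0, Int.negSucc 0, Int.negSucc 0, Int.ofNat 1, Int.negSucc 0, Int.ofNat 1, Int.ofNat 1, Int.negSucc 0, Int.ofNat 1, Int.negSucc 0, Int.ofNat 1, Int.negSucc 0, Int.ofNat 1],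
  [Int.negSucc 0, Int.negSucc 0, Int.ofNat 1, Int.ofNat 1, Int.negSucc 2, Int.negSucc 0, Int.negSucc 0, Int.negSucc 0, Int.ofNat 1, Int.ofNat 1, Int.ofNat 1, Int.negSucc 0, Int.negSucc 0, Int.negSucc 0, Int.negSucc 0, Int.ofNat 1, Int.negSucc 0, Int.ofNat 1, Int.ofNat 1, Int.negSucc 0, Int.ofNat 1, Int.negSucc 0, Int.ofNat 1, Int.ofNat 1],
  [Int.ofNat 1, Int.ofNat 1, Int.negSucc 0, Int.ofNat 1, Int.negSucc 0, Int.negSucc 0, Int.ofNat 1, Int.ofNat 1, Int.ofNat 1, Int.negSucc 0, Int.negSucc 0, Int.negSucc 0, Int.negSucc 0, Int.ofNat 1, Int.negSucc 0, Int.negSucc 0, Int.ofNat 1, Int.ofNat 1, Int.ofNat 1, Int.ofNat 1, Int.negSucc 0, Int.ofNat 1, Int.ofNat 3, Int.negSucc 0],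
  [Int.ofNat 1, Int.negSucc 0, Int.negSucc 0, Int.ofNat 1, Int.ofNat 1, Int.ofNat 1, Int.negSucc 0, Int.negSucc 0, Int.negSucc 0, Int.negSucc 0, Int.ofNat 1, Int.negSucc 0, Int.negSucc 0, Int.ofNat 1, Int.ofNat 1, Int.ofNat 1, Int.ofNat 1, Int.negSucc 0, Int.ofNat 1, Int.ofNat 3, Int.ofNat 1, Int.ofNat 1, Int.negSucc 0, Int.negSucc 0],
  [Int.negSucc 1, Int.ofNat 0, Int.ofNat 0, Int.ofNat 0, Int.ofNat 0, Int.ofNat 0, Int.negSucc 1, Int.negSucc 1, Int.ofNat 0, Int.negSucc 1, Int.ofNat 0, Int.ofNat 0, Int.ofNat 0, Int.ofNat 0, Int.ofNat 0, Int.ofNat 0, Int.ofNat 0, Int.negSucc 1, Int.ofNat 2, Int.ofNat 2, Int.ofNat 0, Int.ofNat 0, Int.negSucc 1, Int.ofNat 0],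
  [Int.negSucc 1, Int.negSucc 1, Int.ofNat 0, Int.ofNat 0, Int.ofNat 2, Int.negSucc 1, Int.ofNat 0, Int.ofNat 0, Int.ofNat 0, Int.ofNat 0, Int.ofNat 0, Int.negSucc 1, Int.negSucc 1, Int.ofNat 0, Int.negSucc 1, Int.ofNat 0, Int.ofNat 0, Int.ofNat 0, Int.ofNat 0, Int.ofNat 0, Int.ofNat 0, Int.ofNat 0, Int.ofNat 2, Int.ofNat 0],
  [Int.ofNat 0, Int.ofNat 0, Int.negSucc 1, Int.ofNat 2, Int.ofNat 0, Int.ofNat 0, Int.ofNat 0, Int.ofNat 0, Int.ofNat 2, Int.ofNat 0, Int.ofNat 0, Int.ofNat 0, Int.ofNat 0, Int.negSucc 1, Int.ofNat 0, Int.ofNat 0, Int.negSucc 1, Int.ofNat 2, Int.ofNat 2, Int.ofNat 0, Int.ofNat 0, Int.ofNat 0, Int.ofNat 0, Int.negSucc 1],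
  [Int.ofNat 0, Int.ofNat 0, Int.ofNat 2, Int.ofNat 2, Int.ofNat 0, Int.ofNat 0, Int.ofNat 0, Int.ofNat 0, Int.ofNat 2, Int.ofNat 0, Int.ofNat 0, Int.ofNat 0, Int.ofNat 0, Int.negSucc 1, Int.ofNat 0, Int.ofNat 0, Int.negSucc 1, Int.ofNat 2, Int.negSucc 1, Int.ofNat 0, Int.ofNat 0, Int.ofNat 0, Int.ofNat 0, Int.negSucc 1],
  [Int.ofNat 0, Int.negSucc 1, Int.ofNat 0, Int.ofNat 2, Int.ofNat 0, Int.ofNat 0, Int.ofNat 0, Int.ofNat 2, Int.ofNat 0, Int.ofNat 0, Int.negSucc 1, Int.ofNat 0, Int.ofNat 0, Int.ofNat 0, Int.ofNat 2, Int.negSucc 1, Int.ofNat 0, Int.ofNat 0, Int.ofNat 0, Int.ofNat 2, Int.ofNat 0, Int.ofNat 0, Int.ofNat 0, Int.negSucc 1],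
  [Int.ofNat 0, Int.ofNat 2, Int.ofNat 0, Int.negSucc 1, Int.ofNat 0, Int.ofNat 0, Int.ofNat 0, Int.ofNat 2, Int.ofNat 0, Int.ofNat 0, Int.negSucc 1, Int.ofNat 0, Int.ofNat 0, Int.ofNat 0, Int.ofNat 2, Int.negSucc 1, Int.ofNat 0, Int.ofNat 0, Int.ofNat 0, Int.ofNat 2, Int.ofNat 0, Int.ofNat 0, Int.ofNat 0, Int.negSucc 1],
  [Int.negSucc 1, Int.ofNat 0, Int.ofNat 0, Int.negSucc 1, Int.ofNat 0, Int.ofNat 0, Int.ofNat 2, Int.ofNat 0, Int.ofNat 0, Int.ofNat 0, Int.ofNat 0, Int.ofNat 0, Int.ofNat 0, Int.ofNat 2, Int.ofNat 0, Int.negSucc 1, Int.negSucc 1, Int.ofNat 0, Int.ofNat 2, Int.ofNat 0, Int.ofNat 0, Int.ofNat 0, Int.ofNat 2, Int.ofNat 0],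
  [Int.ofNat 2, Int.ofNat 0, Int.ofNat 0, Int.negSucc 1, Int.ofNat 0, Int.ofNat 0, Int.ofNat 2, Int.ofNat 0, Int.ofNat 0, Int.ofNat 0, Int.ofNat 0, Int.ofNat 0, Int.ofNat 0, Int.ofNat 2, Int.ofNat 0, Int.negSucc 1, Int.negSucc 1, Int.ofNat 0, Int.negSucc 1, Int.ofNat 0, Int.ofNat 0, Int.ofNat 0, Int.ofNat 2, Int.ofNat 0],
  [Int.ofNat 2, Int.ofNat 2, Int.ofNat 0, Int.ofNat 0, Int.negSucc 1, Int.ofNat 0, Int.ofNat 0, Int.ofNat 2, Int.ofNat 0, Int.ofNat 0, Int.ofNat 0, Int.ofNat 0, Int.ofNat 0, Int.ofNat 0, Int.ofNat 2, Int.ofNat 0, Int.negSucc 1, Int.negSucc 1, Int.ofNat 0, Int.negSucc 1, Int.ofNat 0, Int.ofNat 0, Int.ofNat 0, Int.ofNat 0],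
  [Int.ofNat 0, Int.ofNat 0, Int.ofNat 2, Int.ofNat 0, Int.ofNat 0, Int.ofNat 0, Int.ofNat 0, Int.ofNat 2, Int.ofNat 0, Int.ofNat 0, Int.ofNat 0, Int.ofNat 0, Int.ofNat 0, Int.ofNat 2, Int.ofNat 2, Int.ofNat 0, Int.ofNat 0, Int.negSucc 1, Int.ofNat 0, Int.negSucc 1, Int.ofNat 0, Int.ofNat 0, Int.ofNat 2, Int.ofNat 2],
  [Int.ofNat 0, Int.ofNat 0, Int.ofNat 0, Int.ofNat 0, Int.ofNat 2, Int.ofNat 0, Int.ofNat 0, Int.ofNat 0, Int.ofNat 0, Int.ofNat 0, Int.ofNat 2, Int.ofNat 2, Int.ofNat 0, Int.ofNat 0, Int.negSucc 1, Int.ofNat 0, Int.negSucc 1, Int.ofNat 0, Int.ofNat 0, Int.ofNat 2, Int.ofNat 0, Int.ofNat 0, Int.ofNat 2, Int.ofNat 2],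
  [Int.ofNat 1, Int.ofNat 1, Int.ofNat 1, Int.ofNat 1, Int.ofNat 1, Int.ofNat 1, Int.negSucc 0, Int.negSucc 0, Int.negSucc 0, Int.negSucc 0, Int.ofNat 1, Int.ofNat 1, Int.negSucc 0, Int.negSucc 0, Int.negSucc 0, Int.negSucc 0, Int.negSucc 2, Int.ofNat 1, Int.negSucc 0, Int.ofNat 1, Int.negSucc 0, Int.negSucc 0, Int.ofNat 1, Int.negSucc 0],
  [Int.ofNat 1, Int.negSucc 0, Int.ofNat 1, Int.ofNat 1, Int.negSucc 0, Int.negSucc 0, Int.ofNat 1, Int.ofNat 1, Int.negSucc 0, Int.negSucc 0, Int.negSucc 0, Int.ofNat 1, Int.negSucc 0, Int.negSucc 2, Int.ofNat 1, Int.negSucc 0, Int.negSucc 0, Int.negSucc 0, Int.ofNat 1, Int.ofNat 1, Int.negSucc 0, Int.ofNat 1, Int.ofNat 1, Int.negSucc 0],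
  [Int.negSucc 0, Int.ofNat 1, Int.negSucc 0, Int.ofNat 1, Int.ofNat 1, Int.negSucc 0, Int.negSucc 0, Int.negSucc 0, Int.negSucc 0, Int.ofNat 1, Int.ofNat 1, Int.ofNat 1, Int.negSucc 0, Int.negSucc 0, Int.ofNat 1, Int.ofNat 1, Int.ofNat 1, Int.negSucc 0, Int.ofNat 1, Int.negSucc 0, Int.ofNat 1, Int.negSucc 0, Int.ofNat 3, Int.ofNat 1],
  [Int.negSucc 0, Int.ofNat 1, Int.ofNat 1, Int.ofNat 1, Int.ofNat 1, Int.ofNat 1, Int.ofNat 1, Int.negSucc 0, Int.negSucc 0, Int.negSucc 0, Int.negSucc 0, Int.ofNat 1, Int.negSucc 0, Int.negSucc 0, Int.ofNat 1, Int.negSucc 0, Int.ofNat 1, Int.negSucc 0, Int.negSucc 0, Int.negSucc 0, Int.ofNat 1, Int.negSucc 0, Int.negSucc 2, Int.ofNat 1],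
  [Int.ofNat 1, Int.negSucc 0, Int.negSucc 0, Int.negSucc 0, Int.negSucc 0, Int.ofNat 1, Int.ofNat 1, Int.negSucc 0, Int.ofNat 1, Int.negSucc 0, Int.negSucc 2, Int.ofNat 1, Int.negSucc 0, Int.ofNat 1, Int.negSucc 0, Int.negSucc 0, Int.negSucc 0, Int.ofNat 1, Int.negSucc 0, Int.negSucc 0, Int.ofNat 1, Int.ofNat 1, Int.ofNat 1, Int.ofNat 1],
  [Int.ofNat 1, Int.negSucc 0, Int.ofNat 1, Int.negSucc 0, Int.negSucc 0, Int.negSucc 0, Int.negSucc 0, Int.negSucc 0, Int.ofNat 1, Int.ofNat 1, Int.ofNat 3, Int.ofNat 1, Int.negSucc 0, Int.ofNat 1, Int.negSucc 0, Int.ofNat 1, Int.negSucc 0, Int.ofNat 1, Int.ofNat 1, Int.negSucc 0, Int.ofNat 1, Int.ofNat 1, Int.negSucc 0, Int.ofNat 1],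
  [Int.ofNat 0, Int.ofNat 2, Int.ofNat 0, Int.ofNat 0, Int.ofNat 0, Int.ofNat 0, Int.ofNat 0, Int.ofNat 0, Int.ofNat 0, Int.negSucc 1, Int.ofNat 0, Int.ofNat 0, Int.negSucc 1, Int.ofNat 2, Int.ofNat 0, Int.negSucc 1, Int.ofNat 0, Int.ofNat 2, Int.ofNat 0, Int.ofNat 0, Int.negSucc 1, Int.ofNat 2, Int.ofNat 0, Int.ofNat 0],
  [Int.ofNat 0, Int.ofNat 0, Int.ofNat 0, Int.ofNat 0, Int.ofNat 0, Int.ofNat 2, Int.ofNat 2, Int.ofNat 0, Int.ofNat 0, Int.negSucc 1, Int.ofNat 0, Int.ofNat 0, Int.ofNat 0, Int.negSucc 1, Int.ofNat 2, Int.negSucc 1, Int.ofNat 2, Int.ofNat 0, Int.ofNat 0, Int.ofNat 0, Int.ofNat 0, Int.negSucc 1, Int.ofNat 0, Int.ofNat 0],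
  [Int.ofNat 0, Int.ofNat 0, Int.ofNat 0, Int.negSucc 1, Int.ofNat 0, Int.ofNat 0, Int.ofNat 2, Int.ofNat 0, Int.ofNat 0, Int.ofNat 0, Int.ofNat 2, Int.ofNat 0, Int.ofNat 0, Int.negSucc 1, Int.ofNat 0, Int.ofNat 0, Int.ofNat 2, Int.negSucc 1, Int.ofNat 0, Int.ofNat 0, Int.ofNat 2, Int.negSucc 1, Int.ofNat 0, Int.ofNat 0],
  [Int.ofNat 2, Int.negSucc 1, Int.ofNat 0, Int.ofNat 0, Int.ofNat 0, Int.ofNat 0, Int.negSucc 1, Int.ofNat 0, Int.ofNat 0, Int.ofNat 2, Int.ofNat 0, Int.ofNat 0, Int.ofNat 0, Int.ofNat 2, Int.ofNat 0, Int.ofNat 0, Int.negSucc 1, Int.ofNat 0, Int.ofNat 0, Int.ofNat 2, Int.negSucc 1, Int.ofNat 0, Int.ofNat 0, Int.ofNat 0],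
  [Int.negSucc 1, Int.ofNat 2, Int.ofNat 0, Int.ofNat 0, Int.ofNat 0, Int.ofNat 0, Int.negSucc 1, Int.ofNat 0, Int.ofNat 0, Int.ofNat 2, Int.ofNat 0, Int.ofNat 0, Int.ofNat 0, Int.ofNat 2, Int.ofNat 0, Int.ofNat 0, Int.negSucc 1, Int.ofNat 0, Int.ofNat 0, Int.ofNat 2, Int.negSucc 1, Int.ofNat 0, Int.ofNat 0, Int.ofNat 0],
  [Int.ofNat 2, Int.ofNat 0, Int.ofNat 0, Int.ofNat 0, Int.ofNat 0, Int.negSucc 1, Int.ofNat 0, Int.ofNat 0, Int.ofNat 2, Int.ofNat 0, Int.ofNat 0, Int.ofNat 0, Int.ofNat 2, Int.ofNat 0, Int.ofNat 0, Int.negSucc 1, Int.ofNat 0, Int.ofNat 0, Int.ofNat 2, Int.negSucc 1, Int.ofNat 0, Int.ofNat 0, Int.negSucc 1, Int.ofNat 0],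
  [Int.negSucc 1, Int.ofNat 0, Int.ofNat 0, Int.ofNat 0, Int.ofNat 0, Int.negSucc 1, Int.ofNat 0, Int.ofNat 0, Int.ofNat 2, Int.ofNat 0, Int.ofNat 0, Int.ofNat 0, Int.ofNat 2, Int.ofNat 0, Int.ofNat 0, Int.negSucc 1, Int.ofNat 0, Int.ofNat 0, Int.negSucc 1, Int.negSucc 1, Int.ofNat 0, Int.ofNat 0, Int.negSucc 1, Int.ofNat 0]]

set_option maxRecDepth 100000 in
theorem c1et2_chk : pmChk (List.replicate 14 [2, 0, 25, 26]).flatten nxL c1et2M 0 0 = true := by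
  decide +kernel

theorem c1et2_ne : wE letE2 (List.replicate 14 [2, 0, 25, 26]).flatten ≠ 1 ∧ wE letE2 (List.replicate 14 [2, 0, 25, 26]).flatten ≠ negElt :=
  ne_pm_of_chk nxL_mem c1et2_chk

set_option maxRecDepth 100000 in
def c1et3M : List (List ℤ) :=
  [[Int.negSucc 3, Int.ofNat 0, Int.ofNat 0, Int.ofNat 0, Int.ofNat 0, Int.ofNat 0, Int.ofNat 0, Int.ofNat 0, Int.ofNat 0, Int.ofNat 0, Int.ofNat 0, Int.ofNat 0, Int.ofNat 0, Int.ofNat 0, Int.ofNat 0, Int.ofNat 0, Int.ofNat 0, Int.ofNat 0, Int.ofNat 0, Int.ofNat 0, Int.ofNat 0, Int.ofNat 0, Int.ofNat 0, Int.ofNat 4],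
  [Int.ofNat 4, Int.ofNat 0, Int.ofNat 0, Int.ofNat 0, Int.ofNat 0, Int.ofNat 0, Int.ofNat 0, Int.ofNat 0, Int.ofNat 0, Int.ofNat 0, Int.ofNat 0, Int.ofNat 0, Int.ofNat 0, Int.ofNat 0, Int.ofNat 0, Int.ofNat 0, Int.ofNat 0, Int.ofNat 0, Int.ofNat 0, Int.ofNat 0, Int.ofNat 0, Int.ofNat 0, Int.ofNat 0, Int.ofNat 4],
  [Int.ofNat 0, Int.ofNat 4, Int.ofNat 0, Int.ofNat 0, Int.ofNat 0, Int.ofNat 0, Int.ofNat 0, Int.ofNat 0, Int.ofNat 0, Int.ofNat 0, Int.ofNat 0, Int.ofNat 0, Int.ofNat 0, Int.ofNat 0, Int.ofNat 0, Int.ofNat 0, Int.ofNat 0, Int.ofNat 0, Int.ofNat 0, Int.ofNat 0, Int.ofNat 0, Int.ofNat 0, Int.ofNat 0, Int.ofNat 4],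
  [Int.ofNat 4, Int.ofNat 0, Int.ofNat 4, Int.ofNat 0, Int.ofNat 0, Int.ofNat 0, Int.ofNat 0, Int.ofNat 0, Int.ofNat 0, Int.ofNat 0, Int.ofNat 0, Int.ofNat 0, Int.ofNat 0, Int.ofNat 0, Int.ofNat 0, Int.ofNat 0, Int.ofNat 0, Int.ofNat 0, Int.ofNat 0, Int.ofNat 0, Int.ofNat 0, Int.ofNat 0, Int.ofNat 0, Int.ofNat 0],
  [Int.ofNat 0, Int.ofNat 0, Int.ofNat 0, Int.ofNat 0, Int.ofNat 0, Int.ofNat 0, Int.ofNat 0, Int.ofNat 0, Int.ofNat 0, Int.ofNat 0, Int.ofNat 0, Int.ofNat 0, Int.ofNat 0, Int.ofNat 0, Int.ofNat 0, Int.ofNat 0, Int.ofNat 0, Int.ofNat 0, Int.ofNat 0, Int.ofNat 0, Int.ofNat 4, Int.ofNat 0, Int.ofNat 4, Int.ofNat 0],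
  [Int.ofNat 0, Int.ofNat 0, Int.ofNat 0, Int.ofNat 0, Int.negSucc 1, Int.ofNat 0, Int.ofNat 0, Int.ofNat 0, Int.ofNat 0, Int.negSucc 1, Int.negSucc 1, Int.ofNat 0, Int.ofNat 0, Int.negSucc 1, Int.ofNat 0, Int.negSucc 1, Int.negSucc 1, Int.ofNat 0, Int.ofNat 0, Int.ofNat 0, Int.ofNat 2, Int.ofNat 0, Int.ofNat 2, Int.ofNat 0],
  [Int.ofNat 0, Int.ofNat 0, Int.negSucc 1, Int.ofNat 0, Int.ofNat 0, Int.ofNat 0, Int.ofNat 0, Int.negSucc 1, Int.ofNat 0, Int.negSucc 1, Int.ofNat 2, Int.ofNat 0, Int.negSucc 1, Int.negSucc 1, Int.ofNat 2, Int.negSucc 1, Int.ofNat 0, Int.ofNat 0, Int.ofNat 0, Int.ofNat 0, Int.ofNat 0, Int.ofNat 0, Int.ofNat 0, Int.ofNat 0],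
  [Int.negSucc 0, Int.negSucc 0, Int.ofNat 1, Int.negSucc 0, Int.ofNat 1, Int.negSucc 0, Int.ofNat 1, Int.negSucc 0, Int.ofNat 1, Int.negSucc 0, Int.ofNat 3, Int.ofNat 1, Int.negSucc 0, Int.negSucc 0, Int.ofNat 1, Int.negSucc 0, Int.ofNat 1, Int.negSucc 0, Int.ofNat 1, Int.ofNat 1, Int.ofNat 1, Int.ofNat 1, Int.ofNat 1, Int.negSucc 0],
  [Int.negSucc 0, Int.negSucc 0, Int.negSucc 0, Int.negSucc 0, Int.ofNat 1, Int.ofNat 1, Int.negSucc 0, Int.negSucc 0, Int.ofNat 1, Int.ofNat 1, Int.negSucc 2, Int.ofNat 1, Int.negSucc 0, Int.negSucc 0, Int.ofNat 1, Int.ofNat 1, Int.ofNat 1, Int.negSucc 0, Int.negSucc 0, Int.ofNat 1, Int.ofNat 1, Int.ofNat 1, Int.negSucc 0, Int.negSucc 0],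
  [Int.negSucc 2, Int.ofNat 1, Int.ofNat 1, Int.ofNat 1, Int.ofNat 1, Int.negSucc 0, Int.ofNat 1, Int.negSucc 0, Int.ofNat 1, Int.ofNat 1, Int.negSucc 0, Int.negSucc 0, Int.ofNat 1, Int.ofNat 1, Int.negSucc 0, Int.negSucc 0, Int.ofNat 1, Int.negSucc 0, Int.ofNat 1, Int.negSucc 0, Int.negSucc 0, Int.negSucc 0, Int.negSucc 0, Int.negSucc 0],
  [Int.ofNat 3, Int.negSucc 0, Int.negSucc 0, Int.negSucc 0, Int.negSucc 0, Int.negSucc 0, Int.negSucc 0, Int.negSucc 0, Int.negSucc 0, Int.negSucc 0, Int.negSucc 0, Int.negSucc 0, Int.negSucc 0, Int.negSucc 0, Int.negSucc 0, Int.negSucc 0, Int.negSucc 0, Int.negSucc 0, Int.negSucc 0, Int.negSucc 0, Int.negSucc 0, Int.negSucc 0, Int.negSucc 0, Int.negSucc 0],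
  [Int.negSucc 0, Int.negSucc 0, Int.negSucc 0, Int.negSucc 0, Int.negSucc 0, Int.negSucc 0, Int.negSucc 0, Int.negSucc 0, Int.negSucc 0, Int.negSucc 0, Int.negSucc 0, Int.negSucc 0, Int.negSucc 0, Int.negSucc 0, Int.negSucc 0, Int.negSucc 0, Int.negSucc 0, Int.negSucc 0, Int.negSucc 0, Int.negSucc 0, Int.negSucc 0, Int.negSucc 0, Int.negSucc 0, Int.ofNat 3],
  [Int.ofNat 1, Int.negSucc 0, Int.ofNat 1, Int.negSucc 0, Int.negSucc 0, Int.negSucc 0, Int.negSucc 0, Int.ofNat 1, Int.negSucc 0, Int.ofNat 1, Int.ofNat 1, Int.ofNat 1, Int.negSucc 0, Int.negSucc 0, Int.negSucc 0, Int.negSucc 0, Int.negSucc 0, Int.negSucc 0, Int.ofNat 1, Int.negSucc 0, Int.negSucc 0, Int.ofNat 1, Int.negSucc 0, Int.ofNat 3],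
  [Int.negSucc 0, Int.ofNat 1, Int.negSucc 0, Int.ofNat 1, Int.negSucc 0, Int.negSucc 0, Int.negSucc 0, Int.negSucc 0, Int.ofNat 1, Int.negSucc 0, Int.ofNat 1, Int.ofNat 1, Int.ofNat 1, Int.negSucc 0, Int.negSucc 0, Int.negSucc 0, Int.negSucc 0, Int.negSucc 0, Int.negSucc 0, Int.ofNat 1, Int.negSucc 0, Int.negSucc 0, Int.ofNat 1, Int.ofNat 3],
  [Int.ofNat 2, Int.ofNat 0, Int.ofNat 2, Int.ofNat 2, Int.ofNat 0, Int.ofNat 0, Int.ofNat 0, Int.ofNat 0, Int.ofNat 0, Int.ofNat 0, Int.ofNat 2, Int.ofNat 0, Int.ofNat 0, Int.ofNat 0, Int.ofNat 0, Int.ofNat 0, Int.ofNat 0, Int.ofNat 0, Int.negSucc 1, Int.ofNat 2, Int.ofNat 0, Int.ofNat 0, Int.ofNat 2, Int.negSucc 1],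
  [Int.ofNat 2, Int.ofNat 0, Int.ofNat 0, Int.ofNat 0, Int.ofNat 0, Int.ofNat 0, Int.ofNat 0, Int.ofNat 2, Int.ofNat 0, Int.ofNat 0, Int.ofNat 0, Int.ofNat 0, Int.ofNat 0, Int.ofNat 0, Int.ofNat 0, Int.negSucc 1, Int.ofNat 2, Int.ofNat 0, Int.ofNat 0, Int.ofNat 2, Int.ofNat 2, Int.ofNat 0, Int.ofNat 2, Int.negSucc 1],
  [Int.negSucc 1, Int.ofNat 0, Int.ofNat 0, Int.ofNat 0, Int.negSucc 1, Int.ofNat 0, Int.negSucc 1, Int.ofNat 0, Int.ofNat 0, Int.ofNat 0, Int.ofNat 0, Int.ofNat 0, Int.ofNat 0, Int.negSucc 1, Int.ofNat 0, Int.negSucc 1, Int.ofNat 0, Int.ofNat 0, Int.ofNat 0, Int.ofNat 0, Int.ofNat 2, Int.negSucc 1, Int.ofNat 0, Int.ofNat 2],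
  [Int.negSucc 1, Int.negSucc 1, Int.negSucc 1, Int.ofNat 0, Int.ofNat 0, Int.ofNat 0, Int.ofNat 0, Int.ofNat 0, Int.ofNat 0, Int.negSucc 1, Int.ofNat 2, Int.ofNat 0, Int.ofNat 0, Int.ofNat 0, Int.ofNat 0, Int.negSucc 1, Int.ofNat 0, Int.ofNat 0, Int.ofNat 0, Int.ofNat 0, Int.negSucc 1, Int.ofNat 0, Int.ofNat 0, Int.ofNat 2],
  [Int.ofNat 0, Int.ofNat 0, Int.ofNat 0, Int.ofNat 0, Int.ofNat 0, Int.ofNat 0, Int.ofNat 0, Int.ofNat 0, Int.ofNat 0, Int.ofNat 0, Int.ofNat 4, Int.ofNat 0, Int.ofNat 0, Int.ofNat 0, Int.ofNat 0, Int.ofNat 0, Int.ofNat 0, Int.ofNat 0, Int.ofNat 0, Int.ofNat 0, Int.ofNat 0, Int.ofNat 0, Int.ofNat 0, Int.negSucc 3],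
  [Int.ofNat 0, Int.ofNat 0, Int.ofNat 0, Int.ofNat 0, Int.ofNat 0, Int.ofNat 0, Int.ofNat 0, Int.ofNat 0, Int.ofNat 0, Int.ofNat 0, Int.negSucc 3, Int.ofNat 0, Int.ofNat 0, Int.ofNat 0, Int.ofNat 0, Int.ofNat 0, Int.ofNat 0, Int.ofNat 0, Int.ofNat 0, Int.ofNat 0, Int.ofNat 0, Int.ofNat 0, Int.ofNat 0, Int.negSucc 3],
  [Int.ofNat 0, Int.ofNat 0, Int.ofNat 0, Int.ofNat 0, Int.negSucc 3, Int.ofNat 0, Int.ofNat 0, Int.ofNat 0, Int.ofNat 0, Int.ofNat 0, Int.ofNat 0, Int.ofNat 0, Int.ofNat 0, Int.ofNat 0, Int.ofNat 0, Int.ofNat 0, Int.ofNat 0, Int.ofNat 0, Int.ofNat 0, Int.ofNat 0, Int.ofNat 0, Int.ofNat 0, Int.ofNat 0, Int.negSucc 3],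
  [Int.ofNat 0, Int.ofNat 0, Int.ofNat 0, Int.ofNat 0, Int.negSucc 3, Int.ofNat 0, Int.ofNat 0, Int.ofNat 0, Int.ofNat 0, Int.ofNat 0, Int.ofNat 0, Int.ofNat 0, Int.ofNat 0, Int.ofNat 0, Int.ofNat 0, Int.ofNat 0, Int.ofNat 0, Int.ofNat 0, Int.ofNat 0, Int.ofNat 0, Int.ofNat 0, Int.ofNat 0, Int.ofNat 0, Int.negSucc 3],
  [Int.negSucc 1, Int.negSucc 1, Int.negSucc 1, Int.ofNat 0, Int.negSucc 1, Int.ofNat 0, Int.ofNat 0, Int.ofNat 0, Int.ofNat 0, Int.ofNat 0, Int.ofNat 0, Int.ofNat 0, Int.ofNat 0, Int.ofNat 2, Int.ofNat 0, Int.ofNat 0, Int.ofNat 2, Int.ofNat 0, Int.ofNat 0, Int.ofNat 0, Int.ofNat 0, Int.ofNat 0, Int.ofNat 2, Int.ofNat 2],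
  [Int.negSucc 1, Int.ofNat 0, Int.ofNat 0, Int.ofNat 0, Int.negSucc 1, Int.ofNat 0, Int.negSucc 1, Int.ofNat 0, Int.ofNat 2, Int.ofNat 0, Int.ofNat 0, Int.ofNat 0, Int.ofNat 0, Int.ofNat 0, Int.ofNat 0, Int.ofNat 0, Int.ofNat 2, Int.ofNat 0, Int.negSucc 1, Int.ofNat 2, Int.ofNat 0, Int.ofNat 0, Int.ofNat 0, Int.ofNat 2],
  [Int.ofNat 2, Int.ofNat 0, Int.ofNat 0, Int.ofNat 0, Int.negSucc 1, Int.ofNat 0, Int.negSucc 1, Int.ofNat 0, Int.ofNat 2, Int.ofNat 0, Int.ofNat 0, Int.ofNat 0, Int.ofNat 0, Int.ofNat 0, Int.ofNat 0, Int.ofNat 0, Int.ofNat 2, Int.ofNat 0, Int.negSucc 1, Int.ofNat 2, Int.ofNat 0, Int.ofNat 0, Int.ofNat 0, Int.negSucc 1],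
  [Int.ofNat 0, Int.ofNat 0, Int.ofNat 0, Int.ofNat 2, Int.ofNat 0, Int.ofNat 0, Int.ofNat 0, Int.negSucc 1, Int.ofNat 0, Int.negSucc 1, Int.ofNat 0, Int.ofNat 2, Int.ofNat 0, Int.ofNat 0, Int.ofNat 0, Int.ofNat 0, Int.ofNat 0, Int.ofNat 0, Int.ofNat 0, Int.ofNat 2, Int.ofNat 0, Int.negSucc 1, Int.ofNat 2, Int.negSucc 1],
  [Int.negSucc 0, Int.negSucc 0, Int.negSucc 0, Int.ofNat 1, Int.negSucc 0, Int.negSucc 0, Int.ofNat 1, Int.negSucc 0, Int.negSucc 0, Int.negSucc 0, Int.ofNat 1, Int.ofNat 1, Int.negSucc 0, Int.negSucc 0, Int.negSucc 0, Int.ofNat 1, Int.negSucc 0, Int.negSucc 0, Int.negSucc 0, Int.ofNat 3, Int.ofNat 1, Int.negSucc 0, Int.ofNat 1, Int.ofNat 1],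
  [Int.negSucc 0, Int.negSucc 0, Int.ofNat 1, Int.negSucc 0, Int.negSucc 0, Int.ofNat 1, Int.negSucc 0, Int.negSucc 0, Int.negSucc 0, Int.ofNat 1, Int.ofNat 1, Int.negSucc 0, Int.negSucc 0, Int.negSucc 0, Int.ofNat 1, Int.negSucc 0, Int.negSucc 0, Int.negSucc 0, Int.ofNat 3, Int.ofNat 1, Int.negSucc 0, Int.ofNat 1, Int.negSucc 0, Int.ofNat 1],
  [Int.ofNat 1, Int.negSucc 0, Int.negSucc 0, Int.negSucc 0, Int.negSucc 0, Int.ofNat 1, Int.negSucc 0, Int.ofNat 1, Int.negSucc 0, Int.negSucc 0, Int.negSucc 0, Int.ofNat 1, Int.negSucc 0, Int.negSucc 0, Int.ofNat 1, Int.negSucc 0, Int.negSucc 0, Int.negSucc 0, Int.negSucc 2, Int.ofNat 1, Int.negSucc 0, Int.negSucc 0, Int.negSucc 0, Int.ofNat 1],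
  [Int.ofNat 1, Int.negSucc 0, Int.negSucc 2, Int.negSucc 0, Int.negSucc 0, Int.negSucc 0, Int.negSucc 0, Int.negSucc 0, Int.negSucc 0, Int.negSucc 0, Int.negSucc 0, Int.ofNat 1, Int.negSucc 0, Int.negSucc 0, Int.ofNat 1, Int.negSucc 0, Int.negSucc 0, Int.negSucc 0, Int.negSucc 0, Int.negSucc 0, Int.ofNat 1, Int.ofNat 1, Int.ofNat 1, Int.ofNat 1],
  [Int.negSucc 0, Int.negSucc 0, Int.ofNat 3, Int.negSucc 0, Int.negSucc 0, Int.negSucc 0, Int.negSucc 0, Int.ofNat 1, Int.negSucc 0, Int.ofNat 1, Int.ofNat 1, Int.negSucc 0, Int.negSucc 0, Int.negSucc 0, Int.ofNat 1, Int.negSucc 0, Int.negSucc 0, Int.negSucc 0, Int.ofNat 1, Int.negSucc 0, Int.ofNat 1, Int.negSucc 0, Int.ofNat 1, Int.ofNat 1],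
  [Int.ofNat 1, Int.negSucc 0, Int.negSucc 0, Int.ofNat 3, Int.negSucc 0, Int.negSucc 0, Int.negSucc 0, Int.negSucc 0, Int.ofNat 1, Int.negSucc 0, Int.ofNat 1, Int.ofNat 1, Int.negSucc 0, Int.negSucc 0, Int.negSucc 0, Int.ofNat 1, Int.negSucc 0, Int.negSucc 0, Int.negSucc 0, Int.ofNat 1, Int.negSucc 0, Int.ofNat 1, Int.negSucc 0, Int.ofNat 1],
  [Int.negSucc 0, Int.ofNat 1, Int.ofNat 1, Int.ofNat 3, Int.ofNat 1, Int.negSucc 0, Int.negSucc 0, Int.negSucc 0, Int.ofNat 1, Int.negSucc 0, Int.ofNat 1, Int.ofNat 1, Int.negSucc 0, Int.ofNat 1, Int.negSucc 0, Int.ofNat 1, Int.ofNat 1, Int.negSucc 0, Int.negSucc 0, Int.ofNat 1, Int.negSucc 0, Int.ofNat 1, Int.ofNat 1, Int.negSucc 0],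
  [Int.ofNat 3, Int.ofNat 1, Int.negSucc 0, Int.negSucc 0, Int.negSucc 0, Int.ofNat 1, Int.negSucc 0, Int.ofNat 1, Int.ofNat 1, Int.negSucc 0, Int.ofNat 1, Int.negSucc 0, Int.ofNat 1, Int.ofNat 1, Int.negSucc 0, Int.negSucc 0, Int.ofNat 1, Int.negSucc 0, Int.ofNat 1, Int.ofNat 1, Int.negSucc 0, Int.ofNat 1, Int.ofNat 1, Int.negSucc 0],
  [Int.negSucc 1, Int.ofNat 0, Int.ofNat 2, Int.ofNat 0, Int.negSucc 1, Int.ofNat 2, Int.negSucc 1, Int.ofNat 0, Int.ofNat 0, Int.ofNat 0, Int.ofNat 2, Int.negSucc 1, Int.ofNat 0, Int.ofNat 0, Int.ofNat 0, Int.ofNat 0, Int.ofNat 0, Int.ofNat 0, Int.ofNat 0, Int.ofNat 0, Int.ofNat 0, Int.ofNat 0, Int.ofNat 0, Int.ofNat 2],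
  [Int.negSucc 1, Int.negSucc 1, Int.negSucc 1, Int.ofNat 0, Int.ofNat 0, Int.ofNat 0, Int.ofNat 2, Int.ofNat 2, Int.ofNat 0, Int.ofNat 0, Int.ofNat 0, Int.ofNat 0, Int.ofNat 0, Int.ofNat 0, Int.ofNat 0, Int.ofNat 0, Int.ofNat 0, Int.ofNat 0, Int.ofNat 0, Int.negSucc 1, Int.ofNat 0, Int.ofNat 2, Int.ofNat 0, Int.ofNat 2],
  [Int.ofNat 0, Int.ofNat 0, Int.ofNat 0, Int.ofNat 0, Int.ofNat 0, Int.ofNat 0, Int.ofNat 0, Int.ofNat 0, Int.ofNat 0, Int.ofNat 0, Int.ofNat 0, Int.ofNat 0, Int.ofNat 0, Int.ofNat 0, Int.ofNat 0, Int.ofNat 0, Int.ofNat 0, Int.ofNat 0, Int.ofNat 0, Int.negSucc 3, Int.ofNat 0, Int.ofNat 0, Int.ofNat 0, Int.negSucc 3],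
  [Int.ofNat 0, Int.ofNat 0, Int.ofNat 0, Int.ofNat 0, Int.ofNat 0, Int.ofNat 0, Int.ofNat 0, Int.ofNat 0, Int.ofNat 0, Int.ofNat 0, Int.ofNat 0, Int.ofNat 0, Int.ofNat 0, Int.ofNat 0, Int.ofNat 0, Int.ofNat 0, Int.ofNat 0, Int.ofNat 0, Int.ofNat 0, Int.negSucc 3, Int.ofNat 0, Int.ofNat 0, Int.ofNat 0, Int.negSucc 3],
  [Int.ofNat 0, Int.ofNat 0, Int.ofNat 0, Int.ofNat 0, Int.ofNat 0, Int.ofNat 0, Int.ofNat 0, Int.ofNat 0, Int.ofNat 0, Int.ofNat 0, Int.ofNat 0, Int.ofNat 0, Int.ofNat 0, Int.ofNat 0, Int.ofNat 0, Int.ofNat 0, Int.negSucc 3, Int.ofNat 0, Int.ofNat 0, Int.ofNat 0, Int.ofNat 0, Int.ofNat 0, Int.ofNat 0, Int.negSucc 3],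
  [Int.ofNat 0, Int.ofNat 0, Int.ofNat 0, Int.ofNat 0, Int.ofNat 0, Int.ofNat 0, Int.ofNat 0, Int.ofNat 0, Int.ofNat 0, Int.ofNat 0, Int.ofNat 0, Int.ofNat 0, Int.ofNat 0, Int.ofNat 0, Int.ofNat 0, Int.ofNat 0, Int.ofNat 4, Int.ofNat 0, Int.ofNat 0, Int.ofNat 0, Int.ofNat 0, Int.ofNat 0, Int.ofNat 0, Int.negSucc 3],
  [Int.negSucc 3, Int.ofNat 0, Int.ofNat 0, Int.ofNat 0, Int.ofNat 0, Int.ofNat 0, Int.ofNat 0, Int.ofNat 0, Int.ofNat 0, Int.ofNat 0, Int.ofNat 4, Int.ofNat 0, Int.ofNat 0, Int.ofNat 0, Int.ofNat 0, Int.ofNat 0, Int.ofNat 0, Int.ofNat 0, Int.ofNat 0, Int.ofNat 0, Int.ofNat 0, Int.ofNat 0, Int.ofNat 0, Int.ofNat 0],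
  [Int.ofNat 4, Int.ofNat 0, Int.ofNat 0, Int.ofNat 0, Int.ofNat 0, Int.ofNat 0, Int.ofNat 0, Int.ofNat 0, Int.ofNat 0, Int.ofNat 0, Int.negSucc 3, Int.ofNat 0, Int.ofNat 0, Int.ofNat 0, Int.ofNat 0, Int.ofNat 0, Int.ofNat 0, Int.ofNat 0, Int.ofNat 0, Int.ofNat 0, Int.ofNat 0, Int.ofNat 0, Int.ofNat 0, Int.ofNat 0],
  [Int.ofNat 0, Int.ofNat 4, Int.ofNat 0, Int.ofNat 0, Int.ofNat 0, Int.ofNat 0, Int.ofNat 0, Int.ofNat 0, Int.ofNat 0, Int.ofNat 0, Int.ofNat 0, Int.negSucc 3, Int.ofNat 0, Int.ofNat 0, Int.ofNat 0, Int.ofNat 0, Int.ofNat 0, Int.ofNat 0, Int.ofNat 0, Int.ofNat 0, Int.ofNat 0, Int.ofNat 0, Int.ofNat 0, Int.ofNat 0],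
  [Int.ofNat 2, Int.negSucc 1, Int.ofNat 2, Int.ofNat 0, Int.ofNat 0, Int.ofNat 0, Int.ofNat 0, Int.ofNat 0, Int.ofNat 2, Int.ofNat 0, Int.ofNat 0, Int.negSucc 1, Int.ofNat 2, Int.ofNat 0, Int.ofNat 0, Int.ofNat 0, Int.ofNat 0, Int.ofNat 0, Int.ofNat 2, Int.ofNat 0, Int.ofNat 0, Int.ofNat 0, Int.ofNat 0, Int.ofNat 2],
  [Int.ofNat 0, Int.ofNat 0, Int.ofNat 0, Int.ofNat 0, Int.ofNat 0, Int.ofNat 2, Int.ofNat 0, Int.ofNat 0, Int.negSucc 1, Int.ofNat 2, Int.ofNat 0, Int.ofNat 0, Int.ofNat 0, Int.ofNat 0, Int.ofNat 0, Int.ofNat 2, Int.ofNat 0, Int.ofNat 0, Int.ofNat 0, Int.ofNat 0, Int.ofNat 2, Int.negSucc 1, Int.ofNat 2, Int.ofNat 2],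
  [Int.ofNat 1, Int.ofNat 1, Int.ofNat 1, Int.negSucc 0, Int.negSucc 0, Int.ofNat 1, Int.ofNat 1, Int.ofNat 1, Int.negSucc 0, Int.negSucc 0, Int.negSucc 2, Int.ofNat 1, Int.ofNat 1, Int.negSucc 0, Int.negSucc 0, Int.negSucc 0, Int.negSucc 0, Int.negSucc 0, Int.ofNat 1, Int.ofNat 1, Int.negSucc 0, Int.negSucc 0, Int.ofNat 1, Int.negSucc 0],
  [Int.ofNat 1, Int.ofNat 1, Int.negSucc 0, Int.negSucc 0, Int.ofNat 1, Int.ofNat 1, Int.ofNat 1, Int.negSucc 2, Int.ofNat 1, Int.negSucc 0, Int.negSucc 0, Int.negSucc 0, Int.negSucc 0, Int.negSucc 0, Int.ofNat 1, Int.negSucc 0, Int.negSucc 0, Int.negSucc 0, Int.ofNat 1, Int.ofNat 1, Int.negSucc 0, Int.ofNat 1, Int.ofNat 1, Int.negSucc 0],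
  [Int.negSucc 0, Int.negSucc 0, Int.ofNat 1, Int.negSucc 0, Int.ofNat 1, Int.ofNat 1, Int.ofNat 1, Int.negSucc 2, Int.ofNat 1, Int.ofNat 1, Int.ofNat 1, Int.negSucc 0, Int.negSucc 0, Int.negSucc 0, Int.ofNat 1, Int.ofNat 1, Int.negSucc 0, Int.negSucc 0, Int.ofNat 1, Int.ofNat 1, Int.ofNat 1, Int.ofNat 1, Int.ofNat 1, Int.ofNat 1],
  [Int.negSucc 0, Int.negSucc 0, Int.negSucc 0, Int.negSucc 0, Int.ofNat 1, Int.negSucc 0, Int.negSucc 0, Int.negSucc 2, Int.ofNat 1, Int.negSucc 0, Int.negSucc 0, Int.negSucc 0, Int.negSucc 0, Int.negSucc 0, Int.ofNat 1, Int.negSucc 0, Int.negSucc 0, Int.negSucc 0, Int.negSucc 0, Int.ofNat 1, Int.ofNat 1, Int.ofNat 1, Int.negSucc 0, Int.ofNat 1],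
  [Int.negSucc 0, Int.negSucc 0, Int.ofNat 1, Int.negSucc 0, Int.negSucc 0, Int.negSucc 0, Int.negSucc 0, Int.negSucc 0, Int.ofNat 1, Int.negSucc 0, Int.negSucc 0, Int.negSucc 0, Int.ofNat 1, Int.negSucc 0, Int.negSucc 0, Int.negSucc 0, Int.negSucc 2, Int.negSucc 0, Int.negSucc 0, Int.ofNat 1, Int.negSucc 0, Int.ofNat 1, Int.ofNat 1, Int.ofNat 1],
  [Int.negSucc 0, Int.negSucc 0, Int.negSucc 0, Int.negSucc 0, Int.negSucc 0, Int.ofNat 1, Int.ofNat 1, Int.negSucc 0, Int.ofNat 1, Int.ofNat 1, Int.ofNat 1, Int.negSucc 0, Int.ofNat 1, Int.negSucc 0, Int.negSucc 0, Int.ofNat 1, Int.negSucc 2, Int.negSucc 0, Int.ofNat 1, Int.ofNat 1, Int.negSucc 0, Int.ofNat 1, Int.negSucc 0, Int.ofNat 1],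
  [Int.ofNat 0, Int.ofNat 0, Int.ofNat 0, Int.ofNat 0, Int.ofNat 2, Int.ofNat 2, Int.ofNat 0, Int.negSucc 1, Int.ofNat 0, Int.ofNat 0, Int.ofNat 0, Int.negSucc 1, Int.ofNat 0, Int.ofNat 2, Int.ofNat 0, Int.ofNat 0, Int.ofNat 0, Int.ofNat 0, Int.ofNat 0, Int.ofNat 0, Int.negSucc 1, Int.ofNat 0, Int.ofNat 2, Int.negSucc 1],
  [Int.ofNat 0, Int.ofNat 0, Int.ofNat 0, Int.ofNat 0, Int.ofNat 0, Int.ofNat 0, Int.ofNat 0, Int.ofNat 2, Int.ofNat 0, Int.ofNat 0, Int.negSucc 1, Int.ofNat 0, Int.ofNat 0, Int.ofNat 0, Int.ofNat 0, Int.ofNat 0, Int.ofNat 2, Int.negSucc 1, Int.ofNat 2, Int.ofNat 2, Int.ofNat 0, Int.negSucc 1, Int.ofNat 0, Int.negSucc 1],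
  [Int.negSucc 0, Int.negSucc 0, Int.negSucc 0, Int.ofNat 1, Int.negSucc 0, Int.ofNat 1, Int.negSucc 0, Int.ofNat 1, Int.negSucc 0, Int.ofNat 1, Int.negSucc 0, Int.negSucc 0, Int.negSucc 0, Int.negSucc 0, Int.ofNat 1, Int.ofNat 1, Int.ofNat 1, Int.negSucc 0, Int.ofNat 1, Int.ofNat 1, Int.ofNat 1, Int.negSucc 2, Int.negSucc 0, Int.ofNat 1],
  [Int.ofNat 1, Int.negSucc 2, Int.negSucc 0, Int.negSucc 0, Int.negSucc 0, Int.negSucc 0, Int.ofNat 1, Int.negSucc 0, Int.ofNat 1, Int.negSucc 0, Int.ofNat 1, Int.negSucc 0, Int.ofNat 1, Int.negSucc 0, Int.negSucc 0, Int.negSucc 0, Int.negSucc 0, Int.ofNat 1, Int.ofNat 1, Int.ofNat 1, Int.negSucc 0, Int.ofNat 1, Int.ofNat 1, Int.ofNat 1],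
  [Int.negSucc 1, Int.ofNat 2, Int.ofNat 0, Int.ofNat 0, Int.ofNat 0, Int.ofNat 0, Int.ofNat 0, Int.negSucc 1, Int.ofNat 0, Int.ofNat 0, Int.ofNat 2, Int.negSucc 1, Int.ofNat 0, Int.ofNat 0, Int.ofNat 0, Int.ofNat 0, Int.ofNat 0, Int.ofNat 2, Int.ofNat 0, Int.ofNat 0, Int.ofNat 0, Int.ofNat 0, Int.ofNat 2, Int.negSucc 1],
  [Int.ofNat 2, Int.ofNat 0, Int.ofNat 0, Int.ofNat 0, Int.ofNat 0, Int.ofNat 0, Int.negSucc 1, Int.ofNat 0, Int.ofNat 0, Int.ofNat 2, Int.negSucc 1, Int.ofNat 0, Int.ofNat 0, Int.ofNat 0, Int.ofNat 0, Int.ofNat 0, Int.ofNat 2, Int.ofNat 0, Int.ofNat 0, Int.ofNat 0, Int.ofNat 0, Int.ofNat 2, Int.negSucc 1, Int.negSucc 1],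
  [Int.negSucc 1, Int.ofNat 0, Int.ofNat 0, Int.ofNat 0, Int.ofNat 0, Int.ofNat 0, Int.negSucc 1, Int.ofNat 0, Int.ofNat 0, Int.negSucc 1, Int.ofNat 2, Int.ofNat 0, Int.ofNat 0, Int.ofNat 0, Int.ofNat 0, Int.ofNat 0, Int.ofNat 2, Int.ofNat 0, Int.ofNat 0, Int.ofNat 0, Int.ofNat 0, Int.negSucc 1, Int.negSucc 1, Int.negSucc 1],
  [Int.negSucc 1, Int.ofNat 0, Int.ofNat 0, Int.ofNat 0, Int.ofNat 0, Int.ofNat 2, Int.ofNat 0, Int.ofNat 0, Int.negSucc 1, Int.ofNat 2, Int.negSucc 1, Int.ofNat 0, Int.ofNat 0, Int.ofNat 0, Int.ofNat 0, Int.ofNat 0, Int.ofNat 0, Int.negSucc 1, Int.negSucc 1, Int.ofNat 0, Int.ofNat 0, Int.ofNat 0, Int.ofNat 0, Int.negSucc 1],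
  [Int.ofNat 2, Int.ofNat 0, Int.ofNat 0, Int.ofNat 0, Int.ofNat 0, Int.ofNat 2, Int.ofNat 0, Int.ofNat 0, Int.negSucc 1, Int.negSucc 1, Int.ofNat 2, Int.ofNat 0, Int.ofNat 0, Int.ofNat 0, Int.ofNat 0, Int.ofNat 0, Int.ofNat 0, Int.negSucc 1, Int.ofNat 2, Int.ofNat 0, Int.ofNat 0, Int.ofNat 0, Int.ofNat 0, Int.negSucc 1],
  [Int.ofNat 0, Int.ofNat 2, Int.ofNat 0, Int.ofNat 0, Int.ofNat 0, Int.ofNat 0, Int.ofNat 2, Int.ofNat 0, Int.ofNat 0, Int.negSucc 1, Int.negSucc 1, Int.ofNat 2, Int.ofNat 0, Int.ofNat 0, Int.ofNat 0, Int.ofNat 0, Int.ofNat 0, Int.ofNat 0, Int.negSucc 1, Int.ofNat 2, Int.ofNat 0, Int.ofNat 0, Int.ofNat 0, Int.negSucc 1],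
  [Int.ofNat 0, Int.negSucc 1, Int.ofNat 0, Int.ofNat 0, Int.ofNat 0, Int.ofNat 0, Int.ofNat 0, Int.negSucc 1, Int.ofNat 0, Int.ofNat 0, Int.ofNat 0, Int.ofNat 2, Int.ofNat 0, Int.ofNat 0, Int.ofNat 0, Int.ofNat 2, Int.ofNat 0, Int.ofNat 0, Int.negSucc 1, Int.ofNat 0, Int.ofNat 2, Int.negSucc 1, Int.ofNat 0, Int.ofNat 2],
  [Int.ofNat 0, Int.ofNat 0, Int.ofNat 0, Int.ofNat 0, Int.negSucc 1, Int.ofNat 0, Int.ofNat 0, Int.ofNat 0, Int.ofNat 2, Int.ofNat 0, Int.ofNat 0, Int.ofNat 0, Int.ofNat 2, Int.ofNat 0, Int.ofNat 0, Int.negSucc 1, Int.ofNat 0, Int.ofNat 2, Int.negSucc 1, Int.ofNat 0, Int.ofNat 0, Int.negSucc 1, Int.ofNat 0, Int.ofNat 2],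
  [Int.ofNat 1, Int.ofNat 1, Int.ofNat 1, Int.negSucc 0, Int.negSucc 0, Int.negSucc 0, Int.ofNat 1, Int.ofNat 1, Int.ofNat 1, Int.ofNat 1, Int.ofNat 1, Int.negSucc 0, Int.ofNat 1, Int.ofNat 1, Int.negSucc 0, Int.negSucc 0, Int.ofNat 1, Int.ofNat 1, Int.negSucc 2, Int.ofNat 1, Int.ofNat 1, Int.negSucc 0, Int.ofNat 1, Int.negSucc 0],
  [Int.ofNat 1, Int.ofNat 1, Int.negSucc 0, Int.negSucc 0, Int.negSucc 2, Int.ofNat 1, Int.ofNat 1, Int.ofNat 1, Int.ofNat 1, Int.ofNat 1, Int.ofNat 1, Int.ofNat 1, Int.ofNat 1, Int.ofNat 1, Int.ofNat 1, Int.negSucc 0, Int.ofNat 1, Int.negSucc 0, Int.ofNat 1, Int.negSucc 0, Int.negSucc 0, Int.negSucc 0, Int.ofNat 1, Int.negSucc 0],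
  [Int.negSucc 0, Int.negSucc 0, Int.ofNat 1, Int.negSucc 0, Int.negSucc 2, Int.ofNat 1, Int.ofNat 1, Int.ofNat 1, Int.negSucc 0, Int.ofNat 1, Int.ofNat 1, Int.negSucc 0, Int.negSucc 0, Int.ofNat 1, Int.ofNat 1, Int.negSucc 0, Int.ofNat 1, Int.negSucc 0, Int.negSucc 0, Int.negSucc 0, Int.negSucc 0, Int.negSucc 0, Int.ofNat 1, Int.ofNat 1],
  [Int.negSucc 0, Int.negSucc 0, Int.negSucc 0, Int.negSucc 0, Int.negSucc 2, Int.negSucc 0, Int.negSucc 0, Int.ofNat 1, Int.negSucc 0, Int.negSucc 0, Int.negSucc 0, Int.negSucc 0, Int.negSucc 0, Int.ofNat 1, Int.ofNat 1, Int.ofNat 1, Int.ofNat 1, Int.negSucc 0, Int.ofNat 1, Int.negSucc 0, Int.negSucc 0, Int.negSucc 0, Int.negSucc 0, Int.ofNat 1],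
  [Int.negSucc 0, Int.ofNat 1, Int.negSucc 0, Int.negSucc 0, Int.ofNat 1, Int.negSucc 0, Int.negSucc 0, Int.negSucc 0, Int.negSucc 0, Int.negSucc 0, Int.ofNat 1, Int.ofNat 1, Int.ofNat 1, Int.negSucc 2, Int.negSucc 0, Int.ofNat 1, Int.negSucc 0, Int.negSucc 0, Int.negSucc 0, Int.negSucc 0, Int.negSucc 0, Int.negSucc 0, Int.negSucc 0, Int.ofNat 1],
  [Int.ofNat 1, Int.negSucc 0, Int.ofNat 1, Int.ofNat 1, Int.negSucc 0, Int.negSucc 0, Int.ofNat 1, Int.negSucc 0, Int.ofNat 1, Int.ofNat 1, Int.ofNat 1, Int.ofNat 1, Int.negSucc 0, Int.ofNat 3, Int.negSucc 0, Int.ofNat 1, Int.ofNat 1, Int.negSucc 0, Int.ofNat 1, Int.negSucc 0, Int.negSucc 0, Int.negSucc 0, Int.negSucc 0, Int.ofNat 1],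
  [Int.ofNat 1, Int.negSucc 0, Int.ofNat 1, Int.ofNat 1, Int.negSucc 0, Int.ofNat 1, Int.negSucc 0, Int.ofNat 3, Int.negSucc 0, Int.negSucc 0, Int.ofNat 1, Int.ofNat 1, Int.negSucc 0, Int.negSucc 0, Int.ofNat 1, Int.ofNat 1, Int.ofNat 1, Int.negSucc 0, Int.negSucc 0, Int.ofNat 1, Int.ofNat 1, Int.negSucc 0, Int.negSucc 0, Int.ofNat 1],
  [Int.negSucc 0, Int.negSucc 0, Int.negSucc 0, Int.ofNat 1, Int.negSucc 0, Int.ofNat 1, Int.negSucc 0, Int.negSucc 2, Int.negSucc 0, Int.ofNat 1, Int.negSucc 0, Int.negSucc 0, Int.negSucc 0, Int.negSucc 0, Int.ofNat 1, Int.ofNat 1, Int.ofNat 1, Int.negSucc 0, Int.ofNat 1, Int.ofNat 1, Int.ofNat 1, Int.ofNat 1, Int.negSucc 0, Int.ofNat 1],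
  [Int.negSucc 0, Int.negSucc 0, Int.negSucc 0, Int.negSucc 0, Int.ofNat 1, Int.negSucc 0, Int.ofNat 1, Int.negSucc 0, Int.negSucc 2, Int.negSucc 0, Int.ofNat 1, Int.negSucc 0, Int.negSucc 0, Int.negSucc 0, Int.negSucc 0, Int.ofNat 1, Int.ofNat 1, Int.ofNat 1, Int.negSucc 0, Int.ofNat 1, Int.ofNat 1, Int.ofNat 1, Int.ofNat 1, Int.ofNat 1],
  [Int.ofNat 0, Int.ofNat 0, Int.ofNat 0, Int.ofNat 0, Int.ofNat 0, Int.ofNat 0, Int.ofNat 0, Int.negSucc 1, Int.ofNat 0, Int.negSucc 1, Int.ofNat 0, Int.ofNat 2, Int.ofNat 2, Int.negSucc 1, Int.ofNat 0, Int.ofNat 0, Int.ofNat 0, Int.ofNat 2, Int.ofNat 2, Int.ofNat 0, Int.ofNat 0, Int.ofNat 0, Int.ofNat 0, Int.negSucc 1],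
  [Int.ofNat 0, Int.ofNat 0, Int.ofNat 0, Int.ofNat 0, Int.negSucc 1, Int.ofNat 0, Int.negSucc 1, Int.ofNat 0, Int.ofNat 2, Int.ofNat 2, Int.negSucc 1, Int.ofNat 0, Int.ofNat 0, Int.ofNat 0, Int.ofNat 2, Int.ofNat 2, Int.ofNat 0, Int.ofNat 0, Int.ofNat 0, Int.ofNat 0, Int.ofNat 0, Int.ofNat 0, Int.ofNat 0, Int.negSucc 1],
  [Int.negSucc 0, Int.negSucc 0, Int.negSucc 0, Int.negSucc 0, Int.negSucc 0, Int.negSucc 0, Int.negSucc 0, Int.ofNat 1, Int.ofNat 1, Int.ofNat 1, Int.negSucc 2, Int.negSucc 0, Int.negSucc 0, Int.ofNat 1, Int.ofNat 1, Int.ofNat 1, Int.ofNat 1, Int.negSucc 0, Int.negSucc 0, Int.ofNat 1, Int.negSucc 0, Int.ofNat 1, Int.ofNat 1, Int.ofNat 1],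
  [Int.negSucc 0, Int.negSucc 0, Int.negSucc 0, Int.negSucc 0, Int.negSucc 0, Int.ofNat 1, Int.negSucc 0, Int.negSucc 2, Int.negSucc 0, Int.ofNat 1, Int.negSucc 0, Int.negSucc 0, Int.ofNat 1, Int.ofNat 1, Int.ofNat 1, Int.ofNat 1, Int.ofNat 1, Int.ofNat 1, Int.negSucc 0, Int.negSucc 0, Int.ofNat 1, Int.negSucc 0, Int.ofNat 1, Int.ofNat 1],
  [Int.ofNat 0, Int.ofNat 0, Int.ofNat 0, Int.negSucc 1, Int.negSucc 1, Int.ofNat 0, Int.ofNat 2, Int.ofNat 0, Int.ofNat 0, Int.ofNat 0, Int.negSucc 1, Int.ofNat 0, Int.ofNat 2, Int.ofNat 0, Int.ofNat 0, Int.ofNat 0, Int.ofNat 0, Int.ofNat 0, Int.ofNat 0, Int.ofNat 2, Int.ofNat 0, Int.ofNat 2, Int.ofNat 0, Int.negSucc 1],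
  [Int.ofNat 0, Int.ofNat 0, Int.ofNat 0, Int.negSucc 1, Int.negSucc 1, Int.ofNat 0, Int.negSucc 1, Int.ofNat 0, Int.ofNat 0, Int.ofNat 0, Int.ofNat 2, Int.ofNat 0, Int.ofNat 2, Int.ofNat 0, Int.ofNat 0, Int.ofNat 0, Int.ofNat 0, Int.ofNat 0, Int.ofNat 0, Int.ofNat 2, Int.ofNat 0, Int.ofNat 2, Int.ofNat 0, Int.negSucc 1],
  [Int.negSucc 1, Int.ofNat 0, Int.ofNat 2, Int.ofNat 2, Int.ofNat 2, Int.ofNat 0, Int.ofNat 0, Int.ofNat 0, Int.negSucc 1, Int.negSucc 1, Int.ofNat 0, Int.ofNat 0, Int.ofNat 0, Int.ofNat 0, Int.ofNat 0, Int.ofNat 0, Int.ofNat 0, Int.ofNat 0, Int.ofNat 0, Int.ofNat 0, Int.ofNat 0, Int.ofNat 2, Int.ofNat 0, Int.negSucc 1],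
  [Int.negSucc 1, Int.ofNat 0, Int.negSucc 1, Int.ofNat 2, Int.ofNat 2, Int.ofNat 0, Int.ofNat 0, Int.ofNat 0, Int.negSucc 1, Int.ofNat 2, Int.ofNat 0, Int.ofNat 0, Int.ofNat 0, Int.ofNat 0, Int.ofNat 0, Int.ofNat 0, Int.ofNat 0, Int.ofNat 0, Int.ofNat 0, Int.ofNat 0, Int.ofNat 0, Int.ofNat 2, Int.ofNat 0, Int.negSucc 1],
  [Int.negSucc 0, Int.negSucc 2, Int.negSucc 0, Int.ofNat 1, Int.ofNat 1, Int.negSucc 0, Int.negSucc 0, Int.negSucc 0, Int.negSucc 0, Int.ofNat 1, Int.negSucc 0, Int.ofNat 1, Int.ofNat 1, Int.negSucc 0, Int.negSucc 0, Int.negSucc 0, Int.negSucc 0, Int.negSucc 0, Int.ofNat 1, Int.negSucc 0, Int.negSucc 0, Int.ofNat 1, Int.negSucc 0, Int.negSucc 0],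
  [Int.negSucc 0, Int.ofNat 1, Int.negSucc 0, Int.ofNat 1, Int.negSucc 0, Int.ofNat 1, Int.negSucc 2, Int.negSucc 0, Int.negSucc 0, Int.ofNat 1, Int.negSucc 0, Int.negSucc 0, Int.negSucc 0, Int.ofNat 1, Int.negSucc 0, Int.negSucc 0, Int.negSucc 0, Int.ofNat 1, Int.ofNat 1, Int.negSucc 0, Int.negSucc 0, Int.negSucc 0, Int.negSucc 0, Int.negSucc 0],
  [Int.ofNat 0, Int.negSucc 1, Int.ofNat 0, Int.ofNat 0, Int.ofNat 0, Int.ofNat 0, Int.ofNat 0, Int.ofNat 2, Int.ofNat 0, Int.ofNat 2, Int.ofNat 0, Int.ofNat 0, Int.ofNat 0, Int.ofNat 2, Int.negSucc 1, Int.ofNat 0, Int.ofNat 0, Int.ofNat 0, Int.ofNat 2, Int.ofNat 2, Int.ofNat 0, Int.ofNat 2, Int.ofNat 0, Int.ofNat 0],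
  [Int.ofNat 0, Int.ofNat 2, Int.ofNat 0, Int.ofNat 0, Int.negSucc 1, Int.ofNat 0, Int.ofNat 0, Int.ofNat 0, Int.ofNat 0, Int.ofNat 0, Int.ofNat 2, Int.ofNat 0, Int.ofNat 2, Int.ofNat 0, Int.ofNat 0, Int.ofNat 0, Int.ofNat 2, Int.negSucc 1, Int.ofNat 0, Int.ofNat 0, Int.ofNat 0, Int.ofNat 2, Int.ofNat 2, Int.ofNat 0],
  [Int.ofNat 1, Int.negSucc 0, Int.ofNat 1, Int.ofNat 1, Int.negSucc 2, Int.ofNat 1, Int.negSucc 0, Int.negSucc 0, Int.negSucc 0, Int.negSucc 0, Int.ofNat 1, Int.negSucc 0, Int.ofNat 1, Int.negSucc 0, Int.ofNat 1, Int.negSucc 0, Int.ofNat 1, Int.negSucc 0, Int.negSucc 0, Int.negSucc 0, Int.negSucc 0, Int.ofNat 1, Int.ofNat 1, Int.ofNat 1],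
  [Int.negSucc 0, Int.ofNat 1, Int.ofNat 1, Int.negSucc 2, Int.ofNat 1, Int.negSucc 0, Int.negSucc 0, Int.negSucc 0, Int.negSucc 0, Int.ofNat 1, Int.negSucc 0, Int.ofNat 1, Int.negSucc 0, Int.ofNat 1, Int.negSucc 0, Int.ofNat 1, Int.negSucc 0, Int.negSucc 0, Int.negSucc 0, Int.negSucc 0, Int.ofNat 1, Int.ofNat 1, Int.ofNat 1, Int.ofNat 1],
  [Int.ofNat 1, Int.ofNat 1, Int.negSucc 0, Int.negSucc 2, Int.ofNat 1, Int.negSucc 0, Int.negSucc 0, Int.ofNat 1, Int.negSucc 0, Int.negSucc 0, Int.ofNat 1, Int.negSucc 0, Int.negSucc 0, Int.ofNat 1, Int.negSucc 0, Int.ofNat 1, Int.negSucc 0, Int.negSucc 0, Int.ofNat 1, Int.negSucc 0, Int.ofNat 1, Int.negSucc 0, Int.ofNat 1, Int.ofNat 1],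
  [Int.ofNat 1, Int.negSucc 0, Int.ofNat 1, Int.negSucc 2, Int.ofNat 1, Int.ofNat 1, Int.ofNat 1, Int.ofNat 1, Int.negSucc 0, Int.negSucc 0, Int.negSucc 0, Int.negSucc 0, Int.ofNat 1, Int.negSucc 0, Int.negSucc 0, Int.ofNat 1, Int.negSucc 0, Int.ofNat 1, Int.negSucc 0, Int.negSucc 0, Int.negSucc 0, Int.ofNat 1, Int.negSucc 0, Int.ofNat 1],
  [Int.negSucc 0, Int.negSucc 0, Int.negSucc 0, Int.negSucc 2, Int.ofNat 1, Int.ofNat 1, Int.ofNat 1, Int.negSucc 0, Int.negSucc 0, Int.ofNat 1, Int.ofNat 1, Int.ofNat 1, Int.ofNat 1, Int.negSucc 0, Int.negSucc 0, Int.ofNat 1, Int.negSucc 0, Int.ofNat 1, Int.ofNat 1, Int.negSucc 0, Int.negSucc 0, Int.negSucc 0, Int.negSucc 0, Int.ofNat 1],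
  [Int.negSucc 0, Int.negSucc 0, Int.negSucc 0, Int.negSucc 0, Int.negSucc 2, Int.ofNat 1, Int.ofNat 1, Int.ofNat 1, Int.negSucc 0, Int.negSucc 0, Int.ofNat 1, Int.ofNat 1, Int.ofNat 1, Int.ofNat 1, Int.negSucc 0, Int.negSucc 0, Int.ofNat 1, Int.negSucc 0, Int.ofNat 1, Int.ofNat 1, Int.negSucc 0, Int.negSucc 0, Int.negSucc 0, Int.ofNat 1],
  [Int.ofNat 0, Int.ofNat 0, Int.ofNat 0, Int.ofNat 0, Int.negSucc 1, Int.ofNat 2, Int.ofNat 0, Int.ofNat 0, Int.negSucc 1, Int.ofNat 0, Int.ofNat 2, Int.ofNat 0, Int.ofNat 0, Int.ofNat 2, Int.ofNat 0, Int.ofNat 0, Int.ofNat 2, Int.ofNat 0, Int.ofNat 0, Int.ofNat 0, Int.ofNat 0, Int.negSucc 1, Int.ofNat 0, Int.negSucc 1],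
  [Int.ofNat 0, Int.negSucc 1, Int.ofNat 2, Int.ofNat 0, Int.ofNat 0, Int.negSucc 1, Int.ofNat 0, Int.ofNat 2, Int.ofNat 0, Int.ofNat 0, Int.ofNat 2, Int.ofNat 0, Int.ofNat 0, Int.ofNat 2, Int.ofNat 0, Int.ofNat 0, Int.ofNat 0, Int.ofNat 0, Int.negSucc 1, Int.ofNat 0, Int.ofNat 0, Int.ofNat 0, Int.ofNat 0, Int.negSucc 1],
  [Int.negSucc 0, Int.ofNat 1, Int.negSucc 2, Int.ofNat 1, Int.negSucc 0, Int.negSucc 0, Int.negSucc 0, Int.ofNat 1, Int.ofNat 1, Int.negSucc 0, Int.ofNat 1, Int.ofNat 1, Int.ofNat 1, Int.ofNat 1, Int.ofNat 1, Int.negSucc 0, Int.negSucc 0, Int.ofNat 1, Int.negSucc 0, Int.negSucc 0, Int.negSucc 0, Int.negSucc 0, Int.negSucc 0, Int.ofNat 1],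
  [Int.negSucc 0, Int.negSucc 0, Int.negSucc 0, Int.ofNat 1, Int.negSucc 0, Int.ofNat 1, Int.negSucc 2, Int.ofNat 1, Int.ofNat 1, Int.ofNat 1, Int.negSucc 0, Int.ofNat 1, Int.negSucc 0, Int.negSucc 0, Int.negSucc 0, Int.negSucc 0, Int.ofNat 1, Int.ofNat 1, Int.ofNat 1, Int.ofNat 1, Int.negSucc 0, Int.negSucc 0, Int.negSucc 0, Int.ofNat 1],
  [Int.ofNat 0, Int.ofNat 0, Int.ofNat 0, Int.ofNat 0, Int.ofNat 0, Int.ofNat 0, Int.negSucc 1, Int.ofNat 2, Int.ofNat 0, Int.ofNat 2, Int.ofNat 0, Int.ofNat 0, Int.negSucc 1, Int.ofNat 0, Int.negSucc 1, Int.ofNat 0, Int.ofNat 2, Int.ofNat 0, Int.ofNat 0, Int.ofNat 2, Int.ofNat 0, Int.ofNat 0, Int.ofNat 0, Int.negSucc 1],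
  [Int.ofNat 0, Int.ofNat 0, Int.ofNat 0, Int.ofNat 0, Int.ofNat 0, Int.ofNat 0, Int.ofNat 2, Int.ofNat 2, Int.ofNat 0, Int.negSucc 1, Int.ofNat 0, Int.ofNat 0, Int.negSucc 1, Int.ofNat 0, Int.negSucc 1, Int.ofNat 0, Int.ofNat 2, Int.ofNat 0, Int.ofNat 0, Int.ofNat 2, Int.ofNat 0, Int.ofNat 0, Int.ofNat 0, Int.negSucc 1],
  [Int.ofNat 0, Int.ofNat 2, Int.ofNat 0, Int.ofNat 0, Int.negSucc 1, Int.ofNat 2, Int.ofNat 0, Int.ofNat 0, Int.ofNat 0, Int.ofNat 0, Int.ofNat 0, Int.ofNat 2, Int.ofNat 0, Int.ofNat 0, Int.ofNat 0, Int.ofNat 0, Int.ofNat 2, Int.negSucc 1, Int.negSucc 1, Int.ofNat 0, Int.ofNat 0, Int.ofNat 0, Int.ofNat 0, Int.negSucc 1],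
  [Int.ofNat 0, Int.negSucc 1, Int.ofNat 0, Int.ofNat 0, Int.ofNat 2, Int.ofNat 2, Int.ofNat 0, Int.ofNat 0, Int.ofNat 0, Int.ofNat 0, Int.ofNat 0, Int.ofNat 2, Int.ofNat 0, Int.ofNat 0, Int.ofNat 0, Int.ofNat 0, Int.negSucc 1, Int.negSucc 1, Int.ofNat 2, Int.ofNat 0, Int.ofNat 0, Int.ofNat 0, Int.ofNat 0, Int.negSucc 1],
  [Int.negSucc 1, Int.ofNat 0, Int.ofNat 2, Int.ofNat 0, Int.negSucc 1, Int.ofNat 0, Int.ofNat 0, Int.ofNat 0, Int.ofNat 0, Int.ofNat 2, Int.negSucc 1, Int.ofNat 0, Int.ofNat 0, Int.ofNat 0, Int.ofNat 2, Int.ofNat 0, Int.ofNat 0, Int.ofNat 2, Int.ofNat 0, Int.ofNat 0, Int.ofNat 0, Int.ofNat 0, Int.negSucc 1, Int.ofNat 0],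
  [Int.ofNat 2, Int.ofNat 0, Int.negSucc 1, Int.ofNat 0, Int.negSucc 1, Int.ofNat 0, Int.ofNat 0, Int.ofNat 0, Int.ofNat 0, Int.negSucc 1, Int.ofNat 2, Int.ofNat 0, Int.ofNat 0, Int.ofNat 0, Int.ofNat 2, Int.ofNat 0, Int.ofNat 0, Int.ofNat 2, Int.ofNat 0, Int.ofNat 0, Int.ofNat 0, Int.ofNat 0, Int.negSucc 1, Int.ofNat 0],
  [Int.negSucc 1, Int.ofNat 2, Int.ofNat 0, Int.negSucc 1, Int.ofNat 0, Int.negSucc 1, Int.ofNat 0, Int.ofNat 0, Int.ofNat 0, Int.ofNat 0, Int.negSucc 1, Int.ofNat 2, Int.ofNat 0, Int.ofNat 0, Int.ofNat 0, Int.ofNat 2, Int.ofNat 0, Int.ofNat 0, Int.ofNat 2, Int.ofNat 0, Int.ofNat 0, Int.ofNat 0, Int.ofNat 0, Int.ofNat 0],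
  [Int.ofNat 2, Int.negSucc 1, Int.ofNat 0, Int.ofNat 0, Int.ofNat 0, Int.ofNat 0, Int.ofNat 0, Int.ofNat 0, Int.negSucc 1, Int.ofNat 0, Int.negSucc 1, Int.ofNat 0, Int.negSucc 1, Int.ofNat 0, Int.ofNat 2, Int.ofNat 2, Int.ofNat 0, Int.ofNat 2, Int.ofNat 0, Int.ofNat 0, Int.ofNat 0, Int.ofNat 0, Int.ofNat 0, Int.ofNat 0],
  [Int.ofNat 0, Int.ofNat 0, Int.ofNat 0, Int.ofNat 0, Int.ofNat 0, Int.negSucc 1, Int.ofNat 0, Int.negSucc 1, Int.ofNat 0, Int.negSucc 1, Int.ofNat 0, Int.ofNat 2, Int.ofNat 2, Int.ofNat 0, Int.ofNat 2, Int.ofNat 0, Int.ofNat 0, Int.ofNat 0, Int.ofNat 0, Int.ofNat 0, Int.ofNat 2, Int.negSucc 1, Int.ofNat 0, Int.ofNat 0],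
  [Int.ofNat 0, Int.ofNat 0, Int.ofNat 0, Int.ofNat 0, Int.ofNat 0, Int.negSucc 1, Int.ofNat 2, Int.ofNat 0, Int.negSucc 1, Int.negSucc 1, Int.ofNat 0, Int.ofNat 0, Int.ofNat 0, Int.ofNat 0, Int.ofNat 2, Int.ofNat 0, Int.ofNat 0, Int.ofNat 0, Int.negSucc 1, Int.ofNat 2, Int.ofNat 2, Int.ofNat 0, Int.ofNat 0, Int.ofNat 0],
  [Int.ofNat 0, Int.ofNat 2, Int.ofNat 0, Int.ofNat 0, Int.negSucc 1, Int.ofNat 0, Int.ofNat 0, Int.ofNat 0, Int.ofNat 0, Int.ofNat 0, Int.ofNat 2, Int.ofNat 0, Int.negSucc 1, Int.ofNat 0, Int.ofNat 0, Int.ofNat 0, Int.negSucc 1, Int.ofNat 2, Int.ofNat 0, Int.ofNat 0, Int.ofNat 0, Int.negSucc 1, Int.ofNat 2, Int.ofNat 0],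
  [Int.ofNat 1, Int.negSucc 0, Int.ofNat 1, Int.negSucc 0, Int.negSucc 0, Int.negSucc 0, Int.ofNat 1, Int.ofNat 1, Int.ofNat 1, Int.negSucc 0, Int.ofNat 1, Int.ofNat 1, Int.negSucc 0, Int.ofNat 1, Int.negSucc 0, Int.negSucc 0, Int.negSucc 0, Int.ofNat 1, Int.ofNat 1, Int.ofNat 1, Int.negSucc 0, Int.negSucc 0, Int.ofNat 3, Int.ofNat 1],
  [Int.ofNat 1, Int.negSucc 0, Int.negSucc 0, Int.negSucc 0, Int.negSucc 0, Int.ofNat 1, Int.negSucc 0, Int.ofNat 1, Int.ofNat 1, Int.ofNat 1, Int.negSucc 0, Int.ofNat 1, Int.negSucc 0, Int.ofNat 1, Int.negSucc 0, Int.ofNat 1, Int.negSucc 0, Int.ofNat 1, Int.negSucc 0, Int.ofNat 1, Int.negSucc 0, Int.negSucc 0, Int.negSucc 2, Int.ofNat 1],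
  [Int.negSucc 0, Int.ofNat 1, Int.negSucc 0, Int.negSucc 0, Int.negSucc 0, Int.ofNat 1, Int.negSucc 0, Int.negSucc 0, Int.negSucc 0, Int.negSucc 0, Int.ofNat 1, Int.ofNat 1, Int.negSucc 0, Int.ofNat 1, Int.ofNat 1, Int.negSucc 2, Int.ofNat 1, Int.negSucc 0, Int.ofNat 1, Int.ofNat 1, Int.negSucc 0, Int.ofNat 1, Int.negSucc 0, Int.ofNat 1],
  [Int.negSucc 0, Int.ofNat 1, Int.ofNat 1, Int.negSucc 0, Int.negSucc 0, Int.negSucc 0, Int.ofNat 1, Int.negSucc 0, Int.negSucc 0, Int.ofNat 1, Int.negSucc 0, Int.ofNat 1, Int.negSucc 0, Int.ofNat 1, Int.ofNat 1, Int.ofNat 3, Int.ofNat 1, Int.negSucc 0, Int.negSucc 0, Int.ofNat 1, Int.negSucc 0, Int.ofNat 1, Int.ofNat 1, Int.ofNat 1],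
  [Int.ofNat 2, Int.ofNat 0, Int.ofNat 0, Int.ofNat 0, Int.negSucc 1, Int.ofNat 0, Int.ofNat 0, Int.negSucc 1, Int.ofNat 0, Int.ofNat 0, Int.negSucc 1, Int.ofNat 2, Int.ofNat 0, Int.ofNat 0, Int.ofNat 2, Int.ofNat 2, Int.ofNat 0, Int.ofNat 0, Int.ofNat 0, Int.ofNat 0, Int.negSucc 1, Int.ofNat 0, Int.ofNat 0, Int.ofNat 0],
  [Int.ofNat 2, Int.ofNat 0, Int.ofNat 0, Int.ofNat 0, Int.ofNat 0, Int.ofNat 0, Int.ofNat 0, Int.ofNat 0, Int.ofNat 0, Int.ofNat 0, Int.negSucc 1, Int.ofNat 0, Int.ofNat 0, Int.ofNat 0, Int.ofNat 0, Int.ofNat 2, Int.ofNat 0, Int.ofNat 2, Int.negSucc 1, Int.ofNat 0, Int.negSucc 1, Int.negSucc 1, Int.ofNat 2, Int.ofNat 0],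
  [Int.negSucc 0, Int.ofNat 1, Int.ofNat 1, Int.negSucc 0, Int.negSucc 0, Int.negSucc 0, Int.ofNat 1, Int.ofNat 1, Int.ofNat 1, Int.ofNat 1, Int.negSucc 0, Int.ofNat 1, Int.ofNat 1, Int.negSucc 0, Int.negSucc 0, Int.ofNat 3, Int.negSucc 0, Int.ofNat 1, Int.negSucc 0, Int.ofNat 1, Int.negSucc 0, Int.negSucc 0, Int.ofNat 1, Int.ofNat 1],
  [Int.negSucc 0, Int.negSucc 0, Int.ofNat 1, Int.negSucc 0, Int.ofNat 1, Int.ofNat 1, Int.negSucc 0, Int.negSucc 0, Int.negSucc 0, Int.ofNat 1, Int.ofNat 1, Int.ofNat 1, Int.ofNat 1, Int.negSucc 0, Int.ofNat 1, Int.ofNat 1, Int.negSucc 0, Int.negSucc 0, Int.ofNat 3, Int.negSucc 0, Int.ofNat 1, Int.negSucc 0, Int.ofNat 1, Int.ofNat 1],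
  [Int.ofNat 1, Int.ofNat 1, Int.negSucc 0, Int.negSucc 0, Int.ofNat 1, Int.ofNat 1, Int.ofNat 1, Int.ofNat 1, Int.negSucc 2, Int.negSucc 0, Int.negSucc 0, Int.negSucc 0, Int.negSucc 0, Int.negSucc 0, Int.ofNat 1, Int.negSucc 0, Int.negSucc 0, Int.negSucc 0, Int.ofNat 1, Int.ofNat 1, Int.negSucc 0, Int.ofNat 1, Int.ofNat 1, Int.negSucc 0],
  [Int.ofNat 1, Int.negSucc 0, Int.negSucc 0, Int.ofNat 1, Int.ofNat 1, Int.ofNat 1, Int.ofNat 1, Int.negSucc 2, Int.negSucc 0, Int.negSucc 0, Int.negSucc 0, Int.negSucc 0, Int.negSucc 0, Int.ofNat 1, Int.negSucc 0, Int.negSucc 0, Int.negSucc 0, Int.ofNat 1, Int.ofNat 1, Int.negSucc 0, Int.ofNat 1, Int.ofNat 1, Int.ofNat 1, Int.negSucc 0],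
  [Int.negSucc 0, Int.negSucc 0, Int.ofNat 1, Int.ofNat 1, Int.ofNat 1, Int.ofNat 1, Int.ofNat 1, Int.ofNat 3, Int.negSucc 0, Int.ofNat 1, Int.ofNat 1, Int.ofNat 1, Int.negSucc 0, Int.ofNat 1, Int.negSucc 0, Int.negSucc 0, Int.negSucc 0, Int.ofNat 1, Int.negSucc 0, Int.negSucc 0, Int.ofNat 1, Int.negSucc 0, Int.ofNat 1, Int.negSucc 0],
  [Int.negSucc 0, Int.ofNat 1, Int.negSucc 0, Int.ofNat 1, Int.negSucc 0, Int.ofNat 1, Int.ofNat 1, Int.ofNat 1, Int.ofNat 1, Int.negSucc 0, Int.negSucc 0, Int.negSucc 0, Int.ofNat 1, Int.negSucc 0, Int.negSucc 0, Int.negSucc 0, Int.negSucc 0, Int.ofNat 1, Int.ofNat 1, Int.ofNat 1, Int.ofNat 1, Int.ofNat 3, Int.ofNat 1, Int.negSucc 0],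
  [Int.ofNat 1, Int.ofNat 1, Int.ofNat 1, Int.ofNat 1, Int.negSucc 0, Int.ofNat 1, Int.ofNat 1, Int.negSucc 0, Int.ofNat 1, Int.ofNat 1, Int.ofNat 1, Int.ofNat 1, Int.ofNat 1, Int.negSucc 0, Int.negSucc 0, Int.negSucc 0, Int.negSucc 0, Int.ofNat 1, Int.negSucc 0, Int.ofNat 1, Int.ofNat 1, Int.negSucc 2, Int.ofNat 1, Int.negSucc 0],
  [Int.ofNat 1, Int.ofNat 1, Int.ofNat 1, Int.ofNat 1, Int.ofNat 1, Int.negSucc 0, Int.ofNat 1, Int.ofNat 1, Int.negSucc 0, Int.ofNat 1, Int.ofNat 1, Int.ofNat 1, Int.ofNat 1, Int.ofNat 1, Int.negSucc 0, Int.negSucc 0, Int.negSucc 0, Int.negSucc 0, Int.ofNat 1, Int.negSucc 0, Int.ofNat 1, Int.ofNat 1, Int.negSucc 2, Int.negSucc 0],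
  [Int.ofNat 0, Int.ofNat 0, Int.ofNat 0, Int.ofNat 2, Int.ofNat 2, Int.ofNat 0, Int.ofNat 0, Int.ofNat 0, Int.negSucc 1, Int.ofNat 0, Int.ofNat 0, Int.ofNat 0, Int.ofNat 0, Int.ofNat 2, Int.ofNat 0, Int.negSucc 1, Int.ofNat 0, Int.ofNat 0, Int.ofNat 0, Int.negSucc 1, Int.ofNat 0, Int.ofNat 0, Int.negSucc 1, Int.ofNat 2],
  [Int.ofNat 2, Int.ofNat 2, Int.ofNat 0, Int.ofNat 0, Int.ofNat 0, Int.negSucc 1, Int.ofNat 0, Int.ofNat 0, Int.ofNat 0, Int.ofNat 0, Int.ofNat 2, Int.ofNat 0, Int.negSucc 1, Int.ofNat 0, Int.ofNat 0, Int.ofNat 0, Int.negSucc 1, Int.ofNat 0, Int.ofNat 0, Int.negSucc 1, Int.ofNat 0, Int.ofNat 0, Int.ofNat 0, Int.ofNat 2],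
  [Int.ofNat 1, Int.ofNat 1, Int.ofNat 3, Int.ofNat 1, Int.ofNat 1, Int.negSucc 0, Int.ofNat 1, Int.ofNat 1, Int.ofNat 1, Int.negSucc 0, Int.ofNat 1, Int.ofNat 1, Int.negSucc 0, Int.ofNat 1, Int.ofNat 1, Int.negSucc 0, Int.negSucc 0, Int.ofNat 1, Int.ofNat 1, Int.negSucc 0, Int.negSucc 0, Int.ofNat 1, Int.ofNat 1, Int.ofNat 1],
  [Int.ofNat 1, Int.ofNat 1, Int.ofNat 1, Int.ofNat 1, Int.ofNat 1, Int.ofNat 1, Int.ofNat 3, Int.ofNat 1, Int.negSucc 0, Int.ofNat 1, Int.negSucc 0, Int.ofNat 1, Int.negSucc 0, Int.negSucc 0, Int.ofNat 1, Int.negSucc 0, Int.ofNat 1, Int.ofNat 1, Int.ofNat 1, Int.ofNat 1, Int.ofNat 1, Int.negSucc 0, Int.negSucc 0, Int.ofNat 1],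
  [Int.ofNat 1, Int.ofNat 1, Int.ofNat 1, Int.negSucc 0, Int.ofNat 1, Int.negSucc 0, Int.ofNat 1, Int.negSucc 0, Int.negSucc 0, Int.ofNat 1, Int.negSucc 0, Int.ofNat 1, Int.negSucc 0, Int.negSucc 0, Int.negSucc 0, Int.negSucc 0, Int.ofNat 1, Int.negSucc 0, Int.ofNat 1, Int.negSucc 0, Int.ofNat 1, Int.negSucc 2, Int.negSucc 0, Int.ofNat 1],
  [Int.ofNat 1, Int.ofNat 1, Int.negSucc 0, Int.negSucc 0, Int.ofNat 1, Int.ofNat 1, Int.negSucc 0, Int.negSucc 0, Int.negSucc 0, Int.negSucc 0, Int.ofNat 1, Int.ofNat 1, Int.negSucc 0, Int.negSucc 0, Int.negSucc 0, Int.ofNat 1, Int.ofNat 1, Int.negSucc 0, Int.negSucc 0, Int.negSucc 0, Int.ofNat 1, Int.negSucc 2, Int.ofNat 1, Int.ofNat 1],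
  [Int.ofNat 1, Int.ofNat 1, Int.ofNat 1, Int.negSucc 0, Int.negSucc 0, Int.negSucc 0, Int.negSucc 2, Int.negSucc 0, Int.ofNat 1, Int.ofNat 1, Int.negSucc 0, Int.negSucc 0, Int.ofNat 1, Int.ofNat 1, Int.negSucc 0, Int.negSucc 0, Int.negSucc 0, Int.negSucc 0, Int.negSucc 0, Int.negSucc 0, Int.ofNat 1, Int.ofNat 1, Int.ofNat 1, Int.ofNat 1],
  [Int.negSucc 0, Int.negSucc 0, Int.negSucc 0, Int.ofNat 1, Int.ofNat 1, Int.negSucc 0, Int.ofNat 3, Int.negSucc 0, Int.negSucc 0, Int.negSucc 0, Int.negSucc 0, Int.negSucc 0, Int.negSucc 0, Int.negSucc 0, Int.negSucc 0, Int.negSucc 0, Int.ofNat 1, Int.negSucc 0, Int.ofNat 1, Int.negSucc 0, Int.ofNat 1, Int.ofNat 1, Int.ofNat 1, Int.ofNat 1],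
  [Int.ofNat 1, Int.ofNat 1, Int.negSucc 0, Int.negSucc 0, Int.negSucc 0, Int.negSucc 0, Int.negSucc 0, Int.negSucc 0, Int.ofNat 1, Int.negSucc 0, Int.ofNat 1, Int.negSucc 0, Int.ofNat 1, Int.negSucc 0, Int.ofNat 1, Int.ofNat 1, Int.negSucc 0, Int.ofNat 1, Int.negSucc 0, Int.ofNat 3, Int.negSucc 0, Int.negSucc 0, Int.negSucc 0, Int.negSucc 0],
  [Int.negSucc 0, Int.ofNat 1, Int.ofNat 1, Int.negSucc 0, Int.negSucc 0, Int.negSucc 0, Int.negSucc 0, Int.ofNat 1, Int.ofNat 1, Int.ofNat 1, Int.negSucc 0, Int.ofNat 1, Int.ofNat 1, Int.negSucc 0, Int.ofNat 1, Int.ofNat 1, Int.negSucc 0, Int.ofNat 1, Int.ofNat 1, Int.ofNat 3, Int.negSucc 0, Int.ofNat 1, Int.negSucc 0, Int.negSucc 0],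
  [Int.negSucc 0, Int.negSucc 0, Int.ofNat 1, Int.ofNat 1, Int.negSucc 0, Int.negSucc 0, Int.negSucc 0, Int.negSucc 0, Int.ofNat 1, Int.ofNat 1, Int.ofNat 1, Int.negSucc 0, Int.ofNat 1, Int.ofNat 1, Int.negSucc 0, Int.ofNat 1, Int.ofNat 1, Int.negSucc 0, Int.ofNat 1, Int.ofNat 1, Int.ofNat 3, Int.negSucc 0, Int.ofNat 1, Int.negSucc 0],
  [Int.ofNat 0, Int.ofNat 0, Int.negSucc 1, Int.ofNat 2, Int.negSucc 1, Int.ofNat 0, Int.ofNat 0, Int.ofNat 0, Int.ofNat 0, Int.negSucc 1, Int.negSucc 1, Int.negSucc 1, Int.ofNat 0, Int.ofNat 0, Int.ofNat 0, Int.negSucc 1, Int.ofNat 0, Int.ofNat 0, Int.ofNat 0, Int.ofNat 2, Int.ofNat 0, Int.ofNat 0, Int.ofNat 0, Int.ofNat 0],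
  [Int.ofNat 2, Int.negSucc 1, Int.ofNat 0, Int.ofNat 0, Int.ofNat 0, Int.ofNat 0, Int.negSucc 1, Int.negSucc 1, Int.negSucc 1, Int.ofNat 0, Int.ofNat 0, Int.ofNat 0, Int.negSucc 1, Int.ofNat 0, Int.ofNat 0, Int.ofNat 0, Int.ofNat 2, Int.ofNat 0, Int.ofNat 0, Int.ofNat 0, Int.ofNat 0, Int.ofNat 0, Int.negSucc 1, Int.ofNat 0],
  [Int.negSucc 1, Int.ofNat 2, Int.ofNat 0, Int.ofNat 0, Int.ofNat 0, Int.ofNat 0, Int.ofNat 0, Int.ofNat 0, Int.ofNat 0, Int.ofNat 0, Int.ofNat 0, Int.ofNat 2, Int.ofNat 0, Int.ofNat 0, Int.ofNat 0, Int.ofNat 0, Int.ofNat 2, Int.ofNat 0, Int.ofNat 2, Int.ofNat 2, Int.ofNat 0, Int.ofNat 2, Int.negSucc 1, Int.ofNat 0],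
  [Int.negSucc 1, Int.ofNat 0, Int.ofNat 0, Int.ofNat 0, Int.ofNat 2, Int.ofNat 0, Int.ofNat 0, Int.ofNat 0, Int.ofNat 0, Int.ofNat 0, Int.ofNat 0, Int.ofNat 0, Int.ofNat 0, Int.ofNat 2, Int.negSucc 1, Int.ofNat 0, Int.ofNat 0, Int.ofNat 0, Int.ofNat 2, Int.ofNat 2, Int.ofNat 2, Int.ofNat 0, Int.ofNat 2, Int.ofNat 0],
  [Int.ofNat 1, Int.negSucc 0, Int.negSucc 0, Int.ofNat 1, Int.negSucc 0, Int.ofNat 1, Int.negSucc 0, Int.negSucc 0, Int.negSucc 0, Int.negSucc 0, Int.negSucc 0, Int.negSucc 0, Int.negSucc 0, Int.negSucc 0, Int.negSucc 0, Int.negSucc 0, Int.negSucc 2, Int.ofNat 1, Int.ofNat 1, Int.ofNat 1, Int.ofNat 1, Int.negSucc 0, Int.negSucc 0, Int.negSucc 0],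
  [Int.ofNat 1, Int.negSucc 0, Int.ofNat 1, Int.ofNat 1, Int.negSucc 0, Int.negSucc 0, Int.ofNat 1, Int.negSucc 0, Int.negSucc 0, Int.ofNat 1, Int.ofNat 1, Int.negSucc 0, Int.negSucc 0, Int.negSucc 0, Int.negSucc 0, Int.ofNat 1, Int.negSucc 2, Int.ofNat 1, Int.negSucc 0, Int.ofNat 1, Int.ofNat 1, Int.negSucc 0, Int.ofNat 1, Int.negSucc 0],
  [Int.ofNat 1, Int.negSucc 0, Int.negSucc 0, Int.negSucc 0, Int.ofNat 1, Int.ofNat 1, Int.negSucc 0, Int.negSucc 0, Int.negSucc 0, Int.ofNat 1, Int.negSucc 0, Int.ofNat 1, Int.negSucc 0, Int.ofNat 1, Int.ofNat 1, Int.ofNat 1, Int.negSucc 0, Int.negSucc 2, Int.negSucc 0, Int.negSucc 0, Int.ofNat 1, Int.ofNat 1, Int.ofNat 1, Int.negSucc 0],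
  [Int.ofNat 1, Int.negSucc 0, Int.ofNat 1, Int.negSucc 0, Int.ofNat 1, Int.negSucc 0, Int.ofNat 1, Int.negSucc 0, Int.negSucc 0, Int.negSucc 0, Int.ofNat 1, Int.ofNat 1, Int.negSucc 0, Int.ofNat 1, Int.ofNat 1, Int.negSucc 0, Int.negSucc 0, Int.negSucc 2, Int.ofNat 1, Int.negSucc 0, Int.ofNat 1, Int.ofNat 1, Int.negSucc 0, Int.negSucc 0],
  [Int.negSucc 0, Int.ofNat 1, Int.negSucc 0, Int.ofNat 1, Int.ofNat 1, Int.ofNat 1, Int.ofNat 1, Int.negSucc 0, Int.negSucc 0, Int.negSucc 0, Int.ofNat 1, Int.ofNat 1, Int.negSucc 0, Int.ofNat 1, Int.ofNat 3, Int.negSucc 0, Int.negSucc 0, Int.negSucc 0, Int.ofNat 1, Int.negSucc 0, Int.ofNat 1, Int.ofNat 1, Int.negSucc 0, Int.ofNat 1],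
  [Int.negSucc 0, Int.ofNat 1, Int.ofNat 1, Int.ofNat 1, Int.negSucc 0, Int.ofNat 1, Int.ofNat 1, Int.ofNat 1, Int.negSucc 0, Int.negSucc 0, Int.negSucc 0, Int.negSucc 0, Int.negSucc 0, Int.negSucc 0, Int.negSucc 0, Int.negSucc 0, Int.ofNat 1, Int.ofNat 1, Int.ofNat 1, Int.negSucc 0, Int.ofNat 1, Int.ofNat 1, Int.ofNat 3, Int.ofNat 1],
  [Int.ofNat 2, Int.ofNat 0, Int.ofNat 0, Int.ofNat 0, Int.negSucc 1, Int.ofNat 0, Int.ofNat 0, Int.ofNat 0, Int.ofNat 0, Int.ofNat 0, Int.ofNat 0, Int.ofNat 0, Int.ofNat 0, Int.negSucc 1, Int.negSucc 1, Int.ofNat 0, Int.ofNat 0, Int.ofNat 0, Int.ofNat 2, Int.negSucc 1, Int.ofNat 2, Int.ofNat 0, Int.ofNat 2, Int.ofNat 0],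
  [Int.ofNat 2, Int.ofNat 0, Int.ofNat 2, Int.ofNat 2, Int.ofNat 0, Int.ofNat 0, Int.ofNat 0, Int.negSucc 1, Int.ofNat 0, Int.ofNat 0, Int.ofNat 0, Int.ofNat 0, Int.ofNat 0, Int.ofNat 0, Int.ofNat 0, Int.ofNat 0, Int.negSucc 1, Int.negSucc 1, Int.ofNat 0, Int.ofNat 0, Int.ofNat 0, Int.ofNat 2, Int.negSucc 1, Int.ofNat 0],
  [Int.ofNat 0, Int.ofNat 2, Int.ofNat 0, Int.ofNat 2, Int.ofNat 2, Int.ofNat 0, Int.ofNat 0, Int.negSucc 1, Int.ofNat 0, Int.ofNat 0, Int.ofNat 0, Int.ofNat 0, Int.ofNat 0, Int.ofNat 2, Int.ofNat 0, Int.ofNat 0, Int.ofNat 0, Int.negSucc 1, Int.ofNat 0, Int.ofNat 0, Int.ofNat 0, Int.ofNat 2, Int.ofNat 0, Int.ofNat 2],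
  [Int.ofNat 2, Int.ofNat 0, Int.ofNat 2, Int.ofNat 2, Int.ofNat 0, Int.ofNat 0, Int.negSucc 1, Int.ofNat 0, Int.ofNat 0, Int.ofNat 0, Int.ofNat 0, Int.ofNat 0, Int.ofNat 2, Int.ofNat 0, Int.ofNat 0, Int.ofNat 0, Int.negSucc 1, Int.ofNat 0, Int.ofNat 0, Int.ofNat 0, Int.ofNat 2, Int.ofNat 0, Int.ofNat 0, Int.ofNat 2],
  [Int.negSucc 1, Int.ofNat 0, Int.negSucc 1, Int.ofNat 2, Int.ofNat 0, Int.ofNat 0, Int.negSucc 1, Int.ofNat 0, Int.ofNat 0, Int.ofNat 0, Int.ofNat 0, Int.ofNat 0, Int.ofNat 2, Int.ofNat 0, Int.ofNat 0, Int.ofNat 0, Int.negSucc 1, Int.ofNat 0, Int.ofNat 0, Int.ofNat 0, Int.ofNat 2, Int.ofNat 0, Int.ofNat 0, Int.ofNat 2],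
  [Int.negSucc 1, Int.negSucc 1, Int.ofNat 0, Int.ofNat 2, Int.ofNat 0, Int.ofNat 0, Int.ofNat 0, Int.ofNat 2, Int.ofNat 0, Int.negSucc 1, Int.ofNat 0, Int.ofNat 0, Int.ofNat 0, Int.ofNat 0, Int.ofNat 0, Int.ofNat 0, Int.ofNat 2, Int.ofNat 0, Int.negSucc 1, Int.ofNat 0, Int.ofNat 0, Int.ofNat 0, Int.ofNat 0, Int.ofNat 2],
  [Int.ofNat 2, Int.negSucc 1, Int.ofNat 0, Int.ofNat 2, Int.ofNat 0, Int.ofNat 0, Int.ofNat 0, Int.negSucc 1, Int.ofNat 0, Int.ofNat 2, Int.ofNat 0, Int.ofNat 0, Int.ofNat 0, Int.ofNat 0, Int.ofNat 0, Int.ofNat 0, Int.ofNat 2, Int.ofNat 0, Int.ofNat 2, Int.ofNat 0, Int.ofNat 0, Int.ofNat 0, Int.ofNat 0, Int.ofNat 2],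
  [Int.ofNat 0, Int.ofNat 2, Int.negSucc 1, Int.ofNat 0, Int.ofNat 2, Int.ofNat 0, Int.ofNat 0, Int.ofNat 0, Int.negSucc 1, Int.ofNat 0, Int.ofNat 2, Int.ofNat 0, Int.ofNat 0, Int.ofNat 0, Int.ofNat 0, Int.ofNat 0, Int.ofNat 0, Int.ofNat 2, Int.ofNat 0, Int.ofNat 2, Int.ofNat 0, Int.ofNat 0, Int.ofNat 0, Int.ofNat 2],
  [Int.ofNat 1, Int.negSucc 0, Int.ofNat 3, Int.negSucc 0, Int.ofNat 1, Int.negSucc 0, Int.negSucc 0, Int.negSucc 0, Int.negSucc 0, Int.negSucc 0, Int.ofNat 1, Int.ofNat 1, Int.ofNat 1, Int.negSucc 0, Int.negSucc 0, Int.negSucc 0, Int.negSucc 0, Int.ofNat 1, Int.ofNat 1, Int.ofNat 1, Int.negSucc 0, Int.negSucc 0, Int.negSucc 0, Int.negSucc 0],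
  [Int.negSucc 0, Int.ofNat 1, Int.negSucc 0, Int.negSucc 0, Int.negSucc 0, Int.negSucc 0, Int.negSucc 0, Int.ofNat 1, Int.ofNat 1, Int.ofNat 1, Int.negSucc 0, Int.negSucc 0, Int.negSucc 0, Int.negSucc 0, Int.ofNat 1, Int.ofNat 1, Int.ofNat 1, Int.negSucc 0, Int.negSucc 0, Int.negSucc 0, Int.ofNat 1, Int.negSucc 0, Int.ofNat 3, Int.negSucc 0],
  [Int.ofNat 0, Int.negSucc 1, Int.ofNat 0, Int.ofNat 0, Int.negSucc 1, Int.ofNat 0, Int.ofNat 0, Int.ofNat 2, Int.ofNat 2, Int.ofNat 0, Int.negSucc 1, Int.ofNat 0, Int.ofNat 0, Int.negSucc 1, Int.ofNat 2, Int.ofNat 0, Int.ofNat 0, Int.ofNat 0, Int.ofNat 0, Int.ofNat 0, Int.ofNat 0, Int.ofNat 0, Int.ofNat 2, Int.ofNat 0],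
  [Int.ofNat 0, Int.ofNat 0, Int.negSucc 1, Int.ofNat 0, Int.ofNat 0, Int.ofNat 2, Int.ofNat 0, Int.negSucc 1, Int.ofNat 0, Int.negSucc 1, Int.ofNat 0, Int.ofNat 0, Int.ofNat 0, Int.ofNat 0, Int.ofNat 2, Int.ofNat 0, Int.ofNat 2, Int.ofNat 2, Int.negSucc 1, Int.ofNat 0, Int.ofNat 0, Int.ofNat 0, Int.ofNat 0, Int.ofNat 0],
  [Int.negSucc 0, Int.negSucc 0, Int.ofNat 1, Int.negSucc 2, Int.negSucc 0, Int.negSucc 0, Int.ofNat 1, Int.negSucc 0, Int.ofNat 1, Int.negSucc 0, Int.ofNat 1, Int.ofNat 1, Int.ofNat 1, Int.negSucc 0, Int.negSucc 0, Int.ofNat 1, Int.ofNat 1, Int.negSucc 0, Int.negSucc 0, Int.ofNat 1, Int.ofNat 1, Int.ofNat 1, Int.negSucc 0, Int.negSucc 0],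
  [Int.negSucc 0, Int.negSucc 0, Int.negSucc 0, Int.negSucc 2, Int.negSucc 0, Int.ofNat 1, Int.negSucc 0, Int.negSucc 0, Int.ofNat 1, Int.ofNat 1, Int.negSucc 0, Int.ofNat 1, Int.ofNat 1, Int.negSucc 0, Int.negSucc 0, Int.negSucc 0, Int.ofNat 1, Int.negSucc 0, Int.ofNat 1, Int.ofNat 1, Int.ofNat 1, Int.ofNat 1, Int.ofNat 1, Int.negSucc 0],
  [Int.negSucc 0, Int.ofNat 1, Int.ofNat 1, Int.ofNat 1, Int.negSucc 0, Int.negSucc 0, Int.ofNat 1, Int.negSucc 2, Int.ofNat 1, Int.ofNat 1, Int.negSucc 0, Int.negSucc 0, Int.negSucc 0, Int.negSucc 0, Int.negSucc 0, Int.ofNat 1, Int.ofNat 1, Int.ofNat 1, Int.ofNat 1, Int.negSucc 0, Int.negSucc 0, Int.negSucc 0, Int.ofNat 1, Int.negSucc 0],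
  [Int.ofNat 1, Int.negSucc 0, Int.negSucc 0, Int.negSucc 0, Int.ofNat 1, Int.negSucc 0, Int.negSucc 0, Int.negSucc 2, Int.negSucc 0, Int.negSucc 0, Int.negSucc 0, Int.negSucc 0, Int.ofNat 1, Int.ofNat 1, Int.negSucc 0, Int.ofNat 1, Int.negSucc 0, Int.ofNat 1, Int.negSucc 0, Int.negSucc 0, Int.negSucc 0, Int.negSucc 0, Int.ofNat 1, Int.negSucc 0],
  [Int.negSucc 0, Int.ofNat 1, Int.negSucc 0, Int.ofNat 1, Int.ofNat 1, Int.negSucc 0, Int.negSucc 0, Int.ofNat 1, Int.negSucc 0, Int.negSucc 0, Int.negSucc 0, Int.negSucc 0, Int.negSucc 0, Int.negSucc 2, Int.negSucc 0, Int.negSucc 0, Int.negSucc 0, Int.ofNat 1, Int.negSucc 0, Int.negSucc 0, Int.negSucc 0, Int.ofNat 1, Int.negSucc 0, Int.ofNat 1],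
  [Int.ofNat 1, Int.ofNat 1, Int.ofNat 1, Int.ofNat 1, Int.ofNat 1, Int.negSucc 0, Int.negSucc 0, Int.negSucc 0, Int.negSucc 0, Int.ofNat 1, Int.ofNat 1, Int.ofNat 1, Int.negSucc 0, Int.negSucc 2, Int.negSucc 0, Int.negSucc 0, Int.negSucc 0, Int.ofNat 1, Int.ofNat 1, Int.negSucc 0, Int.negSucc 0, Int.negSucc 0, Int.negSucc 0, Int.ofNat 1],
  [Int.negSucc 0, Int.ofNat 1, Int.ofNat 1, Int.ofNat 1, Int.ofNat 1, Int.ofNat 1, Int.negSucc 0, Int.negSucc 0, Int.negSucc 0, Int.negSucc 0, Int.ofNat 1, Int.ofNat 1, Int.ofNat 1, Int.negSucc 0, Int.negSucc 2, Int.negSucc 0, Int.negSucc 0, Int.negSucc 0, Int.ofNat 1, Int.ofNat 1, Int.negSucc 0, Int.negSucc 0, Int.negSucc 0, Int.ofNat 1],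
  [Int.ofNat 2, Int.ofNat 0, Int.ofNat 0, Int.ofNat 2, Int.ofNat 2, Int.ofNat 2, Int.ofNat 0, Int.ofNat 0, Int.negSucc 1, Int.ofNat 0, Int.ofNat 2, Int.ofNat 0, Int.ofNat 0, Int.ofNat 0, Int.negSucc 1, Int.ofNat 0, Int.ofNat 0, Int.ofNat 0, Int.ofNat 0, Int.ofNat 2, Int.ofNat 0, Int.ofNat 0, Int.ofNat 0, Int.ofNat 0],
  [Int.ofNat 2, Int.ofNat 2, Int.ofNat 2, Int.ofNat 0, Int.ofNat 0, Int.negSucc 1, Int.ofNat 0, Int.ofNat 2, Int.ofNat 0, Int.ofNat 0, Int.ofNat 0, Int.negSucc 1, Int.ofNat 0, Int.ofNat 0, Int.ofNat 0, Int.ofNat 0, Int.ofNat 2, Int.ofNat 0, Int.ofNat 0, Int.ofNat 0, Int.ofNat 2, Int.ofNat 0, Int.ofNat 0, Int.ofNat 0],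
  [Int.ofNat 1, Int.ofNat 1, Int.ofNat 1, Int.ofNat 1, Int.negSucc 0, Int.negSucc 0, Int.negSucc 0, Int.ofNat 1, Int.ofNat 1, Int.negSucc 0, Int.negSucc 0, Int.negSucc 0, Int.ofNat 1, Int.negSucc 0, Int.ofNat 1, Int.negSucc 0, Int.ofNat 1, Int.ofNat 1, Int.ofNat 1, Int.negSucc 0, Int.ofNat 1, Int.negSucc 0, Int.negSucc 0, Int.ofNat 3],
  [Int.ofNat 1, Int.negSucc 0, Int.negSucc 0, Int.ofNat 1, Int.ofNat 1, Int.ofNat 1, Int.ofNat 1, Int.negSucc 0, Int.ofNat 1, Int.negSucc 0, Int.ofNat 1, Int.ofNat 1, Int.negSucc 0, Int.ofNat 1, Int.negSucc 0, Int.negSucc 0, Int.ofNat 1, Int.ofNat 1, Int.ofNat 1, Int.negSucc 0, Int.negSucc 0, Int.negSucc 0, Int.negSucc 0, Int.ofNat 3],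
  [Int.ofNat 0, Int.ofNat 2, Int.ofNat 2, Int.ofNat 0, Int.ofNat 0, Int.ofNat 0, Int.ofNat 2, Int.ofNat 0, Int.ofNat 0, Int.ofNat 0, Int.ofNat 2, Int.ofNat 0, Int.negSucc 1, Int.ofNat 0, Int.negSucc 1, Int.ofNat 0, Int.ofNat 0, Int.ofNat 0, Int.ofNat 0, Int.ofNat 0, Int.ofNat 0, Int.ofNat 0, Int.negSucc 1, Int.negSucc 1],
  [Int.ofNat 0, Int.ofNat 2, Int.negSucc 1, Int.ofNat 0, Int.ofNat 0, Int.ofNat 0, Int.negSucc 1, Int.ofNat 0, Int.ofNat 0, Int.ofNat 0, Int.negSucc 1, Int.ofNat 0, Int.negSucc 1, Int.ofNat 0, Int.negSucc 1, Int.ofNat 0, Int.ofNat 0, Int.ofNat 0, Int.ofNat 0, Int.ofNat 0, Int.ofNat 0, Int.ofNat 0, Int.ofNat 2, Int.negSucc 1],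
  [Int.ofNat 0, Int.ofNat 0, Int.ofNat 0, Int.negSucc 1, Int.negSucc 1, Int.ofNat 0, Int.ofNat 0, Int.ofNat 2, Int.ofNat 0, Int.negSucc 1, Int.ofNat 0, Int.ofNat 0, Int.negSucc 1, Int.ofNat 0, Int.ofNat 0, Int.ofNat 2, Int.ofNat 0, Int.ofNat 0, Int.ofNat 0, Int.ofNat 0, Int.negSucc 1, Int.ofNat 0, Int.ofNat 0, Int.negSucc 1],
  [Int.ofNat 0, Int.ofNat 0, Int.ofNat 0, Int.negSucc 1, Int.negSucc 1, Int.ofNat 0, Int.ofNat 0, Int.ofNat 2, Int.ofNat 0, Int.ofNat 2, Int.ofNat 0, Int.ofNat 0, Int.negSucc 1, Int.ofNat 0, Int.ofNat 0, Int.negSucc 1, Int.ofNat 0, Int.ofNat 0, Int.ofNat 0, Int.ofNat 0, Int.negSucc 1, Int.ofNat 0, Int.ofNat 0, Int.negSucc 1],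
  [Int.negSucc 0, Int.negSucc 0, Int.negSucc 0, Int.negSucc 0, Int.negSucc 0, Int.ofNat 1, Int.negSucc 0, Int.ofNat 1, Int.ofNat 1, Int.ofNat 3, Int.ofNat 1, Int.ofNat 1, Int.negSucc 0, Int.ofNat 1, Int.ofNat 1, Int.negSucc 0, Int.ofNat 1, Int.ofNat 1, Int.ofNat 1, Int.negSucc 0, Int.negSucc 0, Int.negSucc 0, Int.ofNat 1, Int.ofNat 1],
  [Int.negSucc 0, Int.ofNat 1, Int.negSucc 0, Int.negSucc 0, Int.negSucc 0, Int.negSucc 0, Int.negSucc 0, Int.ofNat 1, Int.ofNat 1, Int.negSucc 0, Int.ofNat 1, Int.negSucc 0, Int.ofNat 1, Int.ofNat 3, Int.ofNat 1, Int.negSucc 0, Int.ofNat 1, Int.ofNat 1, Int.negSucc 0, Int.ofNat 1, Int.ofNat 1, Int.negSucc 0, Int.ofNat 1, Int.ofNat 1],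
  [Int.ofNat 1, Int.negSucc 0, Int.ofNat 1, Int.negSucc 0, Int.negSucc 2, Int.negSucc 0, Int.negSucc 0, Int.ofNat 1, Int.ofNat 1, Int.negSucc 0, Int.ofNat 1, Int.negSucc 0, Int.ofNat 1, Int.ofNat 1, Int.ofNat 1, Int.negSucc 0, Int.negSucc 0, Int.ofNat 1, Int.negSucc 0, Int.ofNat 1, Int.ofNat 1, Int.negSucc 0, Int.negSucc 0, Int.negSucc 0],
  [Int.ofNat 1, Int.negSucc 0, Int.negSucc 0, Int.ofNat 1, Int.negSucc 0, Int.ofNat 1, Int.negSucc 0, Int.negSucc 2, Int.negSucc 0, Int.negSucc 0, Int.ofNat 1, Int.ofNat 1, Int.negSucc 0, Int.ofNat 1, Int.negSucc 0, Int.ofNat 1, Int.ofNat 1, Int.ofNat 1, Int.negSucc 0, Int.negSucc 0, Int.ofNat 1, Int.negSucc 0, Int.ofNat 1, Int.negSucc 0],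
  [Int.negSucc 1, Int.ofNat 0, Int.ofNat 0, Int.ofNat 0, Int.negSucc 1, Int.ofNat 0, Int.ofNat 2, Int.ofNat 0, Int.ofNat 0, Int.negSucc 1, Int.ofNat 0, Int.ofNat 2, Int.ofNat 0, Int.ofNat 0, Int.negSucc 1, Int.ofNat 0, Int.ofNat 0, Int.ofNat 0, Int.ofNat 0, Int.ofNat 2, Int.ofNat 0, Int.ofNat 2, Int.ofNat 0, Int.ofNat 0],
  [Int.ofNat 0, Int.ofNat 0, Int.ofNat 0, Int.negSucc 1, Int.ofNat 0, Int.ofNat 2, Int.ofNat 0, Int.ofNat 0, Int.negSucc 1, Int.ofNat 0, Int.ofNat 2, Int.ofNat 0, Int.ofNat 0, Int.negSucc 1, Int.ofNat 0, Int.ofNat 0, Int.ofNat 0, Int.ofNat 0, Int.ofNat 2, Int.ofNat 0, Int.ofNat 2, Int.ofNat 0, Int.negSucc 1, Int.ofNat 0],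
  [Int.ofNat 0, Int.ofNat 0, Int.ofNat 0, Int.negSucc 1, Int.ofNat 0, Int.ofNat 2, Int.ofNat 0, Int.ofNat 0, Int.negSucc 1, Int.ofNat 0, Int.negSucc 1, Int.ofNat 0, Int.ofNat 0, Int.negSucc 1, Int.ofNat 0, Int.ofNat 0, Int.ofNat 0, Int.ofNat 0, Int.negSucc 1, Int.ofNat 0, Int.ofNat 2, Int.ofNat 0, Int.negSucc 1, Int.ofNat 0],
  [Int.ofNat 0, Int.ofNat 0, Int.negSucc 1, Int.negSucc 1, Int.ofNat 0, Int.negSucc 1, Int.ofNat 0, Int.ofNat 2, Int.ofNat 0, Int.ofNat 0, Int.ofNat 0, Int.ofNat 0, Int.negSucc 1, Int.negSucc 1, Int.ofNat 0, Int.ofNat 0, Int.ofNat 0, Int.negSucc 1, Int.ofNat 0, Int.ofNat 0, Int.ofNat 2, Int.ofNat 0, Int.ofNat 0, Int.ofNat 0],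
  [Int.ofNat 0, Int.ofNat 0, Int.ofNat 2, Int.negSucc 1, Int.ofNat 0, Int.negSucc 1, Int.ofNat 0, Int.negSucc 1, Int.ofNat 0, Int.ofNat 0, Int.ofNat 0, Int.ofNat 0, Int.negSucc 1, Int.negSucc 1, Int.ofNat 0, Int.ofNat 0, Int.ofNat 0, Int.negSucc 1, Int.ofNat 0, Int.ofNat 0, Int.ofNat 2, Int.ofNat 0, Int.ofNat 0, Int.ofNat 0],
  [Int.ofNat 0, Int.ofNat 0, Int.ofNat 0, Int.ofNat 2, Int.negSucc 1, Int.ofNat 0, Int.negSucc 1, Int.ofNat 0, Int.negSucc 1, Int.ofNat 0, Int.ofNat 0, Int.ofNat 0, Int.ofNat 0, Int.negSucc 1, Int.negSucc 1, Int.ofNat 0, Int.ofNat 0, Int.ofNat 0, Int.negSucc 1, Int.ofNat 0, Int.ofNat 0, Int.ofNat 2, Int.ofNat 0, Int.ofNat 0],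
  [Int.ofNat 0, Int.ofNat 0, Int.ofNat 0, Int.ofNat 2, Int.ofNat 0, Int.ofNat 0, Int.negSucc 1, Int.ofNat 0, Int.ofNat 0, Int.ofNat 0, Int.ofNat 0, Int.ofNat 2, Int.ofNat 2, Int.ofNat 0, Int.negSucc 1, Int.ofNat 0, Int.ofNat 2, Int.ofNat 0, Int.ofNat 0, Int.ofNat 0, Int.ofNat 0, Int.ofNat 2, Int.ofNat 2, Int.ofNat 0],
  [Int.ofNat 2, Int.ofNat 0, Int.ofNat 0, Int.negSucc 1, Int.ofNat 0, Int.ofNat 0, Int.ofNat 0, Int.ofNat 0, Int.ofNat 2, Int.ofNat 2, Int.ofNat 0, Int.negSucc 1, Int.ofNat 0, Int.ofNat 2, Int.ofNat 0, Int.ofNat 0, Int.ofNat 0, Int.ofNat 0, Int.ofNat 2, Int.ofNat 2, Int.ofNat 0, Int.ofNat 0, Int.ofNat 0, Int.ofNat 0],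
  [Int.negSucc 0, Int.ofNat 1, Int.ofNat 1, Int.negSucc 0, Int.negSucc 0, Int.ofNat 1, Int.negSucc 0, Int.negSucc 0, Int.ofNat 1, Int.ofNat 1, Int.negSucc 0, Int.negSucc 2, Int.negSucc 0, Int.ofNat 1, Int.ofNat 1, Int.negSucc 0, Int.negSucc 0, Int.ofNat 1, Int.ofNat 1, Int.ofNat 1, Int.negSucc 0, Int.negSucc 0, Int.negSucc 0, Int.ofNat 1],
  [Int.negSucc 0, Int.negSucc 0, Int.negSucc 0, Int.negSucc 0, Int.ofNat 1, Int.negSucc 0, Int.ofNat 1, Int.negSucc 0, Int.negSucc 0, Int.ofNat 1, Int.negSucc 0, Int.ofNat 1, Int.ofNat 1, Int.negSucc 0, Int.negSucc 0, Int.negSucc 0, Int.ofNat 1, Int.ofNat 1, Int.ofNat 1, Int.negSucc 2, Int.negSucc 0, Int.ofNat 1, Int.ofNat 1, Int.ofNat 1],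
  [Int.ofNat 0, Int.ofNat 0, Int.ofNat 0, Int.ofNat 0, Int.ofNat 0, Int.ofNat 0, Int.ofNat 2, Int.ofNat 0, Int.negSucc 1, Int.ofNat 2, Int.ofNat 0, Int.ofNat 0, Int.ofNat 0, Int.negSucc 1, Int.ofNat 0, Int.ofNat 0, Int.ofNat 0, Int.ofNat 2, Int.ofNat 0, Int.negSucc 1, Int.ofNat 0, Int.ofNat 2, Int.ofNat 0, Int.negSucc 1],
  [Int.ofNat 0, Int.ofNat 0, Int.ofNat 0, Int.ofNat 0, Int.ofNat 0, Int.ofNat 0, Int.negSucc 1, Int.ofNat 0, Int.negSucc 1, Int.negSucc 1, Int.ofNat 0, Int.ofNat 0, Int.ofNat 0, Int.negSucc 1, Int.ofNat 0, Int.ofNat 0, Int.ofNat 0, Int.ofNat 2, Int.ofNat 0, Int.negSucc 1, Int.ofNat 0, Int.ofNat 2, Int.ofNat 0, Int.negSucc 1],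
  [Int.ofNat 0, Int.ofNat 0, Int.ofNat 0, Int.negSucc 1, Int.ofNat 0, Int.negSucc 1, Int.ofNat 2, Int.ofNat 0, Int.ofNat 0, Int.ofNat 0, Int.negSucc 1, Int.ofNat 0, Int.ofNat 0, Int.ofNat 0, Int.ofNat 2, Int.ofNat 0, Int.negSucc 1, Int.ofNat 0, Int.negSucc 1, Int.ofNat 0, Int.ofNat 0, Int.ofNat 0, Int.ofNat 0, Int.negSucc 1],
  [Int.ofNat 0, Int.ofNat 0, Int.ofNat 0, Int.ofNat 2, Int.ofNat 0, Int.negSucc 1, Int.negSucc 1, Int.ofNat 0, Int.ofNat 0, Int.ofNat 0, Int.negSucc 1, Int.ofNat 0, Int.ofNat 0, Int.ofNat 0, Int.ofNat 2, Int.ofNat 0, Int.ofNat 2, Int.ofNat 0, Int.ofNat 2, Int.ofNat 0, Int.ofNat 0, Int.ofNat 0, Int.ofNat 0, Int.negSucc 1],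
  [Int.negSucc 1, Int.ofNat 0, Int.ofNat 0, Int.ofNat 0, Int.ofNat 0, Int.ofNat 0, Int.ofNat 0, Int.ofNat 0, Int.ofNat 0, Int.negSucc 1, Int.ofNat 2, Int.ofNat 0, Int.ofNat 0, Int.ofNat 0, Int.ofNat 2, Int.ofNat 2, Int.negSucc 1, Int.ofNat 0, Int.ofNat 2, Int.negSucc 1, Int.ofNat 0, Int.ofNat 0, Int.ofNat 0, Int.ofNat 0],
  [Int.ofNat 2, Int.ofNat 0, Int.ofNat 0, Int.ofNat 0, Int.ofNat 0, Int.ofNat 0, Int.ofNat 0, Int.ofNat 0, Int.ofNat 0, Int.ofNat 2, Int.negSucc 1, Int.ofNat 0, Int.ofNat 0, Int.ofNat 0, Int.ofNat 2, Int.ofNat 2, Int.negSucc 1, Int.ofNat 0, Int.negSucc 1, Int.negSucc 1, Int.ofNat 0, Int.ofNat 0, Int.ofNat 0, Int.ofNat 0],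
  [Int.ofNat 0, Int.ofNat 2, Int.ofNat 0, Int.ofNat 0, Int.ofNat 0, Int.ofNat 0, Int.ofNat 0, Int.ofNat 0, Int.ofNat 0, Int.ofNat 0, Int.ofNat 2, Int.negSucc 1, Int.ofNat 0, Int.ofNat 0, Int.ofNat 0, Int.ofNat 2, Int.ofNat 2, Int.negSucc 1, Int.ofNat 0, Int.negSucc 1, Int.negSucc 1, Int.ofNat 0, Int.ofNat 0, Int.ofNat 0],
  [Int.ofNat 1, Int.negSucc 0, Int.ofNat 1, Int.ofNat 1, Int.negSucc 0, Int.ofNat 1, Int.ofNat 1, Int.ofNat 1, Int.ofNat 1, Int.negSucc 0, Int.ofNat 1, Int.negSucc 0, Int.ofNat 1, Int.negSucc 0, Int.ofNat 1, Int.ofNat 1, Int.ofNat 1, Int.negSucc 0, Int.ofNat 1, Int.negSucc 0, Int.negSucc 2, Int.ofNat 1, Int.negSucc 0, Int.ofNat 1],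
  [Int.ofNat 1, Int.negSucc 0, Int.ofNat 1, Int.ofNat 1, Int.ofNat 1, Int.ofNat 1, Int.negSucc 0, Int.ofNat 1, Int.negSucc 0, Int.ofNat 1, Int.negSucc 0, Int.ofNat 1, Int.ofNat 1, Int.ofNat 1, Int.negSucc 0, Int.ofNat 1, Int.negSucc 0, Int.negSucc 2, Int.ofNat 1, Int.negSucc 0, Int.ofNat 1, Int.negSucc 0, Int.ofNat 1, Int.ofNat 1],
  [Int.ofNat 0, Int.ofNat 2, Int.ofNat 0, Int.ofNat 2, Int.ofNat 0, Int.ofNat 2, Int.ofNat 0, Int.ofNat 2, Int.negSucc 1, Int.ofNat 0, Int.negSucc 1, Int.ofNat 0, Int.ofNat 0, Int.ofNat 0, Int.ofNat 0, Int.ofNat 0, Int.negSucc 1, Int.negSucc 1, Int.ofNat 0, Int.ofNat 0, Int.ofNat 0, Int.ofNat 0, Int.ofNat 0, Int.ofNat 0],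
  [Int.ofNat 0, Int.ofNat 0, Int.ofNat 0, Int.ofNat 2, Int.ofNat 0, Int.ofNat 2, Int.ofNat 0, Int.negSucc 1, Int.ofNat 0, Int.ofNat 0, Int.ofNat 0, Int.negSucc 1, Int.ofNat 0, Int.negSucc 1, Int.ofNat 0, Int.ofNat 0, Int.negSucc 1, Int.ofNat 0, Int.ofNat 2, Int.ofNat 0, Int.ofNat 0, Int.ofNat 2, Int.ofNat 0, Int.ofNat 0],
  [Int.ofNat 0, Int.ofNat 0, Int.ofNat 0, Int.ofNat 0, Int.ofNat 2, Int.ofNat 0, Int.ofNat 0, Int.negSucc 1, Int.ofNat 0, Int.ofNat 0, Int.ofNat 0, Int.negSucc 1, Int.ofNat 0, Int.ofNat 0, Int.negSucc 1, Int.ofNat 0, Int.ofNat 0, Int.negSucc 1, Int.ofNat 2, Int.ofNat 0, Int.ofNat 0, Int.ofNat 2, Int.ofNat 2, Int.ofNat 0],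
  [Int.ofNat 0, Int.ofNat 0, Int.ofNat 0, Int.ofNat 0, Int.ofNat 2, Int.ofNat 0, Int.ofNat 0, Int.negSucc 1, Int.ofNat 0, Int.ofNat 0, Int.ofNat 0, Int.negSucc 1, Int.ofNat 0, Int.ofNat 0, Int.negSucc 1, Int.ofNat 0, Int.ofNat 0, Int.negSucc 1, Int.negSucc 1, Int.ofNat 0, Int.ofNat 0, Int.ofNat 2, Int.negSucc 1, Int.ofNat 0],
  [Int.ofNat 0, Int.ofNat 0, Int.ofNat 2, Int.ofNat 0, Int.ofNat 0, Int.ofNat 0, Int.negSucc 1, Int.ofNat 0, Int.ofNat 2, Int.ofNat 0, Int.ofNat 0, Int.ofNat 0, Int.negSucc 1, Int.ofNat 0, Int.negSucc 1, Int.negSucc 1, Int.negSucc 1, Int.ofNat 0, Int.negSucc 1, Int.ofNat 0, Int.ofNat 0, Int.ofNat 0, Int.ofNat 0, Int.ofNat 0],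
  [Int.ofNat 0, Int.ofNat 0, Int.negSucc 1, Int.ofNat 0, Int.ofNat 0, Int.ofNat 0, Int.ofNat 2, Int.ofNat 0, Int.ofNat 2, Int.ofNat 0, Int.ofNat 0, Int.ofNat 0, Int.negSucc 1, Int.ofNat 0, Int.negSucc 1, Int.ofNat 2, Int.negSucc 1, Int.ofNat 0, Int.ofNat 2, Int.ofNat 0, Int.ofNat 0, Int.ofNat 0, Int.ofNat 0, Int.ofNat 0],
  [Int.negSucc 0, Int.negSucc 0, Int.ofNat 1, Int.ofNat 1, Int.ofNat 1, Int.ofNat 1, Int.ofNat 1, Int.negSucc 0, Int.ofNat 1, Int.negSucc 0, Int.negSucc 0, Int.negSucc 0, Int.negSucc 2, Int.ofNat 1, Int.negSucc 0, Int.ofNat 1, Int.negSucc 0, Int.ofNat 1, Int.ofNat 1, Int.negSucc 0, Int.negSucc 0, Int.negSucc 0, Int.ofNat 1, Int.negSucc 0],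
  [Int.negSucc 0, Int.ofNat 1, Int.ofNat 1, Int.ofNat 1, Int.ofNat 1, Int.negSucc 0, Int.negSucc 0, Int.ofNat 1, Int.negSucc 0, Int.negSucc 2, Int.negSucc 0, Int.negSucc 0, Int.ofNat 1, Int.negSucc 0, Int.ofNat 1, Int.ofNat 1, Int.ofNat 1, Int.negSucc 0, Int.ofNat 1, Int.ofNat 1, Int.negSucc 0, Int.negSucc 0, Int.negSucc 0, Int.negSucc 0],
  [Int.ofNat 1, Int.negSucc 0, Int.negSucc 0, Int.ofNat 1, Int.ofNat 1, Int.negSucc 0, Int.negSucc 0, Int.ofNat 1, Int.negSucc 0, Int.negSucc 0, Int.ofNat 1, Int.negSucc 0, Int.ofNat 1, Int.negSucc 0, Int.ofNat 1, Int.ofNat 3, Int.ofNat 1, Int.negSucc 0, Int.ofNat 1, Int.ofNat 1, Int.ofNat 1, Int.negSucc 0, Int.negSucc 0, Int.ofNat 1],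
  [Int.ofNat 1, Int.negSucc 0, Int.negSucc 0, Int.ofNat 1, Int.negSucc 0, Int.negSucc 0, Int.ofNat 1, Int.ofNat 1, Int.negSucc 0, Int.negSucc 0, Int.ofNat 1, Int.negSucc 0, Int.negSucc 0, Int.ofNat 1, Int.negSucc 0, Int.ofNat 1, Int.negSucc 0, Int.ofNat 1, Int.ofNat 3, Int.ofNat 1, Int.negSucc 0, Int.ofNat 1, Int.ofNat 1, Int.ofNat 1],
  [Int.negSucc 0, Int.ofNat 1, Int.ofNat 1, Int.ofNat 1, Int.negSucc 0, Int.negSucc 0, Int.negSucc 0, Int.negSucc 0, Int.negSucc 0, Int.negSucc 0, Int.ofNat 1, Int.negSucc 0, Int.negSucc 0, Int.ofNat 1, Int.negSucc 0, Int.ofNat 1, Int.negSucc 0, Int.ofNat 1, Int.ofNat 3, Int.negSucc 0, Int.negSucc 0, Int.negSucc 0, Int.ofNat 1, Int.negSucc 0],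
  [Int.ofNat 1, Int.ofNat 1, Int.ofNat 1, Int.negSucc 0, Int.negSucc 0, Int.negSucc 0, Int.negSucc 0, Int.negSucc 0, Int.negSucc 0, Int.ofNat 1, Int.negSucc 0, Int.negSucc 0, Int.ofNat 1, Int.negSucc 0, Int.ofNat 1, Int.negSucc 0, Int.ofNat 1, Int.ofNat 3, Int.negSucc 0, Int.negSucc 0, Int.negSucc 0, Int.ofNat 1, Int.negSucc 0, Int.negSucc 0],
  [Int.negSucc 0, Int.ofNat 1, Int.negSucc 0, Int.negSucc 0, Int.negSucc 0, Int.negSucc 0, Int.negSucc 0, Int.ofNat 1, Int.negSucc 0, Int.negSucc 0, Int.ofNat 1, Int.ofNat 1, Int.ofNat 1, Int.negSucc 0, Int.ofNat 1, Int.negSucc 0, Int.ofNat 1, Int.ofNat 3, Int.ofNat 1, Int.negSucc 0, Int.negSucc 0, Int.negSucc 0, Int.negSucc 0, Int.negSucc 0],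
  [Int.negSucc 0, Int.negSucc 0, Int.ofNat 1, Int.negSucc 0, Int.ofNat 1, Int.ofNat 1, Int.negSucc 0, Int.negSucc 0, Int.negSucc 0, Int.ofNat 1, Int.negSucc 0, Int.ofNat 1, Int.negSucc 0, Int.negSucc 0, Int.negSucc 0, Int.negSucc 0, Int.ofNat 1, Int.negSucc 0, Int.negSucc 0, Int.ofNat 3, Int.negSucc 0, Int.ofNat 1, Int.ofNat 1, Int.negSucc 0],
  [Int.ofNat 1, Int.negSucc 0, Int.negSucc 0, Int.negSucc 0, Int.ofNat 1, Int.ofNat 1, Int.negSucc 0, Int.ofNat 1, Int.negSucc 0, Int.negSucc 0, Int.ofNat 1, Int.negSucc 0, Int.negSucc 0, Int.negSucc 0, Int.negSucc 0, Int.negSucc 0, Int.ofNat 1, Int.negSucc 0, Int.ofNat 1, Int.ofNat 3, Int.negSucc 0, Int.negSucc 0, Int.ofNat 1, Int.negSucc 0],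
  [Int.ofNat 1, Int.ofNat 1, Int.negSucc 0, Int.negSucc 0, Int.negSucc 0, Int.ofNat 1, Int.ofNat 1, Int.negSucc 0, Int.ofNat 1, Int.negSucc 0, Int.negSucc 0, Int.ofNat 1, Int.negSucc 0, Int.negSucc 0, Int.negSucc 0, Int.negSucc 0, Int.negSucc 0, Int.ofNat 1, Int.negSucc 0, Int.ofNat 1, Int.ofNat 3, Int.negSucc 0, Int.negSucc 0, Int.negSucc 0],
  [Int.negSucc 0, Int.negSucc 0, Int.ofNat 1, Int.negSucc 0, Int.ofNat 1, Int.ofNat 1, Int.ofNat 1, Int.negSucc 0, Int.ofNat 1, Int.negSucc 0, Int.negSucc 0, Int.ofNat 1, Int.negSucc 0, Int.ofNat 1, Int.negSucc 0, Int.negSucc 0, Int.ofNat 1, Int.ofNat 1, Int.negSucc 0, Int.ofNat 1, Int.ofNat 3, Int.negSucc 0, Int.ofNat 1, Int.ofNat 1],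
  [Int.negSucc 0, Int.ofNat 1, Int.ofNat 1, Int.ofNat 1, Int.negSucc 0, Int.ofNat 1, Int.negSucc 0, Int.negSucc 0, Int.ofNat 1, Int.negSucc 0, Int.ofNat 1, Int.negSucc 0, Int.negSucc 0, Int.ofNat 1, Int.ofNat 1, Int.negSucc 0, Int.ofNat 1, Int.ofNat 3, Int.negSucc 0, Int.ofNat 1, Int.negSucc 0, Int.negSucc 0, Int.ofNat 1, Int.ofNat 1],
  [Int.ofNat 2, Int.ofNat 0, Int.ofNat 0, Int.negSucc 1, Int.negSucc 1, Int.negSucc 1, Int.ofNat 0, Int.ofNat 0, Int.ofNat 2, Int.ofNat 0, Int.ofNat 2, Int.ofNat 0, Int.ofNat 0, Int.ofNat 0, Int.negSucc 1, Int.ofNat 0, Int.ofNat 0, Int.ofNat 0, Int.ofNat 0, Int.ofNat 2, Int.ofNat 0, Int.ofNat 0, Int.ofNat 0, Int.ofNat 0],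
  [Int.ofNat 2, Int.ofNat 0, Int.negSucc 1, Int.negSucc 1, Int.ofNat 0, Int.ofNat 0, Int.ofNat 0, Int.ofNat 2, Int.ofNat 0, Int.ofNat 0, Int.ofNat 0, Int.ofNat 0, Int.ofNat 0, Int.ofNat 0, Int.ofNat 0, Int.ofNat 0, Int.ofNat 2, Int.negSucc 1, Int.ofNat 0, Int.ofNat 0, Int.ofNat 0, Int.negSucc 1, Int.ofNat 2, Int.ofNat 0],
  [Int.negSucc 1, Int.ofNat 0, Int.ofNat 2, Int.ofNat 0, Int.negSucc 1, Int.ofNat 2, Int.ofNat 0, Int.ofNat 2, Int.ofNat 0, Int.ofNat 0, Int.ofNat 0, Int.ofNat 0, Int.ofNat 0, Int.negSucc 1, Int.ofNat 2, Int.ofNat 0, Int.ofNat 0, Int.ofNat 0, Int.ofNat 0, Int.ofNat 0, Int.ofNat 0, Int.negSucc 1, Int.ofNat 0, Int.ofNat 0],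
  [Int.negSucc 1, Int.ofNat 0, Int.negSucc 1, Int.ofNat 0, Int.negSucc 1, Int.negSucc 1, Int.ofNat 0, Int.ofNat 2, Int.ofNat 0, Int.ofNat 0, Int.ofNat 0, Int.ofNat 0, Int.ofNat 0, Int.negSucc 1, Int.ofNat 2, Int.ofNat 0, Int.ofNat 0, Int.ofNat 0, Int.ofNat 0, Int.ofNat 0, Int.ofNat 0, Int.negSucc 1, Int.ofNat 0, Int.ofNat 0],
  [Int.ofNat 0, Int.ofNat 0, Int.ofNat 0, Int.ofNat 0, Int.ofNat 2, Int.ofNat 0, Int.negSucc 1, Int.ofNat 0, Int.negSucc 1, Int.ofNat 0, Int.negSucc 1, Int.ofNat 2, Int.ofNat 0, Int.negSucc 1, Int.ofNat 0, Int.ofNat 0, Int.ofNat 0, Int.ofNat 0, Int.ofNat 0, Int.negSucc 1, Int.negSucc 1, Int.ofNat 0, Int.ofNat 0, Int.ofNat 0],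
  [Int.ofNat 0, Int.ofNat 0, Int.ofNat 0, Int.ofNat 0, Int.negSucc 1, Int.ofNat 0, Int.ofNat 2, Int.ofNat 0, Int.ofNat 2, Int.ofNat 0, Int.negSucc 1, Int.ofNat 2, Int.ofNat 0, Int.ofNat 2, Int.ofNat 0, Int.ofNat 0, Int.ofNat 0, Int.ofNat 0, Int.ofNat 0, Int.negSucc 1, Int.negSucc 1, Int.ofNat 0, Int.ofNat 0, Int.ofNat 0],
  [Int.ofNat 0, Int.ofNat 0, Int.ofNat 2, Int.ofNat 0, Int.ofNat 0, Int.ofNat 0, Int.negSucc 1, Int.ofNat 2, Int.negSucc 1, Int.ofNat 0, Int.ofNat 0, Int.ofNat 0, Int.ofNat 0, Int.ofNat 0, Int.ofNat 0, Int.ofNat 0, Int.negSucc 1, Int.negSucc 1, Int.ofNat 0, Int.ofNat 2, Int.ofNat 2, Int.ofNat 0, Int.ofNat 0, Int.ofNat 0],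
  [Int.ofNat 0, Int.ofNat 0, Int.negSucc 1, Int.ofNat 0, Int.ofNat 0, Int.ofNat 0, Int.negSucc 1, Int.negSucc 1, Int.negSucc 1, Int.ofNat 0, Int.ofNat 0, Int.ofNat 0, Int.ofNat 0, Int.ofNat 0, Int.ofNat 0, Int.ofNat 0, Int.negSucc 1, Int.negSucc 1, Int.ofNat 0, Int.ofNat 2, Int.ofNat 2, Int.ofNat 0, Int.ofNat 0, Int.ofNat 0],
  [Int.ofNat 0, Int.ofNat 0, Int.ofNat 0, Int.negSucc 1, Int.ofNat 0, Int.ofNat 0, Int.ofNat 0, Int.negSucc 1, Int.negSucc 1, Int.negSucc 1, Int.ofNat 0, Int.ofNat 0, Int.ofNat 0, Int.ofNat 0, Int.ofNat 0, Int.ofNat 0, Int.ofNat 0, Int.negSucc 1, Int.negSucc 1, Int.ofNat 0, Int.ofNat 2, Int.ofNat 2, Int.ofNat 0, Int.ofNat 0],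
  [Int.ofNat 0, Int.ofNat 0, Int.ofNat 0, Int.ofNat 0, Int.ofNat 0, Int.ofNat 2, Int.ofNat 0, Int.negSucc 1, Int.ofNat 0, Int.negSucc 1, Int.ofNat 0, Int.ofNat 2, Int.ofNat 2, Int.ofNat 0, Int.ofNat 2, Int.ofNat 0, Int.ofNat 0, Int.ofNat 0, Int.ofNat 0, Int.ofNat 0, Int.ofNat 2, Int.ofNat 2, Int.ofNat 0, Int.ofNat 0],
  [Int.ofNat 0, Int.ofNat 0, Int.ofNat 2, Int.ofNat 0, Int.negSucc 1, Int.ofNat 0, Int.negSucc 1, Int.ofNat 0, Int.ofNat 2, Int.ofNat 2, Int.ofNat 0, Int.ofNat 2, Int.ofNat 0, Int.ofNat 0, Int.ofNat 0, Int.ofNat 0, Int.ofNat 0, Int.ofNat 2, Int.ofNat 2, Int.ofNat 0, Int.ofNat 0, Int.ofNat 0, Int.ofNat 0, Int.ofNat 0],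
  [Int.ofNat 1, Int.ofNat 1, Int.negSucc 0, Int.negSucc 0, Int.negSucc 0, Int.negSucc 0, Int.negSucc 0, Int.ofNat 1, Int.negSucc 0, Int.ofNat 1, Int.negSucc 0, Int.negSucc 0, Int.negSucc 2, Int.ofNat 1, Int.negSucc 0, Int.negSucc 0, Int.ofNat 1, Int.ofNat 1, Int.negSucc 0, Int.ofNat 1, Int.negSucc 0, Int.ofNat 1, Int.ofNat 1, Int.ofNat 1],
  [Int.ofNat 1, Int.negSucc 0, Int.negSucc 0, Int.negSucc 0, Int.negSucc 0, Int.ofNat 1, Int.negSucc 0, Int.negSucc 0, Int.negSucc 2, Int.ofNat 1, Int.negSucc 0, Int.ofNat 1, Int.ofNat 1, Int.ofNat 1, Int.ofNat 1, Int.negSucc 0, Int.negSucc 0, Int.negSucc 0, Int.ofNat 1, Int.negSucc 0, Int.ofNat 1, Int.negSucc 0, Int.ofNat 1, Int.ofNat 1],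
  [Int.negSucc 0, Int.ofNat 1, Int.ofNat 1, Int.negSucc 0, Int.negSucc 0, Int.ofNat 1, Int.ofNat 1, Int.ofNat 1, Int.negSucc 2, Int.ofNat 1, Int.negSucc 0, Int.ofNat 1, Int.ofNat 1, Int.ofNat 1, Int.ofNat 1, Int.negSucc 0, Int.negSucc 0, Int.negSucc 0, Int.ofNat 1, Int.ofNat 1, Int.ofNat 1, Int.ofNat 1, Int.ofNat 1, Int.negSucc 0],
  [Int.negSucc 0, Int.ofNat 1, Int.negSucc 0, Int.negSucc 0, Int.negSucc 0, Int.negSucc 0, Int.negSucc 0, Int.ofNat 1, Int.negSucc 2, Int.negSucc 0, Int.ofNat 1, Int.ofNat 1, Int.ofNat 1, Int.ofNat 1, Int.ofNat 1, Int.ofNat 1, Int.negSucc 0, Int.negSucc 0, Int.negSucc 0, Int.ofNat 1, Int.ofNat 1, Int.ofNat 1, Int.negSucc 0, Int.negSucc 0],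
  [Int.negSucc 0, Int.negSucc 0, Int.ofNat 1, Int.ofNat 1, Int.ofNat 1, Int.negSucc 0, Int.negSucc 0, Int.ofNat 1, Int.negSucc 0, Int.negSucc 0, Int.ofNat 1, Int.ofNat 1, Int.ofNat 1, Int.negSucc 0, Int.negSucc 0, Int.negSucc 0, Int.ofNat 1, Int.negSucc 0, Int.ofNat 1, Int.negSucc 2, Int.negSucc 0, Int.ofNat 1, Int.ofNat 1, Int.negSucc 0],
  [Int.negSucc 0, Int.negSucc 0, Int.negSucc 0, Int.ofNat 1, Int.ofNat 1, Int.ofNat 1, Int.ofNat 1, Int.ofNat 1, Int.negSucc 0, Int.ofNat 1, Int.negSucc 0, Int.ofNat 1, Int.ofNat 1, Int.negSucc 0, Int.negSucc 0, Int.ofNat 1, Int.ofNat 1, Int.negSucc 0, Int.negSucc 0, Int.negSucc 2, Int.negSucc 0, Int.ofNat 1, Int.negSucc 0, Int.negSucc 0],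
  [Int.negSucc 0, Int.negSucc 0, Int.negSucc 0, Int.ofNat 1, Int.ofNat 1, Int.ofNat 1, Int.ofNat 1, Int.ofNat 1, Int.negSucc 0, Int.ofNat 1, Int.negSucc 0, Int.ofNat 1, Int.ofNat 1, Int.negSucc 0, Int.negSucc 0, Int.ofNat 1, Int.ofNat 1, Int.negSucc 0, Int.negSucc 0, Int.negSucc 2, Int.negSucc 0, Int.ofNat 1, Int.negSucc 0, Int.negSucc 0],
  [Int.negSucc 0, Int.negSucc 0, Int.ofNat 1, Int.ofNat 1, Int.negSucc 0, Int.ofNat 1, Int.negSucc 0, Int.ofNat 1, Int.ofNat 1, Int.ofNat 1, Int.ofNat 1, Int.negSucc 2, Int.negSucc 0, Int.ofNat 1, Int.negSucc 0, Int.ofNat 1, Int.negSucc 0, Int.ofNat 1, Int.ofNat 1, Int.negSucc 0, Int.negSucc 0, Int.negSucc 0, Int.negSucc 0, Int.negSucc 0],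
  [Int.ofNat 0, Int.ofNat 0, Int.negSucc 1, Int.ofNat 0, Int.ofNat 0, Int.ofNat 0, Int.ofNat 0, Int.ofNat 2, Int.ofNat 2, Int.ofNat 0, Int.ofNat 0, Int.negSucc 1, Int.ofNat 0, Int.ofNat 2, Int.negSucc 1, Int.ofNat 0, Int.ofNat 0, Int.ofNat 0, Int.ofNat 2, Int.ofNat 0, Int.negSucc 1, Int.ofNat 0, Int.ofNat 0, Int.ofNat 0],
  [Int.negSucc 1, Int.ofNat 0, Int.ofNat 0, Int.ofNat 0, Int.ofNat 0, Int.negSucc 1, Int.ofNat 0, Int.ofNat 0, Int.ofNat 0, Int.ofNat 0, Int.ofNat 2, Int.ofNat 2, Int.ofNat 0, Int.ofNat 0, Int.negSucc 1, Int.ofNat 0, Int.ofNat 2, Int.negSucc 1, Int.ofNat 0, Int.ofNat 0, Int.ofNat 0, Int.ofNat 2, Int.ofNat 0, Int.ofNat 0],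
  [Int.ofNat 1, Int.negSucc 0, Int.negSucc 0, Int.ofNat 3, Int.negSucc 0, Int.ofNat 1, Int.negSucc 0, Int.negSucc 0, Int.negSucc 0, Int.negSucc 0, Int.ofNat 1, Int.ofNat 1, Int.negSucc 0, Int.negSucc 0, Int.ofNat 1, Int.negSucc 0, Int.ofNat 1, Int.ofNat 1, Int.negSucc 0, Int.negSucc 0, Int.negSucc 0, Int.ofNat 1, Int.negSucc 0, Int.negSucc 0],
  [Int.negSucc 0, Int.negSucc 0, Int.ofNat 3, Int.negSucc 0, Int.ofNat 1, Int.negSucc 0, Int.negSucc 0, Int.negSucc 0, Int.negSucc 0, Int.ofNat 1, Int.ofNat 1, Int.negSucc 0, Int.negSucc 0, Int.ofNat 1, Int.negSucc 0, Int.ofNat 1, Int.ofNat 1, Int.negSucc 0, Int.negSucc 0, Int.negSucc 0, Int.ofNat 1, Int.negSucc 0, Int.ofNat 1, Int.negSucc 0],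
  [Int.ofNat 1, Int.negSucc 0, Int.negSucc 2, Int.negSucc 0, Int.ofNat 1, Int.negSucc 0, Int.negSucc 0, Int.ofNat 1, Int.negSucc 0, Int.negSucc 0, Int.negSucc 0, Int.ofNat 1, Int.negSucc 0, Int.ofNat 1, Int.negSucc 0, Int.ofNat 1, Int.ofNat 1, Int.negSucc 0, Int.ofNat 1, Int.negSucc 0, Int.ofNat 1, Int.ofNat 1, Int.ofNat 1, Int.negSucc 0],
  [Int.ofNat 1, Int.negSucc 2, Int.ofNat 1, Int.negSucc 0, Int.negSucc 0, Int.negSucc 0, Int.ofNat 1, Int.ofNat 1, Int.negSucc 0, Int.ofNat 1, Int.ofNat 1, Int.negSucc 0, Int.ofNat 1, Int.negSucc 0, Int.negSucc 0, Int.ofNat 1, Int.negSucc 0, Int.ofNat 1, Int.negSucc 0, Int.negSucc 0, Int.negSucc 0, Int.ofNat 1, Int.ofNat 1, Int.negSucc 0],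
  [Int.negSucc 0, Int.negSucc 2, Int.negSucc 0, Int.negSucc 0, Int.negSucc 0, Int.negSucc 0, Int.ofNat 1, Int.negSucc 0, Int.negSucc 0, Int.negSucc 0, Int.negSucc 0, Int.ofNat 1, Int.ofNat 1, Int.negSucc 0, Int.negSucc 0, Int.ofNat 1, Int.negSucc 0, Int.ofNat 1, Int.ofNat 1, Int.negSucc 0, Int.negSucc 0, Int.negSucc 0, Int.ofNat 1, Int.negSucc 0],
  [Int.ofNat 1, Int.negSucc 0, Int.negSucc 2, Int.negSucc 0, Int.negSucc 0, Int.negSucc 0, Int.negSucc 0, Int.ofNat 1, Int.negSucc 0, Int.negSucc 0, Int.negSucc 0, Int.negSucc 0, Int.ofNat 1, Int.ofNat 1, Int.negSucc 0, Int.negSucc 0, Int.ofNat 1, Int.negSucc 0, Int.ofNat 1, Int.ofNat 1, Int.negSucc 0, Int.negSucc 0, Int.negSucc 0, Int.negSucc 0],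
  [Int.negSucc 2, Int.negSucc 0, Int.ofNat 1, Int.ofNat 1, Int.negSucc 0, Int.ofNat 1, Int.negSucc 0, Int.ofNat 1, Int.negSucc 0, Int.ofNat 1, Int.ofNat 1, Int.negSucc 0, Int.ofNat 1, Int.ofNat 1, Int.ofNat 1, Int.ofNat 1, Int.ofNat 1, Int.ofNat 1, Int.ofNat 1, Int.ofNat 1, Int.ofNat 1, Int.negSucc 0, Int.negSucc 0, Int.negSucc 0],
  [Int.ofNat 1, Int.negSucc 0, Int.ofNat 1, Int.negSucc 0, Int.ofNat 1, Int.negSucc 0, Int.ofNat 1, Int.ofNat 1, Int.negSucc 0, Int.ofNat 1, Int.ofNat 1, Int.ofNat 1, Int.ofNat 1, Int.ofNat 1, Int.ofNat 1, Int.ofNat 1, Int.ofNat 1, Int.ofNat 1, Int.negSucc 0, Int.negSucc 0, Int.negSucc 2, Int.negSucc 0, Int.ofNat 1, Int.negSucc 0],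
  [Int.negSucc 0, Int.ofNat 1, Int.negSucc 0, Int.negSucc 0, Int.negSucc 0, Int.negSucc 0, Int.ofNat 1, Int.ofNat 1, Int.negSucc 0, Int.ofNat 1, Int.ofNat 1, Int.ofNat 1, Int.ofNat 1, Int.negSucc 0, Int.ofNat 1, Int.ofNat 1, Int.negSucc 0, Int.ofNat 1, Int.negSucc 0, Int.negSucc 0, Int.negSucc 2, Int.negSucc 0, Int.negSucc 0, Int.ofNat 1],
  [Int.negSucc 0, Int.ofNat 1, Int.negSucc 0, Int.negSucc 0, Int.negSucc 0, Int.ofNat 1, Int.negSucc 0, Int.ofNat 1, Int.ofNat 1, Int.negSucc 0, Int.negSucc 2, Int.ofNat 1, Int.ofNat 1, Int.negSucc 0, Int.negSucc 0, Int.ofNat 1, Int.negSucc 0, Int.ofNat 1, Int.ofNat 1, Int.ofNat 1, Int.negSucc 0, Int.negSucc 0, Int.negSucc 0, Int.ofNat 1],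
  [Int.ofNat 1, Int.negSucc 0, Int.ofNat 1, Int.negSucc 0, Int.ofNat 1, Int.ofNat 1, Int.negSucc 0, Int.ofNat 1, Int.negSucc 0, Int.ofNat 1, Int.negSucc 0, Int.negSucc 0, Int.negSucc 0, Int.ofNat 1, Int.negSucc 0, Int.ofNat 3, Int.ofNat 1, Int.ofNat 1, Int.negSucc 0, Int.ofNat 1, Int.ofNat 1, Int.negSucc 0, Int.ofNat 1, Int.negSucc 0],
  [Int.ofNat 1, Int.negSucc 0, Int.negSucc 0, Int.negSucc 0, Int.ofNat 1, Int.negSucc 0, Int.ofNat 1, Int.ofNat 1, Int.negSucc 0, Int.negSucc 0, Int.ofNat 1, Int.negSucc 0, Int.negSucc 0, Int.ofNat 1, Int.negSucc 0, Int.negSucc 2, Int.ofNat 1, Int.ofNat 1, Int.ofNat 1, Int.ofNat 1, Int.ofNat 1, Int.negSucc 0, Int.negSucc 0, Int.negSucc 0],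
  [Int.ofNat 1, Int.ofNat 1, Int.negSucc 0, Int.negSucc 0, Int.negSucc 0, Int.ofNat 1, Int.negSucc 0, Int.negSucc 0, Int.negSucc 0, Int.ofNat 1, Int.ofNat 1, Int.ofNat 1, Int.negSucc 2, Int.ofNat 1, Int.ofNat 1, Int.ofNat 1, Int.ofNat 1, Int.negSucc 0, Int.negSucc 0, Int.negSucc 0, Int.ofNat 1, Int.negSucc 0, Int.negSucc 0, Int.negSucc 0],
  [Int.negSucc 0, Int.negSucc 0, Int.ofNat 1, Int.ofNat 1, Int.ofNat 1, Int.ofNat 1, Int.ofNat 1, Int.negSucc 0, Int.ofNat 1, Int.negSucc 0, Int.ofNat 1, Int.ofNat 1, Int.ofNat 3, Int.negSucc 0, Int.ofNat 1, Int.ofNat 1, Int.negSucc 0, Int.negSucc 0, Int.ofNat 1, Int.negSucc 0, Int.ofNat 1, Int.negSucc 0, Int.negSucc 0, Int.negSucc 0],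
  [Int.negSucc 0, Int.negSucc 0, Int.ofNat 1, Int.ofNat 1, Int.negSucc 0, Int.negSucc 0, Int.negSucc 0, Int.negSucc 0, Int.ofNat 1, Int.ofNat 1, Int.negSucc 0, Int.ofNat 1, Int.negSucc 0, Int.negSucc 0, Int.ofNat 1, Int.ofNat 1, Int.ofNat 1, Int.ofNat 1, Int.ofNat 1, Int.ofNat 1, Int.ofNat 1, Int.ofNat 3, Int.negSucc 0, Int.negSucc 0],
  [Int.ofNat 1, Int.negSucc 0, Int.negSucc 0, Int.ofNat 1, Int.negSucc 0, Int.negSucc 0, Int.negSucc 0, Int.ofNat 1, Int.ofNat 1, Int.negSucc 0, Int.ofNat 1, Int.negSucc 0, Int.negSucc 0, Int.negSucc 0, Int.ofNat 1, Int.ofNat 1, Int.ofNat 1, Int.ofNat 1, Int.negSucc 0, Int.ofNat 1, Int.ofNat 1, Int.negSucc 2, Int.negSucc 0, Int.negSucc 0],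
  [Int.negSucc 0, Int.ofNat 1, Int.negSucc 0, Int.negSucc 0, Int.ofNat 1, Int.negSucc 0, Int.negSucc 0, Int.negSucc 0, Int.ofNat 1, Int.ofNat 1, Int.negSucc 0, Int.ofNat 1, Int.negSucc 0, Int.negSucc 0, Int.negSucc 0, Int.ofNat 1, Int.ofNat 1, Int.ofNat 1, Int.ofNat 1, Int.negSucc 0, Int.ofNat 1, Int.ofNat 1, Int.negSucc 2, Int.negSucc 0],
  [Int.ofNat 0, Int.negSucc 1, Int.ofNat 0, Int.ofNat 0, Int.ofNat 2, Int.ofNat 0, Int.ofNat 0, Int.ofNat 0, Int.ofNat 0, Int.ofNat 0, Int.negSucc 1, Int.ofNat 0, Int.negSucc 1, Int.ofNat 0, Int.ofNat 0, Int.ofNat 0, Int.ofNat 2, Int.ofNat 2, Int.ofNat 0, Int.ofNat 0, Int.ofNat 0, Int.ofNat 2, Int.negSucc 1, Int.ofNat 0],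
  [Int.ofNat 0, Int.ofNat 2, Int.ofNat 0, Int.ofNat 0, Int.ofNat 0, Int.ofNat 0, Int.ofNat 0, Int.negSucc 1, Int.ofNat 0, Int.negSucc 1, Int.ofNat 0, Int.ofNat 0, Int.ofNat 0, Int.ofNat 2, Int.ofNat 2, Int.ofNat 0, Int.ofNat 0, Int.ofNat 0, Int.ofNat 2, Int.negSucc 1, Int.ofNat 0, Int.negSucc 1, Int.ofNat 0, Int.ofNat 0],
  [Int.ofNat 1, Int.negSucc 0, Int.ofNat 1, Int.negSucc 0, Int.negSucc 0, Int.negSucc 0, Int.ofNat 3, Int.ofNat 1, Int.negSucc 0, Int.negSucc 0, Int.ofNat 1, Int.negSucc 0, Int.negSucc 0, Int.ofNat 1, Int.ofNat 1, Int.ofNat 1, Int.negSucc 0, Int.negSucc 0, Int.ofNat 1, Int.ofNat 1, Int.ofNat 1, Int.ofNat 1, Int.negSucc 0, Int.ofNat 1],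
  [Int.ofNat 1, Int.ofNat 3, Int.negSucc 0, Int.negSucc 0, Int.ofNat 1, Int.ofNat 1, Int.ofNat 1, Int.ofNat 1, Int.negSucc 0, Int.ofNat 1, Int.ofNat 1, Int.negSucc 0, Int.negSucc 0, Int.negSucc 0, Int.negSucc 0, Int.ofNat 1, Int.negSucc 0, Int.ofNat 1, Int.negSucc 0, Int.negSucc 0, Int.ofNat 1, Int.negSucc 0, Int.ofNat 1, Int.ofNat 1],
  [Int.ofNat 1, Int.negSucc 0, Int.ofNat 3, Int.negSucc 0, Int.ofNat 1, Int.ofNat 1, Int.ofNat 1, Int.ofNat 1, Int.ofNat 1, Int.negSucc 0, Int.negSucc 0, Int.ofNat 1, Int.ofNat 1, Int.negSucc 0, Int.negSucc 0, Int.negSucc 0, Int.negSucc 0, Int.ofNat 1, Int.ofNat 1, Int.negSucc 0, Int.negSucc 0, Int.negSucc 0, Int.ofNat 1, Int.ofNat 1],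
  [Int.ofNat 1, Int.negSucc 0, Int.negSucc 2, Int.negSucc 0, Int.ofNat 1, Int.negSucc 0, Int.negSucc 0, Int.ofNat 1, Int.ofNat 1, Int.ofNat 1, Int.ofNat 1, Int.ofNat 1, Int.ofNat 1, Int.negSucc 0, Int.negSucc 0, Int.ofNat 1, Int.negSucc 0, Int.ofNat 1, Int.negSucc 0, Int.negSucc 0, Int.negSucc 0, Int.negSucc 0, Int.negSucc 0, Int.ofNat 1],
  [Int.negSucc 0, Int.negSucc 0, Int.negSucc 0, Int.ofNat 1, Int.ofNat 1, Int.ofNat 1, Int.negSucc 0, Int.negSucc 0, Int.ofNat 1, Int.negSucc 0, Int.negSucc 0, Int.ofNat 1, Int.negSucc 0, Int.ofNat 1, Int.ofNat 1, Int.negSucc 0, Int.ofNat 1, Int.negSucc 0, Int.ofNat 1, Int.ofNat 1, Int.negSucc 2, Int.negSucc 0, Int.negSucc 0, Int.ofNat 1],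
  [Int.negSucc 0, Int.negSucc 0, Int.ofNat 1, Int.ofNat 1, Int.ofNat 1, Int.negSucc 0, Int.ofNat 1, Int.negSucc 0, Int.ofNat 1, Int.ofNat 1, Int.ofNat 1, Int.ofNat 1, Int.negSucc 0, Int.ofNat 1, Int.ofNat 1, Int.ofNat 1, Int.ofNat 1, Int.negSucc 0, Int.negSucc 0, Int.ofNat 1, Int.negSucc 2, Int.negSucc 0, Int.ofNat 1, Int.ofNat 1],
  [Int.ofNat 1, Int.ofNat 1, Int.negSucc 0, Int.ofNat 1, Int.negSucc 0, Int.negSucc 0, Int.ofNat 1, Int.negSucc 0, Int.ofNat 1, Int.ofNat 1, Int.ofNat 1, Int.ofNat 1, Int.negSucc 0, Int.negSucc 0, Int.ofNat 1, Int.ofNat 1, Int.negSucc 0, Int.negSucc 0, Int.negSucc 0, Int.ofNat 1, Int.negSucc 2, Int.negSucc 0, Int.negSucc 0, Int.negSucc 0],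
  [Int.ofNat 1, Int.negSucc 0, Int.ofNat 1, Int.ofNat 1, Int.negSucc 0, Int.negSucc 0, Int.ofNat 1, Int.negSucc 0, Int.negSucc 0, Int.negSucc 0, Int.negSucc 0, Int.ofNat 1, Int.ofNat 1, Int.ofNat 1, Int.negSucc 0, Int.ofNat 1, Int.negSucc 0, Int.ofNat 1, Int.negSucc 0, Int.negSucc 0, Int.ofNat 1, Int.negSucc 2, Int.ofNat 1, Int.negSucc 0],
  [Int.negSucc 0, Int.ofNat 1, Int.negSucc 0, Int.ofNat 1, Int.negSucc 0, Int.negSucc 0, Int.ofNat 3, Int.ofNat 1, Int.negSucc 0, Int.negSucc 0, Int.negSucc 0, Int.ofNat 1, Int.ofNat 1, Int.ofNat 1, Int.negSucc 0, Int.ofNat 1, Int.negSucc 0, Int.ofNat 1, Int.negSucc 0, Int.ofNat 1, Int.ofNat 1, Int.negSucc 0, Int.ofNat 1, Int.ofNat 1],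
  [Int.ofNat 1, Int.negSucc 0, Int.ofNat 1, Int.negSucc 0, Int.ofNat 1, Int.negSucc 0, Int.ofNat 1, Int.negSucc 0, Int.negSucc 0, Int.ofNat 3, Int.ofNat 1, Int.negSucc 0, Int.negSucc 0, Int.negSucc 0, Int.ofNat 1, Int.ofNat 1, Int.ofNat 1, Int.negSucc 0, Int.ofNat 1, Int.negSucc 0, Int.ofNat 1, Int.negSucc 0, Int.ofNat 1, Int.ofNat 1],
  [Int.ofNat 0, Int.ofNat 2, Int.ofNat 0, Int.ofNat 0, Int.ofNat 0, Int.ofNat 0, Int.ofNat 2, Int.ofNat 0, Int.ofNat 0, Int.ofNat 0, Int.negSucc 1, Int.ofNat 0, Int.ofNat 0, Int.negSucc 1, Int.ofNat 2, Int.negSucc 1, Int.ofNat 0, Int.ofNat 0, Int.ofNat 2, Int.ofNat 0, Int.negSucc 1, Int.ofNat 0, Int.ofNat 0, Int.ofNat 0],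
  [Int.ofNat 2, Int.ofNat 0, Int.ofNat 0, Int.ofNat 0, Int.ofNat 0, Int.ofNat 2, Int.ofNat 0, Int.ofNat 0, Int.ofNat 0, Int.negSucc 1, Int.ofNat 0, Int.ofNat 0, Int.negSucc 1, Int.ofNat 2, Int.negSucc 1, Int.ofNat 0, Int.ofNat 0, Int.ofNat 2, Int.ofNat 0, Int.negSucc 1, Int.ofNat 0, Int.ofNat 0, Int.ofNat 0, Int.ofNat 0],
  [Int.negSucc 1, Int.ofNat 0, Int.ofNat 0, Int.ofNat 0, Int.ofNat 0, Int.ofNat 2, Int.ofNat 0, Int.ofNat 0, Int.ofNat 0, Int.ofNat 2, Int.ofNat 0, Int.ofNat 0, Int.negSucc 1, Int.ofNat 2, Int.negSucc 1, Int.ofNat 0, Int.ofNat 0, Int.ofNat 2, Int.ofNat 0, Int.negSucc 1, Int.ofNat 0, Int.ofNat 0, Int.ofNat 0, Int.ofNat 0],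
  [Int.negSucc 1, Int.ofNat 0, Int.ofNat 0, Int.ofNat 0, Int.ofNat 0, Int.ofNat 0, Int.ofNat 0, Int.ofNat 0, Int.ofNat 2, Int.ofNat 0, Int.ofNat 0, Int.negSucc 1, Int.ofNat 2, Int.ofNat 0, Int.negSucc 1, Int.ofNat 0, Int.negSucc 1, Int.ofNat 0, Int.ofNat 0, Int.ofNat 2, Int.ofNat 2, Int.ofNat 0, Int.ofNat 0, Int.ofNat 0],
  [Int.ofNat 2, Int.ofNat 0, Int.ofNat 0, Int.ofNat 0, Int.ofNat 0, Int.ofNat 0, Int.ofNat 0, Int.ofNat 0, Int.ofNat 2, Int.ofNat 0, Int.ofNat 0, Int.ofNat 2, Int.ofNat 2, Int.ofNat 0, Int.negSucc 1, Int.ofNat 0, Int.negSucc 1, Int.ofNat 0, Int.ofNat 0, Int.ofNat 2, Int.ofNat 2, Int.ofNat 0, Int.ofNat 0, Int.ofNat 0],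
  [Int.ofNat 0, Int.ofNat 2, Int.ofNat 0, Int.ofNat 0, Int.ofNat 0, Int.ofNat 0, Int.ofNat 0, Int.ofNat 0, Int.ofNat 0, Int.ofNat 2, Int.ofNat 0, Int.ofNat 0, Int.ofNat 2, Int.ofNat 2, Int.ofNat 0, Int.negSucc 1, Int.ofNat 0, Int.negSucc 1, Int.ofNat 0, Int.ofNat 0, Int.ofNat 2, Int.ofNat 2, Int.ofNat 0, Int.ofNat 0],
  [Int.ofNat 1, Int.negSucc 0, Int.ofNat 1, Int.ofNat 1, Int.negSucc 0, Int.ofNat 1, Int.negSucc 0, Int.negSucc 0, Int.negSucc 0, Int.ofNat 1, Int.negSucc 0, Int.negSucc 0, Int.ofNat 1, Int.ofNat 1, Int.ofNat 1, Int.negSucc 2, Int.negSucc 0, Int.negSucc 0, Int.negSucc 0, Int.negSucc 0, Int.ofNat 1, Int.ofNat 1, Int.negSucc 0, Int.ofNat 1],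
  [Int.ofNat 1, Int.negSucc 0, Int.ofNat 1, Int.negSucc 0, Int.negSucc 0, Int.negSucc 0, Int.ofNat 1, Int.negSucc 0, Int.negSucc 0, Int.ofNat 1, Int.ofNat 1, Int.ofNat 1, Int.negSucc 2, Int.negSucc 0, Int.negSucc 0, Int.negSucc 0, Int.negSucc 0, Int.ofNat 1, Int.ofNat 1, Int.negSucc 0, Int.ofNat 1, Int.negSucc 0, Int.ofNat 1, Int.ofNat 1],
  [Int.ofNat 0, Int.ofNat 2, Int.ofNat 0, Int.ofNat 0, Int.ofNat 0, Int.ofNat 0, Int.ofNat 2, Int.ofNat 0, Int.ofNat 0, Int.ofNat 0, Int.ofNat 0, Int.ofNat 2, Int.negSucc 1, Int.ofNat 0, Int.ofNat 0, Int.negSucc 1, Int.ofNat 0, Int.ofNat 2, Int.ofNat 2, Int.ofNat 0, Int.ofNat 0, Int.ofNat 0, Int.ofNat 2, Int.ofNat 0],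
  [Int.ofNat 0, Int.ofNat 2, Int.ofNat 0, Int.ofNat 0, Int.ofNat 2, Int.ofNat 0, Int.ofNat 0, Int.ofNat 0, Int.negSucc 1, Int.ofNat 0, Int.ofNat 0, Int.ofNat 2, Int.ofNat 0, Int.ofNat 0, Int.ofNat 2, Int.negSucc 1, Int.ofNat 0, Int.ofNat 0, Int.ofNat 2, Int.ofNat 2, Int.ofNat 0, Int.ofNat 0, Int.ofNat 0, Int.ofNat 0],
  [Int.ofNat 1, Int.negSucc 0, Int.ofNat 1, Int.negSucc 0, Int.ofNat 1, Int.negSucc 0, Int.negSucc 0, Int.negSucc 0, Int.negSucc 2, Int.ofNat 1, Int.ofNat 1, Int.ofNat 1, Int.negSucc 0, Int.negSucc 0, Int.ofNat 1, Int.negSucc 0, Int.negSucc 0, Int.negSucc 0, Int.ofNat 1, Int.ofNat 1, Int.ofNat 1, Int.negSucc 0, Int.negSucc 0, Int.ofNat 1],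
  [Int.ofNat 1, Int.negSucc 0, Int.negSucc 0, Int.negSucc 0, Int.ofNat 1, Int.ofNat 1, Int.ofNat 1, Int.negSucc 0, Int.negSucc 2, Int.negSucc 0, Int.negSucc 0, Int.ofNat 1, Int.negSucc 0, Int.negSucc 0, Int.ofNat 1, Int.ofNat 1, Int.negSucc 0, Int.negSucc 0, Int.negSucc 0, Int.ofNat 1, Int.ofNat 1, Int.negSucc 0, Int.ofNat 1, Int.ofNat 1],
  [Int.negSucc 0, Int.negSucc 0, Int.ofNat 1, Int.negSucc 2, Int.ofNat 1, Int.ofNat 1, Int.negSucc 0, Int.negSucc 0, Int.ofNat 1, Int.ofNat 1, Int.negSucc 0, Int.negSucc 0, Int.ofNat 1, Int.ofNat 1, Int.negSucc 0, Int.negSucc 0, Int.ofNat 1, Int.negSucc 0, Int.negSucc 0, Int.negSucc 0, Int.ofNat 1, Int.negSucc 0, Int.ofNat 1, Int.ofNat 1],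
  [Int.ofNat 1, Int.ofNat 1, Int.negSucc 0, Int.ofNat 3, Int.negSucc 0, Int.ofNat 1, Int.ofNat 1, Int.negSucc 0, Int.negSucc 0, Int.negSucc 0, Int.negSucc 0, Int.negSucc 0, Int.negSucc 0, Int.negSucc 0, Int.negSucc 0, Int.negSucc 0, Int.negSucc 0, Int.negSucc 0, Int.ofNat 1, Int.negSucc 0, Int.ofNat 1, Int.negSucc 0, Int.ofNat 1, Int.ofNat 1],
  [Int.ofNat 1, Int.ofNat 1, Int.negSucc 0, Int.negSucc 0, Int.negSucc 0, Int.negSucc 0, Int.negSucc 0, Int.negSucc 0, Int.ofNat 1, Int.ofNat 1, Int.negSucc 0, Int.negSucc 0, Int.negSucc 0, Int.negSucc 0, Int.ofNat 1, Int.ofNat 3, Int.negSucc 0, Int.negSucc 0, Int.negSucc 0, Int.ofNat 1, Int.negSucc 0, Int.negSucc 0, Int.ofNat 1, Int.ofNat 1],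
  [Int.negSucc 0, Int.ofNat 1, Int.ofNat 1, Int.negSucc 0, Int.negSucc 0, Int.negSucc 0, Int.negSucc 0, Int.ofNat 1, Int.ofNat 1, Int.negSucc 0, Int.ofNat 1, Int.ofNat 1, Int.negSucc 0, Int.negSucc 0, Int.ofNat 1, Int.ofNat 3, Int.negSucc 0, Int.negSucc 0, Int.ofNat 1, Int.ofNat 1, Int.negSucc 0, Int.ofNat 1, Int.ofNat 1, Int.ofNat 1],
  [Int.ofNat 1, Int.negSucc 0, Int.ofNat 1, Int.ofNat 1, Int.negSucc 0, Int.negSucc 0, Int.negSucc 0, Int.negSucc 0, Int.ofNat 1, Int.ofNat 1, Int.negSucc 0, Int.ofNat 1, Int.ofNat 1, Int.negSucc 0, Int.negSucc 0, Int.ofNat 1, Int.ofNat 3, Int.negSucc 0, Int.negSucc 0, Int.ofNat 1, Int.ofNat 1, Int.negSucc 0, Int.ofNat 1, Int.ofNat 1],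
  [Int.ofNat 0, Int.ofNat 2, Int.ofNat 0, Int.ofNat 2, Int.negSucc 1, Int.ofNat 0, Int.ofNat 0, Int.ofNat 0, Int.ofNat 0, Int.ofNat 0, Int.negSucc 1, Int.ofNat 0, Int.ofNat 0, Int.negSucc 1, Int.ofNat 0, Int.ofNat 0, Int.ofNat 2, Int.ofNat 0, Int.negSucc 1, Int.ofNat 2, Int.ofNat 0, Int.ofNat 0, Int.ofNat 0, Int.ofNat 0],
  [Int.ofNat 2, Int.negSucc 1, Int.ofNat 0, Int.ofNat 0, Int.ofNat 0, Int.ofNat 0, Int.ofNat 0, Int.negSucc 1, Int.ofNat 0, Int.ofNat 0, Int.negSucc 1, Int.ofNat 0, Int.ofNat 0, Int.ofNat 2, Int.ofNat 0, Int.negSucc 1, Int.ofNat 2, Int.ofNat 0, Int.ofNat 0, Int.ofNat 0, Int.ofNat 0, Int.ofNat 2, Int.ofNat 0, Int.ofNat 0],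
  [Int.negSucc 1, Int.ofNat 2, Int.ofNat 0, Int.ofNat 0, Int.negSucc 1, Int.ofNat 0, Int.ofNat 0, Int.negSucc 1, Int.ofNat 0, Int.ofNat 2, Int.ofNat 0, Int.ofNat 0, Int.ofNat 0, Int.ofNat 0, Int.ofNat 0, Int.ofNat 0, Int.ofNat 0, Int.ofNat 0, Int.ofNat 0, Int.ofNat 0, Int.ofNat 2, Int.ofNat 2, Int.negSucc 1, Int.ofNat 0],
  [Int.negSucc 1, Int.ofNat 0, Int.negSucc 1, Int.ofNat 0, Int.ofNat 0, Int.negSucc 1, Int.ofNat 0, Int.ofNat 0, Int.ofNat 0, Int.ofNat 0, Int.ofNat 2, Int.ofNat 0, Int.ofNat 2, Int.ofNat 0, Int.negSucc 1, Int.ofNat 0, Int.ofNat 0, Int.ofNat 0, Int.ofNat 2, Int.ofNat 0, Int.ofNat 2, Int.ofNat 0, Int.ofNat 0, Int.ofNat 0],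
  [Int.ofNat 0, Int.negSucc 1, Int.ofNat 0, Int.ofNat 2, Int.ofNat 0, Int.ofNat 0, Int.ofNat 0, Int.ofNat 0, Int.negSucc 1, Int.negSucc 1, Int.ofNat 0, Int.negSucc 1, Int.ofNat 0, Int.ofNat 0, Int.ofNat 0, Int.negSucc 1, Int.ofNat 0, Int.ofNat 2, Int.ofNat 0, Int.ofNat 0, Int.ofNat 0, Int.ofNat 0, Int.ofNat 0, Int.negSucc 1],
  [Int.ofNat 0, Int.negSucc 1, Int.ofNat 0, Int.ofNat 2, Int.ofNat 0, Int.ofNat 0, Int.ofNat 0, Int.ofNat 0, Int.negSucc 1, Int.ofNat 2, Int.ofNat 0, Int.negSucc 1, Int.ofNat 0, Int.ofNat 0, Int.ofNat 0, Int.ofNat 2, Int.ofNat 0, Int.ofNat 2, Int.ofNat 0, Int.ofNat 0, Int.ofNat 0, Int.ofNat 0, Int.ofNat 0, Int.negSucc 1],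
  [Int.ofNat 2, Int.ofNat 0, Int.ofNat 0, Int.ofNat 0, Int.ofNat 0, Int.ofNat 2, Int.ofNat 0, Int.negSucc 1, Int.ofNat 0, Int.ofNat 0, Int.ofNat 0, Int.ofNat 2, Int.ofNat 0, Int.ofNat 0, Int.ofNat 2, Int.ofNat 0, Int.ofNat 0, Int.ofNat 0, Int.negSucc 1, Int.negSucc 1, Int.ofNat 0, Int.ofNat 0, Int.ofNat 0, Int.negSucc 1],
  [Int.ofNat 2, Int.ofNat 0, Int.ofNat 0, Int.ofNat 0, Int.ofNat 0, Int.negSucc 1, Int.ofNat 0, Int.negSucc 1, Int.ofNat 0, Int.ofNat 0, Int.ofNat 0, Int.ofNat 2, Int.ofNat 0, Int.ofNat 0, Int.ofNat 2, Int.ofNat 0, Int.ofNat 0, Int.ofNat 0, Int.ofNat 2, Int.negSucc 1, Int.ofNat 0, Int.ofNat 0, Int.ofNat 0, Int.negSucc 1],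
  [Int.negSucc 1, Int.ofNat 0, Int.ofNat 0, Int.ofNat 0, Int.ofNat 0, Int.negSucc 1, Int.ofNat 2, Int.ofNat 0, Int.negSucc 1, Int.ofNat 0, Int.ofNat 0, Int.ofNat 0, Int.negSucc 1, Int.ofNat 0, Int.ofNat 2, Int.ofNat 0, Int.ofNat 0, Int.ofNat 0, Int.ofNat 0, Int.ofNat 0, Int.ofNat 0, Int.ofNat 2, Int.ofNat 0, Int.ofNat 2],
  [Int.negSucc 1, Int.ofNat 0, Int.ofNat 2, Int.ofNat 0, Int.ofNat 0, Int.ofNat 2, Int.ofNat 0, Int.negSucc 1, Int.ofNat 0, Int.negSucc 1, Int.ofNat 0, Int.ofNat 0, Int.negSucc 1, Int.ofNat 0, Int.ofNat 0, Int.ofNat 0, Int.ofNat 0, Int.ofNat 0, Int.ofNat 0, Int.ofNat 0, Int.ofNat 0, Int.ofNat 0, Int.ofNat 2, Int.ofNat 2],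
  [Int.ofNat 3, Int.ofNat 1, Int.negSucc 0, Int.negSucc 0, Int.negSucc 0, Int.ofNat 1, Int.ofNat 1, Int.negSucc 0, Int.ofNat 1, Int.negSucc 0, Int.ofNat 1, Int.ofNat 1, Int.negSucc 0, Int.negSucc 0, Int.negSucc 0, Int.ofNat 1, Int.negSucc 0, Int.negSucc 0, Int.ofNat 1, Int.ofNat 1, Int.ofNat 1, Int.ofNat 1, Int.ofNat 1, Int.negSucc 0],
  [Int.ofNat 1, Int.ofNat 1, Int.ofNat 1, Int.ofNat 3, Int.ofNat 1, Int.negSucc 0, Int.negSucc 0, Int.negSucc 0, Int.ofNat 1, Int.ofNat 1, Int.negSucc 0, Int.ofNat 1, Int.negSucc 0, Int.ofNat 1, Int.ofNat 1, Int.negSucc 0, Int.negSucc 0, Int.negSucc 0, Int.ofNat 1, Int.negSucc 0, Int.negSucc 0, Int.ofNat 1, Int.ofNat 1, Int.negSucc 0],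
  [Int.ofNat 0, Int.ofNat 0, Int.ofNat 0, Int.ofNat 2, Int.ofNat 0, Int.negSucc 1, Int.ofNat 0, Int.ofNat 0, Int.ofNat 0, Int.ofNat 2, Int.ofNat 0, Int.ofNat 0, Int.negSucc 1, Int.ofNat 0, Int.ofNat 0, Int.ofNat 0, Int.negSucc 1, Int.negSucc 1, Int.ofNat 0, Int.ofNat 0, Int.ofNat 0, Int.ofNat 2, Int.ofNat 0, Int.ofNat 2],
  [Int.ofNat 0, Int.ofNat 0, Int.ofNat 2, Int.ofNat 0, Int.negSucc 1, Int.ofNat 0, Int.ofNat 0, Int.ofNat 0, Int.ofNat 2, Int.ofNat 0, Int.ofNat 0, Int.negSucc 1, Int.ofNat 0, Int.ofNat 0, Int.ofNat 0, Int.negSucc 1, Int.negSucc 1, Int.ofNat 0, Int.ofNat 0, Int.ofNat 0, Int.ofNat 2, Int.ofNat 0, Int.ofNat 0, Int.ofNat 2],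
  [Int.ofNat 0, Int.ofNat 0, Int.negSucc 1, Int.ofNat 0, Int.negSucc 1, Int.ofNat 0, Int.ofNat 0, Int.ofNat 0, Int.ofNat 2, Int.ofNat 0, Int.ofNat 0, Int.ofNat 2, Int.ofNat 0, Int.ofNat 0, Int.ofNat 0, Int.negSucc 1, Int.negSucc 1, Int.ofNat 0, Int.ofNat 0, Int.ofNat 0, Int.ofNat 2, Int.ofNat 0, Int.ofNat 0, Int.ofNat 2],
  [Int.ofNat 0, Int.negSucc 1, Int.ofNat 0, Int.ofNat 0, Int.ofNat 0, Int.ofNat 0, Int.negSucc 1, Int.ofNat 2, Int.ofNat 0, Int.negSucc 1, Int.ofNat 0, Int.ofNat 0, Int.ofNat 0, Int.ofNat 2, Int.ofNat 0, Int.negSucc 1, Int.ofNat 0, Int.ofNat 0, Int.ofNat 0, Int.ofNat 0, Int.ofNat 0, Int.ofNat 0, Int.ofNat 2, Int.ofNat 2],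
  [Int.ofNat 0, Int.negSucc 1, Int.ofNat 0, Int.ofNat 0, Int.ofNat 0, Int.ofNat 0, Int.negSucc 1, Int.negSucc 1, Int.ofNat 0, Int.ofNat 2, Int.ofNat 0, Int.ofNat 0, Int.ofNat 0, Int.ofNat 2, Int.ofNat 0, Int.negSucc 1, Int.ofNat 0, Int.ofNat 0, Int.ofNat 0, Int.ofNat 0, Int.ofNat 0, Int.ofNat 0, Int.ofNat 2, Int.ofNat 2],
  [Int.ofNat 2, Int.ofNat 0, Int.negSucc 1, Int.ofNat 0, Int.ofNat 0, Int.ofNat 0, Int.ofNat 0, Int.negSucc 1, Int.negSucc 1, Int.ofNat 0, Int.ofNat 2, Int.ofNat 0, Int.ofNat 0, Int.ofNat 0, Int.ofNat 2, Int.ofNat 0, Int.negSucc 1, Int.ofNat 0, Int.ofNat 0, Int.ofNat 0, Int.ofNat 0, Int.ofNat 0, Int.ofNat 0, Int.ofNat 2],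
  [Int.negSucc 0, Int.ofNat 1, Int.ofNat 3, Int.negSucc 0, Int.ofNat 1, Int.negSucc 0, Int.ofNat 1, Int.negSucc 0, Int.negSucc 0, Int.negSucc 0, Int.ofNat 1, Int.ofNat 1, Int.ofNat 1, Int.ofNat 1, Int.ofNat 1, Int.negSucc 0, Int.negSucc 0, Int.negSucc 0, Int.ofNat 1, Int.ofNat 1, Int.negSucc 0, Int.ofNat 1, Int.ofNat 1, Int.negSucc 0],
  [Int.negSucc 0, Int.ofNat 1, Int.negSucc 0, Int.ofNat 1, Int.negSucc 0, Int.negSucc 0, Int.negSucc 0, Int.ofNat 1, Int.ofNat 1, Int.ofNat 1, Int.ofNat 1, Int.ofNat 1, Int.negSucc 0, Int.negSucc 0, Int.negSucc 0, Int.ofNat 1, Int.ofNat 1, Int.negSucc 0, Int.ofNat 1, Int.ofNat 1, Int.negSucc 0, Int.ofNat 1, Int.ofNat 3, Int.negSucc 0],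
  [Int.ofNat 0, Int.negSucc 1, Int.ofNat 0, Int.ofNat 2, Int.negSucc 1, Int.ofNat 0, Int.negSucc 1, Int.ofNat 0, Int.ofNat 0, Int.ofNat 0, Int.ofNat 0, Int.ofNat 0, Int.negSucc 1, Int.negSucc 1, Int.ofNat 0, Int.ofNat 0, Int.ofNat 0, Int.ofNat 0, Int.ofNat 0, Int.ofNat 0, Int.negSucc 1, Int.ofNat 0, Int.ofNat 2, Int.ofNat 0],
  [Int.ofNat 0, Int.negSucc 1, Int.negSucc 1, Int.ofNat 2, Int.ofNat 0, Int.ofNat 0, Int.ofNat 0, Int.ofNat 0, Int.negSucc 1, Int.negSucc 1, Int.negSucc 1, Int.ofNat 0, Int.ofNat 0, Int.ofNat 0, Int.ofNat 2, Int.ofNat 0, Int.ofNat 0, Int.ofNat 0, Int.negSucc 1, Int.ofNat 0, Int.ofNat 0, Int.ofNat 0, Int.ofNat 0, Int.ofNat 0],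
  [Int.negSucc 1, Int.ofNat 0, Int.ofNat 0, Int.ofNat 0, Int.ofNat 0, Int.negSucc 1, Int.ofNat 0, Int.ofNat 0, Int.ofNat 0, Int.ofNat 0, Int.ofNat 0, Int.ofNat 2, Int.ofNat 2, Int.ofNat 0, Int.ofNat 0, Int.ofNat 2, Int.ofNat 0, Int.negSucc 1, Int.ofNat 0, Int.ofNat 0, Int.ofNat 2, Int.ofNat 0, Int.ofNat 0, Int.negSucc 1],
  [Int.negSucc 1, Int.ofNat 0, Int.ofNat 0, Int.ofNat 0, Int.ofNat 0, Int.ofNat 2, Int.ofNat 0, Int.ofNat 0, Int.ofNat 0, Int.ofNat 0, Int.ofNat 0, Int.ofNat 2, Int.ofNat 2, Int.ofNat 0, Int.ofNat 0, Int.negSucc 1, Int.ofNat 0, Int.negSucc 1, Int.ofNat 0, Int.ofNat 0, Int.ofNat 2, Int.ofNat 0, Int.ofNat 0, Int.negSucc 1],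
  [Int.ofNat 0, Int.ofNat 0, Int.ofNat 2, Int.ofNat 0, Int.ofNat 0, Int.ofNat 0, Int.ofNat 0, Int.ofNat 0, Int.ofNat 2, Int.ofNat 2, Int.ofNat 0, Int.ofNat 0, Int.negSucc 1, Int.ofNat 0, Int.negSucc 1, Int.ofNat 0, Int.ofNat 0, Int.ofNat 2, Int.ofNat 0, Int.ofNat 0, Int.negSucc 1, Int.ofNat 0, Int.ofNat 0, Int.negSucc 1],
  [Int.ofNat 0, Int.ofNat 0, Int.negSucc 1, Int.ofNat 0, Int.ofNat 0, Int.ofNat 0, Int.ofNat 0, Int.ofNat 0, Int.negSucc 1, Int.negSucc 1, Int.ofNat 0, Int.ofNat 0, Int.ofNat 2, Int.ofNat 0, Int.negSucc 1, Int.ofNat 0, Int.ofNat 0, Int.ofNat 2, Int.ofNat 0, Int.ofNat 0, Int.negSucc 1, Int.ofNat 0, Int.ofNat 0, Int.negSucc 1],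
  [Int.negSucc 1, Int.ofNat 0, Int.ofNat 0, Int.ofNat 0, Int.ofNat 2, Int.negSucc 1, Int.ofNat 0, Int.ofNat 0, Int.negSucc 1, Int.ofNat 0, Int.ofNat 0, Int.negSucc 1, Int.ofNat 0, Int.ofNat 0, Int.ofNat 0, Int.ofNat 0, Int.ofNat 0, Int.ofNat 0, Int.negSucc 1, Int.ofNat 0, Int.negSucc 1, Int.ofNat 2, Int.ofNat 0, Int.ofNat 0],
  [Int.ofNat 2, Int.ofNat 0, Int.ofNat 0, Int.ofNat 0, Int.ofNat 2, Int.negSucc 1, Int.ofNat 0, Int.ofNat 0, Int.negSucc 1, Int.ofNat 0, Int.ofNat 0, Int.ofNat 2, Int.ofNat 0, Int.ofNat 0, Int.ofNat 0, Int.ofNat 0, Int.ofNat 0, Int.ofNat 0, Int.ofNat 2, Int.ofNat 0, Int.negSucc 1, Int.negSucc 1, Int.ofNat 0, Int.ofNat 0],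
  [Int.ofNat 0, Int.ofNat 2, Int.ofNat 0, Int.ofNat 0, Int.ofNat 0, Int.ofNat 2, Int.negSucc 1, Int.ofNat 0, Int.ofNat 0, Int.negSucc 1, Int.ofNat 0, Int.ofNat 0, Int.ofNat 2, Int.ofNat 0, Int.ofNat 0, Int.ofNat 0, Int.ofNat 0, Int.ofNat 0, Int.ofNat 0, Int.ofNat 2, Int.ofNat 0, Int.negSucc 1, Int.negSucc 1, Int.ofNat 0],
  [Int.ofNat 1, Int.negSucc 0, Int.ofNat 1, Int.negSucc 0, Int.ofNat 1, Int.ofNat 1, Int.negSucc 0, Int.ofNat 1, Int.negSucc 0, Int.negSucc 0, Int.ofNat 1, Int.negSucc 0, Int.ofNat 1, Int.ofNat 1, Int.negSucc 0, Int.ofNat 1, Int.ofNat 1, Int.negSucc 0, Int.negSucc 0, Int.ofNat 3, Int.ofNat 1, Int.negSucc 0, Int.negSucc 0, Int.ofNat 1],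
  [Int.negSucc 0, Int.ofNat 1, Int.ofNat 1, Int.negSucc 0, Int.ofNat 1, Int.negSucc 0, Int.negSucc 0, Int.ofNat 1, Int.negSucc 0, Int.ofNat 1, Int.ofNat 1, Int.negSucc 0, Int.ofNat 1, Int.ofNat 1, Int.negSucc 0, Int.negSucc 0, Int.ofNat 3, Int.ofNat 1, Int.negSucc 0, Int.negSucc 0, Int.ofNat 1, Int.negSucc 0, Int.ofNat 1, Int.ofNat 1],
  [Int.ofNat 2, Int.ofNat 0, Int.ofNat 0, Int.ofNat 0, Int.negSucc 1, Int.ofNat 0, Int.ofNat 0, Int.ofNat 2, Int.ofNat 0, Int.ofNat 0, Int.ofNat 0, Int.ofNat 0, Int.ofNat 2, Int.negSucc 1, Int.ofNat 0, Int.negSucc 1, Int.ofNat 0, Int.ofNat 2, Int.ofNat 0, Int.ofNat 0, Int.ofNat 0, Int.ofNat 0, Int.negSucc 1, Int.ofNat 0],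
  [Int.ofNat 2, Int.ofNat 0, Int.negSucc 1, Int.ofNat 0, Int.ofNat 0, Int.ofNat 2, Int.ofNat 0, Int.ofNat 0, Int.ofNat 2, Int.negSucc 1, Int.ofNat 0, Int.ofNat 2, Int.ofNat 0, Int.ofNat 0, Int.negSucc 1, Int.negSucc 1, Int.ofNat 0, Int.ofNat 0, Int.ofNat 0, Int.ofNat 0, Int.ofNat 0, Int.ofNat 0, Int.ofNat 0, Int.ofNat 0],
  [Int.negSucc 1, Int.ofNat 0, Int.ofNat 2, Int.ofNat 0, Int.ofNat 0, Int.ofNat 2, Int.ofNat 0, Int.ofNat 0, Int.ofNat 0, Int.ofNat 0, Int.ofNat 2, Int.ofNat 0, Int.negSucc 1, Int.ofNat 0, Int.negSucc 1, Int.ofNat 0, Int.ofNat 0, Int.ofNat 0, Int.negSucc 1, Int.ofNat 0, Int.ofNat 2, Int.ofNat 0, Int.ofNat 0, Int.ofNat 0],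
  [Int.negSucc 1, Int.ofNat 0, Int.negSucc 1, Int.ofNat 0, Int.ofNat 0, Int.negSucc 1, Int.ofNat 0, Int.ofNat 0, Int.ofNat 0, Int.ofNat 0, Int.negSucc 1, Int.ofNat 0, Int.negSucc 1, Int.ofNat 0, Int.negSucc 1, Int.ofNat 0, Int.ofNat 0, Int.ofNat 0, Int.ofNat 2, Int.ofNat 0, Int.ofNat 2, Int.ofNat 0, Int.ofNat 0, Int.ofNat 0],
  [Int.ofNat 0, Int.negSucc 1, Int.ofNat 0, Int.negSucc 1, Int.negSucc 1, Int.ofNat 0, Int.ofNat 2, Int.ofNat 0, Int.ofNat 0, Int.ofNat 0, Int.ofNat 0, Int.ofNat 0, Int.negSucc 1, Int.negSucc 1, Int.ofNat 0, Int.ofNat 0, Int.ofNat 0, Int.ofNat 0, Int.ofNat 0, Int.ofNat 0, Int.negSucc 1, Int.ofNat 0, Int.ofNat 2, Int.ofNat 0],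
  [Int.ofNat 0, Int.negSucc 1, Int.ofNat 0, Int.negSucc 1, Int.negSucc 1, Int.ofNat 0, Int.negSucc 1, Int.ofNat 0, Int.ofNat 0, Int.ofNat 0, Int.ofNat 0, Int.ofNat 0, Int.negSucc 1, Int.negSucc 1, Int.ofNat 0, Int.ofNat 0, Int.ofNat 0, Int.ofNat 0, Int.ofNat 0, Int.ofNat 0, Int.negSucc 1, Int.ofNat 0, Int.negSucc 1, Int.ofNat 0],
  [Int.negSucc 0, Int.ofNat 1, Int.negSucc 0, Int.negSucc 0, Int.ofNat 1, Int.ofNat 1, Int.negSucc 0, Int.ofNat 1, Int.ofNat 1, Int.ofNat 1, Int.ofNat 1, Int.ofNat 1, Int.negSucc 0, Int.ofNat 1, Int.ofNat 1, Int.ofNat 1, Int.ofNat 3, Int.ofNat 1, Int.ofNat 1, Int.ofNat 1, Int.negSucc 0, Int.ofNat 1, Int.ofNat 1, Int.negSucc 0],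
  [Int.negSucc 0, Int.ofNat 1, Int.negSucc 0, Int.negSucc 0, Int.negSucc 0, Int.ofNat 1, Int.ofNat 1, Int.ofNat 1, Int.ofNat 3, Int.negSucc 0, Int.ofNat 1, Int.ofNat 1, Int.ofNat 1, Int.ofNat 1, Int.ofNat 1, Int.ofNat 1, Int.ofNat 1, Int.ofNat 1, Int.ofNat 1, Int.ofNat 1, Int.ofNat 1, Int.negSucc 0, Int.ofNat 1, Int.negSucc 0],
  [Int.ofNat 0, Int.negSucc 1, Int.ofNat 0, Int.negSucc 1, Int.negSucc 1, Int.ofNat 0, Int.ofNat 0, Int.ofNat 0, Int.ofNat 0, Int.negSucc 1, Int.ofNat 0, Int.negSucc 1, Int.negSucc 1, Int.ofNat 0, Int.ofNat 0, Int.ofNat 0, Int.ofNat 0, Int.ofNat 0, Int.negSucc 1, Int.ofNat 0, Int.ofNat 0, Int.negSucc 1, Int.ofNat 0, Int.ofNat 0],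
  [Int.ofNat 0, Int.negSucc 1, Int.ofNat 0, Int.ofNat 0, Int.negSucc 1, Int.ofNat 0, Int.negSucc 1, Int.negSucc 1, Int.ofNat 0, Int.ofNat 0, Int.ofNat 0, Int.ofNat 0, Int.negSucc 1, Int.ofNat 0, Int.negSucc 1, Int.negSucc 1, Int.ofNat 0, Int.ofNat 0, Int.ofNat 0, Int.ofNat 0, Int.ofNat 0, Int.negSucc 1, Int.ofNat 0, Int.ofNat 0],
  [Int.negSucc 0, Int.ofNat 1, Int.negSucc 0, Int.ofNat 1, Int.negSucc 0, Int.ofNat 1, Int.ofNat 1, Int.ofNat 1, Int.ofNat 1, Int.ofNat 1, Int.ofNat 1, Int.ofNat 1, Int.negSucc 0, Int.ofNat 1, Int.negSucc 0, Int.negSucc 0, Int.ofNat 1, Int.ofNat 1, Int.ofNat 1, Int.ofNat 3, Int.ofNat 1, Int.ofNat 1, Int.ofNat 1, Int.negSucc 0],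
  [Int.ofNat 1, Int.negSucc 0, Int.ofNat 1, Int.negSucc 0, Int.ofNat 1, Int.ofNat 1, Int.ofNat 1, Int.ofNat 1, Int.ofNat 1, Int.ofNat 1, Int.ofNat 1, Int.negSucc 0, Int.ofNat 1, Int.negSucc 0, Int.negSucc 0, Int.ofNat 1, Int.ofNat 1, Int.ofNat 1, Int.ofNat 3, Int.ofNat 1, Int.ofNat 1, Int.ofNat 1, Int.negSucc 0, Int.negSucc 0],
  [Int.negSucc 0, Int.negSucc 0, Int.negSucc 0, Int.negSucc 0, Int.ofNat 1, Int.ofNat 1, Int.ofNat 1, Int.negSucc 0, Int.ofNat 1, Int.negSucc 0, Int.negSucc 0, Int.ofNat 1, Int.ofNat 1, Int.negSucc 0, Int.negSucc 0, Int.ofNat 1, Int.ofNat 1, Int.ofNat 1, Int.negSucc 2, Int.ofNat 1, Int.ofNat 1, Int.negSucc 0, Int.negSucc 0, Int.negSucc 0],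
  [Int.negSucc 0, Int.negSucc 0, Int.negSucc 2, Int.negSucc 0, Int.negSucc 0, Int.negSucc 0, Int.ofNat 1, Int.ofNat 1, Int.negSucc 0, Int.ofNat 1, Int.negSucc 0, Int.negSucc 0, Int.negSucc 0, Int.ofNat 1, Int.ofNat 1, Int.ofNat 1, Int.ofNat 1, Int.negSucc 0, Int.ofNat 1, Int.ofNat 1, Int.ofNat 1, Int.negSucc 0, Int.ofNat 1, Int.negSucc 0],
  [Int.ofNat 1, Int.negSucc 0, Int.ofNat 3, Int.negSucc 0, Int.negSucc 0, Int.negSucc 0, Int.ofNat 1, Int.negSucc 0, Int.negSucc 0, Int.negSucc 0, Int.ofNat 1, Int.ofNat 1, Int.negSucc 0, Int.ofNat 1, Int.ofNat 1, Int.ofNat 1, Int.ofNat 1, Int.negSucc 0, Int.negSucc 0, Int.ofNat 1, Int.ofNat 1, Int.ofNat 1, Int.ofNat 1, Int.negSucc 0],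
  [Int.ofNat 1, Int.ofNat 1, Int.negSucc 0, Int.ofNat 3, Int.negSucc 0, Int.negSucc 0, Int.negSucc 0, Int.ofNat 1, Int.negSucc 0, Int.negSucc 0, Int.negSucc 0, Int.ofNat 1, Int.ofNat 1, Int.negSucc 0, Int.ofNat 1, Int.ofNat 1, Int.ofNat 1, Int.ofNat 1, Int.negSucc 0, Int.negSucc 0, Int.ofNat 1, Int.ofNat 1, Int.ofNat 1, Int.negSucc 0],
  [Int.negSucc 0, Int.negSucc 0, Int.ofNat 1, Int.ofNat 1, Int.negSucc 0, Int.negSucc 2, Int.negSucc 0, Int.ofNat 1, Int.negSucc 0, Int.negSucc 0, Int.negSucc 0, Int.ofNat 1, Int.ofNat 1, Int.negSucc 0, Int.negSucc 0, Int.ofNat 1, Int.ofNat 1, Int.negSucc 0, Int.negSucc 0, Int.negSucc 0, Int.ofNat 1, Int.ofNat 1, Int.ofNat 1, Int.ofNat 1],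
  [Int.ofNat 1, Int.negSucc 0, Int.negSucc 2, Int.negSucc 0, Int.ofNat 1, Int.negSucc 0, Int.negSucc 0, Int.negSucc 0, Int.ofNat 1, Int.ofNat 1, Int.negSucc 0, Int.negSucc 0, Int.ofNat 1, Int.ofNat 1, Int.negSucc 0, Int.negSucc 0, Int.negSucc 0, Int.ofNat 1, Int.ofNat 1, Int.ofNat 1, Int.negSucc 0, Int.negSucc 0, Int.ofNat 1, Int.ofNat 1],
  [Int.negSucc 1, Int.ofNat 0, Int.ofNat 2, Int.ofNat 0, Int.ofNat 0, Int.ofNat 0, Int.ofNat 0, Int.ofNat 0, Int.ofNat 0, Int.ofNat 2, Int.ofNat 0, Int.negSucc 1, Int.ofNat 0, Int.ofNat 0, Int.ofNat 0, Int.ofNat 0, Int.negSucc 1, Int.ofNat 2, Int.ofNat 0, Int.ofNat 2, Int.ofNat 0, Int.ofNat 0, Int.ofNat 0, Int.negSucc 1],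
  [Int.negSucc 1, Int.ofNat 0, Int.ofNat 0, Int.ofNat 0, Int.ofNat 0, Int.ofNat 0, Int.ofNat 2, Int.ofNat 0, Int.ofNat 0, Int.ofNat 0, Int.ofNat 0, Int.ofNat 2, Int.ofNat 2, Int.negSucc 1, Int.ofNat 0, Int.ofNat 0, Int.ofNat 0, Int.ofNat 0, Int.ofNat 0, Int.negSucc 1, Int.ofNat 0, Int.ofNat 0, Int.ofNat 2, Int.negSucc 1],
  [Int.ofNat 0, Int.negSucc 1, Int.negSucc 1, Int.ofNat 0, Int.ofNat 0, Int.ofNat 0, Int.ofNat 2, Int.ofNat 0, Int.negSucc 1, Int.ofNat 0, Int.ofNat 0, Int.ofNat 0, Int.ofNat 0, Int.negSucc 1, Int.ofNat 0, Int.ofNat 0, Int.ofNat 0, Int.ofNat 0, Int.negSucc 1, Int.negSucc 1, Int.ofNat 0, Int.ofNat 0, Int.ofNat 2, Int.ofNat 0],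
  [Int.ofNat 0, Int.negSucc 1, Int.ofNat 2, Int.ofNat 0, Int.ofNat 0, Int.ofNat 0, Int.negSucc 1, Int.ofNat 0, Int.negSucc 1, Int.ofNat 0, Int.ofNat 0, Int.ofNat 0, Int.ofNat 0, Int.negSucc 1, Int.ofNat 0, Int.ofNat 0, Int.ofNat 0, Int.ofNat 0, Int.ofNat 2, Int.negSucc 1, Int.ofNat 0, Int.ofNat 0, Int.negSucc 1, Int.ofNat 0],
  [Int.ofNat 0, Int.ofNat 0, Int.ofNat 0, Int.negSucc 1, Int.ofNat 0, Int.negSucc 1, Int.ofNat 0, Int.ofNat 0, Int.ofNat 0, Int.ofNat 0, Int.negSucc 1, Int.ofNat 0, Int.ofNat 0, Int.ofNat 0, Int.ofNat 0, Int.ofNat 2, Int.negSucc 1, Int.ofNat 0, Int.ofNat 0, Int.ofNat 2, Int.ofNat 0, Int.negSucc 1, Int.negSucc 1, Int.ofNat 0],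
  [Int.ofNat 0, Int.ofNat 0, Int.ofNat 0, Int.ofNat 2, Int.ofNat 0, Int.negSucc 1, Int.ofNat 0, Int.ofNat 0, Int.ofNat 0, Int.ofNat 0, Int.negSucc 1, Int.ofNat 0, Int.ofNat 0, Int.ofNat 0, Int.ofNat 0, Int.ofNat 2, Int.ofNat 2, Int.ofNat 0, Int.ofNat 0, Int.ofNat 2, Int.ofNat 0, Int.negSucc 1, Int.negSucc 1, Int.ofNat 0],
  [Int.ofNat 0, Int.negSucc 1, Int.ofNat 0, Int.ofNat 2, Int.ofNat 0, Int.ofNat 0, Int.ofNat 2, Int.ofNat 0, Int.ofNat 0, Int.negSucc 1, Int.ofNat 2, Int.ofNat 0, Int.negSucc 1, Int.ofNat 0, Int.ofNat 0, Int.ofNat 2, Int.negSucc 1, Int.ofNat 0, Int.ofNat 0, Int.ofNat 0, Int.ofNat 0, Int.ofNat 0, Int.ofNat 0, Int.ofNat 0],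
  [Int.ofNat 0, Int.negSucc 1, Int.ofNat 0, Int.ofNat 2, Int.ofNat 0, Int.ofNat 0, Int.ofNat 2, Int.ofNat 0, Int.ofNat 0, Int.ofNat 2, Int.negSucc 1, Int.ofNat 0, Int.negSucc 1, Int.ofNat 0, Int.ofNat 0, Int.ofNat 2, Int.negSucc 1, Int.ofNat 0, Int.ofNat 0, Int.ofNat 0, Int.ofNat 0, Int.ofNat 0, Int.ofNat 0, Int.ofNat 0],
  [Int.ofNat 0, Int.ofNat 0, Int.negSucc 1, Int.ofNat 0, Int.ofNat 2, Int.ofNat 0, Int.ofNat 0, Int.ofNat 2, Int.ofNat 0, Int.ofNat 0, Int.ofNat 2, Int.negSucc 1, Int.ofNat 0, Int.negSucc 1, Int.ofNat 0, Int.ofNat 0, Int.ofNat 2, Int.negSucc 1, Int.ofNat 0, Int.ofNat 0, Int.ofNat 0, Int.ofNat 0, Int.ofNat 0, Int.ofNat 0],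
  [Int.negSucc 0, Int.negSucc 0, Int.ofNat 1, Int.ofNat 1, Int.ofNat 1, Int.ofNat 1, Int.negSucc 0, Int.ofNat 1, Int.ofNat 1, Int.negSucc 0, Int.ofNat 1, Int.negSucc 0, Int.ofNat 1, Int.negSucc 2, Int.ofNat 1, Int.negSucc 0, Int.ofNat 1, Int.negSucc 0, Int.ofNat 1, Int.negSucc 0, Int.negSucc 0, Int.negSucc 0, Int.negSucc 0, Int.negSucc 0],
  [Int.ofNat 1, Int.ofNat 1, Int.ofNat 1, Int.negSucc 0, Int.ofNat 1, Int.ofNat 1, Int.negSucc 0, Int.ofNat 1, Int.negSucc 0, Int.ofNat 1, Int.negSucc 2, Int.ofNat 1, Int.negSucc 0, Int.ofNat 1, Int.negSucc 0, Int.ofNat 1, Int.negSucc 0, Int.negSucc 0, Int.negSucc 0, Int.negSucc 0, Int.negSucc 0, Int.negSucc 0, Int.ofNat 1, Int.negSucc 0],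
  [Int.ofNat 0, Int.ofNat 0, Int.ofNat 0, Int.ofNat 0, Int.ofNat 0, Int.ofNat 2, Int.ofNat 0, Int.ofNat 2, Int.ofNat 0, Int.ofNat 2, Int.negSucc 1, Int.ofNat 2, Int.ofNat 0, Int.ofNat 0, Int.ofNat 0, Int.ofNat 2, Int.negSucc 1, Int.ofNat 0, Int.ofNat 0, Int.ofNat 0, Int.ofNat 0, Int.ofNat 0, Int.ofNat 0, Int.ofNat 2],
  [Int.ofNat 0, Int.ofNat 0, Int.ofNat 0, Int.ofNat 0, Int.ofNat 0, Int.ofNat 2, Int.ofNat 0, Int.negSucc 1, Int.ofNat 0, Int.ofNat 0, Int.ofNat 0, Int.ofNat 0, Int.ofNat 2, Int.negSucc 1, Int.ofNat 0, Int.ofNat 2, Int.ofNat 0, Int.ofNat 0, Int.ofNat 0, Int.ofNat 2, Int.ofNat 0, Int.ofNat 2, Int.ofNat 0, Int.ofNat 2],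
  [Int.ofNat 1, Int.ofNat 1, Int.ofNat 1, Int.negSucc 0, Int.ofNat 1, Int.ofNat 1, Int.negSucc 0, Int.negSucc 2, Int.negSucc 0, Int.negSucc 0, Int.negSucc 0, Int.negSucc 0, Int.ofNat 1, Int.negSucc 0, Int.negSucc 0, Int.ofNat 1, Int.ofNat 1, Int.negSucc 0, Int.negSucc 0, Int.ofNat 1, Int.negSucc 0, Int.ofNat 1, Int.ofNat 1, Int.negSucc 0],
  [Int.ofNat 1, Int.ofNat 1, Int.negSucc 0, Int.negSucc 0, Int.ofNat 1, Int.negSucc 0, Int.ofNat 1, Int.negSucc 2, Int.negSucc 0, Int.ofNat 1, Int.ofNat 1, Int.negSucc 0, Int.ofNat 1, Int.negSucc 0, Int.negSucc 0, Int.negSucc 0, Int.ofNat 1, Int.negSucc 0, Int.ofNat 1, Int.ofNat 1, Int.negSucc 0, Int.ofNat 1, Int.negSucc 0, Int.negSucc 0],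
  [Int.negSucc 0, Int.negSucc 0, Int.ofNat 1, Int.ofNat 1, Int.ofNat 1, Int.ofNat 1, Int.ofNat 1, Int.ofNat 1, Int.ofNat 1, Int.ofNat 1, Int.negSucc 0, Int.negSucc 0, Int.negSucc 0, Int.ofNat 1, Int.negSucc 0, Int.negSucc 0, Int.negSucc 2, Int.ofNat 1, Int.negSucc 0, Int.negSucc 0, Int.negSucc 0, Int.ofNat 1, Int.negSucc 0, Int.negSucc 0],
  [Int.negSucc 0, Int.negSucc 0, Int.negSucc 0, Int.ofNat 1, Int.ofNat 1, Int.negSucc 0, Int.negSucc 0, Int.ofNat 1, Int.ofNat 1, Int.negSucc 0, Int.ofNat 1, Int.negSucc 0, Int.negSucc 0, Int.ofNat 1, Int.negSucc 0, Int.ofNat 1, Int.negSucc 2, Int.ofNat 1, Int.ofNat 1, Int.negSucc 0, Int.negSucc 0, Int.ofNat 1, Int.ofNat 1, Int.negSucc 0],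
  [Int.negSucc 0, Int.negSucc 0, Int.negSucc 0, Int.ofNat 1, Int.ofNat 1, Int.negSucc 0, Int.negSucc 0, Int.ofNat 1, Int.ofNat 1, Int.negSucc 0, Int.ofNat 1, Int.negSucc 0, Int.negSucc 0, Int.ofNat 1, Int.negSucc 0, Int.ofNat 1, Int.negSucc 2, Int.ofNat 1, Int.ofNat 1, Int.negSucc 0, Int.negSucc 0, Int.ofNat 1, Int.ofNat 1, Int.negSucc 0],
  [Int.negSucc 0, Int.ofNat 1, Int.negSucc 0, Int.ofNat 1, Int.negSucc 0, Int.ofNat 1, Int.negSucc 0, Int.negSucc 0, Int.negSucc 2, Int.negSucc 0, Int.ofNat 1, Int.negSucc 0, Int.ofNat 1, Int.negSucc 0, Int.ofNat 1, Int.ofNat 1, Int.ofNat 1, Int.negSucc 0, Int.ofNat 1, Int.ofNat 1, Int.ofNat 1, Int.negSucc 0, Int.negSucc 0, Int.negSucc 0],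
  [Int.ofNat 0, Int.negSucc 1, Int.ofNat 0, Int.ofNat 0, Int.ofNat 0, Int.ofNat 0, Int.ofNat 0, Int.ofNat 0, Int.negSucc 1, Int.negSucc 1, Int.ofNat 0, Int.ofNat 0, Int.ofNat 2, Int.ofNat 0, Int.ofNat 0, Int.ofNat 0, Int.ofNat 2, Int.negSucc 1, Int.ofNat 2, Int.ofNat 2, Int.ofNat 0, Int.ofNat 0, Int.ofNat 0, Int.ofNat 0],
  [Int.ofNat 0, Int.ofNat 0, Int.ofNat 0, Int.ofNat 0, Int.negSucc 1, Int.ofNat 0, Int.ofNat 0, Int.ofNat 0, Int.ofNat 0, Int.ofNat 0, Int.ofNat 0, Int.negSucc 1, Int.negSucc 1, Int.ofNat 0, Int.ofNat 0, Int.ofNat 2, Int.ofNat 0, Int.ofNat 0, Int.ofNat 0, Int.ofNat 2, Int.negSucc 1, Int.ofNat 2, Int.ofNat 2, Int.ofNat 0],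
  [Int.ofNat 0, Int.ofNat 0, Int.ofNat 0, Int.ofNat 0, Int.negSucc 1, Int.ofNat 0, Int.negSucc 1, Int.negSucc 1, Int.ofNat 2, Int.ofNat 0, Int.ofNat 0, Int.ofNat 0, Int.ofNat 0, Int.ofNat 0, Int.ofNat 0, Int.ofNat 2, Int.ofNat 0, Int.ofNat 0, Int.ofNat 2, Int.ofNat 0, Int.negSucc 1, Int.ofNat 0, Int.ofNat 2, Int.ofNat 0],
  [Int.ofNat 0, Int.ofNat 0, Int.ofNat 0, Int.negSucc 1, Int.ofNat 0, Int.negSucc 1, Int.negSucc 1, Int.ofNat 2, Int.ofNat 0, Int.ofNat 0, Int.ofNat 0, Int.ofNat 0, Int.ofNat 0, Int.ofNat 0, Int.ofNat 2, Int.ofNat 0, Int.ofNat 0, Int.ofNat 2, Int.ofNat 0, Int.negSucc 1, Int.ofNat 0, Int.ofNat 2, Int.ofNat 0, Int.ofNat 0],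
  [Int.ofNat 0, Int.ofNat 0, Int.ofNat 0, Int.negSucc 1, Int.ofNat 0, Int.negSucc 1, Int.negSucc 1, Int.negSucc 1, Int.ofNat 0, Int.ofNat 0, Int.ofNat 0, Int.ofNat 0, Int.ofNat 0, Int.ofNat 0, Int.ofNat 2, Int.ofNat 0, Int.ofNat 0, Int.ofNat 2, Int.ofNat 0, Int.negSucc 1, Int.ofNat 0, Int.negSucc 1, Int.ofNat 0, Int.ofNat 0],
  [Int.ofNat 0, Int.ofNat 0, Int.ofNat 0, Int.negSucc 1, Int.ofNat 0, Int.ofNat 0, Int.ofNat 0, Int.ofNat 0, Int.ofNat 0, Int.ofNat 0, Int.negSucc 1, Int.ofNat 2, Int.ofNat 0, Int.ofNat 0, Int.negSucc 1, Int.ofNat 0, Int.ofNat 0, Int.ofNat 0, Int.negSucc 1, Int.ofNat 2, Int.negSucc 1, Int.negSucc 1, Int.ofNat 0, Int.ofNat 0],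
  [Int.ofNat 0, Int.ofNat 0, Int.ofNat 0, Int.negSucc 1, Int.ofNat 0, Int.ofNat 0, Int.ofNat 0, Int.ofNat 0, Int.ofNat 0, Int.ofNat 0, Int.ofNat 2, Int.negSucc 1, Int.ofNat 0, Int.ofNat 0, Int.negSucc 1, Int.ofNat 0, Int.ofNat 0, Int.ofNat 0, Int.ofNat 2, Int.ofNat 2, Int.negSucc 1, Int.ofNat 2, Int.ofNat 0, Int.ofNat 0],
  [Int.ofNat 0, Int.ofNat 0, Int.ofNat 0, Int.ofNat 0, Int.negSucc 1, Int.ofNat 0, Int.ofNat 0, Int.ofNat 0, Int.ofNat 0, Int.ofNat 0, Int.ofNat 0, Int.ofNat 2, Int.negSucc 1, Int.ofNat 0, Int.ofNat 0, Int.negSucc 1, Int.ofNat 0, Int.ofNat 0, Int.ofNat 0, Int.ofNat 2, Int.ofNat 2, Int.negSucc 1, Int.ofNat 2, Int.ofNat 0],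
  [Int.ofNat 0, Int.ofNat 0, Int.ofNat 0, Int.ofNat 0, Int.negSucc 1, Int.ofNat 0, Int.ofNat 0, Int.ofNat 0, Int.ofNat 0, Int.ofNat 0, Int.ofNat 0, Int.ofNat 2, Int.negSucc 1, Int.ofNat 0, Int.ofNat 0, Int.negSucc 1, Int.ofNat 0, Int.ofNat 0, Int.ofNat 0, Int.ofNat 2, Int.ofNat 2, Int.negSucc 1, Int.ofNat 2, Int.ofNat 0],
  [Int.ofNat 0, Int.negSucc 1, Int.ofNat 0, Int.ofNat 0, Int.ofNat 0, Int.ofNat 0, Int.ofNat 0, Int.ofNat 0, Int.ofNat 2, Int.negSucc 1, Int.ofNat 0, Int.ofNat 0, Int.negSucc 1, Int.ofNat 0, Int.ofNat 0, Int.ofNat 0, Int.ofNat 2, Int.ofNat 2, Int.negSucc 1, Int.ofNat 2, Int.ofNat 0, Int.ofNat 0, Int.ofNat 0, Int.ofNat 0],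
  [Int.negSucc 0, Int.ofNat 1, Int.negSucc 0, Int.negSucc 0, Int.negSucc 0, Int.negSucc 0, Int.negSucc 0, Int.negSucc 0, Int.ofNat 3, Int.negSucc 0, Int.ofNat 1, Int.ofNat 1, Int.negSucc 0, Int.negSucc 0, Int.negSucc 0, Int.ofNat 1, Int.ofNat 1, Int.ofNat 1, Int.negSucc 0, Int.ofNat 1, Int.ofNat 1, Int.negSucc 0, Int.negSucc 0, Int.negSucc 0],
  [Int.negSucc 0, Int.negSucc 0, Int.negSucc 0, Int.negSucc 0, Int.negSucc 0, Int.negSucc 0, Int.negSucc 0, Int.ofNat 1, Int.negSucc 0, Int.negSucc 0, Int.ofNat 1, Int.ofNat 1, Int.negSucc 0, Int.ofNat 1, Int.negSucc 0, Int.ofNat 1, Int.ofNat 3, Int.negSucc 0, Int.ofNat 1, Int.ofNat 1, Int.negSucc 0, Int.negSucc 0, Int.ofNat 1, Int.negSucc 0],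
  [Int.negSucc 0, Int.negSucc 0, Int.negSucc 0, Int.ofNat 1, Int.negSucc 2, Int.ofNat 1, Int.negSucc 0, Int.ofNat 1, Int.negSucc 0, Int.negSucc 0, Int.ofNat 1, Int.ofNat 1, Int.negSucc 0, Int.negSucc 0, Int.ofNat 1, Int.ofNat 1, Int.ofNat 1, Int.ofNat 1, Int.ofNat 1, Int.ofNat 1, Int.negSucc 0, Int.negSucc 0, Int.negSucc 0, Int.negSucc 0],
  [Int.negSucc 0, Int.negSucc 0, Int.ofNat 1, Int.ofNat 1, Int.negSucc 2, Int.negSucc 0, Int.ofNat 1, Int.ofNat 1, Int.negSucc 0, Int.ofNat 1, Int.negSucc 0, Int.ofNat 1, Int.negSucc 0, Int.negSucc 0, Int.ofNat 1, Int.negSucc 0, Int.ofNat 1, Int.ofNat 1, Int.negSucc 0, Int.ofNat 1, Int.negSucc 0, Int.negSucc 0, Int.ofNat 1, Int.negSucc 0],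
  [Int.negSucc 0, Int.ofNat 1, Int.ofNat 1, Int.negSucc 0, Int.ofNat 1, Int.ofNat 1, Int.negSucc 0, Int.ofNat 1, Int.negSucc 0, Int.negSucc 0, Int.negSucc 0, Int.ofNat 1, Int.negSucc 0, Int.negSucc 2, Int.ofNat 1, Int.negSucc 0, Int.ofNat 1, Int.negSucc 0, Int.ofNat 1, Int.ofNat 1, Int.negSucc 0, Int.negSucc 0, Int.ofNat 1, Int.negSucc 0],
  [Int.ofNat 1, Int.negSucc 0, Int.negSucc 0, Int.ofNat 1, Int.negSucc 0, Int.ofNat 1, Int.ofNat 1, Int.ofNat 1, Int.ofNat 1, Int.ofNat 1, Int.negSucc 0, Int.ofNat 1, Int.ofNat 1, Int.ofNat 3, Int.ofNat 1, Int.negSucc 0, Int.negSucc 0, Int.negSucc 0, Int.negSucc 0, Int.ofNat 1, Int.negSucc 0, Int.negSucc 0, Int.ofNat 1, Int.negSucc 0],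
  [Int.negSucc 0, Int.ofNat 1, Int.ofNat 1, Int.negSucc 0, Int.negSucc 0, Int.ofNat 1, Int.ofNat 1, Int.ofNat 3, Int.negSucc 0, Int.ofNat 1, Int.negSucc 0, Int.negSucc 0, Int.negSucc 0, Int.ofNat 1, Int.negSucc 0, Int.ofNat 1, Int.negSucc 0, Int.negSucc 0, Int.ofNat 1, Int.ofNat 1, Int.ofNat 1, Int.ofNat 1, Int.negSucc 0, Int.ofNat 1],
  [Int.ofNat 1, Int.ofNat 1, Int.negSucc 0, Int.negSucc 0, Int.negSucc 0, Int.ofNat 1, Int.ofNat 1, Int.negSucc 2, Int.negSucc 0, Int.negSucc 0, Int.ofNat 1, Int.ofNat 1, Int.negSucc 0, Int.ofNat 1, Int.negSucc 0, Int.ofNat 1, Int.negSucc 0, Int.negSucc 0, Int.negSucc 0, Int.ofNat 1, Int.ofNat 1, Int.negSucc 0, Int.negSucc 0, Int.ofNat 1],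
  [Int.negSucc 0, Int.ofNat 1, Int.ofNat 1, Int.negSucc 0, Int.negSucc 0, Int.negSucc 0, Int.ofNat 1, Int.ofNat 1, Int.negSucc 2, Int.negSucc 0, Int.negSucc 0, Int.ofNat 1, Int.ofNat 1, Int.negSucc 0, Int.ofNat 1, Int.negSucc 0, Int.ofNat 1, Int.negSucc 0, Int.negSucc 0, Int.negSucc 0, Int.ofNat 1, Int.ofNat 1, Int.negSucc 0, Int.ofNat 1],
  [Int.ofNat 2, Int.ofNat 0, Int.ofNat 0, Int.ofNat 0, Int.ofNat 0, Int.ofNat 0, Int.ofNat 0, Int.ofNat 0, Int.negSucc 1, Int.ofNat 0, Int.ofNat 0, Int.ofNat 2, Int.ofNat 2, Int.ofNat 0, Int.ofNat 2, Int.ofNat 0, Int.ofNat 2, Int.ofNat 0, Int.ofNat 0, Int.negSucc 1, Int.ofNat 2, Int.ofNat 0, Int.ofNat 0, Int.ofNat 0],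
  [Int.ofNat 0, Int.ofNat 0, Int.ofNat 0, Int.ofNat 0, Int.ofNat 0, Int.negSucc 1, Int.ofNat 0, Int.ofNat 0, Int.ofNat 2, Int.ofNat 2, Int.ofNat 0, Int.ofNat 2, Int.ofNat 0, Int.ofNat 2, Int.ofNat 0, Int.ofNat 0, Int.negSucc 1, Int.ofNat 2, Int.ofNat 0, Int.ofNat 0, Int.ofNat 2, Int.ofNat 0, Int.ofNat 0, Int.ofNat 0],
  [Int.ofNat 0, Int.ofNat 0, Int.ofNat 0, Int.ofNat 0, Int.ofNat 0, Int.negSucc 1, Int.ofNat 0, Int.ofNat 0, Int.ofNat 0, Int.ofNat 0, Int.negSucc 1, Int.ofNat 0, Int.negSucc 1, Int.ofNat 2, Int.ofNat 0, Int.negSucc 1, Int.negSucc 1, Int.ofNat 2, Int.negSucc 1, Int.ofNat 0, Int.ofNat 0, Int.ofNat 0, Int.ofNat 0, Int.ofNat 0],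
  [Int.ofNat 0, Int.ofNat 0, Int.ofNat 0, Int.ofNat 0, Int.negSucc 1, Int.ofNat 0, Int.ofNat 0, Int.negSucc 1, Int.negSucc 1, Int.ofNat 2, Int.ofNat 0, Int.ofNat 2, Int.ofNat 0, Int.negSucc 1, Int.ofNat 0, Int.negSucc 1, Int.ofNat 0, Int.ofNat 0, Int.ofNat 0, Int.ofNat 0, Int.ofNat 0, Int.negSucc 1, Int.ofNat 0, Int.ofNat 0],
  [Int.ofNat 0, Int.ofNat 0, Int.ofNat 0, Int.ofNat 0, Int.ofNat 0, Int.ofNat 0, Int.ofNat 2, Int.ofNat 0, Int.negSucc 1, Int.ofNat 2, Int.ofNat 0, Int.ofNat 2, Int.ofNat 0, Int.ofNat 0, Int.ofNat 0, Int.negSucc 1, Int.ofNat 2, Int.ofNat 0, Int.ofNat 0, Int.ofNat 2, Int.ofNat 0, Int.ofNat 0, Int.ofNat 2, Int.ofNat 0],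
  [Int.ofNat 0, Int.ofNat 0, Int.ofNat 0, Int.ofNat 0, Int.ofNat 0, Int.ofNat 0, Int.negSucc 1, Int.ofNat 0, Int.negSucc 1, Int.negSucc 1, Int.ofNat 0, Int.ofNat 2, Int.ofNat 0, Int.ofNat 0, Int.ofNat 0, Int.ofNat 2, Int.ofNat 2, Int.ofNat 0, Int.ofNat 0, Int.ofNat 2, Int.ofNat 0, Int.ofNat 0, Int.negSucc 1, Int.ofNat 0],
  [Int.ofNat 0, Int.ofNat 0, Int.ofNat 0, Int.ofNat 0, Int.ofNat 0, Int.negSucc 1, Int.ofNat 0, Int.ofNat 0, Int.ofNat 0, Int.negSucc 1, Int.ofNat 0, Int.ofNat 2, Int.ofNat 0, Int.ofNat 0, Int.ofNat 0, Int.negSucc 1, Int.ofNat 0, Int.ofNat 2, Int.ofNat 2, Int.negSucc 1, Int.ofNat 0, Int.ofNat 2, Int.ofNat 0, Int.ofNat 0],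
  [Int.ofNat 0, Int.ofNat 0, Int.ofNat 0, Int.ofNat 0, Int.ofNat 0, Int.ofNat 2, Int.ofNat 0, Int.ofNat 0, Int.ofNat 0, Int.ofNat 2, Int.ofNat 0, Int.ofNat 2, Int.ofNat 0, Int.ofNat 0, Int.ofNat 0, Int.ofNat 2, Int.ofNat 0, Int.ofNat 2, Int.negSucc 1, Int.negSucc 1, Int.ofNat 0, Int.ofNat 2, Int.ofNat 0, Int.ofNat 0],
  [Int.ofNat 0, Int.ofNat 0, Int.ofNat 0, Int.negSucc 1, Int.ofNat 0, Int.ofNat 0, Int.ofNat 0, Int.ofNat 0, Int.ofNat 0, Int.ofNat 0, Int.negSucc 1, Int.ofNat 2, Int.ofNat 0, Int.ofNat 0, Int.negSucc 1, Int.ofNat 0, Int.ofNat 0, Int.ofNat 0, Int.negSucc 1, Int.negSucc 1, Int.negSucc 1, Int.ofNat 2, Int.ofNat 0, Int.ofNat 0],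
  [Int.ofNat 0, Int.negSucc 1, Int.ofNat 0, Int.negSucc 1, Int.ofNat 0, Int.ofNat 2, Int.ofNat 0, Int.ofNat 0, Int.ofNat 0, Int.ofNat 0, Int.ofNat 0, Int.negSucc 1, Int.ofNat 0, Int.ofNat 0, Int.ofNat 0, Int.ofNat 0, Int.ofNat 0, Int.ofNat 2, Int.ofNat 0, Int.ofNat 0, Int.negSucc 1, Int.negSucc 1, Int.negSucc 1, Int.ofNat 0],
  [Int.negSucc 0, Int.ofNat 1, Int.negSucc 0, Int.negSucc 2, Int.ofNat 1, Int.ofNat 1, Int.ofNat 1, Int.ofNat 1, Int.ofNat 1, Int.ofNat 1, Int.ofNat 1, Int.negSucc 0, Int.ofNat 1, Int.ofNat 1, Int.negSucc 0, Int.ofNat 1, Int.ofNat 1, Int.ofNat 1, Int.ofNat 1, Int.ofNat 1, Int.negSucc 0, Int.negSucc 0, Int.negSucc 0, Int.negSucc 0],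
  [Int.negSucc 0, Int.negSucc 0, Int.negSucc 0, Int.negSucc 0, Int.ofNat 1, Int.negSucc 0, Int.negSucc 2, Int.ofNat 1, Int.ofNat 1, Int.ofNat 1, Int.ofNat 1, Int.ofNat 1, Int.ofNat 1, Int.ofNat 1, Int.negSucc 0, Int.ofNat 1, Int.ofNat 1, Int.negSucc 0, Int.ofNat 1, Int.ofNat 1, Int.ofNat 1, Int.ofNat 1, Int.ofNat 1, Int.negSucc 0],
  [Int.negSucc 0, Int.negSucc 0, Int.negSucc 0, Int.ofNat 1, Int.negSucc 0, Int.ofNat 1, Int.negSucc 2, Int.ofNat 1, Int.negSucc 0, Int.negSucc 0, Int.negSucc 0, Int.negSucc 0, Int.negSucc 0, Int.negSucc 0, Int.ofNat 1, Int.negSucc 0, Int.negSucc 0, Int.ofNat 1, Int.negSucc 0, Int.ofNat 1, Int.negSucc 0, Int.ofNat 1, Int.negSucc 0, Int.negSucc 0],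
  [Int.negSucc 0, Int.negSucc 0, Int.ofNat 1, Int.negSucc 0, Int.ofNat 1, Int.negSucc 2, Int.ofNat 1, Int.negSucc 0, Int.negSucc 0, Int.negSucc 0, Int.negSucc 0, Int.negSucc 0, Int.negSucc 0, Int.ofNat 1, Int.negSucc 0, Int.negSucc 0, Int.ofNat 1, Int.negSucc 0, Int.ofNat 1, Int.negSucc 0, Int.ofNat 1, Int.negSucc 0, Int.negSucc 0, Int.negSucc 0],
  [Int.ofNat 1, Int.negSucc 0, Int.negSucc 0, Int.negSucc 0, Int.ofNat 1, Int.negSucc 2, Int.ofNat 1, Int.ofNat 1, Int.negSucc 0, Int.ofNat 1, Int.ofNat 1, Int.ofNat 1, Int.negSucc 0, Int.ofNat 1, Int.negSucc 0, Int.negSucc 0, Int.ofNat 1, Int.negSucc 0, Int.negSucc 0, Int.negSucc 0, Int.ofNat 1, Int.ofNat 1, Int.negSucc 0, Int.negSucc 0],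
  [Int.ofNat 1, Int.negSucc 0, Int.negSucc 0, Int.negSucc 0, Int.negSucc 0, Int.ofNat 1, Int.ofNat 1, Int.ofNat 1, Int.ofNat 1, Int.ofNat 1, Int.ofNat 1, Int.negSucc 0, Int.ofNat 1, Int.negSucc 0, Int.negSucc 0, Int.negSucc 0, Int.negSucc 0, Int.negSucc 0, Int.ofNat 1, Int.negSucc 0, Int.negSucc 2, Int.ofNat 1, Int.ofNat 1, Int.negSucc 0],
  [Int.negSucc 0, Int.negSucc 0, Int.ofNat 1, Int.negSucc 0, Int.negSucc 0, Int.ofNat 1, Int.ofNat 1, Int.negSucc 0, Int.ofNat 1, Int.negSucc 0, Int.negSucc 0, Int.ofNat 1, Int.ofNat 1, Int.negSucc 0, Int.negSucc 0, Int.negSucc 0, Int.negSucc 0, Int.negSucc 0, Int.negSucc 0, Int.negSucc 0, Int.negSucc 2, Int.negSucc 0, Int.ofNat 1, Int.negSucc 0],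
  [Int.ofNat 1, Int.negSucc 0, Int.negSucc 0, Int.ofNat 1, Int.negSucc 0, Int.negSucc 0, Int.ofNat 1, Int.ofNat 1, Int.negSucc 0, Int.ofNat 1, Int.negSucc 0, Int.negSucc 0, Int.ofNat 1, Int.ofNat 1, Int.negSucc 0, Int.negSucc 0, Int.negSucc 0, Int.negSucc 0, Int.negSucc 0, Int.negSucc 0, Int.negSucc 0, Int.negSucc 2, Int.negSucc 0, Int.negSucc 0],
  [Int.negSucc 1, Int.ofNat 0, Int.ofNat 0, Int.ofNat 2, Int.ofNat 0, Int.ofNat 0, Int.ofNat 2, Int.ofNat 2, Int.ofNat 0, Int.ofNat 2, Int.ofNat 0, Int.ofNat 0, Int.ofNat 2, Int.ofNat 2, Int.ofNat 0, Int.ofNat 0, Int.ofNat 0, Int.ofNat 0, Int.ofNat 0, Int.ofNat 0, Int.ofNat 0, Int.negSucc 1, Int.ofNat 0, Int.ofNat 0],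
  [Int.ofNat 2, Int.ofNat 0, Int.ofNat 0, Int.ofNat 2, Int.ofNat 2, Int.ofNat 0, Int.ofNat 2, Int.ofNat 0, Int.ofNat 0, Int.ofNat 2, Int.ofNat 2, Int.ofNat 0, Int.ofNat 0, Int.ofNat 0, Int.ofNat 0, Int.ofNat 0, Int.ofNat 0, Int.ofNat 0, Int.negSucc 1, Int.ofNat 0, Int.negSucc 1, Int.ofNat 0, Int.ofNat 0, Int.ofNat 0],
  [Int.negSucc 0, Int.ofNat 1, Int.ofNat 1, Int.ofNat 1, Int.ofNat 1, Int.negSucc 0, Int.ofNat 1, Int.negSucc 0, Int.ofNat 1, Int.ofNat 1, Int.ofNat 1, Int.ofNat 1, Int.ofNat 1, Int.negSucc 0, Int.negSucc 0, Int.negSucc 0, Int.negSucc 0, Int.negSucc 0, Int.negSucc 0, Int.negSucc 0, Int.negSucc 2, Int.negSucc 0, Int.negSucc 0, Int.ofNat 1],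
  [Int.negSucc 0, Int.ofNat 1, Int.ofNat 1, Int.ofNat 1, Int.negSucc 0, Int.negSucc 0, Int.ofNat 1, Int.ofNat 1, Int.ofNat 1, Int.negSucc 0, Int.negSucc 2, Int.negSucc 0, Int.ofNat 1, Int.negSucc 0, Int.negSucc 0, Int.negSucc 0, Int.ofNat 1, Int.negSucc 0, Int.ofNat 1, Int.ofNat 1, Int.negSucc 0, Int.negSucc 0, Int.negSucc 0, Int.ofNat 1],
  [Int.ofNat 2, Int.ofNat 0, Int.ofNat 0, Int.ofNat 2, Int.ofNat 0, Int.ofNat 0, Int.ofNat 0, Int.ofNat 0, Int.ofNat 0, Int.ofNat 2, Int.ofNat 0, Int.negSucc 1, Int.ofNat 0, Int.ofNat 0, Int.ofNat 0, Int.ofNat 2, Int.ofNat 2, Int.ofNat 0, Int.ofNat 0, Int.ofNat 0, Int.ofNat 2, Int.negSucc 1, Int.ofNat 0, Int.ofNat 0],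
  [Int.ofNat 2, Int.ofNat 0, Int.ofNat 0, Int.ofNat 2, Int.ofNat 0, Int.ofNat 0, Int.ofNat 0, Int.ofNat 0, Int.ofNat 0, Int.negSucc 1, Int.ofNat 0, Int.negSucc 1, Int.ofNat 0, Int.ofNat 0, Int.ofNat 0, Int.negSucc 1, Int.ofNat 2, Int.ofNat 0, Int.ofNat 0, Int.ofNat 0, Int.ofNat 2, Int.negSucc 1, Int.ofNat 0, Int.ofNat 0],
  [Int.ofNat 0, Int.ofNat 2, Int.negSucc 1, Int.ofNat 0, Int.ofNat 0, Int.ofNat 0, Int.negSucc 1, Int.ofNat 2, Int.ofNat 0, Int.ofNat 2, Int.ofNat 0, Int.ofNat 0, Int.negSucc 1, Int.ofNat 0, Int.ofNat 0, Int.ofNat 0, Int.ofNat 0, Int.ofNat 0, Int.negSucc 1, Int.ofNat 0, Int.ofNat 2, Int.ofNat 0, Int.ofNat 0, Int.ofNat 0],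
  [Int.ofNat 0, Int.negSucc 1, Int.ofNat 2, Int.ofNat 0, Int.ofNat 0, Int.ofNat 0, Int.ofNat 2, Int.ofNat 2, Int.ofNat 0, Int.negSucc 1, Int.ofNat 0, Int.ofNat 0, Int.ofNat 2, Int.ofNat 0, Int.ofNat 0, Int.ofNat 0, Int.ofNat 0, Int.ofNat 0, Int.ofNat 2, Int.ofNat 0, Int.ofNat 2, Int.ofNat 0, Int.ofNat 0, Int.ofNat 0],
  [Int.ofNat 0, Int.ofNat 0, Int.ofNat 0, Int.ofNat 0, Int.ofNat 0, Int.negSucc 1, Int.ofNat 0, Int.ofNat 0, Int.ofNat 2, Int.ofNat 0, Int.ofNat 0, Int.ofNat 2, Int.ofNat 0, Int.ofNat 2, Int.ofNat 2, Int.ofNat 0, Int.ofNat 0, Int.ofNat 0, Int.ofNat 0, Int.ofNat 2, Int.ofNat 0, Int.ofNat 2, Int.negSucc 1, Int.ofNat 0],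
  [Int.ofNat 0, Int.ofNat 0, Int.ofNat 0, Int.ofNat 0, Int.ofNat 0, Int.negSucc 1, Int.ofNat 0, Int.ofNat 0, Int.ofNat 2, Int.ofNat 0, Int.ofNat 0, Int.negSucc 1, Int.ofNat 0, Int.ofNat 2, Int.ofNat 2, Int.ofNat 0, Int.ofNat 0, Int.ofNat 0, Int.ofNat 0, Int.ofNat 2, Int.ofNat 0, Int.negSucc 1, Int.negSucc 1, Int.ofNat 0],
  [Int.negSucc 1, Int.ofNat 0, Int.ofNat 0, Int.ofNat 0, Int.ofNat 0, Int.ofNat 0, Int.negSucc 1, Int.ofNat 0, Int.ofNat 0, Int.ofNat 2, Int.ofNat 0, Int.ofNat 0, Int.negSucc 1, Int.ofNat 0, Int.ofNat 2, Int.ofNat 2, Int.ofNat 0, Int.ofNat 0, Int.ofNat 0, Int.ofNat 0, Int.ofNat 2, Int.ofNat 0, Int.negSucc 1, Int.ofNat 0],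
  [Int.ofNat 1, Int.negSucc 0, Int.negSucc 0, Int.negSucc 0, Int.ofNat 1, Int.negSucc 0, Int.negSucc 0, Int.ofNat 1, Int.ofNat 1, Int.negSucc 0, Int.negSucc 2, Int.ofNat 1, Int.negSucc 0, Int.ofNat 1, Int.ofNat 1, Int.negSucc 0, Int.ofNat 1, Int.negSucc 0, Int.ofNat 1, Int.ofNat 1, Int.negSucc 0, Int.ofNat 1, Int.negSucc 0, Int.negSucc 0],
  [Int.negSucc 0, Int.ofNat 1, Int.negSucc 0, Int.negSucc 0, Int.ofNat 1, Int.ofNat 1, Int.negSucc 0, Int.negSucc 2, Int.ofNat 1, Int.negSucc 0, Int.ofNat 1, Int.ofNat 1, Int.negSucc 0, Int.ofNat 1, Int.negSucc 0, Int.ofNat 1, Int.ofNat 1, Int.negSucc 0, Int.ofNat 1, Int.negSucc 0, Int.ofNat 1, Int.negSucc 0, Int.negSucc 0, Int.negSucc 0],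
  [Int.ofNat 0, Int.negSucc 1, Int.ofNat 0, Int.ofNat 0, Int.ofNat 0, Int.ofNat 2, Int.ofNat 2, Int.ofNat 0, Int.ofNat 0, Int.negSucc 1, Int.ofNat 0, Int.ofNat 0, Int.negSucc 1, Int.ofNat 0, Int.ofNat 0, Int.ofNat 0, Int.ofNat 0, Int.ofNat 0, Int.ofNat 0, Int.ofNat 2, Int.ofNat 0, Int.ofNat 2, Int.negSucc 1, Int.ofNat 0],
  [Int.ofNat 0, Int.ofNat 2, Int.ofNat 0, Int.ofNat 0, Int.ofNat 0, Int.ofNat 0, Int.ofNat 0, Int.ofNat 0, Int.negSucc 1, Int.ofNat 0, Int.ofNat 0, Int.ofNat 0, Int.negSucc 1, Int.ofNat 0, Int.negSucc 1, Int.ofNat 0, Int.ofNat 0, Int.ofNat 0, Int.negSucc 1, Int.ofNat 0, Int.ofNat 2, Int.ofNat 2, Int.ofNat 2, Int.ofNat 0],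
  [Int.ofNat 1, Int.negSucc 0, Int.ofNat 1, Int.ofNat 1, Int.negSucc 0, Int.ofNat 1, Int.negSucc 0, Int.negSucc 0, Int.ofNat 1, Int.negSucc 0, Int.negSucc 0, Int.ofNat 3, Int.ofNat 1, Int.negSucc 0, Int.negSucc 0, Int.negSucc 0, Int.negSucc 0, Int.ofNat 1, Int.ofNat 1, Int.negSucc 0, Int.ofNat 1, Int.ofNat 1, Int.ofNat 1, Int.ofNat 1],
  [Int.ofNat 1, Int.negSucc 0, Int.negSucc 0, Int.ofNat 1, Int.negSucc 0, Int.negSucc 0, Int.ofNat 1, Int.negSucc 0, Int.ofNat 1, Int.ofNat 1, Int.ofNat 1, Int.ofNat 3, Int.ofNat 1, Int.negSucc 0, Int.negSucc 0, Int.ofNat 1, Int.negSucc 0, Int.ofNat 1, Int.negSucc 0, Int.negSucc 0, Int.ofNat 1, Int.ofNat 1, Int.negSucc 0, Int.ofNat 1],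
  [Int.ofNat 1, Int.negSucc 0, Int.ofNat 1, Int.ofNat 1, Int.ofNat 1, Int.ofNat 1, Int.negSucc 0, Int.negSucc 0, Int.negSucc 0, Int.ofNat 1, Int.negSucc 0, Int.ofNat 1, Int.negSucc 0, Int.ofNat 1, Int.ofNat 1, Int.negSucc 0, Int.negSucc 0, Int.negSucc 0, Int.ofNat 3, Int.ofNat 1, Int.negSucc 0, Int.negSucc 0, Int.ofNat 1, Int.ofNat 1],
  [Int.ofNat 1, Int.negSucc 0, Int.negSucc 0, Int.ofNat 1, Int.ofNat 1, Int.negSucc 0, Int.ofNat 1, Int.negSucc 0, Int.negSucc 0, Int.negSucc 0, Int.ofNat 1, Int.ofNat 1, Int.negSucc 0, Int.ofNat 1, Int.ofNat 1, Int.ofNat 1, Int.negSucc 0, Int.negSucc 0, Int.negSucc 2, Int.ofNat 1, Int.negSucc 0, Int.negSucc 0, Int.negSucc 0, Int.ofNat 1],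
  [Int.negSucc 0, Int.ofNat 1, Int.ofNat 1, Int.ofNat 1, Int.ofNat 1, Int.negSucc 0, Int.ofNat 1, Int.negSucc 0, Int.ofNat 1, Int.negSucc 0, Int.ofNat 1, Int.ofNat 3, Int.ofNat 1, Int.ofNat 1, Int.ofNat 1, Int.ofNat 1, Int.negSucc 0, Int.negSucc 0, Int.negSucc 0, Int.ofNat 1, Int.negSucc 0, Int.negSucc 0, Int.negSucc 0, Int.negSucc 0],
  [Int.negSucc 0, Int.negSucc 0, Int.ofNat 1, Int.ofNat 1, Int.ofNat 1, Int.negSucc 0, Int.ofNat 1, Int.negSucc 0, Int.negSucc 0, Int.ofNat 1, Int.negSucc 0, Int.ofNat 1, Int.ofNat 1, Int.negSucc 0, Int.negSucc 0, Int.ofNat 1, Int.ofNat 1, Int.ofNat 3, Int.ofNat 1, Int.negSucc 0, Int.ofNat 1, Int.negSucc 0, Int.ofNat 1, Int.negSucc 0],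
  [Int.ofNat 0, Int.ofNat 0, Int.negSucc 1, Int.ofNat 0, Int.ofNat 0, Int.negSucc 1, Int.ofNat 2, Int.ofNat 0, Int.negSucc 1, Int.ofNat 0, Int.negSucc 1, Int.ofNat 0, Int.ofNat 0, Int.negSucc 1, Int.negSucc 1, Int.ofNat 0, Int.ofNat 0, Int.ofNat 2, Int.ofNat 0, Int.ofNat 0, Int.ofNat 0, Int.ofNat 0, Int.ofNat 0, Int.ofNat 0],
  [Int.ofNat 0, Int.ofNat 0, Int.ofNat 0, Int.ofNat 0, Int.ofNat 0, Int.negSucc 1, Int.ofNat 0, Int.ofNat 0, Int.negSucc 1, Int.ofNat 2, Int.ofNat 0, Int.negSucc 1, Int.ofNat 0, Int.negSucc 1, Int.ofNat 0, Int.ofNat 0, Int.negSucc 1, Int.negSucc 1, Int.ofNat 0, Int.ofNat 0, Int.ofNat 2, Int.ofNat 0, Int.ofNat 0, Int.ofNat 0],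
  [Int.ofNat 0, Int.ofNat 0, Int.ofNat 0, Int.ofNat 2, Int.ofNat 2, Int.ofNat 0, Int.ofNat 0, Int.ofNat 0, Int.ofNat 0, Int.ofNat 0, Int.negSucc 1, Int.ofNat 0, Int.ofNat 2, Int.ofNat 0, Int.ofNat 2, Int.negSucc 1, Int.ofNat 0, Int.ofNat 0, Int.ofNat 2, Int.ofNat 0, Int.ofNat 0, Int.ofNat 0, Int.ofNat 2, Int.ofNat 0],
  [Int.ofNat 0, Int.ofNat 0, Int.ofNat 2, Int.ofNat 2, Int.ofNat 0, Int.ofNat 0, Int.ofNat 0, Int.ofNat 0, Int.ofNat 0, Int.negSucc 1, Int.ofNat 0, Int.ofNat 2, Int.ofNat 0, Int.ofNat 2, Int.negSucc 1, Int.ofNat 0, Int.ofNat 0, Int.ofNat 2, Int.ofNat 0, Int.ofNat 0, Int.ofNat 0, Int.ofNat 2, Int.ofNat 0, Int.ofNat 0],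
  [Int.ofNat 0, Int.ofNat 0, Int.negSucc 1, Int.ofNat 2, Int.ofNat 0, Int.ofNat 0, Int.ofNat 0, Int.ofNat 0, Int.ofNat 0, Int.ofNat 2, Int.ofNat 0, Int.negSucc 1, Int.ofNat 0, Int.ofNat 2, Int.negSucc 1, Int.ofNat 0, Int.ofNat 0, Int.ofNat 2, Int.ofNat 0, Int.ofNat 0, Int.ofNat 0, Int.negSucc 1, Int.ofNat 0, Int.ofNat 0]]

set_option maxRecDepth 100000 in
theorem c1et3_chk : pmChk (List.replicate 14 [3, 0, 25, 26]).flatten nxL c1et3M 0 0 = true := by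
  decide +kernel

theorem c1et3_ne : wE letE2 (List.replicate 14 [3, 0, 25, 26]).flatten ≠ 1 ∧ wE letE2 (List.replicate 14 [3, 0, 25, 26]).flatten ≠ negElt :=
  ne_pm_of_chk nxL_mem c1et3_chk

set_option maxRecDepth 100000 in
def c1et4M : List (List ℤ) :=
  [[Int.negSucc 3, Int.ofNat 0, Int.ofNat 0, Int.ofNat 0, Int.ofNat 0, Int.ofNat 0, Int.ofNat 0, Int.ofNat 0, Int.ofNat 0, Int.ofNat 0, Int.ofNat 0, Int.ofNat 0, Int.ofNat 0, Int.ofNat 0, Int.ofNat 0, Int.ofNat 0, Int.ofNat 0, Int.ofNat 0, Int.ofNat 0, Int.ofNat 0, Int.ofNat 0, Int.ofNat 0, Int.ofNat 0, Int.ofNat 4],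
  [Int.ofNat 4, Int.ofNat 0, Int.ofNat 0, Int.ofNat 0, Int.ofNat 0, Int.ofNat 0, Int.ofNat 0, Int.ofNat 0, Int.ofNat 0, Int.ofNat 0, Int.ofNat 0, Int.ofNat 0, Int.ofNat 0, Int.ofNat 0, Int.ofNat 0, Int.ofNat 0, Int.ofNat 0, Int.ofNat 0, Int.ofNat 0, Int.ofNat 0, Int.ofNat 0, Int.ofNat 0, Int.ofNat 0, Int.ofNat 4],
  [Int.ofNat 0, Int.ofNat 4, Int.ofNat 0, Int.ofNat 0, Int.ofNat 0, Int.ofNat 0, Int.ofNat 0, Int.ofNat 0, Int.ofNat 0, Int.ofNat 0, Int.ofNat 0, Int.ofNat 0, Int.ofNat 0, Int.ofNat 0, Int.ofNat 0, Int.ofNat 0, Int.ofNat 0, Int.ofNat 0, Int.ofNat 0, Int.ofNat 0, Int.ofNat 0, Int.ofNat 0, Int.ofNat 0, Int.ofNat 4],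
  [Int.ofNat 4, Int.ofNat 0, Int.ofNat 4, Int.ofNat 0, Int.ofNat 0, Int.ofNat 0, Int.ofNat 0, Int.ofNat 0, Int.ofNat 0, Int.ofNat 0, Int.ofNat 0, Int.ofNat 0, Int.ofNat 0, Int.ofNat 0, Int.ofNat 0, Int.ofNat 0, Int.ofNat 0, Int.ofNat 0, Int.ofNat 0, Int.ofNat 0, Int.ofNat 0, Int.ofNat 0, Int.ofNat 0, Int.ofNat 0],
  [Int.ofNat 0, Int.ofNat 0, Int.ofNat 0, Int.ofNat 0, Int.ofNat 0, Int.ofNat 0, Int.ofNat 0, Int.ofNat 0, Int.ofNat 0, Int.ofNat 0, Int.ofNat 0, Int.ofNat 0, Int.ofNat 0, Int.ofNat 0, Int.ofNat 0, Int.ofNat 0, Int.ofNat 0, Int.ofNat 0, Int.ofNat 0, Int.ofNat 0, Int.ofNat 4, Int.ofNat 0, Int.ofNat 4, Int.ofNat 0],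
  [Int.ofNat 0, Int.ofNat 0, Int.ofNat 0, Int.ofNat 0, Int.negSucc 1, Int.ofNat 0, Int.ofNat 0, Int.ofNat 0, Int.ofNat 0, Int.negSucc 1, Int.negSucc 1, Int.ofNat 0, Int.ofNat 0, Int.negSucc 1, Int.ofNat 0, Int.negSucc 1, Int.negSucc 1, Int.ofNat 0, Int.ofNat 0, Int.ofNat 0, Int.ofNat 2, Int.ofNat 0, Int.ofNat 2, Int.ofNat 0],
  [Int.ofNat 0, Int.ofNat 0, Int.negSucc 1, Int.ofNat 0, Int.ofNat 0, Int.ofNat 0, Int.ofNat 0, Int.negSucc 1, Int.ofNat 0, Int.negSucc 1, Int.ofNat 2, Int.ofNat 0, Int.negSucc 1, Int.negSucc 1, Int.ofNat 2, Int.negSucc 1, Int.ofNat 0, Int.ofNat 0, Int.ofNat 0, Int.ofNat 0, Int.ofNat 0, Int.ofNat 0, Int.ofNat 0, Int.ofNat 0],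
  [Int.negSucc 0, Int.negSucc 0, Int.ofNat 1, Int.negSucc 0, Int.ofNat 1, Int.negSucc 0, Int.ofNat 1, Int.negSucc 0, Int.ofNat 1, Int.negSucc 0, Int.ofNat 3, Int.ofNat 1, Int.negSucc 0, Int.negSucc 0, Int.ofNat 1, Int.negSucc 0, Int.ofNat 1, Int.negSucc 0, Int.ofNat 1, Int.ofNat 1, Int.ofNat 1, Int.ofNat 1, Int.ofNat 1, Int.negSucc 0],
  [Int.negSucc 0, Int.negSucc 0, Int.negSucc 0, Int.negSucc 0, Int.ofNat 1, Int.ofNat 1, Int.negSucc 0, Int.negSucc 0, Int.ofNat 1, Int.ofNat 1, Int.negSucc 2, Int.ofNat 1, Int.negSucc 0, Int.negSucc 0, Int.ofNat 1, Int.ofNat 1, Int.ofNat 1, Int.negSucc 0, Int.negSucc 0, Int.ofNat 1, Int.ofNat 1, Int.ofNat 1, Int.negSucc 0, Int.negSucc 0],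
  [Int.negSucc 2, Int.ofNat 1, Int.ofNat 1, Int.ofNat 1, Int.ofNat 1, Int.negSucc 0, Int.ofNat 1, Int.negSucc 0, Int.ofNat 1, Int.ofNat 1, Int.negSucc 0, Int.negSucc 0, Int.ofNat 1, Int.ofNat 1, Int.negSucc 0, Int.negSucc 0, Int.ofNat 1, Int.negSucc 0, Int.ofNat 1, Int.negSucc 0, Int.negSucc 0, Int.negSucc 0, Int.negSucc 0, Int.negSucc 0],
  [Int.ofNat 3, Int.negSucc 0, Int.negSucc 0, Int.negSucc 0, Int.negSucc 0, Int.negSucc 0, Int.negSucc 0, Int.negSucc 0, Int.negSucc 0, Int.negSucc 0, Int.negSucc 0, Int.negSucc 0, Int.negSucc 0, Int.negSucc 0, Int.negSucc 0, Int.negSucc 0, Int.negSucc 0, Int.negSucc 0, Int.negSucc 0, Int.negSucc 0, Int.negSucc 0, Int.negSucc 0, Int.negSucc 0, Int.negSucc 0],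
  [Int.negSucc 0, Int.negSucc 0, Int.negSucc 0, Int.negSucc 0, Int.negSucc 0, Int.negSucc 0, Int.negSucc 0, Int.negSucc 0, Int.negSucc 0, Int.negSucc 0, Int.negSucc 0, Int.negSucc 0, Int.negSucc 0, Int.negSucc 0, Int.negSucc 0, Int.negSucc 0, Int.negSucc 0, Int.negSucc 0, Int.negSucc 0, Int.negSucc 0, Int.negSucc 0, Int.negSucc 0, Int.negSucc 0, Int.ofNat 3],
  [Int.ofNat 1, Int.negSucc 0, Int.ofNat 1, Int.negSucc 0, Int.negSucc 0, Int.negSucc 0, Int.negSucc 0, Int.ofNat 1, Int.negSucc 0, Int.ofNat 1, Int.ofNat 1, Int.ofNat 1, Int.negSucc 0, Int.negSucc 0, Int.negSucc 0, Int.negSucc 0, Int.negSucc 0, Int.negSucc 0, Int.ofNat 1, Int.negSucc 0, Int.negSucc 0, Int.ofNat 1, Int.negSucc 0, Int.ofNat 3],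
  [Int.negSucc 0, Int.ofNat 1, Int.negSucc 0, Int.ofNat 1, Int.negSucc 0, Int.negSucc 0, Int.negSucc 0, Int.negSucc 0, Int.ofNat 1, Int.negSucc 0, Int.ofNat 1, Int.ofNat 1, Int.ofNat 1, Int.negSucc 0, Int.negSucc 0, Int.negSucc 0, Int.negSucc 0, Int.negSucc 0, Int.negSucc 0, Int.ofNat 1, Int.negSucc 0, Int.negSucc 0, Int.ofNat 1, Int.ofNat 3],
  [Int.ofNat 2, Int.ofNat 0, Int.ofNat 2, Int.ofNat 2, Int.ofNat 0, Int.ofNat 0, Int.ofNat 0, Int.ofNat 0, Int.ofNat 0, Int.ofNat 0, Int.ofNat 2, Int.ofNat 0, Int.ofNat 0, Int.ofNat 0, Int.ofNat 0, Int.ofNat 0, Int.ofNat 0, Int.ofNat 0, Int.negSucc 1, Int.ofNat 2, Int.ofNat 0, Int.ofNat 0, Int.ofNat 2, Int.negSucc 1],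
  [Int.ofNat 2, Int.ofNat 0, Int.ofNat 0, Int.ofNat 0, Int.ofNat 0, Int.ofNat 0, Int.ofNat 0, Int.ofNat 2, Int.ofNat 0, Int.ofNat 0, Int.ofNat 0, Int.ofNat 0, Int.ofNat 0, Int.ofNat 0, Int.ofNat 0, Int.negSucc 1, Int.ofNat 2, Int.ofNat 0, Int.ofNat 0, Int.ofNat 2, Int.ofNat 2, Int.ofNat 0, Int.ofNat 2, Int.negSucc 1],
  [Int.negSucc 1, Int.ofNat 0, Int.ofNat 0, Int.ofNat 0, Int.negSucc 1, Int.ofNat 0, Int.negSucc 1, Int.ofNat 0, Int.ofNat 0, Int.ofNat 0, Int.ofNat 0, Int.ofNat 0, Int.ofNat 0, Int.negSucc 1, Int.ofNat 0, Int.negSucc 1, Int.ofNat 0, Int.ofNat 0, Int.ofNat 0, Int.ofNat 0, Int.ofNat 2, Int.negSucc 1, Int.ofNat 0, Int.ofNat 2],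
  [Int.negSucc 1, Int.negSucc 1, Int.negSucc 1, Int.ofNat 0, Int.ofNat 0, Int.ofNat 0, Int.ofNat 0, Int.ofNat 0, Int.ofNat 0, Int.negSucc 1, Int.ofNat 2, Int.ofNat 0, Int.ofNat 0, Int.ofNat 0, Int.ofNat 0, Int.negSucc 1, Int.ofNat 0, Int.ofNat 0, Int.ofNat 0, Int.ofNat 0, Int.negSucc 1, Int.ofNat 0, Int.ofNat 0, Int.ofNat 2],
  [Int.ofNat 0, Int.ofNat 0, Int.ofNat 0, Int.ofNat 0, Int.ofNat 0, Int.ofNat 0, Int.ofNat 0, Int.ofNat 0, Int.ofNat 0, Int.ofNat 0, Int.ofNat 4, Int.ofNat 0, Int.ofNat 0, Int.ofNat 0, Int.ofNat 0, Int.ofNat 0, Int.ofNat 0, Int.ofNat 0, Int.ofNat 0, Int.ofNat 0, Int.ofNat 0, Int.ofNat 0, Int.ofNat 0, Int.negSucc 3],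
  [Int.ofNat 0, Int.ofNat 0, Int.ofNat 0, Int.ofNat 0, Int.ofNat 0, Int.ofNat 0, Int.ofNat 0, Int.ofNat 0, Int.ofNat 0, Int.ofNat 0, Int.negSucc 3, Int.ofNat 0, Int.ofNat 0, Int.ofNat 0, Int.ofNat 0, Int.ofNat 0, Int.ofNat 0, Int.ofNat 0, Int.ofNat 0, Int.ofNat 0, Int.ofNat 0, Int.ofNat 0, Int.ofNat 0, Int.negSucc 3],
  [Int.ofNat 0, Int.ofNat 0, Int.ofNat 0, Int.ofNat 0, Int.ofNat 0, Int.ofNat 0, Int.ofNat 0, Int.ofNat 0, Int.ofNat 0, Int.ofNat 0, Int.ofNat 0, Int.negSucc 3, Int.ofNat 0, Int.ofNat 0, Int.ofNat 0, Int.ofNat 0, Int.ofNat 0, Int.ofNat 0, Int.ofNat 0, Int.ofNat 0, Int.ofNat 0, Int.ofNat 0, Int.ofNat 0, Int.negSucc 3],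
  [Int.ofNat 0, Int.ofNat 0, Int.ofNat 0, Int.ofNat 0, Int.ofNat 0, Int.ofNat 0, Int.ofNat 0, Int.ofNat 0, Int.ofNat 0, Int.ofNat 0, Int.ofNat 0, Int.negSucc 3, Int.ofNat 0, Int.ofNat 0, Int.ofNat 0, Int.ofNat 0, Int.ofNat 0, Int.ofNat 0, Int.ofNat 0, Int.ofNat 0, Int.ofNat 0, Int.ofNat 0, Int.ofNat 0, Int.negSucc 3],
  [Int.negSucc 1, Int.negSucc 1, Int.negSucc 1, Int.ofNat 0, Int.ofNat 0, Int.ofNat 0, Int.ofNat 0, Int.ofNat 0, Int.ofNat 2, Int.ofNat 0, Int.ofNat 0, Int.negSucc 1, Int.ofNat 2, Int.ofNat 0, Int.ofNat 0, Int.ofNat 0, Int.ofNat 0, Int.ofNat 0, Int.ofNat 2, Int.ofNat 0, Int.ofNat 0, Int.ofNat 0, Int.ofNat 0, Int.ofNat 2],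
  [Int.negSucc 1, Int.ofNat 2, Int.ofNat 0, Int.ofNat 0, Int.negSucc 1, Int.ofNat 0, Int.negSucc 1, Int.ofNat 0, Int.ofNat 0, Int.ofNat 2, Int.ofNat 0, Int.ofNat 0, Int.ofNat 2, Int.ofNat 0, Int.ofNat 0, Int.ofNat 0, Int.ofNat 0, Int.negSucc 1, Int.ofNat 0, Int.ofNat 0, Int.ofNat 0, Int.ofNat 0, Int.ofNat 0, Int.ofNat 2],
  [Int.ofNat 3, Int.negSucc 0, Int.ofNat 1, Int.ofNat 1, Int.negSucc 0, Int.ofNat 1, Int.negSucc 0, Int.ofNat 1, Int.negSucc 0, Int.ofNat 1, Int.negSucc 0, Int.negSucc 0, Int.ofNat 1, Int.ofNat 1, Int.ofNat 1, Int.negSucc 0, Int.ofNat 1, Int.negSucc 0, Int.negSucc 0, Int.ofNat 1, Int.negSucc 0, Int.ofNat 1, Int.ofNat 1, Int.negSucc 0],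
  [Int.negSucc 0, Int.ofNat 1, Int.ofNat 1, Int.ofNat 3, Int.negSucc 0, Int.ofNat 1, Int.ofNat 1, Int.negSucc 0, Int.ofNat 1, Int.negSucc 0, Int.ofNat 1, Int.negSucc 0, Int.ofNat 1, Int.negSucc 0, Int.negSucc 0, Int.ofNat 1, Int.ofNat 1, Int.ofNat 1, Int.negSucc 0, Int.ofNat 1, Int.negSucc 0, Int.negSucc 0, Int.ofNat 1, Int.negSucc 0],
  [Int.ofNat 1, Int.negSucc 0, Int.negSucc 0, Int.ofNat 1, Int.negSucc 0, Int.negSucc 0, Int.ofNat 1, Int.negSucc 0, Int.ofNat 1, Int.negSucc 0, Int.ofNat 1, Int.negSucc 0, Int.ofNat 1, Int.negSucc 0, Int.negSucc 2, Int.ofNat 1, Int.ofNat 1, Int.negSucc 0, Int.negSucc 0, Int.ofNat 1, Int.negSucc 0, Int.negSucc 0, Int.ofNat 1, Int.ofNat 1],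
  [Int.negSucc 0, Int.negSucc 0, Int.ofNat 1, Int.negSucc 0, Int.negSucc 0, Int.ofNat 1, Int.negSucc 0, Int.ofNat 1, Int.negSucc 0, Int.ofNat 1, Int.negSucc 0, Int.ofNat 1, Int.negSucc 0, Int.negSucc 2, Int.ofNat 1, Int.ofNat 1, Int.negSucc 0, Int.negSucc 0, Int.ofNat 1, Int.negSucc 0, Int.negSucc 0, Int.ofNat 1, Int.ofNat 1, Int.ofNat 1],
  [Int.ofNat 1, Int.negSucc 0, Int.negSucc 0, Int.negSucc 0, Int.negSucc 0, Int.ofNat 1, Int.negSucc 0, Int.negSucc 0, Int.negSucc 0, Int.negSucc 0, Int.ofNat 1, Int.negSucc 0, Int.negSucc 0, Int.negSucc 2, Int.ofNat 1, Int.ofNat 1, Int.negSucc 0, Int.negSucc 0, Int.negSucc 0, Int.negSucc 0, Int.negSucc 0, Int.negSucc 0, Int.ofNat 1, Int.ofNat 1],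
  [Int.ofNat 1, Int.negSucc 0, Int.negSucc 0, Int.negSucc 0, Int.negSucc 0, Int.ofNat 1, Int.negSucc 0, Int.negSucc 0, Int.negSucc 0, Int.negSucc 0, Int.negSucc 0, Int.ofNat 1, Int.negSucc 2, Int.negSucc 0, Int.negSucc 0, Int.ofNat 1, Int.negSucc 0, Int.ofNat 1, Int.negSucc 0, Int.negSucc 0, Int.ofNat 1, Int.negSucc 0, Int.negSucc 0, Int.ofNat 1],
  [Int.negSucc 0, Int.negSucc 0, Int.ofNat 1, Int.negSucc 0, Int.negSucc 0, Int.ofNat 1, Int.negSucc 0, Int.ofNat 1, Int.negSucc 0, Int.ofNat 1, Int.ofNat 1, Int.negSucc 0, Int.negSucc 2, Int.negSucc 0, Int.negSucc 0, Int.ofNat 1, Int.negSucc 0, Int.ofNat 1, Int.ofNat 1, Int.negSucc 0, Int.ofNat 1, Int.ofNat 1, Int.negSucc 0, Int.ofNat 1],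
  [Int.negSucc 0, Int.negSucc 0, Int.negSucc 0, Int.ofNat 1, Int.negSucc 0, Int.negSucc 0, Int.ofNat 1, Int.negSucc 0, Int.ofNat 1, Int.negSucc 0, Int.ofNat 1, Int.ofNat 1, Int.negSucc 0, Int.negSucc 2, Int.negSucc 0, Int.negSucc 0, Int.ofNat 1, Int.negSucc 0, Int.ofNat 1, Int.ofNat 1, Int.negSucc 0, Int.ofNat 1, Int.ofNat 1, Int.ofNat 1],
  [Int.ofNat 0, Int.ofNat 0, Int.ofNat 0, Int.ofNat 2, Int.ofNat 0, Int.ofNat 0, Int.ofNat 0, Int.negSucc 1, Int.ofNat 0, Int.ofNat 0, Int.ofNat 2, Int.ofNat 0, Int.negSucc 1, Int.negSucc 1, Int.ofNat 0, Int.ofNat 0, Int.ofNat 2, Int.ofNat 0, Int.ofNat 0, Int.ofNat 0, Int.ofNat 0, Int.ofNat 0, Int.ofNat 2, Int.negSucc 1],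
  [Int.ofNat 2, Int.ofNat 0, Int.ofNat 0, Int.ofNat 0, Int.negSucc 1, Int.ofNat 0, Int.ofNat 0, Int.ofNat 2, Int.ofNat 0, Int.negSucc 1, Int.negSucc 1, Int.ofNat 0, Int.ofNat 0, Int.ofNat 2, Int.ofNat 0, Int.ofNat 0, Int.ofNat 0, Int.ofNat 0, Int.ofNat 0, Int.ofNat 2, Int.ofNat 0, Int.ofNat 0, Int.ofNat 0, Int.negSucc 1],
  [Int.negSucc 1, Int.ofNat 0, Int.ofNat 0, Int.ofNat 0, Int.negSucc 1, Int.ofNat 0, Int.negSucc 1, Int.ofNat 0, Int.ofNat 0, Int.ofNat 0, Int.ofNat 0, Int.ofNat 0, Int.ofNat 0, Int.ofNat 2, Int.ofNat 0, Int.ofNat 2, Int.ofNat 0, Int.ofNat 0, Int.ofNat 0, Int.ofNat 0, Int.ofNat 2, Int.negSucc 1, Int.ofNat 0, Int.ofNat 2],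
  [Int.negSucc 1, Int.negSucc 1, Int.negSucc 1, Int.ofNat 0, Int.ofNat 0, Int.ofNat 0, Int.ofNat 0, Int.ofNat 0, Int.ofNat 0, Int.ofNat 2, Int.ofNat 2, Int.ofNat 0, Int.ofNat 0, Int.ofNat 0, Int.ofNat 0, Int.ofNat 2, Int.ofNat 0, Int.ofNat 0, Int.ofNat 0, Int.ofNat 0, Int.negSucc 1, Int.ofNat 0, Int.ofNat 0, Int.ofNat 2],
  [Int.ofNat 0, Int.ofNat 0, Int.ofNat 0, Int.ofNat 0, Int.ofNat 0, Int.ofNat 0, Int.ofNat 0, Int.ofNat 0, Int.ofNat 0, Int.ofNat 0, Int.ofNat 0, Int.ofNat 0, Int.ofNat 0, Int.ofNat 0, Int.ofNat 0, Int.ofNat 0, Int.ofNat 0, Int.ofNat 0, Int.ofNat 0, Int.ofNat 0, Int.negSucc 3, Int.ofNat 0, Int.ofNat 0, Int.negSucc 3],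
  [Int.ofNat 0, Int.ofNat 0, Int.ofNat 0, Int.ofNat 0, Int.ofNat 0, Int.ofNat 0, Int.ofNat 0, Int.ofNat 0, Int.ofNat 0, Int.ofNat 0, Int.ofNat 0, Int.ofNat 0, Int.ofNat 0, Int.ofNat 0, Int.ofNat 0, Int.ofNat 0, Int.ofNat 0, Int.ofNat 0, Int.ofNat 0, Int.ofNat 0, Int.negSucc 3, Int.ofNat 0, Int.ofNat 0, Int.negSucc 3],
  [Int.ofNat 0, Int.ofNat 0, Int.ofNat 0, Int.ofNat 0, Int.ofNat 0, Int.ofNat 0, Int.ofNat 0, Int.ofNat 0, Int.ofNat 0, Int.negSucc 3, Int.ofNat 0, Int.ofNat 0, Int.ofNat 0, Int.ofNat 0, Int.ofNat 0, Int.ofNat 0, Int.ofNat 0, Int.ofNat 0, Int.ofNat 0, Int.ofNat 0, Int.ofNat 0, Int.ofNat 0, Int.ofNat 0, Int.negSucc 3],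
  [Int.ofNat 0, Int.ofNat 0, Int.ofNat 0, Int.ofNat 0, Int.ofNat 0, Int.ofNat 0, Int.ofNat 0, Int.ofNat 0, Int.ofNat 0, Int.ofNat 4, Int.ofNat 0, Int.ofNat 0, Int.ofNat 0, Int.ofNat 0, Int.ofNat 0, Int.ofNat 0, Int.ofNat 0, Int.ofNat 0, Int.ofNat 0, Int.ofNat 0, Int.ofNat 0, Int.ofNat 0, Int.ofNat 0, Int.negSucc 3],
  [Int.negSucc 3, Int.ofNat 0, Int.ofNat 0, Int.ofNat 0, Int.ofNat 0, Int.ofNat 4, Int.ofNat 0, Int.ofNat 0, Int.ofNat 0, Int.ofNat 0, Int.ofNat 0, Int.ofNat 0, Int.ofNat 0, Int.ofNat 0, Int.ofNat 0, Int.ofNat 0, Int.ofNat 0, Int.ofNat 0, Int.ofNat 0, Int.ofNat 0, Int.ofNat 0, Int.ofNat 0, Int.ofNat 0, Int.ofNat 0],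
  [Int.ofNat 4, Int.ofNat 0, Int.ofNat 0, Int.ofNat 0, Int.ofNat 0, Int.ofNat 4, Int.ofNat 0, Int.ofNat 0, Int.ofNat 0, Int.ofNat 0, Int.ofNat 0, Int.ofNat 0, Int.ofNat 0, Int.ofNat 0, Int.ofNat 0, Int.ofNat 0, Int.ofNat 0, Int.ofNat 0, Int.ofNat 0, Int.ofNat 0, Int.ofNat 0, Int.ofNat 0, Int.ofNat 0, Int.ofNat 0],
  [Int.ofNat 0, Int.ofNat 4, Int.ofNat 0, Int.ofNat 0, Int.ofNat 0, Int.ofNat 0, Int.ofNat 4, Int.ofNat 0, Int.ofNat 0, Int.ofNat 0, Int.ofNat 0, Int.ofNat 0, Int.ofNat 0, Int.ofNat 0, Int.ofNat 0, Int.ofNat 0, Int.ofNat 0, Int.ofNat 0, Int.ofNat 0, Int.ofNat 0, Int.ofNat 0, Int.ofNat 0, Int.ofNat 0, Int.ofNat 0],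
  [Int.ofNat 2, Int.negSucc 1, Int.ofNat 2, Int.ofNat 0, Int.ofNat 0, Int.ofNat 0, Int.ofNat 2, Int.negSucc 1, Int.ofNat 0, Int.ofNat 0, Int.ofNat 0, Int.ofNat 0, Int.ofNat 0, Int.ofNat 0, Int.ofNat 0, Int.ofNat 0, Int.ofNat 0, Int.ofNat 0, Int.ofNat 0, Int.negSucc 1, Int.ofNat 0, Int.negSucc 1, Int.ofNat 0, Int.ofNat 2],
  [Int.ofNat 0, Int.ofNat 0, Int.ofNat 0, Int.ofNat 2, Int.negSucc 1, Int.ofNat 0, Int.ofNat 0, Int.ofNat 0, Int.ofNat 0, Int.ofNat 0, Int.ofNat 0, Int.ofNat 0, Int.ofNat 0, Int.ofNat 0, Int.ofNat 0, Int.ofNat 0, Int.negSucc 1, Int.ofNat 0, Int.negSucc 1, Int.ofNat 0, Int.ofNat 2, Int.negSucc 1, Int.ofNat 2, Int.ofNat 2],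
  [Int.ofNat 1, Int.ofNat 1, Int.ofNat 1, Int.ofNat 1, Int.negSucc 0, Int.negSucc 0, Int.ofNat 1, Int.ofNat 1, Int.ofNat 1, Int.negSucc 0, Int.negSucc 0, Int.ofNat 1, Int.ofNat 1, Int.ofNat 1, Int.negSucc 0, Int.negSucc 0, Int.negSucc 0, Int.negSucc 0, Int.negSucc 0, Int.ofNat 1, Int.ofNat 1, Int.negSucc 0, Int.ofNat 3, Int.negSucc 0],
  [Int.ofNat 1, Int.ofNat 1, Int.negSucc 0, Int.ofNat 1, Int.negSucc 0, Int.ofNat 1, Int.ofNat 1, Int.negSucc 0, Int.ofNat 1, Int.ofNat 1, Int.ofNat 1, Int.negSucc 0, Int.negSucc 0, Int.negSucc 0, Int.ofNat 3, Int.negSucc 0, Int.ofNat 1, Int.negSucc 0, Int.ofNat 1, Int.ofNat 1, Int.negSucc 0, Int.negSucc 0, Int.ofNat 1, Int.negSucc 0],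
  [Int.negSucc 0, Int.negSucc 0, Int.ofNat 1, Int.negSucc 0, Int.negSucc 0, Int.negSucc 0, Int.ofNat 1, Int.negSucc 0, Int.ofNat 1, Int.ofNat 1, Int.ofNat 1, Int.negSucc 0, Int.negSucc 0, Int.negSucc 0, Int.ofNat 1, Int.negSucc 0, Int.ofNat 1, Int.negSucc 2, Int.ofNat 1, Int.ofNat 1, Int.negSucc 0, Int.negSucc 0, Int.ofNat 1, Int.ofNat 1],
  [Int.negSucc 0, Int.negSucc 0, Int.negSucc 0, Int.negSucc 0, Int.negSucc 0, Int.ofNat 1, Int.negSucc 0, Int.negSucc 0, Int.ofNat 1, Int.negSucc 0, Int.negSucc 0, Int.negSucc 0, Int.negSucc 0, Int.negSucc 0, Int.ofNat 1, Int.ofNat 1, Int.ofNat 1, Int.negSucc 2, Int.negSucc 0, Int.ofNat 1, Int.negSucc 0, Int.negSucc 0, Int.negSucc 0, Int.ofNat 1],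
  [Int.negSucc 0, Int.negSucc 0, Int.negSucc 0, Int.negSucc 0, Int.negSucc 0, Int.negSucc 0, Int.ofNat 1, Int.negSucc 0, Int.ofNat 1, Int.ofNat 1, Int.negSucc 0, Int.negSucc 0, Int.negSucc 0, Int.ofNat 1, Int.negSucc 0, Int.negSucc 0, Int.negSucc 0, Int.ofNat 1, Int.negSucc 0, Int.negSucc 2, Int.negSucc 0, Int.ofNat 1, Int.negSucc 0, Int.ofNat 1],
  [Int.negSucc 0, Int.negSucc 0, Int.ofNat 1, Int.negSucc 0, Int.negSucc 0, Int.ofNat 1, Int.negSucc 0, Int.negSucc 0, Int.ofNat 1, Int.negSucc 0, Int.ofNat 1, Int.negSucc 0, Int.negSucc 0, Int.ofNat 1, Int.negSucc 0, Int.ofNat 1, Int.negSucc 0, Int.ofNat 1, Int.ofNat 1, Int.negSucc 2, Int.negSucc 0, Int.ofNat 1, Int.ofNat 1, Int.ofNat 1],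
  [Int.ofNat 1, Int.ofNat 1, Int.negSucc 0, Int.negSucc 0, Int.negSucc 0, Int.ofNat 1, Int.ofNat 1, Int.ofNat 1, Int.ofNat 1, Int.negSucc 0, Int.ofNat 1, Int.negSucc 0, Int.negSucc 0, Int.ofNat 1, Int.negSucc 0, Int.ofNat 1, Int.negSucc 0, Int.ofNat 1, Int.ofNat 1, Int.negSucc 0, Int.negSucc 0, Int.ofNat 3, Int.ofNat 1, Int.negSucc 0],
  [Int.ofNat 1, Int.ofNat 1, Int.ofNat 1, Int.negSucc 0, Int.negSucc 0, Int.ofNat 3, Int.ofNat 1, Int.ofNat 1, Int.negSucc 0, Int.negSucc 0, Int.ofNat 1, Int.negSucc 0, Int.ofNat 1, Int.negSucc 0, Int.ofNat 1, Int.ofNat 1, Int.ofNat 1, Int.negSucc 0, Int.negSucc 0, Int.ofNat 1, Int.ofNat 1, Int.negSucc 0, Int.negSucc 0, Int.negSucc 0],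
  [Int.ofNat 0, Int.ofNat 0, Int.ofNat 0, Int.negSucc 1, Int.ofNat 0, Int.ofNat 2, Int.ofNat 0, Int.ofNat 0, Int.ofNat 0, Int.negSucc 1, Int.ofNat 0, Int.ofNat 0, Int.ofNat 2, Int.ofNat 0, Int.ofNat 0, Int.ofNat 0, Int.ofNat 2, Int.negSucc 1, Int.ofNat 0, Int.ofNat 0, Int.ofNat 0, Int.negSucc 1, Int.ofNat 0, Int.ofNat 2],
  [Int.ofNat 0, Int.negSucc 1, Int.ofNat 0, Int.ofNat 0, Int.ofNat 0, Int.ofNat 0, Int.negSucc 1, Int.ofNat 0, Int.ofNat 2, Int.ofNat 0, Int.ofNat 0, Int.ofNat 0, Int.negSucc 1, Int.ofNat 0, Int.ofNat 0, Int.ofNat 2, Int.ofNat 0, Int.ofNat 0, Int.ofNat 0, Int.ofNat 2, Int.negSucc 1, Int.ofNat 0, Int.ofNat 0, Int.ofNat 2],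
  [Int.ofNat 0, Int.ofNat 2, Int.ofNat 0, Int.ofNat 0, Int.ofNat 0, Int.ofNat 0, Int.negSucc 1, Int.ofNat 0, Int.ofNat 2, Int.ofNat 0, Int.ofNat 0, Int.ofNat 0, Int.negSucc 1, Int.ofNat 0, Int.ofNat 0, Int.ofNat 2, Int.ofNat 0, Int.ofNat 0, Int.ofNat 0, Int.ofNat 2, Int.negSucc 1, Int.ofNat 0, Int.ofNat 0, Int.negSucc 1],
  [Int.ofNat 2, Int.ofNat 0, Int.ofNat 0, Int.ofNat 0, Int.ofNat 0, Int.negSucc 1, Int.ofNat 0, Int.ofNat 2, Int.ofNat 0, Int.ofNat 0, Int.ofNat 0, Int.negSucc 1, Int.ofNat 0, Int.ofNat 0, Int.ofNat 2, Int.ofNat 0, Int.ofNat 0, Int.ofNat 0, Int.ofNat 2, Int.negSucc 1, Int.ofNat 0, Int.ofNat 0, Int.ofNat 0, Int.negSucc 1],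
  [Int.negSucc 1, Int.ofNat 0, Int.ofNat 0, Int.ofNat 0, Int.ofNat 0, Int.negSucc 1, Int.ofNat 0, Int.negSucc 1, Int.ofNat 0, Int.ofNat 0, Int.ofNat 0, Int.ofNat 2, Int.ofNat 0, Int.ofNat 0, Int.ofNat 2, Int.ofNat 0, Int.ofNat 0, Int.ofNat 0, Int.negSucc 1, Int.negSucc 1, Int.ofNat 0, Int.ofNat 0, Int.ofNat 0, Int.negSucc 1],
  [Int.negSucc 1, Int.ofNat 0, Int.negSucc 1, Int.ofNat 0, Int.ofNat 0, Int.ofNat 0, Int.ofNat 0, Int.ofNat 0, Int.ofNat 0, Int.ofNat 0, Int.ofNat 0, Int.ofNat 2, Int.ofNat 0, Int.ofNat 0, Int.negSucc 1, Int.ofNat 0, Int.ofNat 0, Int.ofNat 0, Int.ofNat 0, Int.ofNat 0, Int.negSucc 1, Int.negSucc 1, Int.ofNat 2, Int.negSucc 1],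
  [Int.ofNat 2, Int.ofNat 0, Int.ofNat 2, Int.ofNat 0, Int.ofNat 0, Int.ofNat 0, Int.ofNat 0, Int.ofNat 0, Int.ofNat 0, Int.ofNat 0, Int.ofNat 0, Int.negSucc 1, Int.ofNat 0, Int.ofNat 0, Int.negSucc 1, Int.ofNat 0, Int.ofNat 0, Int.ofNat 0, Int.ofNat 0, Int.ofNat 0, Int.negSucc 1, Int.ofNat 2, Int.ofNat 2, Int.negSucc 1],
  [Int.ofNat 2, Int.ofNat 2, Int.ofNat 0, Int.ofNat 2, Int.ofNat 0, Int.ofNat 0, Int.ofNat 0, Int.ofNat 0, Int.ofNat 0, Int.ofNat 0, Int.ofNat 0, Int.ofNat 0, Int.negSucc 1, Int.ofNat 0, Int.ofNat 0, Int.negSucc 1, Int.ofNat 0, Int.ofNat 0, Int.ofNat 0, Int.ofNat 0, Int.ofNat 0, Int.negSucc 1, Int.ofNat 2, Int.negSucc 1],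
  [Int.negSucc 0, Int.negSucc 0, Int.ofNat 1, Int.ofNat 1, Int.negSucc 0, Int.negSucc 0, Int.ofNat 1, Int.ofNat 1, Int.ofNat 1, Int.ofNat 1, Int.ofNat 1, Int.ofNat 1, Int.negSucc 0, Int.negSucc 0, Int.negSucc 0, Int.negSucc 0, Int.negSucc 0, Int.negSucc 0, Int.ofNat 1, Int.ofNat 1, Int.ofNat 1, Int.negSucc 0, Int.ofNat 1, Int.ofNat 3],
  [Int.ofNat 1, Int.negSucc 0, Int.negSucc 0, Int.ofNat 1, Int.ofNat 1, Int.ofNat 1, Int.ofNat 1, Int.ofNat 1, Int.ofNat 1, Int.negSucc 0, Int.negSucc 0, Int.negSucc 0, Int.negSucc 0, Int.negSucc 0, Int.negSucc 0, Int.ofNat 1, Int.ofNat 1, Int.ofNat 1, Int.negSucc 0, Int.ofNat 1, Int.negSucc 0, Int.negSucc 0, Int.ofNat 1, Int.ofNat 3],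
  [Int.ofNat 0, Int.ofNat 2, Int.ofNat 2, Int.ofNat 0, Int.ofNat 0, Int.ofNat 0, Int.ofNat 0, Int.ofNat 0, Int.ofNat 2, Int.ofNat 0, Int.ofNat 0, Int.ofNat 0, Int.ofNat 0, Int.negSucc 1, Int.negSucc 1, Int.ofNat 2, Int.ofNat 0, Int.ofNat 0, Int.ofNat 0, Int.ofNat 0, Int.ofNat 0, Int.negSucc 1, Int.ofNat 0, Int.negSucc 1],
  [Int.ofNat 0, Int.ofNat 0, Int.ofNat 0, Int.ofNat 0, Int.ofNat 0, Int.ofNat 0, Int.ofNat 2, Int.ofNat 0, Int.ofNat 0, Int.negSucc 1, Int.ofNat 0, Int.ofNat 0, Int.ofNat 0, Int.ofNat 0, Int.ofNat 0, Int.ofNat 2, Int.ofNat 2, Int.negSucc 1, Int.ofNat 2, Int.ofNat 0, Int.negSucc 1, Int.ofNat 0, Int.ofNat 0, Int.negSucc 1],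
  [Int.negSucc 0, Int.negSucc 0, Int.negSucc 0, Int.ofNat 1, Int.negSucc 0, Int.ofNat 1, Int.ofNat 1, Int.negSucc 0, Int.negSucc 0, Int.negSucc 0, Int.ofNat 1, Int.negSucc 0, Int.negSucc 0, Int.negSucc 0, Int.ofNat 1, Int.ofNat 3, Int.ofNat 1, Int.negSucc 0, Int.ofNat 1, Int.negSucc 0, Int.negSucc 0, Int.negSucc 0, Int.negSucc 0, Int.ofNat 1],
  [Int.negSucc 0, Int.negSucc 0, Int.ofNat 1, Int.ofNat 1, Int.negSucc 0, Int.negSucc 0, Int.negSucc 0, Int.negSucc 0, Int.negSucc 0, Int.ofNat 1, Int.negSucc 0, Int.negSucc 0, Int.negSucc 0, Int.negSucc 0, Int.ofNat 1, Int.negSucc 2, Int.ofNat 1, Int.negSucc 0, Int.negSucc 0, Int.negSucc 0, Int.negSucc 0, Int.negSucc 0, Int.ofNat 1, Int.ofNat 1],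
  [Int.negSucc 0, Int.ofNat 1, Int.negSucc 0, Int.negSucc 0, Int.ofNat 1, Int.negSucc 0, Int.negSucc 0, Int.ofNat 1, Int.negSucc 0, Int.negSucc 0, Int.negSucc 0, Int.negSucc 0, Int.negSucc 2, Int.negSucc 0, Int.negSucc 0, Int.negSucc 0, Int.negSucc 0, Int.negSucc 0, Int.ofNat 1, Int.ofNat 1, Int.negSucc 0, Int.negSucc 0, Int.ofNat 1, Int.ofNat 1],
  [Int.ofNat 1, Int.negSucc 0, Int.ofNat 1, Int.ofNat 1, Int.negSucc 0, Int.negSucc 0, Int.ofNat 1, Int.ofNat 1, Int.ofNat 1, Int.ofNat 1, Int.negSucc 0, Int.negSucc 0, Int.ofNat 3, Int.ofNat 1, Int.negSucc 0, Int.negSucc 0, Int.ofNat 1, Int.negSucc 0, Int.negSucc 0, Int.ofNat 1, Int.negSucc 0, Int.negSucc 0, Int.ofNat 1, Int.ofNat 1],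
  [Int.ofNat 1, Int.ofNat 1, Int.negSucc 0, Int.negSucc 0, Int.negSucc 0, Int.ofNat 1, Int.ofNat 1, Int.ofNat 1, Int.negSucc 0, Int.negSucc 0, Int.ofNat 1, Int.ofNat 1, Int.negSucc 0, Int.ofNat 1, Int.negSucc 0, Int.ofNat 1, Int.negSucc 0, Int.negSucc 0, Int.negSucc 0, Int.ofNat 1, Int.ofNat 1, Int.ofNat 3, Int.negSucc 0, Int.ofNat 1],
  [Int.negSucc 0, Int.ofNat 1, Int.ofNat 1, Int.negSucc 0, Int.negSucc 0, Int.ofNat 1, Int.ofNat 1, Int.negSucc 0, Int.negSucc 0, Int.ofNat 1, Int.negSucc 0, Int.negSucc 0, Int.negSucc 0, Int.ofNat 1, Int.negSucc 0, Int.ofNat 1, Int.negSucc 0, Int.negSucc 0, Int.ofNat 1, Int.ofNat 1, Int.ofNat 1, Int.negSucc 2, Int.negSucc 0, Int.ofNat 1],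
  [Int.negSucc 0, Int.negSucc 0, Int.ofNat 1, Int.ofNat 1, Int.negSucc 0, Int.negSucc 0, Int.ofNat 1, Int.ofNat 1, Int.negSucc 0, Int.negSucc 0, Int.ofNat 1, Int.negSucc 0, Int.negSucc 0, Int.negSucc 0, Int.ofNat 1, Int.negSucc 0, Int.ofNat 1, Int.negSucc 0, Int.negSucc 0, Int.ofNat 1, Int.ofNat 1, Int.ofNat 1, Int.negSucc 2, Int.ofNat 1],
  [Int.ofNat 1, Int.ofNat 1, Int.negSucc 0, Int.ofNat 1, Int.ofNat 1, Int.negSucc 0, Int.negSucc 0, Int.negSucc 0, Int.ofNat 1, Int.negSucc 0, Int.ofNat 1, Int.ofNat 1, Int.ofNat 1, Int.ofNat 1, Int.ofNat 1, Int.negSucc 0, Int.ofNat 3, Int.negSucc 0, Int.ofNat 1, Int.negSucc 0, Int.ofNat 1, Int.negSucc 0, Int.negSucc 0, Int.negSucc 0],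
  [Int.ofNat 1, Int.ofNat 1, Int.negSucc 0, Int.negSucc 0, Int.negSucc 0, Int.ofNat 1, Int.negSucc 0, Int.ofNat 1, Int.ofNat 1, Int.ofNat 1, Int.ofNat 1, Int.ofNat 1, Int.negSucc 0, Int.ofNat 3, Int.negSucc 0, Int.ofNat 1, Int.negSucc 0, Int.ofNat 1, Int.negSucc 0, Int.negSucc 0, Int.ofNat 1, Int.ofNat 1, Int.negSucc 0, Int.negSucc 0],
  [Int.negSucc 0, Int.negSucc 0, Int.ofNat 1, Int.negSucc 0, Int.negSucc 0, Int.ofNat 1, Int.negSucc 0, Int.ofNat 1, Int.ofNat 1, Int.negSucc 0, Int.negSucc 0, Int.ofNat 1, Int.negSucc 0, Int.ofNat 3, Int.negSucc 0, Int.negSucc 0, Int.negSucc 0, Int.ofNat 1, Int.negSucc 0, Int.negSucc 0, Int.negSucc 0, Int.ofNat 1, Int.negSucc 0, Int.ofNat 1],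
  [Int.negSucc 0, Int.negSucc 0, Int.negSucc 0, Int.negSucc 0, Int.negSucc 0, Int.ofNat 1, Int.ofNat 1, Int.negSucc 0, Int.negSucc 0, Int.ofNat 3, Int.negSucc 0, Int.ofNat 1, Int.negSucc 0, Int.negSucc 0, Int.negSucc 0, Int.negSucc 0, Int.ofNat 1, Int.negSucc 0, Int.negSucc 0, Int.ofNat 1, Int.ofNat 1, Int.ofNat 1, Int.negSucc 0, Int.ofNat 1],
  [Int.ofNat 0, Int.ofNat 0, Int.ofNat 0, Int.ofNat 0, Int.ofNat 0, Int.ofNat 2, Int.ofNat 0, Int.negSucc 1, Int.ofNat 0, Int.ofNat 2, Int.negSucc 1, Int.ofNat 2, Int.ofNat 0, Int.ofNat 0, Int.ofNat 0, Int.negSucc 1, Int.ofNat 2, Int.ofNat 0, Int.ofNat 0, Int.ofNat 0, Int.ofNat 0, Int.ofNat 0, Int.ofNat 0, Int.negSucc 1],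
  [Int.ofNat 0, Int.ofNat 0, Int.ofNat 0, Int.ofNat 0, Int.ofNat 0, Int.negSucc 1, Int.ofNat 0, Int.negSucc 1, Int.ofNat 0, Int.negSucc 1, Int.ofNat 2, Int.ofNat 2, Int.ofNat 0, Int.ofNat 0, Int.ofNat 0, Int.ofNat 2, Int.ofNat 2, Int.ofNat 0, Int.ofNat 0, Int.ofNat 0, Int.ofNat 0, Int.ofNat 0, Int.ofNat 0, Int.negSucc 1],
  [Int.negSucc 1, Int.ofNat 0, Int.ofNat 0, Int.ofNat 0, Int.negSucc 1, Int.ofNat 0, Int.ofNat 0, Int.ofNat 0, Int.ofNat 2, Int.ofNat 0, Int.ofNat 0, Int.ofNat 2, Int.ofNat 0, Int.negSucc 1, Int.ofNat 2, Int.ofNat 0, Int.ofNat 0, Int.ofNat 2, Int.ofNat 0, Int.ofNat 0, Int.ofNat 0, Int.ofNat 0, Int.ofNat 0, Int.negSucc 1],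
  [Int.negSucc 1, Int.ofNat 0, Int.ofNat 0, Int.ofNat 0, Int.negSucc 1, Int.ofNat 0, Int.ofNat 0, Int.ofNat 0, Int.ofNat 2, Int.ofNat 0, Int.ofNat 0, Int.ofNat 2, Int.ofNat 0, Int.negSucc 1, Int.ofNat 2, Int.ofNat 0, Int.ofNat 0, Int.ofNat 2, Int.ofNat 0, Int.ofNat 0, Int.ofNat 0, Int.ofNat 0, Int.ofNat 0, Int.negSucc 1],
  [Int.ofNat 0, Int.negSucc 1, Int.negSucc 1, Int.negSucc 1, Int.ofNat 0, Int.negSucc 1, Int.ofNat 0, Int.ofNat 0, Int.ofNat 0, Int.ofNat 0, Int.ofNat 0, Int.ofNat 0, Int.negSucc 1, Int.ofNat 0, Int.ofNat 0, Int.ofNat 0, Int.ofNat 2, Int.ofNat 0, Int.negSucc 1, Int.ofNat 0, Int.ofNat 0, Int.ofNat 0, Int.ofNat 2, Int.ofNat 0],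
  [Int.ofNat 0, Int.negSucc 1, Int.ofNat 0, Int.negSucc 1, Int.negSucc 1, Int.ofNat 0, Int.negSucc 1, Int.negSucc 1, Int.ofNat 2, Int.negSucc 1, Int.ofNat 0, Int.ofNat 0, Int.ofNat 0, Int.ofNat 0, Int.ofNat 0, Int.ofNat 0, Int.ofNat 0, Int.ofNat 0, Int.ofNat 0, Int.ofNat 2, Int.ofNat 0, Int.ofNat 0, Int.ofNat 0, Int.ofNat 0],
  [Int.negSucc 0, Int.ofNat 1, Int.negSucc 0, Int.negSucc 0, Int.negSucc 0, Int.ofNat 1, Int.negSucc 0, Int.negSucc 0, Int.ofNat 1, Int.negSucc 0, Int.ofNat 1, Int.negSucc 0, Int.negSucc 0, Int.ofNat 1, Int.ofNat 1, Int.ofNat 1, Int.ofNat 1, Int.ofNat 1, Int.negSucc 0, Int.ofNat 3, Int.ofNat 1, Int.ofNat 1, Int.ofNat 1, Int.negSucc 0],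
  [Int.ofNat 1, Int.ofNat 1, Int.ofNat 1, Int.negSucc 0, Int.ofNat 1, Int.negSucc 0, Int.negSucc 0, Int.negSucc 0, Int.ofNat 1, Int.negSucc 0, Int.negSucc 0, Int.ofNat 1, Int.negSucc 0, Int.ofNat 1, Int.negSucc 0, Int.negSucc 0, Int.ofNat 1, Int.ofNat 1, Int.ofNat 1, Int.ofNat 1, Int.ofNat 1, Int.negSucc 0, Int.ofNat 3, Int.negSucc 0],
  [Int.ofNat 0, Int.ofNat 0, Int.ofNat 0, Int.ofNat 0, Int.negSucc 1, Int.ofNat 0, Int.ofNat 0, Int.ofNat 0, Int.ofNat 0, Int.ofNat 0, Int.ofNat 0, Int.ofNat 0, Int.negSucc 1, Int.negSucc 1, Int.ofNat 0, Int.ofNat 0, Int.negSucc 1, Int.ofNat 2, Int.ofNat 0, Int.ofNat 2, Int.ofNat 2, Int.ofNat 0, Int.ofNat 0, Int.ofNat 2],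
  [Int.ofNat 0, Int.ofNat 0, Int.ofNat 0, Int.negSucc 1, Int.ofNat 0, Int.ofNat 0, Int.ofNat 0, Int.ofNat 0, Int.ofNat 0, Int.ofNat 0, Int.ofNat 0, Int.negSucc 1, Int.negSucc 1, Int.ofNat 0, Int.ofNat 0, Int.negSucc 1, Int.ofNat 2, Int.ofNat 0, Int.ofNat 2, Int.ofNat 2, Int.ofNat 0, Int.ofNat 0, Int.ofNat 0, Int.ofNat 2],
  [Int.ofNat 0, Int.ofNat 0, Int.ofNat 0, Int.negSucc 1, Int.ofNat 0, Int.ofNat 0, Int.ofNat 0, Int.ofNat 0, Int.ofNat 0, Int.ofNat 0, Int.ofNat 0, Int.ofNat 2, Int.negSucc 1, Int.ofNat 0, Int.ofNat 0, Int.negSucc 1, Int.ofNat 2, Int.ofNat 0, Int.negSucc 1, Int.ofNat 2, Int.ofNat 0, Int.ofNat 0, Int.ofNat 0, Int.ofNat 2],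
  [Int.ofNat 0, Int.ofNat 0, Int.negSucc 1, Int.negSucc 1, Int.ofNat 0, Int.ofNat 0, Int.ofNat 0, Int.ofNat 0, Int.ofNat 0, Int.ofNat 2, Int.ofNat 0, Int.ofNat 0, Int.ofNat 0, Int.ofNat 0, Int.ofNat 2, Int.negSucc 1, Int.negSucc 1, Int.ofNat 0, Int.ofNat 0, Int.ofNat 0, Int.ofNat 0, Int.ofNat 0, Int.ofNat 2, Int.ofNat 2],
  [Int.ofNat 0, Int.ofNat 0, Int.ofNat 2, Int.negSucc 1, Int.ofNat 0, Int.ofNat 0, Int.ofNat 0, Int.ofNat 0, Int.ofNat 0, Int.negSucc 1, Int.ofNat 0, Int.ofNat 0, Int.ofNat 0, Int.ofNat 0, Int.ofNat 2, Int.negSucc 1, Int.negSucc 1, Int.ofNat 0, Int.ofNat 0, Int.ofNat 0, Int.ofNat 0, Int.ofNat 0, Int.ofNat 2, Int.ofNat 2],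
  [Int.ofNat 2, Int.ofNat 0, Int.ofNat 0, Int.ofNat 2, Int.negSucc 1, Int.ofNat 0, Int.ofNat 0, Int.ofNat 0, Int.ofNat 0, Int.ofNat 0, Int.negSucc 1, Int.ofNat 0, Int.ofNat 0, Int.ofNat 0, Int.ofNat 0, Int.ofNat 2, Int.negSucc 1, Int.negSucc 1, Int.ofNat 0, Int.ofNat 0, Int.ofNat 0, Int.ofNat 0, Int.ofNat 0, Int.ofNat 2],
  [Int.ofNat 0, Int.ofNat 2, Int.ofNat 2, Int.ofNat 2, Int.ofNat 0, Int.ofNat 0, Int.ofNat 0, Int.ofNat 0, Int.ofNat 0, Int.ofNat 0, Int.negSucc 1, Int.ofNat 0, Int.ofNat 0, Int.ofNat 2, Int.ofNat 0, Int.ofNat 2, Int.ofNat 0, Int.negSucc 1, Int.ofNat 0, Int.ofNat 0, Int.ofNat 0, Int.ofNat 0, Int.ofNat 2, Int.ofNat 0],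
  [Int.ofNat 2, Int.ofNat 0, Int.ofNat 0, Int.ofNat 0, Int.ofNat 0, Int.ofNat 0, Int.ofNat 0, Int.negSucc 1, Int.ofNat 0, Int.ofNat 0, Int.ofNat 2, Int.ofNat 0, Int.ofNat 2, Int.ofNat 0, Int.negSucc 1, Int.ofNat 0, Int.ofNat 0, Int.ofNat 0, Int.ofNat 0, Int.ofNat 2, Int.ofNat 0, Int.ofNat 2, Int.ofNat 2, Int.ofNat 0],
  [Int.negSucc 0, Int.ofNat 1, Int.ofNat 1, Int.ofNat 1, Int.negSucc 0, Int.ofNat 1, Int.negSucc 0, Int.negSucc 2, Int.negSucc 0, Int.negSucc 0, Int.ofNat 1, Int.negSucc 0, Int.ofNat 1, Int.negSucc 0, Int.negSucc 0, Int.negSucc 0, Int.negSucc 0, Int.ofNat 1, Int.negSucc 0, Int.ofNat 1, Int.negSucc 0, Int.ofNat 1, Int.ofNat 1, Int.ofNat 1],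
  [Int.negSucc 0, Int.negSucc 0, Int.negSucc 0, Int.ofNat 1, Int.negSucc 0, Int.negSucc 2, Int.ofNat 1, Int.ofNat 1, Int.ofNat 1, Int.negSucc 0, Int.negSucc 0, Int.ofNat 1, Int.negSucc 0, Int.negSucc 0, Int.ofNat 1, Int.negSucc 0, Int.negSucc 0, Int.negSucc 0, Int.ofNat 1, Int.negSucc 0, Int.ofNat 1, Int.ofNat 1, Int.ofNat 1, Int.ofNat 1],
  [Int.ofNat 0, Int.ofNat 0, Int.ofNat 0, Int.ofNat 2, Int.ofNat 0, Int.negSucc 1, Int.ofNat 0, Int.ofNat 0, Int.ofNat 0, Int.ofNat 0, Int.ofNat 0, Int.ofNat 0, Int.negSucc 1, Int.ofNat 0, Int.ofNat 2, Int.ofNat 0, Int.ofNat 0, Int.ofNat 0, Int.ofNat 0, Int.negSucc 1, Int.ofNat 2, Int.ofNat 0, Int.ofNat 2, Int.negSucc 1],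
  [Int.ofNat 0, Int.ofNat 0, Int.ofNat 0, Int.ofNat 2, Int.ofNat 0, Int.ofNat 2, Int.ofNat 0, Int.ofNat 0, Int.ofNat 0, Int.ofNat 0, Int.ofNat 0, Int.ofNat 0, Int.negSucc 1, Int.ofNat 0, Int.ofNat 2, Int.ofNat 0, Int.ofNat 0, Int.ofNat 0, Int.ofNat 0, Int.negSucc 1, Int.ofNat 2, Int.ofNat 0, Int.negSucc 1, Int.negSucc 1],
  [Int.ofNat 0, Int.ofNat 0, Int.ofNat 0, Int.ofNat 0, Int.ofNat 2, Int.ofNat 0, Int.ofNat 0, Int.ofNat 2, Int.ofNat 2, Int.ofNat 2, Int.ofNat 0, Int.ofNat 0, Int.ofNat 0, Int.ofNat 0, Int.ofNat 0, Int.ofNat 0, Int.negSucc 1, Int.negSucc 1, Int.ofNat 0, Int.ofNat 0, Int.ofNat 0, Int.ofNat 0, Int.negSucc 1, Int.negSucc 1],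
  [Int.ofNat 0, Int.ofNat 0, Int.ofNat 0, Int.ofNat 0, Int.negSucc 1, Int.ofNat 0, Int.ofNat 0, Int.ofNat 2, Int.negSucc 1, Int.negSucc 1, Int.ofNat 0, Int.ofNat 0, Int.ofNat 0, Int.ofNat 0, Int.ofNat 0, Int.ofNat 0, Int.ofNat 2, Int.negSucc 1, Int.ofNat 0, Int.ofNat 0, Int.ofNat 0, Int.ofNat 0, Int.negSucc 1, Int.negSucc 1],
  [Int.negSucc 1, Int.negSucc 1, Int.ofNat 0, Int.ofNat 0, Int.negSucc 1, Int.negSucc 1, Int.ofNat 0, Int.ofNat 0, Int.ofNat 0, Int.ofNat 0, Int.ofNat 2, Int.ofNat 0, Int.ofNat 0, Int.ofNat 2, Int.ofNat 0, Int.ofNat 0, Int.ofNat 0, Int.negSucc 1, Int.ofNat 0, Int.ofNat 0, Int.negSucc 1, Int.ofNat 0, Int.ofNat 0, Int.ofNat 0],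
  [Int.ofNat 2, Int.negSucc 1, Int.ofNat 0, Int.ofNat 0, Int.negSucc 1, Int.negSucc 1, Int.ofNat 0, Int.ofNat 0, Int.ofNat 0, Int.ofNat 0, Int.negSucc 1, Int.ofNat 0, Int.ofNat 0, Int.ofNat 2, Int.ofNat 0, Int.ofNat 0, Int.ofNat 0, Int.negSucc 1, Int.ofNat 0, Int.ofNat 0, Int.negSucc 1, Int.ofNat 0, Int.ofNat 0, Int.ofNat 0],
  [Int.ofNat 0, Int.ofNat 2, Int.negSucc 1, Int.ofNat 0, Int.ofNat 0, Int.negSucc 1, Int.negSucc 1, Int.ofNat 0, Int.ofNat 0, Int.ofNat 0, Int.ofNat 0, Int.negSucc 1, Int.ofNat 0, Int.ofNat 0, Int.ofNat 2, Int.ofNat 0, Int.ofNat 0, Int.ofNat 0, Int.negSucc 1, Int.ofNat 0, Int.ofNat 0, Int.negSucc 1, Int.ofNat 0, Int.ofNat 0],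
  [Int.ofNat 0, Int.negSucc 1, Int.ofNat 2, Int.ofNat 0, Int.ofNat 0, Int.negSucc 1, Int.ofNat 0, Int.ofNat 2, Int.ofNat 2, Int.ofNat 0, Int.ofNat 0, Int.ofNat 0, Int.ofNat 2, Int.ofNat 0, Int.ofNat 2, Int.ofNat 0, Int.ofNat 0, Int.ofNat 0, Int.ofNat 0, Int.ofNat 2, Int.ofNat 0, Int.ofNat 0, Int.ofNat 0, Int.ofNat 0],
  [Int.ofNat 0, Int.ofNat 0, Int.negSucc 1, Int.ofNat 0, Int.ofNat 2, Int.ofNat 2, Int.ofNat 0, Int.ofNat 0, Int.ofNat 0, Int.ofNat 2, Int.ofNat 0, Int.ofNat 2, Int.ofNat 0, Int.ofNat 0, Int.ofNat 0, Int.ofNat 0, Int.ofNat 2, Int.ofNat 0, Int.ofNat 0, Int.ofNat 0, Int.ofNat 0, Int.negSucc 1, Int.ofNat 2, Int.ofNat 0],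
  [Int.negSucc 0, Int.negSucc 0, Int.ofNat 1, Int.negSucc 0, Int.negSucc 0, Int.ofNat 1, Int.ofNat 1, Int.ofNat 1, Int.negSucc 0, Int.ofNat 1, Int.negSucc 0, Int.ofNat 1, Int.negSucc 0, Int.negSucc 2, Int.negSucc 0, Int.negSucc 0, Int.negSucc 0, Int.negSucc 0, Int.negSucc 0, Int.ofNat 1, Int.negSucc 0, Int.negSucc 0, Int.negSucc 0, Int.negSucc 0],
  [Int.negSucc 0, Int.ofNat 1, Int.negSucc 0, Int.negSucc 0, Int.negSucc 0, Int.ofNat 1, Int.ofNat 1, Int.negSucc 0, Int.negSucc 0, Int.negSucc 2, Int.negSucc 0, Int.negSucc 0, Int.ofNat 1, Int.negSucc 0, Int.negSucc 0, Int.negSucc 0, Int.negSucc 0, Int.negSucc 0, Int.negSucc 0, Int.ofNat 1, Int.negSucc 0, Int.ofNat 1, Int.ofNat 1, Int.negSucc 0],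
  [Int.ofNat 0, Int.negSucc 1, Int.ofNat 0, Int.ofNat 0, Int.ofNat 0, Int.ofNat 2, Int.ofNat 0, Int.negSucc 1, Int.ofNat 0, Int.ofNat 0, Int.ofNat 2, Int.ofNat 0, Int.ofNat 2, Int.ofNat 0, Int.ofNat 0, Int.ofNat 2, Int.ofNat 0, Int.ofNat 0, Int.ofNat 0, Int.ofNat 0, Int.ofNat 2, Int.ofNat 0, Int.ofNat 2, Int.ofNat 0],
  [Int.ofNat 0, Int.negSucc 1, Int.ofNat 0, Int.ofNat 0, Int.ofNat 0, Int.negSucc 1, Int.ofNat 0, Int.negSucc 1, Int.ofNat 0, Int.ofNat 0, Int.negSucc 1, Int.ofNat 0, Int.ofNat 2, Int.ofNat 0, Int.ofNat 0, Int.negSucc 1, Int.ofNat 0, Int.ofNat 0, Int.ofNat 0, Int.ofNat 0, Int.ofNat 2, Int.ofNat 0, Int.negSucc 1, Int.ofNat 0],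
  [Int.ofNat 0, Int.ofNat 0, Int.ofNat 2, Int.ofNat 0, Int.negSucc 1, Int.ofNat 0, Int.ofNat 0, Int.ofNat 2, Int.ofNat 0, Int.ofNat 0, Int.negSucc 1, Int.negSucc 1, Int.ofNat 0, Int.negSucc 1, Int.ofNat 0, Int.ofNat 0, Int.negSucc 1, Int.negSucc 1, Int.ofNat 0, Int.ofNat 0, Int.ofNat 0, Int.ofNat 0, Int.ofNat 0, Int.ofNat 0],
  [Int.ofNat 0, Int.ofNat 0, Int.negSucc 1, Int.ofNat 0, Int.negSucc 1, Int.ofNat 0, Int.ofNat 0, Int.ofNat 2, Int.ofNat 0, Int.ofNat 0, Int.ofNat 2, Int.negSucc 1, Int.ofNat 0, Int.negSucc 1, Int.ofNat 0, Int.ofNat 0, Int.negSucc 1, Int.negSucc 1, Int.ofNat 0, Int.ofNat 0, Int.ofNat 0, Int.ofNat 0, Int.ofNat 0, Int.ofNat 0],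
  [Int.negSucc 0, Int.negSucc 0, Int.ofNat 1, Int.ofNat 1, Int.ofNat 1, Int.ofNat 1, Int.negSucc 0, Int.ofNat 1, Int.ofNat 1, Int.negSucc 0, Int.ofNat 1, Int.negSucc 0, Int.ofNat 1, Int.ofNat 1, Int.ofNat 1, Int.negSucc 0, Int.ofNat 1, Int.negSucc 0, Int.ofNat 1, Int.negSucc 0, Int.negSucc 0, Int.negSucc 0, Int.ofNat 3, Int.negSucc 0],
  [Int.negSucc 0, Int.ofNat 1, Int.negSucc 0, Int.ofNat 1, Int.ofNat 1, Int.negSucc 0, Int.negSucc 0, Int.ofNat 1, Int.ofNat 1, Int.ofNat 1, Int.ofNat 1, Int.negSucc 0, Int.ofNat 1, Int.negSucc 0, Int.negSucc 0, Int.negSucc 0, Int.ofNat 1, Int.negSucc 0, Int.ofNat 1, Int.ofNat 3, Int.ofNat 1, Int.negSucc 0, Int.ofNat 1, Int.negSucc 0],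
  [Int.ofNat 0, Int.negSucc 1, Int.ofNat 0, Int.ofNat 2, Int.ofNat 0, Int.ofNat 0, Int.negSucc 1, Int.ofNat 0, Int.ofNat 0, Int.ofNat 0, Int.ofNat 0, Int.negSucc 1, Int.ofNat 0, Int.negSucc 1, Int.ofNat 0, Int.negSucc 1, Int.ofNat 0, Int.ofNat 0, Int.ofNat 0, Int.ofNat 2, Int.ofNat 0, Int.negSucc 1, Int.ofNat 0, Int.ofNat 0],
  [Int.ofNat 0, Int.negSucc 1, Int.ofNat 0, Int.ofNat 0, Int.negSucc 1, Int.ofNat 0, Int.ofNat 2, Int.ofNat 0, Int.ofNat 0, Int.negSucc 1, Int.ofNat 0, Int.ofNat 0, Int.ofNat 0, Int.ofNat 0, Int.negSucc 1, Int.ofNat 0, Int.negSucc 1, Int.ofNat 0, Int.negSucc 1, Int.ofNat 0, Int.ofNat 0, Int.ofNat 0, Int.ofNat 2, Int.ofNat 0],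
  [Int.negSucc 0, Int.ofNat 1, Int.negSucc 0, Int.ofNat 1, Int.negSucc 0, Int.ofNat 1, Int.ofNat 1, Int.negSucc 0, Int.ofNat 1, Int.negSucc 0, Int.ofNat 1, Int.ofNat 1, Int.ofNat 1, Int.ofNat 1, Int.negSucc 0, Int.ofNat 1, Int.negSucc 0, Int.ofNat 1, Int.negSucc 0, Int.negSucc 0, Int.ofNat 1, Int.negSucc 0, Int.ofNat 3, Int.negSucc 0],
  [Int.ofNat 1, Int.negSucc 0, Int.ofNat 1, Int.negSucc 0, Int.ofNat 1, Int.ofNat 1, Int.negSucc 0, Int.ofNat 1, Int.negSucc 0, Int.ofNat 1, Int.ofNat 1, Int.ofNat 1, Int.ofNat 1, Int.negSucc 0, Int.ofNat 1, Int.negSucc 0, Int.ofNat 1, Int.negSucc 0, Int.negSucc 0, Int.ofNat 1, Int.negSucc 0, Int.ofNat 3, Int.negSucc 0, Int.negSucc 0],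
  [Int.negSucc 0, Int.negSucc 0, Int.negSucc 0, Int.negSucc 0, Int.ofNat 1, Int.ofNat 1, Int.negSucc 0, Int.negSucc 0, Int.negSucc 0, Int.negSucc 0, Int.negSucc 0, Int.negSucc 0, Int.ofNat 1, Int.negSucc 0, Int.ofNat 1, Int.negSucc 0, Int.ofNat 1, Int.negSucc 0, Int.ofNat 1, Int.ofNat 1, Int.negSucc 0, Int.negSucc 2, Int.negSucc 0, Int.negSucc 0],
  [Int.negSucc 0, Int.negSucc 0, Int.ofNat 1, Int.negSucc 0, Int.negSucc 0, Int.negSucc 0, Int.ofNat 1, Int.negSucc 0, Int.negSucc 0, Int.ofNat 1, Int.negSucc 2, Int.ofNat 1, Int.negSucc 0, Int.negSucc 0, Int.ofNat 1, Int.negSucc 0, Int.ofNat 1, Int.negSucc 0, Int.negSucc 0, Int.negSucc 0, Int.ofNat 1, Int.negSucc 0, Int.negSucc 0, Int.negSucc 0],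
  [Int.ofNat 1, Int.negSucc 0, Int.negSucc 0, Int.negSucc 0, Int.negSucc 0, Int.negSucc 0, Int.ofNat 1, Int.ofNat 1, Int.negSucc 0, Int.negSucc 0, Int.ofNat 3, Int.negSucc 0, Int.negSucc 0, Int.negSucc 0, Int.ofNat 1, Int.negSucc 0, Int.ofNat 1, Int.negSucc 0, Int.ofNat 1, Int.negSucc 0, Int.ofNat 1, Int.ofNat 1, Int.negSucc 0, Int.negSucc 0],
  [Int.negSucc 0, Int.ofNat 1, Int.negSucc 0, Int.negSucc 0, Int.negSucc 0, Int.negSucc 0, Int.negSucc 0, Int.ofNat 1, Int.ofNat 1, Int.negSucc 0, Int.negSucc 0, Int.ofNat 3, Int.negSucc 0, Int.negSucc 0, Int.negSucc 0, Int.ofNat 1, Int.negSucc 0, Int.ofNat 1, Int.negSucc 0, Int.ofNat 1, Int.negSucc 0, Int.ofNat 1, Int.ofNat 1, Int.negSucc 0],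
  [Int.ofNat 0, Int.negSucc 1, Int.ofNat 0, Int.ofNat 0, Int.ofNat 0, Int.ofNat 0, Int.negSucc 1, Int.ofNat 0, Int.ofNat 0, Int.ofNat 0, Int.ofNat 0, Int.ofNat 2, Int.negSucc 1, Int.ofNat 0, Int.ofNat 0, Int.ofNat 2, Int.ofNat 0, Int.ofNat 2, Int.negSucc 1, Int.ofNat 0, Int.ofNat 0, Int.ofNat 0, Int.ofNat 2, Int.ofNat 0],
  [Int.ofNat 0, Int.ofNat 0, Int.ofNat 0, Int.negSucc 1, Int.ofNat 0, Int.ofNat 0, Int.ofNat 0, Int.ofNat 0, Int.ofNat 2, Int.negSucc 1, Int.ofNat 0, Int.ofNat 0, Int.ofNat 2, Int.ofNat 0, Int.ofNat 2, Int.negSucc 1, Int.ofNat 0, Int.ofNat 0, Int.ofNat 0, Int.ofNat 2, Int.ofNat 0, Int.negSucc 1, Int.ofNat 0, Int.ofNat 0],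
  [Int.ofNat 0, Int.ofNat 0, Int.ofNat 0, Int.negSucc 1, Int.ofNat 0, Int.ofNat 0, Int.ofNat 0, Int.ofNat 0, Int.ofNat 0, Int.ofNat 0, Int.ofNat 2, Int.negSucc 1, Int.ofNat 0, Int.ofNat 0, Int.ofNat 2, Int.ofNat 0, Int.ofNat 0, Int.ofNat 0, Int.negSucc 1, Int.ofNat 2, Int.ofNat 2, Int.negSucc 1, Int.ofNat 0, Int.ofNat 0],
  [Int.ofNat 0, Int.ofNat 0, Int.ofNat 0, Int.negSucc 1, Int.negSucc 1, Int.ofNat 0, Int.ofNat 0, Int.ofNat 2, Int.ofNat 0, Int.ofNat 0, Int.ofNat 2, Int.ofNat 0, Int.ofNat 0, Int.ofNat 0, Int.ofNat 0, Int.ofNat 0, Int.ofNat 0, Int.ofNat 2, Int.ofNat 0, Int.negSucc 1, Int.negSucc 1, Int.ofNat 0, Int.ofNat 2, Int.ofNat 0],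
  [Int.ofNat 0, Int.ofNat 0, Int.ofNat 0, Int.negSucc 1, Int.negSucc 1, Int.ofNat 0, Int.ofNat 0, Int.ofNat 2, Int.ofNat 0, Int.ofNat 0, Int.ofNat 2, Int.ofNat 0, Int.ofNat 0, Int.ofNat 0, Int.ofNat 0, Int.ofNat 0, Int.ofNat 0, Int.ofNat 2, Int.ofNat 0, Int.negSucc 1, Int.negSucc 1, Int.ofNat 0, Int.ofNat 2, Int.ofNat 0],
  [Int.ofNat 0, Int.ofNat 0, Int.ofNat 0, Int.negSucc 1, Int.negSucc 1, Int.ofNat 0, Int.ofNat 0, Int.ofNat 2, Int.ofNat 0, Int.ofNat 0, Int.negSucc 1, Int.ofNat 0, Int.ofNat 0, Int.ofNat 0, Int.ofNat 0, Int.ofNat 0, Int.ofNat 0, Int.ofNat 2, Int.ofNat 0, Int.negSucc 1, Int.negSucc 1, Int.ofNat 0, Int.negSucc 1, Int.ofNat 0],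
  [Int.negSucc 1, Int.ofNat 0, Int.ofNat 0, Int.ofNat 0, Int.ofNat 0, Int.ofNat 0, Int.ofNat 0, Int.negSucc 1, Int.ofNat 0, Int.negSucc 1, Int.ofNat 0, Int.ofNat 2, Int.ofNat 0, Int.negSucc 1, Int.ofNat 2, Int.ofNat 0, Int.negSucc 1, Int.ofNat 0, Int.ofNat 0, Int.ofNat 0, Int.ofNat 0, Int.ofNat 0, Int.negSucc 1, Int.ofNat 0],
  [Int.ofNat 2, Int.ofNat 0, Int.ofNat 0, Int.ofNat 0, Int.ofNat 0, Int.ofNat 0, Int.ofNat 0, Int.negSucc 1, Int.ofNat 0, Int.ofNat 2, Int.ofNat 0, Int.ofNat 2, Int.ofNat 0, Int.ofNat 2, Int.ofNat 2, Int.ofNat 0, Int.ofNat 2, Int.ofNat 0, Int.ofNat 0, Int.ofNat 0, Int.ofNat 0, Int.ofNat 0, Int.negSucc 1, Int.ofNat 0],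
  [Int.ofNat 0, Int.negSucc 1, Int.ofNat 2, Int.ofNat 0, Int.ofNat 0, Int.ofNat 2, Int.ofNat 0, Int.ofNat 2, Int.ofNat 0, Int.ofNat 0, Int.ofNat 2, Int.ofNat 0, Int.ofNat 0, Int.negSucc 1, Int.ofNat 0, Int.ofNat 0, Int.ofNat 0, Int.ofNat 0, Int.ofNat 2, Int.ofNat 0, Int.ofNat 0, Int.ofNat 0, Int.ofNat 0, Int.ofNat 2],
  [Int.ofNat 0, Int.negSucc 1, Int.negSucc 1, Int.ofNat 0, Int.ofNat 0, Int.ofNat 2, Int.ofNat 0, Int.negSucc 1, Int.ofNat 0, Int.ofNat 0, Int.negSucc 1, Int.ofNat 0, Int.ofNat 0, Int.negSucc 1, Int.ofNat 0, Int.ofNat 0, Int.ofNat 0, Int.ofNat 0, Int.negSucc 1, Int.ofNat 0, Int.ofNat 0, Int.ofNat 0, Int.ofNat 0, Int.ofNat 2],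
  [Int.ofNat 0, Int.ofNat 0, Int.negSucc 1, Int.negSucc 1, Int.ofNat 0, Int.ofNat 0, Int.ofNat 2, Int.ofNat 0, Int.negSucc 1, Int.ofNat 0, Int.ofNat 0, Int.negSucc 1, Int.ofNat 0, Int.ofNat 0, Int.negSucc 1, Int.ofNat 0, Int.ofNat 0, Int.ofNat 0, Int.ofNat 0, Int.negSucc 1, Int.ofNat 0, Int.ofNat 0, Int.ofNat 0, Int.ofNat 2],
  [Int.ofNat 0, Int.ofNat 0, Int.ofNat 2, Int.ofNat 0, Int.ofNat 0, Int.ofNat 2, Int.ofNat 2, Int.ofNat 0, Int.ofNat 0, Int.ofNat 0, Int.ofNat 0, Int.ofNat 0, Int.ofNat 2, Int.ofNat 0, Int.ofNat 0, Int.ofNat 0, Int.ofNat 0, Int.ofNat 2, Int.ofNat 2, Int.negSucc 1, Int.ofNat 0, Int.ofNat 0, Int.ofNat 0, Int.negSucc 1],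
  [Int.ofNat 0, Int.ofNat 0, Int.ofNat 2, Int.ofNat 2, Int.ofNat 0, Int.ofNat 0, Int.ofNat 0, Int.ofNat 0, Int.ofNat 0, Int.ofNat 2, Int.ofNat 0, Int.ofNat 0, Int.ofNat 0, Int.ofNat 0, Int.ofNat 2, Int.ofNat 2, Int.negSucc 1, Int.ofNat 0, Int.ofNat 0, Int.ofNat 0, Int.ofNat 0, Int.ofNat 0, Int.ofNat 2, Int.negSucc 1],
  [Int.ofNat 0, Int.ofNat 0, Int.negSucc 1, Int.ofNat 0, Int.ofNat 0, Int.negSucc 1, Int.ofNat 0, Int.ofNat 0, Int.ofNat 0, Int.ofNat 0, Int.negSucc 1, Int.ofNat 0, Int.ofNat 0, Int.ofNat 0, Int.ofNat 0, Int.ofNat 0, Int.negSucc 1, Int.negSucc 1, Int.ofNat 0, Int.ofNat 0, Int.negSucc 1, Int.ofNat 0, Int.ofNat 2, Int.ofNat 2],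
  [Int.ofNat 0, Int.ofNat 0, Int.ofNat 0, Int.ofNat 0, Int.ofNat 0, Int.ofNat 0, Int.negSucc 1, Int.negSucc 1, Int.ofNat 0, Int.ofNat 0, Int.negSucc 1, Int.negSucc 1, Int.ofNat 0, Int.negSucc 1, Int.ofNat 2, Int.ofNat 0, Int.ofNat 0, Int.ofNat 0, Int.ofNat 0, Int.ofNat 0, Int.ofNat 0, Int.negSucc 1, Int.ofNat 0, Int.ofNat 2],
  [Int.ofNat 1, Int.ofNat 1, Int.ofNat 1, Int.negSucc 0, Int.ofNat 1, Int.negSucc 0, Int.ofNat 1, Int.ofNat 1, Int.ofNat 1, Int.ofNat 1, Int.negSucc 0, Int.negSucc 0, Int.ofNat 1, Int.negSucc 0, Int.ofNat 1, Int.ofNat 1, Int.ofNat 1, Int.negSucc 0, Int.ofNat 1, Int.ofNat 3, Int.ofNat 1, Int.ofNat 1, Int.ofNat 1, Int.negSucc 0],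
  [Int.ofNat 1, Int.ofNat 1, Int.negSucc 0, Int.negSucc 0, Int.ofNat 1, Int.ofNat 1, Int.negSucc 0, Int.ofNat 1, Int.ofNat 1, Int.negSucc 0, Int.ofNat 1, Int.negSucc 0, Int.ofNat 1, Int.negSucc 0, Int.ofNat 1, Int.negSucc 0, Int.ofNat 1, Int.negSucc 0, Int.negSucc 0, Int.ofNat 3, Int.ofNat 1, Int.ofNat 1, Int.negSucc 0, Int.negSucc 0],
  [Int.negSucc 0, Int.negSucc 0, Int.ofNat 1, Int.negSucc 0, Int.ofNat 1, Int.ofNat 1, Int.ofNat 1, Int.ofNat 1, Int.ofNat 1, Int.ofNat 3, Int.ofNat 1, Int.ofNat 1, Int.negSucc 0, Int.ofNat 1, Int.negSucc 0, Int.negSucc 0, Int.negSucc 0, Int.negSucc 0, Int.ofNat 1, Int.negSucc 0, Int.negSucc 0, Int.ofNat 1, Int.ofNat 1, Int.negSucc 0],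
  [Int.negSucc 0, Int.negSucc 0, Int.negSucc 0, Int.negSucc 0, Int.ofNat 1, Int.negSucc 0, Int.negSucc 0, Int.ofNat 1, Int.ofNat 1, Int.negSucc 2, Int.negSucc 0, Int.ofNat 1, Int.negSucc 0, Int.ofNat 1, Int.negSucc 0, Int.ofNat 1, Int.negSucc 0, Int.negSucc 0, Int.negSucc 0, Int.negSucc 0, Int.negSucc 0, Int.ofNat 1, Int.negSucc 0, Int.negSucc 0],
  [Int.negSucc 0, Int.negSucc 0, Int.negSucc 0, Int.ofNat 1, Int.ofNat 1, Int.ofNat 1, Int.negSucc 0, Int.ofNat 1, Int.ofNat 1, Int.negSucc 0, Int.ofNat 1, Int.ofNat 1, Int.negSucc 0, Int.ofNat 1, Int.ofNat 1, Int.ofNat 3, Int.negSucc 0, Int.ofNat 1, Int.negSucc 0, Int.negSucc 0, Int.ofNat 1, Int.ofNat 1, Int.negSucc 0, Int.negSucc 0],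
  [Int.negSucc 0, Int.negSucc 0, Int.negSucc 0, Int.ofNat 1, Int.negSucc 0, Int.ofNat 1, Int.negSucc 0, Int.ofNat 1, Int.negSucc 0, Int.negSucc 0, Int.ofNat 1, Int.negSucc 0, Int.ofNat 1, Int.negSucc 0, Int.ofNat 1, Int.ofNat 3, Int.ofNat 1, Int.ofNat 1, Int.ofNat 1, Int.negSucc 0, Int.ofNat 1, Int.ofNat 1, Int.ofNat 1, Int.negSucc 0],
  [Int.negSucc 0, Int.negSucc 0, Int.negSucc 0, Int.negSucc 0, Int.negSucc 0, Int.negSucc 0, Int.negSucc 0, Int.ofNat 1, Int.negSucc 0, Int.negSucc 2, Int.negSucc 0, Int.negSucc 0, Int.ofNat 1, Int.negSucc 0, Int.negSucc 0, Int.ofNat 1, Int.ofNat 1, Int.negSucc 0, Int.ofNat 1, Int.negSucc 0, Int.negSucc 0, Int.ofNat 1, Int.ofNat 1, Int.negSucc 0],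
  [Int.negSucc 0, Int.ofNat 1, Int.ofNat 1, Int.negSucc 0, Int.negSucc 0, Int.negSucc 0, Int.negSucc 0, Int.negSucc 0, Int.negSucc 0, Int.negSucc 0, Int.ofNat 1, Int.negSucc 0, Int.negSucc 2, Int.negSucc 0, Int.negSucc 0, Int.ofNat 1, Int.negSucc 0, Int.negSucc 0, Int.ofNat 1, Int.ofNat 1, Int.negSucc 0, Int.ofNat 1, Int.negSucc 0, Int.negSucc 0],
  [Int.ofNat 1, Int.negSucc 0, Int.negSucc 0, Int.ofNat 1, Int.ofNat 1, Int.ofNat 1, Int.negSucc 0, Int.negSucc 0, Int.ofNat 1, Int.negSucc 0, Int.ofNat 1, Int.ofNat 1, Int.negSucc 0, Int.ofNat 1, Int.ofNat 1, Int.ofNat 1, Int.ofNat 1, Int.ofNat 1, Int.ofNat 3, Int.ofNat 1, Int.negSucc 0, Int.ofNat 1, Int.ofNat 1, Int.ofNat 1],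
  [Int.negSucc 0, Int.negSucc 0, Int.ofNat 1, Int.ofNat 1, Int.ofNat 1, Int.negSucc 0, Int.negSucc 0, Int.ofNat 1, Int.negSucc 0, Int.ofNat 1, Int.ofNat 1, Int.negSucc 0, Int.ofNat 1, Int.ofNat 1, Int.ofNat 1, Int.ofNat 1, Int.ofNat 1, Int.ofNat 3, Int.ofNat 1, Int.negSucc 0, Int.ofNat 1, Int.ofNat 1, Int.ofNat 1, Int.ofNat 1],
  [Int.ofNat 1, Int.negSucc 0, Int.negSucc 0, Int.ofNat 1, Int.ofNat 1, Int.negSucc 0, Int.negSucc 0, Int.negSucc 0, Int.negSucc 0, Int.negSucc 0, Int.negSucc 0, Int.ofNat 1, Int.ofNat 1, Int.ofNat 1, Int.ofNat 1, Int.ofNat 1, Int.ofNat 1, Int.ofNat 3, Int.negSucc 0, Int.negSucc 0, Int.ofNat 1, Int.negSucc 0, Int.ofNat 1, Int.ofNat 1],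
  [Int.ofNat 1, Int.negSucc 0, Int.negSucc 0, Int.ofNat 1, Int.negSucc 0, Int.negSucc 0, Int.ofNat 1, Int.ofNat 1, Int.negSucc 0, Int.ofNat 1, Int.negSucc 0, Int.ofNat 1, Int.ofNat 1, Int.negSucc 0, Int.negSucc 0, Int.ofNat 1, Int.ofNat 1, Int.ofNat 1, Int.negSucc 0, Int.ofNat 3, Int.negSucc 0, Int.negSucc 0, Int.ofNat 1, Int.ofNat 1],
  [Int.negSucc 0, Int.negSucc 0, Int.ofNat 1, Int.ofNat 1, Int.negSucc 0, Int.negSucc 0, Int.ofNat 1, Int.negSucc 0, Int.negSucc 0, Int.negSucc 0, Int.ofNat 1, Int.negSucc 0, Int.ofNat 1, Int.negSucc 0, Int.negSucc 0, Int.ofNat 1, Int.ofNat 1, Int.ofNat 1, Int.ofNat 1, Int.ofNat 3, Int.negSucc 0, Int.ofNat 1, Int.ofNat 1, Int.ofNat 1],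
  [Int.ofNat 1, Int.negSucc 0, Int.negSucc 0, Int.ofNat 1, Int.ofNat 1, Int.negSucc 0, Int.negSucc 0, Int.ofNat 1, Int.negSucc 0, Int.negSucc 0, Int.negSucc 0, Int.ofNat 1, Int.negSucc 0, Int.ofNat 1, Int.negSucc 0, Int.negSucc 0, Int.ofNat 1, Int.ofNat 1, Int.ofNat 1, Int.ofNat 1, Int.ofNat 3, Int.negSucc 0, Int.ofNat 1, Int.ofNat 1],
  [Int.negSucc 0, Int.ofNat 1, Int.ofNat 1, Int.ofNat 1, Int.negSucc 0, Int.negSucc 0, Int.negSucc 0, Int.ofNat 1, Int.negSucc 0, Int.negSucc 0, Int.negSucc 0, Int.ofNat 1, Int.negSucc 0, Int.negSucc 0, Int.negSucc 0, Int.negSucc 0, Int.negSucc 0, Int.ofNat 1, Int.ofNat 1, Int.ofNat 1, Int.ofNat 3, Int.negSucc 0, Int.negSucc 0, Int.negSucc 0],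
  [Int.ofNat 1, Int.negSucc 0, Int.negSucc 0, Int.negSucc 0, Int.ofNat 1, Int.negSucc 0, Int.negSucc 0, Int.negSucc 0, Int.ofNat 1, Int.negSucc 0, Int.negSucc 0, Int.negSucc 0, Int.negSucc 0, Int.negSucc 0, Int.ofNat 1, Int.ofNat 1, Int.ofNat 1, Int.ofNat 3, Int.negSucc 0, Int.negSucc 0, Int.negSucc 0, Int.ofNat 1, Int.ofNat 1, Int.negSucc 0],
  [Int.negSucc 1, Int.ofNat 0, Int.ofNat 0, Int.negSucc 1, Int.ofNat 0, Int.negSucc 1, Int.ofNat 0, Int.ofNat 0, Int.ofNat 2, Int.ofNat 0, Int.ofNat 0, Int.ofNat 0, Int.ofNat 0, Int.negSucc 1, Int.ofNat 0, Int.ofNat 2, Int.ofNat 0, Int.ofNat 2, Int.ofNat 0, Int.ofNat 0, Int.ofNat 0, Int.ofNat 2, Int.ofNat 0, Int.ofNat 0],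
  [Int.negSucc 1, Int.ofNat 0, Int.ofNat 0, Int.negSucc 1, Int.ofNat 0, Int.ofNat 0, Int.ofNat 0, Int.ofNat 0, Int.ofNat 0, Int.negSucc 1, Int.ofNat 0, Int.ofNat 2, Int.ofNat 0, Int.ofNat 0, Int.ofNat 0, Int.ofNat 2, Int.ofNat 2, Int.ofNat 0, Int.ofNat 0, Int.ofNat 0, Int.ofNat 2, Int.negSucc 1, Int.ofNat 0, Int.ofNat 0],
  [Int.ofNat 1, Int.negSucc 0, Int.negSucc 0, Int.negSucc 0, Int.negSucc 0, Int.ofNat 1, Int.ofNat 1, Int.ofNat 1, Int.negSucc 0, Int.negSucc 2, Int.negSucc 0, Int.ofNat 1, Int.negSucc 0, Int.negSucc 0, Int.ofNat 1, Int.ofNat 1, Int.ofNat 1, Int.ofNat 1, Int.negSucc 0, Int.ofNat 1, Int.ofNat 1, Int.negSucc 0, Int.negSucc 0, Int.negSucc 0],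
  [Int.ofNat 1, Int.negSucc 0, Int.ofNat 1, Int.negSucc 0, Int.negSucc 0, Int.negSucc 0, Int.negSucc 0, Int.ofNat 1, Int.negSucc 0, Int.ofNat 3, Int.ofNat 1, Int.ofNat 1, Int.negSucc 0, Int.negSucc 0, Int.ofNat 1, Int.negSucc 0, Int.ofNat 1, Int.ofNat 1, Int.ofNat 1, Int.ofNat 1, Int.ofNat 1, Int.negSucc 0, Int.ofNat 1, Int.negSucc 0],
  [Int.ofNat 1, Int.ofNat 1, Int.ofNat 1, Int.negSucc 0, Int.ofNat 1, Int.negSucc 0, Int.negSucc 0, Int.negSucc 0, Int.negSucc 0, Int.ofNat 1, Int.negSucc 0, Int.ofNat 1, Int.negSucc 0, Int.negSucc 0, Int.ofNat 1, Int.ofNat 1, Int.ofNat 1, Int.negSucc 0, Int.ofNat 3, Int.ofNat 1, Int.ofNat 1, Int.negSucc 0, Int.ofNat 1, Int.negSucc 0],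
  [Int.negSucc 0, Int.negSucc 0, Int.negSucc 0, Int.ofNat 1, Int.negSucc 0, Int.negSucc 0, Int.ofNat 1, Int.negSucc 0, Int.ofNat 1, Int.negSucc 0, Int.negSucc 0, Int.ofNat 1, Int.ofNat 1, Int.ofNat 1, Int.ofNat 1, Int.ofNat 1, Int.negSucc 0, Int.negSucc 0, Int.negSucc 2, Int.ofNat 1, Int.ofNat 1, Int.negSucc 0, Int.ofNat 1, Int.negSucc 0],
  [Int.negSucc 0, Int.ofNat 1, Int.ofNat 1, Int.ofNat 1, Int.negSucc 0, Int.negSucc 0, Int.ofNat 1, Int.ofNat 1, Int.ofNat 1, Int.negSucc 0, Int.negSucc 0, Int.negSucc 0, Int.negSucc 0, Int.negSucc 0, Int.negSucc 2, Int.ofNat 1, Int.negSucc 0, Int.negSucc 0, Int.ofNat 1, Int.ofNat 1, Int.ofNat 1, Int.ofNat 1, Int.negSucc 0, Int.negSucc 0],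
  [Int.ofNat 1, Int.ofNat 1, Int.negSucc 0, Int.ofNat 1, Int.negSucc 0, Int.negSucc 0, Int.ofNat 1, Int.negSucc 0, Int.ofNat 1, Int.ofNat 1, Int.ofNat 1, Int.ofNat 1, Int.negSucc 0, Int.negSucc 0, Int.negSucc 2, Int.ofNat 1, Int.negSucc 0, Int.negSucc 0, Int.negSucc 0, Int.ofNat 1, Int.ofNat 1, Int.negSucc 0, Int.negSucc 0, Int.negSucc 0],
  [Int.negSucc 0, Int.ofNat 1, Int.ofNat 1, Int.negSucc 0, Int.ofNat 1, Int.negSucc 0, Int.negSucc 0, Int.ofNat 1, Int.negSucc 0, Int.ofNat 1, Int.ofNat 1, Int.ofNat 1, Int.ofNat 1, Int.negSucc 0, Int.negSucc 0, Int.negSucc 2, Int.ofNat 1, Int.negSucc 0, Int.negSucc 0, Int.negSucc 0, Int.ofNat 1, Int.ofNat 1, Int.negSucc 0, Int.negSucc 0],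
  [Int.ofNat 1, Int.negSucc 0, Int.negSucc 0, Int.ofNat 1, Int.ofNat 1, Int.ofNat 1, Int.negSucc 0, Int.ofNat 1, Int.negSucc 0, Int.ofNat 1, Int.ofNat 1, Int.ofNat 1, Int.ofNat 1, Int.negSucc 0, Int.ofNat 1, Int.negSucc 2, Int.ofNat 1, Int.ofNat 1, Int.negSucc 0, Int.negSucc 0, Int.ofNat 1, Int.ofNat 1, Int.negSucc 0, Int.ofNat 1],
  [Int.ofNat 1, Int.ofNat 1, Int.ofNat 1, Int.negSucc 0, Int.ofNat 1, Int.negSucc 0, Int.ofNat 1, Int.ofNat 1, Int.ofNat 1, Int.ofNat 1, Int.negSucc 0, Int.ofNat 1, Int.negSucc 2, Int.ofNat 1, Int.ofNat 1, Int.negSucc 0, Int.negSucc 0, Int.ofNat 1, Int.ofNat 1, Int.negSucc 0, Int.ofNat 1, Int.negSucc 0, Int.negSucc 0, Int.ofNat 1],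
  [Int.ofNat 1, Int.ofNat 1, Int.ofNat 1, Int.negSucc 0, Int.ofNat 1, Int.negSucc 0, Int.ofNat 1, Int.ofNat 1, Int.ofNat 1, Int.ofNat 1, Int.negSucc 0, Int.ofNat 1, Int.negSucc 2, Int.ofNat 1, Int.ofNat 1, Int.negSucc 0, Int.negSucc 0, Int.ofNat 1, Int.ofNat 1, Int.negSucc 0, Int.ofNat 1, Int.negSucc 0, Int.negSucc 0, Int.ofNat 1],
  [Int.ofNat 1, Int.ofNat 1, Int.ofNat 1, Int.negSucc 0, Int.ofNat 1, Int.ofNat 1, Int.ofNat 1, Int.negSucc 0, Int.negSucc 2, Int.ofNat 1, Int.ofNat 1, Int.ofNat 1, Int.ofNat 1, Int.negSucc 0, Int.negSucc 0, Int.negSucc 0, Int.ofNat 1, Int.ofNat 1, Int.ofNat 1, Int.ofNat 1, Int.negSucc 0, Int.negSucc 0, Int.negSucc 0, Int.ofNat 1],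
  [Int.ofNat 1, Int.ofNat 1, Int.ofNat 1, Int.negSucc 0, Int.ofNat 1, Int.ofNat 1, Int.ofNat 1, Int.negSucc 0, Int.negSucc 2, Int.ofNat 1, Int.ofNat 1, Int.ofNat 1, Int.ofNat 1, Int.negSucc 0, Int.negSucc 0, Int.negSucc 0, Int.ofNat 1, Int.ofNat 1, Int.ofNat 1, Int.ofNat 1, Int.negSucc 0, Int.negSucc 0, Int.negSucc 0, Int.ofNat 1],
  [Int.ofNat 1, Int.ofNat 1, Int.negSucc 0, Int.negSucc 0, Int.ofNat 1, Int.negSucc 0, Int.negSucc 0, Int.negSucc 0, Int.negSucc 2, Int.negSucc 0, Int.negSucc 0, Int.ofNat 1, Int.ofNat 1, Int.negSucc 0, Int.negSucc 0, Int.ofNat 1, Int.ofNat 1, Int.ofNat 1, Int.negSucc 0, Int.ofNat 1, Int.negSucc 0, Int.negSucc 0, Int.ofNat 1, Int.ofNat 1],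
  [Int.negSucc 0, Int.negSucc 0, Int.ofNat 1, Int.negSucc 0, Int.negSucc 0, Int.negSucc 0, Int.negSucc 2, Int.negSucc 0, Int.ofNat 1, Int.ofNat 1, Int.ofNat 1, Int.negSucc 0, Int.negSucc 0, Int.negSucc 0, Int.ofNat 1, Int.negSucc 0, Int.ofNat 1, Int.ofNat 1, Int.ofNat 1, Int.ofNat 1, Int.negSucc 0, Int.negSucc 0, Int.ofNat 1, Int.ofNat 1],
  [Int.negSucc 0, Int.negSucc 0, Int.negSucc 0, Int.negSucc 0, Int.negSucc 0, Int.ofNat 1, Int.ofNat 3, Int.negSucc 0, Int.ofNat 1, Int.negSucc 0, Int.negSucc 0, Int.negSucc 0, Int.negSucc 0, Int.negSucc 0, Int.ofNat 1, Int.ofNat 1, Int.ofNat 1, Int.ofNat 1, Int.negSucc 0, Int.ofNat 1, Int.negSucc 0, Int.negSucc 0, Int.negSucc 0, Int.ofNat 1],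
  [Int.ofNat 0, Int.ofNat 0, Int.ofNat 0, Int.negSucc 1, Int.ofNat 0, Int.ofNat 0, Int.ofNat 2, Int.negSucc 1, Int.ofNat 2, Int.ofNat 0, Int.ofNat 0, Int.ofNat 0, Int.ofNat 0, Int.ofNat 0, Int.ofNat 0, Int.ofNat 2, Int.ofNat 2, Int.ofNat 0, Int.ofNat 0, Int.ofNat 0, Int.ofNat 0, Int.negSucc 1, Int.ofNat 0, Int.negSucc 1],
  [Int.ofNat 0, Int.ofNat 0, Int.ofNat 2, Int.negSucc 1, Int.ofNat 0, Int.negSucc 1, Int.ofNat 0, Int.ofNat 0, Int.ofNat 2, Int.ofNat 0, Int.negSucc 1, Int.ofNat 0, Int.ofNat 2, Int.ofNat 0, Int.ofNat 0, Int.ofNat 2, Int.ofNat 0, Int.ofNat 0, Int.ofNat 0, Int.ofNat 0, Int.ofNat 0, Int.ofNat 0, Int.ofNat 0, Int.negSucc 1],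
  [Int.ofNat 0, Int.ofNat 0, Int.negSucc 1, Int.ofNat 0, Int.ofNat 0, Int.ofNat 0, Int.ofNat 0, Int.ofNat 0, Int.ofNat 0, Int.ofNat 0, Int.negSucc 1, Int.negSucc 1, Int.ofNat 0, Int.ofNat 0, Int.ofNat 2, Int.ofNat 2, Int.ofNat 0, Int.ofNat 2, Int.negSucc 1, Int.ofNat 0, Int.ofNat 0, Int.ofNat 0, Int.ofNat 0, Int.ofNat 2],
  [Int.ofNat 0, Int.ofNat 0, Int.ofNat 0, Int.ofNat 0, Int.ofNat 0, Int.negSucc 1, Int.ofNat 0, Int.ofNat 0, Int.ofNat 0, Int.ofNat 0, Int.ofNat 0, Int.ofNat 0, Int.ofNat 0, Int.negSucc 1, Int.negSucc 1, Int.ofNat 0, Int.ofNat 0, Int.ofNat 2, Int.ofNat 2, Int.ofNat 0, Int.ofNat 2, Int.negSucc 1, Int.ofNat 0, Int.ofNat 2],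
  [Int.ofNat 1, Int.ofNat 1, Int.ofNat 1, Int.ofNat 1, Int.ofNat 1, Int.negSucc 0, Int.ofNat 1, Int.ofNat 1, Int.negSucc 0, Int.negSucc 0, Int.negSucc 0, Int.negSucc 0, Int.negSucc 0, Int.negSucc 0, Int.negSucc 0, Int.negSucc 0, Int.ofNat 1, Int.ofNat 3, Int.ofNat 1, Int.ofNat 1, Int.ofNat 1, Int.negSucc 0, Int.ofNat 1, Int.negSucc 0],
  [Int.ofNat 1, Int.ofNat 1, Int.ofNat 1, Int.ofNat 1, Int.negSucc 0, Int.ofNat 1, Int.ofNat 1, Int.negSucc 0, Int.negSucc 0, Int.negSucc 0, Int.negSucc 0, Int.negSucc 0, Int.negSucc 0, Int.negSucc 0, Int.negSucc 0, Int.ofNat 1, Int.ofNat 3, Int.ofNat 1, Int.ofNat 1, Int.ofNat 1, Int.negSucc 0, Int.ofNat 1, Int.ofNat 1, Int.negSucc 0],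
  [Int.negSucc 0, Int.ofNat 1, Int.negSucc 0, Int.ofNat 1, Int.negSucc 0, Int.ofNat 1, Int.ofNat 1, Int.ofNat 1, Int.negSucc 0, Int.ofNat 1, Int.ofNat 1, Int.ofNat 1, Int.negSucc 0, Int.negSucc 0, Int.negSucc 0, Int.ofNat 1, Int.ofNat 3, Int.ofNat 1, Int.negSucc 0, Int.ofNat 1, Int.negSucc 0, Int.negSucc 0, Int.ofNat 1, Int.negSucc 0],
  [Int.negSucc 0, Int.negSucc 0, Int.negSucc 0, Int.ofNat 1, Int.ofNat 1, Int.ofNat 1, Int.negSucc 0, Int.negSucc 0, Int.ofNat 1, Int.ofNat 3, Int.negSucc 0, Int.negSucc 0, Int.negSucc 0, Int.negSucc 0, Int.ofNat 1, Int.ofNat 1, Int.negSucc 0, Int.ofNat 1, Int.ofNat 1, Int.ofNat 1, Int.ofNat 1, Int.ofNat 1, Int.ofNat 1, Int.negSucc 0],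
  [Int.ofNat 1, Int.negSucc 0, Int.ofNat 1, Int.ofNat 1, Int.ofNat 1, Int.ofNat 1, Int.negSucc 0, Int.ofNat 1, Int.ofNat 1, Int.negSucc 2, Int.ofNat 1, Int.ofNat 1, Int.negSucc 0, Int.negSucc 0, Int.ofNat 1, Int.ofNat 1, Int.negSucc 0, Int.ofNat 1, Int.negSucc 0, Int.ofNat 1, Int.ofNat 1, Int.negSucc 0, Int.ofNat 1, Int.negSucc 0],
  [Int.ofNat 1, Int.ofNat 1, Int.negSucc 0, Int.ofNat 1, Int.ofNat 1, Int.ofNat 1, Int.ofNat 1, Int.negSucc 0, Int.ofNat 1, Int.ofNat 1, Int.negSucc 2, Int.ofNat 1, Int.ofNat 1, Int.negSucc 0, Int.negSucc 0, Int.ofNat 1, Int.ofNat 1, Int.negSucc 0, Int.ofNat 1, Int.negSucc 0, Int.ofNat 1, Int.ofNat 1, Int.negSucc 0, Int.negSucc 0],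
  [Int.negSucc 0, Int.negSucc 0, Int.ofNat 1, Int.ofNat 1, Int.ofNat 1, Int.ofNat 1, Int.ofNat 1, Int.negSucc 0, Int.negSucc 0, Int.ofNat 1, Int.negSucc 2, Int.negSucc 0, Int.negSucc 0, Int.negSucc 0, Int.negSucc 0, Int.ofNat 1, Int.ofNat 1, Int.negSucc 0, Int.negSucc 0, Int.negSucc 0, Int.ofNat 1, Int.ofNat 1, Int.negSucc 0, Int.ofNat 1],
  [Int.ofNat 1, Int.ofNat 1, Int.ofNat 1, Int.ofNat 1, Int.negSucc 0, Int.negSucc 0, Int.ofNat 1, Int.negSucc 2, Int.negSucc 0, Int.negSucc 0, Int.negSucc 0, Int.negSucc 0, Int.ofNat 1, Int.ofNat 1, Int.negSucc 0, Int.negSucc 0, Int.negSucc 0, Int.ofNat 1, Int.ofNat 1, Int.negSucc 0, Int.negSucc 0, Int.negSucc 0, Int.ofNat 1, Int.ofNat 1],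
  [Int.ofNat 1, Int.ofNat 1, Int.ofNat 1, Int.ofNat 1, Int.negSucc 0, Int.negSucc 0, Int.ofNat 3, Int.negSucc 0, Int.negSucc 0, Int.ofNat 1, Int.ofNat 1, Int.negSucc 0, Int.ofNat 1, Int.ofNat 1, Int.negSucc 0, Int.ofNat 1, Int.negSucc 0, Int.ofNat 1, Int.ofNat 1, Int.ofNat 1, Int.ofNat 1, Int.ofNat 1, Int.ofNat 1, Int.ofNat 1],
  [Int.ofNat 1, Int.ofNat 3, Int.negSucc 0, Int.ofNat 1, Int.ofNat 1, Int.negSucc 0, Int.ofNat 1, Int.ofNat 1, Int.ofNat 1, Int.ofNat 1, Int.ofNat 1, Int.ofNat 1, Int.ofNat 1, Int.negSucc 0, Int.ofNat 1, Int.ofNat 1, Int.negSucc 0, Int.negSucc 0, Int.ofNat 1, Int.negSucc 0, Int.ofNat 1, Int.negSucc 0, Int.ofNat 1, Int.ofNat 1],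
  [Int.ofNat 1, Int.negSucc 0, Int.ofNat 3, Int.ofNat 1, Int.ofNat 1, Int.negSucc 0, Int.ofNat 1, Int.ofNat 1, Int.negSucc 0, Int.negSucc 0, Int.negSucc 0, Int.negSucc 0, Int.negSucc 0, Int.negSucc 0, Int.ofNat 1, Int.negSucc 0, Int.negSucc 0, Int.negSucc 0, Int.negSucc 0, Int.negSucc 0, Int.negSucc 0, Int.negSucc 0, Int.ofNat 1, Int.ofNat 1],
  [Int.ofNat 1, Int.negSucc 0, Int.negSucc 2, Int.ofNat 1, Int.ofNat 1, Int.ofNat 1, Int.negSucc 0, Int.ofNat 1, Int.negSucc 0, Int.ofNat 1, Int.ofNat 1, Int.negSucc 0, Int.negSucc 0, Int.negSucc 0, Int.ofNat 1, Int.ofNat 1, Int.negSucc 0, Int.negSucc 0, Int.ofNat 1, Int.negSucc 0, Int.negSucc 0, Int.negSucc 0, Int.negSucc 0, Int.ofNat 1],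
  [Int.ofNat 1, Int.negSucc 0, Int.negSucc 0, Int.negSucc 0, Int.ofNat 1, Int.negSucc 0, Int.negSucc 0, Int.ofNat 1, Int.ofNat 1, Int.negSucc 0, Int.negSucc 0, Int.ofNat 1, Int.ofNat 1, Int.ofNat 1, Int.negSucc 0, Int.ofNat 1, Int.negSucc 0, Int.negSucc 0, Int.ofNat 1, Int.negSucc 2, Int.ofNat 1, Int.negSucc 0, Int.negSucc 0, Int.ofNat 1],
  [Int.negSucc 0, Int.ofNat 1, Int.ofNat 1, Int.ofNat 1, Int.negSucc 0, Int.negSucc 0, Int.ofNat 1, Int.ofNat 1, Int.negSucc 0, Int.ofNat 1, Int.negSucc 0, Int.ofNat 1, Int.negSucc 0, Int.negSucc 0, Int.negSucc 0, Int.ofNat 1, Int.ofNat 1, Int.negSucc 0, Int.negSucc 0, Int.negSucc 2, Int.ofNat 1, Int.negSucc 0, Int.negSucc 0, Int.ofNat 1],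
  [Int.ofNat 1, Int.negSucc 0, Int.ofNat 1, Int.ofNat 1, Int.negSucc 0, Int.ofNat 1, Int.negSucc 2, Int.negSucc 0, Int.ofNat 1, Int.negSucc 0, Int.ofNat 1, Int.ofNat 1, Int.negSucc 0, Int.ofNat 1, Int.negSucc 0, Int.ofNat 1, Int.negSucc 0, Int.negSucc 0, Int.negSucc 0, Int.ofNat 1, Int.negSucc 0, Int.negSucc 0, Int.ofNat 1, Int.negSucc 0],
  [Int.negSucc 0, Int.negSucc 0, Int.negSucc 0, Int.ofNat 1, Int.negSucc 0, Int.ofNat 1, Int.negSucc 2, Int.ofNat 1, Int.ofNat 1, Int.ofNat 1, Int.negSucc 0, Int.negSucc 0, Int.negSucc 0, Int.ofNat 1, Int.negSucc 0, Int.ofNat 1, Int.negSucc 0, Int.negSucc 0, Int.ofNat 1, Int.ofNat 1, Int.negSucc 0, Int.ofNat 1, Int.ofNat 1, Int.negSucc 0],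
  [Int.ofNat 1, Int.negSucc 0, Int.negSucc 0, Int.negSucc 0, Int.ofNat 1, Int.negSucc 0, Int.ofNat 1, Int.negSucc 2, Int.ofNat 1, Int.ofNat 1, Int.ofNat 1, Int.negSucc 0, Int.negSucc 0, Int.negSucc 0, Int.ofNat 1, Int.negSucc 0, Int.ofNat 1, Int.negSucc 0, Int.negSucc 0, Int.ofNat 1, Int.ofNat 1, Int.negSucc 0, Int.ofNat 1, Int.negSucc 0],
  [Int.negSucc 1, Int.ofNat 0, Int.ofNat 0, Int.ofNat 0, Int.ofNat 0, Int.ofNat 0, Int.ofNat 2, Int.negSucc 1, Int.ofNat 2, Int.ofNat 0, Int.ofNat 0, Int.ofNat 0, Int.ofNat 0, Int.negSucc 1, Int.ofNat 2, Int.negSucc 1, Int.ofNat 0, Int.ofNat 0, Int.ofNat 0, Int.ofNat 2, Int.ofNat 0, Int.ofNat 0, Int.ofNat 0, Int.ofNat 0],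
  [Int.ofNat 0, Int.ofNat 0, Int.ofNat 0, Int.ofNat 2, Int.negSucc 1, Int.ofNat 2, Int.ofNat 0, Int.ofNat 0, Int.ofNat 0, Int.ofNat 0, Int.negSucc 1, Int.ofNat 2, Int.negSucc 1, Int.ofNat 0, Int.ofNat 0, Int.ofNat 0, Int.ofNat 2, Int.ofNat 0, Int.ofNat 0, Int.ofNat 0, Int.negSucc 1, Int.ofNat 0, Int.ofNat 0, Int.ofNat 0],
  [Int.ofNat 0, Int.ofNat 0, Int.ofNat 0, Int.ofNat 0, Int.negSucc 1, Int.ofNat 0, Int.ofNat 0, Int.ofNat 0, Int.ofNat 0, Int.ofNat 2, Int.ofNat 0, Int.ofNat 2, Int.negSucc 1, Int.ofNat 0, Int.negSucc 1, Int.ofNat 2, Int.ofNat 2, Int.negSucc 1, Int.ofNat 0, Int.ofNat 0, Int.ofNat 0, Int.ofNat 0, Int.ofNat 0, Int.ofNat 0],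
  [Int.ofNat 0, Int.ofNat 0, Int.negSucc 1, Int.ofNat 0, Int.ofNat 0, Int.ofNat 0, Int.ofNat 0, Int.ofNat 0, Int.negSucc 1, Int.ofNat 0, Int.ofNat 0, Int.negSucc 1, Int.ofNat 2, Int.ofNat 2, Int.ofNat 0, Int.ofNat 2, Int.ofNat 0, Int.negSucc 1, Int.ofNat 0, Int.ofNat 2, Int.ofNat 0, Int.ofNat 0, Int.ofNat 0, Int.ofNat 0],
  [Int.negSucc 0, Int.negSucc 0, Int.ofNat 1, Int.ofNat 1, Int.negSucc 0, Int.ofNat 1, Int.negSucc 0, Int.negSucc 0, Int.negSucc 0, Int.negSucc 0, Int.negSucc 0, Int.negSucc 0, Int.ofNat 3, Int.ofNat 1, Int.ofNat 1, Int.ofNat 1, Int.negSucc 0, Int.negSucc 0, Int.ofNat 1, Int.ofNat 1, Int.negSucc 0, Int.negSucc 0, Int.negSucc 0, Int.negSucc 0],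
  [Int.negSucc 0, Int.negSucc 0, Int.negSucc 0, Int.ofNat 1, Int.negSucc 0, Int.negSucc 0, Int.ofNat 1, Int.negSucc 0, Int.negSucc 0, Int.ofNat 1, Int.ofNat 1, Int.negSucc 0, Int.ofNat 3, Int.ofNat 1, Int.ofNat 1, Int.negSucc 0, Int.negSucc 0, Int.negSucc 0, Int.negSucc 0, Int.ofNat 1, Int.negSucc 0, Int.negSucc 0, Int.ofNat 1, Int.negSucc 0],
  [Int.ofNat 1, Int.negSucc 0, Int.ofNat 3, Int.ofNat 1, Int.negSucc 0, Int.negSucc 0, Int.negSucc 0, Int.negSucc 0, Int.negSucc 0, Int.ofNat 1, Int.negSucc 0, Int.ofNat 1, Int.negSucc 0, Int.negSucc 0, Int.negSucc 0, Int.ofNat 1, Int.ofNat 1, Int.negSucc 0, Int.negSucc 0, Int.negSucc 0, Int.ofNat 1, Int.ofNat 1, Int.negSucc 0, Int.negSucc 0],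
  [Int.ofNat 1, Int.negSucc 0, Int.negSucc 2, Int.ofNat 1, Int.negSucc 0, Int.ofNat 1, Int.ofNat 1, Int.negSucc 0, Int.negSucc 0, Int.negSucc 0, Int.ofNat 1, Int.ofNat 1, Int.negSucc 0, Int.negSucc 0, Int.negSucc 0, Int.negSucc 0, Int.ofNat 1, Int.negSucc 0, Int.ofNat 1, Int.negSucc 0, Int.ofNat 1, Int.ofNat 1, Int.ofNat 1, Int.negSucc 0],
  [Int.negSucc 2, Int.negSucc 0, Int.ofNat 1, Int.ofNat 1, Int.negSucc 0, Int.ofNat 1, Int.ofNat 1, Int.negSucc 0, Int.negSucc 0, Int.negSucc 0, Int.ofNat 1, Int.ofNat 1, Int.negSucc 0, Int.negSucc 0, Int.negSucc 0, Int.negSucc 0, Int.ofNat 1, Int.negSucc 0, Int.ofNat 1, Int.negSucc 0, Int.ofNat 1, Int.ofNat 1, Int.ofNat 1, Int.negSucc 0],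
  [Int.negSucc 2, Int.ofNat 1, Int.ofNat 1, Int.ofNat 1, Int.ofNat 1, Int.ofNat 1, Int.negSucc 0, Int.ofNat 1, Int.ofNat 1, Int.negSucc 0, Int.negSucc 0, Int.negSucc 0, Int.negSucc 0, Int.negSucc 0, Int.negSucc 0, Int.negSucc 0, Int.negSucc 0, Int.ofNat 1, Int.negSucc 0, Int.ofNat 1, Int.ofNat 1, Int.ofNat 1, Int.negSucc 0, Int.negSucc 0],
  [Int.ofNat 2, Int.negSucc 1, Int.negSucc 1, Int.ofNat 0, Int.ofNat 2, Int.ofNat 0, Int.negSucc 1, Int.ofNat 0, Int.ofNat 2, Int.ofNat 0, Int.ofNat 0, Int.ofNat 0, Int.ofNat 0, Int.ofNat 0, Int.negSucc 1, Int.ofNat 0, Int.ofNat 0, Int.ofNat 0, Int.ofNat 0, Int.ofNat 0, Int.ofNat 2, Int.ofNat 0, Int.ofNat 0, Int.ofNat 0],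
  [Int.ofNat 2, Int.ofNat 0, Int.ofNat 0, Int.ofNat 2, Int.negSucc 1, Int.negSucc 1, Int.ofNat 0, Int.ofNat 2, Int.ofNat 0, Int.negSucc 1, Int.ofNat 0, Int.ofNat 2, Int.ofNat 0, Int.ofNat 0, Int.ofNat 0, Int.ofNat 0, Int.ofNat 0, Int.negSucc 1, Int.ofNat 0, Int.ofNat 0, Int.ofNat 0, Int.ofNat 0, Int.ofNat 0, Int.ofNat 0],
  [Int.negSucc 0, Int.ofNat 1, Int.ofNat 1, Int.ofNat 3, Int.negSucc 0, Int.negSucc 0, Int.negSucc 0, Int.ofNat 1, Int.negSucc 0, Int.negSucc 0, Int.ofNat 1, Int.ofNat 1, Int.negSucc 0, Int.ofNat 1, Int.ofNat 1, Int.ofNat 1, Int.ofNat 1, Int.negSucc 0, Int.negSucc 0, Int.negSucc 0, Int.ofNat 1, Int.negSucc 0, Int.ofNat 1, Int.ofNat 1],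
  [Int.ofNat 1, Int.ofNat 1, Int.ofNat 3, Int.negSucc 0, Int.negSucc 0, Int.negSucc 0, Int.ofNat 1, Int.negSucc 0, Int.negSucc 0, Int.ofNat 1, Int.ofNat 1, Int.negSucc 0, Int.ofNat 1, Int.ofNat 1, Int.ofNat 1, Int.ofNat 1, Int.negSucc 0, Int.negSucc 0, Int.negSucc 0, Int.ofNat 1, Int.negSucc 0, Int.ofNat 1, Int.negSucc 0, Int.ofNat 1],
  [Int.negSucc 0, Int.ofNat 1, Int.negSucc 2, Int.negSucc 0, Int.negSucc 0, Int.negSucc 0, Int.ofNat 1, Int.ofNat 1, Int.negSucc 0, Int.negSucc 0, Int.negSucc 0, Int.ofNat 1, Int.ofNat 1, Int.ofNat 1, Int.ofNat 1, Int.ofNat 1, Int.negSucc 0, Int.negSucc 0, Int.ofNat 1, Int.ofNat 1, Int.negSucc 0, Int.negSucc 0, Int.negSucc 0, Int.ofNat 1],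
  [Int.negSucc 0, Int.negSucc 2, Int.ofNat 1, Int.negSucc 0, Int.ofNat 1, Int.negSucc 0, Int.negSucc 0, Int.negSucc 0, Int.negSucc 0, Int.negSucc 0, Int.negSucc 0, Int.ofNat 1, Int.ofNat 1, Int.negSucc 0, Int.ofNat 1, Int.ofNat 1, Int.ofNat 1, Int.negSucc 0, Int.ofNat 1, Int.negSucc 0, Int.negSucc 0, Int.ofNat 1, Int.ofNat 1, Int.ofNat 1],
  [Int.ofNat 1, Int.negSucc 2, Int.negSucc 0, Int.negSucc 0, Int.ofNat 1, Int.negSucc 0, Int.negSucc 0, Int.ofNat 1, Int.negSucc 0, Int.ofNat 1, Int.ofNat 1, Int.negSucc 0, Int.ofNat 1, Int.negSucc 0, Int.ofNat 1, Int.ofNat 1, Int.ofNat 1, Int.negSucc 0, Int.negSucc 0, Int.negSucc 0, Int.negSucc 0, Int.negSucc 0, Int.ofNat 1, Int.ofNat 1],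
  [Int.ofNat 1, Int.ofNat 1, Int.negSucc 2, Int.negSucc 0, Int.negSucc 0, Int.ofNat 1, Int.negSucc 0, Int.negSucc 0, Int.ofNat 1, Int.negSucc 0, Int.ofNat 1, Int.ofNat 1, Int.negSucc 0, Int.ofNat 1, Int.negSucc 0, Int.ofNat 1, Int.ofNat 1, Int.ofNat 1, Int.negSucc 0, Int.negSucc 0, Int.negSucc 0, Int.negSucc 0, Int.negSucc 0, Int.ofNat 1],
  [Int.negSucc 0, Int.negSucc 0, Int.ofNat 3, Int.negSucc 0, Int.negSucc 0, Int.ofNat 1, Int.ofNat 1, Int.ofNat 1, Int.ofNat 1, Int.negSucc 0, Int.ofNat 1, Int.ofNat 1, Int.negSucc 0, Int.ofNat 1, Int.negSucc 0, Int.ofNat 1, Int.ofNat 1, Int.ofNat 1, Int.negSucc 0, Int.ofNat 1, Int.negSucc 0, Int.ofNat 1, Int.negSucc 0, Int.negSucc 0],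
  [Int.negSucc 0, Int.negSucc 0, Int.ofNat 1, Int.ofNat 1, Int.ofNat 1, Int.ofNat 1, Int.negSucc 0, Int.ofNat 1, Int.ofNat 1, Int.negSucc 0, Int.ofNat 1, Int.negSucc 0, Int.ofNat 1, Int.ofNat 1, Int.ofNat 1, Int.negSucc 0, Int.ofNat 1, Int.negSucc 0, Int.ofNat 1, Int.negSucc 0, Int.negSucc 0, Int.negSucc 0, Int.ofNat 3, Int.negSucc 0],
  [Int.ofNat 0, Int.ofNat 0, Int.negSucc 1, Int.ofNat 0, Int.negSucc 1, Int.ofNat 0, Int.ofNat 0, Int.ofNat 2, Int.ofNat 0, Int.ofNat 0, Int.ofNat 2, Int.negSucc 1, Int.ofNat 0, Int.negSucc 1, Int.ofNat 0, Int.ofNat 0, Int.negSucc 1, Int.negSucc 1, Int.ofNat 0, Int.ofNat 0, Int.ofNat 0, Int.ofNat 0, Int.ofNat 0, Int.ofNat 0],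
  [Int.ofNat 0, Int.ofNat 0, Int.negSucc 1, Int.ofNat 0, Int.ofNat 0, Int.ofNat 2, Int.negSucc 1, Int.ofNat 2, Int.ofNat 0, Int.negSucc 1, Int.ofNat 0, Int.negSucc 1, Int.ofNat 0, Int.negSucc 1, Int.ofNat 0, Int.ofNat 0, Int.ofNat 0, Int.ofNat 0, Int.ofNat 0, Int.negSucc 1, Int.ofNat 0, Int.ofNat 0, Int.ofNat 0, Int.ofNat 0],
  [Int.negSucc 0, Int.negSucc 0, Int.ofNat 1, Int.negSucc 0, Int.ofNat 1, Int.ofNat 1, Int.negSucc 0, Int.ofNat 3, Int.ofNat 1, Int.negSucc 0, Int.ofNat 1, Int.negSucc 0, Int.ofNat 1, Int.negSucc 0, Int.negSucc 0, Int.ofNat 1, Int.ofNat 1, Int.negSucc 0, Int.ofNat 1, Int.negSucc 0, Int.ofNat 1, Int.ofNat 1, Int.ofNat 1, Int.negSucc 0],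
  [Int.negSucc 0, Int.negSucc 0, Int.negSucc 0, Int.negSucc 0, Int.ofNat 1, Int.negSucc 0, Int.ofNat 1, Int.ofNat 3, Int.ofNat 1, Int.ofNat 1, Int.negSucc 0, Int.negSucc 0, Int.ofNat 1, Int.negSucc 0, Int.negSucc 0, Int.negSucc 0, Int.ofNat 1, Int.negSucc 0, Int.negSucc 0, Int.negSucc 0, Int.ofNat 1, Int.ofNat 1, Int.negSucc 0, Int.negSucc 0],
  [Int.negSucc 0, Int.ofNat 1, Int.negSucc 0, Int.ofNat 1, Int.negSucc 0, Int.ofNat 1, Int.ofNat 1, Int.negSucc 0, Int.negSucc 0, Int.ofNat 1, Int.negSucc 0, Int.ofNat 3, Int.negSucc 0, Int.ofNat 1, Int.negSucc 0, Int.negSucc 0, Int.negSucc 0, Int.ofNat 1, Int.ofNat 1, Int.negSucc 0, Int.negSucc 0, Int.negSucc 0, Int.negSucc 0, Int.negSucc 0],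
  [Int.ofNat 1, Int.negSucc 0, Int.ofNat 1, Int.negSucc 0, Int.ofNat 1, Int.ofNat 1, Int.negSucc 0, Int.negSucc 0, Int.ofNat 1, Int.negSucc 0, Int.negSucc 0, Int.ofNat 3, Int.ofNat 1, Int.negSucc 0, Int.negSucc 0, Int.negSucc 0, Int.ofNat 1, Int.ofNat 1, Int.negSucc 0, Int.negSucc 0, Int.negSucc 0, Int.negSucc 0, Int.negSucc 0, Int.negSucc 0],
  [Int.negSucc 0, Int.negSucc 0, Int.ofNat 3, Int.negSucc 0, Int.ofNat 1, Int.negSucc 0, Int.negSucc 0, Int.negSucc 0, Int.negSucc 0, Int.ofNat 1, Int.ofNat 1, Int.ofNat 1, Int.negSucc 0, Int.negSucc 0, Int.negSucc 0, Int.negSucc 0, Int.negSucc 0, Int.ofNat 1, Int.negSucc 0, Int.negSucc 0, Int.ofNat 1, Int.ofNat 1, Int.negSucc 0, Int.ofNat 1],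
  [Int.ofNat 1, Int.negSucc 0, Int.negSucc 2, Int.negSucc 0, Int.ofNat 1, Int.negSucc 0, Int.negSucc 0, Int.ofNat 1, Int.negSucc 0, Int.negSucc 0, Int.negSucc 0, Int.negSucc 0, Int.negSucc 0, Int.negSucc 0, Int.negSucc 0, Int.negSucc 0, Int.negSucc 0, Int.ofNat 1, Int.ofNat 1, Int.negSucc 0, Int.ofNat 1, Int.negSucc 0, Int.negSucc 0, Int.ofNat 1],
  [Int.negSucc 0, Int.ofNat 1, Int.negSucc 0, Int.negSucc 2, Int.negSucc 0, Int.ofNat 1, Int.negSucc 0, Int.negSucc 0, Int.ofNat 1, Int.negSucc 0, Int.negSucc 0, Int.negSucc 0, Int.negSucc 0, Int.negSucc 0, Int.negSucc 0, Int.negSucc 0, Int.negSucc 0, Int.negSucc 0, Int.ofNat 1, Int.ofNat 1, Int.negSucc 0, Int.ofNat 1, Int.negSucc 0, Int.ofNat 1],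
  [Int.ofNat 1, Int.negSucc 0, Int.ofNat 1, Int.negSucc 0, Int.ofNat 1, Int.ofNat 3, Int.negSucc 0, Int.negSucc 0, Int.ofNat 1, Int.ofNat 1, Int.ofNat 1, Int.negSucc 0, Int.negSucc 0, Int.ofNat 1, Int.ofNat 1, Int.ofNat 1, Int.ofNat 1, Int.ofNat 1, Int.ofNat 1, Int.ofNat 1, Int.ofNat 1, Int.ofNat 1, Int.ofNat 1, Int.negSucc 0],
  [Int.negSucc 0, Int.ofNat 1, Int.ofNat 3, Int.negSucc 0, Int.negSucc 0, Int.ofNat 1, Int.ofNat 1, Int.ofNat 1, Int.negSucc 0, Int.negSucc 0, Int.ofNat 1, Int.ofNat 1, Int.ofNat 1, Int.ofNat 1, Int.ofNat 1, Int.ofNat 1, Int.ofNat 1, Int.ofNat 1, Int.ofNat 1, Int.ofNat 1, Int.ofNat 1, Int.negSucc 0, Int.ofNat 1, Int.negSucc 0],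
  [Int.ofNat 2, Int.ofNat 0, Int.negSucc 1, Int.negSucc 1, Int.negSucc 1, Int.ofNat 0, Int.ofNat 0, Int.ofNat 0, Int.negSucc 1, Int.negSucc 1, Int.ofNat 0, Int.ofNat 0, Int.ofNat 0, Int.ofNat 0, Int.ofNat 0, Int.ofNat 0, Int.ofNat 0, Int.ofNat 0, Int.ofNat 0, Int.ofNat 0, Int.ofNat 0, Int.negSucc 1, Int.ofNat 0, Int.ofNat 2],
  [Int.ofNat 2, Int.ofNat 0, Int.negSucc 1, Int.negSucc 1, Int.ofNat 0, Int.ofNat 0, Int.negSucc 1, Int.ofNat 0, Int.ofNat 0, Int.ofNat 0, Int.ofNat 0, Int.ofNat 0, Int.negSucc 1, Int.ofNat 0, Int.ofNat 0, Int.ofNat 0, Int.negSucc 1, Int.ofNat 0, Int.ofNat 0, Int.ofNat 0, Int.negSucc 1, Int.ofNat 0, Int.ofNat 0, Int.ofNat 2],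
  [Int.negSucc 0, Int.ofNat 1, Int.ofNat 3, Int.negSucc 0, Int.ofNat 1, Int.ofNat 1, Int.negSucc 0, Int.ofNat 1, Int.ofNat 1, Int.ofNat 1, Int.ofNat 1, Int.ofNat 1, Int.negSucc 0, Int.ofNat 1, Int.ofNat 1, Int.ofNat 1, Int.negSucc 0, Int.ofNat 1, Int.ofNat 1, Int.ofNat 1, Int.negSucc 0, Int.ofNat 1, Int.ofNat 1, Int.negSucc 0],
  [Int.negSucc 0, Int.ofNat 1, Int.negSucc 2, Int.negSucc 0, Int.ofNat 1, Int.negSucc 0, Int.ofNat 1, Int.ofNat 1, Int.ofNat 1, Int.negSucc 0, Int.negSucc 0, Int.ofNat 1, Int.negSucc 0, Int.ofNat 1, Int.ofNat 1, Int.negSucc 0, Int.negSucc 0, Int.ofNat 1, Int.negSucc 0, Int.ofNat 1, Int.negSucc 0, Int.ofNat 1, Int.negSucc 0, Int.negSucc 0],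
  [Int.negSucc 0, Int.negSucc 2, Int.negSucc 0, Int.ofNat 1, Int.ofNat 1, Int.ofNat 1, Int.ofNat 1, Int.negSucc 0, Int.negSucc 0, Int.ofNat 1, Int.ofNat 1, Int.negSucc 0, Int.negSucc 0, Int.negSucc 0, Int.ofNat 1, Int.ofNat 1, Int.negSucc 0, Int.negSucc 0, Int.ofNat 1, Int.ofNat 1, Int.negSucc 0, Int.ofNat 1, Int.negSucc 0, Int.negSucc 0],
  [Int.negSucc 0, Int.negSucc 2, Int.ofNat 1, Int.ofNat 1, Int.ofNat 1, Int.negSucc 0, Int.negSucc 0, Int.negSucc 0, Int.negSucc 0, Int.negSucc 0, Int.negSucc 0, Int.negSucc 0, Int.negSucc 0, Int.negSucc 0, Int.ofNat 1, Int.negSucc 0, Int.negSucc 0, Int.negSucc 0, Int.negSucc 0, Int.ofNat 1, Int.negSucc 0, Int.ofNat 1, Int.ofNat 1, Int.negSucc 0],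
  [Int.negSucc 0, Int.ofNat 1, Int.negSucc 2, Int.ofNat 1, Int.ofNat 1, Int.negSucc 0, Int.negSucc 0, Int.negSucc 0, Int.ofNat 1, Int.ofNat 1, Int.ofNat 1, Int.ofNat 1, Int.ofNat 1, Int.negSucc 0, Int.ofNat 1, Int.ofNat 1, Int.negSucc 0, Int.negSucc 0, Int.ofNat 1, Int.ofNat 1, Int.ofNat 1, Int.ofNat 1, Int.ofNat 1, Int.negSucc 0],
  [Int.negSucc 0, Int.ofNat 1, Int.negSucc 0, Int.ofNat 1, Int.negSucc 2, Int.ofNat 1, Int.ofNat 1, Int.negSucc 0, Int.negSucc 0, Int.ofNat 1, Int.negSucc 0, Int.ofNat 1, Int.ofNat 1, Int.ofNat 1, Int.negSucc 0, Int.ofNat 1, Int.negSucc 0, Int.ofNat 1, Int.ofNat 1, Int.ofNat 1, Int.ofNat 1, Int.ofNat 1, Int.ofNat 1, Int.negSucc 0],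
  [Int.ofNat 0, Int.negSucc 1, Int.ofNat 0, Int.ofNat 0, Int.negSucc 1, Int.ofNat 0, Int.ofNat 0, Int.negSucc 1, Int.negSucc 1, Int.ofNat 0, Int.negSucc 1, Int.ofNat 0, Int.ofNat 0, Int.ofNat 2, Int.negSucc 1, Int.ofNat 0, Int.ofNat 0, Int.ofNat 0, Int.ofNat 0, Int.ofNat 0, Int.ofNat 0, Int.ofNat 0, Int.ofNat 2, Int.ofNat 0],
  [Int.ofNat 0, Int.ofNat 0, Int.ofNat 2, Int.ofNat 0, Int.negSucc 1, Int.ofNat 0, Int.ofNat 0, Int.negSucc 1, Int.ofNat 0, Int.ofNat 0, Int.negSucc 1, Int.negSucc 1, Int.ofNat 0, Int.negSucc 1, Int.ofNat 0, Int.ofNat 0, Int.ofNat 2, Int.negSucc 1, Int.ofNat 0, Int.ofNat 0, Int.ofNat 0, Int.ofNat 0, Int.ofNat 0, Int.ofNat 0],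
  [Int.ofNat 1, Int.ofNat 1, Int.negSucc 0, Int.ofNat 1, Int.negSucc 0, Int.ofNat 1, Int.ofNat 1, Int.negSucc 0, Int.ofNat 1, Int.ofNat 1, Int.negSucc 0, Int.negSucc 0, Int.ofNat 1, Int.negSucc 0, Int.ofNat 1, Int.ofNat 1, Int.ofNat 3, Int.negSucc 0, Int.ofNat 1, Int.ofNat 1, Int.ofNat 1, Int.ofNat 1, Int.ofNat 1, Int.ofNat 1],
  [Int.ofNat 1, Int.negSucc 0, Int.ofNat 1, Int.negSucc 0, Int.ofNat 1, Int.ofNat 1, Int.negSucc 0, Int.ofNat 1, Int.ofNat 1, Int.negSucc 0, Int.negSucc 0, Int.ofNat 1, Int.negSucc 0, Int.ofNat 1, Int.ofNat 1, Int.ofNat 3, Int.negSucc 0, Int.ofNat 1, Int.ofNat 1, Int.ofNat 1, Int.ofNat 1, Int.ofNat 1, Int.ofNat 1, Int.ofNat 1],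
  [Int.negSucc 0, Int.negSucc 0, Int.negSucc 0, Int.negSucc 0, Int.ofNat 1, Int.ofNat 1, Int.negSucc 0, Int.negSucc 0, Int.ofNat 1, Int.ofNat 1, Int.ofNat 1, Int.negSucc 0, Int.negSucc 0, Int.ofNat 1, Int.ofNat 1, Int.ofNat 3, Int.negSucc 0, Int.ofNat 1, Int.negSucc 0, Int.ofNat 1, Int.ofNat 1, Int.negSucc 0, Int.ofNat 1, Int.ofNat 1],
  [Int.negSucc 0, Int.negSucc 0, Int.negSucc 0, Int.negSucc 0, Int.negSucc 0, Int.ofNat 1, Int.ofNat 1, Int.ofNat 1, Int.ofNat 1, Int.negSucc 0, Int.negSucc 0, Int.ofNat 1, Int.ofNat 1, Int.ofNat 1, Int.ofNat 1, Int.ofNat 3, Int.negSucc 0, Int.ofNat 1, Int.negSucc 0, Int.ofNat 1, Int.ofNat 1, Int.negSucc 0, Int.negSucc 0, Int.ofNat 1],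
  [Int.ofNat 1, Int.negSucc 0, Int.ofNat 1, Int.negSucc 0, Int.negSucc 0, Int.ofNat 1, Int.ofNat 1, Int.negSucc 0, Int.ofNat 1, Int.ofNat 1, Int.ofNat 1, Int.negSucc 0, Int.ofNat 1, Int.ofNat 1, Int.ofNat 1, Int.ofNat 3, Int.negSucc 0, Int.ofNat 1, Int.ofNat 1, Int.ofNat 1, Int.ofNat 1, Int.ofNat 1, Int.negSucc 0, Int.ofNat 1],
  [Int.negSucc 0, Int.ofNat 1, Int.negSucc 0, Int.ofNat 1, Int.negSucc 0, Int.negSucc 0, Int.ofNat 1, Int.ofNat 1, Int.negSucc 0, Int.ofNat 1, Int.ofNat 1, Int.ofNat 1, Int.negSucc 0, Int.ofNat 1, Int.ofNat 1, Int.ofNat 1, Int.ofNat 3, Int.negSucc 0, Int.ofNat 1, Int.ofNat 1, Int.ofNat 1, Int.ofNat 1, Int.ofNat 1, Int.ofNat 1],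
  [Int.ofNat 1, Int.negSucc 0, Int.ofNat 1, Int.ofNat 1, Int.negSucc 2, Int.negSucc 0, Int.negSucc 0, Int.negSucc 0, Int.negSucc 0, Int.negSucc 0, Int.negSucc 0, Int.ofNat 1, Int.negSucc 0, Int.negSucc 0, Int.ofNat 1, Int.negSucc 0, Int.ofNat 1, Int.negSucc 0, Int.ofNat 1, Int.negSucc 0, Int.negSucc 0, Int.negSucc 0, Int.negSucc 0, Int.negSucc 0],
  [Int.ofNat 1, Int.negSucc 2, Int.negSucc 0, Int.negSucc 0, Int.negSucc 0, Int.negSucc 0, Int.negSucc 0, Int.negSucc 0, Int.ofNat 1, Int.negSucc 0, Int.negSucc 0, Int.ofNat 1, Int.negSucc 0, Int.ofNat 1, Int.negSucc 0, Int.ofNat 1, Int.negSucc 0, Int.negSucc 0, Int.negSucc 0, Int.negSucc 0, Int.ofNat 1, Int.negSucc 0, Int.ofNat 1, Int.negSucc 0],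
  [Int.negSucc 2, Int.ofNat 1, Int.negSucc 0, Int.ofNat 1, Int.negSucc 0, Int.ofNat 1, Int.ofNat 1, Int.ofNat 1, Int.ofNat 1, Int.negSucc 0, Int.negSucc 0, Int.ofNat 1, Int.negSucc 0, Int.ofNat 1, Int.ofNat 1, Int.ofNat 1, Int.negSucc 0, Int.ofNat 1, Int.negSucc 0, Int.ofNat 1, Int.ofNat 1, Int.ofNat 1, Int.ofNat 1, Int.negSucc 0],
  [Int.negSucc 2, Int.ofNat 1, Int.negSucc 0, Int.ofNat 1, Int.negSucc 0, Int.ofNat 1, Int.negSucc 0, Int.negSucc 0, Int.negSucc 0, Int.ofNat 1, Int.ofNat 1, Int.ofNat 1, Int.negSucc 0, Int.negSucc 0, Int.ofNat 1, Int.ofNat 1, Int.ofNat 1, Int.ofNat 1, Int.ofNat 1, Int.ofNat 1, Int.ofNat 1, Int.ofNat 1, Int.ofNat 1, Int.negSucc 0],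
  [Int.ofNat 1, Int.negSucc 2, Int.negSucc 0, Int.negSucc 0, Int.negSucc 0, Int.negSucc 0, Int.negSucc 0, Int.negSucc 0, Int.negSucc 0, Int.negSucc 0, Int.negSucc 0, Int.ofNat 1, Int.negSucc 0, Int.negSucc 0, Int.negSucc 0, Int.negSucc 0, Int.ofNat 1, Int.negSucc 0, Int.ofNat 1, Int.ofNat 1, Int.negSucc 0, Int.ofNat 1, Int.ofNat 1, Int.negSucc 0],
  [Int.ofNat 1, Int.negSucc 2, Int.ofNat 1, Int.negSucc 0, Int.negSucc 0, Int.ofNat 1, Int.ofNat 1, Int.negSucc 0, Int.negSucc 0, Int.ofNat 1, Int.ofNat 1, Int.ofNat 1, Int.negSucc 0, Int.negSucc 0, Int.negSucc 0, Int.ofNat 1, Int.ofNat 1, Int.negSucc 0, Int.negSucc 0, Int.ofNat 1, Int.negSucc 0, Int.ofNat 1, Int.negSucc 0, Int.negSucc 0],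
  [Int.ofNat 1, Int.ofNat 1, Int.ofNat 1, Int.negSucc 0, Int.negSucc 0, Int.ofNat 1, Int.ofNat 1, Int.negSucc 0, Int.ofNat 1, Int.negSucc 0, Int.negSucc 0, Int.negSucc 0, Int.ofNat 1, Int.negSucc 0, Int.negSucc 0, Int.negSucc 0, Int.ofNat 1, Int.negSucc 0, Int.ofNat 1, Int.ofNat 1, Int.ofNat 1, Int.negSucc 2, Int.negSucc 0, Int.negSucc 0],
  [Int.negSucc 0, Int.negSucc 0, Int.negSucc 0, Int.ofNat 1, Int.ofNat 1, Int.ofNat 1, Int.negSucc 0, Int.negSucc 0, Int.negSucc 0, Int.ofNat 1, Int.negSucc 0, Int.negSucc 0, Int.negSucc 0, Int.ofNat 1, Int.negSucc 0, Int.negSucc 0, Int.negSucc 0, Int.negSucc 0, Int.negSucc 0, Int.ofNat 1, Int.ofNat 1, Int.negSucc 2, Int.negSucc 0, Int.negSucc 0],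
  [Int.negSucc 0, Int.negSucc 0, Int.negSucc 0, Int.negSucc 0, Int.negSucc 0, Int.ofNat 1, Int.ofNat 1, Int.ofNat 1, Int.ofNat 1, Int.ofNat 1, Int.negSucc 0, Int.negSucc 0, Int.negSucc 2, Int.negSucc 0, Int.negSucc 0, Int.ofNat 1, Int.negSucc 0, Int.ofNat 1, Int.negSucc 0, Int.negSucc 0, Int.negSucc 0, Int.negSucc 0, Int.negSucc 0, Int.negSucc 0],
  [Int.ofNat 1, Int.negSucc 0, Int.ofNat 1, Int.negSucc 0, Int.negSucc 0, Int.ofNat 1, Int.ofNat 1, Int.negSucc 0, Int.ofNat 1, Int.negSucc 0, Int.ofNat 1, Int.ofNat 1, Int.negSucc 2, Int.negSucc 0, Int.negSucc 0, Int.ofNat 1, Int.negSucc 0, Int.ofNat 1, Int.ofNat 1, Int.negSucc 0, Int.negSucc 0, Int.ofNat 1, Int.negSucc 0, Int.negSucc 0],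
  [Int.negSucc 0, Int.ofNat 1, Int.negSucc 0, Int.ofNat 1, Int.negSucc 0, Int.negSucc 0, Int.ofNat 1, Int.ofNat 1, Int.negSucc 0, Int.ofNat 1, Int.negSucc 0, Int.ofNat 1, Int.ofNat 1, Int.negSucc 2, Int.negSucc 0, Int.negSucc 0, Int.ofNat 1, Int.negSucc 0, Int.ofNat 1, Int.ofNat 1, Int.negSucc 0, Int.negSucc 0, Int.ofNat 1, Int.negSucc 0],
  [Int.ofNat 0, Int.negSucc 1, Int.ofNat 0, Int.ofNat 2, Int.ofNat 0, Int.ofNat 0, Int.ofNat 0, Int.ofNat 0, Int.negSucc 1, Int.ofNat 2, Int.ofNat 0, Int.ofNat 0, Int.ofNat 0, Int.negSucc 1, Int.ofNat 0, Int.ofNat 0, Int.ofNat 2, Int.ofNat 0, Int.ofNat 0, Int.ofNat 0, Int.ofNat 0, Int.negSucc 1, Int.ofNat 2, Int.ofNat 0],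
  [Int.ofNat 2, Int.ofNat 0, Int.ofNat 0, Int.ofNat 0, Int.ofNat 0, Int.negSucc 1, Int.ofNat 2, Int.ofNat 0, Int.ofNat 0, Int.ofNat 0, Int.negSucc 1, Int.ofNat 0, Int.ofNat 0, Int.ofNat 2, Int.ofNat 0, Int.ofNat 0, Int.ofNat 0, Int.ofNat 0, Int.negSucc 1, Int.ofNat 2, Int.ofNat 0, Int.negSucc 1, Int.ofNat 0, Int.ofNat 0],
  [Int.negSucc 0, Int.ofNat 1, Int.ofNat 1, Int.ofNat 1, Int.negSucc 0, Int.negSucc 0, Int.ofNat 1, Int.negSucc 0, Int.ofNat 1, Int.ofNat 1, Int.negSucc 0, Int.ofNat 1, Int.ofNat 1, Int.ofNat 1, Int.ofNat 1, Int.ofNat 1, Int.negSucc 0, Int.ofNat 1, Int.negSucc 0, Int.ofNat 1, Int.ofNat 1, Int.negSucc 2, Int.negSucc 0, Int.ofNat 1],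
  [Int.negSucc 0, Int.ofNat 1, Int.negSucc 0, Int.ofNat 1, Int.negSucc 0, Int.negSucc 0, Int.ofNat 1, Int.negSucc 0, Int.ofNat 1, Int.ofNat 1, Int.ofNat 1, Int.ofNat 1, Int.ofNat 1, Int.negSucc 0, Int.negSucc 0, Int.ofNat 1, Int.ofNat 1, Int.ofNat 1, Int.ofNat 1, Int.ofNat 1, Int.negSucc 2, Int.negSucc 0, Int.ofNat 1, Int.ofNat 1],
  [Int.ofNat 1, Int.negSucc 0, Int.ofNat 1, Int.ofNat 1, Int.negSucc 0, Int.negSucc 0, Int.ofNat 1, Int.negSucc 0, Int.negSucc 0, Int.ofNat 1, Int.ofNat 1, Int.negSucc 0, Int.negSucc 0, Int.negSucc 0, Int.negSucc 0, Int.ofNat 1, Int.ofNat 1, Int.ofNat 1, Int.negSucc 0, Int.ofNat 1, Int.negSucc 2, Int.negSucc 0, Int.ofNat 1, Int.negSucc 0],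
  [Int.ofNat 1, Int.negSucc 0, Int.negSucc 0, Int.ofNat 1, Int.negSucc 0, Int.ofNat 1, Int.negSucc 0, Int.negSucc 0, Int.negSucc 0, Int.negSucc 0, Int.negSucc 0, Int.negSucc 0, Int.negSucc 0, Int.negSucc 0, Int.negSucc 0, Int.negSucc 0, Int.ofNat 1, Int.ofNat 1, Int.ofNat 1, Int.ofNat 1, Int.negSucc 2, Int.negSucc 0, Int.negSucc 0, Int.negSucc 0],
  [Int.negSucc 0, Int.negSucc 0, Int.negSucc 0, Int.negSucc 0, Int.negSucc 0, Int.negSucc 0, Int.negSucc 0, Int.negSucc 2, Int.ofNat 1, Int.ofNat 1, Int.negSucc 0, Int.negSucc 0, Int.ofNat 1, Int.ofNat 1, Int.negSucc 0, Int.negSucc 0, Int.negSucc 0, Int.negSucc 0, Int.negSucc 0, Int.ofNat 1, Int.ofNat 1, Int.negSucc 0, Int.ofNat 1, Int.negSucc 0],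
  [Int.negSucc 0, Int.negSucc 0, Int.ofNat 1, Int.negSucc 0, Int.negSucc 0, Int.ofNat 1, Int.ofNat 1, Int.negSucc 2, Int.ofNat 1, Int.negSucc 0, Int.ofNat 1, Int.negSucc 0, Int.ofNat 1, Int.ofNat 1, Int.negSucc 0, Int.ofNat 1, Int.negSucc 0, Int.negSucc 0, Int.ofNat 1, Int.ofNat 1, Int.ofNat 1, Int.negSucc 0, Int.negSucc 0, Int.negSucc 0],
  [Int.ofNat 0, Int.ofNat 0, Int.negSucc 1, Int.ofNat 0, Int.ofNat 0, Int.ofNat 2, Int.ofNat 2, Int.negSucc 1, Int.ofNat 0, Int.negSucc 1, Int.ofNat 0, Int.negSucc 1, Int.ofNat 0, Int.ofNat 2, Int.ofNat 0, Int.ofNat 0, Int.ofNat 0, Int.ofNat 0, Int.ofNat 0, Int.ofNat 2, Int.ofNat 0, Int.ofNat 0, Int.ofNat 0, Int.ofNat 0],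
  [Int.ofNat 0, Int.ofNat 0, Int.ofNat 2, Int.ofNat 0, Int.negSucc 1, Int.ofNat 0, Int.ofNat 0, Int.ofNat 2, Int.ofNat 0, Int.ofNat 0, Int.negSucc 1, Int.ofNat 2, Int.ofNat 0, Int.negSucc 1, Int.ofNat 0, Int.ofNat 0, Int.ofNat 2, Int.negSucc 1, Int.ofNat 0, Int.ofNat 0, Int.ofNat 0, Int.ofNat 0, Int.ofNat 0, Int.ofNat 0],
  [Int.ofNat 1, Int.ofNat 1, Int.negSucc 0, Int.ofNat 1, Int.negSucc 0, Int.ofNat 1, Int.negSucc 0, Int.ofNat 1, Int.negSucc 0, Int.ofNat 1, Int.negSucc 0, Int.ofNat 1, Int.negSucc 0, Int.negSucc 0, Int.ofNat 1, Int.ofNat 1, Int.ofNat 3, Int.negSucc 0, Int.negSucc 0, Int.negSucc 0, Int.ofNat 1, Int.negSucc 0, Int.ofNat 1, Int.ofNat 1],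
  [Int.ofNat 1, Int.negSucc 0, Int.ofNat 1, Int.ofNat 1, Int.ofNat 1, Int.negSucc 0, Int.ofNat 1, Int.negSucc 0, Int.ofNat 1, Int.negSucc 0, Int.ofNat 1, Int.negSucc 0, Int.ofNat 1, Int.negSucc 0, Int.ofNat 1, Int.negSucc 0, Int.negSucc 0, Int.ofNat 1, Int.ofNat 1, Int.ofNat 3, Int.negSucc 0, Int.negSucc 0, Int.negSucc 0, Int.ofNat 1],
  [Int.ofNat 0, Int.ofNat 2, Int.ofNat 0, Int.ofNat 0, Int.ofNat 2, Int.negSucc 1, Int.ofNat 0, Int.negSucc 1, Int.ofNat 0, Int.ofNat 0, Int.ofNat 2, Int.negSucc 1, Int.ofNat 0, Int.ofNat 0, Int.ofNat 0, Int.ofNat 0, Int.ofNat 0, Int.ofNat 0, Int.ofNat 0, Int.ofNat 2, Int.ofNat 0, Int.negSucc 1, Int.ofNat 0, Int.ofNat 0],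
  [Int.ofNat 2, Int.ofNat 0, Int.ofNat 0, Int.ofNat 2, Int.negSucc 1, Int.ofNat 0, Int.negSucc 1, Int.ofNat 0, Int.ofNat 0, Int.ofNat 2, Int.negSucc 1, Int.ofNat 0, Int.ofNat 0, Int.ofNat 0, Int.ofNat 0, Int.ofNat 0, Int.ofNat 0, Int.ofNat 0, Int.ofNat 2, Int.ofNat 0, Int.negSucc 1, Int.ofNat 0, Int.ofNat 0, Int.ofNat 0],
  [Int.negSucc 1, Int.ofNat 0, Int.ofNat 0, Int.ofNat 2, Int.negSucc 1, Int.ofNat 0, Int.negSucc 1, Int.ofNat 0, Int.ofNat 0, Int.negSucc 1, Int.ofNat 2, Int.ofNat 0, Int.ofNat 0, Int.ofNat 0, Int.ofNat 0, Int.ofNat 0, Int.ofNat 0, Int.ofNat 0, Int.negSucc 1, Int.ofNat 0, Int.negSucc 1, Int.ofNat 0, Int.ofNat 0, Int.ofNat 0],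
  [Int.negSucc 1, Int.ofNat 0, Int.negSucc 1, Int.ofNat 2, Int.ofNat 0, Int.ofNat 2, Int.negSucc 1, Int.negSucc 1, Int.negSucc 1, Int.ofNat 0, Int.ofNat 0, Int.ofNat 0, Int.ofNat 0, Int.ofNat 0, Int.ofNat 0, Int.ofNat 0, Int.ofNat 0, Int.ofNat 0, Int.negSucc 1, Int.ofNat 0, Int.ofNat 0, Int.ofNat 0, Int.ofNat 0, Int.ofNat 0],
  [Int.ofNat 2, Int.ofNat 0, Int.ofNat 2, Int.ofNat 2, Int.ofNat 0, Int.ofNat 2, Int.negSucc 1, Int.ofNat 2, Int.negSucc 1, Int.ofNat 0, Int.ofNat 0, Int.ofNat 0, Int.ofNat 0, Int.ofNat 0, Int.ofNat 0, Int.ofNat 0, Int.ofNat 0, Int.ofNat 0, Int.ofNat 2, Int.ofNat 0, Int.ofNat 0, Int.ofNat 0, Int.ofNat 0, Int.ofNat 0],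
  [Int.ofNat 0, Int.ofNat 2, Int.ofNat 0, Int.ofNat 2, Int.ofNat 2, Int.ofNat 0, Int.ofNat 2, Int.negSucc 1, Int.ofNat 2, Int.negSucc 1, Int.ofNat 0, Int.ofNat 0, Int.ofNat 0, Int.ofNat 0, Int.ofNat 0, Int.ofNat 0, Int.ofNat 0, Int.ofNat 0, Int.ofNat 0, Int.ofNat 2, Int.ofNat 0, Int.ofNat 0, Int.ofNat 0, Int.ofNat 0],
  [Int.ofNat 1, Int.negSucc 0, Int.ofNat 1, Int.ofNat 1, Int.ofNat 1, Int.negSucc 0, Int.ofNat 1, Int.negSucc 2, Int.ofNat 1, Int.negSucc 0, Int.ofNat 1, Int.negSucc 0, Int.negSucc 0, Int.negSucc 0, Int.negSucc 0, Int.ofNat 1, Int.negSucc 0, Int.negSucc 0, Int.negSucc 0, Int.ofNat 1, Int.ofNat 1, Int.negSucc 0, Int.negSucc 0, Int.ofNat 1],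
  [Int.ofNat 1, Int.ofNat 1, Int.negSucc 0, Int.ofNat 1, Int.negSucc 2, Int.ofNat 1, Int.negSucc 0, Int.ofNat 1, Int.negSucc 0, Int.negSucc 0, Int.negSucc 0, Int.negSucc 0, Int.ofNat 1, Int.negSucc 0, Int.negSucc 0, Int.negSucc 0, Int.ofNat 1, Int.ofNat 1, Int.negSucc 0, Int.negSucc 0, Int.ofNat 1, Int.negSucc 0, Int.ofNat 1, Int.ofNat 1],
  [Int.ofNat 0, Int.ofNat 0, Int.ofNat 2, Int.ofNat 0, Int.negSucc 1, Int.ofNat 0, Int.ofNat 0, Int.ofNat 2, Int.ofNat 0, Int.ofNat 0, Int.ofNat 0, Int.ofNat 0, Int.ofNat 2, Int.ofNat 0, Int.negSucc 1, Int.ofNat 0, Int.ofNat 2, Int.ofNat 0, Int.ofNat 0, Int.ofNat 0, Int.ofNat 2, Int.ofNat 0, Int.ofNat 2, Int.ofNat 0],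
  [Int.ofNat 0, Int.ofNat 0, Int.negSucc 1, Int.ofNat 0, Int.ofNat 0, Int.ofNat 2, Int.ofNat 2, Int.ofNat 0, Int.ofNat 2, Int.ofNat 0, Int.ofNat 2, Int.ofNat 0, Int.ofNat 0, Int.ofNat 2, Int.ofNat 2, Int.ofNat 0, Int.ofNat 0, Int.negSucc 1, Int.ofNat 0, Int.ofNat 0, Int.ofNat 0, Int.ofNat 0, Int.ofNat 0, Int.ofNat 0],
  [Int.negSucc 0, Int.negSucc 0, Int.ofNat 1, Int.negSucc 0, Int.negSucc 0, Int.ofNat 1, Int.ofNat 1, Int.negSucc 0, Int.ofNat 1, Int.negSucc 0, Int.ofNat 1, Int.negSucc 0, Int.negSucc 0, Int.ofNat 1, Int.ofNat 1, Int.negSucc 0, Int.negSucc 0, Int.negSucc 2, Int.negSucc 0, Int.negSucc 0, Int.negSucc 0, Int.negSucc 0, Int.negSucc 0, Int.negSucc 0],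
  [Int.negSucc 0, Int.negSucc 0, Int.negSucc 0, Int.negSucc 0, Int.negSucc 0, Int.negSucc 0, Int.negSucc 0, Int.negSucc 0, Int.ofNat 1, Int.ofNat 1, Int.negSucc 0, Int.negSucc 0, Int.negSucc 0, Int.ofNat 1, Int.ofNat 1, Int.ofNat 1, Int.negSucc 0, Int.negSucc 2, Int.ofNat 1, Int.negSucc 0, Int.negSucc 0, Int.negSucc 0, Int.ofNat 1, Int.negSucc 0],
  [Int.negSucc 0, Int.negSucc 0, Int.negSucc 0, Int.ofNat 1, Int.ofNat 1, Int.negSucc 0, Int.negSucc 0, Int.negSucc 0, Int.negSucc 0, Int.negSucc 0, Int.ofNat 1, Int.negSucc 0, Int.ofNat 1, Int.negSucc 0, Int.negSucc 2, Int.ofNat 1, Int.negSucc 0, Int.negSucc 0, Int.ofNat 1, Int.negSucc 0, Int.negSucc 0, Int.negSucc 0, Int.ofNat 1, Int.negSucc 0],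
  [Int.ofNat 1, Int.ofNat 1, Int.ofNat 1, Int.negSucc 0, Int.negSucc 0, Int.negSucc 0, Int.ofNat 1, Int.negSucc 0, Int.ofNat 1, Int.ofNat 1, Int.ofNat 1, Int.negSucc 0, Int.negSucc 0, Int.ofNat 1, Int.negSucc 2, Int.ofNat 1, Int.ofNat 1, Int.negSucc 0, Int.negSucc 0, Int.negSucc 0, Int.negSucc 0, Int.negSucc 0, Int.ofNat 1, Int.negSucc 0],
  [Int.negSucc 0, Int.ofNat 1, Int.negSucc 0, Int.ofNat 1, Int.negSucc 0, Int.ofNat 1, Int.negSucc 0, Int.ofNat 1, Int.negSucc 0, Int.negSucc 0, Int.ofNat 1, Int.ofNat 1, Int.negSucc 0, Int.negSucc 0, Int.negSucc 0, Int.negSucc 0, Int.ofNat 1, Int.negSucc 0, Int.negSucc 2, Int.ofNat 1, Int.ofNat 1, Int.negSucc 0, Int.ofNat 1, Int.ofNat 1],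
  [Int.ofNat 1, Int.ofNat 1, Int.ofNat 1, Int.ofNat 1, Int.negSucc 0, Int.ofNat 1, Int.negSucc 0, Int.negSucc 0, Int.negSucc 0, Int.ofNat 1, Int.negSucc 0, Int.negSucc 0, Int.negSucc 0, Int.negSucc 0, Int.negSucc 0, Int.negSucc 0, Int.ofNat 1, Int.negSucc 0, Int.ofNat 3, Int.ofNat 1, Int.ofNat 1, Int.ofNat 1, Int.ofNat 1, Int.ofNat 1],
  [Int.ofNat 1, Int.ofNat 1, Int.ofNat 1, Int.ofNat 1, Int.ofNat 1, Int.negSucc 0, Int.ofNat 1, Int.negSucc 0, Int.negSucc 0, Int.negSucc 0, Int.ofNat 1, Int.negSucc 0, Int.negSucc 0, Int.negSucc 0, Int.negSucc 0, Int.negSucc 0, Int.negSucc 0, Int.ofNat 1, Int.negSucc 0, Int.ofNat 3, Int.ofNat 1, Int.ofNat 1, Int.ofNat 1, Int.ofNat 1],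
  [Int.ofNat 1, Int.ofNat 1, Int.ofNat 1, Int.ofNat 1, Int.ofNat 1, Int.negSucc 0, Int.negSucc 0, Int.negSucc 2, Int.ofNat 1, Int.negSucc 0, Int.ofNat 1, Int.ofNat 1, Int.ofNat 1, Int.negSucc 0, Int.negSucc 0, Int.negSucc 0, Int.negSucc 0, Int.ofNat 1, Int.ofNat 1, Int.ofNat 1, Int.ofNat 1, Int.negSucc 0, Int.ofNat 1, Int.ofNat 1],
  [Int.ofNat 1, Int.ofNat 1, Int.negSucc 0, Int.negSucc 0, Int.negSucc 2, Int.ofNat 1, Int.negSucc 0, Int.ofNat 1, Int.ofNat 1, Int.ofNat 1, Int.negSucc 0, Int.negSucc 0, Int.negSucc 0, Int.negSucc 0, Int.ofNat 1, Int.ofNat 1, Int.ofNat 1, Int.ofNat 1, Int.negSucc 0, Int.ofNat 1, Int.ofNat 1, Int.ofNat 1, Int.ofNat 1, Int.ofNat 1],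
  [Int.ofNat 0, Int.ofNat 0, Int.ofNat 2, Int.negSucc 1, Int.negSucc 1, Int.ofNat 0, Int.negSucc 1, Int.ofNat 0, Int.ofNat 2, Int.ofNat 0, Int.negSucc 1, Int.ofNat 0, Int.ofNat 0, Int.ofNat 0, Int.ofNat 0, Int.ofNat 0, Int.ofNat 2, Int.ofNat 0, Int.ofNat 0, Int.ofNat 0, Int.ofNat 0, Int.ofNat 0, Int.ofNat 2, Int.ofNat 0],
  [Int.ofNat 0, Int.negSucc 1, Int.negSucc 1, Int.negSucc 1, Int.ofNat 0, Int.ofNat 0, Int.ofNat 2, Int.negSucc 1, Int.ofNat 0, Int.ofNat 0, Int.ofNat 0, Int.ofNat 0, Int.ofNat 0, Int.ofNat 2, Int.ofNat 2, Int.ofNat 0, Int.ofNat 2, Int.ofNat 0, Int.ofNat 0, Int.ofNat 0, Int.ofNat 0, Int.ofNat 0, Int.ofNat 0, Int.ofNat 0],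
  [Int.negSucc 1, Int.ofNat 0, Int.ofNat 0, Int.negSucc 1, Int.negSucc 1, Int.ofNat 0, Int.ofNat 2, Int.negSucc 1, Int.ofNat 0, Int.ofNat 0, Int.ofNat 0, Int.ofNat 0, Int.ofNat 0, Int.ofNat 0, Int.ofNat 2, Int.ofNat 0, Int.ofNat 0, Int.ofNat 0, Int.ofNat 0, Int.ofNat 0, Int.ofNat 0, Int.ofNat 0, Int.negSucc 1, Int.negSucc 1],
  [Int.negSucc 1, Int.ofNat 0, Int.ofNat 0, Int.negSucc 1, Int.negSucc 1, Int.ofNat 0, Int.negSucc 1, Int.negSucc 1, Int.ofNat 0, Int.ofNat 0, Int.ofNat 0, Int.ofNat 0, Int.ofNat 0, Int.ofNat 0, Int.ofNat 2, Int.ofNat 0, Int.ofNat 0, Int.ofNat 0, Int.ofNat 0, Int.ofNat 0, Int.ofNat 0, Int.ofNat 0, Int.ofNat 2, Int.negSucc 1],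
  [Int.ofNat 0, Int.ofNat 0, Int.ofNat 0, Int.negSucc 1, Int.negSucc 1, Int.ofNat 0, Int.ofNat 0, Int.ofNat 0, Int.ofNat 0, Int.ofNat 0, Int.ofNat 0, Int.ofNat 0, Int.ofNat 0, Int.ofNat 0, Int.ofNat 0, Int.ofNat 0, Int.ofNat 2, Int.ofNat 0, Int.negSucc 1, Int.ofNat 0, Int.negSucc 1, Int.ofNat 2, Int.negSucc 1, Int.negSucc 1],
  [Int.ofNat 0, Int.ofNat 0, Int.ofNat 0, Int.negSucc 1, Int.negSucc 1, Int.ofNat 0, Int.ofNat 0, Int.ofNat 0, Int.ofNat 0, Int.ofNat 0, Int.ofNat 0, Int.ofNat 0, Int.ofNat 0, Int.ofNat 0, Int.ofNat 0, Int.ofNat 0, Int.ofNat 2, Int.ofNat 0, Int.ofNat 2, Int.ofNat 0, Int.negSucc 1, Int.ofNat 2, Int.ofNat 2, Int.negSucc 1],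
  [Int.negSucc 0, Int.negSucc 0, Int.negSucc 0, Int.negSucc 0, Int.negSucc 2, Int.ofNat 1, Int.negSucc 0, Int.negSucc 0, Int.negSucc 0, Int.ofNat 1, Int.ofNat 1, Int.negSucc 0, Int.negSucc 0, Int.negSucc 0, Int.ofNat 1, Int.ofNat 1, Int.ofNat 1, Int.ofNat 1, Int.ofNat 1, Int.negSucc 0, Int.negSucc 0, Int.ofNat 1, Int.ofNat 1, Int.ofNat 1],
  [Int.negSucc 0, Int.ofNat 1, Int.negSucc 0, Int.negSucc 0, Int.negSucc 0, Int.ofNat 1, Int.negSucc 0, Int.ofNat 1, Int.ofNat 1, Int.negSucc 0, Int.negSucc 0, Int.negSucc 0, Int.negSucc 0, Int.ofNat 1, Int.ofNat 1, Int.ofNat 1, Int.negSucc 0, Int.negSucc 0, Int.negSucc 2, Int.ofNat 1, Int.ofNat 1, Int.negSucc 0, Int.ofNat 1, Int.ofNat 1],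
  [Int.ofNat 1, Int.negSucc 0, Int.ofNat 1, Int.negSucc 0, Int.negSucc 0, Int.ofNat 1, Int.negSucc 0, Int.ofNat 1, Int.ofNat 3, Int.negSucc 0, Int.negSucc 0, Int.ofNat 1, Int.ofNat 1, Int.ofNat 1, Int.ofNat 1, Int.ofNat 1, Int.negSucc 0, Int.negSucc 0, Int.negSucc 0, Int.ofNat 1, Int.ofNat 1, Int.negSucc 0, Int.ofNat 1, Int.negSucc 0],
  [Int.ofNat 1, Int.negSucc 0, Int.ofNat 1, Int.ofNat 1, Int.negSucc 0, Int.ofNat 1, Int.negSucc 0, Int.negSucc 0, Int.ofNat 1, Int.negSucc 0, Int.ofNat 1, Int.ofNat 3, Int.negSucc 0, Int.negSucc 0, Int.ofNat 1, Int.ofNat 1, Int.ofNat 1, Int.ofNat 1, Int.ofNat 1, Int.negSucc 0, Int.negSucc 0, Int.negSucc 0, Int.ofNat 1, Int.negSucc 0],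
  [Int.negSucc 0, Int.ofNat 1, Int.negSucc 0, Int.negSucc 0, Int.negSucc 0, Int.negSucc 0, Int.ofNat 1, Int.ofNat 1, Int.negSucc 0, Int.negSucc 0, Int.ofNat 1, Int.ofNat 1, Int.negSucc 2, Int.negSucc 0, Int.negSucc 0, Int.ofNat 1, Int.ofNat 1, Int.negSucc 0, Int.negSucc 0, Int.ofNat 1, Int.negSucc 0, Int.ofNat 1, Int.ofNat 1, Int.ofNat 1],
  [Int.ofNat 1, Int.negSucc 0, Int.negSucc 0, Int.negSucc 0, Int.negSucc 0, Int.ofNat 1, Int.ofNat 1, Int.negSucc 0, Int.negSucc 0, Int.ofNat 1, Int.ofNat 1, Int.negSucc 2, Int.negSucc 0, Int.negSucc 0, Int.ofNat 1, Int.ofNat 1, Int.negSucc 0, Int.negSucc 0, Int.ofNat 1, Int.negSucc 0, Int.ofNat 1, Int.ofNat 1, Int.negSucc 0, Int.ofNat 1],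
  [Int.negSucc 0, Int.negSucc 0, Int.ofNat 1, Int.negSucc 0, Int.negSucc 0, Int.ofNat 1, Int.ofNat 1, Int.ofNat 1, Int.negSucc 0, Int.negSucc 0, Int.negSucc 0, Int.ofNat 3, Int.negSucc 0, Int.negSucc 0, Int.ofNat 1, Int.ofNat 1, Int.negSucc 0, Int.negSucc 0, Int.negSucc 0, Int.negSucc 0, Int.ofNat 1, Int.negSucc 0, Int.negSucc 0, Int.ofNat 1],
  [Int.negSucc 0, Int.ofNat 1, Int.negSucc 0, Int.negSucc 0, Int.negSucc 0, Int.negSucc 0, Int.negSucc 0, Int.ofNat 1, Int.negSucc 0, Int.negSucc 0, Int.negSucc 0, Int.ofNat 1, Int.negSucc 0, Int.negSucc 0, Int.negSucc 0, Int.ofNat 1, Int.negSucc 0, Int.negSucc 0, Int.ofNat 1, Int.negSucc 0, Int.ofNat 1, Int.ofNat 1, Int.ofNat 3, Int.ofNat 1],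
  [Int.ofNat 1, Int.ofNat 1, Int.ofNat 1, Int.negSucc 0, Int.negSucc 0, Int.negSucc 0, Int.negSucc 0, Int.negSucc 0, Int.negSucc 0, Int.ofNat 1, Int.ofNat 1, Int.negSucc 0, Int.negSucc 0, Int.negSucc 0, Int.negSucc 0, Int.ofNat 1, Int.negSucc 0, Int.negSucc 0, Int.negSucc 0, Int.negSucc 0, Int.ofNat 1, Int.negSucc 0, Int.ofNat 3, Int.ofNat 1],
  [Int.ofNat 3, Int.ofNat 1, Int.ofNat 1, Int.ofNat 1, Int.negSucc 0, Int.negSucc 0, Int.negSucc 0, Int.negSucc 0, Int.negSucc 0, Int.negSucc 0, Int.ofNat 1, Int.ofNat 1, Int.negSucc 0, Int.negSucc 0, Int.negSucc 0, Int.negSucc 0, Int.ofNat 1, Int.negSucc 0, Int.negSucc 0, Int.negSucc 0, Int.negSucc 0, Int.ofNat 1, Int.negSucc 0, Int.ofNat 1],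
  [Int.ofNat 0, Int.ofNat 2, Int.ofNat 2, Int.ofNat 2, Int.ofNat 0, Int.ofNat 0, Int.ofNat 0, Int.ofNat 0, Int.ofNat 0, Int.ofNat 0, Int.ofNat 2, Int.ofNat 2, Int.ofNat 0, Int.ofNat 0, Int.ofNat 0, Int.ofNat 0, Int.ofNat 2, Int.ofNat 0, Int.ofNat 0, Int.ofNat 0, Int.ofNat 0, Int.ofNat 2, Int.ofNat 0, Int.ofNat 2],
  [Int.ofNat 2, Int.ofNat 0, Int.ofNat 0, Int.ofNat 0, Int.ofNat 0, Int.ofNat 0, Int.ofNat 0, Int.ofNat 2, Int.ofNat 2, Int.ofNat 0, Int.ofNat 0, Int.ofNat 0, Int.ofNat 0, Int.ofNat 2, Int.ofNat 0, Int.ofNat 0, Int.ofNat 0, Int.ofNat 0, Int.ofNat 2, Int.ofNat 0, Int.ofNat 0, Int.ofNat 2, Int.ofNat 2, Int.ofNat 2],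
  [Int.ofNat 0, Int.ofNat 2, Int.ofNat 2, Int.ofNat 0, Int.negSucc 1, Int.ofNat 0, Int.negSucc 1, Int.ofNat 0, Int.ofNat 0, Int.ofNat 0, Int.ofNat 0, Int.negSucc 1, Int.negSucc 1, Int.ofNat 0, Int.ofNat 0, Int.ofNat 0, Int.negSucc 1, Int.ofNat 0, Int.ofNat 0, Int.negSucc 1, Int.ofNat 0, Int.ofNat 0, Int.ofNat 0, Int.ofNat 0],
  [Int.ofNat 0, Int.negSucc 1, Int.negSucc 1, Int.ofNat 0, Int.ofNat 0, Int.ofNat 0, Int.ofNat 2, Int.ofNat 0, Int.negSucc 1, Int.ofNat 0, Int.ofNat 0, Int.ofNat 0, Int.ofNat 0, Int.negSucc 1, Int.ofNat 0, Int.ofNat 0, Int.ofNat 0, Int.ofNat 0, Int.ofNat 2, Int.negSucc 1, Int.ofNat 0, Int.ofNat 0, Int.negSucc 1, Int.ofNat 0],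
  [Int.negSucc 1, Int.ofNat 0, Int.ofNat 0, Int.ofNat 0, Int.ofNat 2, Int.ofNat 0, Int.ofNat 2, Int.ofNat 0, Int.negSucc 1, Int.ofNat 0, Int.ofNat 0, Int.ofNat 0, Int.ofNat 0, Int.ofNat 0, Int.ofNat 0, Int.ofNat 0, Int.ofNat 2, Int.ofNat 0, Int.ofNat 2, Int.negSucc 1, Int.ofNat 0, Int.ofNat 0, Int.ofNat 0, Int.negSucc 1],
  [Int.negSucc 1, Int.ofNat 0, Int.ofNat 0, Int.ofNat 0, Int.ofNat 2, Int.ofNat 0, Int.negSucc 1, Int.ofNat 0, Int.negSucc 1, Int.ofNat 0, Int.ofNat 0, Int.ofNat 0, Int.ofNat 0, Int.ofNat 0, Int.ofNat 0, Int.ofNat 0, Int.ofNat 2, Int.ofNat 0, Int.negSucc 1, Int.negSucc 1, Int.ofNat 0, Int.ofNat 0, Int.ofNat 0, Int.negSucc 1],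
  [Int.ofNat 0, Int.ofNat 2, Int.ofNat 0, Int.negSucc 1, Int.ofNat 0, Int.negSucc 1, Int.ofNat 0, Int.ofNat 0, Int.ofNat 0, Int.ofNat 0, Int.ofNat 0, Int.ofNat 0, Int.ofNat 0, Int.ofNat 2, Int.ofNat 0, Int.negSucc 1, Int.negSucc 1, Int.ofNat 0, Int.ofNat 0, Int.ofNat 0, Int.negSucc 1, Int.ofNat 0, Int.ofNat 0, Int.negSucc 1],
  [Int.ofNat 0, Int.negSucc 1, Int.ofNat 0, Int.ofNat 2, Int.ofNat 0, Int.negSucc 1, Int.ofNat 0, Int.ofNat 0, Int.ofNat 0, Int.ofNat 0, Int.ofNat 0, Int.ofNat 0, Int.ofNat 0, Int.negSucc 1, Int.ofNat 0, Int.negSucc 1, Int.ofNat 2, Int.ofNat 0, Int.ofNat 0, Int.ofNat 0, Int.negSucc 1, Int.ofNat 0, Int.ofNat 0, Int.negSucc 1],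
  [Int.negSucc 1, Int.ofNat 0, Int.ofNat 0, Int.negSucc 1, Int.ofNat 0, Int.ofNat 0, Int.ofNat 0, Int.negSucc 1, Int.negSucc 1, Int.negSucc 1, Int.ofNat 2, Int.ofNat 0, Int.ofNat 0, Int.ofNat 0, Int.ofNat 0, Int.ofNat 2, Int.ofNat 0, Int.ofNat 0, Int.ofNat 0, Int.ofNat 0, Int.ofNat 0, Int.ofNat 0, Int.negSucc 1, Int.ofNat 0],
  [Int.ofNat 2, Int.ofNat 0, Int.ofNat 0, Int.negSucc 1, Int.ofNat 0, Int.ofNat 0, Int.ofNat 0, Int.ofNat 2, Int.negSucc 1, Int.ofNat 2, Int.negSucc 1, Int.ofNat 0, Int.ofNat 0, Int.ofNat 0, Int.ofNat 0, Int.ofNat 2, Int.ofNat 0, Int.ofNat 0, Int.ofNat 0, Int.ofNat 0, Int.ofNat 0, Int.ofNat 0, Int.negSucc 1, Int.ofNat 0],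
  [Int.negSucc 1, Int.ofNat 2, Int.ofNat 0, Int.ofNat 0, Int.negSucc 1, Int.ofNat 0, Int.ofNat 0, Int.ofNat 0, Int.ofNat 2, Int.negSucc 1, Int.ofNat 2, Int.negSucc 1, Int.ofNat 0, Int.ofNat 0, Int.ofNat 0, Int.ofNat 0, Int.ofNat 2, Int.ofNat 0, Int.ofNat 0, Int.ofNat 0, Int.ofNat 0, Int.ofNat 0, Int.ofNat 0, Int.ofNat 0],
  [Int.ofNat 2, Int.negSucc 1, Int.ofNat 0, Int.ofNat 0, Int.negSucc 1, Int.ofNat 0, Int.ofNat 0, Int.ofNat 0, Int.ofNat 2, Int.negSucc 1, Int.ofNat 2, Int.negSucc 1, Int.ofNat 0, Int.ofNat 0, Int.ofNat 0, Int.ofNat 0, Int.ofNat 2, Int.ofNat 0, Int.ofNat 0, Int.ofNat 0, Int.ofNat 0, Int.ofNat 0, Int.ofNat 0, Int.ofNat 0],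
  [Int.ofNat 0, Int.negSucc 1, Int.ofNat 0, Int.ofNat 0, Int.ofNat 0, Int.ofNat 2, Int.negSucc 1, Int.ofNat 2, Int.negSucc 1, Int.ofNat 0, Int.ofNat 0, Int.ofNat 0, Int.ofNat 0, Int.ofNat 2, Int.ofNat 0, Int.ofNat 0, Int.ofNat 0, Int.ofNat 0, Int.ofNat 0, Int.ofNat 0, Int.ofNat 2, Int.negSucc 1, Int.ofNat 0, Int.ofNat 0],
  [Int.negSucc 0, Int.ofNat 1, Int.negSucc 0, Int.negSucc 0, Int.negSucc 0, Int.ofNat 1, Int.negSucc 0, Int.ofNat 3, Int.negSucc 0, Int.negSucc 0, Int.negSucc 0, Int.ofNat 1, Int.ofNat 1, Int.ofNat 1, Int.negSucc 0, Int.negSucc 0, Int.negSucc 0, Int.negSucc 0, Int.ofNat 1, Int.ofNat 1, Int.ofNat 1, Int.negSucc 0, Int.negSucc 0, Int.negSucc 0],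
  [Int.negSucc 0, Int.negSucc 0, Int.negSucc 0, Int.negSucc 0, Int.ofNat 1, Int.ofNat 3, Int.negSucc 0, Int.negSucc 0, Int.ofNat 1, Int.ofNat 1, Int.ofNat 1, Int.negSucc 0, Int.negSucc 0, Int.negSucc 0, Int.negSucc 0, Int.negSucc 0, Int.negSucc 0, Int.negSucc 0, Int.ofNat 1, Int.ofNat 1, Int.negSucc 0, Int.ofNat 1, Int.ofNat 1, Int.negSucc 0],
  [Int.negSucc 0, Int.negSucc 0, Int.negSucc 0, Int.negSucc 0, Int.ofNat 1, Int.ofNat 3, Int.negSucc 0, Int.negSucc 0, Int.ofNat 1, Int.ofNat 1, Int.ofNat 1, Int.negSucc 0, Int.negSucc 0, Int.negSucc 0, Int.negSucc 0, Int.negSucc 0, Int.negSucc 0, Int.negSucc 0, Int.ofNat 1, Int.ofNat 1, Int.negSucc 0, Int.ofNat 1, Int.ofNat 1, Int.negSucc 0],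
  [Int.negSucc 0, Int.negSucc 0, Int.ofNat 1, Int.negSucc 0, Int.ofNat 1, Int.negSucc 2, Int.ofNat 1, Int.negSucc 0, Int.ofNat 1, Int.negSucc 0, Int.negSucc 0, Int.negSucc 0, Int.negSucc 0, Int.negSucc 0, Int.negSucc 0, Int.ofNat 1, Int.negSucc 0, Int.negSucc 0, Int.negSucc 0, Int.ofNat 1, Int.negSucc 0, Int.ofNat 1, Int.negSucc 0, Int.negSucc 0],
  [Int.negSucc 0, Int.ofNat 1, Int.negSucc 0, Int.ofNat 1, Int.negSucc 0, Int.ofNat 1, Int.ofNat 1, Int.negSucc 0, Int.negSucc 0, Int.ofNat 1, Int.negSucc 0, Int.negSucc 0, Int.negSucc 0, Int.negSucc 2, Int.negSucc 0, Int.negSucc 0, Int.negSucc 0, Int.ofNat 1, Int.ofNat 1, Int.negSucc 0, Int.negSucc 0, Int.negSucc 0, Int.negSucc 0, Int.negSucc 0],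
  [Int.negSucc 0, Int.ofNat 1, Int.ofNat 1, Int.ofNat 1, Int.negSucc 0, Int.negSucc 0, Int.negSucc 0, Int.negSucc 0, Int.negSucc 0, Int.negSucc 0, Int.ofNat 1, Int.negSucc 0, Int.negSucc 0, Int.negSucc 2, Int.negSucc 0, Int.ofNat 1, Int.negSucc 0, Int.ofNat 1, Int.negSucc 0, Int.negSucc 0, Int.negSucc 0, Int.negSucc 0, Int.ofNat 1, Int.negSucc 0],
  [Int.ofNat 1, Int.negSucc 0, Int.negSucc 0, Int.ofNat 1, Int.ofNat 1, Int.negSucc 0, Int.ofNat 1, Int.ofNat 1, Int.ofNat 1, Int.negSucc 0, Int.ofNat 1, Int.ofNat 1, Int.ofNat 1, Int.negSucc 0, Int.negSucc 0, Int.ofNat 1, Int.ofNat 1, Int.ofNat 1, Int.ofNat 1, Int.ofNat 1, Int.negSucc 0, Int.ofNat 1, Int.ofNat 3, Int.ofNat 1],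
  [Int.ofNat 1, Int.ofNat 1, Int.ofNat 1, Int.ofNat 1, Int.negSucc 0, Int.ofNat 1, Int.negSucc 0, Int.negSucc 0, Int.ofNat 1, Int.ofNat 1, Int.ofNat 1, Int.ofNat 1, Int.ofNat 1, Int.negSucc 0, Int.ofNat 1, Int.ofNat 1, Int.negSucc 0, Int.ofNat 1, Int.ofNat 1, Int.ofNat 3, Int.ofNat 1, Int.negSucc 0, Int.negSucc 0, Int.ofNat 1],
  [Int.ofNat 1, Int.ofNat 1, Int.ofNat 1, Int.negSucc 0, Int.ofNat 1, Int.negSucc 0, Int.negSucc 0, Int.negSucc 0, Int.negSucc 0, Int.negSucc 0, Int.negSucc 0, Int.negSucc 0, Int.negSucc 0, Int.ofNat 1, Int.negSucc 0, Int.negSucc 0, Int.ofNat 1, Int.negSucc 0, Int.negSucc 0, Int.ofNat 3, Int.negSucc 0, Int.negSucc 0, Int.ofNat 1, Int.ofNat 1],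
  [Int.negSucc 0, Int.negSucc 0, Int.ofNat 1, Int.ofNat 1, Int.ofNat 1, Int.ofNat 1, Int.negSucc 0, Int.ofNat 1, Int.negSucc 0, Int.negSucc 0, Int.negSucc 0, Int.negSucc 0, Int.negSucc 0, Int.negSucc 0, Int.negSucc 0, Int.negSucc 0, Int.ofNat 1, Int.negSucc 0, Int.negSucc 0, Int.ofNat 1, Int.negSucc 0, Int.negSucc 0, Int.ofNat 3, Int.ofNat 1],
  [Int.ofNat 1, Int.ofNat 1, Int.negSucc 0, Int.ofNat 1, Int.negSucc 0, Int.ofNat 1, Int.negSucc 0, Int.ofNat 1, Int.ofNat 1, Int.ofNat 1, Int.ofNat 1, Int.ofNat 1, Int.ofNat 1, Int.negSucc 2, Int.negSucc 0, Int.ofNat 1, Int.negSucc 0, Int.negSucc 0, Int.ofNat 1, Int.ofNat 1, Int.ofNat 1, Int.negSucc 0, Int.ofNat 1, Int.negSucc 0],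
  [Int.ofNat 1, Int.negSucc 0, Int.ofNat 1, Int.negSucc 0, Int.ofNat 1, Int.negSucc 0, Int.ofNat 1, Int.ofNat 1, Int.ofNat 1, Int.ofNat 1, Int.ofNat 1, Int.ofNat 1, Int.negSucc 2, Int.negSucc 0, Int.ofNat 1, Int.negSucc 0, Int.negSucc 0, Int.ofNat 1, Int.ofNat 1, Int.ofNat 1, Int.negSucc 0, Int.ofNat 1, Int.ofNat 1, Int.negSucc 0],
  [Int.negSucc 0, Int.negSucc 0, Int.negSucc 0, Int.negSucc 0, Int.ofNat 1, Int.negSucc 0, Int.ofNat 1, Int.negSucc 0, Int.ofNat 1, Int.negSucc 0, Int.negSucc 0, Int.negSucc 0, Int.negSucc 2, Int.negSucc 0, Int.ofNat 1, Int.negSucc 0, Int.negSucc 0, Int.ofNat 1, Int.negSucc 0, Int.ofNat 1, Int.negSucc 0, Int.negSucc 0, Int.ofNat 1, Int.negSucc 0],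
  [Int.negSucc 0, Int.negSucc 0, Int.negSucc 0, Int.negSucc 0, Int.negSucc 0, Int.negSucc 0, Int.ofNat 1, Int.negSucc 0, Int.negSucc 0, Int.negSucc 0, Int.negSucc 0, Int.ofNat 1, Int.negSucc 0, Int.ofNat 1, Int.ofNat 1, Int.negSucc 0, Int.negSucc 2, Int.ofNat 1, Int.ofNat 1, Int.ofNat 1, Int.negSucc 0, Int.negSucc 0, Int.negSucc 0, Int.negSucc 0],
  [Int.ofNat 1, Int.negSucc 0, Int.ofNat 1, Int.negSucc 0, Int.negSucc 0, Int.negSucc 0, Int.ofNat 1, Int.ofNat 1, Int.negSucc 0, Int.ofNat 1, Int.ofNat 1, Int.negSucc 0, Int.negSucc 0, Int.ofNat 1, Int.ofNat 1, Int.negSucc 0, Int.negSucc 2, Int.ofNat 1, Int.negSucc 0, Int.ofNat 1, Int.negSucc 0, Int.ofNat 1, Int.negSucc 0, Int.negSucc 0],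
  [Int.negSucc 0, Int.ofNat 1, Int.negSucc 0, Int.ofNat 1, Int.negSucc 0, Int.negSucc 0, Int.negSucc 0, Int.ofNat 1, Int.ofNat 1, Int.negSucc 0, Int.ofNat 1, Int.ofNat 1, Int.negSucc 0, Int.negSucc 0, Int.ofNat 1, Int.ofNat 1, Int.negSucc 0, Int.negSucc 2, Int.ofNat 1, Int.negSucc 0, Int.ofNat 1, Int.negSucc 0, Int.ofNat 1, Int.negSucc 0],
  [Int.ofNat 0, Int.negSucc 1, Int.ofNat 0, Int.ofNat 2, Int.ofNat 0, Int.ofNat 0, Int.ofNat 0, Int.ofNat 2, Int.ofNat 0, Int.negSucc 1, Int.ofNat 0, Int.ofNat 0, Int.negSucc 1, Int.ofNat 0, Int.ofNat 2, Int.ofNat 0, Int.ofNat 0, Int.negSucc 1, Int.ofNat 0, Int.ofNat 0, Int.ofNat 0, Int.ofNat 0, Int.ofNat 2, Int.ofNat 0],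
  [Int.ofNat 2, Int.ofNat 0, Int.ofNat 0, Int.ofNat 0, Int.ofNat 2, Int.ofNat 0, Int.negSucc 1, Int.ofNat 0, Int.ofNat 0, Int.negSucc 1, Int.ofNat 0, Int.ofNat 2, Int.ofNat 0, Int.ofNat 0, Int.negSucc 1, Int.ofNat 0, Int.ofNat 0, Int.ofNat 0, Int.ofNat 0, Int.ofNat 2, Int.ofNat 0, Int.negSucc 1, Int.ofNat 0, Int.ofNat 0],
  [Int.negSucc 0, Int.ofNat 1, Int.ofNat 1, Int.ofNat 1, Int.ofNat 1, Int.ofNat 1, Int.negSucc 0, Int.ofNat 1, Int.negSucc 0, Int.negSucc 0, Int.ofNat 1, Int.ofNat 1, Int.negSucc 0, Int.negSucc 0, Int.negSucc 0, Int.ofNat 1, Int.negSucc 0, Int.ofNat 1, Int.negSucc 0, Int.ofNat 3, Int.ofNat 1, Int.negSucc 0, Int.negSucc 0, Int.ofNat 1],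
  [Int.negSucc 0, Int.negSucc 0, Int.ofNat 1, Int.ofNat 1, Int.negSucc 0, Int.ofNat 1, Int.ofNat 1, Int.ofNat 1, Int.negSucc 0, Int.negSucc 0, Int.ofNat 1, Int.ofNat 1, Int.negSucc 0, Int.negSucc 0, Int.negSucc 0, Int.ofNat 1, Int.negSucc 0, Int.negSucc 0, Int.ofNat 1, Int.ofNat 1, Int.negSucc 0, Int.ofNat 1, Int.ofNat 3, Int.ofNat 1],
  [Int.ofNat 1, Int.ofNat 1, Int.negSucc 0, Int.ofNat 1, Int.negSucc 0, Int.ofNat 1, Int.negSucc 0, Int.negSucc 0, Int.negSucc 0, Int.negSucc 0, Int.ofNat 1, Int.ofNat 1, Int.negSucc 0, Int.negSucc 0, Int.negSucc 0, Int.ofNat 1, Int.negSucc 0, Int.negSucc 0, Int.ofNat 1, Int.negSucc 0, Int.negSucc 0, Int.negSucc 0, Int.ofNat 3, Int.negSucc 0],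
  [Int.ofNat 1, Int.ofNat 1, Int.ofNat 1, Int.ofNat 1, Int.negSucc 0, Int.negSucc 0, Int.ofNat 1, Int.negSucc 0, Int.negSucc 0, Int.ofNat 1, Int.negSucc 0, Int.ofNat 1, Int.negSucc 0, Int.negSucc 0, Int.negSucc 0, Int.negSucc 0, Int.negSucc 0, Int.negSucc 0, Int.negSucc 0, Int.negSucc 0, Int.negSucc 0, Int.negSucc 0, Int.negSucc 2, Int.negSucc 0],
  [Int.negSucc 0, Int.negSucc 0, Int.ofNat 1, Int.negSucc 0, Int.negSucc 0, Int.ofNat 1, Int.negSucc 0, Int.ofNat 1, Int.negSucc 0, Int.negSucc 0, Int.negSucc 0, Int.negSucc 0, Int.negSucc 0, Int.negSucc 0, Int.negSucc 0, Int.negSucc 0, Int.negSucc 0, Int.negSucc 0, Int.ofNat 1, Int.ofNat 1, Int.ofNat 1, Int.ofNat 1, Int.negSucc 2, Int.negSucc 0],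
  [Int.ofNat 1, Int.ofNat 1, Int.negSucc 0, Int.ofNat 1, Int.ofNat 1, Int.ofNat 1, Int.ofNat 1, Int.ofNat 1, Int.ofNat 1, Int.ofNat 1, Int.negSucc 0, Int.negSucc 0, Int.ofNat 1, Int.ofNat 1, Int.negSucc 0, Int.negSucc 0, Int.ofNat 1, Int.negSucc 0, Int.negSucc 0, Int.ofNat 1, Int.ofNat 1, Int.ofNat 1, Int.negSucc 2, Int.negSucc 0],
  [Int.negSucc 0, Int.negSucc 2, Int.negSucc 0, Int.negSucc 0, Int.negSucc 0, Int.ofNat 1, Int.ofNat 1, Int.ofNat 1, Int.ofNat 1, Int.ofNat 1, Int.ofNat 1, Int.negSucc 0, Int.ofNat 1, Int.ofNat 1, Int.negSucc 0, Int.ofNat 1, Int.negSucc 0, Int.ofNat 1, Int.negSucc 0, Int.ofNat 1, Int.ofNat 1, Int.ofNat 1, Int.ofNat 1, Int.ofNat 1],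
  [Int.ofNat 1, Int.negSucc 2, Int.ofNat 1, Int.negSucc 0, Int.negSucc 0, Int.ofNat 1, Int.ofNat 1, Int.negSucc 0, Int.ofNat 1, Int.negSucc 0, Int.negSucc 0, Int.ofNat 1, Int.ofNat 1, Int.ofNat 1, Int.negSucc 0, Int.ofNat 1, Int.negSucc 0, Int.ofNat 1, Int.ofNat 1, Int.ofNat 1, Int.ofNat 1, Int.negSucc 0, Int.ofNat 1, Int.ofNat 1],
  [Int.ofNat 1, Int.ofNat 1, Int.negSucc 2, Int.ofNat 1, Int.negSucc 0, Int.negSucc 0, Int.ofNat 1, Int.ofNat 1, Int.negSucc 0, Int.ofNat 1, Int.negSucc 0, Int.negSucc 0, Int.ofNat 1, Int.ofNat 1, Int.ofNat 1, Int.negSucc 0, Int.ofNat 1, Int.negSucc 0, Int.ofNat 1, Int.ofNat 1, Int.ofNat 1, Int.ofNat 1, Int.negSucc 0, Int.ofNat 1],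
  [Int.negSucc 0, Int.negSucc 0, Int.ofNat 3, Int.ofNat 1, Int.negSucc 0, Int.negSucc 0, Int.negSucc 0, Int.negSucc 0, Int.negSucc 0, Int.ofNat 1, Int.negSucc 0, Int.negSucc 0, Int.ofNat 1, Int.ofNat 1, Int.ofNat 1, Int.negSucc 0, Int.ofNat 1, Int.negSucc 0, Int.ofNat 1, Int.negSucc 0, Int.ofNat 1, Int.negSucc 0, Int.negSucc 0, Int.negSucc 0],
  [Int.ofNat 1, Int.negSucc 0, Int.negSucc 0, Int.negSucc 0, Int.negSucc 0, Int.negSucc 0, Int.ofNat 1, Int.negSucc 0, Int.negSucc 0, Int.ofNat 1, Int.ofNat 1, Int.ofNat 1, Int.negSucc 0, Int.ofNat 1, Int.negSucc 0, Int.ofNat 1, Int.negSucc 0, Int.ofNat 1, Int.negSucc 0, Int.negSucc 0, Int.negSucc 0, Int.negSucc 0, Int.ofNat 3, Int.negSucc 0],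
  [Int.negSucc 1, Int.ofNat 0, Int.ofNat 0, Int.ofNat 0, Int.negSucc 1, Int.ofNat 0, Int.ofNat 2, Int.ofNat 0, Int.ofNat 0, Int.ofNat 0, Int.ofNat 0, Int.ofNat 2, Int.ofNat 0, Int.ofNat 0, Int.ofNat 0, Int.ofNat 0, Int.negSucc 1, Int.ofNat 2, Int.ofNat 0, Int.ofNat 0, Int.negSucc 1, Int.ofNat 0, Int.ofNat 2, Int.ofNat 0],
  [Int.negSucc 1, Int.ofNat 2, Int.negSucc 1, Int.ofNat 0, Int.ofNat 0, Int.ofNat 0, Int.ofNat 0, Int.ofNat 0, Int.ofNat 0, Int.ofNat 0, Int.negSucc 1, Int.ofNat 2, Int.ofNat 0, Int.negSucc 1, Int.ofNat 2, Int.ofNat 0, Int.ofNat 0, Int.ofNat 0, Int.ofNat 0, Int.ofNat 2, Int.ofNat 0, Int.ofNat 0, Int.ofNat 0, Int.ofNat 0],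
  [Int.ofNat 1, Int.negSucc 2, Int.ofNat 1, Int.negSucc 0, Int.ofNat 1, Int.negSucc 0, Int.negSucc 0, Int.negSucc 0, Int.negSucc 0, Int.ofNat 1, Int.negSucc 0, Int.ofNat 1, Int.negSucc 0, Int.negSucc 0, Int.ofNat 1, Int.ofNat 1, Int.ofNat 1, Int.negSucc 0, Int.negSucc 0, Int.ofNat 1, Int.ofNat 1, Int.negSucc 0, Int.ofNat 1, Int.negSucc 0],
  [Int.ofNat 1, Int.negSucc 2, Int.negSucc 0, Int.negSucc 0, Int.ofNat 1, Int.ofNat 1, Int.ofNat 1, Int.negSucc 0, Int.negSucc 0, Int.negSucc 0, Int.ofNat 1, Int.ofNat 1, Int.negSucc 0, Int.negSucc 0, Int.ofNat 1, Int.negSucc 0, Int.ofNat 1, Int.negSucc 0, Int.ofNat 1, Int.ofNat 1, Int.ofNat 1, Int.negSucc 0, Int.negSucc 0, Int.negSucc 0],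
  [Int.negSucc 0, Int.negSucc 0, Int.negSucc 0, Int.ofNat 1, Int.negSucc 0, Int.negSucc 0, Int.negSucc 0, Int.ofNat 1, Int.ofNat 1, Int.ofNat 1, Int.negSucc 2, Int.ofNat 1, Int.ofNat 1, Int.ofNat 1, Int.ofNat 1, Int.negSucc 0, Int.negSucc 0, Int.negSucc 0, Int.ofNat 1, Int.negSucc 0, Int.negSucc 0, Int.ofNat 1, Int.ofNat 1, Int.negSucc 0],
  [Int.negSucc 0, Int.negSucc 0, Int.ofNat 1, Int.ofNat 1, Int.negSucc 0, Int.ofNat 1, Int.ofNat 1, Int.ofNat 1, Int.ofNat 1, Int.negSucc 0, Int.ofNat 3, Int.ofNat 1, Int.ofNat 1, Int.ofNat 1, Int.ofNat 1, Int.ofNat 1, Int.negSucc 0, Int.negSucc 0, Int.negSucc 0, Int.negSucc 0, Int.negSucc 0, Int.ofNat 1, Int.negSucc 0, Int.negSucc 0],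
  [Int.ofNat 0, Int.ofNat 0, Int.negSucc 1, Int.ofNat 0, Int.ofNat 0, Int.ofNat 0, Int.ofNat 0, Int.ofNat 0, Int.ofNat 0, Int.negSucc 1, Int.ofNat 2, Int.ofNat 0, Int.ofNat 0, Int.ofNat 2, Int.ofNat 0, Int.ofNat 0, Int.ofNat 0, Int.negSucc 1, Int.negSucc 1, Int.negSucc 1, Int.negSucc 1, Int.ofNat 0, Int.ofNat 0, Int.ofNat 0],
  [Int.ofNat 0, Int.negSucc 1, Int.ofNat 0, Int.ofNat 0, Int.negSucc 1, Int.ofNat 0, Int.ofNat 0, Int.ofNat 0, Int.ofNat 0, Int.ofNat 0, Int.ofNat 0, Int.negSucc 1, Int.ofNat 0, Int.negSucc 1, Int.negSucc 1, Int.ofNat 0, Int.ofNat 2, Int.ofNat 0, Int.ofNat 0, Int.ofNat 0, Int.ofNat 2, Int.negSucc 1, Int.ofNat 0, Int.ofNat 0],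
  [Int.negSucc 0, Int.ofNat 1, Int.negSucc 0, Int.ofNat 1, Int.negSucc 0, Int.ofNat 1, Int.ofNat 1, Int.ofNat 1, Int.ofNat 1, Int.negSucc 0, Int.negSucc 0, Int.negSucc 0, Int.ofNat 1, Int.negSucc 0, Int.negSucc 0, Int.negSucc 0, Int.ofNat 3, Int.ofNat 1, Int.ofNat 1, Int.ofNat 1, Int.ofNat 1, Int.negSucc 0, Int.ofNat 1, Int.negSucc 0],
  [Int.ofNat 1, Int.negSucc 0, Int.ofNat 1, Int.negSucc 0, Int.ofNat 1, Int.negSucc 0, Int.ofNat 1, Int.negSucc 0, Int.ofNat 1, Int.ofNat 1, Int.ofNat 1, Int.ofNat 1, Int.negSucc 0, Int.negSucc 0, Int.negSucc 0, Int.ofNat 1, Int.negSucc 0, Int.negSucc 0, Int.negSucc 0, Int.ofNat 3, Int.ofNat 1, Int.ofNat 1, Int.ofNat 1, Int.negSucc 0],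
  [Int.negSucc 0, Int.ofNat 1, Int.negSucc 0, Int.ofNat 1, Int.ofNat 1, Int.ofNat 1, Int.negSucc 0, Int.negSucc 2, Int.ofNat 1, Int.negSucc 0, Int.negSucc 0, Int.ofNat 1, Int.negSucc 0, Int.negSucc 0, Int.ofNat 1, Int.negSucc 0, Int.negSucc 0, Int.ofNat 1, Int.negSucc 0, Int.ofNat 1, Int.negSucc 0, Int.negSucc 0, Int.ofNat 1, Int.ofNat 1],
  [Int.ofNat 1, Int.negSucc 0, Int.ofNat 1, Int.ofNat 1, Int.ofNat 1, Int.negSucc 0, Int.negSucc 2, Int.ofNat 1, Int.negSucc 0, Int.negSucc 0, Int.ofNat 1, Int.negSucc 0, Int.negSucc 0, Int.ofNat 1, Int.negSucc 0, Int.negSucc 0, Int.ofNat 1, Int.negSucc 0, Int.ofNat 1, Int.negSucc 0, Int.negSucc 0, Int.ofNat 1, Int.negSucc 0, Int.ofNat 1],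
  [Int.negSucc 0, Int.negSucc 0, Int.negSucc 0, Int.ofNat 1, Int.ofNat 1, Int.negSucc 0, Int.negSucc 2, Int.negSucc 0, Int.negSucc 0, Int.ofNat 1, Int.negSucc 0, Int.ofNat 1, Int.negSucc 0, Int.ofNat 1, Int.negSucc 0, Int.negSucc 0, Int.ofNat 1, Int.negSucc 0, Int.negSucc 0, Int.negSucc 0, Int.negSucc 0, Int.negSucc 0, Int.negSucc 0, Int.ofNat 1],
  [Int.negSucc 0, Int.negSucc 0, Int.negSucc 0, Int.ofNat 1, Int.negSucc 0, Int.negSucc 0, Int.ofNat 1, Int.negSucc 0, Int.ofNat 1, Int.ofNat 1, Int.negSucc 0, Int.negSucc 0, Int.ofNat 1, Int.negSucc 0, Int.negSucc 0, Int.negSucc 0, Int.negSucc 0, Int.negSucc 0, Int.negSucc 2, Int.negSucc 0, Int.negSucc 0, Int.negSucc 0, Int.ofNat 1, Int.ofNat 1],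
  [Int.ofNat 1, Int.negSucc 0, Int.ofNat 1, Int.ofNat 1, Int.negSucc 0, Int.negSucc 0, Int.ofNat 1, Int.ofNat 1, Int.ofNat 1, Int.negSucc 0, Int.ofNat 1, Int.ofNat 1, Int.ofNat 1, Int.negSucc 0, Int.negSucc 0, Int.negSucc 0, Int.negSucc 0, Int.negSucc 0, Int.ofNat 3, Int.negSucc 0, Int.negSucc 0, Int.ofNat 1, Int.ofNat 1, Int.ofNat 1],
  [Int.ofNat 1, Int.ofNat 1, Int.negSucc 0, Int.ofNat 1, Int.ofNat 1, Int.negSucc 0, Int.negSucc 0, Int.ofNat 1, Int.ofNat 1, Int.ofNat 1, Int.negSucc 0, Int.ofNat 1, Int.ofNat 1, Int.ofNat 1, Int.negSucc 0, Int.negSucc 0, Int.negSucc 0, Int.negSucc 0, Int.negSucc 0, Int.ofNat 3, Int.negSucc 0, Int.negSucc 0, Int.ofNat 1, Int.ofNat 1],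
  [Int.ofNat 0, Int.ofNat 0, Int.ofNat 2, Int.ofNat 2, Int.ofNat 0, Int.ofNat 0, Int.negSucc 1, Int.ofNat 0, Int.ofNat 0, Int.ofNat 2, Int.ofNat 0, Int.ofNat 0, Int.ofNat 0, Int.ofNat 0, Int.ofNat 0, Int.ofNat 0, Int.negSucc 1, Int.ofNat 0, Int.negSucc 1, Int.ofNat 2, Int.ofNat 0, Int.negSucc 1, Int.ofNat 0, Int.ofNat 0],
  [Int.ofNat 2, Int.ofNat 0, Int.ofNat 0, Int.negSucc 1, Int.ofNat 0, Int.ofNat 0, Int.ofNat 2, Int.ofNat 0, Int.ofNat 0, Int.ofNat 0, Int.ofNat 0, Int.ofNat 0, Int.ofNat 0, Int.negSucc 1, Int.ofNat 0, Int.negSucc 1, Int.ofNat 2, Int.ofNat 0, Int.negSucc 1, Int.ofNat 0, Int.ofNat 0, Int.ofNat 0, Int.ofNat 2, Int.ofNat 0],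
  [Int.negSucc 0, Int.ofNat 1, Int.ofNat 1, Int.negSucc 0, Int.negSucc 0, Int.ofNat 1, Int.ofNat 1, Int.negSucc 0, Int.ofNat 1, Int.ofNat 1, Int.ofNat 1, Int.ofNat 1, Int.ofNat 1, Int.negSucc 2, Int.ofNat 1, Int.negSucc 0, Int.ofNat 1, Int.ofNat 1, Int.negSucc 0, Int.negSucc 0, Int.ofNat 1, Int.negSucc 0, Int.ofNat 1, Int.ofNat 1],
  [Int.negSucc 0, Int.ofNat 1, Int.negSucc 0, Int.negSucc 0, Int.negSucc 0, Int.negSucc 0, Int.ofNat 1, Int.ofNat 1, Int.ofNat 1, Int.negSucc 2, Int.ofNat 1, Int.ofNat 1, Int.ofNat 1, Int.ofNat 1, Int.ofNat 1, Int.negSucc 0, Int.ofNat 1, Int.ofNat 1, Int.ofNat 1, Int.ofNat 1, Int.negSucc 0, Int.ofNat 1, Int.negSucc 0, Int.ofNat 1],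
  [Int.ofNat 1, Int.negSucc 0, Int.ofNat 1, Int.negSucc 0, Int.negSucc 0, Int.negSucc 0, Int.negSucc 0, Int.negSucc 0, Int.negSucc 0, Int.negSucc 0, Int.ofNat 3, Int.negSucc 0, Int.negSucc 0, Int.ofNat 1, Int.ofNat 1, Int.ofNat 1, Int.ofNat 1, Int.ofNat 1, Int.negSucc 0, Int.negSucc 0, Int.ofNat 1, Int.negSucc 0, Int.negSucc 0, Int.negSucc 0],
  [Int.ofNat 1, Int.negSucc 0, Int.negSucc 0, Int.negSucc 0, Int.negSucc 0, Int.ofNat 1, Int.ofNat 1, Int.negSucc 0, Int.negSucc 0, Int.ofNat 1, Int.negSucc 2, Int.negSucc 0, Int.negSucc 0, Int.ofNat 1, Int.ofNat 1, Int.negSucc 0, Int.ofNat 1, Int.ofNat 1, Int.ofNat 1, Int.negSucc 0, Int.ofNat 1, Int.negSucc 0, Int.ofNat 1, Int.negSucc 0],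
  [Int.negSucc 2, Int.ofNat 1, Int.negSucc 0, Int.negSucc 0, Int.ofNat 1, Int.ofNat 1, Int.negSucc 0, Int.negSucc 0, Int.ofNat 1, Int.ofNat 1, Int.ofNat 1, Int.negSucc 0, Int.negSucc 0, Int.negSucc 0, Int.ofNat 1, Int.ofNat 1, Int.negSucc 0, Int.negSucc 0, Int.ofNat 1, Int.negSucc 0, Int.ofNat 1, Int.negSucc 0, Int.ofNat 1, Int.negSucc 0],
  [Int.ofNat 3, Int.negSucc 0, Int.ofNat 1, Int.ofNat 1, Int.negSucc 0, Int.ofNat 1, Int.ofNat 1, Int.negSucc 0, Int.negSucc 0, Int.negSucc 0, Int.ofNat 1, Int.negSucc 0, Int.ofNat 1, Int.ofNat 1, Int.ofNat 1, Int.ofNat 1, Int.ofNat 1, Int.negSucc 0, Int.negSucc 0, Int.negSucc 0, Int.ofNat 1, Int.negSucc 0, Int.ofNat 1, Int.negSucc 0],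
  [Int.negSucc 0, Int.ofNat 1, Int.negSucc 0, Int.ofNat 1, Int.negSucc 0, Int.negSucc 0, Int.negSucc 0, Int.ofNat 1, Int.ofNat 1, Int.ofNat 1, Int.ofNat 1, Int.ofNat 1, Int.negSucc 0, Int.negSucc 0, Int.negSucc 0, Int.ofNat 1, Int.ofNat 1, Int.negSucc 0, Int.ofNat 1, Int.ofNat 1, Int.negSucc 0, Int.ofNat 1, Int.negSucc 0, Int.ofNat 3],
  [Int.ofNat 1, Int.ofNat 1, Int.ofNat 1, Int.ofNat 1, Int.negSucc 0, Int.negSucc 0, Int.negSucc 0, Int.negSucc 0, Int.ofNat 1, Int.negSucc 0, Int.negSucc 0, Int.negSucc 0, Int.negSucc 0, Int.negSucc 0, Int.negSucc 0, Int.ofNat 1, Int.ofNat 1, Int.negSucc 0, Int.negSucc 0, Int.ofNat 1, Int.negSucc 0, Int.negSucc 0, Int.negSucc 0, Int.ofNat 3],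
  [Int.negSucc 0, Int.ofNat 1, Int.ofNat 1, Int.ofNat 1, Int.ofNat 1, Int.negSucc 0, Int.negSucc 0, Int.negSucc 0, Int.negSucc 0, Int.ofNat 1, Int.negSucc 0, Int.negSucc 0, Int.negSucc 0, Int.negSucc 0, Int.negSucc 0, Int.negSucc 0, Int.ofNat 1, Int.ofNat 1, Int.negSucc 0, Int.negSucc 0, Int.ofNat 1, Int.negSucc 0, Int.negSucc 0, Int.ofNat 3],
  [Int.ofNat 3, Int.ofNat 1, Int.ofNat 1, Int.ofNat 1, Int.ofNat 1, Int.negSucc 0, Int.ofNat 1, Int.ofNat 1, Int.ofNat 1, Int.ofNat 1, Int.negSucc 0, Int.ofNat 1, Int.ofNat 1, Int.negSucc 0, Int.negSucc 0, Int.negSucc 0, Int.ofNat 1, Int.ofNat 1, Int.ofNat 1, Int.ofNat 1, Int.ofNat 1, Int.ofNat 1, Int.negSucc 0, Int.negSucc 0],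
  [Int.ofNat 1, Int.ofNat 1, Int.negSucc 0, Int.ofNat 1, Int.ofNat 1, Int.ofNat 1, Int.ofNat 1, Int.negSucc 0, Int.ofNat 1, Int.ofNat 1, Int.negSucc 0, Int.negSucc 0, Int.negSucc 0, Int.ofNat 1, Int.ofNat 1, Int.ofNat 1, Int.ofNat 1, Int.ofNat 1, Int.ofNat 1, Int.negSucc 0, Int.ofNat 3, Int.ofNat 1, Int.ofNat 1, Int.negSucc 0],
  [Int.negSucc 0, Int.negSucc 0, Int.ofNat 1, Int.negSucc 0, Int.negSucc 0, Int.negSucc 0, Int.ofNat 1, Int.negSucc 0, Int.ofNat 1, Int.negSucc 0, Int.negSucc 2, Int.negSucc 0, Int.negSucc 0, Int.negSucc 0, Int.negSucc 0, Int.negSucc 0, Int.negSucc 0, Int.negSucc 0, Int.ofNat 1, Int.negSucc 0, Int.ofNat 1, Int.ofNat 1, Int.negSucc 0, Int.ofNat 1],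
  [Int.negSucc 0, Int.ofNat 1, Int.negSucc 0, Int.negSucc 0, Int.ofNat 1, Int.negSucc 0, Int.ofNat 1, Int.negSucc 2, Int.negSucc 0, Int.negSucc 0, Int.ofNat 1, Int.negSucc 0, Int.negSucc 0, Int.negSucc 0, Int.negSucc 0, Int.negSucc 0, Int.ofNat 1, Int.negSucc 0, Int.negSucc 0, Int.negSucc 0, Int.ofNat 1, Int.negSucc 0, Int.negSucc 0, Int.ofNat 1],
  [Int.ofNat 1, Int.negSucc 0, Int.ofNat 1, Int.ofNat 1, Int.ofNat 1, Int.ofNat 1, Int.ofNat 3, Int.negSucc 0, Int.ofNat 1, Int.negSucc 0, Int.ofNat 1, Int.ofNat 1, Int.ofNat 1, Int.negSucc 0, Int.ofNat 1, Int.negSucc 0, Int.ofNat 1, Int.ofNat 1, Int.ofNat 1, Int.ofNat 1, Int.ofNat 1, Int.ofNat 1, Int.negSucc 0, Int.negSucc 0],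
  [Int.ofNat 1, Int.negSucc 0, Int.negSucc 0, Int.ofNat 1, Int.ofNat 1, Int.negSucc 0, Int.negSucc 2, Int.negSucc 0, Int.ofNat 1, Int.ofNat 1, Int.negSucc 0, Int.ofNat 1, Int.ofNat 1, Int.negSucc 0, Int.ofNat 1, Int.ofNat 1, Int.ofNat 1, Int.ofNat 1, Int.negSucc 0, Int.ofNat 1, Int.ofNat 1, Int.ofNat 1, Int.ofNat 1, Int.negSucc 0],
  [Int.ofNat 1, Int.negSucc 0, Int.ofNat 1, Int.negSucc 2, Int.negSucc 0, Int.ofNat 1, Int.ofNat 1, Int.ofNat 1, Int.ofNat 1, Int.ofNat 1, Int.negSucc 0, Int.negSucc 0, Int.negSucc 0, Int.negSucc 0, Int.ofNat 1, Int.negSucc 0, Int.ofNat 1, Int.ofNat 1, Int.ofNat 1, Int.ofNat 1, Int.ofNat 1, Int.ofNat 1, Int.ofNat 1, Int.negSucc 0],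
  [Int.ofNat 1, Int.negSucc 0, Int.negSucc 0, Int.negSucc 2, Int.negSucc 0, Int.negSucc 0, Int.negSucc 0, Int.ofNat 1, Int.ofNat 1, Int.negSucc 0, Int.ofNat 1, Int.negSucc 0, Int.negSucc 0, Int.negSucc 0, Int.ofNat 1, Int.ofNat 1, Int.ofNat 1, Int.ofNat 1, Int.negSucc 0, Int.ofNat 1, Int.ofNat 1, Int.ofNat 1, Int.negSucc 0, Int.negSucc 0],
  [Int.negSucc 1, Int.ofNat 0, Int.ofNat 0, Int.negSucc 1, Int.ofNat 0, Int.ofNat 0, Int.negSucc 1, Int.ofNat 0, Int.ofNat 2, Int.negSucc 1, Int.ofNat 0, Int.ofNat 0, Int.ofNat 0, Int.ofNat 0, Int.ofNat 2, Int.ofNat 0, Int.ofNat 2, Int.ofNat 2, Int.ofNat 0, Int.ofNat 0, Int.ofNat 0, Int.ofNat 0, Int.ofNat 0, Int.ofNat 0],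
  [Int.negSucc 1, Int.ofNat 0, Int.negSucc 1, Int.negSucc 1, Int.ofNat 0, Int.ofNat 0, Int.ofNat 0, Int.ofNat 0, Int.ofNat 2, Int.ofNat 0, Int.ofNat 0, Int.ofNat 0, Int.ofNat 2, Int.negSucc 1, Int.ofNat 2, Int.ofNat 0, Int.ofNat 0, Int.ofNat 0, Int.ofNat 0, Int.ofNat 0, Int.ofNat 0, Int.ofNat 0, Int.ofNat 2, Int.ofNat 0],
  [Int.ofNat 0, Int.negSucc 1, Int.ofNat 0, Int.negSucc 1, Int.ofNat 0, Int.ofNat 0, Int.ofNat 0, Int.ofNat 0, Int.ofNat 0, Int.ofNat 0, Int.ofNat 0, Int.negSucc 1, Int.ofNat 0, Int.negSucc 1, Int.ofNat 2, Int.ofNat 0, Int.ofNat 0, Int.ofNat 0, Int.negSucc 1, Int.ofNat 0, Int.ofNat 0, Int.ofNat 0, Int.ofNat 2, Int.negSucc 1],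
  [Int.ofNat 0, Int.ofNat 0, Int.ofNat 2, Int.ofNat 0, Int.negSucc 1, Int.ofNat 0, Int.negSucc 1, Int.ofNat 0, Int.ofNat 0, Int.ofNat 0, Int.ofNat 0, Int.ofNat 0, Int.ofNat 0, Int.ofNat 0, Int.negSucc 1, Int.ofNat 0, Int.negSucc 1, Int.ofNat 2, Int.ofNat 0, Int.ofNat 0, Int.ofNat 0, Int.negSucc 1, Int.ofNat 0, Int.negSucc 1],
  [Int.ofNat 0, Int.ofNat 0, Int.negSucc 1, Int.ofNat 0, Int.ofNat 0, Int.ofNat 0, Int.ofNat 0, Int.ofNat 2, Int.ofNat 0, Int.ofNat 0, Int.ofNat 0, Int.ofNat 0, Int.ofNat 0, Int.ofNat 2, Int.negSucc 1, Int.ofNat 0, Int.ofNat 0, Int.ofNat 2, Int.ofNat 0, Int.ofNat 2, Int.ofNat 0, Int.ofNat 0, Int.ofNat 2, Int.ofNat 2],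
  [Int.ofNat 0, Int.negSucc 1, Int.ofNat 0, Int.ofNat 0, Int.ofNat 0, Int.ofNat 0, Int.ofNat 2, Int.ofNat 0, Int.ofNat 0, Int.ofNat 0, Int.ofNat 0, Int.ofNat 0, Int.ofNat 2, Int.negSucc 1, Int.ofNat 0, Int.ofNat 0, Int.ofNat 2, Int.ofNat 0, Int.ofNat 2, Int.ofNat 0, Int.ofNat 0, Int.ofNat 2, Int.ofNat 0, Int.ofNat 2],
  [Int.ofNat 0, Int.negSucc 1, Int.ofNat 0, Int.ofNat 0, Int.ofNat 0, Int.ofNat 0, Int.ofNat 2, Int.ofNat 0, Int.ofNat 0, Int.ofNat 0, Int.ofNat 0, Int.ofNat 0, Int.ofNat 2, Int.negSucc 1, Int.ofNat 0, Int.ofNat 0, Int.ofNat 2, Int.ofNat 0, Int.negSucc 1, Int.ofNat 0, Int.ofNat 0, Int.negSucc 1, Int.ofNat 0, Int.ofNat 2],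
  [Int.ofNat 0, Int.ofNat 0, Int.negSucc 1, Int.ofNat 0, Int.negSucc 1, Int.ofNat 0, Int.ofNat 0, Int.ofNat 0, Int.ofNat 0, Int.ofNat 2, Int.negSucc 1, Int.ofNat 0, Int.negSucc 1, Int.ofNat 0, Int.ofNat 0, Int.ofNat 0, Int.ofNat 2, Int.ofNat 0, Int.ofNat 2, Int.ofNat 0, Int.ofNat 0, Int.ofNat 0, Int.ofNat 0, Int.ofNat 2],
  [Int.ofNat 0, Int.ofNat 0, Int.ofNat 2, Int.ofNat 0, Int.negSucc 1, Int.ofNat 0, Int.ofNat 0, Int.ofNat 0, Int.ofNat 0, Int.negSucc 1, Int.ofNat 2, Int.ofNat 0, Int.negSucc 1, Int.ofNat 0, Int.ofNat 0, Int.ofNat 0, Int.ofNat 2, Int.ofNat 0, Int.negSucc 1, Int.ofNat 0, Int.ofNat 0, Int.ofNat 0, Int.ofNat 0, Int.ofNat 2],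
  [Int.ofNat 0, Int.ofNat 0, Int.ofNat 0, Int.ofNat 2, Int.ofNat 0, Int.negSucc 1, Int.ofNat 0, Int.ofNat 0, Int.ofNat 0, Int.ofNat 0, Int.negSucc 1, Int.ofNat 2, Int.ofNat 0, Int.negSucc 1, Int.ofNat 0, Int.ofNat 0, Int.ofNat 0, Int.ofNat 2, Int.ofNat 0, Int.negSucc 1, Int.ofNat 0, Int.ofNat 0, Int.ofNat 0, Int.ofNat 2],
  [Int.ofNat 1, Int.ofNat 1, Int.ofNat 1, Int.ofNat 1, Int.ofNat 1, Int.negSucc 2, Int.ofNat 1, Int.ofNat 1, Int.negSucc 0, Int.ofNat 1, Int.negSucc 0, Int.ofNat 1, Int.negSucc 0, Int.negSucc 0, Int.negSucc 0, Int.ofNat 1, Int.ofNat 1, Int.ofNat 1, Int.negSucc 0, Int.negSucc 0, Int.ofNat 1, Int.ofNat 1, Int.ofNat 1, Int.negSucc 0],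
  [Int.ofNat 1, Int.ofNat 1, Int.negSucc 2, Int.ofNat 1, Int.ofNat 1, Int.negSucc 0, Int.ofNat 1, Int.negSucc 0, Int.ofNat 1, Int.negSucc 0, Int.negSucc 0, Int.negSucc 0, Int.ofNat 1, Int.ofNat 1, Int.ofNat 1, Int.negSucc 0, Int.negSucc 0, Int.ofNat 1, Int.ofNat 1, Int.ofNat 1, Int.ofNat 1, Int.ofNat 1, Int.ofNat 1, Int.negSucc 0],
  [Int.negSucc 1, Int.negSucc 1, Int.ofNat 2, Int.ofNat 0, Int.ofNat 0, Int.negSucc 1, Int.ofNat 0, Int.negSucc 1, Int.ofNat 0, Int.ofNat 0, Int.ofNat 0, Int.negSucc 1, Int.ofNat 0, Int.ofNat 0, Int.ofNat 0, Int.ofNat 0, Int.negSucc 1, Int.ofNat 0, Int.ofNat 0, Int.ofNat 0, Int.ofNat 2, Int.ofNat 0, Int.ofNat 0, Int.ofNat 0],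
  [Int.negSucc 1, Int.ofNat 0, Int.ofNat 0, Int.ofNat 0, Int.ofNat 0, Int.negSucc 1, Int.ofNat 2, Int.ofNat 0, Int.ofNat 0, Int.ofNat 0, Int.ofNat 2, Int.ofNat 0, Int.ofNat 0, Int.negSucc 1, Int.ofNat 0, Int.ofNat 0, Int.ofNat 0, Int.ofNat 0, Int.negSucc 1, Int.negSucc 1, Int.ofNat 0, Int.negSucc 1, Int.ofNat 0, Int.ofNat 0],
  [Int.ofNat 1, Int.negSucc 0, Int.negSucc 0, Int.ofNat 1, Int.ofNat 1, Int.negSucc 0, Int.ofNat 3, Int.ofNat 1, Int.ofNat 1, Int.negSucc 0, Int.ofNat 1, Int.ofNat 1, Int.ofNat 1, Int.negSucc 0, Int.ofNat 1, Int.negSucc 0, Int.ofNat 1, Int.ofNat 1, Int.negSucc 0, Int.negSucc 0, Int.negSucc 0, Int.negSucc 0, Int.ofNat 1, Int.negSucc 0],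
  [Int.ofNat 1, Int.negSucc 0, Int.ofNat 1, Int.ofNat 1, Int.ofNat 1, Int.ofNat 1, Int.negSucc 2, Int.ofNat 1, Int.ofNat 1, Int.ofNat 1, Int.negSucc 0, Int.ofNat 1, Int.ofNat 1, Int.negSucc 0, Int.ofNat 1, Int.ofNat 1, Int.ofNat 1, Int.ofNat 1, Int.ofNat 1, Int.negSucc 0, Int.negSucc 0, Int.negSucc 0, Int.negSucc 0, Int.negSucc 0],
  [Int.negSucc 0, Int.ofNat 1, Int.ofNat 1, Int.ofNat 1, Int.ofNat 1, Int.negSucc 2, Int.negSucc 0, Int.ofNat 1, Int.ofNat 1, Int.negSucc 0, Int.negSucc 0, Int.ofNat 1, Int.ofNat 1, Int.ofNat 1, Int.ofNat 1, Int.ofNat 1, Int.negSucc 0, Int.ofNat 1, Int.ofNat 1, Int.ofNat 1, Int.ofNat 1, Int.negSucc 0, Int.negSucc 0, Int.negSucc 0],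
  [Int.ofNat 1, Int.negSucc 0, Int.negSucc 0, Int.negSucc 0, Int.negSucc 0, Int.negSucc 2, Int.ofNat 1, Int.ofNat 1, Int.negSucc 0, Int.ofNat 1, Int.negSucc 0, Int.ofNat 1, Int.negSucc 0, Int.negSucc 0, Int.ofNat 1, Int.ofNat 1, Int.ofNat 1, Int.ofNat 1, Int.negSucc 0, Int.ofNat 1, Int.ofNat 1, Int.negSucc 0, Int.negSucc 0, Int.negSucc 0],
  [Int.negSucc 0, Int.negSucc 0, Int.ofNat 1, Int.ofNat 1, Int.ofNat 1, Int.ofNat 1, Int.ofNat 1, Int.negSucc 0, Int.ofNat 1, Int.negSucc 2, Int.ofNat 1, Int.negSucc 0, Int.negSucc 0, Int.ofNat 1, Int.negSucc 0, Int.negSucc 0, Int.negSucc 0, Int.negSucc 0, Int.ofNat 1, Int.ofNat 1, Int.negSucc 0, Int.negSucc 0, Int.negSucc 0, Int.ofNat 1],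
  [Int.ofNat 1, Int.negSucc 0, Int.negSucc 0, Int.ofNat 1, Int.ofNat 1, Int.ofNat 1, Int.ofNat 1, Int.ofNat 1, Int.ofNat 1, Int.ofNat 3, Int.negSucc 0, Int.ofNat 1, Int.negSucc 0, Int.ofNat 1, Int.negSucc 0, Int.negSucc 0, Int.negSucc 0, Int.negSucc 0, Int.negSucc 0, Int.ofNat 1, Int.negSucc 0, Int.ofNat 1, Int.negSucc 0, Int.ofNat 1],
  [Int.negSucc 0, Int.ofNat 1, Int.negSucc 0, Int.negSucc 0, Int.ofNat 1, Int.ofNat 1, Int.ofNat 1, Int.ofNat 1, Int.ofNat 1, Int.ofNat 1, Int.ofNat 3, Int.negSucc 0, Int.ofNat 1, Int.negSucc 0, Int.ofNat 1, Int.negSucc 0, Int.negSucc 0, Int.negSucc 0, Int.negSucc 0, Int.negSucc 0, Int.ofNat 1, Int.negSucc 0, Int.ofNat 1, Int.ofNat 1],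
  [Int.ofNat 1, Int.negSucc 0, Int.ofNat 1, Int.negSucc 0, Int.ofNat 1, Int.ofNat 1, Int.ofNat 1, Int.ofNat 1, Int.ofNat 1, Int.negSucc 0, Int.ofNat 1, Int.negSucc 0, Int.ofNat 1, Int.negSucc 0, Int.ofNat 1, Int.negSucc 2, Int.negSucc 0, Int.negSucc 0, Int.negSucc 0, Int.negSucc 0, Int.negSucc 0, Int.negSucc 0, Int.ofNat 1, Int.negSucc 0],
  [Int.negSucc 0, Int.ofNat 1, Int.ofNat 1, Int.ofNat 1, Int.ofNat 1, Int.ofNat 1, Int.negSucc 0, Int.ofNat 1, Int.negSucc 0, Int.ofNat 1, Int.negSucc 0, Int.ofNat 1, Int.negSucc 2, Int.negSucc 0, Int.negSucc 0, Int.negSucc 0, Int.negSucc 0, Int.negSucc 0, Int.negSucc 0, Int.ofNat 1, Int.ofNat 1, Int.negSucc 0, Int.ofNat 1, Int.negSucc 0],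
  [Int.ofNat 1, Int.negSucc 0, Int.negSucc 0, Int.ofNat 1, Int.ofNat 1, Int.ofNat 1, Int.negSucc 0, Int.ofNat 1, Int.ofNat 1, Int.ofNat 1, Int.negSucc 0, Int.ofNat 3, Int.negSucc 0, Int.negSucc 0, Int.negSucc 0, Int.negSucc 0, Int.negSucc 0, Int.negSucc 0, Int.ofNat 1, Int.ofNat 1, Int.ofNat 1, Int.negSucc 0, Int.ofNat 1, Int.ofNat 1],
  [Int.ofNat 1, Int.negSucc 0, Int.ofNat 1, Int.ofNat 1, Int.ofNat 1, Int.ofNat 1, Int.negSucc 0, Int.negSucc 0, Int.negSucc 0, Int.negSucc 0, Int.ofNat 1, Int.negSucc 0, Int.ofNat 1, Int.negSucc 0, Int.ofNat 1, Int.negSucc 0, Int.ofNat 1, Int.negSucc 0, Int.negSucc 0, Int.ofNat 3, Int.negSucc 0, Int.ofNat 1, Int.ofNat 1, Int.ofNat 1],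
  [Int.ofNat 0, Int.ofNat 2, Int.ofNat 0, Int.ofNat 0, Int.ofNat 0, Int.ofNat 0, Int.negSucc 1, Int.negSucc 1, Int.ofNat 0, Int.ofNat 0, Int.ofNat 2, Int.ofNat 0, Int.ofNat 2, Int.negSucc 1, Int.ofNat 0, Int.ofNat 0, Int.ofNat 0, Int.negSucc 1, Int.ofNat 0, Int.ofNat 2, Int.ofNat 0, Int.ofNat 0, Int.ofNat 0, Int.ofNat 0],
  [Int.ofNat 0, Int.ofNat 2, Int.ofNat 0, Int.ofNat 0, Int.ofNat 0, Int.ofNat 0, Int.ofNat 2, Int.negSucc 1, Int.ofNat 0, Int.ofNat 0, Int.negSucc 1, Int.ofNat 0, Int.ofNat 2, Int.negSucc 1, Int.ofNat 0, Int.ofNat 0, Int.ofNat 0, Int.negSucc 1, Int.ofNat 0, Int.ofNat 2, Int.ofNat 0, Int.ofNat 0, Int.ofNat 0, Int.ofNat 0],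
  [Int.ofNat 0, Int.ofNat 0, Int.ofNat 2, Int.ofNat 2, Int.negSucc 1, Int.ofNat 0, Int.ofNat 0, Int.ofNat 0, Int.ofNat 0, Int.ofNat 2, Int.ofNat 2, Int.negSucc 1, Int.ofNat 0, Int.ofNat 0, Int.ofNat 0, Int.negSucc 1, Int.ofNat 0, Int.ofNat 0, Int.ofNat 0, Int.negSucc 1, Int.ofNat 0, Int.ofNat 0, Int.ofNat 0, Int.ofNat 0],
  [Int.ofNat 0, Int.ofNat 0, Int.negSucc 1, Int.ofNat 2, Int.negSucc 1, Int.ofNat 0, Int.ofNat 0, Int.ofNat 0, Int.ofNat 0, Int.negSucc 1, Int.negSucc 1, Int.negSucc 1, Int.ofNat 0, Int.ofNat 0, Int.ofNat 0, Int.ofNat 2, Int.ofNat 0, Int.ofNat 0, Int.ofNat 0, Int.negSucc 1, Int.ofNat 0, Int.ofNat 0, Int.ofNat 0, Int.ofNat 0],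
  [Int.negSucc 0, Int.negSucc 0, Int.ofNat 1, Int.ofNat 1, Int.negSucc 0, Int.negSucc 0, Int.ofNat 1, Int.ofNat 1, Int.ofNat 1, Int.negSucc 0, Int.negSucc 0, Int.negSucc 0, Int.ofNat 1, Int.ofNat 1, Int.negSucc 0, Int.ofNat 3, Int.ofNat 1, Int.negSucc 0, Int.ofNat 1, Int.negSucc 0, Int.ofNat 1, Int.ofNat 1, Int.ofNat 1, Int.negSucc 0],
  [Int.negSucc 0, Int.ofNat 1, Int.ofNat 1, Int.ofNat 1, Int.ofNat 1, Int.ofNat 1, Int.negSucc 0, Int.negSucc 0, Int.ofNat 1, Int.ofNat 1, Int.ofNat 1, Int.negSucc 0, Int.ofNat 1, Int.negSucc 0, Int.negSucc 0, Int.ofNat 3, Int.ofNat 1, Int.negSucc 0, Int.negSucc 0, Int.ofNat 1, Int.negSucc 0, Int.ofNat 1, Int.negSucc 0, Int.negSucc 0],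
  [Int.ofNat 1, Int.negSucc 0, Int.negSucc 0, Int.ofNat 1, Int.ofNat 1, Int.ofNat 1, Int.negSucc 0, Int.negSucc 0, Int.ofNat 1, Int.negSucc 0, Int.negSucc 0, Int.negSucc 0, Int.ofNat 1, Int.negSucc 0, Int.negSucc 0, Int.ofNat 1, Int.ofNat 1, Int.negSucc 0, Int.negSucc 0, Int.ofNat 1, Int.negSucc 2, Int.ofNat 1, Int.negSucc 0, Int.ofNat 1],
  [Int.negSucc 2, Int.ofNat 1, Int.negSucc 0, Int.ofNat 1, Int.negSucc 0, Int.negSucc 0, Int.ofNat 1, Int.ofNat 1, Int.ofNat 1, Int.negSucc 0, Int.negSucc 0, Int.ofNat 1, Int.negSucc 0, Int.negSucc 0, Int.negSucc 0, Int.ofNat 1, Int.negSucc 0, Int.negSucc 0, Int.ofNat 1, Int.ofNat 1, Int.negSucc 0, Int.negSucc 0, Int.ofNat 1, Int.ofNat 1],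
  [Int.ofNat 2, Int.negSucc 1, Int.ofNat 0, Int.ofNat 2, Int.ofNat 0, Int.ofNat 0, Int.ofNat 0, Int.ofNat 0, Int.ofNat 0, Int.ofNat 0, Int.ofNat 0, Int.ofNat 0, Int.negSucc 1, Int.ofNat 0, Int.ofNat 0, Int.ofNat 2, Int.ofNat 0, Int.ofNat 0, Int.ofNat 0, Int.ofNat 0, Int.ofNat 0, Int.negSucc 1, Int.ofNat 2, Int.negSucc 1],
  [Int.negSucc 1, Int.ofNat 0, Int.ofNat 2, Int.ofNat 0, Int.ofNat 0, Int.ofNat 0, Int.ofNat 0, Int.ofNat 0, Int.ofNat 0, Int.ofNat 0, Int.ofNat 0, Int.negSucc 1, Int.ofNat 0, Int.ofNat 0, Int.ofNat 2, Int.ofNat 0, Int.ofNat 0, Int.ofNat 0, Int.ofNat 0, Int.ofNat 0, Int.negSucc 1, Int.ofNat 2, Int.ofNat 2, Int.negSucc 1],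
  [Int.ofNat 2, Int.ofNat 0, Int.negSucc 1, Int.ofNat 0, Int.ofNat 0, Int.ofNat 0, Int.ofNat 0, Int.ofNat 0, Int.ofNat 0, Int.ofNat 0, Int.ofNat 0, Int.ofNat 2, Int.ofNat 0, Int.ofNat 0, Int.ofNat 2, Int.ofNat 0, Int.ofNat 0, Int.ofNat 0, Int.ofNat 0, Int.ofNat 0, Int.negSucc 1, Int.negSucc 1, Int.ofNat 2, Int.negSucc 1]]

set_option maxRecDepth 100000 in
theorem c1et4_chk : pmChk (List.replicate 14 [4, 0, 25, 26]).flatten nxL c1et4M 0 0 = true := by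
  decide +kernel

theorem c1et4_ne : wE letE2 (List.replicate 14 [4, 0, 25, 26]).flatten ≠ 1 ∧ wE letE2 (List.replicate 14 [4, 0, 25, 26]).flatten ≠ negElt :=
  ne_pm_of_chk nxL_mem c1et4_chk

set_option maxRecDepth 100000 in
def c1et5M : List (List ℤ) :=
  [[Int.negSucc 3, Int.ofNat 0, Int.ofNat 0, Int.ofNat 0, Int.ofNat 0, Int.ofNat 0, Int.ofNat 0, Int.ofNat 0, Int.ofNat 0, Int.ofNat 0, Int.ofNat 0, Int.ofNat 0, Int.ofNat 0, Int.ofNat 0, Int.ofNat 0, Int.ofNat 0, Int.ofNat 0, Int.ofNat 0, Int.ofNat 0, Int.ofNat 0, Int.ofNat 0, Int.ofNat 0, Int.ofNat 0, Int.ofNat 4],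
  [Int.ofNat 4, Int.ofNat 0, Int.ofNat 0, Int.ofNat 0, Int.ofNat 0, Int.ofNat 0, Int.ofNat 0, Int.ofNat 0, Int.ofNat 0, Int.ofNat 0, Int.ofNat 0, Int.ofNat 0, Int.ofNat 0, Int.ofNat 0, Int.ofNat 0, Int.ofNat 0, Int.ofNat 0, Int.ofNat 0, Int.ofNat 0, Int.ofNat 0, Int.ofNat 0, Int.ofNat 0, Int.ofNat 0, Int.ofNat 4],
  [Int.ofNat 0, Int.ofNat 4, Int.ofNat 0, Int.ofNat 0, Int.ofNat 0, Int.ofNat 0, Int.ofNat 0, Int.ofNat 0, Int.ofNat 0, Int.ofNat 0, Int.ofNat 0, Int.ofNat 0, Int.ofNat 0, Int.ofNat 0, Int.ofNat 0, Int.ofNat 0, Int.ofNat 0, Int.ofNat 0, Int.ofNat 0, Int.ofNat 0, Int.ofNat 0, Int.ofNat 0, Int.ofNat 0, Int.ofNat 4],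
  [Int.ofNat 4, Int.ofNat 0, Int.ofNat 4, Int.ofNat 0, Int.ofNat 0, Int.ofNat 0, Int.ofNat 0, Int.ofNat 0, Int.ofNat 0, Int.ofNat 0, Int.ofNat 0, Int.ofNat 0, Int.ofNat 0, Int.ofNat 0, Int.ofNat 0, Int.ofNat 0, Int.ofNat 0, Int.ofNat 0, Int.ofNat 0, Int.ofNat 0, Int.ofNat 0, Int.ofNat 0, Int.ofNat 0, Int.ofNat 0],
  [Int.ofNat 0, Int.ofNat 0, Int.ofNat 0, Int.ofNat 0, Int.ofNat 0, Int.ofNat 0, Int.ofNat 0, Int.ofNat 0, Int.ofNat 0, Int.ofNat 0, Int.ofNat 0, Int.ofNat 0, Int.ofNat 0, Int.ofNat 0, Int.ofNat 0, Int.ofNat 0, Int.ofNat 0, Int.ofNat 0, Int.ofNat 0, Int.ofNat 0, Int.ofNat 4, Int.ofNat 0, Int.ofNat 4, Int.ofNat 0],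
  [Int.ofNat 0, Int.ofNat 0, Int.ofNat 0, Int.ofNat 0, Int.negSucc 1, Int.ofNat 0, Int.ofNat 0, Int.ofNat 0, Int.ofNat 0, Int.negSucc 1, Int.negSucc 1, Int.ofNat 0, Int.ofNat 0, Int.negSucc 1, Int.ofNat 0, Int.negSucc 1, Int.negSucc 1, Int.ofNat 0, Int.ofNat 0, Int.ofNat 0, Int.ofNat 2, Int.ofNat 0, Int.ofNat 2, Int.ofNat 0],
  [Int.ofNat 0, Int.ofNat 0, Int.negSucc 1, Int.ofNat 0, Int.ofNat 0, Int.ofNat 0, Int.ofNat 0, Int.negSucc 1, Int.ofNat 0, Int.negSucc 1, Int.ofNat 2, Int.ofNat 0, Int.negSucc 1, Int.negSucc 1, Int.ofNat 2, Int.negSucc 1, Int.ofNat 0, Int.ofNat 0, Int.ofNat 0, Int.ofNat 0, Int.ofNat 0, Int.ofNat 0, Int.ofNat 0, Int.ofNat 0],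
  [Int.negSucc 0, Int.negSucc 0, Int.ofNat 1, Int.negSucc 0, Int.ofNat 1, Int.negSucc 0, Int.ofNat 1, Int.negSucc 0, Int.ofNat 1, Int.negSucc 0, Int.ofNat 3, Int.ofNat 1, Int.negSucc 0, Int.negSucc 0, Int.ofNat 1, Int.negSucc 0, Int.ofNat 1, Int.negSucc 0, Int.ofNat 1, Int.ofNat 1, Int.ofNat 1, Int.ofNat 1, Int.ofNat 1, Int.negSucc 0],
  [Int.negSucc 0, Int.negSucc 0, Int.negSucc 0, Int.negSucc 0, Int.ofNat 1, Int.ofNat 1, Int.negSucc 0, Int.negSucc 0, Int.ofNat 1, Int.ofNat 1, Int.negSucc 2, Int.ofNat 1, Int.negSucc 0, Int.negSucc 0, Int.ofNat 1, Int.ofNat 1, Int.ofNat 1, Int.negSucc 0, Int.negSucc 0, Int.ofNat 1, Int.ofNat 1, Int.ofNat 1, Int.negSucc 0, Int.negSucc 0],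
  [Int.negSucc 2, Int.ofNat 1, Int.ofNat 1, Int.ofNat 1, Int.ofNat 1, Int.negSucc 0, Int.ofNat 1, Int.negSucc 0, Int.ofNat 1, Int.ofNat 1, Int.negSucc 0, Int.negSucc 0, Int.ofNat 1, Int.ofNat 1, Int.negSucc 0, Int.negSucc 0, Int.ofNat 1, Int.negSucc 0, Int.ofNat 1, Int.negSucc 0, Int.negSucc 0, Int.negSucc 0, Int.negSucc 0, Int.negSucc 0],
  [Int.ofNat 3, Int.negSucc 0, Int.negSucc 0, Int.negSucc 0, Int.negSucc 0, Int.negSucc 0, Int.negSucc 0, Int.negSucc 0, Int.negSucc 0, Int.negSucc 0, Int.negSucc 0, Int.negSucc 0, Int.negSucc 0, Int.negSucc 0, Int.negSucc 0, Int.negSucc 0, Int.negSucc 0, Int.negSucc 0, Int.negSucc 0, Int.negSucc 0, Int.negSucc 0, Int.negSucc 0, Int.negSucc 0, Int.negSucc 0],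
  [Int.negSucc 0, Int.negSucc 0, Int.negSucc 0, Int.negSucc 0, Int.negSucc 0, Int.negSucc 0, Int.negSucc 0, Int.negSucc 0, Int.negSucc 0, Int.negSucc 0, Int.negSucc 0, Int.negSucc 0, Int.negSucc 0, Int.negSucc 0, Int.negSucc 0, Int.negSucc 0, Int.negSucc 0, Int.negSucc 0, Int.negSucc 0, Int.negSucc 0, Int.negSucc 0, Int.negSucc 0, Int.negSucc 0, Int.ofNat 3],
  [Int.ofNat 1, Int.negSucc 0, Int.ofNat 1, Int.negSucc 0, Int.negSucc 0, Int.negSucc 0, Int.negSucc 0, Int.ofNat 1, Int.negSucc 0, Int.ofNat 1, Int.ofNat 1, Int.ofNat 1, Int.negSucc 0, Int.negSucc 0, Int.negSucc 0, Int.negSucc 0, Int.negSucc 0, Int.negSucc 0, Int.ofNat 1, Int.negSucc 0, Int.negSucc 0, Int.ofNat 1, Int.negSucc 0, Int.ofNat 3],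
  [Int.negSucc 0, Int.ofNat 1, Int.negSucc 0, Int.ofNat 1, Int.negSucc 0, Int.negSucc 0, Int.negSucc 0, Int.negSucc 0, Int.ofNat 1, Int.negSucc 0, Int.ofNat 1, Int.ofNat 1, Int.ofNat 1, Int.negSucc 0, Int.negSucc 0, Int.negSucc 0, Int.negSucc 0, Int.negSucc 0, Int.negSucc 0, Int.ofNat 1, Int.negSucc 0, Int.negSucc 0, Int.ofNat 1, Int.ofNat 3],
  [Int.ofNat 2, Int.ofNat 0, Int.ofNat 2, Int.ofNat 2, Int.ofNat 0, Int.ofNat 0, Int.ofNat 0, Int.ofNat 0, Int.ofNat 0, Int.ofNat 0, Int.ofNat 2, Int.ofNat 0, Int.ofNat 0, Int.ofNat 0, Int.ofNat 0, Int.ofNat 0, Int.ofNat 0, Int.ofNat 0, Int.negSucc 1, Int.ofNat 2, Int.ofNat 0, Int.ofNat 0, Int.ofNat 2, Int.negSucc 1],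
  [Int.ofNat 2, Int.ofNat 0, Int.ofNat 0, Int.ofNat 0, Int.ofNat 0, Int.ofNat 0, Int.ofNat 0, Int.ofNat 2, Int.ofNat 0, Int.ofNat 0, Int.ofNat 0, Int.ofNat 0, Int.ofNat 0, Int.ofNat 0, Int.ofNat 0, Int.negSucc 1, Int.ofNat 2, Int.ofNat 0, Int.ofNat 0, Int.ofNat 2, Int.ofNat 2, Int.ofNat 0, Int.ofNat 2, Int.negSucc 1],
  [Int.negSucc 1, Int.ofNat 0, Int.ofNat 0, Int.ofNat 0, Int.negSucc 1, Int.ofNat 0, Int.negSucc 1, Int.ofNat 0, Int.ofNat 0, Int.ofNat 0, Int.ofNat 0, Int.ofNat 0, Int.ofNat 0, Int.negSucc 1, Int.ofNat 0, Int.negSucc 1, Int.ofNat 0, Int.ofNat 0, Int.ofNat 0, Int.ofNat 0, Int.ofNat 2, Int.negSucc 1, Int.ofNat 0, Int.ofNat 2],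
  [Int.negSucc 1, Int.negSucc 1, Int.negSucc 1, Int.ofNat 0, Int.ofNat 0, Int.ofNat 0, Int.ofNat 0, Int.ofNat 0, Int.ofNat 0, Int.negSucc 1, Int.ofNat 2, Int.ofNat 0, Int.ofNat 0, Int.ofNat 0, Int.ofNat 0, Int.negSucc 1, Int.ofNat 0, Int.ofNat 0, Int.ofNat 0, Int.ofNat 0, Int.negSucc 1, Int.ofNat 0, Int.ofNat 0, Int.ofNat 2],
  [Int.ofNat 0, Int.ofNat 0, Int.ofNat 0, Int.ofNat 0, Int.ofNat 0, Int.ofNat 0, Int.ofNat 0, Int.ofNat 0, Int.ofNat 0, Int.ofNat 0, Int.ofNat 4, Int.ofNat 0, Int.ofNat 0, Int.ofNat 0, Int.ofNat 0, Int.ofNat 0, Int.ofNat 0, Int.ofNat 0, Int.ofNat 0, Int.ofNat 0, Int.ofNat 0, Int.ofNat 0, Int.ofNat 0, Int.negSucc 3],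
  [Int.ofNat 0, Int.ofNat 0, Int.ofNat 0, Int.ofNat 0, Int.ofNat 0, Int.ofNat 0, Int.ofNat 0, Int.ofNat 0, Int.ofNat 0, Int.ofNat 0, Int.negSucc 3, Int.ofNat 0, Int.ofNat 0, Int.ofNat 0, Int.ofNat 0, Int.ofNat 0, Int.ofNat 0, Int.ofNat 0, Int.ofNat 0, Int.ofNat 0, Int.ofNat 0, Int.ofNat 0, Int.ofNat 0, Int.negSucc 3],
  [Int.ofNat 0, Int.ofNat 0, Int.ofNat 0, Int.ofNat 0, Int.ofNat 0, Int.ofNat 0, Int.ofNat 0, Int.ofNat 0, Int.ofNat 0, Int.ofNat 0, Int.ofNat 0, Int.ofNat 0, Int.ofNat 0, Int.ofNat 0, Int.ofNat 0, Int.ofNat 0, Int.ofNat 0, Int.negSucc 3, Int.ofNat 0, Int.ofNat 0, Int.ofNat 0, Int.ofNat 0, Int.ofNat 0, Int.negSucc 3],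
  [Int.ofNat 0, Int.ofNat 0, Int.ofNat 0, Int.ofNat 0, Int.ofNat 0, Int.ofNat 0, Int.ofNat 0, Int.ofNat 0, Int.ofNat 0, Int.ofNat 0, Int.ofNat 0, Int.ofNat 0, Int.ofNat 0, Int.ofNat 0, Int.ofNat 0, Int.ofNat 0, Int.ofNat 0, Int.negSucc 3, Int.ofNat 0, Int.ofNat 0, Int.ofNat 0, Int.ofNat 0, Int.ofNat 0, Int.negSucc 3],
  [Int.negSucc 1, Int.negSucc 1, Int.negSucc 1, Int.ofNat 2, Int.ofNat 0, Int.ofNat 2, Int.ofNat 0, Int.ofNat 0, Int.ofNat 0, Int.ofNat 0, Int.ofNat 0, Int.ofNat 0, Int.ofNat 0, Int.ofNat 0, Int.ofNat 2, Int.ofNat 0, Int.ofNat 0, Int.negSucc 1, Int.ofNat 0, Int.ofNat 0, Int.ofNat 0, Int.ofNat 0, Int.ofNat 0, Int.ofNat 2],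
  [Int.negSucc 1, Int.ofNat 0, Int.ofNat 0, Int.ofNat 2, Int.negSucc 1, Int.ofNat 0, Int.negSucc 1, Int.ofNat 2, Int.ofNat 0, Int.ofNat 0, Int.ofNat 0, Int.ofNat 0, Int.ofNat 0, Int.ofNat 0, Int.negSucc 1, Int.ofNat 0, Int.ofNat 0, Int.ofNat 0, Int.ofNat 0, Int.ofNat 0, Int.ofNat 0, Int.ofNat 0, Int.ofNat 2, Int.ofNat 2],
  [Int.ofNat 2, Int.ofNat 0, Int.ofNat 0, Int.ofNat 2, Int.negSucc 1, Int.ofNat 0, Int.negSucc 1, Int.ofNat 2, Int.ofNat 0, Int.ofNat 0, Int.ofNat 0, Int.ofNat 0, Int.ofNat 0, Int.ofNat 0, Int.negSucc 1, Int.ofNat 0, Int.ofNat 0, Int.ofNat 0, Int.ofNat 0, Int.ofNat 0, Int.ofNat 0, Int.ofNat 0, Int.ofNat 2, Int.negSucc 1],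
  [Int.ofNat 0, Int.ofNat 0, Int.ofNat 2, Int.ofNat 2, Int.ofNat 0, Int.ofNat 0, Int.ofNat 2, Int.negSucc 1, Int.ofNat 0, Int.negSucc 1, Int.ofNat 2, Int.ofNat 0, Int.ofNat 0, Int.ofNat 0, Int.ofNat 0, Int.ofNat 0, Int.ofNat 0, Int.negSucc 1, Int.ofNat 0, Int.ofNat 0, Int.ofNat 0, Int.ofNat 0, Int.ofNat 0, Int.negSucc 1],
  [Int.ofNat 0, Int.ofNat 0, Int.negSucc 1, Int.ofNat 2, Int.ofNat 0, Int.ofNat 0, Int.ofNat 2, Int.negSucc 1, Int.ofNat 0, Int.negSucc 1, Int.ofNat 2, Int.ofNat 0, Int.ofNat 0, Int.ofNat 0, Int.ofNat 0, Int.ofNat 0, Int.ofNat 0, Int.negSucc 1, Int.ofNat 0, Int.ofNat 0, Int.ofNat 0, Int.ofNat 0, Int.ofNat 0, Int.ofNat 2],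
  [Int.ofNat 0, Int.negSucc 1, Int.ofNat 2, Int.ofNat 0, Int.ofNat 0, Int.ofNat 2, Int.negSucc 1, Int.ofNat 0, Int.negSucc 1, Int.ofNat 2, Int.ofNat 0, Int.ofNat 0, Int.ofNat 0, Int.ofNat 0, Int.ofNat 0, Int.ofNat 0, Int.negSucc 1, Int.ofNat 0, Int.ofNat 0, Int.ofNat 0, Int.ofNat 0, Int.ofNat 0, Int.ofNat 0, Int.ofNat 2],
  [Int.ofNat 0, Int.negSucc 1, Int.negSucc 1, Int.ofNat 0, Int.ofNat 0, Int.ofNat 2, Int.negSucc 1, Int.ofNat 0, Int.negSucc 1, Int.negSucc 1, Int.ofNat 0, Int.ofNat 0, Int.ofNat 0, Int.ofNat 0, Int.ofNat 0, Int.ofNat 0, Int.negSucc 1, Int.ofNat 0, Int.ofNat 0, Int.ofNat 0, Int.ofNat 0, Int.ofNat 0, Int.ofNat 0, Int.ofNat 2],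
  [Int.ofNat 0, Int.negSucc 1, Int.ofNat 0, Int.ofNat 0, Int.negSucc 1, Int.ofNat 0, Int.ofNat 0, Int.ofNat 0, Int.negSucc 1, Int.negSucc 1, Int.ofNat 0, Int.ofNat 0, Int.ofNat 0, Int.negSucc 1, Int.ofNat 0, Int.ofNat 0, Int.ofNat 0, Int.ofNat 0, Int.negSucc 1, Int.ofNat 0, Int.ofNat 2, Int.ofNat 0, Int.ofNat 0, Int.ofNat 2],
  [Int.ofNat 0, Int.negSucc 1, Int.ofNat 0, Int.ofNat 0, Int.negSucc 1, Int.ofNat 0, Int.ofNat 0, Int.ofNat 0, Int.negSucc 1, Int.ofNat 2, Int.ofNat 0, Int.ofNat 0, Int.ofNat 0, Int.negSucc 1, Int.ofNat 0, Int.ofNat 0, Int.ofNat 0, Int.ofNat 0, Int.ofNat 2, Int.ofNat 0, Int.ofNat 2, Int.ofNat 0, Int.ofNat 0, Int.ofNat 2],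
  [Int.ofNat 0, Int.ofNat 0, Int.negSucc 1, Int.ofNat 0, Int.ofNat 0, Int.negSucc 1, Int.ofNat 0, Int.ofNat 0, Int.ofNat 0, Int.negSucc 1, Int.ofNat 2, Int.ofNat 0, Int.ofNat 0, Int.ofNat 0, Int.negSucc 1, Int.ofNat 0, Int.ofNat 0, Int.ofNat 0, Int.ofNat 0, Int.ofNat 2, Int.ofNat 0, Int.ofNat 2, Int.ofNat 0, Int.ofNat 2],
  [Int.ofNat 0, Int.ofNat 0, Int.ofNat 2, Int.ofNat 2, Int.ofNat 0, Int.ofNat 0, Int.negSucc 1, Int.negSucc 1, Int.ofNat 0, Int.negSucc 1, Int.ofNat 2, Int.ofNat 0, Int.ofNat 0, Int.ofNat 0, Int.ofNat 0, Int.ofNat 0, Int.ofNat 0, Int.ofNat 2, Int.ofNat 0, Int.ofNat 0, Int.ofNat 0, Int.ofNat 0, Int.ofNat 0, Int.negSucc 1],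
  [Int.ofNat 2, Int.ofNat 0, Int.ofNat 0, Int.negSucc 1, Int.negSucc 1, Int.ofNat 0, Int.negSucc 1, Int.ofNat 2, Int.ofNat 0, Int.ofNat 0, Int.ofNat 0, Int.ofNat 0, Int.ofNat 0, Int.ofNat 0, Int.ofNat 2, Int.ofNat 0, Int.ofNat 0, Int.ofNat 0, Int.ofNat 0, Int.ofNat 0, Int.ofNat 0, Int.ofNat 0, Int.ofNat 2, Int.negSucc 1],
  [Int.negSucc 1, Int.ofNat 0, Int.ofNat 0, Int.negSucc 1, Int.negSucc 1, Int.ofNat 0, Int.negSucc 1, Int.ofNat 2, Int.ofNat 0, Int.ofNat 0, Int.ofNat 0, Int.ofNat 0, Int.ofNat 0, Int.ofNat 0, Int.ofNat 2, Int.ofNat 0, Int.ofNat 0, Int.ofNat 0, Int.ofNat 0, Int.ofNat 0, Int.ofNat 0, Int.ofNat 0, Int.ofNat 2, Int.ofNat 2],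
  [Int.negSucc 1, Int.negSucc 1, Int.negSucc 1, Int.negSucc 1, Int.ofNat 0, Int.ofNat 2, Int.ofNat 0, Int.ofNat 0, Int.ofNat 0, Int.ofNat 0, Int.ofNat 0, Int.ofNat 0, Int.ofNat 0, Int.ofNat 0, Int.ofNat 2, Int.ofNat 0, Int.ofNat 0, Int.ofNat 2, Int.ofNat 0, Int.ofNat 0, Int.ofNat 0, Int.ofNat 0, Int.ofNat 0, Int.ofNat 2],
  [Int.ofNat 0, Int.ofNat 0, Int.ofNat 0, Int.negSucc 3, Int.ofNat 0, Int.ofNat 0, Int.ofNat 0, Int.ofNat 0, Int.ofNat 0, Int.ofNat 0, Int.ofNat 0, Int.ofNat 0, Int.ofNat 0, Int.ofNat 0, Int.ofNat 0, Int.ofNat 0, Int.ofNat 0, Int.ofNat 0, Int.ofNat 0, Int.ofNat 0, Int.ofNat 0, Int.ofNat 0, Int.ofNat 0, Int.negSucc 3],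
  [Int.ofNat 0, Int.ofNat 0, Int.ofNat 0, Int.negSucc 3, Int.ofNat 0, Int.ofNat 0, Int.ofNat 0, Int.ofNat 0, Int.ofNat 0, Int.ofNat 0, Int.ofNat 0, Int.ofNat 0, Int.ofNat 0, Int.ofNat 0, Int.ofNat 0, Int.ofNat 0, Int.ofNat 0, Int.ofNat 0, Int.ofNat 0, Int.ofNat 0, Int.ofNat 0, Int.ofNat 0, Int.ofNat 0, Int.negSucc 3],
  [Int.ofNat 0, Int.ofNat 0, Int.ofNat 0, Int.ofNat 0, Int.ofNat 0, Int.ofNat 0, Int.ofNat 0, Int.negSucc 3, Int.ofNat 0, Int.ofNat 0, Int.ofNat 0, Int.ofNat 0, Int.ofNat 0, Int.ofNat 0, Int.ofNat 0, Int.ofNat 0, Int.ofNat 0, Int.ofNat 0, Int.ofNat 0, Int.ofNat 0, Int.ofNat 0, Int.ofNat 0, Int.ofNat 0, Int.negSucc 3],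
  [Int.ofNat 0, Int.ofNat 0, Int.ofNat 0, Int.ofNat 0, Int.ofNat 0, Int.ofNat 0, Int.ofNat 0, Int.negSucc 3, Int.ofNat 0, Int.ofNat 0, Int.ofNat 0, Int.ofNat 0, Int.ofNat 0, Int.ofNat 0, Int.ofNat 0, Int.ofNat 0, Int.ofNat 0, Int.ofNat 0, Int.ofNat 0, Int.ofNat 0, Int.ofNat 0, Int.ofNat 0, Int.ofNat 0, Int.negSucc 3],
  [Int.negSucc 3, Int.ofNat 0, Int.ofNat 0, Int.ofNat 0, Int.ofNat 0, Int.ofNat 0, Int.ofNat 0, Int.ofNat 0, Int.ofNat 0, Int.ofNat 0, Int.ofNat 0, Int.ofNat 0, Int.ofNat 0, Int.negSucc 3, Int.ofNat 0, Int.ofNat 0, Int.ofNat 0, Int.ofNat 0, Int.ofNat 0, Int.ofNat 0, Int.ofNat 0, Int.ofNat 0, Int.ofNat 0, Int.ofNat 0],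
  [Int.ofNat 4, Int.ofNat 0, Int.ofNat 0, Int.ofNat 0, Int.ofNat 0, Int.ofNat 0, Int.ofNat 0, Int.ofNat 0, Int.ofNat 0, Int.ofNat 0, Int.ofNat 0, Int.ofNat 0, Int.ofNat 0, Int.negSucc 3, Int.ofNat 0, Int.ofNat 0, Int.ofNat 0, Int.ofNat 0, Int.ofNat 0, Int.ofNat 0, Int.ofNat 0, Int.ofNat 0, Int.ofNat 0, Int.ofNat 0],
  [Int.ofNat 0, Int.ofNat 4, Int.ofNat 0, Int.ofNat 0, Int.ofNat 0, Int.ofNat 0, Int.ofNat 0, Int.ofNat 0, Int.ofNat 0, Int.ofNat 0, Int.ofNat 0, Int.ofNat 0, Int.ofNat 0, Int.ofNat 0, Int.negSucc 3, Int.ofNat 0, Int.ofNat 0, Int.ofNat 0, Int.ofNat 0, Int.ofNat 0, Int.ofNat 0, Int.ofNat 0, Int.ofNat 0, Int.ofNat 0],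
  [Int.ofNat 2, Int.negSucc 1, Int.ofNat 2, Int.ofNat 2, Int.ofNat 0, Int.ofNat 2, Int.ofNat 0, Int.ofNat 0, Int.ofNat 0, Int.ofNat 0, Int.ofNat 0, Int.ofNat 0, Int.ofNat 0, Int.ofNat 0, Int.negSucc 1, Int.ofNat 0, Int.ofNat 0, Int.ofNat 2, Int.ofNat 0, Int.ofNat 0, Int.ofNat 0, Int.ofNat 0, Int.ofNat 0, Int.ofNat 2],
  [Int.ofNat 2, Int.ofNat 0, Int.ofNat 2, Int.ofNat 0, Int.ofNat 0, Int.ofNat 0, Int.ofNat 0, Int.ofNat 0, Int.ofNat 0, Int.ofNat 0, Int.ofNat 0, Int.negSucc 1, Int.ofNat 0, Int.ofNat 0, Int.ofNat 2, Int.ofNat 0, Int.ofNat 0, Int.ofNat 0, Int.ofNat 0, Int.ofNat 0, Int.ofNat 2, Int.negSucc 1, Int.ofNat 2, Int.ofNat 2],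
  [Int.ofNat 1, Int.ofNat 3, Int.ofNat 1, Int.negSucc 0, Int.negSucc 0, Int.negSucc 0, Int.ofNat 1, Int.ofNat 1, Int.ofNat 1, Int.negSucc 0, Int.negSucc 0, Int.negSucc 0, Int.ofNat 1, Int.negSucc 0, Int.ofNat 1, Int.negSucc 0, Int.negSucc 0, Int.negSucc 0, Int.ofNat 1, Int.ofNat 1, Int.ofNat 1, Int.negSucc 0, Int.ofNat 1, Int.ofNat 1],
  [Int.ofNat 1, Int.ofNat 1, Int.negSucc 0, Int.negSucc 0, Int.ofNat 1, Int.ofNat 1, Int.ofNat 1, Int.negSucc 0, Int.ofNat 1, Int.negSucc 0, Int.ofNat 1, Int.negSucc 0, Int.negSucc 0, Int.negSucc 0, Int.ofNat 1, Int.negSucc 0, Int.ofNat 1, Int.ofNat 1, Int.ofNat 3, Int.negSucc 0, Int.negSucc 0, Int.negSucc 0, Int.ofNat 1, Int.ofNat 1],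
  [Int.ofNat 0, Int.ofNat 0, Int.ofNat 2, Int.negSucc 1, Int.ofNat 0, Int.ofNat 0, Int.ofNat 2, Int.ofNat 0, Int.ofNat 0, Int.ofNat 0, Int.ofNat 2, Int.negSucc 1, Int.negSucc 1, Int.negSucc 1, Int.ofNat 0, Int.ofNat 0, Int.ofNat 0, Int.ofNat 0, Int.ofNat 2, Int.ofNat 0, Int.ofNat 0, Int.ofNat 0, Int.ofNat 0, Int.ofNat 0],
  [Int.ofNat 0, Int.ofNat 0, Int.negSucc 1, Int.negSucc 1, Int.ofNat 0, Int.ofNat 0, Int.negSucc 1, Int.ofNat 0, Int.ofNat 0, Int.ofNat 0, Int.negSucc 1, Int.negSucc 1, Int.negSucc 1, Int.negSucc 1, Int.ofNat 0, Int.ofNat 0, Int.ofNat 0, Int.ofNat 0, Int.negSucc 1, Int.ofNat 0, Int.ofNat 0, Int.ofNat 0, Int.ofNat 0, Int.ofNat 0],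
  [Int.ofNat 0, Int.negSucc 1, Int.negSucc 1, Int.ofNat 0, Int.ofNat 0, Int.negSucc 1, Int.ofNat 0, Int.ofNat 0, Int.ofNat 0, Int.ofNat 0, Int.ofNat 0, Int.ofNat 0, Int.ofNat 0, Int.negSucc 1, Int.ofNat 0, Int.ofNat 0, Int.negSucc 1, Int.negSucc 1, Int.ofNat 0, Int.negSucc 1, Int.ofNat 0, Int.negSucc 1, Int.ofNat 0, Int.ofNat 0],
  [Int.ofNat 0, Int.negSucc 1, Int.ofNat 2, Int.ofNat 0, Int.ofNat 0, Int.ofNat 2, Int.ofNat 0, Int.ofNat 0, Int.ofNat 0, Int.ofNat 0, Int.ofNat 0, Int.ofNat 0, Int.ofNat 0, Int.negSucc 1, Int.ofNat 0, Int.ofNat 0, Int.negSucc 1, Int.negSucc 1, Int.ofNat 0, Int.negSucc 1, Int.ofNat 0, Int.negSucc 1, Int.ofNat 0, Int.ofNat 0],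
  [Int.ofNat 0, Int.ofNat 2, Int.negSucc 1, Int.ofNat 0, Int.ofNat 2, Int.ofNat 2, Int.ofNat 2, Int.ofNat 2, Int.ofNat 0, Int.ofNat 0, Int.ofNat 0, Int.ofNat 0, Int.ofNat 0, Int.ofNat 0, Int.ofNat 0, Int.ofNat 0, Int.ofNat 0, Int.negSucc 1, Int.ofNat 0, Int.ofNat 0, Int.ofNat 0, Int.ofNat 0, Int.ofNat 2, Int.ofNat 0],
  [Int.ofNat 0, Int.ofNat 0, Int.ofNat 2, Int.ofNat 0, Int.negSucc 1, Int.ofNat 0, Int.ofNat 2, Int.ofNat 2, Int.ofNat 0, Int.ofNat 0, Int.ofNat 2, Int.ofNat 0, Int.ofNat 0, Int.ofNat 0, Int.negSucc 1, Int.ofNat 0, Int.ofNat 0, Int.ofNat 0, Int.ofNat 2, Int.ofNat 2, Int.ofNat 0, Int.ofNat 0, Int.ofNat 0, Int.ofNat 0],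
  [Int.ofNat 1, Int.ofNat 1, Int.negSucc 0, Int.ofNat 1, Int.negSucc 0, Int.ofNat 1, Int.negSucc 0, Int.negSucc 0, Int.negSucc 0, Int.negSucc 0, Int.ofNat 1, Int.negSucc 0, Int.negSucc 0, Int.ofNat 1, Int.negSucc 0, Int.negSucc 0, Int.ofNat 1, Int.ofNat 1, Int.ofNat 1, Int.negSucc 0, Int.negSucc 0, Int.negSucc 2, Int.ofNat 1, Int.ofNat 1],
  [Int.negSucc 0, Int.negSucc 2, Int.ofNat 1, Int.ofNat 1, Int.ofNat 1, Int.negSucc 0, Int.ofNat 1, Int.negSucc 0, Int.ofNat 1, Int.negSucc 0, Int.negSucc 0, Int.negSucc 0, Int.negSucc 0, Int.ofNat 1, Int.negSucc 0, Int.negSucc 0, Int.ofNat 1, Int.negSucc 0, Int.negSucc 0, Int.ofNat 1, Int.ofNat 1, Int.ofNat 1, Int.negSucc 0, Int.ofNat 1],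
  [Int.ofNat 0, Int.ofNat 2, Int.negSucc 1, Int.ofNat 2, Int.ofNat 0, Int.ofNat 0, Int.ofNat 0, Int.negSucc 1, Int.ofNat 2, Int.ofNat 0, Int.ofNat 0, Int.ofNat 0, Int.ofNat 0, Int.ofNat 0, Int.ofNat 0, Int.ofNat 0, Int.ofNat 0, Int.ofNat 0, Int.ofNat 0, Int.ofNat 0, Int.ofNat 2, Int.ofNat 0, Int.negSucc 1, Int.negSucc 1],
  [Int.ofNat 2, Int.negSucc 1, Int.ofNat 2, Int.ofNat 0, Int.ofNat 0, Int.ofNat 0, Int.negSucc 1, Int.ofNat 2, Int.ofNat 0, Int.ofNat 0, Int.ofNat 0, Int.ofNat 0, Int.ofNat 0, Int.ofNat 0, Int.ofNat 0, Int.ofNat 0, Int.ofNat 0, Int.ofNat 0, Int.ofNat 0, Int.ofNat 2, Int.ofNat 0, Int.negSucc 1, Int.ofNat 0, Int.negSucc 1],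
  [Int.negSucc 1, Int.negSucc 1, Int.negSucc 1, Int.ofNat 0, Int.ofNat 0, Int.ofNat 0, Int.negSucc 1, Int.negSucc 1, Int.ofNat 0, Int.ofNat 0, Int.ofNat 0, Int.ofNat 0, Int.ofNat 0, Int.ofNat 0, Int.ofNat 0, Int.ofNat 0, Int.ofNat 0, Int.ofNat 0, Int.ofNat 0, Int.ofNat 2, Int.ofNat 0, Int.ofNat 2, Int.ofNat 0, Int.negSucc 1],
  [Int.negSucc 1, Int.negSucc 1, Int.ofNat 0, Int.ofNat 0, Int.negSucc 1, Int.ofNat 0, Int.ofNat 0, Int.ofNat 0, Int.ofNat 0, Int.ofNat 0, Int.ofNat 2, Int.ofNat 0, Int.ofNat 0, Int.ofNat 0, Int.ofNat 2, Int.ofNat 0, Int.ofNat 0, Int.ofNat 0, Int.negSucc 1, Int.ofNat 0, Int.ofNat 0, Int.negSucc 1, Int.ofNat 0, Int.negSucc 1],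
  [Int.ofNat 2, Int.negSucc 1, Int.ofNat 0, Int.ofNat 0, Int.negSucc 1, Int.ofNat 0, Int.ofNat 0, Int.ofNat 0, Int.ofNat 0, Int.ofNat 0, Int.negSucc 1, Int.ofNat 0, Int.ofNat 0, Int.ofNat 0, Int.ofNat 2, Int.ofNat 0, Int.ofNat 0, Int.ofNat 0, Int.ofNat 2, Int.ofNat 0, Int.ofNat 0, Int.ofNat 2, Int.ofNat 0, Int.negSucc 1],
  [Int.ofNat 0, Int.ofNat 2, Int.negSucc 1, Int.ofNat 0, Int.ofNat 0, Int.negSucc 1, Int.ofNat 0, Int.ofNat 0, Int.ofNat 0, Int.ofNat 0, Int.ofNat 0, Int.negSucc 1, Int.ofNat 0, Int.ofNat 0, Int.ofNat 0, Int.ofNat 2, Int.ofNat 0, Int.ofNat 0, Int.ofNat 0, Int.ofNat 2, Int.ofNat 0, Int.ofNat 0, Int.ofNat 2, Int.negSucc 1],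
  [Int.negSucc 0, Int.negSucc 2, Int.ofNat 1, Int.ofNat 1, Int.negSucc 0, Int.negSucc 0, Int.negSucc 0, Int.negSucc 0, Int.ofNat 1, Int.negSucc 0, Int.negSucc 0, Int.negSucc 0, Int.ofNat 1, Int.negSucc 0, Int.ofNat 1, Int.ofNat 1, Int.negSucc 0, Int.ofNat 1, Int.ofNat 1, Int.ofNat 1, Int.negSucc 0, Int.negSucc 0, Int.ofNat 1, Int.ofNat 1],
  [Int.ofNat 1, Int.negSucc 0, Int.negSucc 0, Int.negSucc 0, Int.negSucc 0, Int.ofNat 1, Int.negSucc 0, Int.negSucc 0, Int.negSucc 0, Int.ofNat 1, Int.negSucc 0, Int.ofNat 1, Int.ofNat 1, Int.negSucc 0, Int.ofNat 1, Int.ofNat 1, Int.ofNat 1, Int.negSucc 0, Int.negSucc 0, Int.ofNat 1, Int.negSucc 0, Int.negSucc 2, Int.ofNat 1, Int.ofNat 1],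
  [Int.negSucc 0, Int.ofNat 1, Int.ofNat 1, Int.negSucc 0, Int.negSucc 0, Int.ofNat 1, Int.ofNat 1, Int.ofNat 1, Int.negSucc 0, Int.ofNat 1, Int.negSucc 0, Int.ofNat 1, Int.ofNat 1, Int.negSucc 0, Int.ofNat 1, Int.ofNat 1, Int.ofNat 1, Int.negSucc 0, Int.negSucc 0, Int.ofNat 3, Int.negSucc 0, Int.negSucc 0, Int.ofNat 1, Int.negSucc 0],
  [Int.negSucc 0, Int.ofNat 1, Int.negSucc 0, Int.negSucc 0, Int.negSucc 0, Int.ofNat 1, Int.ofNat 1, Int.negSucc 0, Int.ofNat 1, Int.negSucc 0, Int.negSucc 0, Int.negSucc 0, Int.ofNat 1, Int.ofNat 1, Int.ofNat 1, Int.ofNat 1, Int.negSucc 0, Int.ofNat 1, Int.ofNat 1, Int.ofNat 1, Int.negSucc 0, Int.ofNat 1, Int.ofNat 3, Int.negSucc 0],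
  [Int.ofNat 0, Int.negSucc 1, Int.ofNat 0, Int.negSucc 1, Int.negSucc 1, Int.ofNat 0, Int.ofNat 0, Int.negSucc 1, Int.ofNat 0, Int.ofNat 0, Int.ofNat 0, Int.negSucc 1, Int.ofNat 0, Int.ofNat 0, Int.ofNat 0, Int.ofNat 2, Int.negSucc 1, Int.ofNat 0, Int.ofNat 0, Int.ofNat 0, Int.ofNat 0, Int.ofNat 0, Int.ofNat 2, Int.ofNat 0],
  [Int.ofNat 0, Int.negSucc 1, Int.ofNat 0, Int.negSucc 1, Int.negSucc 1, Int.ofNat 0, Int.ofNat 0, Int.negSucc 1, Int.ofNat 0, Int.ofNat 0, Int.ofNat 0, Int.negSucc 1, Int.ofNat 0, Int.ofNat 0, Int.ofNat 0, Int.negSucc 1, Int.negSucc 1, Int.ofNat 0, Int.ofNat 0, Int.ofNat 0, Int.ofNat 0, Int.ofNat 0, Int.negSucc 1, Int.ofNat 0],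
  [Int.ofNat 0, Int.negSucc 1, Int.negSucc 1, Int.ofNat 0, Int.ofNat 0, Int.ofNat 0, Int.ofNat 0, Int.negSucc 1, Int.ofNat 0, Int.ofNat 0, Int.ofNat 0, Int.negSucc 1, Int.negSucc 1, Int.negSucc 1, Int.ofNat 0, Int.ofNat 0, Int.ofNat 0, Int.ofNat 0, Int.ofNat 0, Int.ofNat 0, Int.ofNat 0, Int.negSucc 1, Int.negSucc 1, Int.ofNat 0],
  [Int.ofNat 0, Int.ofNat 2, Int.ofNat 2, Int.ofNat 0, Int.ofNat 0, Int.ofNat 0, Int.ofNat 0, Int.negSucc 1, Int.ofNat 0, Int.ofNat 0, Int.ofNat 0, Int.negSucc 1, Int.ofNat 2, Int.ofNat 2, Int.ofNat 0, Int.ofNat 0, Int.ofNat 0, Int.ofNat 0, Int.ofNat 0, Int.ofNat 0, Int.ofNat 0, Int.negSucc 1, Int.negSucc 1, Int.ofNat 0],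
  [Int.ofNat 0, Int.negSucc 1, Int.negSucc 1, Int.ofNat 0, Int.ofNat 0, Int.ofNat 0, Int.ofNat 0, Int.ofNat 2, Int.ofNat 0, Int.ofNat 0, Int.ofNat 0, Int.ofNat 2, Int.negSucc 1, Int.negSucc 1, Int.ofNat 0, Int.ofNat 0, Int.ofNat 0, Int.ofNat 0, Int.ofNat 0, Int.ofNat 0, Int.ofNat 0, Int.ofNat 2, Int.ofNat 2, Int.ofNat 0],
  [Int.ofNat 0, Int.negSucc 1, Int.ofNat 2, Int.ofNat 0, Int.ofNat 0, Int.ofNat 0, Int.ofNat 0, Int.negSucc 1, Int.ofNat 0, Int.ofNat 0, Int.ofNat 0, Int.negSucc 1, Int.negSucc 1, Int.negSucc 1, Int.ofNat 0, Int.ofNat 0, Int.ofNat 0, Int.ofNat 0, Int.ofNat 0, Int.ofNat 0, Int.ofNat 0, Int.negSucc 1, Int.ofNat 2, Int.ofNat 0],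
  [Int.ofNat 2, Int.ofNat 0, Int.negSucc 1, Int.ofNat 2, Int.ofNat 0, Int.ofNat 0, Int.ofNat 0, Int.ofNat 0, Int.negSucc 1, Int.ofNat 0, Int.ofNat 0, Int.ofNat 0, Int.negSucc 1, Int.negSucc 1, Int.negSucc 1, Int.ofNat 0, Int.ofNat 0, Int.ofNat 0, Int.ofNat 0, Int.ofNat 0, Int.ofNat 0, Int.ofNat 0, Int.negSucc 1, Int.ofNat 0],
  [Int.negSucc 1, Int.ofNat 0, Int.ofNat 2, Int.ofNat 2, Int.ofNat 2, Int.ofNat 0, Int.ofNat 0, Int.ofNat 0, Int.ofNat 0, Int.ofNat 0, Int.ofNat 0, Int.ofNat 2, Int.ofNat 0, Int.ofNat 0, Int.negSucc 1, Int.ofNat 0, Int.ofNat 2, Int.ofNat 0, Int.ofNat 2, Int.ofNat 0, Int.ofNat 0, Int.ofNat 0, Int.ofNat 0, Int.ofNat 0],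
  [Int.ofNat 2, Int.ofNat 2, Int.ofNat 0, Int.ofNat 0, Int.ofNat 0, Int.ofNat 0, Int.ofNat 0, Int.ofNat 0, Int.ofNat 2, Int.ofNat 0, Int.ofNat 0, Int.negSucc 1, Int.ofNat 0, Int.ofNat 2, Int.ofNat 0, Int.ofNat 2, Int.ofNat 0, Int.ofNat 0, Int.ofNat 0, Int.ofNat 0, Int.negSucc 1, Int.ofNat 0, Int.ofNat 2, Int.ofNat 0],
  [Int.ofNat 0, Int.ofNat 0, Int.ofNat 2, Int.ofNat 0, Int.negSucc 1, Int.ofNat 0, Int.ofNat 0, Int.ofNat 0, Int.ofNat 2, Int.ofNat 0, Int.ofNat 0, Int.negSucc 1, Int.ofNat 0, Int.ofNat 0, Int.ofNat 0, Int.ofNat 2, Int.negSucc 1, Int.ofNat 0, Int.ofNat 0, Int.ofNat 0, Int.negSucc 1, Int.ofNat 0, Int.ofNat 0, Int.ofNat 2],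
  [Int.ofNat 0, Int.ofNat 0, Int.negSucc 1, Int.ofNat 0, Int.ofNat 0, Int.ofNat 0, Int.ofNat 2, Int.ofNat 0, Int.ofNat 0, Int.ofNat 0, Int.negSucc 1, Int.ofNat 0, Int.ofNat 0, Int.negSucc 1, Int.ofNat 0, Int.ofNat 2, Int.ofNat 2, Int.ofNat 0, Int.ofNat 0, Int.negSucc 1, Int.ofNat 0, Int.ofNat 0, Int.ofNat 0, Int.ofNat 2],
  [Int.ofNat 0, Int.ofNat 0, Int.ofNat 2, Int.ofNat 0, Int.ofNat 0, Int.ofNat 0, Int.ofNat 2, Int.ofNat 0, Int.ofNat 0, Int.ofNat 0, Int.negSucc 1, Int.ofNat 0, Int.ofNat 0, Int.negSucc 1, Int.ofNat 0, Int.ofNat 2, Int.ofNat 2, Int.ofNat 0, Int.ofNat 0, Int.negSucc 1, Int.ofNat 0, Int.ofNat 0, Int.ofNat 0, Int.negSucc 1],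
  [Int.ofNat 0, Int.ofNat 0, Int.negSucc 1, Int.ofNat 0, Int.ofNat 0, Int.ofNat 0, Int.negSucc 1, Int.ofNat 0, Int.ofNat 0, Int.ofNat 0, Int.ofNat 2, Int.ofNat 0, Int.ofNat 0, Int.negSucc 1, Int.ofNat 0, Int.negSucc 1, Int.ofNat 2, Int.ofNat 0, Int.ofNat 0, Int.negSucc 1, Int.ofNat 0, Int.ofNat 0, Int.ofNat 0, Int.negSucc 1],
  [Int.ofNat 0, Int.ofNat 0, Int.negSucc 1, Int.negSucc 1, Int.ofNat 0, Int.ofNat 0, Int.ofNat 0, Int.ofNat 0, Int.negSucc 1, Int.ofNat 0, Int.ofNat 0, Int.ofNat 0, Int.ofNat 0, Int.negSucc 1, Int.ofNat 0, Int.ofNat 0, Int.negSucc 1, Int.ofNat 2, Int.ofNat 2, Int.ofNat 0, Int.ofNat 0, Int.ofNat 0, Int.ofNat 0, Int.negSucc 1],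
  [Int.ofNat 0, Int.ofNat 0, Int.ofNat 2, Int.negSucc 1, Int.ofNat 0, Int.ofNat 0, Int.ofNat 0, Int.ofNat 0, Int.negSucc 1, Int.ofNat 0, Int.ofNat 0, Int.ofNat 0, Int.ofNat 0, Int.negSucc 1, Int.ofNat 0, Int.ofNat 0, Int.negSucc 1, Int.ofNat 2, Int.negSucc 1, Int.ofNat 0, Int.ofNat 0, Int.ofNat 0, Int.ofNat 0, Int.negSucc 1],
  [Int.ofNat 0, Int.ofNat 0, Int.negSucc 1, Int.negSucc 1, Int.ofNat 2, Int.ofNat 0, Int.ofNat 0, Int.ofNat 0, Int.ofNat 0, Int.ofNat 0, Int.ofNat 0, Int.ofNat 2, Int.ofNat 2, Int.ofNat 0, Int.ofNat 0, Int.ofNat 0, Int.ofNat 0, Int.ofNat 2, Int.ofNat 0, Int.ofNat 0, Int.ofNat 0, Int.ofNat 0, Int.ofNat 2, Int.ofNat 2],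
  [Int.ofNat 0, Int.ofNat 0, Int.ofNat 0, Int.negSucc 1, Int.negSucc 1, Int.ofNat 0, Int.ofNat 0, Int.ofNat 0, Int.ofNat 0, Int.ofNat 2, Int.ofNat 0, Int.ofNat 0, Int.ofNat 0, Int.ofNat 0, Int.ofNat 2, Int.ofNat 0, Int.ofNat 0, Int.ofNat 2, Int.ofNat 2, Int.ofNat 2, Int.ofNat 0, Int.ofNat 0, Int.ofNat 0, Int.ofNat 2],
  [Int.ofNat 1, Int.ofNat 1, Int.ofNat 1, Int.negSucc 2, Int.negSucc 0, Int.negSucc 0, Int.negSucc 0, Int.negSucc 0, Int.negSucc 0, Int.ofNat 1, Int.negSucc 0, Int.negSucc 0, Int.negSucc 0, Int.ofNat 1, Int.ofNat 1, Int.negSucc 0, Int.ofNat 1, Int.ofNat 1, Int.ofNat 1, Int.ofNat 1, Int.negSucc 0, Int.negSucc 0, Int.ofNat 1, Int.negSucc 0],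
  [Int.negSucc 0, Int.negSucc 0, Int.ofNat 1, Int.ofNat 1, Int.ofNat 1, Int.ofNat 1, Int.negSucc 2, Int.negSucc 0, Int.negSucc 0, Int.negSucc 0, Int.negSucc 0, Int.negSucc 0, Int.ofNat 1, Int.negSucc 0, Int.negSucc 0, Int.negSucc 0, Int.ofNat 1, Int.ofNat 1, Int.negSucc 0, Int.ofNat 1, Int.ofNat 1, Int.ofNat 1, Int.ofNat 1, Int.negSucc 0],
  [Int.ofNat 0, Int.ofNat 0, Int.negSucc 1, Int.ofNat 0, Int.ofNat 0, Int.ofNat 0, Int.negSucc 1, Int.ofNat 0, Int.ofNat 0, Int.ofNat 0, Int.ofNat 0, Int.ofNat 0, Int.ofNat 2, Int.negSucc 1, Int.negSucc 1, Int.ofNat 0, Int.ofNat 0, Int.ofNat 0, Int.ofNat 0, Int.ofNat 2, Int.ofNat 2, Int.ofNat 2, Int.ofNat 0, Int.ofNat 0],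
  [Int.ofNat 0, Int.negSucc 1, Int.ofNat 0, Int.ofNat 0, Int.ofNat 0, Int.negSucc 1, Int.ofNat 0, Int.ofNat 0, Int.ofNat 0, Int.ofNat 0, Int.ofNat 0, Int.ofNat 2, Int.negSucc 1, Int.negSucc 1, Int.ofNat 0, Int.ofNat 0, Int.ofNat 0, Int.ofNat 0, Int.ofNat 2, Int.ofNat 2, Int.ofNat 2, Int.ofNat 0, Int.ofNat 0, Int.ofNat 0],
  [Int.ofNat 0, Int.negSucc 1, Int.ofNat 0, Int.ofNat 0, Int.ofNat 0, Int.negSucc 1, Int.ofNat 0, Int.ofNat 0, Int.ofNat 0, Int.ofNat 0, Int.ofNat 0, Int.negSucc 1, Int.negSucc 1, Int.negSucc 1, Int.ofNat 0, Int.ofNat 0, Int.ofNat 0, Int.ofNat 0, Int.negSucc 1, Int.ofNat 2, Int.ofNat 2, Int.ofNat 0, Int.ofNat 0, Int.ofNat 0],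
  [Int.ofNat 0, Int.ofNat 0, Int.negSucc 1, Int.ofNat 0, Int.negSucc 1, Int.ofNat 0, Int.ofNat 0, Int.ofNat 2, Int.ofNat 0, Int.ofNat 0, Int.ofNat 0, Int.ofNat 0, Int.negSucc 1, Int.ofNat 0, Int.ofNat 2, Int.ofNat 0, Int.negSucc 1, Int.ofNat 0, Int.ofNat 0, Int.ofNat 0, Int.negSucc 1, Int.ofNat 0, Int.negSucc 1, Int.ofNat 0],
  [Int.ofNat 0, Int.ofNat 0, Int.ofNat 2, Int.ofNat 0, Int.negSucc 1, Int.ofNat 0, Int.ofNat 0, Int.negSucc 1, Int.ofNat 0, Int.ofNat 0, Int.ofNat 0, Int.ofNat 0, Int.negSucc 1, Int.ofNat 0, Int.ofNat 2, Int.ofNat 0, Int.negSucc 1, Int.ofNat 0, Int.ofNat 0, Int.ofNat 0, Int.negSucc 1, Int.ofNat 0, Int.negSucc 1, Int.ofNat 0],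
  [Int.negSucc 1, Int.ofNat 0, Int.ofNat 0, Int.ofNat 2, Int.ofNat 0, Int.negSucc 1, Int.ofNat 0, Int.ofNat 0, Int.negSucc 1, Int.ofNat 0, Int.ofNat 0, Int.ofNat 0, Int.ofNat 0, Int.negSucc 1, Int.ofNat 0, Int.ofNat 2, Int.ofNat 0, Int.negSucc 1, Int.ofNat 0, Int.ofNat 0, Int.ofNat 0, Int.negSucc 1, Int.ofNat 0, Int.ofNat 0],
  [Int.ofNat 1, Int.negSucc 0, Int.negSucc 0, Int.ofNat 3, Int.ofNat 1, Int.negSucc 0, Int.ofNat 1, Int.ofNat 1, Int.negSucc 0, Int.negSucc 0, Int.negSucc 0, Int.ofNat 1, Int.ofNat 1, Int.negSucc 0, Int.ofNat 1, Int.ofNat 1, Int.ofNat 1, Int.negSucc 0, Int.ofNat 1, Int.ofNat 1, Int.negSucc 0, Int.negSucc 0, Int.ofNat 1, Int.negSucc 0],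
  [Int.ofNat 3, Int.ofNat 1, Int.negSucc 0, Int.ofNat 1, Int.ofNat 1, Int.negSucc 0, Int.negSucc 0, Int.negSucc 0, Int.ofNat 1, Int.ofNat 1, Int.negSucc 0, Int.ofNat 1, Int.ofNat 1, Int.ofNat 1, Int.negSucc 0, Int.ofNat 1, Int.ofNat 1, Int.negSucc 0, Int.negSucc 0, Int.ofNat 1, Int.ofNat 1, Int.negSucc 0, Int.negSucc 0, Int.negSucc 0],
  [Int.negSucc 1, Int.ofNat 0, Int.ofNat 2, Int.ofNat 2, Int.ofNat 0, Int.ofNat 0, Int.ofNat 0, Int.ofNat 0, Int.ofNat 0, Int.ofNat 0, Int.negSucc 1, Int.ofNat 0, Int.ofNat 0, Int.ofNat 0, Int.ofNat 0, Int.ofNat 0, Int.ofNat 0, Int.ofNat 0, Int.negSucc 1, Int.ofNat 2, Int.ofNat 0, Int.ofNat 0, Int.negSucc 1, Int.ofNat 2],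
  [Int.negSucc 1, Int.ofNat 0, Int.ofNat 0, Int.ofNat 2, Int.negSucc 1, Int.ofNat 0, Int.ofNat 2, Int.negSucc 1, Int.ofNat 0, Int.ofNat 0, Int.ofNat 0, Int.ofNat 0, Int.ofNat 0, Int.ofNat 0, Int.negSucc 1, Int.ofNat 0, Int.ofNat 0, Int.ofNat 0, Int.ofNat 0, Int.ofNat 0, Int.ofNat 0, Int.ofNat 0, Int.ofNat 2, Int.ofNat 2],
  [Int.ofNat 2, Int.ofNat 0, Int.ofNat 0, Int.ofNat 2, Int.negSucc 1, Int.ofNat 0, Int.ofNat 2, Int.negSucc 1, Int.ofNat 0, Int.ofNat 0, Int.ofNat 0, Int.ofNat 0, Int.ofNat 0, Int.ofNat 0, Int.negSucc 1, Int.ofNat 0, Int.ofNat 0, Int.ofNat 0, Int.ofNat 0, Int.ofNat 0, Int.ofNat 0, Int.ofNat 0, Int.ofNat 2, Int.negSucc 1],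
  [Int.ofNat 2, Int.ofNat 0, Int.ofNat 0, Int.ofNat 2, Int.negSucc 1, Int.ofNat 0, Int.negSucc 1, Int.negSucc 1, Int.ofNat 0, Int.ofNat 0, Int.ofNat 0, Int.ofNat 0, Int.ofNat 0, Int.ofNat 0, Int.negSucc 1, Int.ofNat 0, Int.ofNat 0, Int.ofNat 0, Int.ofNat 0, Int.ofNat 0, Int.ofNat 0, Int.ofNat 0, Int.negSucc 1, Int.negSucc 1],
  [Int.ofNat 0, Int.ofNat 0, Int.ofNat 0, Int.ofNat 0, Int.negSucc 1, Int.negSucc 1, Int.ofNat 0, Int.ofNat 2, Int.ofNat 0, Int.ofNat 0, Int.ofNat 0, Int.negSucc 1, Int.ofNat 0, Int.negSucc 1, Int.ofNat 0, Int.ofNat 0, Int.ofNat 0, Int.ofNat 0, Int.ofNat 0, Int.ofNat 0, Int.ofNat 2, Int.ofNat 0, Int.negSucc 1, Int.negSucc 1],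
  [Int.ofNat 0, Int.ofNat 0, Int.ofNat 0, Int.ofNat 0, Int.ofNat 2, Int.negSucc 1, Int.ofNat 0, Int.ofNat 2, Int.ofNat 0, Int.ofNat 0, Int.ofNat 0, Int.negSucc 1, Int.ofNat 0, Int.ofNat 2, Int.ofNat 0, Int.ofNat 0, Int.ofNat 0, Int.ofNat 0, Int.ofNat 0, Int.ofNat 0, Int.ofNat 2, Int.ofNat 0, Int.negSucc 1, Int.negSucc 1],
  [Int.negSucc 1, Int.negSucc 1, Int.negSucc 1, Int.ofNat 0, Int.ofNat 0, Int.ofNat 0, Int.ofNat 0, Int.ofNat 2, Int.ofNat 2, Int.negSucc 1, Int.ofNat 0, Int.ofNat 0, Int.ofNat 0, Int.ofNat 2, Int.ofNat 0, Int.ofNat 0, Int.ofNat 0, Int.ofNat 2, Int.ofNat 0, Int.ofNat 0, Int.ofNat 0, Int.ofNat 0, Int.ofNat 0, Int.ofNat 0],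
  [Int.ofNat 2, Int.negSucc 1, Int.ofNat 2, Int.ofNat 0, Int.ofNat 0, Int.ofNat 0, Int.ofNat 0, Int.negSucc 1, Int.ofNat 2, Int.ofNat 2, Int.ofNat 0, Int.ofNat 0, Int.ofNat 0, Int.ofNat 2, Int.ofNat 0, Int.ofNat 0, Int.ofNat 0, Int.ofNat 2, Int.ofNat 0, Int.ofNat 0, Int.ofNat 0, Int.ofNat 0, Int.ofNat 0, Int.ofNat 0],
  [Int.ofNat 0, Int.ofNat 2, Int.negSucc 1, Int.ofNat 2, Int.ofNat 0, Int.ofNat 0, Int.ofNat 0, Int.ofNat 0, Int.negSucc 1, Int.ofNat 2, Int.ofNat 2, Int.ofNat 0, Int.ofNat 0, Int.ofNat 0, Int.ofNat 2, Int.ofNat 0, Int.ofNat 0, Int.ofNat 0, Int.ofNat 2, Int.ofNat 0, Int.ofNat 0, Int.ofNat 0, Int.ofNat 0, Int.ofNat 0],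
  [Int.ofNat 0, Int.negSucc 1, Int.ofNat 2, Int.ofNat 0, Int.ofNat 0, Int.negSucc 1, Int.ofNat 0, Int.ofNat 0, Int.negSucc 1, Int.ofNat 0, Int.ofNat 0, Int.ofNat 0, Int.ofNat 0, Int.ofNat 0, Int.ofNat 0, Int.negSucc 1, Int.ofNat 0, Int.negSucc 1, Int.ofNat 2, Int.ofNat 0, Int.negSucc 1, Int.ofNat 0, Int.ofNat 0, Int.ofNat 0],
  [Int.ofNat 0, Int.ofNat 0, Int.negSucc 1, Int.ofNat 0, Int.ofNat 0, Int.negSucc 1, Int.ofNat 0, Int.ofNat 0, Int.ofNat 0, Int.ofNat 0, Int.ofNat 0, Int.ofNat 0, Int.negSucc 1, Int.ofNat 0, Int.negSucc 1, Int.ofNat 2, Int.ofNat 0, Int.negSucc 1, Int.ofNat 0, Int.ofNat 0, Int.ofNat 0, Int.negSucc 1, Int.ofNat 2, Int.ofNat 0],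
  [Int.negSucc 0, Int.negSucc 0, Int.ofNat 1, Int.ofNat 3, Int.negSucc 0, Int.ofNat 1, Int.ofNat 1, Int.ofNat 1, Int.ofNat 1, Int.negSucc 0, Int.negSucc 0, Int.ofNat 1, Int.negSucc 0, Int.negSucc 0, Int.ofNat 1, Int.ofNat 1, Int.negSucc 0, Int.ofNat 1, Int.ofNat 1, Int.ofNat 1, Int.negSucc 0, Int.negSucc 0, Int.ofNat 1, Int.negSucc 0],
  [Int.negSucc 0, Int.ofNat 1, Int.negSucc 0, Int.ofNat 3, Int.ofNat 1, Int.ofNat 1, Int.ofNat 1, Int.negSucc 0, Int.negSucc 0, Int.negSucc 0, Int.negSucc 0, Int.ofNat 1, Int.negSucc 0, Int.negSucc 0, Int.ofNat 1, Int.ofNat 1, Int.ofNat 1, Int.ofNat 1, Int.negSucc 0, Int.ofNat 1, Int.negSucc 0, Int.ofNat 1, Int.ofNat 1, Int.negSucc 0],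
  [Int.ofNat 0, Int.negSucc 1, Int.ofNat 0, Int.ofNat 0, Int.ofNat 0, Int.negSucc 1, Int.ofNat 0, Int.negSucc 1, Int.ofNat 0, Int.ofNat 0, Int.ofNat 0, Int.ofNat 2, Int.ofNat 0, Int.negSucc 1, Int.negSucc 1, Int.ofNat 2, Int.ofNat 0, Int.negSucc 1, Int.ofNat 0, Int.ofNat 0, Int.ofNat 0, Int.ofNat 0, Int.ofNat 0, Int.ofNat 0],
  [Int.ofNat 0, Int.negSucc 1, Int.ofNat 0, Int.ofNat 0, Int.ofNat 0, Int.ofNat 2, Int.ofNat 0, Int.negSucc 1, Int.ofNat 0, Int.ofNat 0, Int.ofNat 0, Int.ofNat 2, Int.ofNat 0, Int.negSucc 1, Int.negSucc 1, Int.negSucc 1, Int.ofNat 0, Int.negSucc 1, Int.ofNat 0, Int.ofNat 0, Int.ofNat 0, Int.ofNat 0, Int.ofNat 0, Int.ofNat 0],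
  [Int.ofNat 0, Int.ofNat 0, Int.ofNat 0, Int.ofNat 0, Int.ofNat 0, Int.ofNat 0, Int.negSucc 1, Int.ofNat 0, Int.negSucc 1, Int.negSucc 1, Int.ofNat 0, Int.negSucc 1, Int.ofNat 0, Int.ofNat 0, Int.ofNat 0, Int.negSucc 1, Int.negSucc 1, Int.ofNat 0, Int.ofNat 0, Int.ofNat 2, Int.ofNat 0, Int.ofNat 0, Int.ofNat 2, Int.ofNat 0],
  [Int.ofNat 0, Int.ofNat 0, Int.ofNat 0, Int.ofNat 0, Int.ofNat 0, Int.ofNat 0, Int.ofNat 2, Int.ofNat 0, Int.negSucc 1, Int.ofNat 2, Int.ofNat 0, Int.negSucc 1, Int.ofNat 0, Int.ofNat 0, Int.ofNat 0, Int.ofNat 2, Int.negSucc 1, Int.ofNat 0, Int.ofNat 0, Int.ofNat 2, Int.ofNat 0, Int.ofNat 0, Int.negSucc 1, Int.ofNat 0],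
  [Int.ofNat 0, Int.ofNat 0, Int.ofNat 0, Int.ofNat 0, Int.ofNat 2, Int.ofNat 0, Int.ofNat 0, Int.negSucc 1, Int.ofNat 0, Int.ofNat 0, Int.negSucc 1, Int.ofNat 0, Int.ofNat 2, Int.ofNat 2, Int.ofNat 0, Int.ofNat 0, Int.ofNat 0, Int.ofNat 0, Int.ofNat 2, Int.ofNat 0, Int.negSucc 1, Int.negSucc 1, Int.ofNat 0, Int.ofNat 0],
  [Int.ofNat 0, Int.ofNat 2, Int.ofNat 0, Int.ofNat 0, Int.ofNat 0, Int.negSucc 1, Int.ofNat 0, Int.ofNat 0, Int.ofNat 0, Int.ofNat 2, Int.negSucc 1, Int.ofNat 0, Int.ofNat 0, Int.ofNat 0, Int.ofNat 0, Int.ofNat 0, Int.ofNat 2, Int.ofNat 0, Int.ofNat 2, Int.ofNat 0, Int.negSucc 1, Int.negSucc 1, Int.ofNat 0, Int.ofNat 0],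
  [Int.ofNat 1, Int.negSucc 0, Int.ofNat 1, Int.ofNat 1, Int.negSucc 0, Int.negSucc 0, Int.ofNat 1, Int.ofNat 1, Int.negSucc 0, Int.ofNat 3, Int.negSucc 0, Int.negSucc 0, Int.negSucc 0, Int.negSucc 0, Int.ofNat 1, Int.ofNat 1, Int.ofNat 1, Int.ofNat 1, Int.ofNat 1, Int.ofNat 1, Int.negSucc 0, Int.negSucc 0, Int.negSucc 0, Int.ofNat 1],
  [Int.negSucc 0, Int.negSucc 0, Int.negSucc 0, Int.ofNat 1, Int.negSucc 0, Int.ofNat 1, Int.ofNat 1, Int.negSucc 0, Int.negSucc 0, Int.ofNat 1, Int.ofNat 1, Int.negSucc 0, Int.ofNat 3, Int.negSucc 0, Int.negSucc 0, Int.negSucc 0, Int.negSucc 0, Int.ofNat 1, Int.ofNat 1, Int.ofNat 1, Int.ofNat 1, Int.ofNat 1, Int.ofNat 1, Int.ofNat 1],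
  [Int.ofNat 0, Int.ofNat 0, Int.ofNat 0, Int.ofNat 0, Int.ofNat 0, Int.ofNat 0, Int.ofNat 0, Int.negSucc 1, Int.negSucc 1, Int.ofNat 0, Int.ofNat 0, Int.negSucc 1, Int.ofNat 2, Int.ofNat 0, Int.negSucc 1, Int.negSucc 1, Int.ofNat 0, Int.ofNat 0, Int.ofNat 0, Int.ofNat 0, Int.ofNat 0, Int.ofNat 0, Int.ofNat 2, Int.negSucc 1],
  [Int.ofNat 0, Int.ofNat 0, Int.ofNat 0, Int.ofNat 0, Int.ofNat 0, Int.ofNat 0, Int.negSucc 1, Int.negSucc 1, Int.ofNat 0, Int.ofNat 0, Int.negSucc 1, Int.ofNat 2, Int.ofNat 0, Int.negSucc 1, Int.negSucc 1, Int.ofNat 0, Int.ofNat 0, Int.ofNat 0, Int.ofNat 0, Int.ofNat 0, Int.ofNat 0, Int.ofNat 2, Int.ofNat 0, Int.negSucc 1],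
  [Int.ofNat 0, Int.ofNat 0, Int.ofNat 0, Int.ofNat 0, Int.ofNat 0, Int.ofNat 0, Int.negSucc 1, Int.ofNat 2, Int.ofNat 0, Int.ofNat 0, Int.ofNat 2, Int.negSucc 1, Int.ofNat 0, Int.negSucc 1, Int.negSucc 1, Int.ofNat 0, Int.ofNat 0, Int.ofNat 0, Int.ofNat 0, Int.ofNat 0, Int.ofNat 0, Int.negSucc 1, Int.ofNat 0, Int.negSucc 1],
  [Int.ofNat 0, Int.ofNat 0, Int.ofNat 0, Int.ofNat 0, Int.ofNat 0, Int.ofNat 2, Int.ofNat 0, Int.ofNat 0, Int.ofNat 0, Int.ofNat 0, Int.negSucc 1, Int.negSucc 1, Int.negSucc 1, Int.ofNat 0, Int.ofNat 0, Int.ofNat 0, Int.ofNat 0, Int.ofNat 0, Int.negSucc 1, Int.ofNat 0, Int.ofNat 0, Int.ofNat 2, Int.negSucc 1, Int.negSucc 1],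
  [Int.ofNat 0, Int.ofNat 0, Int.ofNat 0, Int.ofNat 0, Int.ofNat 0, Int.ofNat 2, Int.ofNat 0, Int.ofNat 0, Int.ofNat 0, Int.ofNat 0, Int.ofNat 2, Int.ofNat 2, Int.negSucc 1, Int.ofNat 0, Int.ofNat 0, Int.ofNat 0, Int.ofNat 0, Int.ofNat 0, Int.ofNat 2, Int.ofNat 0, Int.ofNat 0, Int.negSucc 1, Int.negSucc 1, Int.negSucc 1],
  [Int.negSucc 1, Int.ofNat 0, Int.ofNat 0, Int.ofNat 0, Int.ofNat 0, Int.ofNat 0, Int.ofNat 2, Int.ofNat 0, Int.ofNat 0, Int.ofNat 0, Int.ofNat 0, Int.ofNat 2, Int.ofNat 2, Int.negSucc 1, Int.ofNat 0, Int.ofNat 0, Int.ofNat 0, Int.ofNat 0, Int.ofNat 0, Int.ofNat 2, Int.ofNat 0, Int.ofNat 0, Int.negSucc 1, Int.negSucc 1],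
  [Int.ofNat 0, Int.negSucc 1, Int.negSucc 1, Int.ofNat 0, Int.ofNat 2, Int.ofNat 0, Int.ofNat 0, Int.negSucc 1, Int.negSucc 1, Int.ofNat 0, Int.ofNat 0, Int.ofNat 0, Int.ofNat 0, Int.ofNat 0, Int.ofNat 0, Int.ofNat 0, Int.ofNat 2, Int.ofNat 0, Int.negSucc 1, Int.ofNat 0, Int.ofNat 0, Int.negSucc 1, Int.ofNat 0, Int.ofNat 0],
  [Int.ofNat 0, Int.ofNat 2, Int.ofNat 0, Int.ofNat 0, Int.negSucc 1, Int.negSucc 1, Int.ofNat 0, Int.ofNat 0, Int.ofNat 0, Int.ofNat 0, Int.ofNat 0, Int.ofNat 0, Int.ofNat 0, Int.ofNat 2, Int.ofNat 0, Int.negSucc 1, Int.ofNat 0, Int.ofNat 0, Int.negSucc 1, Int.ofNat 0, Int.ofNat 0, Int.negSucc 1, Int.negSucc 1, Int.ofNat 0],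
  [Int.ofNat 1, Int.negSucc 0, Int.ofNat 1, Int.ofNat 1, Int.negSucc 0, Int.negSucc 0, Int.ofNat 1, Int.ofNat 1, Int.ofNat 1, Int.ofNat 1, Int.ofNat 1, Int.ofNat 1, Int.ofNat 1, Int.ofNat 3, Int.ofNat 1, Int.negSucc 0, Int.ofNat 1, Int.ofNat 1, Int.negSucc 0, Int.ofNat 1, Int.ofNat 1, Int.negSucc 0, Int.negSucc 0, Int.ofNat 1],
  [Int.ofNat 1, Int.ofNat 1, Int.negSucc 0, Int.ofNat 1, Int.negSucc 0, Int.ofNat 1, Int.ofNat 1, Int.ofNat 1, Int.ofNat 1, Int.ofNat 3, Int.ofNat 1, Int.ofNat 1, Int.ofNat 1, Int.ofNat 1, Int.negSucc 0, Int.negSucc 0, Int.ofNat 1, Int.ofNat 1, Int.negSucc 0, Int.ofNat 1, Int.negSucc 0, Int.negSucc 0, Int.ofNat 1, Int.ofNat 1],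
  [Int.ofNat 0, Int.ofNat 0, Int.ofNat 2, Int.ofNat 0, Int.negSucc 1, Int.ofNat 0, Int.ofNat 0, Int.ofNat 0, Int.ofNat 0, Int.ofNat 2, Int.ofNat 0, Int.ofNat 0, Int.ofNat 0, Int.ofNat 0, Int.negSucc 1, Int.negSucc 1, Int.ofNat 0, Int.ofNat 0, Int.negSucc 1, Int.ofNat 0, Int.negSucc 1, Int.negSucc 1, Int.ofNat 0, Int.ofNat 0],
  [Int.ofNat 0, Int.ofNat 0, Int.negSucc 1, Int.ofNat 0, Int.negSucc 1, Int.ofNat 0, Int.ofNat 0, Int.ofNat 0, Int.ofNat 0, Int.negSucc 1, Int.ofNat 0, Int.ofNat 0, Int.ofNat 0, Int.ofNat 0, Int.negSucc 1, Int.ofNat 2, Int.ofNat 0, Int.ofNat 0, Int.ofNat 2, Int.ofNat 0, Int.negSucc 1, Int.negSucc 1, Int.ofNat 0, Int.ofNat 0],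
  [Int.ofNat 0, Int.ofNat 0, Int.ofNat 0, Int.ofNat 0, Int.negSucc 1, Int.ofNat 0, Int.negSucc 1, Int.ofNat 0, Int.ofNat 0, Int.negSucc 1, Int.ofNat 0, Int.ofNat 0, Int.ofNat 2, Int.negSucc 1, Int.ofNat 0, Int.ofNat 2, Int.ofNat 0, Int.ofNat 0, Int.negSucc 1, Int.negSucc 1, Int.ofNat 0, Int.ofNat 0, Int.ofNat 0, Int.ofNat 0],
  [Int.ofNat 0, Int.ofNat 0, Int.ofNat 0, Int.ofNat 0, Int.ofNat 2, Int.ofNat 0, Int.ofNat 2, Int.ofNat 0, Int.ofNat 0, Int.ofNat 2, Int.ofNat 0, Int.ofNat 0, Int.negSucc 1, Int.ofNat 2, Int.ofNat 0, Int.ofNat 2, Int.ofNat 0, Int.ofNat 0, Int.ofNat 2, Int.negSucc 1, Int.ofNat 0, Int.ofNat 0, Int.ofNat 0, Int.ofNat 0],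
  [Int.ofNat 0, Int.ofNat 0, Int.ofNat 0, Int.ofNat 2, Int.ofNat 0, Int.ofNat 2, Int.negSucc 1, Int.ofNat 2, Int.ofNat 0, Int.ofNat 0, Int.ofNat 0, Int.ofNat 0, Int.ofNat 0, Int.ofNat 0, Int.ofNat 2, Int.ofNat 0, Int.ofNat 0, Int.ofNat 2, Int.ofNat 0, Int.ofNat 2, Int.ofNat 0, Int.negSucc 1, Int.ofNat 0, Int.ofNat 0],
  [Int.ofNat 0, Int.ofNat 0, Int.ofNat 0, Int.ofNat 2, Int.ofNat 0, Int.ofNat 2, Int.negSucc 1, Int.negSucc 1, Int.ofNat 0, Int.ofNat 0, Int.ofNat 0, Int.ofNat 0, Int.ofNat 0, Int.ofNat 0, Int.ofNat 2, Int.ofNat 0, Int.ofNat 0, Int.ofNat 2, Int.ofNat 0, Int.ofNat 2, Int.ofNat 0, Int.ofNat 2, Int.ofNat 0, Int.ofNat 0],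
  [Int.ofNat 0, Int.ofNat 0, Int.ofNat 0, Int.ofNat 0, Int.ofNat 2, Int.ofNat 0, Int.ofNat 2, Int.negSucc 1, Int.negSucc 1, Int.ofNat 0, Int.ofNat 0, Int.ofNat 0, Int.ofNat 0, Int.ofNat 0, Int.ofNat 0, Int.ofNat 2, Int.ofNat 0, Int.ofNat 0, Int.ofNat 2, Int.ofNat 0, Int.ofNat 2, Int.ofNat 0, Int.ofNat 2, Int.ofNat 0],
  [Int.ofNat 0, Int.ofNat 0, Int.ofNat 0, Int.ofNat 0, Int.ofNat 0, Int.ofNat 0, Int.ofNat 2, Int.negSucc 1, Int.negSucc 1, Int.negSucc 1, Int.negSucc 1, Int.ofNat 0, Int.ofNat 0, Int.negSucc 1, Int.ofNat 0, Int.ofNat 0, Int.negSucc 1, Int.ofNat 0, Int.ofNat 2, Int.ofNat 0, Int.ofNat 0, Int.ofNat 0, Int.ofNat 0, Int.ofNat 0],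
  [Int.ofNat 0, Int.ofNat 0, Int.ofNat 0, Int.ofNat 2, Int.negSucc 1, Int.negSucc 1, Int.negSucc 1, Int.negSucc 1, Int.ofNat 0, Int.ofNat 0, Int.negSucc 1, Int.ofNat 0, Int.ofNat 0, Int.negSucc 1, Int.ofNat 0, Int.ofNat 2, Int.ofNat 0, Int.ofNat 0, Int.ofNat 0, Int.ofNat 0, Int.ofNat 0, Int.ofNat 0, Int.ofNat 0, Int.ofNat 0],
  [Int.ofNat 0, Int.ofNat 0, Int.ofNat 0, Int.ofNat 2, Int.ofNat 0, Int.negSucc 1, Int.ofNat 0, Int.ofNat 0, Int.ofNat 0, Int.ofNat 0, Int.negSucc 1, Int.ofNat 0, Int.ofNat 0, Int.ofNat 0, Int.ofNat 0, Int.ofNat 2, Int.ofNat 2, Int.ofNat 0, Int.ofNat 0, Int.ofNat 2, Int.ofNat 0, Int.ofNat 2, Int.ofNat 2, Int.ofNat 0],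
  [Int.ofNat 0, Int.ofNat 0, Int.ofNat 0, Int.ofNat 2, Int.ofNat 0, Int.ofNat 0, Int.ofNat 0, Int.negSucc 1, Int.ofNat 0, Int.ofNat 0, Int.ofNat 0, Int.ofNat 0, Int.ofNat 0, Int.ofNat 2, Int.ofNat 2, Int.ofNat 2, Int.ofNat 0, Int.ofNat 0, Int.ofNat 0, Int.ofNat 0, Int.ofNat 2, Int.negSucc 1, Int.ofNat 2, Int.ofNat 0],
  [Int.ofNat 0, Int.ofNat 0, Int.ofNat 0, Int.ofNat 0, Int.negSucc 1, Int.negSucc 1, Int.ofNat 2, Int.ofNat 0, Int.ofNat 0, Int.negSucc 1, Int.negSucc 1, Int.ofNat 0, Int.ofNat 0, Int.ofNat 0, Int.ofNat 0, Int.ofNat 0, Int.negSucc 1, Int.negSucc 1, Int.ofNat 0, Int.ofNat 2, Int.ofNat 0, Int.ofNat 0, Int.ofNat 0, Int.ofNat 0],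
  [Int.ofNat 0, Int.ofNat 0, Int.ofNat 0, Int.ofNat 0, Int.negSucc 1, Int.ofNat 2, Int.negSucc 1, Int.ofNat 0, Int.ofNat 0, Int.ofNat 2, Int.ofNat 2, Int.ofNat 0, Int.ofNat 0, Int.ofNat 0, Int.ofNat 0, Int.ofNat 0, Int.negSucc 1, Int.negSucc 1, Int.ofNat 0, Int.ofNat 2, Int.ofNat 0, Int.ofNat 0, Int.ofNat 0, Int.ofNat 0],
  [Int.ofNat 0, Int.ofNat 0, Int.negSucc 1, Int.ofNat 2, Int.ofNat 0, Int.ofNat 0, Int.negSucc 1, Int.ofNat 0, Int.ofNat 0, Int.ofNat 0, Int.ofNat 0, Int.ofNat 0, Int.ofNat 0, Int.ofNat 0, Int.negSucc 1, Int.ofNat 0, Int.ofNat 0, Int.ofNat 2, Int.negSucc 1, Int.ofNat 0, Int.ofNat 2, Int.ofNat 0, Int.ofNat 2, Int.ofNat 0],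
  [Int.ofNat 0, Int.ofNat 0, Int.ofNat 2, Int.ofNat 2, Int.ofNat 0, Int.ofNat 0, Int.ofNat 2, Int.ofNat 0, Int.ofNat 0, Int.ofNat 0, Int.ofNat 0, Int.ofNat 0, Int.ofNat 0, Int.ofNat 0, Int.negSucc 1, Int.ofNat 0, Int.ofNat 0, Int.ofNat 2, Int.ofNat 2, Int.ofNat 0, Int.ofNat 2, Int.ofNat 0, Int.negSucc 1, Int.ofNat 0],
  [Int.ofNat 1, Int.ofNat 1, Int.negSucc 0, Int.ofNat 1, Int.ofNat 1, Int.negSucc 0, Int.ofNat 1, Int.negSucc 0, Int.negSucc 0, Int.negSucc 0, Int.negSucc 0, Int.negSucc 0, Int.negSucc 0, Int.ofNat 1, Int.negSucc 2, Int.negSucc 0, Int.ofNat 1, Int.ofNat 1, Int.ofNat 1, Int.negSucc 0, Int.ofNat 1, Int.negSucc 0, Int.negSucc 0, Int.ofNat 1],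
  [Int.ofNat 1, Int.ofNat 1, Int.ofNat 1, Int.ofNat 1, Int.negSucc 0, Int.negSucc 0, Int.ofNat 1, Int.negSucc 0, Int.ofNat 1, Int.negSucc 0, Int.negSucc 0, Int.negSucc 0, Int.negSucc 0, Int.negSucc 0, Int.ofNat 1, Int.negSucc 0, Int.ofNat 1, Int.negSucc 0, Int.ofNat 1, Int.negSucc 0, Int.negSucc 0, Int.ofNat 1, Int.negSucc 2, Int.ofNat 1],
  [Int.ofNat 1, Int.ofNat 1, Int.ofNat 1, Int.ofNat 1, Int.ofNat 1, Int.negSucc 0, Int.ofNat 1, Int.negSucc 0, Int.ofNat 1, Int.ofNat 1, Int.ofNat 1, Int.negSucc 0, Int.negSucc 0, Int.ofNat 1, Int.ofNat 1, Int.ofNat 1, Int.ofNat 3, Int.negSucc 0, Int.ofNat 1, Int.negSucc 0, Int.ofNat 1, Int.ofNat 1, Int.negSucc 0, Int.ofNat 1],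
  [Int.ofNat 1, Int.ofNat 1, Int.negSucc 0, Int.ofNat 1, Int.ofNat 1, Int.ofNat 1, Int.ofNat 1, Int.ofNat 1, Int.negSucc 0, Int.ofNat 1, Int.negSucc 0, Int.ofNat 1, Int.ofNat 1, Int.ofNat 1, Int.negSucc 0, Int.negSucc 0, Int.ofNat 1, Int.ofNat 1, Int.ofNat 1, Int.ofNat 3, Int.negSucc 0, Int.ofNat 1, Int.negSucc 0, Int.ofNat 1],
  [Int.ofNat 0, Int.ofNat 0, Int.ofNat 2, Int.ofNat 0, Int.ofNat 0, Int.ofNat 0, Int.negSucc 1, Int.negSucc 1, Int.negSucc 1, Int.ofNat 2, Int.ofNat 0, Int.ofNat 0, Int.ofNat 0, Int.ofNat 0, Int.negSucc 1, Int.ofNat 0, Int.ofNat 0, Int.ofNat 0, Int.ofNat 0, Int.ofNat 0, Int.ofNat 0, Int.negSucc 1, Int.negSucc 1, Int.ofNat 0],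
  [Int.ofNat 0, Int.ofNat 2, Int.ofNat 0, Int.ofNat 0, Int.ofNat 0, Int.negSucc 1, Int.negSucc 1, Int.negSucc 1, Int.ofNat 2, Int.ofNat 0, Int.ofNat 0, Int.ofNat 0, Int.ofNat 0, Int.negSucc 1, Int.ofNat 0, Int.ofNat 0, Int.ofNat 0, Int.ofNat 0, Int.ofNat 0, Int.ofNat 0, Int.negSucc 1, Int.negSucc 1, Int.ofNat 0, Int.ofNat 0],
  [Int.ofNat 0, Int.ofNat 2, Int.ofNat 0, Int.ofNat 0, Int.ofNat 0, Int.negSucc 1, Int.negSucc 1, Int.ofNat 2, Int.ofNat 2, Int.ofNat 0, Int.ofNat 0, Int.ofNat 0, Int.ofNat 0, Int.negSucc 1, Int.ofNat 0, Int.ofNat 0, Int.ofNat 0, Int.ofNat 0, Int.ofNat 0, Int.ofNat 0, Int.negSucc 1, Int.ofNat 2, Int.ofNat 0, Int.ofNat 0],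
  [Int.ofNat 0, Int.ofNat 0, Int.ofNat 0, Int.ofNat 0, Int.ofNat 2, Int.ofNat 0, Int.ofNat 0, Int.negSucc 1, Int.ofNat 0, Int.ofNat 0, Int.ofNat 2, Int.ofNat 0, Int.negSucc 1, Int.ofNat 2, Int.ofNat 0, Int.ofNat 0, Int.ofNat 0, Int.ofNat 0, Int.negSucc 1, Int.ofNat 0, Int.negSucc 1, Int.ofNat 2, Int.ofNat 0, Int.ofNat 0],
  [Int.ofNat 0, Int.ofNat 0, Int.ofNat 0, Int.ofNat 0, Int.ofNat 2, Int.ofNat 0, Int.ofNat 0, Int.ofNat 2, Int.ofNat 0, Int.ofNat 0, Int.negSucc 1, Int.ofNat 0, Int.negSucc 1, Int.ofNat 2, Int.ofNat 0, Int.ofNat 0, Int.ofNat 0, Int.ofNat 0, Int.ofNat 2, Int.ofNat 0, Int.negSucc 1, Int.negSucc 1, Int.ofNat 0, Int.ofNat 0],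
  [Int.ofNat 0, Int.ofNat 0, Int.ofNat 0, Int.ofNat 0, Int.ofNat 0, Int.ofNat 2, Int.ofNat 0, Int.ofNat 0, Int.ofNat 2, Int.ofNat 0, Int.ofNat 0, Int.negSucc 1, Int.ofNat 0, Int.negSucc 1, Int.ofNat 2, Int.ofNat 0, Int.ofNat 0, Int.ofNat 0, Int.ofNat 0, Int.ofNat 2, Int.ofNat 0, Int.negSucc 1, Int.negSucc 1, Int.ofNat 0],
  [Int.ofNat 0, Int.ofNat 0, Int.ofNat 0, Int.negSucc 1, Int.ofNat 2, Int.ofNat 0, Int.ofNat 0, Int.ofNat 0, Int.ofNat 2, Int.ofNat 0, Int.ofNat 0, Int.negSucc 1, Int.ofNat 0, Int.ofNat 0, Int.ofNat 0, Int.ofNat 0, Int.ofNat 2, Int.negSucc 1, Int.ofNat 0, Int.ofNat 2, Int.ofNat 0, Int.negSucc 1, Int.ofNat 0, Int.ofNat 0],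
  [Int.negSucc 1, Int.ofNat 2, Int.ofNat 0, Int.ofNat 0, Int.ofNat 0, Int.ofNat 2, Int.ofNat 0, Int.ofNat 0, Int.negSucc 1, Int.ofNat 0, Int.ofNat 0, Int.ofNat 0, Int.ofNat 0, Int.ofNat 2, Int.negSucc 1, Int.ofNat 0, Int.ofNat 2, Int.ofNat 0, Int.negSucc 1, Int.ofNat 0, Int.ofNat 0, Int.ofNat 0, Int.ofNat 0, Int.ofNat 0],
  [Int.ofNat 2, Int.negSucc 1, Int.ofNat 0, Int.ofNat 0, Int.negSucc 1, Int.ofNat 2, Int.ofNat 0, Int.ofNat 0, Int.ofNat 0, Int.ofNat 0, Int.ofNat 0, Int.ofNat 2, Int.ofNat 2, Int.ofNat 0, Int.negSucc 1, Int.ofNat 0, Int.ofNat 0, Int.ofNat 0, Int.ofNat 0, Int.ofNat 0, Int.ofNat 0, Int.ofNat 0, Int.negSucc 1, Int.ofNat 0],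
  [Int.ofNat 2, Int.ofNat 0, Int.negSucc 1, Int.ofNat 0, Int.ofNat 0, Int.ofNat 0, Int.ofNat 0, Int.ofNat 0, Int.ofNat 2, Int.ofNat 0, Int.ofNat 0, Int.ofNat 0, Int.ofNat 0, Int.ofNat 0, Int.negSucc 1, Int.ofNat 0, Int.ofNat 0, Int.negSucc 1, Int.negSucc 1, Int.ofNat 2, Int.ofNat 0, Int.ofNat 2, Int.ofNat 0, Int.ofNat 0],
  [Int.negSucc 1, Int.ofNat 0, Int.ofNat 2, Int.ofNat 2, Int.ofNat 0, Int.ofNat 2, Int.negSucc 1, Int.negSucc 1, Int.ofNat 2, Int.ofNat 0, Int.ofNat 0, Int.ofNat 0, Int.ofNat 0, Int.ofNat 0, Int.ofNat 0, Int.ofNat 0, Int.ofNat 0, Int.ofNat 0, Int.negSucc 1, Int.ofNat 0, Int.ofNat 0, Int.ofNat 0, Int.ofNat 0, Int.ofNat 0],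
  [Int.negSucc 1, Int.ofNat 0, Int.negSucc 1, Int.ofNat 2, Int.ofNat 0, Int.negSucc 1, Int.ofNat 2, Int.negSucc 1, Int.ofNat 2, Int.ofNat 0, Int.ofNat 0, Int.ofNat 0, Int.ofNat 0, Int.ofNat 0, Int.ofNat 0, Int.ofNat 0, Int.ofNat 0, Int.ofNat 0, Int.ofNat 2, Int.ofNat 0, Int.ofNat 0, Int.ofNat 0, Int.ofNat 0, Int.ofNat 0],
  [Int.ofNat 0, Int.ofNat 0, Int.ofNat 0, Int.ofNat 2, Int.ofNat 0, Int.ofNat 2, Int.ofNat 0, Int.ofNat 2, Int.negSucc 1, Int.ofNat 0, Int.ofNat 0, Int.negSucc 1, Int.ofNat 0, Int.ofNat 0, Int.ofNat 0, Int.ofNat 2, Int.ofNat 0, Int.ofNat 0, Int.ofNat 0, Int.negSucc 1, Int.negSucc 1, Int.ofNat 0, Int.ofNat 0, Int.ofNat 0],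
  [Int.ofNat 0, Int.ofNat 0, Int.ofNat 0, Int.negSucc 1, Int.ofNat 0, Int.ofNat 2, Int.ofNat 0, Int.ofNat 2, Int.ofNat 2, Int.ofNat 0, Int.ofNat 0, Int.negSucc 1, Int.ofNat 0, Int.ofNat 0, Int.ofNat 0, Int.ofNat 2, Int.ofNat 0, Int.ofNat 0, Int.ofNat 0, Int.negSucc 1, Int.negSucc 1, Int.ofNat 0, Int.ofNat 0, Int.ofNat 0],
  [Int.ofNat 0, Int.ofNat 0, Int.negSucc 1, Int.ofNat 2, Int.ofNat 0, Int.ofNat 0, Int.negSucc 1, Int.ofNat 0, Int.negSucc 1, Int.ofNat 2, Int.ofNat 0, Int.ofNat 0, Int.ofNat 0, Int.ofNat 2, Int.ofNat 0, Int.negSucc 1, Int.ofNat 0, Int.ofNat 0, Int.ofNat 0, Int.ofNat 0, Int.ofNat 2, Int.ofNat 0, Int.ofNat 0, Int.ofNat 0],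
  [Int.ofNat 0, Int.ofNat 0, Int.ofNat 2, Int.ofNat 2, Int.ofNat 0, Int.ofNat 0, Int.negSucc 1, Int.ofNat 0, Int.negSucc 1, Int.negSucc 1, Int.ofNat 0, Int.ofNat 0, Int.ofNat 0, Int.ofNat 2, Int.ofNat 0, Int.negSucc 1, Int.ofNat 0, Int.ofNat 0, Int.ofNat 0, Int.ofNat 0, Int.ofNat 2, Int.ofNat 0, Int.ofNat 0, Int.ofNat 0],
  [Int.ofNat 0, Int.ofNat 0, Int.ofNat 0, Int.ofNat 2, Int.ofNat 2, Int.ofNat 0, Int.ofNat 0, Int.negSucc 1, Int.ofNat 0, Int.negSucc 1, Int.negSucc 1, Int.ofNat 0, Int.ofNat 0, Int.ofNat 0, Int.ofNat 2, Int.ofNat 0, Int.negSucc 1, Int.ofNat 0, Int.ofNat 0, Int.ofNat 0, Int.ofNat 0, Int.ofNat 2, Int.ofNat 0, Int.ofNat 0],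
  [Int.ofNat 0, Int.ofNat 0, Int.ofNat 0, Int.ofNat 0, Int.ofNat 2, Int.negSucc 1, Int.ofNat 0, Int.negSucc 1, Int.ofNat 0, Int.ofNat 0, Int.ofNat 0, Int.ofNat 0, Int.ofNat 0, Int.ofNat 0, Int.ofNat 0, Int.ofNat 2, Int.negSucc 1, Int.negSucc 1, Int.ofNat 0, Int.ofNat 0, Int.ofNat 2, Int.ofNat 2, Int.ofNat 0, Int.ofNat 0],
  [Int.ofNat 0, Int.ofNat 2, Int.negSucc 1, Int.ofNat 0, Int.negSucc 1, Int.ofNat 0, Int.ofNat 0, Int.ofNat 0, Int.ofNat 0, Int.ofNat 0, Int.ofNat 0, Int.ofNat 0, Int.ofNat 2, Int.negSucc 1, Int.negSucc 1, Int.ofNat 0, Int.ofNat 0, Int.ofNat 2, Int.ofNat 2, Int.ofNat 0, Int.ofNat 0, Int.ofNat 0, Int.ofNat 0, Int.ofNat 0],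
  [Int.ofNat 0, Int.negSucc 1, Int.ofNat 2, Int.ofNat 0, Int.ofNat 0, Int.ofNat 0, Int.ofNat 0, Int.ofNat 0, Int.negSucc 1, Int.ofNat 0, Int.ofNat 0, Int.negSucc 1, Int.ofNat 0, Int.ofNat 0, Int.negSucc 1, Int.ofNat 0, Int.ofNat 2, Int.ofNat 2, Int.ofNat 0, Int.ofNat 0, Int.ofNat 0, Int.ofNat 0, Int.ofNat 2, Int.ofNat 0],
  [Int.ofNat 0, Int.ofNat 0, Int.ofNat 0, Int.ofNat 0, Int.ofNat 0, Int.ofNat 0, Int.ofNat 2, Int.ofNat 0, Int.ofNat 0, Int.ofNat 0, Int.ofNat 0, Int.ofNat 2, Int.ofNat 0, Int.ofNat 2, Int.ofNat 2, Int.ofNat 0, Int.negSucc 1, Int.negSucc 1, Int.negSucc 1, Int.negSucc 1, Int.ofNat 0, Int.ofNat 0, Int.ofNat 0, Int.ofNat 0],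
  [Int.ofNat 0, Int.ofNat 0, Int.ofNat 0, Int.ofNat 0, Int.ofNat 0, Int.ofNat 0, Int.ofNat 2, Int.ofNat 0, Int.ofNat 0, Int.ofNat 0, Int.ofNat 0, Int.ofNat 2, Int.ofNat 0, Int.ofNat 2, Int.ofNat 2, Int.ofNat 0, Int.negSucc 1, Int.negSucc 1, Int.negSucc 1, Int.negSucc 1, Int.ofNat 0, Int.ofNat 0, Int.ofNat 0, Int.ofNat 0],
  [Int.ofNat 0, Int.ofNat 0, Int.ofNat 0, Int.ofNat 0, Int.ofNat 0, Int.ofNat 0, Int.negSucc 1, Int.ofNat 0, Int.ofNat 0, Int.ofNat 0, Int.ofNat 0, Int.ofNat 2, Int.ofNat 0, Int.ofNat 2, Int.ofNat 2, Int.ofNat 0, Int.negSucc 1, Int.negSucc 1, Int.ofNat 2, Int.negSucc 1, Int.ofNat 0, Int.ofNat 0, Int.ofNat 0, Int.ofNat 0],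
  [Int.ofNat 0, Int.ofNat 0, Int.negSucc 1, Int.negSucc 1, Int.ofNat 0, Int.ofNat 0, Int.negSucc 1, Int.ofNat 0, Int.ofNat 0, Int.ofNat 2, Int.ofNat 0, Int.ofNat 0, Int.ofNat 0, Int.ofNat 0, Int.ofNat 0, Int.ofNat 0, Int.ofNat 2, Int.ofNat 0, Int.negSucc 1, Int.ofNat 2, Int.ofNat 0, Int.ofNat 2, Int.ofNat 0, Int.ofNat 0],
  [Int.ofNat 0, Int.ofNat 0, Int.ofNat 2, Int.negSucc 1, Int.ofNat 0, Int.ofNat 0, Int.ofNat 2, Int.ofNat 0, Int.ofNat 0, Int.negSucc 1, Int.ofNat 0, Int.ofNat 0, Int.ofNat 0, Int.ofNat 0, Int.ofNat 0, Int.ofNat 0, Int.ofNat 2, Int.ofNat 0, Int.ofNat 2, Int.ofNat 2, Int.ofNat 0, Int.ofNat 2, Int.ofNat 0, Int.ofNat 0],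
  [Int.ofNat 1, Int.ofNat 1, Int.negSucc 0, Int.negSucc 0, Int.negSucc 0, Int.ofNat 1, Int.negSucc 0, Int.negSucc 2, Int.negSucc 0, Int.negSucc 0, Int.ofNat 1, Int.negSucc 0, Int.negSucc 0, Int.negSucc 0, Int.ofNat 1, Int.ofNat 1, Int.ofNat 1, Int.ofNat 1, Int.ofNat 1, Int.negSucc 0, Int.ofNat 1, Int.negSucc 0, Int.negSucc 0, Int.ofNat 1],
  [Int.ofNat 1, Int.ofNat 1, Int.negSucc 0, Int.negSucc 0, Int.negSucc 0, Int.negSucc 0, Int.ofNat 1, Int.ofNat 1, Int.ofNat 1, Int.negSucc 0, Int.negSucc 2, Int.negSucc 0, Int.negSucc 0, Int.negSucc 0, Int.ofNat 1, Int.ofNat 1, Int.negSucc 0, Int.negSucc 0, Int.negSucc 0, Int.negSucc 0, Int.ofNat 1, Int.ofNat 1, Int.ofNat 1, Int.ofNat 1],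
  [Int.ofNat 0, Int.ofNat 0, Int.ofNat 2, Int.ofNat 0, Int.ofNat 0, Int.ofNat 0, Int.ofNat 0, Int.ofNat 0, Int.ofNat 2, Int.ofNat 0, Int.negSucc 1, Int.ofNat 0, Int.ofNat 0, Int.ofNat 0, Int.ofNat 2, Int.ofNat 2, Int.ofNat 0, Int.ofNat 0, Int.ofNat 0, Int.negSucc 1, Int.ofNat 2, Int.ofNat 0, Int.ofNat 2, Int.ofNat 0],
  [Int.ofNat 2, Int.ofNat 0, Int.ofNat 2, Int.ofNat 0, Int.ofNat 0, Int.ofNat 2, Int.ofNat 0, Int.ofNat 0, Int.ofNat 0, Int.ofNat 0, Int.ofNat 0, Int.ofNat 2, Int.ofNat 0, Int.negSucc 1, Int.ofNat 0, Int.ofNat 0, Int.ofNat 0, Int.ofNat 2, Int.ofNat 2, Int.ofNat 0, Int.ofNat 0, Int.ofNat 0, Int.negSucc 1, Int.ofNat 0],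
  [Int.ofNat 0, Int.ofNat 2, Int.ofNat 0, Int.negSucc 1, Int.ofNat 2, Int.ofNat 0, Int.ofNat 0, Int.ofNat 0, Int.negSucc 1, Int.ofNat 0, Int.ofNat 0, Int.ofNat 0, Int.negSucc 1, Int.ofNat 0, Int.negSucc 1, Int.ofNat 0, Int.ofNat 2, Int.ofNat 0, Int.ofNat 0, Int.ofNat 0, Int.ofNat 0, Int.ofNat 0, Int.ofNat 0, Int.ofNat 2],
  [Int.ofNat 2, Int.ofNat 0, Int.negSucc 1, Int.ofNat 2, Int.ofNat 0, Int.ofNat 0, Int.ofNat 0, Int.negSucc 1, Int.ofNat 0, Int.ofNat 0, Int.ofNat 0, Int.negSucc 1, Int.ofNat 0, Int.negSucc 1, Int.ofNat 0, Int.ofNat 2, Int.ofNat 0, Int.ofNat 0, Int.ofNat 0, Int.ofNat 0, Int.ofNat 0, Int.ofNat 0, Int.ofNat 0, Int.ofNat 2],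
  [Int.negSucc 1, Int.ofNat 0, Int.ofNat 2, Int.ofNat 2, Int.ofNat 0, Int.ofNat 0, Int.ofNat 0, Int.ofNat 2, Int.ofNat 0, Int.ofNat 0, Int.ofNat 0, Int.ofNat 2, Int.ofNat 0, Int.negSucc 1, Int.ofNat 0, Int.ofNat 2, Int.ofNat 0, Int.ofNat 0, Int.ofNat 0, Int.ofNat 0, Int.ofNat 0, Int.ofNat 0, Int.ofNat 0, Int.ofNat 2],
  [Int.negSucc 1, Int.ofNat 2, Int.ofNat 0, Int.ofNat 2, Int.ofNat 0, Int.ofNat 0, Int.ofNat 0, Int.ofNat 0, Int.ofNat 0, Int.ofNat 0, Int.ofNat 0, Int.ofNat 0, Int.negSucc 1, Int.ofNat 0, Int.ofNat 0, Int.ofNat 2, Int.ofNat 0, Int.ofNat 0, Int.ofNat 0, Int.ofNat 0, Int.ofNat 0, Int.ofNat 2, Int.ofNat 2, Int.ofNat 2],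
  [Int.ofNat 2, Int.ofNat 2, Int.ofNat 0, Int.ofNat 2, Int.ofNat 0, Int.ofNat 0, Int.ofNat 0, Int.ofNat 0, Int.ofNat 0, Int.ofNat 0, Int.ofNat 0, Int.ofNat 0, Int.negSucc 1, Int.ofNat 0, Int.ofNat 0, Int.ofNat 2, Int.ofNat 0, Int.ofNat 0, Int.ofNat 0, Int.ofNat 0, Int.ofNat 0, Int.negSucc 1, Int.ofNat 2, Int.ofNat 2],
  [Int.ofNat 2, Int.ofNat 2, Int.ofNat 2, Int.ofNat 0, Int.ofNat 2, Int.ofNat 0, Int.ofNat 0, Int.ofNat 0, Int.ofNat 0, Int.ofNat 0, Int.ofNat 0, Int.ofNat 0, Int.ofNat 0, Int.negSucc 1, Int.ofNat 0, Int.ofNat 0, Int.ofNat 2, Int.ofNat 0, Int.ofNat 0, Int.ofNat 0, Int.ofNat 0, Int.ofNat 0, Int.negSucc 1, Int.ofNat 2],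
  [Int.ofNat 2, Int.ofNat 2, Int.ofNat 2, Int.ofNat 0, Int.ofNat 2, Int.ofNat 0, Int.ofNat 0, Int.ofNat 0, Int.ofNat 0, Int.ofNat 0, Int.ofNat 0, Int.ofNat 0, Int.ofNat 0, Int.negSucc 1, Int.ofNat 0, Int.ofNat 0, Int.ofNat 2, Int.ofNat 0, Int.ofNat 0, Int.ofNat 0, Int.ofNat 0, Int.ofNat 0, Int.negSucc 1, Int.ofNat 2],
  [Int.ofNat 0, Int.ofNat 2, Int.ofNat 0, Int.ofNat 0, Int.ofNat 0, Int.ofNat 0, Int.ofNat 0, Int.ofNat 0, Int.ofNat 0, Int.ofNat 0, Int.negSucc 1, Int.ofNat 0, Int.ofNat 0, Int.ofNat 2, Int.ofNat 0, Int.ofNat 0, Int.ofNat 0, Int.ofNat 0, Int.ofNat 0, Int.negSucc 1, Int.ofNat 2, Int.ofNat 2, Int.ofNat 2, Int.ofNat 2],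
  [Int.ofNat 2, Int.ofNat 0, Int.ofNat 2, Int.ofNat 0, Int.negSucc 1, Int.ofNat 0, Int.ofNat 0, Int.ofNat 0, Int.ofNat 0, Int.ofNat 0, Int.negSucc 1, Int.ofNat 0, Int.ofNat 0, Int.ofNat 0, Int.ofNat 0, Int.ofNat 0, Int.negSucc 1, Int.ofNat 0, Int.ofNat 0, Int.negSucc 1, Int.ofNat 2, Int.ofNat 2, Int.ofNat 0, Int.ofNat 0],
  [Int.ofNat 2, Int.ofNat 0, Int.negSucc 1, Int.ofNat 0, Int.ofNat 0, Int.ofNat 0, Int.ofNat 2, Int.negSucc 1, Int.ofNat 0, Int.ofNat 0, Int.ofNat 2, Int.ofNat 0, Int.ofNat 0, Int.negSucc 1, Int.ofNat 0, Int.ofNat 0, Int.ofNat 0, Int.ofNat 0, Int.ofNat 0, Int.ofNat 0, Int.ofNat 2, Int.ofNat 0, Int.negSucc 1, Int.ofNat 0],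
  [Int.negSucc 1, Int.ofNat 0, Int.ofNat 2, Int.ofNat 0, Int.ofNat 2, Int.ofNat 0, Int.ofNat 2, Int.negSucc 1, Int.ofNat 0, Int.negSucc 1, Int.ofNat 0, Int.ofNat 0, Int.ofNat 0, Int.ofNat 0, Int.ofNat 0, Int.negSucc 1, Int.ofNat 2, Int.ofNat 0, Int.ofNat 0, Int.ofNat 0, Int.ofNat 0, Int.ofNat 0, Int.ofNat 0, Int.ofNat 0],
  [Int.negSucc 1, Int.ofNat 0, Int.negSucc 1, Int.ofNat 0, Int.ofNat 2, Int.ofNat 0, Int.negSucc 1, Int.negSucc 1, Int.ofNat 0, Int.ofNat 2, Int.ofNat 0, Int.ofNat 0, Int.ofNat 0, Int.ofNat 0, Int.ofNat 0, Int.ofNat 2, Int.ofNat 2, Int.ofNat 0, Int.ofNat 0, Int.ofNat 0, Int.ofNat 0, Int.ofNat 0, Int.ofNat 0, Int.ofNat 0],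
  [Int.ofNat 0, Int.ofNat 2, Int.ofNat 0, Int.ofNat 0, Int.ofNat 0, Int.negSucc 1, Int.ofNat 0, Int.ofNat 0, Int.ofNat 0, Int.ofNat 0, Int.ofNat 0, Int.negSucc 1, Int.ofNat 2, Int.ofNat 2, Int.ofNat 0, Int.ofNat 0, Int.ofNat 0, Int.ofNat 0, Int.ofNat 2, Int.negSucc 1, Int.negSucc 1, Int.ofNat 0, Int.ofNat 0, Int.ofNat 0],
  [Int.ofNat 0, Int.negSucc 1, Int.ofNat 0, Int.ofNat 0, Int.ofNat 0, Int.negSucc 1, Int.ofNat 0, Int.ofNat 0, Int.ofNat 0, Int.ofNat 0, Int.ofNat 0, Int.negSucc 1, Int.negSucc 1, Int.negSucc 1, Int.ofNat 0, Int.ofNat 0, Int.ofNat 0, Int.ofNat 0, Int.negSucc 1, Int.negSucc 1, Int.negSucc 1, Int.ofNat 0, Int.ofNat 0, Int.ofNat 0],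
  [Int.ofNat 0, Int.ofNat 0, Int.negSucc 1, Int.ofNat 0, Int.ofNat 0, Int.ofNat 0, Int.negSucc 1, Int.negSucc 1, Int.negSucc 1, Int.negSucc 1, Int.ofNat 0, Int.ofNat 0, Int.ofNat 0, Int.ofNat 0, Int.negSucc 1, Int.ofNat 0, Int.ofNat 0, Int.ofNat 0, Int.ofNat 0, Int.ofNat 0, Int.ofNat 0, Int.negSucc 1, Int.negSucc 1, Int.ofNat 0],
  [Int.ofNat 0, Int.ofNat 0, Int.ofNat 2, Int.ofNat 0, Int.ofNat 0, Int.ofNat 0, Int.negSucc 1, Int.ofNat 2, Int.negSucc 1, Int.ofNat 2, Int.ofNat 0, Int.ofNat 0, Int.ofNat 0, Int.ofNat 0, Int.negSucc 1, Int.ofNat 0, Int.ofNat 0, Int.ofNat 0, Int.ofNat 0, Int.ofNat 0, Int.ofNat 0, Int.ofNat 2, Int.negSucc 1, Int.ofNat 0],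
  [Int.negSucc 1, Int.ofNat 0, Int.ofNat 0, Int.ofNat 2, Int.ofNat 0, Int.ofNat 0, Int.ofNat 0, Int.negSucc 1, Int.ofNat 2, Int.negSucc 1, Int.ofNat 2, Int.ofNat 0, Int.ofNat 0, Int.ofNat 0, Int.ofNat 0, Int.negSucc 1, Int.ofNat 0, Int.ofNat 0, Int.ofNat 0, Int.ofNat 0, Int.ofNat 0, Int.ofNat 0, Int.ofNat 2, Int.ofNat 0],
  [Int.ofNat 1, Int.negSucc 0, Int.negSucc 0, Int.ofNat 1, Int.negSucc 0, Int.negSucc 0, Int.ofNat 1, Int.negSucc 0, Int.ofNat 1, Int.negSucc 0, Int.ofNat 3, Int.negSucc 0, Int.negSucc 0, Int.negSucc 0, Int.negSucc 0, Int.negSucc 0, Int.negSucc 0, Int.negSucc 0, Int.negSucc 0, Int.ofNat 1, Int.ofNat 1, Int.ofNat 1, Int.ofNat 1, Int.negSucc 0],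
  [Int.ofNat 1, Int.negSucc 0, Int.negSucc 0, Int.ofNat 1, Int.negSucc 0, Int.ofNat 1, Int.negSucc 0, Int.ofNat 3, Int.negSucc 0, Int.negSucc 0, Int.negSucc 0, Int.negSucc 0, Int.negSucc 0, Int.negSucc 0, Int.negSucc 0, Int.negSucc 0, Int.ofNat 1, Int.ofNat 1, Int.ofNat 1, Int.ofNat 1, Int.ofNat 1, Int.negSucc 0, Int.negSucc 0, Int.negSucc 0],
  [Int.negSucc 1, Int.ofNat 0, Int.ofNat 0, Int.ofNat 0, Int.ofNat 0, Int.ofNat 0, Int.negSucc 1, Int.ofNat 2, Int.ofNat 0, Int.ofNat 0, Int.ofNat 0, Int.ofNat 0, Int.ofNat 0, Int.ofNat 0, Int.negSucc 1, Int.ofNat 0, Int.ofNat 2, Int.ofNat 0, Int.ofNat 2, Int.ofNat 0, Int.ofNat 2, Int.negSucc 1, Int.ofNat 0, Int.ofNat 0],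
  [Int.negSucc 1, Int.negSucc 1, Int.ofNat 0, Int.ofNat 0, Int.ofNat 2, Int.ofNat 2, Int.ofNat 0, Int.ofNat 0, Int.ofNat 0, Int.ofNat 0, Int.ofNat 2, Int.ofNat 0, Int.ofNat 0, Int.ofNat 2, Int.ofNat 0, Int.ofNat 0, Int.ofNat 0, Int.negSucc 1, Int.ofNat 0, Int.ofNat 0, Int.negSucc 1, Int.ofNat 0, Int.ofNat 0, Int.ofNat 0],
  [Int.ofNat 0, Int.ofNat 0, Int.negSucc 1, Int.ofNat 0, Int.ofNat 0, Int.ofNat 2, Int.ofNat 0, Int.ofNat 0, Int.ofNat 0, Int.ofNat 0, Int.ofNat 2, Int.ofNat 0, Int.ofNat 0, Int.ofNat 0, Int.ofNat 0, Int.ofNat 0, Int.negSucc 1, Int.negSucc 1, Int.ofNat 0, Int.ofNat 0, Int.negSucc 1, Int.ofNat 0, Int.negSucc 1, Int.negSucc 1],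
  [Int.ofNat 0, Int.ofNat 0, Int.ofNat 2, Int.ofNat 0, Int.ofNat 0, Int.negSucc 1, Int.ofNat 0, Int.ofNat 0, Int.ofNat 0, Int.ofNat 0, Int.negSucc 1, Int.ofNat 0, Int.ofNat 0, Int.ofNat 0, Int.ofNat 0, Int.ofNat 0, Int.negSucc 1, Int.negSucc 1, Int.ofNat 0, Int.ofNat 0, Int.negSucc 1, Int.ofNat 0, Int.ofNat 2, Int.negSucc 1],
  [Int.ofNat 0, Int.ofNat 0, Int.ofNat 0, Int.ofNat 0, Int.ofNat 2, Int.ofNat 0, Int.negSucc 1, Int.ofNat 0, Int.ofNat 0, Int.ofNat 0, Int.negSucc 1, Int.ofNat 0, Int.ofNat 0, Int.ofNat 2, Int.ofNat 0, Int.ofNat 0, Int.ofNat 0, Int.negSucc 1, Int.negSucc 1, Int.ofNat 0, Int.ofNat 0, Int.ofNat 0, Int.negSucc 1, Int.negSucc 1],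
  [Int.ofNat 0, Int.ofNat 0, Int.ofNat 0, Int.ofNat 0, Int.ofNat 2, Int.ofNat 0, Int.ofNat 2, Int.ofNat 0, Int.ofNat 0, Int.ofNat 0, Int.ofNat 2, Int.ofNat 0, Int.ofNat 0, Int.ofNat 2, Int.ofNat 0, Int.ofNat 0, Int.ofNat 0, Int.negSucc 1, Int.ofNat 2, Int.ofNat 0, Int.ofNat 0, Int.ofNat 0, Int.ofNat 2, Int.negSucc 1],
  [Int.negSucc 0, Int.negSucc 0, Int.negSucc 0, Int.ofNat 1, Int.negSucc 0, Int.ofNat 1, Int.ofNat 1, Int.negSucc 0, Int.negSucc 0, Int.negSucc 0, Int.ofNat 1, Int.negSucc 0, Int.negSucc 0, Int.negSucc 0, Int.ofNat 1, Int.negSucc 0, Int.negSucc 2, Int.negSucc 0, Int.ofNat 1, Int.negSucc 0, Int.negSucc 0, Int.negSucc 0, Int.negSucc 0, Int.ofNat 1],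
  [Int.negSucc 0, Int.ofNat 1, Int.ofNat 1, Int.ofNat 1, Int.negSucc 0, Int.negSucc 0, Int.negSucc 0, Int.ofNat 1, Int.negSucc 2, Int.negSucc 0, Int.negSucc 0, Int.negSucc 0, Int.negSucc 0, Int.negSucc 0, Int.negSucc 0, Int.negSucc 0, Int.negSucc 0, Int.negSucc 0, Int.negSucc 0, Int.negSucc 0, Int.ofNat 1, Int.negSucc 0, Int.ofNat 1, Int.ofNat 1],
  [Int.ofNat 2, Int.ofNat 0, Int.ofNat 0, Int.ofNat 2, Int.ofNat 0, Int.ofNat 0, Int.ofNat 0, Int.ofNat 2, Int.ofNat 0, Int.ofNat 0, Int.ofNat 0, Int.ofNat 2, Int.ofNat 2, Int.ofNat 0, Int.ofNat 0, Int.ofNat 0, Int.ofNat 0, Int.ofNat 0, Int.ofNat 2, Int.ofNat 0, Int.ofNat 2, Int.ofNat 0, Int.ofNat 2, Int.ofNat 0],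
  [Int.ofNat 2, Int.ofNat 0, Int.ofNat 2, Int.ofNat 2, Int.ofNat 0, Int.ofNat 0, Int.ofNat 2, Int.ofNat 0, Int.ofNat 0, Int.ofNat 0, Int.ofNat 2, Int.ofNat 0, Int.ofNat 0, Int.ofNat 0, Int.ofNat 2, Int.ofNat 2, Int.ofNat 0, Int.ofNat 0, Int.ofNat 0, Int.ofNat 0, Int.ofNat 0, Int.ofNat 2, Int.ofNat 0, Int.ofNat 0],
  [Int.ofNat 0, Int.ofNat 2, Int.ofNat 0, Int.ofNat 0, Int.ofNat 0, Int.negSucc 1, Int.ofNat 0, Int.negSucc 1, Int.ofNat 0, Int.negSucc 1, Int.ofNat 0, Int.ofNat 0, Int.ofNat 0, Int.ofNat 0, Int.ofNat 0, Int.ofNat 0, Int.ofNat 0, Int.negSucc 1, Int.ofNat 0, Int.negSucc 1, Int.negSucc 1, Int.ofNat 0, Int.ofNat 0, Int.ofNat 2],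
  [Int.ofNat 2, Int.ofNat 0, Int.ofNat 0, Int.ofNat 0, Int.negSucc 1, Int.ofNat 0, Int.negSucc 1, Int.ofNat 0, Int.negSucc 1, Int.ofNat 0, Int.ofNat 0, Int.ofNat 0, Int.ofNat 0, Int.ofNat 0, Int.ofNat 0, Int.ofNat 0, Int.negSucc 1, Int.ofNat 0, Int.negSucc 1, Int.negSucc 1, Int.ofNat 0, Int.ofNat 0, Int.ofNat 0, Int.ofNat 2],
  [Int.negSucc 1, Int.ofNat 0, Int.ofNat 0, Int.ofNat 0, Int.negSucc 1, Int.ofNat 0, Int.negSucc 1, Int.ofNat 0, Int.negSucc 1, Int.ofNat 0, Int.ofNat 0, Int.ofNat 0, Int.ofNat 0, Int.ofNat 0, Int.ofNat 0, Int.ofNat 0, Int.negSucc 1, Int.ofNat 0, Int.ofNat 2, Int.negSucc 1, Int.ofNat 0, Int.ofNat 0, Int.ofNat 0, Int.ofNat 2],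
  [Int.negSucc 1, Int.ofNat 0, Int.ofNat 2, Int.ofNat 0, Int.ofNat 0, Int.ofNat 0, Int.negSucc 1, Int.ofNat 0, Int.ofNat 0, Int.negSucc 1, Int.ofNat 0, Int.ofNat 0, Int.ofNat 0, Int.negSucc 1, Int.negSucc 1, Int.ofNat 0, Int.ofNat 0, Int.ofNat 0, Int.negSucc 1, Int.ofNat 0, Int.ofNat 0, Int.ofNat 0, Int.ofNat 0, Int.ofNat 2],
  [Int.ofNat 2, Int.ofNat 0, Int.negSucc 1, Int.ofNat 0, Int.ofNat 0, Int.ofNat 0, Int.negSucc 1, Int.ofNat 0, Int.ofNat 0, Int.ofNat 2, Int.ofNat 0, Int.ofNat 0, Int.ofNat 0, Int.negSucc 1, Int.negSucc 1, Int.ofNat 0, Int.ofNat 0, Int.ofNat 0, Int.ofNat 2, Int.ofNat 0, Int.ofNat 0, Int.ofNat 0, Int.ofNat 0, Int.ofNat 2],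
  [Int.ofNat 0, Int.ofNat 2, Int.ofNat 0, Int.negSucc 1, Int.ofNat 0, Int.ofNat 0, Int.ofNat 0, Int.negSucc 1, Int.ofNat 0, Int.ofNat 0, Int.ofNat 2, Int.ofNat 0, Int.ofNat 0, Int.ofNat 0, Int.negSucc 1, Int.negSucc 1, Int.ofNat 0, Int.ofNat 0, Int.ofNat 0, Int.ofNat 2, Int.ofNat 0, Int.ofNat 0, Int.ofNat 0, Int.ofNat 2],
  [Int.ofNat 2, Int.ofNat 0, Int.ofNat 2, Int.ofNat 0, Int.ofNat 0, Int.ofNat 2, Int.ofNat 0, Int.negSucc 1, Int.ofNat 0, Int.ofNat 0, Int.ofNat 2, Int.ofNat 0, Int.ofNat 0, Int.ofNat 0, Int.ofNat 0, Int.negSucc 1, Int.ofNat 0, Int.ofNat 2, Int.ofNat 0, Int.ofNat 2, Int.ofNat 0, Int.ofNat 0, Int.ofNat 0, Int.ofNat 0],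
  [Int.ofNat 0, Int.ofNat 0, Int.ofNat 2, Int.ofNat 0, Int.negSucc 1, Int.ofNat 0, Int.ofNat 0, Int.ofNat 2, Int.ofNat 0, Int.ofNat 0, Int.ofNat 0, Int.ofNat 0, Int.negSucc 1, Int.ofNat 0, Int.ofNat 2, Int.ofNat 0, Int.ofNat 2, Int.ofNat 0, Int.ofNat 0, Int.ofNat 0, Int.ofNat 2, Int.ofNat 0, Int.ofNat 2, Int.ofNat 0],
  [Int.ofNat 1, Int.ofNat 1, Int.negSucc 0, Int.negSucc 0, Int.negSucc 2, Int.negSucc 0, Int.negSucc 0, Int.ofNat 1, Int.ofNat 1, Int.negSucc 0, Int.negSucc 0, Int.ofNat 1, Int.negSucc 0, Int.negSucc 0, Int.ofNat 1, Int.negSucc 0, Int.ofNat 1, Int.negSucc 0, Int.ofNat 1, Int.negSucc 0, Int.ofNat 1, Int.negSucc 0, Int.ofNat 1, Int.ofNat 1],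
  [Int.ofNat 1, Int.negSucc 0, Int.negSucc 2, Int.negSucc 0, Int.ofNat 1, Int.ofNat 1, Int.negSucc 0, Int.negSucc 0, Int.negSucc 0, Int.negSucc 0, Int.ofNat 1, Int.negSucc 0, Int.negSucc 0, Int.ofNat 1, Int.ofNat 1, Int.negSucc 0, Int.ofNat 1, Int.ofNat 1, Int.ofNat 1, Int.ofNat 1, Int.negSucc 0, Int.negSucc 0, Int.negSucc 0, Int.ofNat 1],
  [Int.negSucc 1, Int.ofNat 0, Int.ofNat 2, Int.negSucc 1, Int.ofNat 0, Int.ofNat 0, Int.ofNat 0, Int.ofNat 0, Int.ofNat 0, Int.ofNat 0, Int.ofNat 2, Int.ofNat 0, Int.ofNat 0, Int.ofNat 0, Int.ofNat 0, Int.ofNat 0, Int.ofNat 0, Int.ofNat 0, Int.ofNat 2, Int.ofNat 2, Int.ofNat 0, Int.ofNat 0, Int.negSucc 1, Int.negSucc 1],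
  [Int.negSucc 1, Int.ofNat 0, Int.negSucc 1, Int.negSucc 1, Int.ofNat 0, Int.ofNat 0, Int.ofNat 0, Int.ofNat 0, Int.ofNat 0, Int.ofNat 0, Int.negSucc 1, Int.ofNat 0, Int.ofNat 0, Int.ofNat 0, Int.ofNat 0, Int.ofNat 0, Int.ofNat 0, Int.ofNat 0, Int.negSucc 1, Int.ofNat 2, Int.ofNat 0, Int.ofNat 0, Int.ofNat 2, Int.negSucc 1],
  [Int.negSucc 1, Int.ofNat 0, Int.ofNat 0, Int.ofNat 0, Int.ofNat 0, Int.ofNat 0, Int.ofNat 0, Int.negSucc 1, Int.ofNat 0, Int.ofNat 0, Int.ofNat 0, Int.ofNat 0, Int.ofNat 0, Int.ofNat 0, Int.ofNat 0, Int.negSucc 1, Int.ofNat 2, Int.ofNat 0, Int.ofNat 0, Int.negSucc 1, Int.negSucc 1, Int.ofNat 0, Int.ofNat 2, Int.negSucc 1],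
  [Int.ofNat 2, Int.ofNat 0, Int.ofNat 0, Int.ofNat 0, Int.ofNat 0, Int.ofNat 0, Int.ofNat 0, Int.negSucc 1, Int.ofNat 0, Int.ofNat 0, Int.ofNat 0, Int.ofNat 0, Int.ofNat 0, Int.ofNat 0, Int.ofNat 0, Int.negSucc 1, Int.negSucc 1, Int.ofNat 0, Int.ofNat 0, Int.negSucc 1, Int.negSucc 1, Int.ofNat 0, Int.ofNat 2, Int.negSucc 1],
  [Int.negSucc 1, Int.ofNat 2, Int.ofNat 0, Int.negSucc 1, Int.ofNat 0, Int.ofNat 0, Int.negSucc 1, Int.ofNat 0, Int.negSucc 1, Int.ofNat 0, Int.negSucc 1, Int.ofNat 0, Int.ofNat 0, Int.negSucc 1, Int.ofNat 0, Int.ofNat 0, Int.ofNat 0, Int.ofNat 0, Int.ofNat 0, Int.ofNat 0, Int.ofNat 0, Int.ofNat 0, Int.ofNat 0, Int.ofNat 2],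
  [Int.ofNat 2, Int.ofNat 2, Int.ofNat 0, Int.negSucc 1, Int.ofNat 0, Int.ofNat 0, Int.negSucc 1, Int.ofNat 0, Int.negSucc 1, Int.ofNat 0, Int.ofNat 2, Int.ofNat 0, Int.ofNat 0, Int.negSucc 1, Int.ofNat 0, Int.ofNat 0, Int.ofNat 0, Int.ofNat 0, Int.ofNat 0, Int.ofNat 0, Int.ofNat 0, Int.ofNat 0, Int.ofNat 0, Int.ofNat 2],
  [Int.ofNat 0, Int.ofNat 2, Int.ofNat 2, Int.ofNat 0, Int.negSucc 1, Int.ofNat 0, Int.ofNat 0, Int.negSucc 1, Int.ofNat 0, Int.negSucc 1, Int.ofNat 0, Int.ofNat 2, Int.ofNat 0, Int.ofNat 0, Int.negSucc 1, Int.ofNat 0, Int.ofNat 0, Int.ofNat 0, Int.ofNat 0, Int.ofNat 0, Int.ofNat 0, Int.ofNat 0, Int.ofNat 0, Int.ofNat 2],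
  [Int.ofNat 3, Int.ofNat 1, Int.ofNat 1, Int.ofNat 1, Int.negSucc 0, Int.ofNat 1, Int.ofNat 1, Int.negSucc 0, Int.negSucc 0, Int.negSucc 0, Int.ofNat 1, Int.ofNat 1, Int.negSucc 0, Int.ofNat 1, Int.negSucc 0, Int.ofNat 1, Int.ofNat 1, Int.ofNat 1, Int.negSucc 0, Int.ofNat 1, Int.ofNat 1, Int.ofNat 1, Int.ofNat 1, Int.ofNat 1],
  [Int.ofNat 1, Int.negSucc 0, Int.ofNat 1, Int.ofNat 1, Int.negSucc 0, Int.negSucc 0, Int.negSucc 0, Int.ofNat 1, Int.ofNat 1, Int.negSucc 0, Int.ofNat 1, Int.negSucc 0, Int.ofNat 1, Int.ofNat 1, Int.ofNat 1, Int.negSucc 0, Int.ofNat 1, Int.ofNat 1, Int.ofNat 1, Int.ofNat 1, Int.ofNat 3, Int.ofNat 1, Int.ofNat 1, Int.ofNat 1],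
  [Int.ofNat 0, Int.ofNat 2, Int.ofNat 0, Int.ofNat 0, Int.negSucc 1, Int.negSucc 1, Int.negSucc 1, Int.ofNat 0, Int.ofNat 0, Int.negSucc 1, Int.ofNat 0, Int.negSucc 1, Int.ofNat 0, Int.ofNat 0, Int.ofNat 0, Int.negSucc 1, Int.ofNat 0, Int.ofNat 0, Int.ofNat 0, Int.ofNat 0, Int.ofNat 2, Int.ofNat 0, Int.ofNat 0, Int.ofNat 0],
  [Int.ofNat 0, Int.negSucc 1, Int.negSucc 1, Int.ofNat 0, Int.ofNat 0, Int.ofNat 0, Int.ofNat 0, Int.ofNat 0, Int.ofNat 0, Int.ofNat 0, Int.ofNat 2, Int.ofNat 0, Int.negSucc 1, Int.ofNat 0, Int.ofNat 0, Int.negSucc 1, Int.ofNat 0, Int.ofNat 0, Int.ofNat 2, Int.negSucc 1, Int.ofNat 0, Int.negSucc 1, Int.ofNat 0, Int.ofNat 0],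
  [Int.negSucc 1, Int.ofNat 0, Int.ofNat 0, Int.ofNat 0, Int.ofNat 0, Int.ofNat 0, Int.ofNat 2, Int.ofNat 2, Int.ofNat 0, Int.ofNat 0, Int.ofNat 2, Int.ofNat 0, Int.negSucc 1, Int.ofNat 0, Int.ofNat 0, Int.negSucc 1, Int.ofNat 0, Int.ofNat 0, Int.ofNat 2, Int.ofNat 0, Int.ofNat 0, Int.ofNat 0, Int.ofNat 0, Int.negSucc 1],
  [Int.negSucc 1, Int.ofNat 0, Int.ofNat 0, Int.ofNat 0, Int.ofNat 0, Int.ofNat 0, Int.negSucc 1, Int.ofNat 2, Int.ofNat 0, Int.ofNat 0, Int.negSucc 1, Int.ofNat 0, Int.negSucc 1, Int.ofNat 0, Int.ofNat 0, Int.ofNat 2, Int.ofNat 0, Int.ofNat 0, Int.negSucc 1, Int.ofNat 0, Int.ofNat 0, Int.ofNat 0, Int.ofNat 0, Int.negSucc 1],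
  [Int.ofNat 0, Int.ofNat 0, Int.negSucc 1, Int.ofNat 0, Int.ofNat 0, Int.negSucc 1, Int.ofNat 0, Int.negSucc 1, Int.ofNat 2, Int.ofNat 0, Int.ofNat 0, Int.ofNat 2, Int.ofNat 0, Int.ofNat 0, Int.ofNat 0, Int.ofNat 0, Int.ofNat 0, Int.negSucc 1, Int.ofNat 0, Int.ofNat 0, Int.ofNat 0, Int.negSucc 1, Int.ofNat 0, Int.negSucc 1],
  [Int.ofNat 0, Int.ofNat 0, Int.ofNat 2, Int.ofNat 0, Int.ofNat 0, Int.ofNat 2, Int.ofNat 0, Int.negSucc 1, Int.ofNat 2, Int.ofNat 0, Int.ofNat 0, Int.ofNat 2, Int.ofNat 0, Int.ofNat 0, Int.ofNat 0, Int.ofNat 0, Int.ofNat 0, Int.negSucc 1, Int.ofNat 0, Int.ofNat 0, Int.ofNat 0, Int.negSucc 1, Int.ofNat 0, Int.negSucc 1],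
  [Int.ofNat 0, Int.ofNat 0, Int.negSucc 1, Int.ofNat 0, Int.ofNat 0, Int.ofNat 2, Int.ofNat 2, Int.ofNat 0, Int.ofNat 0, Int.ofNat 0, Int.ofNat 0, Int.ofNat 0, Int.negSucc 1, Int.ofNat 0, Int.ofNat 0, Int.ofNat 0, Int.ofNat 0, Int.negSucc 1, Int.negSucc 1, Int.ofNat 2, Int.ofNat 0, Int.ofNat 0, Int.ofNat 0, Int.ofNat 2],
  [Int.ofNat 0, Int.negSucc 1, Int.ofNat 2, Int.ofNat 0, Int.negSucc 1, Int.ofNat 0, Int.ofNat 0, Int.ofNat 2, Int.ofNat 0, Int.negSucc 1, Int.ofNat 0, Int.ofNat 2, Int.ofNat 0, Int.ofNat 0, Int.negSucc 1, Int.ofNat 0, Int.ofNat 0, Int.ofNat 0, Int.ofNat 0, Int.ofNat 0, Int.ofNat 0, Int.ofNat 0, Int.ofNat 0, Int.ofNat 2],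
  [Int.ofNat 1, Int.ofNat 3, Int.negSucc 0, Int.ofNat 1, Int.negSucc 0, Int.ofNat 1, Int.negSucc 0, Int.ofNat 1, Int.negSucc 0, Int.negSucc 0, Int.ofNat 1, Int.ofNat 1, Int.negSucc 0, Int.ofNat 1, Int.negSucc 0, Int.ofNat 1, Int.ofNat 1, Int.ofNat 1, Int.negSucc 0, Int.negSucc 0, Int.ofNat 1, Int.negSucc 0, Int.ofNat 1, Int.negSucc 0],
  [Int.ofNat 1, Int.negSucc 0, Int.ofNat 1, Int.ofNat 1, Int.ofNat 3, Int.negSucc 0, Int.ofNat 1, Int.negSucc 0, Int.ofNat 1, Int.negSucc 0, Int.ofNat 1, Int.negSucc 0, Int.negSucc 0, Int.ofNat 1, Int.ofNat 1, Int.negSucc 0, Int.ofNat 1, Int.negSucc 0, Int.ofNat 1, Int.ofNat 1, Int.ofNat 1, Int.negSucc 0, Int.negSucc 0, Int.negSucc 0],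
  [Int.negSucc 0, Int.ofNat 1, Int.negSucc 0, Int.ofNat 1, Int.ofNat 1, Int.negSucc 0, Int.ofNat 1, Int.negSucc 0, Int.ofNat 1, Int.negSucc 0, Int.ofNat 1, Int.negSucc 0, Int.negSucc 0, Int.negSucc 0, Int.ofNat 1, Int.negSucc 0, Int.negSucc 0, Int.negSucc 0, Int.ofNat 1, Int.ofNat 1, Int.ofNat 1, Int.negSucc 0, Int.negSucc 2, Int.ofNat 1],
  [Int.ofNat 1, Int.negSucc 0, Int.ofNat 1, Int.ofNat 1, Int.negSucc 0, Int.ofNat 1, Int.negSucc 0, Int.ofNat 1, Int.negSucc 0, Int.ofNat 1, Int.negSucc 0, Int.negSucc 0, Int.negSucc 0, Int.ofNat 1, Int.negSucc 0, Int.negSucc 0, Int.negSucc 0, Int.ofNat 1, Int.ofNat 1, Int.ofNat 1, Int.negSucc 0, Int.negSucc 2, Int.negSucc 0, Int.ofNat 1],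
  [Int.negSucc 0, Int.negSucc 0, Int.negSucc 0, Int.ofNat 1, Int.negSucc 0, Int.ofNat 1, Int.negSucc 0, Int.negSucc 0, Int.negSucc 0, Int.negSucc 0, Int.ofNat 1, Int.ofNat 1, Int.negSucc 0, Int.ofNat 1, Int.negSucc 0, Int.negSucc 0, Int.negSucc 0, Int.ofNat 1, Int.negSucc 0, Int.ofNat 1, Int.negSucc 0, Int.ofNat 3, Int.negSucc 0, Int.ofNat 1],
  [Int.negSucc 0, Int.negSucc 0, Int.negSucc 0, Int.ofNat 1, Int.negSucc 0, Int.ofNat 1, Int.negSucc 0, Int.negSucc 0, Int.negSucc 0, Int.negSucc 0, Int.ofNat 3, Int.negSucc 0, Int.ofNat 1, Int.negSucc 0, Int.ofNat 1, Int.negSucc 0, Int.negSucc 0, Int.negSucc 0, Int.negSucc 0, Int.ofNat 1, Int.ofNat 1, Int.negSucc 0, Int.ofNat 1, Int.ofNat 1],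
  [Int.ofNat 1, Int.negSucc 0, Int.ofNat 1, Int.ofNat 1, Int.negSucc 0, Int.ofNat 1, Int.negSucc 0, Int.ofNat 1, Int.negSucc 0, Int.ofNat 1, Int.negSucc 2, Int.ofNat 1, Int.ofNat 1, Int.negSucc 0, Int.ofNat 1, Int.negSucc 0, Int.negSucc 0, Int.negSucc 0, Int.ofNat 1, Int.ofNat 1, Int.ofNat 1, Int.ofNat 1, Int.ofNat 1, Int.ofNat 1],
  [Int.ofNat 1, Int.ofNat 1, Int.negSucc 0, Int.ofNat 1, Int.ofNat 1, Int.negSucc 0, Int.ofNat 1, Int.negSucc 0, Int.ofNat 1, Int.negSucc 0, Int.ofNat 1, Int.negSucc 2, Int.ofNat 1, Int.ofNat 1, Int.negSucc 0, Int.ofNat 1, Int.negSucc 0, Int.negSucc 0, Int.negSucc 0, Int.ofNat 1, Int.ofNat 1, Int.ofNat 1, Int.ofNat 1, Int.ofNat 1],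
  [Int.ofNat 0, Int.ofNat 0, Int.ofNat 2, Int.ofNat 2, Int.ofNat 0, Int.ofNat 0, Int.ofNat 0, Int.negSucc 1, Int.ofNat 2, Int.negSucc 1, Int.ofNat 0, Int.negSucc 1, Int.ofNat 2, Int.ofNat 0, Int.ofNat 0, Int.ofNat 0, Int.negSucc 1, Int.ofNat 0, Int.ofNat 0, Int.ofNat 0, Int.ofNat 0, Int.ofNat 0, Int.ofNat 0, Int.ofNat 0],
  [Int.ofNat 2, Int.ofNat 0, Int.ofNat 0, Int.ofNat 0, Int.negSucc 1, Int.ofNat 2, Int.negSucc 1, Int.ofNat 0, Int.negSucc 1, Int.ofNat 2, Int.ofNat 0, Int.ofNat 0, Int.ofNat 0, Int.negSucc 1, Int.ofNat 0, Int.ofNat 0, Int.ofNat 0, Int.ofNat 0, Int.ofNat 0, Int.ofNat 0, Int.ofNat 0, Int.ofNat 0, Int.ofNat 2, Int.ofNat 0],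
  [Int.negSucc 0, Int.ofNat 1, Int.ofNat 1, Int.negSucc 0, Int.negSucc 0, Int.ofNat 1, Int.negSucc 0, Int.ofNat 1, Int.negSucc 0, Int.ofNat 1, Int.negSucc 0, Int.ofNat 1, Int.ofNat 1, Int.negSucc 0, Int.negSucc 0, Int.negSucc 0, Int.ofNat 1, Int.negSucc 0, Int.ofNat 1, Int.ofNat 1, Int.negSucc 0, Int.ofNat 1, Int.ofNat 3, Int.ofNat 1],
  [Int.negSucc 0, Int.negSucc 0, Int.negSucc 0, Int.negSucc 0, Int.ofNat 1, Int.ofNat 1, Int.ofNat 1, Int.negSucc 0, Int.ofNat 1, Int.negSucc 0, Int.negSucc 0, Int.negSucc 0, Int.ofNat 1, Int.ofNat 1, Int.ofNat 3, Int.negSucc 0, Int.negSucc 0, Int.negSucc 0, Int.ofNat 1, Int.ofNat 1, Int.ofNat 1, Int.ofNat 1, Int.ofNat 1, Int.ofNat 1],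
  [Int.ofNat 0, Int.ofNat 0, Int.ofNat 0, Int.negSucc 1, Int.ofNat 0, Int.ofNat 0, Int.ofNat 0, Int.negSucc 1, Int.ofNat 0, Int.ofNat 0, Int.ofNat 0, Int.negSucc 1, Int.ofNat 0, Int.ofNat 0, Int.ofNat 2, Int.ofNat 0, Int.negSucc 1, Int.negSucc 1, Int.ofNat 0, Int.ofNat 0, Int.ofNat 2, Int.ofNat 0, Int.ofNat 0, Int.negSucc 1],
  [Int.ofNat 0, Int.ofNat 0, Int.ofNat 0, Int.negSucc 1, Int.ofNat 0, Int.ofNat 0, Int.ofNat 0, Int.negSucc 1, Int.ofNat 0, Int.ofNat 0, Int.ofNat 0, Int.negSucc 1, Int.ofNat 0, Int.ofNat 0, Int.ofNat 2, Int.ofNat 0, Int.negSucc 1, Int.negSucc 1, Int.ofNat 0, Int.ofNat 0, Int.ofNat 2, Int.ofNat 0, Int.ofNat 0, Int.negSucc 1],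
  [Int.ofNat 0, Int.negSucc 1, Int.negSucc 1, Int.ofNat 0, Int.ofNat 2, Int.ofNat 0, Int.ofNat 0, Int.negSucc 1, Int.ofNat 0, Int.ofNat 2, Int.ofNat 0, Int.negSucc 1, Int.ofNat 0, Int.ofNat 0, Int.negSucc 1, Int.ofNat 0, Int.ofNat 0, Int.ofNat 0, Int.ofNat 0, Int.ofNat 0, Int.ofNat 0, Int.ofNat 0, Int.ofNat 0, Int.negSucc 1],
  [Int.ofNat 0, Int.ofNat 2, Int.ofNat 2, Int.ofNat 0, Int.negSucc 1, Int.ofNat 0, Int.ofNat 0, Int.negSucc 1, Int.ofNat 0, Int.negSucc 1, Int.ofNat 0, Int.negSucc 1, Int.ofNat 0, Int.ofNat 0, Int.negSucc 1, Int.ofNat 0, Int.ofNat 0, Int.ofNat 0, Int.ofNat 0, Int.ofNat 0, Int.ofNat 0, Int.ofNat 0, Int.ofNat 0, Int.negSucc 1],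
  [Int.negSucc 1, Int.ofNat 0, Int.negSucc 1, Int.ofNat 0, Int.ofNat 0, Int.negSucc 1, Int.ofNat 0, Int.ofNat 0, Int.ofNat 0, Int.ofNat 0, Int.ofNat 0, Int.ofNat 2, Int.ofNat 0, Int.negSucc 1, Int.ofNat 0, Int.ofNat 0, Int.ofNat 0, Int.negSucc 1, Int.negSucc 1, Int.ofNat 0, Int.ofNat 0, Int.ofNat 0, Int.ofNat 2, Int.ofNat 0],
  [Int.ofNat 2, Int.ofNat 0, Int.ofNat 2, Int.ofNat 0, Int.ofNat 0, Int.negSucc 1, Int.ofNat 0, Int.ofNat 0, Int.ofNat 0, Int.ofNat 0, Int.ofNat 0, Int.negSucc 1, Int.ofNat 0, Int.negSucc 1, Int.ofNat 0, Int.ofNat 0, Int.ofNat 0, Int.negSucc 1, Int.ofNat 2, Int.ofNat 0, Int.ofNat 0, Int.ofNat 0, Int.ofNat 2, Int.ofNat 0],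
  [Int.ofNat 2, Int.ofNat 2, Int.ofNat 0, Int.ofNat 2, Int.ofNat 0, Int.ofNat 0, Int.negSucc 1, Int.ofNat 0, Int.ofNat 0, Int.ofNat 0, Int.ofNat 0, Int.ofNat 0, Int.negSucc 1, Int.ofNat 0, Int.negSucc 1, Int.ofNat 0, Int.ofNat 0, Int.ofNat 0, Int.negSucc 1, Int.ofNat 2, Int.ofNat 0, Int.ofNat 0, Int.ofNat 0, Int.ofNat 0],
  [Int.ofNat 0, Int.ofNat 0, Int.ofNat 2, Int.ofNat 2, Int.ofNat 0, Int.ofNat 0, Int.negSucc 1, Int.ofNat 0, Int.ofNat 2, Int.ofNat 0, Int.ofNat 0, Int.ofNat 2, Int.ofNat 0, Int.ofNat 0, Int.negSucc 1, Int.ofNat 0, Int.ofNat 0, Int.ofNat 0, Int.ofNat 0, Int.ofNat 2, Int.ofNat 0, Int.ofNat 0, Int.ofNat 0, Int.ofNat 2],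
  [Int.ofNat 2, Int.ofNat 0, Int.ofNat 0, Int.negSucc 1, Int.ofNat 0, Int.ofNat 2, Int.ofNat 0, Int.ofNat 0, Int.ofNat 2, Int.ofNat 0, Int.ofNat 0, Int.negSucc 1, Int.ofNat 0, Int.ofNat 0, Int.ofNat 0, Int.ofNat 0, Int.ofNat 2, Int.ofNat 0, Int.ofNat 0, Int.ofNat 0, Int.ofNat 0, Int.ofNat 0, Int.ofNat 2, Int.ofNat 2],
  [Int.ofNat 0, Int.ofNat 2, Int.ofNat 2, Int.negSucc 1, Int.negSucc 1, Int.ofNat 2, Int.ofNat 0, Int.ofNat 0, Int.ofNat 2, Int.ofNat 0, Int.ofNat 0, Int.negSucc 1, Int.ofNat 0, Int.negSucc 1, Int.ofNat 0, Int.ofNat 0, Int.ofNat 0, Int.ofNat 0, Int.ofNat 0, Int.ofNat 0, Int.ofNat 0, Int.ofNat 0, Int.ofNat 0, Int.ofNat 0],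
  [Int.ofNat 0, Int.ofNat 0, Int.negSucc 1, Int.negSucc 1, Int.ofNat 0, Int.ofNat 0, Int.ofNat 2, Int.ofNat 0, Int.ofNat 0, Int.negSucc 1, Int.ofNat 0, Int.ofNat 0, Int.ofNat 0, Int.ofNat 0, Int.ofNat 0, Int.ofNat 0, Int.ofNat 2, Int.ofNat 0, Int.ofNat 2, Int.negSucc 1, Int.ofNat 0, Int.ofNat 2, Int.ofNat 0, Int.ofNat 0],
  [Int.negSucc 0, Int.negSucc 0, Int.ofNat 1, Int.negSucc 0, Int.negSucc 0, Int.ofNat 1, Int.ofNat 1, Int.negSucc 0, Int.negSucc 0, Int.negSucc 0, Int.ofNat 1, Int.negSucc 0, Int.negSucc 0, Int.negSucc 0, Int.ofNat 1, Int.ofNat 1, Int.ofNat 1, Int.ofNat 1, Int.ofNat 1, Int.negSucc 2, Int.ofNat 1, Int.ofNat 1, Int.negSucc 0, Int.negSucc 0],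
  [Int.negSucc 0, Int.negSucc 0, Int.negSucc 0, Int.negSucc 0, Int.negSucc 0, Int.negSucc 0, Int.negSucc 0, Int.negSucc 0, Int.negSucc 0, Int.ofNat 1, Int.negSucc 0, Int.negSucc 0, Int.negSucc 0, Int.negSucc 0, Int.ofNat 1, Int.negSucc 0, Int.ofNat 1, Int.ofNat 1, Int.negSucc 0, Int.negSucc 2, Int.ofNat 1, Int.ofNat 1, Int.ofNat 1, Int.negSucc 0],
  [Int.ofNat 1, Int.negSucc 0, Int.negSucc 0, Int.negSucc 2, Int.ofNat 1, Int.negSucc 0, Int.ofNat 1, Int.negSucc 0, Int.negSucc 0, Int.ofNat 1, Int.ofNat 1, Int.negSucc 0, Int.negSucc 0, Int.negSucc 0, Int.negSucc 0, Int.negSucc 0, Int.negSucc 0, Int.negSucc 0, Int.ofNat 1, Int.negSucc 0, Int.ofNat 1, Int.negSucc 0, Int.negSucc 0, Int.negSucc 0],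
  [Int.ofNat 1, Int.negSucc 0, Int.ofNat 1, Int.negSucc 2, Int.ofNat 1, Int.ofNat 1, Int.negSucc 0, Int.negSucc 0, Int.negSucc 0, Int.negSucc 0, Int.negSucc 0, Int.negSucc 0, Int.negSucc 0, Int.negSucc 0, Int.negSucc 0, Int.ofNat 1, Int.negSucc 0, Int.negSucc 0, Int.negSucc 0, Int.negSucc 0, Int.ofNat 1, Int.negSucc 0, Int.ofNat 1, Int.negSucc 0],
  [Int.negSucc 0, Int.ofNat 1, Int.negSucc 0, Int.negSucc 0, Int.ofNat 1, Int.ofNat 3, Int.ofNat 1, Int.ofNat 1, Int.ofNat 1, Int.negSucc 0, Int.negSucc 0, Int.ofNat 1, Int.ofNat 1, Int.negSucc 0, Int.ofNat 1, Int.ofNat 1, Int.negSucc 0, Int.ofNat 1, Int.ofNat 1, Int.ofNat 1, Int.ofNat 1, Int.ofNat 1, Int.ofNat 1, Int.ofNat 1],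
  [Int.negSucc 0, Int.ofNat 1, Int.ofNat 1, Int.negSucc 0, Int.negSucc 0, Int.ofNat 1, Int.ofNat 1, Int.ofNat 3, Int.negSucc 0, Int.ofNat 1, Int.ofNat 1, Int.ofNat 1, Int.ofNat 1, Int.negSucc 0, Int.ofNat 1, Int.ofNat 1, Int.negSucc 0, Int.ofNat 1, Int.ofNat 1, Int.ofNat 1, Int.negSucc 0, Int.ofNat 1, Int.ofNat 1, Int.ofNat 1],
  [Int.ofNat 2, Int.ofNat 0, Int.ofNat 0, Int.negSucc 1, Int.ofNat 0, Int.ofNat 0, Int.negSucc 1, Int.ofNat 0, Int.negSucc 1, Int.ofNat 0, Int.ofNat 0, Int.ofNat 0, Int.ofNat 0, Int.ofNat 0, Int.ofNat 0, Int.ofNat 0, Int.ofNat 0, Int.ofNat 0, Int.ofNat 0, Int.negSucc 1, Int.negSucc 1, Int.negSucc 1, Int.ofNat 2, Int.ofNat 0],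
  [Int.negSucc 1, Int.negSucc 1, Int.ofNat 2, Int.ofNat 2, Int.ofNat 0, Int.ofNat 0, Int.negSucc 1, Int.ofNat 0, Int.ofNat 0, Int.negSucc 1, Int.ofNat 0, Int.negSucc 1, Int.ofNat 0, Int.ofNat 0, Int.ofNat 0, Int.ofNat 0, Int.ofNat 0, Int.ofNat 0, Int.ofNat 0, Int.ofNat 0, Int.ofNat 0, Int.ofNat 0, Int.negSucc 1, Int.ofNat 0],
  [Int.ofNat 1, Int.ofNat 1, Int.negSucc 2, Int.ofNat 1, Int.ofNat 1, Int.negSucc 0, Int.negSucc 0, Int.ofNat 1, Int.ofNat 1, Int.negSucc 0, Int.ofNat 1, Int.negSucc 0, Int.ofNat 1, Int.ofNat 1, Int.negSucc 0, Int.ofNat 1, Int.ofNat 1, Int.negSucc 0, Int.ofNat 1, Int.ofNat 1, Int.ofNat 1, Int.ofNat 1, Int.negSucc 0, Int.negSucc 0],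
  [Int.ofNat 1, Int.negSucc 2, Int.ofNat 1, Int.ofNat 1, Int.negSucc 0, Int.negSucc 0, Int.ofNat 1, Int.ofNat 1, Int.negSucc 0, Int.ofNat 1, Int.negSucc 0, Int.ofNat 1, Int.ofNat 1, Int.negSucc 0, Int.ofNat 1, Int.ofNat 1, Int.negSucc 0, Int.ofNat 1, Int.ofNat 1, Int.ofNat 1, Int.ofNat 1, Int.negSucc 0, Int.ofNat 1, Int.negSucc 0],
  [Int.negSucc 0, Int.negSucc 2, Int.negSucc 0, Int.ofNat 1, Int.negSucc 0, Int.negSucc 0, Int.ofNat 1, Int.negSucc 0, Int.negSucc 0, Int.negSucc 0, Int.ofNat 1, Int.negSucc 0, Int.ofNat 1, Int.negSucc 0, Int.ofNat 1, Int.ofNat 1, Int.negSucc 0, Int.ofNat 1, Int.negSucc 0, Int.ofNat 1, Int.ofNat 1, Int.ofNat 1, Int.ofNat 1, Int.negSucc 0],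
  [Int.negSucc 0, Int.negSucc 0, Int.negSucc 0, Int.ofNat 1, Int.negSucc 2, Int.ofNat 1, Int.negSucc 0, Int.ofNat 1, Int.negSucc 0, Int.negSucc 0, Int.ofNat 1, Int.ofNat 1, Int.negSucc 0, Int.negSucc 0, Int.ofNat 1, Int.ofNat 1, Int.ofNat 1, Int.ofNat 1, Int.ofNat 1, Int.ofNat 1, Int.negSucc 0, Int.negSucc 0, Int.negSucc 0, Int.negSucc 0],
  [Int.ofNat 1, Int.negSucc 0, Int.ofNat 1, Int.ofNat 1, Int.negSucc 2, Int.ofNat 1, Int.negSucc 0, Int.negSucc 0, Int.negSucc 0, Int.ofNat 1, Int.negSucc 0, Int.negSucc 0, Int.negSucc 0, Int.negSucc 0, Int.ofNat 1, Int.ofNat 1, Int.ofNat 1, Int.ofNat 1, Int.negSucc 0, Int.ofNat 1, Int.negSucc 0, Int.ofNat 1, Int.negSucc 0, Int.negSucc 0],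
  [Int.negSucc 0, Int.ofNat 1, Int.negSucc 0, Int.ofNat 1, Int.ofNat 1, Int.negSucc 2, Int.ofNat 1, Int.negSucc 0, Int.negSucc 0, Int.negSucc 0, Int.ofNat 1, Int.negSucc 0, Int.negSucc 0, Int.negSucc 0, Int.negSucc 0, Int.ofNat 1, Int.ofNat 1, Int.ofNat 1, Int.ofNat 1, Int.negSucc 0, Int.ofNat 1, Int.negSucc 0, Int.ofNat 1, Int.negSucc 0],
  [Int.ofNat 0, Int.negSucc 1, Int.ofNat 0, Int.ofNat 2, Int.ofNat 0, Int.negSucc 1, Int.ofNat 2, Int.ofNat 0, Int.ofNat 0, Int.negSucc 1, Int.ofNat 0, Int.ofNat 0, Int.ofNat 0, Int.negSucc 1, Int.ofNat 0, Int.ofNat 0, Int.ofNat 0, Int.ofNat 2, Int.ofNat 2, Int.ofNat 0, Int.ofNat 0, Int.ofNat 0, Int.ofNat 0, Int.ofNat 0],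
  [Int.ofNat 2, Int.ofNat 0, Int.negSucc 1, Int.ofNat 2, Int.ofNat 0, Int.ofNat 0, Int.negSucc 1, Int.ofNat 0, Int.ofNat 0, Int.ofNat 0, Int.negSucc 1, Int.ofNat 0, Int.ofNat 0, Int.ofNat 0, Int.ofNat 2, Int.ofNat 2, Int.ofNat 0, Int.ofNat 0, Int.ofNat 0, Int.ofNat 0, Int.ofNat 0, Int.negSucc 1, Int.ofNat 0, Int.ofNat 0],
  [Int.negSucc 1, Int.ofNat 0, Int.ofNat 2, Int.ofNat 0, Int.ofNat 0, Int.negSucc 1, Int.ofNat 0, Int.ofNat 2, Int.ofNat 0, Int.ofNat 0, Int.negSucc 1, Int.ofNat 0, Int.ofNat 0, Int.ofNat 0, Int.ofNat 0, Int.ofNat 2, Int.ofNat 0, Int.negSucc 1, Int.ofNat 0, Int.ofNat 2, Int.ofNat 0, Int.ofNat 0, Int.ofNat 0, Int.ofNat 0],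
  [Int.negSucc 1, Int.ofNat 0, Int.ofNat 0, Int.ofNat 0, Int.ofNat 0, Int.ofNat 2, Int.ofNat 2, Int.negSucc 1, Int.ofNat 0, Int.ofNat 0, Int.ofNat 0, Int.negSucc 1, Int.ofNat 0, Int.ofNat 0, Int.ofNat 0, Int.ofNat 2, Int.ofNat 0, Int.ofNat 0, Int.ofNat 0, Int.ofNat 0, Int.ofNat 0, Int.negSucc 1, Int.ofNat 2, Int.ofNat 0],
  [Int.ofNat 1, Int.negSucc 0, Int.negSucc 0, Int.negSucc 0, Int.negSucc 0, Int.ofNat 1, Int.ofNat 3, Int.negSucc 0, Int.ofNat 1, Int.negSucc 0, Int.negSucc 0, Int.negSucc 0, Int.ofNat 1, Int.negSucc 0, Int.negSucc 0, Int.ofNat 1, Int.negSucc 0, Int.negSucc 0, Int.ofNat 1, Int.ofNat 1, Int.negSucc 0, Int.negSucc 0, Int.ofNat 1, Int.negSucc 0],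
  [Int.ofNat 1, Int.negSucc 0, Int.ofNat 1, Int.negSucc 0, Int.negSucc 0, Int.negSucc 0, Int.negSucc 2, Int.negSucc 0, Int.ofNat 1, Int.ofNat 1, Int.ofNat 1, Int.negSucc 0, Int.ofNat 1, Int.negSucc 0, Int.negSucc 0, Int.negSucc 0, Int.negSucc 0, Int.negSucc 0, Int.negSucc 0, Int.ofNat 1, Int.negSucc 0, Int.negSucc 0, Int.negSucc 0, Int.negSucc 0],
  [Int.ofNat 1, Int.negSucc 0, Int.negSucc 0, Int.ofNat 1, Int.negSucc 0, Int.negSucc 2, Int.negSucc 0, Int.negSucc 0, Int.negSucc 0, Int.negSucc 0, Int.negSucc 0, Int.negSucc 0, Int.negSucc 0, Int.negSucc 0, Int.negSucc 0, Int.negSucc 0, Int.ofNat 1, Int.ofNat 1, Int.ofNat 1, Int.ofNat 1, Int.ofNat 1, Int.negSucc 0, Int.negSucc 0, Int.negSucc 0],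
  [Int.negSucc 0, Int.ofNat 1, Int.ofNat 1, Int.negSucc 0, Int.ofNat 1, Int.negSucc 2, Int.ofNat 1, Int.negSucc 0, Int.ofNat 1, Int.ofNat 1, Int.negSucc 0, Int.negSucc 0, Int.ofNat 1, Int.ofNat 1, Int.negSucc 0, Int.negSucc 0, Int.negSucc 0, Int.ofNat 1, Int.negSucc 0, Int.ofNat 1, Int.ofNat 1, Int.negSucc 0, Int.negSucc 0, Int.negSucc 0],
  [Int.negSucc 0, Int.negSucc 0, Int.negSucc 0, Int.negSucc 0, Int.ofNat 1, Int.ofNat 1, Int.ofNat 1, Int.ofNat 1, Int.ofNat 1, Int.negSucc 2, Int.negSucc 0, Int.ofNat 1, Int.negSucc 0, Int.negSucc 0, Int.negSucc 0, Int.negSucc 0, Int.negSucc 0, Int.ofNat 1, Int.negSucc 0, Int.ofNat 1, Int.ofNat 1, Int.ofNat 1, Int.ofNat 1, Int.negSucc 0],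
  [Int.ofNat 1, Int.negSucc 0, Int.ofNat 1, Int.negSucc 0, Int.ofNat 1, Int.ofNat 1, Int.ofNat 1, Int.negSucc 0, Int.ofNat 1, Int.ofNat 3, Int.ofNat 1, Int.negSucc 0, Int.negSucc 0, Int.negSucc 0, Int.negSucc 0, Int.negSucc 0, Int.negSucc 0, Int.ofNat 1, Int.ofNat 1, Int.ofNat 1, Int.ofNat 1, Int.negSucc 0, Int.ofNat 1, Int.negSucc 0],
  [Int.ofNat 1, Int.ofNat 1, Int.negSucc 0, Int.ofNat 1, Int.negSucc 0, Int.ofNat 1, Int.ofNat 1, Int.ofNat 1, Int.negSucc 0, Int.ofNat 1, Int.ofNat 3, Int.ofNat 1, Int.negSucc 0, Int.negSucc 0, Int.negSucc 0, Int.negSucc 0, Int.negSucc 0, Int.negSucc 0, Int.ofNat 1, Int.ofNat 1, Int.ofNat 1, Int.ofNat 1, Int.negSucc 0, Int.negSucc 0],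
  [Int.negSucc 0, Int.negSucc 0, Int.ofNat 1, Int.ofNat 1, Int.ofNat 1, Int.ofNat 1, Int.negSucc 0, Int.negSucc 0, Int.negSucc 0, Int.negSucc 0, Int.ofNat 1, Int.ofNat 1, Int.negSucc 0, Int.ofNat 1, Int.negSucc 0, Int.negSucc 2, Int.ofNat 1, Int.negSucc 0, Int.ofNat 1, Int.negSucc 0, Int.negSucc 0, Int.negSucc 0, Int.ofNat 1, Int.ofNat 1],
  [Int.ofNat 1, Int.ofNat 1, Int.ofNat 1, Int.negSucc 0, Int.negSucc 0, Int.negSucc 0, Int.negSucc 0, Int.ofNat 1, Int.ofNat 1, Int.negSucc 0, Int.ofNat 1, Int.negSucc 0, Int.negSucc 2, Int.ofNat 1, Int.negSucc 0, Int.ofNat 1, Int.negSucc 0, Int.negSucc 0, Int.negSucc 0, Int.ofNat 1, Int.negSucc 0, Int.negSucc 0, Int.ofNat 1, Int.ofNat 1],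
  [Int.ofNat 1, Int.ofNat 1, Int.ofNat 1, Int.ofNat 1, Int.negSucc 0, Int.ofNat 1, Int.negSucc 0, Int.ofNat 1, Int.ofNat 3, Int.negSucc 0, Int.ofNat 1, Int.ofNat 1, Int.negSucc 0, Int.ofNat 1, Int.ofNat 1, Int.ofNat 1, Int.negSucc 0, Int.ofNat 1, Int.ofNat 1, Int.ofNat 1, Int.negSucc 0, Int.negSucc 0, Int.ofNat 1, Int.ofNat 1],
  [Int.ofNat 1, Int.negSucc 0, Int.negSucc 0, Int.ofNat 1, Int.ofNat 1, Int.ofNat 1, Int.ofNat 1, Int.ofNat 1, Int.negSucc 0, Int.ofNat 1, Int.negSucc 0, Int.ofNat 1, Int.negSucc 0, Int.negSucc 0, Int.ofNat 1, Int.ofNat 1, Int.ofNat 3, Int.ofNat 1, Int.ofNat 1, Int.ofNat 1, Int.negSucc 0, Int.ofNat 1, Int.ofNat 1, Int.ofNat 1],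
  [Int.negSucc 0, Int.ofNat 1, Int.ofNat 1, Int.negSucc 0, Int.negSucc 0, Int.negSucc 0, Int.negSucc 0, Int.negSucc 0, Int.negSucc 0, Int.ofNat 1, Int.negSucc 0, Int.ofNat 1, Int.negSucc 0, Int.negSucc 2, Int.negSucc 0, Int.ofNat 1, Int.ofNat 1, Int.negSucc 0, Int.ofNat 1, Int.negSucc 0, Int.negSucc 0, Int.negSucc 0, Int.negSucc 0, Int.negSucc 0],
  [Int.negSucc 0, Int.ofNat 1, Int.negSucc 0, Int.negSucc 0, Int.negSucc 0, Int.ofNat 1, Int.ofNat 1, Int.negSucc 0, Int.negSucc 0, Int.negSucc 0, Int.ofNat 1, Int.ofNat 1, Int.negSucc 0, Int.negSucc 2, Int.negSucc 0, Int.negSucc 0, Int.ofNat 1, Int.negSucc 0, Int.negSucc 0, Int.negSucc 0, Int.negSucc 0, Int.negSucc 0, Int.ofNat 1, Int.negSucc 0],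
  [Int.negSucc 0, Int.negSucc 0, Int.ofNat 1, Int.negSucc 0, Int.ofNat 1, Int.negSucc 0, Int.negSucc 0, Int.negSucc 0, Int.negSucc 0, Int.negSucc 0, Int.negSucc 0, Int.negSucc 0, Int.negSucc 0, Int.negSucc 0, Int.negSucc 0, Int.ofNat 1, Int.negSucc 2, Int.ofNat 1, Int.ofNat 1, Int.ofNat 1, Int.negSucc 0, Int.negSucc 0, Int.ofNat 1, Int.negSucc 0],
  [Int.negSucc 0, Int.negSucc 0, Int.negSucc 0, Int.negSucc 0, Int.ofNat 1, Int.ofNat 1, Int.ofNat 1, Int.negSucc 0, Int.negSucc 0, Int.ofNat 1, Int.ofNat 1, Int.negSucc 0, Int.negSucc 0, Int.negSucc 0, Int.negSucc 0, Int.negSucc 0, Int.negSucc 2, Int.ofNat 1, Int.negSucc 0, Int.ofNat 1, Int.negSucc 0, Int.negSucc 0, Int.negSucc 0, Int.negSucc 0],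
  [Int.negSucc 0, Int.negSucc 0, Int.negSucc 0, Int.negSucc 0, Int.ofNat 3, Int.ofNat 1, Int.ofNat 1, Int.negSucc 0, Int.ofNat 1, Int.ofNat 1, Int.ofNat 1, Int.ofNat 1, Int.ofNat 1, Int.ofNat 1, Int.negSucc 0, Int.negSucc 0, Int.negSucc 0, Int.ofNat 1, Int.ofNat 1, Int.ofNat 1, Int.negSucc 0, Int.negSucc 0, Int.ofNat 1, Int.negSucc 0],
  [Int.negSucc 0, Int.ofNat 1, Int.ofNat 1, Int.negSucc 0, Int.negSucc 0, Int.negSucc 0, Int.negSucc 0, Int.ofNat 1, Int.negSucc 0, Int.ofNat 1, Int.negSucc 0, Int.ofNat 1, Int.ofNat 1, Int.ofNat 1, Int.ofNat 1, Int.negSucc 0, Int.ofNat 1, Int.ofNat 1, Int.ofNat 3, Int.ofNat 1, Int.ofNat 1, Int.negSucc 0, Int.negSucc 0, Int.negSucc 0],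
  [Int.ofNat 1, Int.negSucc 0, Int.negSucc 0, Int.negSucc 0, Int.negSucc 0, Int.negSucc 0, Int.negSucc 0, Int.ofNat 1, Int.negSucc 2, Int.ofNat 1, Int.negSucc 0, Int.negSucc 0, Int.negSucc 0, Int.ofNat 1, Int.ofNat 1, Int.negSucc 0, Int.ofNat 1, Int.ofNat 1, Int.ofNat 1, Int.ofNat 1, Int.ofNat 1, Int.negSucc 0, Int.negSucc 0, Int.ofNat 1],
  [Int.ofNat 1, Int.negSucc 0, Int.negSucc 0, Int.ofNat 1, Int.negSucc 0, Int.negSucc 0, Int.negSucc 0, Int.negSucc 0, Int.negSucc 0, Int.negSucc 0, Int.ofNat 1, Int.negSucc 2, Int.ofNat 1, Int.negSucc 0, Int.negSucc 0, Int.negSucc 0, Int.ofNat 1, Int.ofNat 1, Int.negSucc 0, Int.ofNat 1, Int.ofNat 1, Int.ofNat 1, Int.ofNat 1, Int.ofNat 1],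
  [Int.negSucc 0, Int.ofNat 1, Int.ofNat 1, Int.ofNat 1, Int.negSucc 0, Int.negSucc 0, Int.negSucc 0, Int.negSucc 0, Int.ofNat 1, Int.negSucc 0, Int.ofNat 1, Int.negSucc 0, Int.ofNat 3, Int.negSucc 0, Int.negSucc 0, Int.negSucc 0, Int.ofNat 1, Int.ofNat 1, Int.ofNat 1, Int.ofNat 1, Int.ofNat 1, Int.ofNat 1, Int.ofNat 1, Int.negSucc 0],
  [Int.ofNat 1, Int.ofNat 1, Int.ofNat 1, Int.negSucc 0, Int.negSucc 0, Int.negSucc 0, Int.negSucc 0, Int.ofNat 1, Int.negSucc 0, Int.ofNat 1, Int.negSucc 0, Int.ofNat 3, Int.negSucc 0, Int.negSucc 0, Int.negSucc 0, Int.ofNat 1, Int.ofNat 1, Int.ofNat 1, Int.ofNat 1, Int.ofNat 1, Int.ofNat 1, Int.ofNat 1, Int.negSucc 0, Int.negSucc 0],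
  [Int.negSucc 0, Int.ofNat 1, Int.negSucc 0, Int.negSucc 0, Int.negSucc 0, Int.negSucc 0, Int.negSucc 0, Int.negSucc 0, Int.negSucc 0, Int.negSucc 0, Int.ofNat 1, Int.negSucc 2, Int.negSucc 0, Int.negSucc 0, Int.negSucc 0, Int.ofNat 1, Int.ofNat 1, Int.ofNat 1, Int.negSucc 0, Int.ofNat 1, Int.ofNat 1, Int.negSucc 0, Int.negSucc 0, Int.negSucc 0],
  [Int.negSucc 0, Int.negSucc 0, Int.negSucc 0, Int.negSucc 0, Int.ofNat 1, Int.ofNat 1, Int.negSucc 0, Int.ofNat 1, Int.negSucc 0, Int.ofNat 1, Int.negSucc 0, Int.negSucc 0, Int.negSucc 0, Int.negSucc 0, Int.ofNat 1, Int.ofNat 1, Int.negSucc 0, Int.negSucc 0, Int.negSucc 0, Int.ofNat 1, Int.negSucc 0, Int.negSucc 0, Int.negSucc 2, Int.negSucc 0],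
  [Int.ofNat 1, Int.negSucc 0, Int.ofNat 1, Int.negSucc 0, Int.ofNat 1, Int.ofNat 1, Int.negSucc 0, Int.negSucc 0, Int.negSucc 0, Int.negSucc 0, Int.ofNat 1, Int.ofNat 1, Int.negSucc 0, Int.negSucc 0, Int.ofNat 1, Int.ofNat 1, Int.negSucc 0, Int.negSucc 0, Int.ofNat 1, Int.ofNat 1, Int.negSucc 0, Int.ofNat 1, Int.negSucc 2, Int.negSucc 0],
  [Int.negSucc 2, Int.ofNat 1, Int.negSucc 0, Int.ofNat 1, Int.negSucc 0, Int.ofNat 1, Int.ofNat 1, Int.negSucc 0, Int.negSucc 0, Int.negSucc 0, Int.negSucc 0, Int.ofNat 1, Int.ofNat 1, Int.negSucc 0, Int.negSucc 0, Int.ofNat 1, Int.ofNat 1, Int.negSucc 0, Int.negSucc 0, Int.ofNat 1, Int.ofNat 1, Int.negSucc 0, Int.ofNat 1, Int.negSucc 0],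
  [Int.ofNat 1, Int.negSucc 2, Int.negSucc 0, Int.ofNat 1, Int.negSucc 0, Int.ofNat 1, Int.ofNat 1, Int.negSucc 0, Int.negSucc 0, Int.negSucc 0, Int.negSucc 0, Int.ofNat 1, Int.ofNat 1, Int.negSucc 0, Int.negSucc 0, Int.ofNat 1, Int.ofNat 1, Int.negSucc 0, Int.negSucc 0, Int.ofNat 1, Int.ofNat 1, Int.negSucc 0, Int.ofNat 1, Int.negSucc 0],
  [Int.ofNat 1, Int.negSucc 0, Int.ofNat 1, Int.ofNat 1, Int.negSucc 0, Int.negSucc 0, Int.negSucc 0, Int.negSucc 0, Int.ofNat 1, Int.ofNat 1, Int.negSucc 0, Int.negSucc 0, Int.ofNat 1, Int.ofNat 1, Int.negSucc 0, Int.negSucc 0, Int.ofNat 1, Int.ofNat 1, Int.negSucc 0, Int.ofNat 1, Int.ofNat 1, Int.negSucc 2, Int.negSucc 0, Int.negSucc 0],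
  [Int.negSucc 0, Int.ofNat 1, Int.negSucc 0, Int.ofNat 1, Int.negSucc 0, Int.negSucc 0, Int.ofNat 1, Int.ofNat 1, Int.ofNat 1, Int.ofNat 1, Int.negSucc 0, Int.negSucc 0, Int.ofNat 1, Int.ofNat 1, Int.negSucc 0, Int.negSucc 0, Int.ofNat 1, Int.ofNat 1, Int.negSucc 0, Int.ofNat 3, Int.ofNat 1, Int.negSucc 0, Int.negSucc 0, Int.ofNat 1],
  [Int.negSucc 0, Int.ofNat 1, Int.negSucc 0, Int.ofNat 1, Int.negSucc 0, Int.ofNat 1, Int.negSucc 0, Int.negSucc 0, Int.ofNat 1, Int.ofNat 1, Int.ofNat 1, Int.ofNat 1, Int.ofNat 1, Int.ofNat 1, Int.negSucc 0, Int.negSucc 0, Int.ofNat 1, Int.negSucc 0, Int.ofNat 1, Int.negSucc 0, Int.negSucc 0, Int.negSucc 0, Int.ofNat 3, Int.ofNat 1],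
  [Int.ofNat 1, Int.negSucc 0, Int.ofNat 1, Int.ofNat 1, Int.negSucc 2, Int.ofNat 1, Int.ofNat 1, Int.ofNat 1, Int.negSucc 0, Int.ofNat 1, Int.ofNat 1, Int.negSucc 0, Int.negSucc 0, Int.negSucc 0, Int.negSucc 0, Int.negSucc 0, Int.negSucc 0, Int.negSucc 0, Int.negSucc 0, Int.ofNat 1, Int.negSucc 0, Int.ofNat 1, Int.ofNat 1, Int.negSucc 0],
  [Int.ofNat 1, Int.negSucc 0, Int.negSucc 0, Int.ofNat 1, Int.negSucc 2, Int.negSucc 0, Int.negSucc 0, Int.ofNat 1, Int.negSucc 0, Int.negSucc 0, Int.negSucc 0, Int.negSucc 0, Int.negSucc 0, Int.negSucc 0, Int.negSucc 0, Int.ofNat 1, Int.negSucc 0, Int.negSucc 0, Int.ofNat 1, Int.ofNat 1, Int.negSucc 0, Int.ofNat 1, Int.negSucc 0, Int.negSucc 0],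
  [Int.negSucc 0, Int.negSucc 0, Int.negSucc 0, Int.negSucc 0, Int.negSucc 0, Int.negSucc 0, Int.ofNat 1, Int.ofNat 1, Int.negSucc 0, Int.negSucc 0, Int.negSucc 0, Int.ofNat 1, Int.ofNat 1, Int.negSucc 2, Int.negSucc 0, Int.ofNat 1, Int.ofNat 1, Int.negSucc 0, Int.negSucc 0, Int.negSucc 0, Int.ofNat 1, Int.negSucc 0, Int.negSucc 0, Int.negSucc 0],
  [Int.ofNat 1, Int.ofNat 1, Int.ofNat 1, Int.ofNat 1, Int.ofNat 1, Int.negSucc 0, Int.negSucc 0, Int.ofNat 1, Int.ofNat 1, Int.ofNat 1, Int.negSucc 0, Int.ofNat 1, Int.negSucc 0, Int.ofNat 3, Int.negSucc 0, Int.ofNat 1, Int.negSucc 0, Int.negSucc 0, Int.ofNat 1, Int.negSucc 0, Int.ofNat 1, Int.negSucc 0, Int.negSucc 0, Int.negSucc 0],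
  [Int.negSucc 0, Int.negSucc 0, Int.ofNat 1, Int.ofNat 1, Int.negSucc 0, Int.ofNat 1, Int.negSucc 0, Int.ofNat 3, Int.ofNat 1, Int.negSucc 0, Int.negSucc 0, Int.ofNat 1, Int.negSucc 0, Int.ofNat 1, Int.ofNat 1, Int.ofNat 1, Int.negSucc 0, Int.ofNat 1, Int.negSucc 0, Int.negSucc 0, Int.ofNat 1, Int.negSucc 0, Int.ofNat 1, Int.ofNat 1],
  [Int.ofNat 1, Int.negSucc 0, Int.negSucc 0, Int.ofNat 1, Int.negSucc 0, Int.ofNat 1, Int.negSucc 0, Int.negSucc 2, Int.ofNat 1, Int.ofNat 1, Int.ofNat 1, Int.negSucc 0, Int.negSucc 0, Int.ofNat 1, Int.ofNat 1, Int.ofNat 1, Int.negSucc 0, Int.ofNat 1, Int.ofNat 1, Int.negSucc 0, Int.ofNat 1, Int.ofNat 1, Int.ofNat 1, Int.ofNat 1],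
  [Int.ofNat 1, Int.ofNat 1, Int.negSucc 0, Int.negSucc 0, Int.ofNat 1, Int.negSucc 0, Int.ofNat 1, Int.negSucc 0, Int.negSucc 2, Int.ofNat 1, Int.ofNat 1, Int.ofNat 1, Int.negSucc 0, Int.negSucc 0, Int.ofNat 1, Int.ofNat 1, Int.ofNat 1, Int.negSucc 0, Int.ofNat 1, Int.ofNat 1, Int.negSucc 0, Int.ofNat 1, Int.ofNat 1, Int.ofNat 1],
  [Int.ofNat 0, Int.ofNat 0, Int.ofNat 2, Int.ofNat 0, Int.ofNat 0, Int.ofNat 0, Int.ofNat 0, Int.negSucc 1, Int.negSucc 1, Int.ofNat 0, Int.ofNat 0, Int.ofNat 2, Int.ofNat 0, Int.negSucc 1, Int.ofNat 2, Int.ofNat 0, Int.ofNat 0, Int.ofNat 0, Int.ofNat 2, Int.ofNat 0, Int.negSucc 1, Int.ofNat 0, Int.ofNat 0, Int.ofNat 0],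
  [Int.ofNat 0, Int.ofNat 0, Int.ofNat 0, Int.ofNat 0, Int.negSucc 1, Int.negSucc 1, Int.ofNat 0, Int.ofNat 0, Int.ofNat 2, Int.ofNat 0, Int.negSucc 1, Int.ofNat 2, Int.ofNat 0, Int.ofNat 0, Int.ofNat 0, Int.ofNat 2, Int.ofNat 0, Int.negSucc 1, Int.ofNat 0, Int.ofNat 0, Int.ofNat 0, Int.ofNat 0, Int.ofNat 2, Int.ofNat 0],
  [Int.ofNat 0, Int.ofNat 0, Int.ofNat 0, Int.ofNat 2, Int.negSucc 1, Int.ofNat 0, Int.ofNat 0, Int.ofNat 0, Int.ofNat 0, Int.ofNat 0, Int.negSucc 1, Int.ofNat 0, Int.negSucc 1, Int.ofNat 0, Int.ofNat 2, Int.ofNat 2, Int.ofNat 0, Int.ofNat 0, Int.negSucc 1, Int.ofNat 0, Int.ofNat 0, Int.ofNat 0, Int.ofNat 2, Int.ofNat 0],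
  [Int.ofNat 0, Int.ofNat 0, Int.negSucc 1, Int.ofNat 2, Int.negSucc 1, Int.ofNat 0, Int.ofNat 0, Int.negSucc 1, Int.negSucc 1, Int.ofNat 0, Int.ofNat 0, Int.ofNat 0, Int.ofNat 0, Int.ofNat 0, Int.ofNat 2, Int.ofNat 2, Int.ofNat 0, Int.ofNat 2, Int.ofNat 0, Int.ofNat 0, Int.ofNat 0, Int.ofNat 0, Int.ofNat 0, Int.ofNat 0],
  [Int.negSucc 0, Int.negSucc 0, Int.ofNat 1, Int.negSucc 0, Int.negSucc 0, Int.negSucc 2, Int.ofNat 1, Int.negSucc 0, Int.negSucc 0, Int.negSucc 0, Int.negSucc 0, Int.ofNat 1, Int.ofNat 1, Int.ofNat 1, Int.negSucc 0, Int.ofNat 1, Int.ofNat 1, Int.negSucc 0, Int.ofNat 1, Int.ofNat 1, Int.negSucc 0, Int.ofNat 1, Int.ofNat 1, Int.negSucc 0],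
  [Int.negSucc 0, Int.negSucc 0, Int.negSucc 0, Int.negSucc 0, Int.negSucc 0, Int.ofNat 3, Int.negSucc 0, Int.negSucc 0, Int.negSucc 0, Int.ofNat 1, Int.ofNat 1, Int.ofNat 1, Int.ofNat 1, Int.ofNat 1, Int.negSucc 0, Int.negSucc 0, Int.ofNat 1, Int.negSucc 0, Int.negSucc 0, Int.ofNat 1, Int.negSucc 0, Int.ofNat 1, Int.negSucc 0, Int.negSucc 0],
  [Int.ofNat 1, Int.negSucc 0, Int.negSucc 0, Int.ofNat 1, Int.negSucc 0, Int.ofNat 1, Int.negSucc 0, Int.negSucc 0, Int.negSucc 0, Int.negSucc 0, Int.negSucc 0, Int.negSucc 0, Int.negSucc 0, Int.negSucc 0, Int.negSucc 0, Int.negSucc 0, Int.ofNat 1, Int.ofNat 1, Int.ofNat 1, Int.ofNat 1, Int.ofNat 1, Int.negSucc 0, Int.ofNat 3, Int.negSucc 0],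
  [Int.ofNat 1, Int.negSucc 0, Int.ofNat 1, Int.ofNat 1, Int.negSucc 0, Int.negSucc 0, Int.ofNat 1, Int.negSucc 0, Int.negSucc 0, Int.ofNat 1, Int.ofNat 1, Int.negSucc 0, Int.negSucc 0, Int.negSucc 0, Int.negSucc 0, Int.ofNat 1, Int.ofNat 1, Int.ofNat 1, Int.negSucc 0, Int.ofNat 1, Int.ofNat 1, Int.negSucc 0, Int.negSucc 2, Int.negSucc 0],
  [Int.negSucc 0, Int.ofNat 1, Int.negSucc 0, Int.ofNat 1, Int.ofNat 1, Int.negSucc 0, Int.ofNat 1, Int.negSucc 0, Int.ofNat 1, Int.negSucc 0, Int.negSucc 0, Int.ofNat 1, Int.ofNat 1, Int.ofNat 1, Int.negSucc 0, Int.negSucc 0, Int.ofNat 3, Int.ofNat 1, Int.ofNat 1, Int.ofNat 1, Int.negSucc 0, Int.negSucc 0, Int.negSucc 0, Int.ofNat 1],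
  [Int.negSucc 0, Int.ofNat 1, Int.ofNat 1, Int.ofNat 1, Int.negSucc 0, Int.negSucc 0, Int.ofNat 1, Int.negSucc 0, Int.ofNat 3, Int.ofNat 1, Int.negSucc 0, Int.ofNat 1, Int.ofNat 1, Int.negSucc 0, Int.ofNat 1, Int.negSucc 0, Int.ofNat 1, Int.ofNat 1, Int.ofNat 1, Int.negSucc 0, Int.negSucc 0, Int.negSucc 0, Int.negSucc 0, Int.ofNat 1],
  [Int.ofNat 2, Int.ofNat 0, Int.ofNat 0, Int.ofNat 0, Int.ofNat 0, Int.negSucc 1, Int.ofNat 2, Int.ofNat 0, Int.ofNat 0, Int.ofNat 2, Int.ofNat 0, Int.negSucc 1, Int.negSucc 1, Int.ofNat 0, Int.ofNat 0, Int.ofNat 0, Int.ofNat 2, Int.ofNat 0, Int.negSucc 1, Int.ofNat 0, Int.ofNat 0, Int.ofNat 0, Int.ofNat 0, Int.ofNat 0],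
  [Int.ofNat 0, Int.ofNat 0, Int.ofNat 0, Int.ofNat 2, Int.ofNat 0, Int.ofNat 0, Int.ofNat 0, Int.ofNat 0, Int.negSucc 1, Int.ofNat 2, Int.ofNat 0, Int.ofNat 0, Int.ofNat 2, Int.ofNat 0, Int.negSucc 1, Int.negSucc 1, Int.ofNat 0, Int.ofNat 0, Int.ofNat 0, Int.ofNat 2, Int.ofNat 0, Int.negSucc 1, Int.ofNat 0, Int.ofNat 0],
  [Int.ofNat 0, Int.ofNat 0, Int.ofNat 0, Int.ofNat 2, Int.ofNat 0, Int.ofNat 0, Int.ofNat 0, Int.ofNat 0, Int.negSucc 1, Int.ofNat 2, Int.ofNat 0, Int.ofNat 0, Int.ofNat 2, Int.ofNat 0, Int.negSucc 1, Int.negSucc 1, Int.ofNat 0, Int.ofNat 0, Int.ofNat 0, Int.ofNat 2, Int.ofNat 0, Int.negSucc 1, Int.ofNat 0, Int.ofNat 0],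
  [Int.ofNat 0, Int.ofNat 0, Int.ofNat 2, Int.ofNat 0, Int.ofNat 0, Int.ofNat 0, Int.ofNat 0, Int.negSucc 1, Int.ofNat 2, Int.ofNat 0, Int.ofNat 0, Int.ofNat 2, Int.ofNat 0, Int.negSucc 1, Int.negSucc 1, Int.ofNat 0, Int.ofNat 0, Int.ofNat 0, Int.ofNat 2, Int.ofNat 0, Int.negSucc 1, Int.ofNat 0, Int.ofNat 0, Int.ofNat 0],
  [Int.ofNat 0, Int.ofNat 0, Int.negSucc 1, Int.ofNat 0, Int.ofNat 0, Int.ofNat 0, Int.ofNat 0, Int.ofNat 2, Int.ofNat 2, Int.ofNat 0, Int.ofNat 0, Int.negSucc 1, Int.ofNat 0, Int.negSucc 1, Int.negSucc 1, Int.ofNat 0, Int.ofNat 0, Int.ofNat 0, Int.negSucc 1, Int.ofNat 0, Int.negSucc 1, Int.ofNat 0, Int.ofNat 0, Int.ofNat 0],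
  [Int.ofNat 0, Int.negSucc 1, Int.negSucc 1, Int.ofNat 0, Int.ofNat 0, Int.ofNat 0, Int.ofNat 0, Int.negSucc 1, Int.ofNat 0, Int.ofNat 0, Int.ofNat 0, Int.negSucc 1, Int.negSucc 1, Int.ofNat 2, Int.ofNat 0, Int.ofNat 0, Int.ofNat 0, Int.ofNat 0, Int.ofNat 0, Int.ofNat 0, Int.ofNat 0, Int.ofNat 2, Int.negSucc 1, Int.ofNat 0],
  [Int.ofNat 0, Int.negSucc 1, Int.ofNat 2, Int.ofNat 0, Int.ofNat 0, Int.ofNat 0, Int.ofNat 0, Int.ofNat 2, Int.ofNat 0, Int.ofNat 0, Int.ofNat 0, Int.ofNat 2, Int.negSucc 1, Int.ofNat 2, Int.ofNat 0, Int.ofNat 0, Int.ofNat 0, Int.ofNat 0, Int.ofNat 0, Int.ofNat 0, Int.ofNat 0, Int.negSucc 1, Int.negSucc 1, Int.ofNat 0],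
  [Int.negSucc 1, Int.ofNat 0, Int.negSucc 1, Int.ofNat 2, Int.ofNat 0, Int.ofNat 0, Int.ofNat 0, Int.ofNat 0, Int.ofNat 2, Int.ofNat 0, Int.ofNat 0, Int.ofNat 0, Int.ofNat 2, Int.negSucc 1, Int.ofNat 2, Int.ofNat 0, Int.ofNat 0, Int.ofNat 0, Int.ofNat 0, Int.ofNat 0, Int.ofNat 0, Int.ofNat 0, Int.negSucc 1, Int.ofNat 0],
  [Int.ofNat 0, Int.negSucc 1, Int.ofNat 0, Int.ofNat 0, Int.ofNat 2, Int.negSucc 1, Int.ofNat 0, Int.ofNat 0, Int.ofNat 0, Int.ofNat 0, Int.ofNat 0, Int.negSucc 1, Int.ofNat 0, Int.ofNat 0, Int.ofNat 0, Int.ofNat 0, Int.ofNat 2, Int.negSucc 1, Int.negSucc 1, Int.ofNat 0, Int.ofNat 0, Int.ofNat 0, Int.ofNat 0, Int.negSucc 1],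
  [Int.ofNat 0, Int.ofNat 2, Int.negSucc 1, Int.ofNat 0, Int.ofNat 0, Int.ofNat 0, Int.ofNat 0, Int.ofNat 0, Int.negSucc 1, Int.ofNat 0, Int.ofNat 0, Int.ofNat 0, Int.ofNat 0, Int.ofNat 2, Int.negSucc 1, Int.negSucc 1, Int.ofNat 0, Int.ofNat 0, Int.ofNat 0, Int.ofNat 0, Int.ofNat 0, Int.negSucc 1, Int.ofNat 0, Int.negSucc 1],
  [Int.negSucc 0, Int.negSucc 2, Int.ofNat 1, Int.ofNat 1, Int.negSucc 0, Int.ofNat 1, Int.ofNat 1, Int.ofNat 1, Int.negSucc 0, Int.ofNat 1, Int.ofNat 1, Int.ofNat 1, Int.ofNat 1, Int.ofNat 1, Int.negSucc 0, Int.negSucc 0, Int.negSucc 0, Int.ofNat 1, Int.ofNat 1, Int.ofNat 1, Int.ofNat 1, Int.negSucc 0, Int.negSucc 0, Int.ofNat 1],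
  [Int.negSucc 0, Int.ofNat 1, Int.negSucc 0, Int.ofNat 1, Int.ofNat 1, Int.ofNat 1, Int.ofNat 1, Int.ofNat 1, Int.ofNat 1, Int.ofNat 1, Int.ofNat 1, Int.ofNat 1, Int.ofNat 1, Int.negSucc 0, Int.negSucc 0, Int.negSucc 0, Int.negSucc 0, Int.negSucc 0, Int.negSucc 2, Int.ofNat 1, Int.negSucc 0, Int.ofNat 1, Int.ofNat 1, Int.ofNat 1],
  [Int.ofNat 1, Int.negSucc 0, Int.ofNat 1, Int.ofNat 1, Int.ofNat 1, Int.ofNat 1, Int.negSucc 0, Int.negSucc 0, Int.ofNat 1, Int.ofNat 1, Int.ofNat 1, Int.ofNat 1, Int.ofNat 1, Int.negSucc 0, Int.negSucc 0, Int.negSucc 0, Int.negSucc 0, Int.negSucc 0, Int.negSucc 2, Int.negSucc 0, Int.negSucc 0, Int.negSucc 0, Int.ofNat 1, Int.negSucc 0],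
  [Int.ofNat 1, Int.negSucc 0, Int.negSucc 0, Int.ofNat 1, Int.ofNat 1, Int.negSucc 0, Int.ofNat 1, Int.negSucc 0, Int.ofNat 1, Int.negSucc 0, Int.negSucc 0, Int.ofNat 1, Int.ofNat 1, Int.negSucc 0, Int.negSucc 0, Int.ofNat 1, Int.negSucc 0, Int.negSucc 0, Int.ofNat 3, Int.negSucc 0, Int.negSucc 0, Int.negSucc 0, Int.negSucc 0, Int.negSucc 0],
  [Int.negSucc 0, Int.negSucc 0, Int.ofNat 1, Int.ofNat 1, Int.negSucc 0, Int.ofNat 1, Int.negSucc 0, Int.ofNat 1, Int.negSucc 0, Int.negSucc 0, Int.negSucc 0, Int.negSucc 0, Int.ofNat 1, Int.ofNat 1, Int.negSucc 0, Int.ofNat 3, Int.negSucc 0, Int.ofNat 1, Int.negSucc 0, Int.negSucc 0, Int.ofNat 1, Int.negSucc 0, Int.negSucc 0, Int.negSucc 0],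
  [Int.ofNat 1, Int.ofNat 1, Int.negSucc 0, Int.negSucc 0, Int.ofNat 1, Int.ofNat 1, Int.ofNat 1, Int.ofNat 1, Int.ofNat 1, Int.ofNat 1, Int.negSucc 0, Int.negSucc 0, Int.negSucc 0, Int.negSucc 0, Int.negSucc 0, Int.ofNat 3, Int.ofNat 1, Int.ofNat 1, Int.ofNat 1, Int.negSucc 0, Int.ofNat 1, Int.negSucc 0, Int.negSucc 0, Int.negSucc 0],
  [Int.negSucc 0, Int.negSucc 0, Int.negSucc 0, Int.ofNat 3, Int.ofNat 1, Int.ofNat 1, Int.negSucc 0, Int.negSucc 0, Int.ofNat 1, Int.ofNat 1, Int.ofNat 1, Int.negSucc 0, Int.negSucc 0, Int.ofNat 1, Int.ofNat 1, Int.negSucc 0, Int.negSucc 0, Int.ofNat 1, Int.negSucc 0, Int.ofNat 1, Int.ofNat 1, Int.negSucc 0, Int.ofNat 1, Int.ofNat 1],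
  [Int.ofNat 1, Int.negSucc 0, Int.ofNat 1, Int.ofNat 3, Int.ofNat 1, Int.ofNat 1, Int.negSucc 0, Int.ofNat 1, Int.ofNat 1, Int.negSucc 0, Int.negSucc 0, Int.ofNat 1, Int.negSucc 0, Int.ofNat 1, Int.ofNat 1, Int.negSucc 0, Int.negSucc 0, Int.ofNat 1, Int.ofNat 1, Int.ofNat 1, Int.ofNat 1, Int.ofNat 1, Int.ofNat 1, Int.ofNat 1],
  [Int.ofNat 1, Int.ofNat 1, Int.negSucc 0, Int.ofNat 1, Int.ofNat 3, Int.ofNat 1, Int.ofNat 1, Int.negSucc 0, Int.ofNat 1, Int.ofNat 1, Int.negSucc 0, Int.negSucc 0, Int.ofNat 1, Int.negSucc 0, Int.ofNat 1, Int.ofNat 1, Int.negSucc 0, Int.negSucc 0, Int.ofNat 1, Int.ofNat 1, Int.ofNat 1, Int.ofNat 1, Int.ofNat 1, Int.ofNat 1],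
  [Int.ofNat 0, Int.ofNat 0, Int.ofNat 2, Int.ofNat 0, Int.ofNat 2, Int.ofNat 0, Int.ofNat 0, Int.negSucc 1, Int.ofNat 0, Int.ofNat 0, Int.negSucc 1, Int.negSucc 1, Int.ofNat 0, Int.negSucc 1, Int.ofNat 0, Int.ofNat 0, Int.negSucc 1, Int.negSucc 1, Int.ofNat 0, Int.ofNat 0, Int.ofNat 0, Int.ofNat 0, Int.ofNat 0, Int.ofNat 0],
  [Int.ofNat 0, Int.ofNat 2, Int.ofNat 0, Int.ofNat 0, Int.negSucc 1, Int.ofNat 0, Int.ofNat 0, Int.negSucc 1, Int.negSucc 1, Int.ofNat 0, Int.negSucc 1, Int.ofNat 0, Int.ofNat 0, Int.negSucc 1, Int.negSucc 1, Int.ofNat 0, Int.ofNat 0, Int.ofNat 0, Int.ofNat 0, Int.ofNat 0, Int.ofNat 0, Int.ofNat 0, Int.ofNat 2, Int.ofNat 0],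
  [Int.ofNat 1, Int.negSucc 0, Int.ofNat 1, Int.ofNat 1, Int.negSucc 0, Int.ofNat 1, Int.ofNat 1, Int.negSucc 0, Int.negSucc 0, Int.ofNat 1, Int.negSucc 0, Int.ofNat 1, Int.ofNat 1, Int.negSucc 0, Int.negSucc 0, Int.ofNat 1, Int.ofNat 1, Int.ofNat 1, Int.ofNat 1, Int.ofNat 1, Int.ofNat 1, Int.ofNat 1, Int.ofNat 3, Int.ofNat 1],
  [Int.ofNat 1, Int.ofNat 1, Int.negSucc 0, Int.ofNat 1, Int.ofNat 1, Int.negSucc 0, Int.ofNat 1, Int.negSucc 0, Int.ofNat 1, Int.negSucc 0, Int.ofNat 1, Int.ofNat 1, Int.ofNat 1, Int.ofNat 1, Int.ofNat 3, Int.ofNat 1, Int.negSucc 0, Int.negSucc 0, Int.negSucc 0, Int.ofNat 1, Int.ofNat 1, Int.ofNat 1, Int.ofNat 1, Int.ofNat 1],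
  [Int.ofNat 0, Int.ofNat 0, Int.ofNat 2, Int.ofNat 0, Int.ofNat 0, Int.negSucc 1, Int.ofNat 0, Int.negSucc 1, Int.ofNat 0, Int.negSucc 1, Int.ofNat 0, Int.ofNat 0, Int.ofNat 0, Int.ofNat 0, Int.ofNat 2, Int.ofNat 0, Int.negSucc 1, Int.negSucc 1, Int.negSucc 1, Int.ofNat 0, Int.ofNat 0, Int.ofNat 0, Int.ofNat 0, Int.ofNat 0],
  [Int.ofNat 0, Int.ofNat 0, Int.negSucc 1, Int.ofNat 0, Int.ofNat 0, Int.ofNat 2, Int.ofNat 0, Int.negSucc 1, Int.ofNat 0, Int.ofNat 2, Int.ofNat 0, Int.ofNat 0, Int.ofNat 0, Int.ofNat 0, Int.ofNat 2, Int.ofNat 0, Int.negSucc 1, Int.negSucc 1, Int.ofNat 2, Int.ofNat 0, Int.ofNat 0, Int.ofNat 0, Int.ofNat 0, Int.ofNat 0],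
  [Int.ofNat 0, Int.ofNat 0, Int.ofNat 0, Int.ofNat 0, Int.ofNat 0, Int.ofNat 0, Int.negSucc 1, Int.ofNat 0, Int.ofNat 0, Int.ofNat 2, Int.ofNat 0, Int.negSucc 1, Int.ofNat 0, Int.negSucc 1, Int.ofNat 0, Int.ofNat 0, Int.ofNat 0, Int.ofNat 0, Int.negSucc 1, Int.ofNat 0, Int.ofNat 2, Int.ofNat 2, Int.ofNat 2, Int.ofNat 0],
  [Int.ofNat 0, Int.ofNat 0, Int.ofNat 0, Int.ofNat 0, Int.ofNat 0, Int.ofNat 0, Int.ofNat 2, Int.ofNat 0, Int.ofNat 0, Int.negSucc 1, Int.ofNat 0, Int.negSucc 1, Int.ofNat 0, Int.negSucc 1, Int.ofNat 0, Int.ofNat 0, Int.ofNat 0, Int.ofNat 0, Int.ofNat 2, Int.ofNat 0, Int.ofNat 2, Int.ofNat 2, Int.negSucc 1, Int.ofNat 0],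
  [Int.ofNat 0, Int.ofNat 0, Int.ofNat 0, Int.ofNat 0, Int.ofNat 2, Int.ofNat 0, Int.ofNat 0, Int.negSucc 1, Int.ofNat 0, Int.negSucc 1, Int.ofNat 0, Int.negSucc 1, Int.ofNat 0, Int.ofNat 0, Int.ofNat 0, Int.ofNat 0, Int.ofNat 2, Int.ofNat 0, Int.ofNat 2, Int.negSucc 1, Int.ofNat 2, Int.ofNat 0, Int.ofNat 0, Int.ofNat 0],
  [Int.ofNat 0, Int.ofNat 2, Int.ofNat 0, Int.ofNat 0, Int.ofNat 0, Int.ofNat 0, Int.ofNat 0, Int.ofNat 0, Int.ofNat 2, Int.ofNat 0, Int.negSucc 1, Int.negSucc 1, Int.ofNat 0, Int.negSucc 1, Int.ofNat 0, Int.ofNat 0, Int.ofNat 0, Int.negSucc 1, Int.ofNat 2, Int.ofNat 0, Int.ofNat 0, Int.ofNat 2, Int.ofNat 0, Int.ofNat 0],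
  [Int.ofNat 1, Int.negSucc 0, Int.ofNat 1, Int.ofNat 1, Int.ofNat 1, Int.ofNat 1, Int.negSucc 0, Int.negSucc 0, Int.ofNat 1, Int.ofNat 1, Int.negSucc 0, Int.negSucc 2, Int.negSucc 0, Int.negSucc 0, Int.ofNat 1, Int.ofNat 1, Int.ofNat 1, Int.negSucc 0, Int.ofNat 1, Int.negSucc 0, Int.ofNat 1, Int.ofNat 1, Int.ofNat 1, Int.ofNat 1],
  [Int.ofNat 1, Int.ofNat 1, Int.ofNat 1, Int.ofNat 1, Int.negSucc 0, Int.ofNat 1, Int.ofNat 1, Int.ofNat 1, Int.ofNat 1, Int.negSucc 0, Int.negSucc 0, Int.ofNat 1, Int.ofNat 1, Int.negSucc 0, Int.negSucc 2, Int.negSucc 0, Int.negSucc 0, Int.ofNat 1, Int.ofNat 1, Int.ofNat 1, Int.negSucc 0, Int.ofNat 1, Int.negSucc 0, Int.ofNat 1],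
  [Int.ofNat 1, Int.ofNat 1, Int.ofNat 1, Int.ofNat 1, Int.ofNat 1, Int.ofNat 1, Int.negSucc 0, Int.negSucc 0, Int.negSucc 0, Int.ofNat 1, Int.ofNat 1, Int.negSucc 0, Int.negSucc 0, Int.ofNat 1, Int.negSucc 2, Int.ofNat 1, Int.ofNat 1, Int.ofNat 1, Int.negSucc 0, Int.negSucc 0, Int.ofNat 1, Int.negSucc 0, Int.ofNat 1, Int.ofNat 1],
  [Int.ofNat 1, Int.ofNat 1, Int.ofNat 1, Int.ofNat 1, Int.ofNat 1, Int.negSucc 0, Int.negSucc 0, Int.negSucc 0, Int.ofNat 1, Int.ofNat 1, Int.negSucc 0, Int.negSucc 0, Int.ofNat 1, Int.negSucc 2, Int.ofNat 1, Int.ofNat 1, Int.ofNat 1, Int.negSucc 0, Int.negSucc 0, Int.ofNat 1, Int.negSucc 0, Int.ofNat 1, Int.ofNat 1, Int.ofNat 1],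
  [Int.negSucc 0, Int.ofNat 1, Int.negSucc 0, Int.ofNat 1, Int.ofNat 1, Int.negSucc 0, Int.negSucc 0, Int.ofNat 1, Int.ofNat 1, Int.negSucc 0, Int.ofNat 1, Int.ofNat 1, Int.ofNat 1, Int.negSucc 2, Int.ofNat 1, Int.ofNat 1, Int.ofNat 1, Int.negSucc 0, Int.ofNat 1, Int.ofNat 1, Int.negSucc 0, Int.negSucc 0, Int.ofNat 1, Int.ofNat 1],
  [Int.negSucc 0, Int.negSucc 0, Int.ofNat 1, Int.ofNat 1, Int.ofNat 1, Int.ofNat 1, Int.ofNat 1, Int.negSucc 0, Int.negSucc 0, Int.ofNat 1, Int.negSucc 0, Int.ofNat 1, Int.negSucc 2, Int.ofNat 1, Int.ofNat 1, Int.ofNat 1, Int.ofNat 1, Int.ofNat 1, Int.negSucc 0, Int.negSucc 0, Int.negSucc 0, Int.ofNat 1, Int.ofNat 1, Int.ofNat 1],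
  [Int.ofNat 1, Int.negSucc 0, Int.negSucc 0, Int.ofNat 1, Int.ofNat 1, Int.ofNat 1, Int.ofNat 1, Int.ofNat 1, Int.negSucc 0, Int.negSucc 0, Int.ofNat 1, Int.negSucc 0, Int.negSucc 2, Int.ofNat 1, Int.ofNat 1, Int.ofNat 1, Int.ofNat 1, Int.ofNat 1, Int.ofNat 1, Int.negSucc 0, Int.negSucc 0, Int.negSucc 0, Int.ofNat 1, Int.ofNat 1],
  [Int.ofNat 1, Int.ofNat 1, Int.negSucc 0, Int.negSucc 0, Int.ofNat 1, Int.ofNat 1, Int.ofNat 1, Int.ofNat 1, Int.ofNat 1, Int.negSucc 0, Int.negSucc 0, Int.ofNat 1, Int.negSucc 0, Int.negSucc 2, Int.ofNat 1, Int.ofNat 1, Int.ofNat 1, Int.ofNat 1, Int.ofNat 1, Int.ofNat 1, Int.negSucc 0, Int.negSucc 0, Int.negSucc 0, Int.ofNat 1],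
  [Int.ofNat 0, Int.ofNat 0, Int.ofNat 2, Int.negSucc 1, Int.ofNat 2, Int.ofNat 0, Int.ofNat 0, Int.ofNat 0, Int.ofNat 0, Int.ofNat 0, Int.ofNat 0, Int.ofNat 0, Int.negSucc 1, Int.negSucc 1, Int.ofNat 0, Int.ofNat 2, Int.ofNat 2, Int.ofNat 0, Int.ofNat 0, Int.ofNat 0, Int.ofNat 0, Int.negSucc 1, Int.ofNat 0, Int.ofNat 0],
  [Int.negSucc 1, Int.ofNat 2, Int.ofNat 0, Int.ofNat 0, Int.ofNat 0, Int.ofNat 0, Int.ofNat 0, Int.ofNat 0, Int.ofNat 0, Int.negSucc 1, Int.negSucc 1, Int.ofNat 0, Int.ofNat 2, Int.ofNat 2, Int.ofNat 0, Int.ofNat 0, Int.ofNat 0, Int.ofNat 0, Int.negSucc 1, Int.ofNat 0, Int.ofNat 0, Int.ofNat 0, Int.ofNat 2, Int.ofNat 0],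
  [Int.ofNat 2, Int.negSucc 1, Int.ofNat 0, Int.ofNat 0, Int.negSucc 1, Int.ofNat 0, Int.ofNat 0, Int.ofNat 0, Int.ofNat 0, Int.ofNat 0, Int.ofNat 0, Int.ofNat 0, Int.ofNat 2, Int.ofNat 0, Int.ofNat 0, Int.ofNat 2, Int.negSucc 1, Int.ofNat 0, Int.negSucc 1, Int.ofNat 0, Int.ofNat 2, Int.ofNat 0, Int.ofNat 0, Int.ofNat 0],
  [Int.ofNat 2, Int.ofNat 0, Int.negSucc 1, Int.ofNat 0, Int.negSucc 1, Int.ofNat 0, Int.ofNat 0, Int.ofNat 0, Int.ofNat 2, Int.ofNat 0, Int.ofNat 2, Int.ofNat 0, Int.ofNat 0, Int.negSucc 1, Int.ofNat 0, Int.ofNat 2, Int.ofNat 0, Int.ofNat 0, Int.negSucc 1, Int.ofNat 0, Int.ofNat 0, Int.ofNat 0, Int.ofNat 0, Int.ofNat 0],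
  [Int.negSucc 1, Int.ofNat 0, Int.ofNat 2, Int.ofNat 0, Int.ofNat 0, Int.ofNat 0, Int.ofNat 0, Int.ofNat 0, Int.ofNat 2, Int.negSucc 1, Int.ofNat 0, Int.ofNat 0, Int.ofNat 0, Int.ofNat 0, Int.ofNat 0, Int.ofNat 0, Int.ofNat 2, Int.ofNat 0, Int.negSucc 1, Int.ofNat 0, Int.negSucc 1, Int.ofNat 0, Int.ofNat 2, Int.ofNat 0],
  [Int.negSucc 1, Int.ofNat 0, Int.negSucc 1, Int.ofNat 0, Int.ofNat 0, Int.ofNat 0, Int.ofNat 0, Int.ofNat 0, Int.ofNat 2, Int.ofNat 2, Int.ofNat 0, Int.ofNat 0, Int.ofNat 0, Int.ofNat 0, Int.ofNat 0, Int.ofNat 0, Int.ofNat 2, Int.ofNat 0, Int.ofNat 2, Int.ofNat 0, Int.negSucc 1, Int.ofNat 0, Int.negSucc 1, Int.ofNat 0],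
  [Int.ofNat 0, Int.ofNat 2, Int.ofNat 0, Int.ofNat 2, Int.ofNat 0, Int.ofNat 0, Int.ofNat 0, Int.ofNat 0, Int.ofNat 0, Int.negSucc 1, Int.ofNat 0, Int.ofNat 0, Int.ofNat 0, Int.ofNat 0, Int.ofNat 0, Int.ofNat 2, Int.ofNat 0, Int.ofNat 0, Int.ofNat 2, Int.negSucc 1, Int.negSucc 1, Int.ofNat 0, Int.negSucc 1, Int.ofNat 0],
  [Int.ofNat 0, Int.negSucc 1, Int.ofNat 0, Int.negSucc 1, Int.ofNat 0, Int.ofNat 0, Int.ofNat 0, Int.ofNat 0, Int.ofNat 0, Int.ofNat 2, Int.ofNat 0, Int.ofNat 0, Int.ofNat 0, Int.ofNat 0, Int.ofNat 0, Int.ofNat 2, Int.ofNat 0, Int.ofNat 0, Int.negSucc 1, Int.negSucc 1, Int.negSucc 1, Int.ofNat 0, Int.negSucc 1, Int.ofNat 0],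
  [Int.ofNat 0, Int.negSucc 1, Int.ofNat 0, Int.ofNat 2, Int.ofNat 0, Int.ofNat 2, Int.negSucc 1, Int.ofNat 0, Int.negSucc 1, Int.ofNat 0, Int.ofNat 0, Int.ofNat 0, Int.ofNat 0, Int.ofNat 0, Int.negSucc 1, Int.negSucc 1, Int.ofNat 0, Int.ofNat 0, Int.ofNat 0, Int.ofNat 0, Int.ofNat 0, Int.ofNat 0, Int.negSucc 1, Int.ofNat 0],
  [Int.ofNat 0, Int.negSucc 1, Int.ofNat 0, Int.ofNat 2, Int.ofNat 0, Int.ofNat 2, Int.negSucc 1, Int.ofNat 0, Int.negSucc 1, Int.ofNat 0, Int.ofNat 0, Int.ofNat 0, Int.ofNat 0, Int.ofNat 0, Int.negSucc 1, Int.negSucc 1, Int.ofNat 0, Int.ofNat 0, Int.ofNat 0, Int.ofNat 0, Int.ofNat 0, Int.ofNat 0, Int.negSucc 1, Int.ofNat 0],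
  [Int.negSucc 1, Int.ofNat 0, Int.negSucc 1, Int.ofNat 0, Int.ofNat 2, Int.ofNat 0, Int.ofNat 2, Int.negSucc 1, Int.ofNat 0, Int.negSucc 1, Int.ofNat 0, Int.ofNat 0, Int.ofNat 0, Int.ofNat 0, Int.ofNat 0, Int.negSucc 1, Int.negSucc 1, Int.ofNat 0, Int.ofNat 0, Int.ofNat 0, Int.ofNat 0, Int.ofNat 0, Int.ofNat 0, Int.ofNat 0],
  [Int.ofNat 0, Int.negSucc 1, Int.ofNat 0, Int.ofNat 0, Int.ofNat 2, Int.ofNat 0, Int.ofNat 2, Int.negSucc 1, Int.ofNat 0, Int.ofNat 0, Int.ofNat 2, Int.ofNat 0, Int.ofNat 0, Int.ofNat 0, Int.ofNat 0, Int.ofNat 0, Int.negSucc 1, Int.ofNat 0, Int.ofNat 0, Int.ofNat 0, Int.ofNat 2, Int.ofNat 0, Int.ofNat 0, Int.negSucc 1],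
  [Int.ofNat 0, Int.ofNat 2, Int.ofNat 0, Int.ofNat 2, Int.negSucc 1, Int.ofNat 0, Int.ofNat 0, Int.ofNat 2, Int.ofNat 0, Int.ofNat 0, Int.ofNat 0, Int.ofNat 0, Int.ofNat 0, Int.negSucc 1, Int.ofNat 0, Int.ofNat 0, Int.ofNat 0, Int.ofNat 2, Int.ofNat 0, Int.ofNat 0, Int.ofNat 0, Int.negSucc 1, Int.ofNat 0, Int.negSucc 1],
  [Int.ofNat 0, Int.negSucc 1, Int.ofNat 0, Int.ofNat 0, Int.ofNat 0, Int.negSucc 1, Int.ofNat 0, Int.ofNat 2, Int.ofNat 0, Int.ofNat 0, Int.ofNat 0, Int.ofNat 0, Int.ofNat 0, Int.ofNat 0, Int.negSucc 1, Int.ofNat 0, Int.ofNat 2, Int.ofNat 0, Int.ofNat 0, Int.ofNat 0, Int.ofNat 0, Int.negSucc 1, Int.ofNat 2, Int.ofNat 2],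
  [Int.ofNat 0, Int.ofNat 0, Int.ofNat 0, Int.ofNat 0, Int.ofNat 0, Int.ofNat 2, Int.ofNat 0, Int.ofNat 0, Int.ofNat 0, Int.ofNat 0, Int.ofNat 0, Int.ofNat 0, Int.ofNat 0, Int.ofNat 2, Int.ofNat 2, Int.ofNat 0, Int.ofNat 0, Int.negSucc 1, Int.negSucc 1, Int.ofNat 0, Int.negSucc 1, Int.negSucc 1, Int.ofNat 0, Int.ofNat 2],
  [Int.ofNat 1, Int.ofNat 1, Int.ofNat 1, Int.negSucc 0, Int.negSucc 0, Int.ofNat 1, Int.ofNat 1, Int.ofNat 1, Int.ofNat 1, Int.ofNat 1, Int.ofNat 1, Int.ofNat 1, Int.ofNat 1, Int.ofNat 1, Int.ofNat 1, Int.ofNat 1, Int.negSucc 0, Int.negSucc 2, Int.negSucc 0, Int.ofNat 1, Int.negSucc 0, Int.negSucc 0, Int.negSucc 0, Int.negSucc 0],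
  [Int.ofNat 1, Int.ofNat 1, Int.negSucc 0, Int.negSucc 0, Int.negSucc 0, Int.negSucc 0, Int.negSucc 0, Int.ofNat 1, Int.ofNat 1, Int.negSucc 0, Int.negSucc 0, Int.ofNat 1, Int.ofNat 1, Int.ofNat 1, Int.ofNat 1, Int.negSucc 0, Int.negSucc 0, Int.negSucc 2, Int.ofNat 1, Int.ofNat 1, Int.negSucc 0, Int.negSucc 0, Int.ofNat 1, Int.negSucc 0],
  [Int.negSucc 0, Int.negSucc 0, Int.negSucc 0, Int.ofNat 1, Int.ofNat 1, Int.ofNat 1, Int.negSucc 2, Int.ofNat 1, Int.negSucc 0, Int.ofNat 1, Int.negSucc 0, Int.ofNat 1, Int.ofNat 1, Int.negSucc 0, Int.negSucc 0, Int.ofNat 1, Int.ofNat 1, Int.negSucc 0, Int.negSucc 0, Int.ofNat 1, Int.negSucc 0, Int.ofNat 1, Int.negSucc 0, Int.negSucc 0],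
  [Int.negSucc 0, Int.negSucc 0, Int.ofNat 1, Int.ofNat 1, Int.ofNat 1, Int.negSucc 0, Int.ofNat 3, Int.ofNat 1, Int.negSucc 0, Int.negSucc 0, Int.ofNat 1, Int.ofNat 1, Int.ofNat 1, Int.negSucc 0, Int.negSucc 0, Int.negSucc 0, Int.ofNat 1, Int.negSucc 0, Int.ofNat 1, Int.ofNat 1, Int.negSucc 0, Int.ofNat 1, Int.ofNat 1, Int.negSucc 0],
  [Int.ofNat 0, Int.ofNat 0, Int.negSucc 1, Int.ofNat 2, Int.ofNat 0, Int.ofNat 0, Int.ofNat 0, Int.negSucc 1, Int.negSucc 1, Int.ofNat 0, Int.ofNat 2, Int.ofNat 0, Int.ofNat 0, Int.negSucc 1, Int.ofNat 0, Int.ofNat 0, Int.ofNat 0, Int.ofNat 0, Int.ofNat 0, Int.negSucc 1, Int.ofNat 0, Int.negSucc 1, Int.ofNat 0, Int.ofNat 0],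
  [Int.ofNat 0, Int.ofNat 0, Int.ofNat 0, Int.ofNat 2, Int.negSucc 1, Int.negSucc 1, Int.ofNat 0, Int.ofNat 0, Int.ofNat 0, Int.ofNat 0, Int.negSucc 1, Int.negSucc 1, Int.negSucc 1, Int.ofNat 0, Int.ofNat 0, Int.ofNat 0, Int.negSucc 1, Int.ofNat 0, Int.ofNat 0, Int.ofNat 0, Int.ofNat 2, Int.ofNat 0, Int.ofNat 0, Int.ofNat 0],
  [Int.ofNat 0, Int.ofNat 0, Int.ofNat 0, Int.ofNat 2, Int.ofNat 0, Int.negSucc 1, Int.ofNat 0, Int.ofNat 0, Int.ofNat 2, Int.ofNat 0, Int.negSucc 1, Int.ofNat 0, Int.ofNat 0, Int.ofNat 2, Int.ofNat 0, Int.ofNat 0, Int.ofNat 0, Int.ofNat 0, Int.ofNat 2, Int.ofNat 0, Int.ofNat 2, Int.ofNat 0, Int.ofNat 2, Int.ofNat 0],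
  [Int.ofNat 2, Int.ofNat 0, Int.ofNat 2, Int.ofNat 0, Int.ofNat 0, Int.ofNat 0, Int.ofNat 2, Int.ofNat 0, Int.negSucc 1, Int.ofNat 0, Int.ofNat 0, Int.ofNat 2, Int.ofNat 0, Int.negSucc 1, Int.ofNat 0, Int.ofNat 0, Int.ofNat 2, Int.ofNat 0, Int.ofNat 0, Int.ofNat 0, Int.ofNat 0, Int.ofNat 2, Int.ofNat 0, Int.ofNat 0],
  [Int.ofNat 0, Int.ofNat 2, Int.ofNat 0, Int.ofNat 0, Int.ofNat 0, Int.ofNat 0, Int.ofNat 0, Int.negSucc 1, Int.negSucc 1, Int.ofNat 0, Int.ofNat 0, Int.ofNat 2, Int.ofNat 0, Int.negSucc 1, Int.ofNat 0, Int.ofNat 0, Int.ofNat 2, Int.ofNat 0, Int.ofNat 0, Int.negSucc 1, Int.ofNat 0, Int.ofNat 0, Int.ofNat 0, Int.ofNat 2],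
  [Int.ofNat 2, Int.ofNat 0, Int.ofNat 0, Int.ofNat 0, Int.ofNat 0, Int.ofNat 0, Int.negSucc 1, Int.negSucc 1, Int.ofNat 0, Int.ofNat 0, Int.ofNat 2, Int.ofNat 0, Int.negSucc 1, Int.ofNat 0, Int.ofNat 0, Int.ofNat 2, Int.ofNat 0, Int.ofNat 0, Int.negSucc 1, Int.ofNat 0, Int.ofNat 0, Int.ofNat 0, Int.ofNat 0, Int.ofNat 2],
  [Int.negSucc 1, Int.ofNat 0, Int.ofNat 0, Int.ofNat 0, Int.ofNat 0, Int.ofNat 0, Int.negSucc 1, Int.ofNat 2, Int.ofNat 0, Int.ofNat 0, Int.negSucc 1, Int.ofNat 0, Int.negSucc 1, Int.ofNat 0, Int.ofNat 0, Int.ofNat 2, Int.ofNat 0, Int.ofNat 0, Int.ofNat 2, Int.ofNat 0, Int.ofNat 0, Int.ofNat 0, Int.ofNat 0, Int.ofNat 2],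
  [Int.negSucc 1, Int.ofNat 0, Int.ofNat 2, Int.ofNat 0, Int.ofNat 0, Int.negSucc 1, Int.ofNat 0, Int.ofNat 0, Int.ofNat 0, Int.ofNat 0, Int.ofNat 0, Int.ofNat 0, Int.ofNat 0, Int.ofNat 0, Int.ofNat 0, Int.ofNat 2, Int.negSucc 1, Int.ofNat 0, Int.negSucc 1, Int.ofNat 0, Int.ofNat 0, Int.ofNat 2, Int.ofNat 0, Int.ofNat 2],
  [Int.ofNat 2, Int.ofNat 0, Int.negSucc 1, Int.ofNat 0, Int.ofNat 0, Int.negSucc 1, Int.ofNat 0, Int.ofNat 0, Int.ofNat 0, Int.ofNat 0, Int.ofNat 0, Int.ofNat 0, Int.ofNat 0, Int.ofNat 0, Int.ofNat 0, Int.ofNat 2, Int.negSucc 1, Int.ofNat 0, Int.ofNat 2, Int.ofNat 0, Int.ofNat 0, Int.negSucc 1, Int.ofNat 0, Int.ofNat 2],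
  [Int.ofNat 0, Int.ofNat 2, Int.ofNat 0, Int.negSucc 1, Int.ofNat 0, Int.ofNat 0, Int.negSucc 1, Int.ofNat 0, Int.ofNat 0, Int.ofNat 0, Int.ofNat 0, Int.ofNat 0, Int.ofNat 0, Int.ofNat 0, Int.ofNat 0, Int.ofNat 0, Int.ofNat 2, Int.negSucc 1, Int.ofNat 0, Int.ofNat 2, Int.ofNat 0, Int.ofNat 0, Int.negSucc 1, Int.ofNat 2],
  [Int.ofNat 2, Int.ofNat 0, Int.ofNat 2, Int.ofNat 0, Int.ofNat 0, Int.ofNat 2, Int.negSucc 1, Int.ofNat 0, Int.ofNat 0, Int.ofNat 0, Int.ofNat 0, Int.ofNat 0, Int.ofNat 0, Int.ofNat 0, Int.ofNat 2, Int.ofNat 0, Int.ofNat 2, Int.ofNat 0, Int.ofNat 0, Int.ofNat 2, Int.ofNat 0, Int.ofNat 0, Int.negSucc 1, Int.ofNat 0],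
  [Int.ofNat 0, Int.ofNat 0, Int.ofNat 2, Int.negSucc 1, Int.ofNat 0, Int.ofNat 0, Int.ofNat 0, Int.ofNat 0, Int.ofNat 0, Int.ofNat 0, Int.ofNat 0, Int.ofNat 2, Int.ofNat 0, Int.ofNat 2, Int.ofNat 0, Int.ofNat 0, Int.ofNat 2, Int.ofNat 0, Int.ofNat 0, Int.negSucc 1, Int.ofNat 2, Int.ofNat 0, Int.ofNat 2, Int.ofNat 0],
  [Int.ofNat 1, Int.ofNat 1, Int.negSucc 0, Int.negSucc 0, Int.negSucc 2, Int.ofNat 1, Int.ofNat 1, Int.ofNat 1, Int.negSucc 0, Int.negSucc 0, Int.negSucc 0, Int.ofNat 1, Int.negSucc 0, Int.negSucc 0, Int.ofNat 1, Int.negSucc 0, Int.negSucc 0, Int.ofNat 1, Int.negSucc 0, Int.negSucc 0, Int.ofNat 1, Int.ofNat 1, Int.negSucc 0, Int.ofNat 1],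
  [Int.ofNat 1, Int.ofNat 1, Int.negSucc 2, Int.negSucc 0, Int.negSucc 0, Int.ofNat 1, Int.negSucc 0, Int.negSucc 0, Int.negSucc 0, Int.negSucc 0, Int.ofNat 1, Int.ofNat 1, Int.negSucc 0, Int.negSucc 0, Int.negSucc 0, Int.negSucc 0, Int.negSucc 0, Int.ofNat 1, Int.ofNat 1, Int.ofNat 1, Int.ofNat 1, Int.ofNat 1, Int.negSucc 0, Int.ofNat 1],
  [Int.negSucc 0, Int.negSucc 0, Int.ofNat 3, Int.negSucc 0, Int.ofNat 1, Int.ofNat 1, Int.negSucc 0, Int.negSucc 0, Int.negSucc 0, Int.negSucc 0, Int.ofNat 1, Int.ofNat 1, Int.negSucc 0, Int.ofNat 1, Int.negSucc 0, Int.negSucc 0, Int.ofNat 1, Int.ofNat 1, Int.ofNat 1, Int.ofNat 1, Int.ofNat 1, Int.ofNat 1, Int.ofNat 1, Int.negSucc 0],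
  [Int.negSucc 0, Int.negSucc 0, Int.negSucc 2, Int.negSucc 0, Int.ofNat 1, Int.negSucc 0, Int.ofNat 1, Int.negSucc 0, Int.negSucc 0, Int.ofNat 1, Int.negSucc 0, Int.ofNat 1, Int.negSucc 0, Int.ofNat 1, Int.negSucc 0, Int.ofNat 1, Int.ofNat 1, Int.ofNat 1, Int.negSucc 0, Int.ofNat 1, Int.ofNat 1, Int.ofNat 1, Int.negSucc 0, Int.negSucc 0],
  [Int.negSucc 0, Int.ofNat 1, Int.ofNat 1, Int.negSucc 0, Int.negSucc 0, Int.ofNat 1, Int.ofNat 1, Int.negSucc 0, Int.negSucc 0, Int.ofNat 1, Int.ofNat 1, Int.negSucc 0, Int.ofNat 1, Int.ofNat 1, Int.ofNat 1, Int.negSucc 0, Int.ofNat 1, Int.negSucc 0, Int.ofNat 1, Int.negSucc 2, Int.negSucc 0, Int.negSucc 0, Int.negSucc 0, Int.negSucc 0],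
  [Int.ofNat 1, Int.negSucc 0, Int.negSucc 0, Int.ofNat 1, Int.ofNat 1, Int.ofNat 1, Int.negSucc 0, Int.negSucc 0, Int.ofNat 1, Int.negSucc 0, Int.ofNat 1, Int.negSucc 0, Int.negSucc 0, Int.negSucc 0, Int.ofNat 1, Int.negSucc 0, Int.negSucc 0, Int.negSucc 0, Int.negSucc 0, Int.negSucc 2, Int.negSucc 0, Int.negSucc 0, Int.negSucc 0, Int.negSucc 0],
  [Int.negSucc 0, Int.negSucc 0, Int.negSucc 0, Int.negSucc 0, Int.negSucc 0, Int.negSucc 0, Int.negSucc 2, Int.negSucc 0, Int.negSucc 0, Int.ofNat 1, Int.negSucc 0, Int.negSucc 0, Int.negSucc 0, Int.negSucc 0, Int.negSucc 0, Int.ofNat 1, Int.ofNat 1, Int.ofNat 1, Int.ofNat 1, Int.negSucc 0, Int.ofNat 1, Int.negSucc 0, Int.negSucc 0, Int.ofNat 1],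
  [Int.ofNat 1, Int.negSucc 0, Int.ofNat 1, Int.negSucc 0, Int.negSucc 0, Int.negSucc 0, Int.negSucc 2, Int.ofNat 1, Int.negSucc 0, Int.negSucc 0, Int.ofNat 1, Int.ofNat 1, Int.negSucc 0, Int.negSucc 0, Int.negSucc 0, Int.ofNat 1, Int.ofNat 1, Int.ofNat 1, Int.negSucc 0, Int.negSucc 0, Int.ofNat 1, Int.ofNat 1, Int.negSucc 0, Int.ofNat 1],
  [Int.negSucc 0, Int.ofNat 1, Int.negSucc 0, Int.ofNat 1, Int.negSucc 0, Int.negSucc 0, Int.negSucc 0, Int.negSucc 2, Int.ofNat 1, Int.negSucc 0, Int.negSucc 0, Int.ofNat 1, Int.ofNat 1, Int.negSucc 0, Int.negSucc 0, Int.negSucc 0, Int.ofNat 1, Int.ofNat 1, Int.ofNat 1, Int.negSucc 0, Int.negSucc 0, Int.ofNat 1, Int.ofNat 1, Int.ofNat 1],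
  [Int.ofNat 1, Int.negSucc 0, Int.ofNat 1, Int.ofNat 1, Int.negSucc 0, Int.negSucc 0, Int.ofNat 1, Int.negSucc 0, Int.negSucc 0, Int.ofNat 1, Int.ofNat 1, Int.negSucc 0, Int.negSucc 0, Int.negSucc 0, Int.negSucc 0, Int.ofNat 1, Int.ofNat 1, Int.ofNat 1, Int.negSucc 0, Int.ofNat 1, Int.ofNat 1, Int.ofNat 3, Int.ofNat 1, Int.negSucc 0],
  [Int.ofNat 1, Int.negSucc 0, Int.negSucc 0, Int.ofNat 1, Int.negSucc 0, Int.negSucc 0, Int.ofNat 1, Int.ofNat 1, Int.negSucc 0, Int.negSucc 0, Int.negSucc 0, Int.negSucc 0, Int.ofNat 1, Int.ofNat 1, Int.ofNat 1, Int.negSucc 0, Int.ofNat 1, Int.ofNat 1, Int.ofNat 3, Int.ofNat 1, Int.ofNat 1, Int.negSucc 0, Int.ofNat 1, Int.negSucc 0],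
  [Int.negSucc 1, Int.ofNat 0, Int.ofNat 0, Int.ofNat 0, Int.negSucc 1, Int.negSucc 1, Int.ofNat 0, Int.ofNat 0, Int.negSucc 1, Int.ofNat 0, Int.ofNat 0, Int.negSucc 1, Int.ofNat 0, Int.ofNat 0, Int.ofNat 0, Int.ofNat 0, Int.ofNat 0, Int.ofNat 0, Int.ofNat 2, Int.ofNat 0, Int.ofNat 2, Int.negSucc 1, Int.ofNat 0, Int.ofNat 0],
  [Int.negSucc 1, Int.ofNat 0, Int.negSucc 1, Int.ofNat 0, Int.ofNat 2, Int.ofNat 0, Int.ofNat 0, Int.ofNat 0, Int.ofNat 0, Int.ofNat 0, Int.ofNat 2, Int.ofNat 0, Int.ofNat 0, Int.ofNat 0, Int.ofNat 0, Int.ofNat 0, Int.negSucc 1, Int.ofNat 0, Int.ofNat 0, Int.negSucc 1, Int.negSucc 1, Int.negSucc 1, Int.ofNat 0, Int.ofNat 0],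
  [Int.ofNat 0, Int.negSucc 1, Int.ofNat 0, Int.ofNat 0, Int.ofNat 2, Int.ofNat 0, Int.ofNat 2, Int.ofNat 2, Int.ofNat 0, Int.ofNat 0, Int.ofNat 2, Int.ofNat 0, Int.ofNat 0, Int.ofNat 0, Int.ofNat 0, Int.ofNat 0, Int.negSucc 1, Int.ofNat 0, Int.ofNat 0, Int.ofNat 0, Int.negSucc 1, Int.ofNat 0, Int.ofNat 0, Int.negSucc 1],
  [Int.ofNat 0, Int.negSucc 1, Int.ofNat 0, Int.ofNat 0, Int.ofNat 2, Int.ofNat 0, Int.negSucc 1, Int.ofNat 2, Int.ofNat 0, Int.ofNat 0, Int.negSucc 1, Int.ofNat 0, Int.ofNat 0, Int.ofNat 0, Int.ofNat 0, Int.ofNat 0, Int.negSucc 1, Int.ofNat 0, Int.ofNat 0, Int.ofNat 0, Int.negSucc 1, Int.ofNat 0, Int.ofNat 0, Int.negSucc 1],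
  [Int.ofNat 0, Int.ofNat 0, Int.negSucc 1, Int.ofNat 0, Int.ofNat 0, Int.ofNat 0, Int.ofNat 0, Int.ofNat 0, Int.ofNat 0, Int.ofNat 0, Int.negSucc 1, Int.ofNat 2, Int.ofNat 0, Int.ofNat 0, Int.ofNat 2, Int.negSucc 1, Int.ofNat 0, Int.negSucc 1, Int.negSucc 1, Int.ofNat 0, Int.ofNat 0, Int.ofNat 0, Int.ofNat 0, Int.negSucc 1],
  [Int.ofNat 0, Int.ofNat 0, Int.ofNat 2, Int.ofNat 0, Int.ofNat 0, Int.ofNat 0, Int.ofNat 0, Int.ofNat 0, Int.ofNat 0, Int.ofNat 0, Int.ofNat 2, Int.ofNat 2, Int.ofNat 0, Int.ofNat 0, Int.ofNat 2, Int.ofNat 2, Int.ofNat 0, Int.negSucc 1, Int.ofNat 2, Int.ofNat 0, Int.ofNat 0, Int.ofNat 0, Int.ofNat 0, Int.negSucc 1],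
  [Int.ofNat 0, Int.ofNat 0, Int.negSucc 1, Int.ofNat 0, Int.ofNat 0, Int.ofNat 0, Int.ofNat 0, Int.ofNat 0, Int.negSucc 1, Int.negSucc 1, Int.ofNat 0, Int.ofNat 0, Int.negSucc 1, Int.ofNat 0, Int.ofNat 2, Int.ofNat 0, Int.ofNat 0, Int.negSucc 1, Int.ofNat 0, Int.ofNat 0, Int.negSucc 1, Int.ofNat 0, Int.ofNat 0, Int.ofNat 2],
  [Int.ofNat 0, Int.ofNat 0, Int.ofNat 0, Int.ofNat 0, Int.negSucc 1, Int.ofNat 0, Int.ofNat 0, Int.ofNat 0, Int.ofNat 0, Int.negSucc 1, Int.ofNat 0, Int.ofNat 0, Int.negSucc 1, Int.negSucc 1, Int.negSucc 1, Int.ofNat 0, Int.ofNat 0, Int.ofNat 0, Int.ofNat 0, Int.ofNat 0, Int.ofNat 0, Int.negSucc 1, Int.ofNat 2, Int.ofNat 2],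
  [Int.ofNat 1, Int.ofNat 1, Int.ofNat 1, Int.ofNat 1, Int.negSucc 0, Int.ofNat 1, Int.ofNat 1, Int.ofNat 1, Int.ofNat 1, Int.negSucc 0, Int.ofNat 1, Int.ofNat 1, Int.negSucc 0, Int.negSucc 0, Int.negSucc 0, Int.ofNat 1, Int.ofNat 1, Int.ofNat 1, Int.ofNat 1, Int.ofNat 1, Int.ofNat 1, Int.negSucc 0, Int.ofNat 3, Int.negSucc 0],
  [Int.ofNat 1, Int.negSucc 0, Int.ofNat 3, Int.ofNat 1, Int.ofNat 1, Int.ofNat 1, Int.ofNat 1, Int.negSucc 0, Int.ofNat 1, Int.ofNat 1, Int.ofNat 1, Int.ofNat 1, Int.negSucc 0, Int.ofNat 1, Int.ofNat 1, Int.negSucc 0, Int.negSucc 0, Int.negSucc 0, Int.ofNat 1, Int.ofNat 1, Int.ofNat 1, Int.ofNat 1, Int.ofNat 1, Int.negSucc 0],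
  [Int.ofNat 0, Int.ofNat 2, Int.negSucc 1, Int.ofNat 0, Int.ofNat 0, Int.ofNat 0, Int.ofNat 0, Int.negSucc 1, Int.ofNat 0, Int.ofNat 0, Int.ofNat 0, Int.ofNat 0, Int.negSucc 1, Int.ofNat 0, Int.ofNat 0, Int.negSucc 1, Int.negSucc 1, Int.negSucc 1, Int.ofNat 0, Int.ofNat 0, Int.ofNat 0, Int.ofNat 0, Int.ofNat 0, Int.ofNat 2],
  [Int.ofNat 2, Int.negSucc 1, Int.ofNat 0, Int.ofNat 0, Int.ofNat 0, Int.ofNat 0, Int.negSucc 1, Int.ofNat 0, Int.ofNat 0, Int.ofNat 0, Int.ofNat 0, Int.negSucc 1, Int.ofNat 0, Int.ofNat 0, Int.negSucc 1, Int.negSucc 1, Int.negSucc 1, Int.ofNat 0, Int.ofNat 0, Int.ofNat 0, Int.ofNat 0, Int.ofNat 0, Int.ofNat 0, Int.ofNat 2],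
  [Int.negSucc 1, Int.negSucc 1, Int.ofNat 0, Int.ofNat 0, Int.ofNat 0, Int.ofNat 0, Int.negSucc 1, Int.ofNat 0, Int.ofNat 0, Int.ofNat 0, Int.ofNat 0, Int.ofNat 2, Int.ofNat 0, Int.ofNat 0, Int.negSucc 1, Int.negSucc 1, Int.negSucc 1, Int.ofNat 0, Int.ofNat 0, Int.ofNat 0, Int.ofNat 0, Int.ofNat 0, Int.ofNat 0, Int.ofNat 2]]

set_option maxRecDepth 100000 in
theorem c1et5_chk : pmChk (List.replicate 14 [5, 0, 25, 26]).flatten nxL c1et5M 0 0 = true := by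
  decide +kernel

theorem c1et5_ne : wE letE2 (List.replicate 14 [5, 0, 25, 26]).flatten ≠ 1 ∧ wE letE2 (List.replicate 14 [5, 0, 25, 26]).flatten ≠ negElt :=
  ne_pm_of_chk nxL_mem c1et5_chk

set_option maxRecDepth 100000 in
def c1et6M : List (List ℤ) :=
  [[Int.negSucc 3, Int.ofNat 0, Int.ofNat 0, Int.ofNat 0, Int.ofNat 0, Int.ofNat 0, Int.ofNat 0, Int.ofNat 0, Int.ofNat 0, Int.ofNat 0, Int.ofNat 0, Int.ofNat 0, Int.ofNat 0, Int.ofNat 0, Int.ofNat 0, Int.ofNat 0, Int.ofNat 0, Int.ofNat 0, Int.ofNat 0, Int.ofNat 0, Int.ofNat 0, Int.ofNat 0, Int.ofNat 0, Int.ofNat 4],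
  [Int.ofNat 4, Int.ofNat 0, Int.ofNat 0, Int.ofNat 0, Int.ofNat 0, Int.ofNat 0, Int.ofNat 0, Int.ofNat 0, Int.ofNat 0, Int.ofNat 0, Int.ofNat 0, Int.ofNat 0, Int.ofNat 0, Int.ofNat 0, Int.ofNat 0, Int.ofNat 0, Int.ofNat 0, Int.ofNat 0, Int.ofNat 0, Int.ofNat 0, Int.ofNat 0, Int.ofNat 0, Int.ofNat 0, Int.ofNat 4],
  [Int.ofNat 0, Int.ofNat 4, Int.ofNat 0, Int.ofNat 0, Int.ofNat 0, Int.ofNat 0, Int.ofNat 0, Int.ofNat 0, Int.ofNat 0, Int.ofNat 0, Int.ofNat 0, Int.ofNat 0, Int.ofNat 0, Int.ofNat 0, Int.ofNat 0, Int.ofNat 0, Int.ofNat 0, Int.ofNat 0, Int.ofNat 0, Int.ofNat 0, Int.ofNat 0, Int.ofNat 0, Int.ofNat 0, Int.ofNat 4],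
  [Int.ofNat 4, Int.ofNat 0, Int.ofNat 4, Int.ofNat 0, Int.ofNat 0, Int.ofNat 0, Int.ofNat 0, Int.ofNat 0, Int.ofNat 0, Int.ofNat 0, Int.ofNat 0, Int.ofNat 0, Int.ofNat 0, Int.ofNat 0, Int.ofNat 0, Int.ofNat 0, Int.ofNat 0, Int.ofNat 0, Int.ofNat 0, Int.ofNat 0, Int.ofNat 0, Int.ofNat 0, Int.ofNat 0, Int.ofNat 0],
  [Int.ofNat 0, Int.ofNat 0, Int.ofNat 0, Int.ofNat 0, Int.ofNat 0, Int.ofNat 0, Int.ofNat 0, Int.ofNat 0, Int.ofNat 0, Int.ofNat 0, Int.ofNat 0, Int.ofNat 0, Int.ofNat 0, Int.ofNat 0, Int.ofNat 0, Int.ofNat 0, Int.ofNat 0, Int.ofNat 0, Int.ofNat 0, Int.ofNat 0, Int.ofNat 4, Int.ofNat 0, Int.ofNat 4, Int.ofNat 0],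
  [Int.ofNat 0, Int.ofNat 0, Int.ofNat 0, Int.ofNat 0, Int.negSucc 1, Int.ofNat 0, Int.ofNat 0, Int.ofNat 0, Int.ofNat 0, Int.negSucc 1, Int.negSucc 1, Int.ofNat 0, Int.ofNat 0, Int.negSucc 1, Int.ofNat 0, Int.negSucc 1, Int.negSucc 1, Int.ofNat 0, Int.ofNat 0, Int.ofNat 0, Int.ofNat 2, Int.ofNat 0, Int.ofNat 2, Int.ofNat 0],
  [Int.ofNat 0, Int.ofNat 0, Int.negSucc 1, Int.ofNat 0, Int.ofNat 0, Int.ofNat 0, Int.ofNat 0, Int.negSucc 1, Int.ofNat 0, Int.negSucc 1, Int.ofNat 2, Int.ofNat 0, Int.negSucc 1, Int.negSucc 1, Int.ofNat 2, Int.negSucc 1, Int.ofNat 0, Int.ofNat 0, Int.ofNat 0, Int.ofNat 0, Int.ofNat 0, Int.ofNat 0, Int.ofNat 0, Int.ofNat 0],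
  [Int.negSucc 0, Int.negSucc 0, Int.ofNat 1, Int.negSucc 0, Int.ofNat 1, Int.negSucc 0, Int.ofNat 1, Int.negSucc 0, Int.ofNat 1, Int.negSucc 0, Int.ofNat 3, Int.ofNat 1, Int.negSucc 0, Int.negSucc 0, Int.ofNat 1, Int.negSucc 0, Int.ofNat 1, Int.negSucc 0, Int.ofNat 1, Int.ofNat 1, Int.ofNat 1, Int.ofNat 1, Int.ofNat 1, Int.negSucc 0],
  [Int.negSucc 0, Int.negSucc 0, Int.negSucc 0, Int.negSucc 0, Int.ofNat 1, Int.ofNat 1, Int.negSucc 0, Int.negSucc 0, Int.ofNat 1, Int.ofNat 1, Int.negSucc 2, Int.ofNat 1, Int.negSucc 0, Int.negSucc 0, Int.ofNat 1, Int.ofNat 1, Int.ofNat 1, Int.negSucc 0, Int.negSucc 0, Int.ofNat 1, Int.ofNat 1, Int.ofNat 1, Int.negSucc 0, Int.negSucc 0],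
  [Int.negSucc 2, Int.ofNat 1, Int.ofNat 1, Int.ofNat 1, Int.ofNat 1, Int.negSucc 0, Int.ofNat 1, Int.negSucc 0, Int.ofNat 1, Int.ofNat 1, Int.negSucc 0, Int.negSucc 0, Int.ofNat 1, Int.ofNat 1, Int.negSucc 0, Int.negSucc 0, Int.ofNat 1, Int.negSucc 0, Int.ofNat 1, Int.negSucc 0, Int.negSucc 0, Int.negSucc 0, Int.negSucc 0, Int.negSucc 0],
  [Int.ofNat 3, Int.negSucc 0, Int.negSucc 0, Int.negSucc 0, Int.negSucc 0, Int.negSucc 0, Int.negSucc 0, Int.negSucc 0, Int.negSucc 0, Int.negSucc 0, Int.negSucc 0, Int.negSucc 0, Int.negSucc 0, Int.negSucc 0, Int.negSucc 0, Int.negSucc 0, Int.negSucc 0, Int.negSucc 0, Int.negSucc 0, Int.negSucc 0, Int.negSucc 0, Int.negSucc 0, Int.negSucc 0, Int.negSucc 0],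
  [Int.negSucc 0, Int.negSucc 0, Int.negSucc 0, Int.negSucc 0, Int.negSucc 0, Int.negSucc 0, Int.negSucc 0, Int.negSucc 0, Int.negSucc 0, Int.negSucc 0, Int.negSucc 0, Int.negSucc 0, Int.negSucc 0, Int.negSucc 0, Int.negSucc 0, Int.negSucc 0, Int.negSucc 0, Int.negSucc 0, Int.negSucc 0, Int.negSucc 0, Int.negSucc 0, Int.negSucc 0, Int.negSucc 0, Int.ofNat 3],
  [Int.ofNat 1, Int.negSucc 0, Int.ofNat 1, Int.negSucc 0, Int.negSucc 0, Int.negSucc 0, Int.negSucc 0, Int.ofNat 1, Int.negSucc 0, Int.ofNat 1, Int.ofNat 1, Int.ofNat 1, Int.negSucc 0, Int.negSucc 0, Int.negSucc 0, Int.negSucc 0, Int.negSucc 0, Int.negSucc 0, Int.ofNat 1, Int.negSucc 0, Int.negSucc 0, Int.ofNat 1, Int.negSucc 0, Int.ofNat 3],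
  [Int.negSucc 0, Int.ofNat 1, Int.negSucc 0, Int.ofNat 1, Int.negSucc 0, Int.negSucc 0, Int.negSucc 0, Int.negSucc 0, Int.ofNat 1, Int.negSucc 0, Int.ofNat 1, Int.ofNat 1, Int.ofNat 1, Int.negSucc 0, Int.negSucc 0, Int.negSucc 0, Int.negSucc 0, Int.negSucc 0, Int.negSucc 0, Int.ofNat 1, Int.negSucc 0, Int.negSucc 0, Int.ofNat 1, Int.ofNat 3],
  [Int.ofNat 2, Int.ofNat 0, Int.ofNat 2, Int.ofNat 2, Int.ofNat 0, Int.ofNat 0, Int.ofNat 0, Int.ofNat 0, Int.ofNat 0, Int.ofNat 0, Int.ofNat 2, Int.ofNat 0, Int.ofNat 0, Int.ofNat 0, Int.ofNat 0, Int.ofNat 0, Int.ofNat 0, Int.ofNat 0, Int.negSucc 1, Int.ofNat 2, Int.ofNat 0, Int.ofNat 0, Int.ofNat 2, Int.negSucc 1],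
  [Int.ofNat 2, Int.ofNat 0, Int.ofNat 0, Int.ofNat 0, Int.ofNat 0, Int.ofNat 0, Int.ofNat 0, Int.ofNat 2, Int.ofNat 0, Int.ofNat 0, Int.ofNat 0, Int.ofNat 0, Int.ofNat 0, Int.ofNat 0, Int.ofNat 0, Int.negSucc 1, Int.ofNat 2, Int.ofNat 0, Int.ofNat 0, Int.ofNat 2, Int.ofNat 2, Int.ofNat 0, Int.ofNat 2, Int.negSucc 1],
  [Int.negSucc 1, Int.ofNat 0, Int.ofNat 0, Int.ofNat 0, Int.negSucc 1, Int.ofNat 0, Int.negSucc 1, Int.ofNat 0, Int.ofNat 0, Int.ofNat 0, Int.ofNat 0, Int.ofNat 0, Int.ofNat 0, Int.negSucc 1, Int.ofNat 0, Int.negSucc 1, Int.ofNat 0, Int.ofNat 0, Int.ofNat 0, Int.ofNat 0, Int.ofNat 2, Int.negSucc 1, Int.ofNat 0, Int.ofNat 2],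
  [Int.negSucc 1, Int.negSucc 1, Int.negSucc 1, Int.ofNat 0, Int.ofNat 0, Int.ofNat 0, Int.ofNat 0, Int.ofNat 0, Int.ofNat 0, Int.negSucc 1, Int.ofNat 2, Int.ofNat 0, Int.ofNat 0, Int.ofNat 0, Int.ofNat 0, Int.negSucc 1, Int.ofNat 0, Int.ofNat 0, Int.ofNat 0, Int.ofNat 0, Int.negSucc 1, Int.ofNat 0, Int.ofNat 0, Int.ofNat 2],
  [Int.ofNat 0, Int.ofNat 0, Int.ofNat 0, Int.ofNat 0, Int.ofNat 0, Int.ofNat 0, Int.ofNat 0, Int.ofNat 0, Int.ofNat 0, Int.ofNat 0, Int.ofNat 4, Int.ofNat 0, Int.ofNat 0, Int.ofNat 0, Int.ofNat 0, Int.ofNat 0, Int.ofNat 0, Int.ofNat 0, Int.ofNat 0, Int.ofNat 0, Int.ofNat 0, Int.ofNat 0, Int.ofNat 0, Int.negSucc 3],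
  [Int.ofNat 0, Int.ofNat 0, Int.ofNat 0, Int.ofNat 0, Int.ofNat 0, Int.ofNat 0, Int.ofNat 0, Int.ofNat 0, Int.ofNat 0, Int.ofNat 0, Int.negSucc 3, Int.ofNat 0, Int.ofNat 0, Int.ofNat 0, Int.ofNat 0, Int.ofNat 0, Int.ofNat 0, Int.ofNat 0, Int.ofNat 0, Int.ofNat 0, Int.ofNat 0, Int.ofNat 0, Int.ofNat 0, Int.negSucc 3],
  [Int.ofNat 0, Int.ofNat 0, Int.ofNat 0, Int.ofNat 0, Int.ofNat 0, Int.ofNat 0, Int.ofNat 0, Int.ofNat 0, Int.negSucc 3, Int.ofNat 0, Int.ofNat 0, Int.ofNat 0, Int.ofNat 0, Int.ofNat 0, Int.ofNat 0, Int.ofNat 0, Int.ofNat 0, Int.ofNat 0, Int.ofNat 0, Int.ofNat 0, Int.ofNat 0, Int.ofNat 0, Int.ofNat 0, Int.negSucc 3],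
  [Int.ofNat 0, Int.ofNat 0, Int.ofNat 0, Int.ofNat 0, Int.ofNat 0, Int.ofNat 0, Int.ofNat 0, Int.ofNat 0, Int.negSucc 3, Int.ofNat 0, Int.ofNat 0, Int.ofNat 0, Int.ofNat 0, Int.ofNat 0, Int.ofNat 0, Int.ofNat 0, Int.ofNat 0, Int.ofNat 0, Int.ofNat 0, Int.ofNat 0, Int.ofNat 0, Int.ofNat 0, Int.ofNat 0, Int.negSucc 3],
  [Int.negSucc 1, Int.negSucc 1, Int.negSucc 1, Int.ofNat 0, Int.ofNat 0, Int.ofNat 0, Int.ofNat 0, Int.ofNat 0, Int.negSucc 1, Int.ofNat 0, Int.ofNat 0, Int.ofNat 2, Int.ofNat 2, Int.ofNat 0, Int.ofNat 0, Int.ofNat 0, Int.ofNat 0, Int.ofNat 0, Int.ofNat 2, Int.ofNat 0, Int.ofNat 0, Int.ofNat 0, Int.ofNat 0, Int.ofNat 2],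
  [Int.negSucc 1, Int.ofNat 2, Int.ofNat 0, Int.ofNat 0, Int.negSucc 1, Int.ofNat 0, Int.negSucc 1, Int.ofNat 0, Int.ofNat 0, Int.ofNat 2, Int.ofNat 0, Int.ofNat 0, Int.negSucc 1, Int.ofNat 0, Int.ofNat 0, Int.ofNat 0, Int.ofNat 0, Int.ofNat 2, Int.ofNat 0, Int.ofNat 0, Int.ofNat 0, Int.ofNat 0, Int.ofNat 0, Int.ofNat 2],
  [Int.ofNat 3, Int.negSucc 0, Int.ofNat 1, Int.negSucc 0, Int.negSucc 0, Int.negSucc 0, Int.negSucc 0, Int.ofNat 1, Int.ofNat 1, Int.ofNat 1, Int.negSucc 0, Int.ofNat 1, Int.negSucc 0, Int.ofNat 1, Int.negSucc 0, Int.negSucc 0, Int.ofNat 1, Int.ofNat 1, Int.ofNat 1, Int.ofNat 1, Int.negSucc 0, Int.ofNat 1, Int.ofNat 1, Int.negSucc 0],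
  [Int.negSucc 0, Int.ofNat 1, Int.ofNat 1, Int.ofNat 3, Int.negSucc 0, Int.ofNat 1, Int.negSucc 0, Int.negSucc 0, Int.negSucc 0, Int.negSucc 0, Int.ofNat 1, Int.ofNat 1, Int.ofNat 1, Int.negSucc 0, Int.ofNat 1, Int.negSucc 0, Int.ofNat 1, Int.negSucc 0, Int.negSucc 0, Int.ofNat 1, Int.ofNat 1, Int.ofNat 1, Int.ofNat 1, Int.negSucc 0],
  [Int.ofNat 1, Int.negSucc 0, Int.negSucc 0, Int.ofNat 1, Int.negSucc 0, Int.negSucc 0, Int.negSucc 0, Int.negSucc 0, Int.negSucc 0, Int.negSucc 0, Int.ofNat 1, Int.ofNat 1, Int.ofNat 1, Int.negSucc 0, Int.negSucc 0, Int.negSucc 0, Int.ofNat 1, Int.negSucc 2, Int.negSucc 0, Int.ofNat 1, Int.ofNat 1, Int.ofNat 1, Int.ofNat 1, Int.ofNat 1],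
  [Int.negSucc 0, Int.negSucc 0, Int.ofNat 1, Int.negSucc 0, Int.negSucc 0, Int.negSucc 0, Int.negSucc 0, Int.negSucc 0, Int.negSucc 0, Int.ofNat 1, Int.ofNat 1, Int.ofNat 1, Int.negSucc 0, Int.negSucc 0, Int.negSucc 0, Int.ofNat 1, Int.negSucc 2, Int.negSucc 0, Int.ofNat 1, Int.ofNat 1, Int.ofNat 1, Int.ofNat 1, Int.ofNat 1, Int.ofNat 1],
  [Int.ofNat 1, Int.negSucc 0, Int.negSucc 0, Int.negSucc 0, Int.negSucc 0, Int.negSucc 0, Int.negSucc 0, Int.ofNat 1, Int.negSucc 0, Int.negSucc 0, Int.negSucc 0, Int.negSucc 0, Int.negSucc 0, Int.negSucc 0, Int.negSucc 0, Int.ofNat 1, Int.negSucc 2, Int.negSucc 0, Int.negSucc 0, Int.ofNat 1, Int.ofNat 1, Int.negSucc 0, Int.ofNat 1, Int.ofNat 1],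
  [Int.ofNat 1, Int.negSucc 0, Int.negSucc 0, Int.negSucc 0, Int.negSucc 0, Int.negSucc 0, Int.negSucc 0, Int.ofNat 1, Int.negSucc 0, Int.negSucc 2, Int.negSucc 0, Int.negSucc 0, Int.negSucc 0, Int.negSucc 0, Int.ofNat 1, Int.ofNat 1, Int.negSucc 0, Int.ofNat 1, Int.negSucc 0, Int.negSucc 0, Int.negSucc 0, Int.ofNat 1, Int.negSucc 0, Int.ofNat 1],
  [Int.negSucc 0, Int.negSucc 0, Int.ofNat 1, Int.negSucc 0, Int.negSucc 0, Int.negSucc 0, Int.negSucc 0, Int.negSucc 0, Int.negSucc 0, Int.ofNat 3, Int.ofNat 1, Int.ofNat 1, Int.negSucc 0, Int.negSucc 0, Int.ofNat 1, Int.ofNat 1, Int.negSucc 0, Int.ofNat 1, Int.ofNat 1, Int.negSucc 0, Int.negSucc 0, Int.negSucc 0, Int.negSucc 0, Int.ofNat 1],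
  [Int.negSucc 0, Int.negSucc 0, Int.negSucc 0, Int.ofNat 1, Int.negSucc 0, Int.negSucc 0, Int.negSucc 0, Int.negSucc 0, Int.negSucc 0, Int.negSucc 0, Int.ofNat 3, Int.ofNat 1, Int.ofNat 1, Int.negSucc 0, Int.negSucc 0, Int.ofNat 1, Int.ofNat 1, Int.negSucc 0, Int.ofNat 1, Int.ofNat 1, Int.negSucc 0, Int.negSucc 0, Int.negSucc 0, Int.ofNat 1],
  [Int.ofNat 0, Int.ofNat 0, Int.ofNat 0, Int.ofNat 2, Int.ofNat 0, Int.ofNat 0, Int.ofNat 0, Int.ofNat 0, Int.negSucc 1, Int.negSucc 1, Int.ofNat 2, Int.ofNat 0, Int.ofNat 0, Int.ofNat 0, Int.ofNat 0, Int.ofNat 0, Int.ofNat 2, Int.ofNat 0, Int.ofNat 0, Int.ofNat 2, Int.negSucc 1, Int.ofNat 0, Int.ofNat 0, Int.negSucc 1],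
  [Int.ofNat 2, Int.ofNat 0, Int.ofNat 0, Int.ofNat 0, Int.ofNat 0, Int.negSucc 1, Int.negSucc 1, Int.ofNat 2, Int.ofNat 0, Int.ofNat 0, Int.ofNat 0, Int.ofNat 0, Int.ofNat 0, Int.ofNat 2, Int.ofNat 0, Int.ofNat 0, Int.ofNat 2, Int.negSucc 1, Int.ofNat 0, Int.ofNat 0, Int.ofNat 0, Int.ofNat 0, Int.ofNat 0, Int.negSucc 1],
  [Int.negSucc 1, Int.ofNat 0, Int.ofNat 0, Int.ofNat 2, Int.negSucc 1, Int.ofNat 0, Int.negSucc 1, Int.ofNat 2, Int.ofNat 0, Int.ofNat 0, Int.ofNat 0, Int.ofNat 0, Int.ofNat 0, Int.ofNat 0, Int.ofNat 2, Int.ofNat 0, Int.ofNat 0, Int.ofNat 0, Int.ofNat 0, Int.ofNat 0, Int.ofNat 0, Int.ofNat 0, Int.negSucc 1, Int.ofNat 2],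
  [Int.negSucc 1, Int.negSucc 1, Int.negSucc 1, Int.ofNat 2, Int.ofNat 0, Int.ofNat 2, Int.ofNat 0, Int.ofNat 0, Int.ofNat 0, Int.ofNat 0, Int.ofNat 0, Int.ofNat 0, Int.ofNat 0, Int.ofNat 0, Int.negSucc 1, Int.ofNat 0, Int.ofNat 0, Int.ofNat 2, Int.ofNat 0, Int.ofNat 0, Int.ofNat 0, Int.ofNat 0, Int.ofNat 0, Int.ofNat 2],
  [Int.ofNat 0, Int.ofNat 0, Int.ofNat 0, Int.ofNat 0, Int.ofNat 0, Int.ofNat 0, Int.ofNat 0, Int.ofNat 0, Int.ofNat 0, Int.ofNat 0, Int.ofNat 0, Int.ofNat 0, Int.ofNat 0, Int.ofNat 0, Int.negSucc 3, Int.ofNat 0, Int.ofNat 0, Int.ofNat 0, Int.ofNat 0, Int.ofNat 0, Int.ofNat 0, Int.ofNat 0, Int.ofNat 0, Int.negSucc 3],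
  [Int.ofNat 0, Int.ofNat 0, Int.ofNat 0, Int.ofNat 0, Int.ofNat 0, Int.ofNat 0, Int.ofNat 0, Int.ofNat 0, Int.ofNat 0, Int.ofNat 0, Int.ofNat 0, Int.ofNat 0, Int.ofNat 0, Int.ofNat 0, Int.negSucc 3, Int.ofNat 0, Int.ofNat 0, Int.ofNat 0, Int.ofNat 0, Int.ofNat 0, Int.ofNat 0, Int.ofNat 0, Int.ofNat 0, Int.negSucc 3],
  [Int.ofNat 0, Int.ofNat 0, Int.ofNat 0, Int.ofNat 0, Int.negSucc 3, Int.ofNat 0, Int.ofNat 0, Int.ofNat 0, Int.ofNat 0, Int.ofNat 0, Int.ofNat 0, Int.ofNat 0, Int.ofNat 0, Int.ofNat 0, Int.ofNat 0, Int.ofNat 0, Int.ofNat 0, Int.ofNat 0, Int.ofNat 0, Int.ofNat 0, Int.ofNat 0, Int.ofNat 0, Int.ofNat 0, Int.negSucc 3],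
  [Int.ofNat 0, Int.ofNat 0, Int.ofNat 0, Int.ofNat 0, Int.ofNat 4, Int.ofNat 0, Int.ofNat 0, Int.ofNat 0, Int.ofNat 0, Int.ofNat 0, Int.ofNat 0, Int.ofNat 0, Int.ofNat 0, Int.ofNat 0, Int.ofNat 0, Int.ofNat 0, Int.ofNat 0, Int.ofNat 0, Int.ofNat 0, Int.ofNat 0, Int.ofNat 0, Int.ofNat 0, Int.ofNat 0, Int.negSucc 3],
  [Int.negSucc 3, Int.ofNat 0, Int.ofNat 0, Int.ofNat 0, Int.ofNat 0, Int.ofNat 0, Int.ofNat 0, Int.ofNat 0, Int.ofNat 0, Int.ofNat 0, Int.ofNat 0, Int.ofNat 0, Int.ofNat 0, Int.ofNat 0, Int.ofNat 0, Int.ofNat 0, Int.ofNat 0, Int.ofNat 4, Int.ofNat 0, Int.ofNat 0, Int.ofNat 0, Int.ofNat 0, Int.ofNat 0, Int.ofNat 0],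
  [Int.ofNat 4, Int.ofNat 0, Int.ofNat 0, Int.ofNat 0, Int.ofNat 0, Int.ofNat 0, Int.ofNat 0, Int.ofNat 0, Int.ofNat 0, Int.ofNat 0, Int.ofNat 0, Int.ofNat 0, Int.ofNat 0, Int.ofNat 0, Int.ofNat 0, Int.ofNat 0, Int.ofNat 0, Int.ofNat 4, Int.ofNat 0, Int.ofNat 0, Int.ofNat 0, Int.ofNat 0, Int.ofNat 0, Int.ofNat 0],
  [Int.ofNat 0, Int.ofNat 4, Int.ofNat 0, Int.ofNat 0, Int.ofNat 0, Int.ofNat 0, Int.ofNat 0, Int.ofNat 0, Int.ofNat 0, Int.ofNat 0, Int.ofNat 0, Int.ofNat 0, Int.ofNat 0, Int.ofNat 0, Int.ofNat 0, Int.ofNat 0, Int.ofNat 0, Int.ofNat 0, Int.ofNat 4, Int.ofNat 0, Int.ofNat 0, Int.ofNat 0, Int.ofNat 0, Int.ofNat 0],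
  [Int.ofNat 2, Int.negSucc 1, Int.ofNat 2, Int.ofNat 0, Int.ofNat 0, Int.ofNat 0, Int.ofNat 0, Int.ofNat 0, Int.negSucc 1, Int.ofNat 0, Int.ofNat 0, Int.negSucc 1, Int.negSucc 1, Int.ofNat 0, Int.ofNat 0, Int.ofNat 0, Int.ofNat 0, Int.ofNat 0, Int.ofNat 2, Int.ofNat 0, Int.ofNat 0, Int.ofNat 0, Int.ofNat 0, Int.ofNat 2],
  [Int.ofNat 0, Int.ofNat 0, Int.ofNat 0, Int.ofNat 0, Int.ofNat 0, Int.negSucc 1, Int.ofNat 0, Int.ofNat 0, Int.negSucc 1, Int.negSucc 1, Int.ofNat 0, Int.ofNat 0, Int.ofNat 0, Int.ofNat 0, Int.ofNat 0, Int.ofNat 2, Int.ofNat 0, Int.ofNat 0, Int.ofNat 0, Int.ofNat 0, Int.ofNat 2, Int.negSucc 1, Int.ofNat 2, Int.ofNat 2],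
  [Int.ofNat 1, Int.ofNat 1, Int.ofNat 1, Int.ofNat 1, Int.negSucc 0, Int.negSucc 0, Int.ofNat 1, Int.ofNat 1, Int.negSucc 0, Int.negSucc 2, Int.negSucc 0, Int.ofNat 1, Int.ofNat 1, Int.negSucc 0, Int.ofNat 1, Int.ofNat 1, Int.negSucc 0, Int.ofNat 1, Int.ofNat 1, Int.ofNat 1, Int.ofNat 1, Int.negSucc 0, Int.ofNat 1, Int.negSucc 0],
  [Int.ofNat 1, Int.ofNat 1, Int.negSucc 0, Int.ofNat 1, Int.ofNat 1, Int.ofNat 1, Int.ofNat 1, Int.negSucc 0, Int.ofNat 1, Int.negSucc 0, Int.ofNat 1, Int.ofNat 1, Int.negSucc 2, Int.negSucc 0, Int.ofNat 1, Int.ofNat 1, Int.negSucc 0, Int.ofNat 1, Int.ofNat 1, Int.ofNat 1, Int.negSucc 0, Int.negSucc 0, Int.ofNat 1, Int.negSucc 0],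
  [Int.negSucc 0, Int.negSucc 0, Int.ofNat 1, Int.negSucc 0, Int.ofNat 1, Int.negSucc 0, Int.ofNat 1, Int.negSucc 0, Int.ofNat 1, Int.negSucc 0, Int.ofNat 1, Int.ofNat 1, Int.negSucc 2, Int.negSucc 0, Int.negSucc 0, Int.ofNat 1, Int.negSucc 0, Int.negSucc 0, Int.ofNat 1, Int.ofNat 1, Int.negSucc 0, Int.negSucc 0, Int.ofNat 1, Int.ofNat 1],
  [Int.negSucc 0, Int.negSucc 0, Int.negSucc 0, Int.negSucc 0, Int.ofNat 1, Int.ofNat 1, Int.negSucc 0, Int.negSucc 0, Int.ofNat 1, Int.ofNat 1, Int.negSucc 0, Int.ofNat 1, Int.negSucc 2, Int.negSucc 0, Int.negSucc 0, Int.negSucc 0, Int.negSucc 0, Int.negSucc 0, Int.negSucc 0, Int.ofNat 1, Int.negSucc 0, Int.negSucc 0, Int.negSucc 0, Int.ofNat 1],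
  [Int.negSucc 2, Int.ofNat 1, Int.ofNat 1, Int.negSucc 0, Int.negSucc 0, Int.negSucc 0, Int.ofNat 1, Int.ofNat 1, Int.negSucc 0, Int.negSucc 0, Int.negSucc 0, Int.negSucc 0, Int.negSucc 0, Int.negSucc 0, Int.negSucc 0, Int.negSucc 0, Int.negSucc 0, Int.negSucc 0, Int.negSucc 0, Int.ofNat 1, Int.negSucc 0, Int.ofNat 1, Int.negSucc 0, Int.ofNat 1],
  [Int.negSucc 2, Int.ofNat 1, Int.negSucc 0, Int.negSucc 0, Int.negSucc 0, Int.ofNat 1, Int.negSucc 0, Int.ofNat 1, Int.negSucc 0, Int.ofNat 1, Int.ofNat 1, Int.negSucc 0, Int.negSucc 0, Int.negSucc 0, Int.negSucc 0, Int.ofNat 1, Int.negSucc 0, Int.negSucc 0, Int.ofNat 1, Int.ofNat 1, Int.negSucc 0, Int.ofNat 1, Int.ofNat 1, Int.ofNat 1],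
  [Int.ofNat 2, Int.negSucc 1, Int.ofNat 0, Int.ofNat 0, Int.ofNat 0, Int.ofNat 2, Int.negSucc 1, Int.ofNat 0, Int.ofNat 0, Int.ofNat 0, Int.ofNat 0, Int.ofNat 0, Int.ofNat 0, Int.ofNat 0, Int.ofNat 0, Int.ofNat 0, Int.ofNat 0, Int.ofNat 0, Int.ofNat 2, Int.ofNat 0, Int.negSucc 1, Int.ofNat 0, Int.ofNat 2, Int.negSucc 1],
  [Int.ofNat 2, Int.ofNat 2, Int.negSucc 1, Int.ofNat 0, Int.ofNat 0, Int.ofNat 0, Int.negSucc 1, Int.ofNat 2, Int.ofNat 0, Int.ofNat 0, Int.ofNat 0, Int.ofNat 0, Int.ofNat 0, Int.ofNat 0, Int.ofNat 0, Int.ofNat 0, Int.ofNat 0, Int.ofNat 0, Int.ofNat 0, Int.ofNat 2, Int.ofNat 0, Int.negSucc 1, Int.ofNat 0, Int.negSucc 1],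
  [Int.negSucc 1, Int.negSucc 1, Int.ofNat 2, Int.ofNat 0, Int.ofNat 0, Int.ofNat 0, Int.negSucc 1, Int.ofNat 2, Int.ofNat 0, Int.ofNat 0, Int.ofNat 0, Int.ofNat 0, Int.ofNat 0, Int.ofNat 0, Int.ofNat 0, Int.ofNat 0, Int.ofNat 0, Int.ofNat 0, Int.ofNat 0, Int.ofNat 2, Int.ofNat 0, Int.negSucc 1, Int.ofNat 0, Int.ofNat 2],
  [Int.ofNat 0, Int.negSucc 1, Int.ofNat 0, Int.negSucc 1, Int.negSucc 1, Int.ofNat 2, Int.ofNat 0, Int.ofNat 0, Int.ofNat 0, Int.negSucc 1, Int.ofNat 2, Int.ofNat 0, Int.ofNat 0, Int.ofNat 0, Int.ofNat 0, Int.ofNat 0, Int.ofNat 0, Int.ofNat 0, Int.ofNat 0, Int.ofNat 0, Int.ofNat 0, Int.ofNat 0, Int.ofNat 2, Int.ofNat 2],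
  [Int.ofNat 0, Int.ofNat 2, Int.ofNat 0, Int.negSucc 1, Int.negSucc 1, Int.ofNat 2, Int.ofNat 0, Int.ofNat 0, Int.ofNat 0, Int.negSucc 1, Int.ofNat 2, Int.ofNat 0, Int.ofNat 0, Int.ofNat 0, Int.ofNat 0, Int.ofNat 0, Int.ofNat 0, Int.ofNat 0, Int.ofNat 0, Int.ofNat 0, Int.ofNat 0, Int.ofNat 0, Int.ofNat 2, Int.negSucc 1],
  [Int.ofNat 2, Int.ofNat 0, Int.negSucc 1, Int.negSucc 1, Int.ofNat 2, Int.ofNat 0, Int.ofNat 0, Int.ofNat 0, Int.negSucc 1, Int.ofNat 2, Int.ofNat 0, Int.ofNat 0, Int.ofNat 0, Int.ofNat 0, Int.ofNat 0, Int.ofNat 0, Int.ofNat 0, Int.ofNat 0, Int.ofNat 0, Int.ofNat 0, Int.ofNat 0, Int.ofNat 2, Int.ofNat 0, Int.negSucc 1],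
  [Int.negSucc 1, Int.ofNat 0, Int.ofNat 2, Int.negSucc 1, Int.ofNat 2, Int.ofNat 0, Int.ofNat 0, Int.ofNat 0, Int.negSucc 1, Int.negSucc 1, Int.ofNat 0, Int.ofNat 0, Int.ofNat 0, Int.ofNat 0, Int.ofNat 0, Int.ofNat 0, Int.ofNat 0, Int.ofNat 0, Int.ofNat 0, Int.ofNat 0, Int.ofNat 0, Int.negSucc 1, Int.ofNat 0, Int.negSucc 1],
  [Int.negSucc 1, Int.ofNat 2, Int.ofNat 0, Int.negSucc 1, Int.ofNat 0, Int.ofNat 0, Int.ofNat 2, Int.ofNat 0, Int.negSucc 1, Int.ofNat 0, Int.negSucc 1, Int.ofNat 0, Int.ofNat 0, Int.negSucc 1, Int.ofNat 0, Int.ofNat 0, Int.ofNat 0, Int.ofNat 0, Int.ofNat 0, Int.ofNat 0, Int.ofNat 0, Int.ofNat 0, Int.ofNat 0, Int.negSucc 1],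
  [Int.ofNat 2, Int.ofNat 2, Int.ofNat 0, Int.negSucc 1, Int.ofNat 0, Int.ofNat 0, Int.ofNat 2, Int.ofNat 0, Int.negSucc 1, Int.ofNat 0, Int.ofNat 2, Int.ofNat 0, Int.ofNat 0, Int.negSucc 1, Int.ofNat 0, Int.ofNat 0, Int.ofNat 0, Int.ofNat 0, Int.ofNat 0, Int.ofNat 0, Int.ofNat 0, Int.ofNat 0, Int.ofNat 0, Int.negSucc 1],
  [Int.ofNat 0, Int.ofNat 2, Int.ofNat 2, Int.ofNat 0, Int.negSucc 1, Int.ofNat 0, Int.ofNat 0, Int.ofNat 2, Int.ofNat 0, Int.negSucc 1, Int.ofNat 0, Int.ofNat 2, Int.ofNat 0, Int.ofNat 0, Int.negSucc 1, Int.ofNat 0, Int.ofNat 0, Int.ofNat 0, Int.ofNat 0, Int.ofNat 0, Int.ofNat 0, Int.ofNat 0, Int.ofNat 0, Int.negSucc 1],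
  [Int.ofNat 1, Int.negSucc 0, Int.negSucc 0, Int.ofNat 1, Int.negSucc 0, Int.ofNat 1, Int.negSucc 0, Int.ofNat 1, Int.negSucc 0, Int.negSucc 0, Int.ofNat 1, Int.ofNat 1, Int.negSucc 0, Int.ofNat 1, Int.negSucc 0, Int.ofNat 1, Int.ofNat 1, Int.ofNat 1, Int.negSucc 0, Int.negSucc 0, Int.ofNat 1, Int.negSucc 0, Int.ofNat 1, Int.ofNat 3],
  [Int.ofNat 1, Int.negSucc 0, Int.ofNat 1, Int.negSucc 0, Int.ofNat 1, Int.negSucc 0, Int.negSucc 0, Int.ofNat 1, Int.ofNat 1, Int.negSucc 0, Int.ofNat 1, Int.negSucc 0, Int.ofNat 1, Int.ofNat 1, Int.ofNat 1, Int.negSucc 0, Int.negSucc 0, Int.ofNat 1, Int.negSucc 0, Int.ofNat 1, Int.ofNat 1, Int.negSucc 0, Int.negSucc 0, Int.ofNat 3],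
  [Int.ofNat 1, Int.ofNat 3, Int.ofNat 1, Int.negSucc 0, Int.ofNat 1, Int.negSucc 0, Int.negSucc 0, Int.ofNat 1, Int.ofNat 1, Int.negSucc 0, Int.ofNat 1, Int.negSucc 0, Int.ofNat 1, Int.ofNat 1, Int.ofNat 1, Int.negSucc 0, Int.negSucc 0, Int.ofNat 1, Int.negSucc 0, Int.ofNat 1, Int.ofNat 1, Int.negSucc 0, Int.negSucc 0, Int.negSucc 0],
  [Int.ofNat 1, Int.negSucc 0, Int.ofNat 1, Int.negSucc 0, Int.negSucc 0, Int.ofNat 1, Int.ofNat 1, Int.ofNat 1, Int.ofNat 1, Int.ofNat 1, Int.ofNat 1, Int.ofNat 1, Int.negSucc 0, Int.negSucc 0, Int.negSucc 0, Int.negSucc 0, Int.ofNat 1, Int.ofNat 1, Int.ofNat 3, Int.negSucc 0, Int.negSucc 0, Int.negSucc 0, Int.ofNat 1, Int.negSucc 0],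
  [Int.negSucc 0, Int.ofNat 1, Int.negSucc 0, Int.negSucc 0, Int.negSucc 0, Int.ofNat 1, Int.ofNat 1, Int.ofNat 1, Int.negSucc 0, Int.ofNat 1, Int.ofNat 1, Int.negSucc 0, Int.negSucc 2, Int.negSucc 0, Int.negSucc 0, Int.negSucc 0, Int.ofNat 1, Int.ofNat 1, Int.ofNat 1, Int.negSucc 0, Int.negSucc 0, Int.negSucc 0, Int.ofNat 1, Int.ofNat 1],
  [Int.negSucc 0, Int.ofNat 1, Int.ofNat 1, Int.negSucc 0, Int.negSucc 0, Int.negSucc 0, Int.negSucc 0, Int.ofNat 1, Int.negSucc 0, Int.negSucc 0, Int.negSucc 0, Int.negSucc 0, Int.negSucc 2, Int.negSucc 0, Int.negSucc 0, Int.ofNat 1, Int.ofNat 1, Int.ofNat 1, Int.negSucc 0, Int.negSucc 0, Int.negSucc 0, Int.negSucc 0, Int.negSucc 0, Int.ofNat 1],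
  [Int.negSucc 0, Int.ofNat 1, Int.negSucc 0, Int.negSucc 0, Int.negSucc 0, Int.negSucc 0, Int.negSucc 0, Int.negSucc 0, Int.negSucc 0, Int.negSucc 0, Int.negSucc 0, Int.ofNat 1, Int.ofNat 1, Int.negSucc 0, Int.ofNat 1, Int.negSucc 0, Int.negSucc 0, Int.negSucc 2, Int.negSucc 0, Int.ofNat 1, Int.negSucc 0, Int.ofNat 1, Int.negSucc 0, Int.ofNat 1],
  [Int.ofNat 1, Int.negSucc 0, Int.ofNat 1, Int.ofNat 1, Int.ofNat 1, Int.negSucc 0, Int.ofNat 1, Int.negSucc 0, Int.ofNat 1, Int.ofNat 1, Int.negSucc 0, Int.ofNat 1, Int.negSucc 0, Int.ofNat 1, Int.ofNat 1, Int.negSucc 0, Int.ofNat 1, Int.negSucc 2, Int.ofNat 1, Int.ofNat 1, Int.negSucc 0, Int.ofNat 1, Int.negSucc 0, Int.ofNat 1],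
  [Int.ofNat 1, Int.negSucc 0, Int.ofNat 1, Int.negSucc 0, Int.negSucc 2, Int.ofNat 1, Int.ofNat 1, Int.ofNat 1, Int.negSucc 0, Int.negSucc 0, Int.ofNat 1, Int.ofNat 1, Int.ofNat 1, Int.negSucc 0, Int.ofNat 1, Int.ofNat 1, Int.negSucc 0, Int.ofNat 1, Int.ofNat 1, Int.ofNat 1, Int.ofNat 1, Int.negSucc 0, Int.negSucc 0, Int.ofNat 1],
  [Int.negSucc 0, Int.negSucc 0, Int.negSucc 0, Int.negSucc 0, Int.negSucc 2, Int.ofNat 1, Int.ofNat 1, Int.negSucc 0, Int.negSucc 0, Int.ofNat 1, Int.negSucc 0, Int.negSucc 0, Int.ofNat 1, Int.negSucc 0, Int.ofNat 1, Int.ofNat 1, Int.negSucc 0, Int.ofNat 1, Int.negSucc 0, Int.ofNat 1, Int.ofNat 1, Int.ofNat 1, Int.negSucc 0, Int.ofNat 1],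
  [Int.negSucc 0, Int.negSucc 0, Int.negSucc 0, Int.negSucc 0, Int.negSucc 0, Int.negSucc 2, Int.ofNat 1, Int.ofNat 1, Int.negSucc 0, Int.negSucc 0, Int.ofNat 1, Int.negSucc 0, Int.negSucc 0, Int.ofNat 1, Int.negSucc 0, Int.ofNat 1, Int.ofNat 1, Int.negSucc 0, Int.ofNat 1, Int.negSucc 0, Int.ofNat 1, Int.ofNat 1, Int.ofNat 1, Int.ofNat 1],
  [Int.ofNat 0, Int.ofNat 0, Int.ofNat 0, Int.ofNat 2, Int.negSucc 1, Int.ofNat 0, Int.ofNat 0, Int.ofNat 0, Int.ofNat 0, Int.negSucc 1, Int.ofNat 0, Int.ofNat 0, Int.ofNat 0, Int.ofNat 0, Int.ofNat 2, Int.ofNat 0, Int.ofNat 0, Int.ofNat 2, Int.ofNat 2, Int.negSucc 1, Int.ofNat 0, Int.ofNat 0, Int.ofNat 0, Int.negSucc 1],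
  [Int.ofNat 2, Int.negSucc 1, Int.ofNat 0, Int.ofNat 0, Int.ofNat 0, Int.ofNat 0, Int.negSucc 1, Int.ofNat 0, Int.ofNat 0, Int.ofNat 0, Int.ofNat 0, Int.ofNat 2, Int.ofNat 0, Int.ofNat 0, Int.ofNat 2, Int.ofNat 2, Int.negSucc 1, Int.ofNat 0, Int.ofNat 0, Int.ofNat 0, Int.ofNat 0, Int.ofNat 0, Int.ofNat 0, Int.negSucc 1],
  [Int.negSucc 2, Int.ofNat 1, Int.negSucc 0, Int.negSucc 0, Int.ofNat 1, Int.negSucc 0, Int.negSucc 0, Int.ofNat 1, Int.negSucc 0, Int.negSucc 0, Int.negSucc 0, Int.ofNat 1, Int.negSucc 0, Int.ofNat 1, Int.ofNat 1, Int.ofNat 1, Int.negSucc 0, Int.negSucc 0, Int.negSucc 0, Int.ofNat 1, Int.negSucc 0, Int.ofNat 1, Int.ofNat 1, Int.ofNat 1],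
  [Int.negSucc 2, Int.negSucc 0, Int.ofNat 1, Int.negSucc 0, Int.negSucc 0, Int.ofNat 1, Int.negSucc 0, Int.negSucc 0, Int.negSucc 0, Int.ofNat 1, Int.negSucc 0, Int.negSucc 0, Int.negSucc 0, Int.negSucc 0, Int.ofNat 1, Int.ofNat 1, Int.negSucc 0, Int.ofNat 1, Int.ofNat 1, Int.ofNat 1, Int.ofNat 1, Int.negSucc 0, Int.ofNat 1, Int.ofNat 1],
  [Int.ofNat 2, Int.ofNat 0, Int.negSucc 1, Int.negSucc 1, Int.ofNat 0, Int.ofNat 0, Int.ofNat 0, Int.ofNat 0, Int.ofNat 0, Int.ofNat 0, Int.negSucc 1, Int.ofNat 0, Int.ofNat 0, Int.ofNat 0, Int.ofNat 0, Int.ofNat 0, Int.ofNat 0, Int.ofNat 0, Int.ofNat 2, Int.ofNat 2, Int.ofNat 0, Int.ofNat 0, Int.ofNat 2, Int.negSucc 1],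
  [Int.ofNat 2, Int.ofNat 0, Int.ofNat 2, Int.negSucc 1, Int.ofNat 0, Int.ofNat 0, Int.ofNat 0, Int.ofNat 0, Int.ofNat 0, Int.ofNat 0, Int.ofNat 2, Int.ofNat 0, Int.ofNat 0, Int.ofNat 0, Int.ofNat 0, Int.ofNat 0, Int.ofNat 0, Int.ofNat 0, Int.negSucc 1, Int.ofNat 2, Int.ofNat 0, Int.ofNat 0, Int.negSucc 1, Int.negSucc 1],
  [Int.ofNat 0, Int.ofNat 0, Int.ofNat 2, Int.ofNat 0, Int.ofNat 0, Int.ofNat 0, Int.ofNat 0, Int.ofNat 0, Int.ofNat 2, Int.negSucc 1, Int.ofNat 2, Int.negSucc 1, Int.ofNat 0, Int.negSucc 1, Int.ofNat 0, Int.ofNat 0, Int.ofNat 0, Int.ofNat 0, Int.ofNat 0, Int.ofNat 0, Int.ofNat 0, Int.ofNat 0, Int.ofNat 2, Int.negSucc 1],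
  [Int.ofNat 0, Int.ofNat 0, Int.negSucc 1, Int.ofNat 0, Int.ofNat 0, Int.ofNat 0, Int.ofNat 0, Int.ofNat 0, Int.ofNat 2, Int.ofNat 2, Int.negSucc 1, Int.negSucc 1, Int.ofNat 0, Int.negSucc 1, Int.ofNat 0, Int.ofNat 0, Int.ofNat 0, Int.ofNat 0, Int.ofNat 0, Int.ofNat 0, Int.ofNat 0, Int.ofNat 0, Int.negSucc 1, Int.negSucc 1],
  [Int.negSucc 1, Int.negSucc 1, Int.ofNat 0, Int.ofNat 0, Int.ofNat 2, Int.ofNat 0, Int.ofNat 0, Int.ofNat 0, Int.ofNat 2, Int.ofNat 2, Int.negSucc 1, Int.negSucc 1, Int.ofNat 0, Int.ofNat 0, Int.ofNat 0, Int.ofNat 0, Int.ofNat 2, Int.ofNat 0, Int.ofNat 0, Int.ofNat 0, Int.ofNat 0, Int.ofNat 0, Int.ofNat 0, Int.ofNat 0],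
  [Int.negSucc 1, Int.ofNat 0, Int.ofNat 0, Int.ofNat 0, Int.ofNat 0, Int.ofNat 0, Int.negSucc 1, Int.ofNat 0, Int.ofNat 2, Int.ofNat 0, Int.ofNat 0, Int.ofNat 0, Int.ofNat 2, Int.ofNat 2, Int.ofNat 0, Int.ofNat 0, Int.ofNat 0, Int.negSucc 1, Int.ofNat 2, Int.ofNat 0, Int.negSucc 1, Int.ofNat 0, Int.ofNat 0, Int.ofNat 0],
  [Int.ofNat 1, Int.negSucc 0, Int.negSucc 0, Int.ofNat 1, Int.negSucc 0, Int.ofNat 1, Int.negSucc 0, Int.ofNat 1, Int.negSucc 0, Int.ofNat 1, Int.ofNat 1, Int.negSucc 2, Int.negSucc 0, Int.ofNat 1, Int.ofNat 1, Int.ofNat 1, Int.negSucc 0, Int.negSucc 0, Int.negSucc 0, Int.ofNat 1, Int.negSucc 0, Int.ofNat 1, Int.negSucc 0, Int.negSucc 0],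
  [Int.negSucc 0, Int.ofNat 1, Int.negSucc 0, Int.ofNat 1, Int.negSucc 0, Int.negSucc 0, Int.ofNat 1, Int.negSucc 0, Int.ofNat 1, Int.negSucc 0, Int.ofNat 1, Int.negSucc 0, Int.ofNat 1, Int.ofNat 1, Int.negSucc 2, Int.negSucc 0, Int.ofNat 1, Int.ofNat 1, Int.ofNat 1, Int.negSucc 0, Int.negSucc 0, Int.negSucc 0, Int.ofNat 1, Int.negSucc 0],
  [Int.ofNat 0, Int.negSucc 1, Int.ofNat 0, Int.ofNat 2, Int.negSucc 1, Int.ofNat 0, Int.ofNat 2, Int.ofNat 0, Int.ofNat 0, Int.ofNat 0, Int.ofNat 2, Int.negSucc 1, Int.ofNat 0, Int.ofNat 0, Int.negSucc 1, Int.ofNat 0, Int.ofNat 0, Int.ofNat 2, Int.ofNat 0, Int.ofNat 0, Int.ofNat 0, Int.ofNat 0, Int.ofNat 0, Int.ofNat 0],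
  [Int.negSucc 1, Int.ofNat 0, Int.ofNat 2, Int.negSucc 1, Int.ofNat 0, Int.ofNat 2, Int.ofNat 0, Int.ofNat 0, Int.ofNat 0, Int.ofNat 2, Int.negSucc 1, Int.ofNat 0, Int.ofNat 0, Int.negSucc 1, Int.ofNat 0, Int.ofNat 0, Int.ofNat 2, Int.ofNat 0, Int.ofNat 0, Int.ofNat 0, Int.ofNat 0, Int.ofNat 0, Int.ofNat 0, Int.ofNat 0],
  [Int.ofNat 2, Int.ofNat 0, Int.negSucc 1, Int.negSucc 1, Int.ofNat 0, Int.ofNat 2, Int.ofNat 0, Int.ofNat 0, Int.ofNat 0, Int.negSucc 1, Int.ofNat 2, Int.ofNat 0, Int.ofNat 0, Int.negSucc 1, Int.ofNat 0, Int.ofNat 0, Int.ofNat 2, Int.ofNat 0, Int.ofNat 0, Int.ofNat 0, Int.ofNat 0, Int.ofNat 0, Int.ofNat 0, Int.ofNat 0],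
  [Int.ofNat 2, Int.negSucc 1, Int.ofNat 0, Int.negSucc 1, Int.ofNat 0, Int.ofNat 2, Int.ofNat 0, Int.ofNat 0, Int.negSucc 1, Int.ofNat 2, Int.ofNat 0, Int.ofNat 0, Int.negSucc 1, Int.ofNat 0, Int.ofNat 0, Int.ofNat 0, Int.ofNat 0, Int.ofNat 0, Int.ofNat 0, Int.ofNat 0, Int.ofNat 2, Int.ofNat 0, Int.ofNat 0, Int.ofNat 0],
  [Int.negSucc 1, Int.negSucc 1, Int.ofNat 0, Int.negSucc 1, Int.ofNat 0, Int.ofNat 2, Int.ofNat 0, Int.ofNat 0, Int.negSucc 1, Int.negSucc 1, Int.ofNat 0, Int.ofNat 0, Int.negSucc 1, Int.ofNat 0, Int.ofNat 0, Int.ofNat 0, Int.ofNat 0, Int.ofNat 0, Int.ofNat 0, Int.ofNat 0, Int.ofNat 2, Int.ofNat 0, Int.ofNat 0, Int.ofNat 0],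
  [Int.ofNat 0, Int.negSucc 1, Int.negSucc 1, Int.ofNat 0, Int.negSucc 1, Int.ofNat 0, Int.ofNat 2, Int.ofNat 0, Int.ofNat 0, Int.negSucc 1, Int.negSucc 1, Int.ofNat 0, Int.ofNat 0, Int.negSucc 1, Int.ofNat 0, Int.ofNat 0, Int.ofNat 0, Int.ofNat 0, Int.ofNat 0, Int.ofNat 0, Int.ofNat 0, Int.ofNat 2, Int.ofNat 0, Int.ofNat 0],
  [Int.negSucc 1, Int.ofNat 0, Int.ofNat 0, Int.ofNat 0, Int.ofNat 0, Int.ofNat 0, Int.ofNat 0, Int.negSucc 1, Int.ofNat 0, Int.ofNat 0, Int.ofNat 0, Int.ofNat 0, Int.ofNat 0, Int.ofNat 0, Int.ofNat 0, Int.ofNat 2, Int.ofNat 2, Int.ofNat 0, Int.ofNat 0, Int.negSucc 1, Int.ofNat 2, Int.ofNat 0, Int.ofNat 2, Int.negSucc 1],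
  [Int.ofNat 0, Int.ofNat 0, Int.ofNat 0, Int.ofNat 0, Int.negSucc 1, Int.ofNat 0, Int.ofNat 0, Int.ofNat 0, Int.ofNat 0, Int.ofNat 0, Int.ofNat 0, Int.ofNat 0, Int.ofNat 2, Int.ofNat 2, Int.ofNat 0, Int.ofNat 0, Int.negSucc 1, Int.ofNat 2, Int.ofNat 0, Int.ofNat 2, Int.negSucc 1, Int.ofNat 0, Int.ofNat 0, Int.negSucc 1],
  [Int.negSucc 0, Int.negSucc 0, Int.negSucc 0, Int.negSucc 0, Int.negSucc 0, Int.negSucc 0, Int.negSucc 0, Int.negSucc 0, Int.negSucc 0, Int.ofNat 1, Int.ofNat 1, Int.negSucc 0, Int.ofNat 1, Int.ofNat 3, Int.negSucc 0, Int.ofNat 1, Int.negSucc 0, Int.ofNat 1, Int.negSucc 0, Int.ofNat 1, Int.negSucc 0, Int.negSucc 0, Int.ofNat 1, Int.ofNat 1],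
  [Int.negSucc 0, Int.negSucc 0, Int.negSucc 0, Int.negSucc 0, Int.negSucc 0, Int.negSucc 0, Int.negSucc 0, Int.ofNat 1, Int.ofNat 1, Int.ofNat 3, Int.negSucc 0, Int.ofNat 1, Int.ofNat 1, Int.negSucc 0, Int.ofNat 1, Int.ofNat 1, Int.negSucc 0, Int.negSucc 0, Int.negSucc 0, Int.negSucc 0, Int.negSucc 0, Int.negSucc 0, Int.ofNat 1, Int.ofNat 1],
  [Int.ofNat 0, Int.ofNat 0, Int.ofNat 0, Int.ofNat 0, Int.ofNat 0, Int.ofNat 0, Int.ofNat 0, Int.ofNat 2, Int.ofNat 0, Int.ofNat 2, Int.negSucc 1, Int.ofNat 0, Int.ofNat 0, Int.ofNat 0, Int.ofNat 2, Int.ofNat 0, Int.ofNat 0, Int.ofNat 0, Int.negSucc 1, Int.ofNat 0, Int.negSucc 1, Int.ofNat 0, Int.ofNat 2, Int.negSucc 1],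
  [Int.ofNat 0, Int.ofNat 0, Int.ofNat 0, Int.ofNat 0, Int.ofNat 0, Int.ofNat 0, Int.ofNat 0, Int.ofNat 2, Int.ofNat 0, Int.negSucc 1, Int.ofNat 2, Int.ofNat 0, Int.ofNat 0, Int.ofNat 0, Int.ofNat 2, Int.ofNat 0, Int.ofNat 0, Int.ofNat 0, Int.ofNat 2, Int.ofNat 0, Int.negSucc 1, Int.ofNat 0, Int.negSucc 1, Int.negSucc 1],
  [Int.ofNat 2, Int.ofNat 0, Int.ofNat 0, Int.ofNat 0, Int.ofNat 2, Int.ofNat 0, Int.ofNat 0, Int.ofNat 0, Int.ofNat 0, Int.negSucc 1, Int.ofNat 0, Int.ofNat 2, Int.ofNat 0, Int.ofNat 0, Int.ofNat 0, Int.ofNat 2, Int.ofNat 0, Int.ofNat 0, Int.negSucc 1, Int.ofNat 0, Int.ofNat 0, Int.ofNat 0, Int.negSucc 1, Int.negSucc 1],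
  [Int.negSucc 1, Int.ofNat 0, Int.ofNat 0, Int.ofNat 0, Int.negSucc 1, Int.ofNat 0, Int.ofNat 0, Int.ofNat 0, Int.ofNat 0, Int.ofNat 2, Int.ofNat 0, Int.ofNat 2, Int.ofNat 0, Int.ofNat 0, Int.ofNat 0, Int.ofNat 2, Int.ofNat 0, Int.ofNat 0, Int.ofNat 2, Int.ofNat 0, Int.ofNat 0, Int.ofNat 0, Int.negSucc 1, Int.negSucc 1],
  [Int.negSucc 1, Int.negSucc 1, Int.ofNat 2, Int.ofNat 2, Int.ofNat 0, Int.ofNat 2, Int.ofNat 0, Int.ofNat 0, Int.ofNat 0, Int.ofNat 0, Int.ofNat 0, Int.ofNat 0, Int.ofNat 0, Int.ofNat 0, Int.ofNat 2, Int.ofNat 0, Int.ofNat 0, Int.negSucc 1, Int.ofNat 0, Int.ofNat 0, Int.ofNat 0, Int.ofNat 0, Int.ofNat 0, Int.negSucc 1],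
  [Int.ofNat 2, Int.negSucc 1, Int.negSucc 1, Int.ofNat 2, Int.ofNat 0, Int.ofNat 2, Int.ofNat 0, Int.ofNat 0, Int.ofNat 0, Int.ofNat 0, Int.ofNat 0, Int.ofNat 0, Int.ofNat 0, Int.ofNat 0, Int.ofNat 2, Int.ofNat 0, Int.ofNat 0, Int.negSucc 1, Int.ofNat 0, Int.ofNat 0, Int.ofNat 0, Int.ofNat 0, Int.ofNat 0, Int.negSucc 1],
  [Int.ofNat 0, Int.ofNat 2, Int.negSucc 1, Int.negSucc 1, Int.ofNat 2, Int.ofNat 0, Int.ofNat 2, Int.ofNat 0, Int.ofNat 0, Int.ofNat 0, Int.ofNat 0, Int.ofNat 0, Int.ofNat 0, Int.ofNat 0, Int.ofNat 0, Int.ofNat 2, Int.ofNat 0, Int.ofNat 0, Int.negSucc 1, Int.ofNat 0, Int.ofNat 0, Int.ofNat 0, Int.ofNat 0, Int.negSucc 1],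
  [Int.negSucc 0, Int.negSucc 2, Int.ofNat 1, Int.negSucc 0, Int.ofNat 1, Int.ofNat 1, Int.ofNat 1, Int.negSucc 0, Int.ofNat 1, Int.negSucc 0, Int.negSucc 0, Int.ofNat 1, Int.ofNat 1, Int.negSucc 0, Int.ofNat 1, Int.ofNat 1, Int.negSucc 0, Int.ofNat 1, Int.negSucc 0, Int.negSucc 0, Int.negSucc 0, Int.negSucc 0, Int.negSucc 0, Int.ofNat 1],
  [Int.negSucc 0, Int.ofNat 1, Int.ofNat 1, Int.ofNat 1, Int.negSucc 0, Int.ofNat 1, Int.negSucc 0, Int.negSucc 0, Int.ofNat 1, Int.ofNat 1, Int.negSucc 0, Int.ofNat 1, Int.ofNat 1, Int.negSucc 0, Int.ofNat 1, Int.negSucc 0, Int.negSucc 0, Int.negSucc 0, Int.negSucc 0, Int.negSucc 0, Int.negSucc 0, Int.negSucc 2, Int.ofNat 1, Int.ofNat 1],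
  [Int.ofNat 2, Int.ofNat 0, Int.ofNat 0, Int.ofNat 0, Int.ofNat 0, Int.ofNat 0, Int.ofNat 2, Int.ofNat 2, Int.ofNat 0, Int.ofNat 2, Int.ofNat 0, Int.ofNat 0, Int.ofNat 0, Int.ofNat 0, Int.ofNat 0, Int.ofNat 0, Int.ofNat 0, Int.negSucc 1, Int.negSucc 1, Int.ofNat 2, Int.ofNat 0, Int.ofNat 0, Int.ofNat 2, Int.ofNat 0],
  [Int.ofNat 2, Int.ofNat 2, Int.ofNat 0, Int.ofNat 0, Int.negSucc 1, Int.ofNat 2, Int.ofNat 0, Int.ofNat 0, Int.ofNat 0, Int.ofNat 0, Int.ofNat 0, Int.negSucc 1, Int.ofNat 2, Int.ofNat 0, Int.ofNat 2, Int.ofNat 0, Int.ofNat 0, Int.ofNat 0, Int.ofNat 0, Int.ofNat 0, Int.ofNat 0, Int.ofNat 0, Int.ofNat 2, Int.ofNat 0],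
  [Int.ofNat 0, Int.ofNat 0, Int.ofNat 2, Int.negSucc 1, Int.negSucc 1, Int.ofNat 0, Int.ofNat 0, Int.ofNat 0, Int.ofNat 0, Int.ofNat 0, Int.ofNat 0, Int.negSucc 1, Int.ofNat 2, Int.ofNat 0, Int.ofNat 0, Int.ofNat 0, Int.ofNat 0, Int.negSucc 1, Int.ofNat 0, Int.ofNat 0, Int.ofNat 0, Int.ofNat 0, Int.ofNat 2, Int.ofNat 2],
  [Int.ofNat 0, Int.ofNat 0, Int.negSucc 1, Int.negSucc 1, Int.negSucc 1, Int.ofNat 0, Int.ofNat 0, Int.ofNat 0, Int.ofNat 0, Int.ofNat 0, Int.ofNat 0, Int.negSucc 1, Int.ofNat 2, Int.ofNat 0, Int.ofNat 0, Int.ofNat 0, Int.ofNat 0, Int.negSucc 1, Int.ofNat 0, Int.ofNat 0, Int.ofNat 0, Int.ofNat 0, Int.negSucc 1, Int.ofNat 2],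
  [Int.ofNat 2, Int.ofNat 0, Int.ofNat 0, Int.ofNat 0, Int.ofNat 0, Int.ofNat 0, Int.negSucc 1, Int.ofNat 0, Int.ofNat 0, Int.ofNat 0, Int.ofNat 0, Int.negSucc 1, Int.negSucc 1, Int.negSucc 1, Int.ofNat 0, Int.ofNat 0, Int.ofNat 0, Int.ofNat 0, Int.ofNat 0, Int.negSucc 1, Int.ofNat 0, Int.ofNat 0, Int.negSucc 1, Int.ofNat 2],
  [Int.ofNat 2, Int.ofNat 0, Int.ofNat 0, Int.ofNat 0, Int.ofNat 0, Int.ofNat 0, Int.ofNat 2, Int.ofNat 0, Int.ofNat 0, Int.ofNat 0, Int.ofNat 0, Int.negSucc 1, Int.negSucc 1, Int.negSucc 1, Int.ofNat 0, Int.ofNat 0, Int.ofNat 0, Int.ofNat 0, Int.ofNat 0, Int.negSucc 1, Int.ofNat 0, Int.ofNat 0, Int.ofNat 2, Int.ofNat 2],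
  [Int.ofNat 0, Int.ofNat 2, Int.ofNat 2, Int.ofNat 0, Int.ofNat 0, Int.ofNat 0, Int.ofNat 2, Int.ofNat 0, Int.ofNat 2, Int.ofNat 0, Int.ofNat 0, Int.ofNat 0, Int.ofNat 0, Int.negSucc 1, Int.ofNat 0, Int.ofNat 0, Int.ofNat 0, Int.ofNat 0, Int.ofNat 2, Int.negSucc 1, Int.ofNat 0, Int.ofNat 0, Int.ofNat 2, Int.ofNat 0],
  [Int.ofNat 0, Int.ofNat 2, Int.ofNat 2, Int.ofNat 0, Int.ofNat 2, Int.ofNat 0, Int.ofNat 2, Int.ofNat 0, Int.ofNat 0, Int.ofNat 0, Int.ofNat 0, Int.negSucc 1, Int.ofNat 2, Int.ofNat 0, Int.ofNat 0, Int.ofNat 0, Int.negSucc 1, Int.ofNat 0, Int.ofNat 0, Int.ofNat 2, Int.ofNat 0, Int.ofNat 0, Int.ofNat 0, Int.ofNat 0],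
  [Int.ofNat 2, Int.ofNat 0, Int.ofNat 0, Int.ofNat 0, Int.ofNat 2, Int.ofNat 0, Int.ofNat 0, Int.negSucc 1, Int.ofNat 0, Int.ofNat 0, Int.ofNat 0, Int.negSucc 1, Int.ofNat 2, Int.ofNat 0, Int.ofNat 0, Int.ofNat 0, Int.negSucc 1, Int.ofNat 0, Int.ofNat 0, Int.ofNat 0, Int.ofNat 0, Int.negSucc 1, Int.ofNat 0, Int.ofNat 2],
  [Int.ofNat 0, Int.negSucc 1, Int.ofNat 0, Int.ofNat 2, Int.ofNat 0, Int.ofNat 0, Int.ofNat 0, Int.ofNat 2, Int.ofNat 0, Int.ofNat 0, Int.negSucc 1, Int.ofNat 0, Int.ofNat 0, Int.ofNat 0, Int.negSucc 1, Int.ofNat 2, Int.ofNat 0, Int.ofNat 0, Int.ofNat 0, Int.negSucc 1, Int.ofNat 0, Int.ofNat 0, Int.ofNat 0, Int.ofNat 2],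
  [Int.ofNat 0, Int.ofNat 2, Int.ofNat 0, Int.ofNat 2, Int.ofNat 0, Int.ofNat 0, Int.ofNat 0, Int.ofNat 2, Int.ofNat 0, Int.ofNat 0, Int.negSucc 1, Int.ofNat 0, Int.ofNat 0, Int.ofNat 0, Int.negSucc 1, Int.ofNat 2, Int.ofNat 0, Int.ofNat 0, Int.ofNat 0, Int.negSucc 1, Int.ofNat 0, Int.ofNat 0, Int.ofNat 0, Int.negSucc 1],
  [Int.ofNat 2, Int.ofNat 0, Int.ofNat 2, Int.ofNat 0, Int.ofNat 0, Int.ofNat 0, Int.ofNat 2, Int.ofNat 0, Int.ofNat 0, Int.negSucc 1, Int.ofNat 0, Int.ofNat 0, Int.ofNat 0, Int.negSucc 1, Int.ofNat 2, Int.ofNat 0, Int.ofNat 0, Int.ofNat 0, Int.negSucc 1, Int.ofNat 0, Int.ofNat 0, Int.ofNat 0, Int.ofNat 0, Int.negSucc 1],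
  [Int.negSucc 1, Int.ofNat 0, Int.negSucc 1, Int.ofNat 0, Int.ofNat 0, Int.ofNat 0, Int.ofNat 2, Int.ofNat 0, Int.ofNat 0, Int.ofNat 2, Int.ofNat 0, Int.ofNat 0, Int.ofNat 0, Int.negSucc 1, Int.ofNat 2, Int.ofNat 0, Int.ofNat 0, Int.ofNat 0, Int.ofNat 2, Int.ofNat 0, Int.ofNat 0, Int.ofNat 0, Int.ofNat 0, Int.negSucc 1],
  [Int.negSucc 1, Int.negSucc 1, Int.ofNat 2, Int.ofNat 0, Int.ofNat 0, Int.ofNat 0, Int.ofNat 0, Int.ofNat 0, Int.ofNat 2, Int.ofNat 0, Int.ofNat 0, Int.ofNat 2, Int.negSucc 1, Int.ofNat 0, Int.ofNat 0, Int.ofNat 0, Int.ofNat 0, Int.ofNat 0, Int.ofNat 2, Int.ofNat 0, Int.ofNat 0, Int.ofNat 0, Int.ofNat 0, Int.negSucc 1],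
  [Int.ofNat 2, Int.negSucc 1, Int.negSucc 1, Int.ofNat 0, Int.ofNat 0, Int.ofNat 0, Int.ofNat 0, Int.ofNat 0, Int.ofNat 2, Int.ofNat 0, Int.ofNat 0, Int.negSucc 1, Int.negSucc 1, Int.ofNat 0, Int.ofNat 0, Int.ofNat 0, Int.ofNat 0, Int.ofNat 0, Int.negSucc 1, Int.ofNat 0, Int.ofNat 0, Int.ofNat 0, Int.ofNat 0, Int.negSucc 1],
  [Int.ofNat 0, Int.ofNat 2, Int.negSucc 1, Int.negSucc 1, Int.ofNat 0, Int.ofNat 0, Int.ofNat 0, Int.ofNat 0, Int.ofNat 0, Int.ofNat 2, Int.ofNat 0, Int.ofNat 0, Int.negSucc 1, Int.negSucc 1, Int.ofNat 0, Int.ofNat 0, Int.ofNat 0, Int.ofNat 0, Int.ofNat 0, Int.negSucc 1, Int.ofNat 0, Int.ofNat 0, Int.ofNat 0, Int.negSucc 1],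
  [Int.negSucc 0, Int.negSucc 2, Int.ofNat 1, Int.negSucc 0, Int.ofNat 1, Int.ofNat 1, Int.ofNat 1, Int.ofNat 1, Int.ofNat 1, Int.ofNat 1, Int.negSucc 0, Int.ofNat 1, Int.negSucc 0, Int.negSucc 0, Int.ofNat 1, Int.negSucc 0, Int.ofNat 1, Int.ofNat 1, Int.ofNat 1, Int.negSucc 0, Int.negSucc 0, Int.ofNat 1, Int.ofNat 1, Int.ofNat 1],
  [Int.negSucc 0, Int.ofNat 1, Int.ofNat 1, Int.ofNat 1, Int.ofNat 1, Int.ofNat 1, Int.ofNat 1, Int.negSucc 0, Int.ofNat 1, Int.negSucc 0, Int.negSucc 0, Int.ofNat 1, Int.negSucc 0, Int.ofNat 1, Int.ofNat 1, Int.ofNat 1, Int.negSucc 0, Int.negSucc 0, Int.ofNat 1, Int.ofNat 1, Int.negSucc 0, Int.negSucc 2, Int.ofNat 1, Int.ofNat 1],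
  [Int.ofNat 2, Int.ofNat 0, Int.ofNat 0, Int.ofNat 0, Int.ofNat 0, Int.ofNat 0, Int.ofNat 2, Int.ofNat 0, Int.ofNat 0, Int.ofNat 0, Int.ofNat 0, Int.ofNat 0, Int.negSucc 1, Int.ofNat 0, Int.ofNat 0, Int.ofNat 2, Int.negSucc 1, Int.negSucc 1, Int.ofNat 0, Int.ofNat 2, Int.ofNat 0, Int.negSucc 1, Int.ofNat 0, Int.ofNat 0],
  [Int.ofNat 2, Int.ofNat 2, Int.ofNat 0, Int.ofNat 0, Int.ofNat 0, Int.ofNat 0, Int.ofNat 0, Int.ofNat 0, Int.negSucc 1, Int.ofNat 0, Int.ofNat 0, Int.negSucc 1, Int.ofNat 0, Int.negSucc 1, Int.ofNat 0, Int.ofNat 2, Int.ofNat 0, Int.ofNat 0, Int.ofNat 0, Int.ofNat 0, Int.negSucc 1, Int.ofNat 0, Int.ofNat 2, Int.ofNat 0],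
  [Int.ofNat 0, Int.ofNat 0, Int.ofNat 2, Int.ofNat 0, Int.ofNat 0, Int.ofNat 0, Int.ofNat 0, Int.ofNat 0, Int.ofNat 0, Int.ofNat 0, Int.ofNat 0, Int.ofNat 0, Int.ofNat 2, Int.negSucc 1, Int.ofNat 0, Int.ofNat 2, Int.ofNat 0, Int.ofNat 0, Int.ofNat 2, Int.ofNat 0, Int.negSucc 1, Int.ofNat 0, Int.ofNat 2, Int.ofNat 2],
  [Int.ofNat 0, Int.ofNat 0, Int.negSucc 1, Int.ofNat 0, Int.ofNat 0, Int.ofNat 0, Int.ofNat 0, Int.ofNat 0, Int.ofNat 0, Int.ofNat 0, Int.ofNat 0, Int.ofNat 0, Int.ofNat 2, Int.negSucc 1, Int.ofNat 0, Int.negSucc 1, Int.ofNat 0, Int.ofNat 0, Int.negSucc 1, Int.ofNat 0, Int.negSucc 1, Int.ofNat 0, Int.negSucc 1, Int.ofNat 2],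
  [Int.ofNat 0, Int.ofNat 0, Int.ofNat 0, Int.ofNat 0, Int.ofNat 0, Int.ofNat 0, Int.ofNat 0, Int.ofNat 0, Int.ofNat 0, Int.negSucc 1, Int.negSucc 1, Int.ofNat 0, Int.negSucc 1, Int.ofNat 0, Int.ofNat 0, Int.negSucc 1, Int.ofNat 0, Int.ofNat 2, Int.ofNat 0, Int.negSucc 1, Int.ofNat 0, Int.ofNat 0, Int.negSucc 1, Int.ofNat 2],
  [Int.ofNat 0, Int.ofNat 0, Int.ofNat 0, Int.ofNat 0, Int.ofNat 0, Int.ofNat 0, Int.ofNat 0, Int.ofNat 0, Int.ofNat 0, Int.ofNat 2, Int.negSucc 1, Int.ofNat 0, Int.ofNat 2, Int.ofNat 0, Int.ofNat 0, Int.negSucc 1, Int.ofNat 0, Int.ofNat 2, Int.ofNat 0, Int.negSucc 1, Int.ofNat 0, Int.ofNat 0, Int.negSucc 1, Int.ofNat 2],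
  [Int.ofNat 2, Int.negSucc 1, Int.ofNat 0, Int.negSucc 1, Int.ofNat 2, Int.ofNat 2, Int.negSucc 1, Int.ofNat 0, Int.ofNat 0, Int.ofNat 0, Int.ofNat 0, Int.ofNat 0, Int.ofNat 0, Int.ofNat 0, Int.ofNat 0, Int.ofNat 0, Int.negSucc 1, Int.ofNat 0, Int.ofNat 0, Int.ofNat 0, Int.ofNat 0, Int.ofNat 2, Int.ofNat 0, Int.ofNat 0],
  [Int.negSucc 1, Int.negSucc 1, Int.ofNat 0, Int.negSucc 1, Int.ofNat 2, Int.ofNat 2, Int.negSucc 1, Int.ofNat 0, Int.ofNat 0, Int.ofNat 0, Int.ofNat 0, Int.ofNat 0, Int.ofNat 0, Int.ofNat 0, Int.ofNat 0, Int.ofNat 0, Int.negSucc 1, Int.ofNat 0, Int.ofNat 0, Int.ofNat 0, Int.ofNat 0, Int.negSucc 1, Int.ofNat 0, Int.ofNat 0],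
  [Int.ofNat 0, Int.negSucc 1, Int.negSucc 1, Int.ofNat 0, Int.negSucc 1, Int.ofNat 2, Int.ofNat 2, Int.negSucc 1, Int.ofNat 0, Int.ofNat 0, Int.ofNat 0, Int.ofNat 0, Int.ofNat 0, Int.ofNat 0, Int.ofNat 0, Int.ofNat 0, Int.ofNat 0, Int.negSucc 1, Int.ofNat 0, Int.ofNat 0, Int.ofNat 0, Int.ofNat 0, Int.negSucc 1, Int.ofNat 0],
  [Int.negSucc 1, Int.ofNat 0, Int.ofNat 0, Int.ofNat 0, Int.ofNat 0, Int.ofNat 2, Int.ofNat 2, Int.negSucc 1, Int.ofNat 0, Int.ofNat 0, Int.ofNat 0, Int.ofNat 0, Int.ofNat 0, Int.ofNat 2, Int.ofNat 0, Int.ofNat 0, Int.ofNat 2, Int.negSucc 1, Int.ofNat 0, Int.ofNat 0, Int.ofNat 0, Int.ofNat 0, Int.ofNat 0, Int.negSucc 1],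
  [Int.ofNat 0, Int.ofNat 0, Int.ofNat 2, Int.ofNat 2, Int.negSucc 1, Int.ofNat 0, Int.ofNat 0, Int.ofNat 0, Int.ofNat 0, Int.ofNat 0, Int.ofNat 2, Int.ofNat 0, Int.ofNat 0, Int.ofNat 2, Int.negSucc 1, Int.ofNat 0, Int.ofNat 0, Int.ofNat 0, Int.ofNat 0, Int.ofNat 0, Int.negSucc 1, Int.ofNat 0, Int.ofNat 0, Int.negSucc 1],
  [Int.ofNat 0, Int.ofNat 0, Int.negSucc 1, Int.ofNat 2, Int.negSucc 1, Int.ofNat 0, Int.ofNat 0, Int.ofNat 0, Int.ofNat 0, Int.ofNat 0, Int.ofNat 2, Int.ofNat 0, Int.ofNat 0, Int.ofNat 2, Int.negSucc 1, Int.ofNat 0, Int.ofNat 0, Int.ofNat 0, Int.ofNat 0, Int.ofNat 0, Int.negSucc 1, Int.ofNat 0, Int.ofNat 0, Int.ofNat 2],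
  [Int.ofNat 0, Int.ofNat 0, Int.negSucc 1, Int.ofNat 2, Int.ofNat 0, Int.ofNat 0, Int.negSucc 1, Int.ofNat 2, Int.ofNat 0, Int.ofNat 2, Int.negSucc 1, Int.ofNat 0, Int.ofNat 0, Int.ofNat 0, Int.ofNat 0, Int.ofNat 0, Int.ofNat 0, Int.negSucc 1, Int.ofNat 0, Int.ofNat 0, Int.ofNat 0, Int.ofNat 0, Int.ofNat 0, Int.ofNat 2],
  [Int.ofNat 0, Int.ofNat 0, Int.ofNat 2, Int.ofNat 2, Int.ofNat 0, Int.ofNat 0, Int.negSucc 1, Int.ofNat 2, Int.ofNat 0, Int.ofNat 2, Int.negSucc 1, Int.ofNat 0, Int.ofNat 0, Int.ofNat 0, Int.ofNat 0, Int.ofNat 0, Int.ofNat 0, Int.negSucc 1, Int.ofNat 0, Int.ofNat 0, Int.ofNat 0, Int.ofNat 0, Int.ofNat 0, Int.negSucc 1],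
  [Int.ofNat 0, Int.ofNat 0, Int.negSucc 1, Int.ofNat 2, Int.ofNat 0, Int.ofNat 0, Int.ofNat 2, Int.ofNat 2, Int.ofNat 0, Int.negSucc 1, Int.ofNat 2, Int.ofNat 0, Int.ofNat 0, Int.ofNat 0, Int.ofNat 0, Int.ofNat 0, Int.ofNat 0, Int.negSucc 1, Int.ofNat 0, Int.ofNat 0, Int.ofNat 0, Int.ofNat 0, Int.ofNat 0, Int.negSucc 1],
  [Int.ofNat 0, Int.negSucc 1, Int.ofNat 0, Int.ofNat 0, Int.ofNat 0, Int.ofNat 2, Int.ofNat 0, Int.ofNat 0, Int.ofNat 2, Int.ofNat 0, Int.ofNat 0, Int.ofNat 0, Int.negSucc 1, Int.ofNat 2, Int.ofNat 0, Int.ofNat 0, Int.ofNat 0, Int.ofNat 2, Int.ofNat 0, Int.ofNat 0, Int.ofNat 0, Int.ofNat 0, Int.negSucc 1, Int.negSucc 1],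
  [Int.ofNat 0, Int.negSucc 1, Int.ofNat 0, Int.ofNat 0, Int.ofNat 0, Int.negSucc 1, Int.ofNat 0, Int.ofNat 0, Int.ofNat 2, Int.ofNat 0, Int.ofNat 0, Int.ofNat 0, Int.negSucc 1, Int.ofNat 2, Int.ofNat 0, Int.ofNat 0, Int.ofNat 0, Int.ofNat 2, Int.ofNat 0, Int.ofNat 0, Int.ofNat 0, Int.ofNat 0, Int.ofNat 2, Int.negSucc 1],
  [Int.negSucc 1, Int.ofNat 0, Int.negSucc 1, Int.ofNat 0, Int.negSucc 1, Int.negSucc 1, Int.ofNat 0, Int.ofNat 0, Int.ofNat 2, Int.ofNat 0, Int.ofNat 0, Int.ofNat 0, Int.negSucc 1, Int.ofNat 0, Int.ofNat 0, Int.ofNat 0, Int.negSucc 1, Int.ofNat 2, Int.ofNat 0, Int.ofNat 0, Int.ofNat 0, Int.ofNat 0, Int.ofNat 0, Int.ofNat 0],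
  [Int.negSucc 1, Int.ofNat 0, Int.ofNat 0, Int.ofNat 0, Int.negSucc 1, Int.ofNat 0, Int.ofNat 0, Int.negSucc 1, Int.negSucc 1, Int.negSucc 1, Int.ofNat 0, Int.ofNat 0, Int.ofNat 2, Int.ofNat 0, Int.ofNat 2, Int.ofNat 0, Int.ofNat 0, Int.ofNat 0, Int.negSucc 1, Int.ofNat 0, Int.ofNat 0, Int.ofNat 0, Int.ofNat 0, Int.ofNat 0],
  [Int.ofNat 1, Int.negSucc 0, Int.negSucc 0, Int.negSucc 0, Int.negSucc 0, Int.negSucc 0, Int.ofNat 1, Int.negSucc 0, Int.negSucc 0, Int.negSucc 0, Int.ofNat 1, Int.ofNat 1, Int.ofNat 3, Int.ofNat 1, Int.ofNat 1, Int.ofNat 1, Int.ofNat 1, Int.negSucc 0, Int.negSucc 0, Int.ofNat 1, Int.ofNat 1, Int.ofNat 1, Int.ofNat 1, Int.negSucc 0],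
  [Int.ofNat 1, Int.ofNat 1, Int.ofNat 1, Int.ofNat 1, Int.negSucc 0, Int.negSucc 0, Int.negSucc 0, Int.negSucc 0, Int.negSucc 0, Int.ofNat 1, Int.negSucc 0, Int.negSucc 0, Int.negSucc 0, Int.ofNat 1, Int.ofNat 1, Int.ofNat 3, Int.ofNat 1, Int.ofNat 1, Int.ofNat 1, Int.ofNat 1, Int.negSucc 0, Int.negSucc 0, Int.ofNat 1, Int.negSucc 0],
  [Int.ofNat 0, Int.ofNat 0, Int.ofNat 0, Int.ofNat 0, Int.negSucc 1, Int.negSucc 1, Int.ofNat 0, Int.ofNat 0, Int.ofNat 0, Int.ofNat 0, Int.negSucc 1, Int.ofNat 0, Int.ofNat 0, Int.ofNat 0, Int.ofNat 0, Int.ofNat 2, Int.ofNat 0, Int.ofNat 0, Int.ofNat 2, Int.ofNat 2, Int.negSucc 1, Int.ofNat 0, Int.ofNat 0, Int.ofNat 2],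
  [Int.ofNat 0, Int.ofNat 0, Int.ofNat 0, Int.negSucc 1, Int.negSucc 1, Int.ofNat 0, Int.ofNat 0, Int.ofNat 0, Int.ofNat 0, Int.negSucc 1, Int.ofNat 0, Int.ofNat 0, Int.ofNat 0, Int.ofNat 0, Int.ofNat 2, Int.ofNat 0, Int.ofNat 0, Int.ofNat 2, Int.ofNat 2, Int.negSucc 1, Int.ofNat 0, Int.ofNat 0, Int.ofNat 0, Int.ofNat 2],
  [Int.ofNat 0, Int.ofNat 0, Int.ofNat 0, Int.negSucc 1, Int.negSucc 1, Int.ofNat 0, Int.ofNat 0, Int.ofNat 0, Int.ofNat 0, Int.ofNat 2, Int.ofNat 0, Int.ofNat 0, Int.ofNat 0, Int.ofNat 0, Int.ofNat 2, Int.ofNat 0, Int.ofNat 0, Int.ofNat 2, Int.negSucc 1, Int.negSucc 1, Int.ofNat 0, Int.ofNat 0, Int.ofNat 0, Int.ofNat 2],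
  [Int.ofNat 0, Int.ofNat 0, Int.negSucc 1, Int.negSucc 1, Int.ofNat 0, Int.ofNat 0, Int.negSucc 1, Int.ofNat 0, Int.ofNat 2, Int.ofNat 0, Int.ofNat 0, Int.ofNat 2, Int.ofNat 0, Int.ofNat 0, Int.negSucc 1, Int.ofNat 0, Int.ofNat 0, Int.ofNat 0, Int.ofNat 0, Int.ofNat 2, Int.ofNat 0, Int.ofNat 0, Int.ofNat 0, Int.ofNat 2],
  [Int.ofNat 0, Int.ofNat 0, Int.ofNat 2, Int.negSucc 1, Int.ofNat 0, Int.ofNat 0, Int.negSucc 1, Int.ofNat 0, Int.ofNat 2, Int.ofNat 0, Int.ofNat 0, Int.negSucc 1, Int.ofNat 0, Int.ofNat 0, Int.negSucc 1, Int.ofNat 0, Int.ofNat 0, Int.ofNat 0, Int.ofNat 0, Int.ofNat 2, Int.ofNat 0, Int.ofNat 0, Int.ofNat 0, Int.ofNat 2],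
  [Int.ofNat 0, Int.ofNat 0, Int.ofNat 0, Int.ofNat 2, Int.negSucc 1, Int.ofNat 0, Int.ofNat 0, Int.negSucc 1, Int.ofNat 0, Int.ofNat 2, Int.ofNat 0, Int.ofNat 0, Int.negSucc 1, Int.ofNat 0, Int.ofNat 0, Int.negSucc 1, Int.ofNat 0, Int.ofNat 0, Int.ofNat 0, Int.ofNat 0, Int.ofNat 2, Int.ofNat 0, Int.ofNat 0, Int.ofNat 2],
  [Int.ofNat 1, Int.ofNat 1, Int.ofNat 1, Int.ofNat 1, Int.negSucc 0, Int.negSucc 0, Int.ofNat 1, Int.negSucc 0, Int.ofNat 1, Int.ofNat 1, Int.negSucc 0, Int.ofNat 1, Int.negSucc 0, Int.ofNat 1, Int.negSucc 0, Int.negSucc 2, Int.ofNat 1, Int.negSucc 0, Int.ofNat 1, Int.ofNat 1, Int.ofNat 1, Int.ofNat 1, Int.ofNat 1, Int.negSucc 0],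
  [Int.ofNat 1, Int.negSucc 0, Int.negSucc 0, Int.ofNat 1, Int.negSucc 0, Int.ofNat 1, Int.ofNat 1, Int.negSucc 0, Int.ofNat 1, Int.negSucc 0, Int.ofNat 1, Int.negSucc 0, Int.negSucc 2, Int.ofNat 1, Int.negSucc 0, Int.ofNat 1, Int.ofNat 1, Int.ofNat 1, Int.ofNat 1, Int.ofNat 1, Int.ofNat 1, Int.ofNat 1, Int.ofNat 1, Int.negSucc 0],
  [Int.negSucc 1, Int.ofNat 0, Int.ofNat 0, Int.ofNat 0, Int.negSucc 1, Int.ofNat 0, Int.ofNat 0, Int.negSucc 1, Int.ofNat 2, Int.negSucc 1, Int.ofNat 0, Int.ofNat 0, Int.negSucc 1, Int.ofNat 0, Int.negSucc 1, Int.ofNat 0, Int.ofNat 0, Int.ofNat 0, Int.ofNat 2, Int.ofNat 0, Int.ofNat 0, Int.ofNat 0, Int.ofNat 0, Int.ofNat 0],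
  [Int.negSucc 1, Int.ofNat 0, Int.negSucc 1, Int.ofNat 0, Int.ofNat 2, Int.negSucc 1, Int.ofNat 0, Int.ofNat 0, Int.negSucc 1, Int.ofNat 0, Int.ofNat 0, Int.ofNat 0, Int.negSucc 1, Int.ofNat 0, Int.ofNat 0, Int.ofNat 0, Int.ofNat 2, Int.negSucc 1, Int.ofNat 0, Int.ofNat 0, Int.ofNat 0, Int.ofNat 0, Int.ofNat 0, Int.ofNat 0],
  [Int.ofNat 0, Int.negSucc 1, Int.ofNat 0, Int.ofNat 2, Int.ofNat 0, Int.ofNat 0, Int.ofNat 0, Int.ofNat 0, Int.ofNat 0, Int.ofNat 0, Int.ofNat 0, Int.ofNat 2, Int.ofNat 0, Int.negSucc 1, Int.ofNat 2, Int.ofNat 0, Int.ofNat 0, Int.ofNat 0, Int.ofNat 2, Int.ofNat 0, Int.ofNat 0, Int.ofNat 0, Int.negSucc 1, Int.negSucc 1],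
  [Int.ofNat 0, Int.negSucc 1, Int.ofNat 0, Int.ofNat 2, Int.ofNat 0, Int.ofNat 0, Int.ofNat 0, Int.ofNat 0, Int.ofNat 0, Int.ofNat 0, Int.ofNat 0, Int.ofNat 2, Int.ofNat 0, Int.negSucc 1, Int.ofNat 2, Int.ofNat 0, Int.ofNat 0, Int.ofNat 0, Int.negSucc 1, Int.ofNat 0, Int.ofNat 0, Int.ofNat 0, Int.ofNat 2, Int.negSucc 1],
  [Int.ofNat 0, Int.ofNat 0, Int.ofNat 2, Int.ofNat 0, Int.ofNat 2, Int.ofNat 0, Int.ofNat 0, Int.ofNat 2, Int.ofNat 0, Int.ofNat 0, Int.negSucc 1, Int.ofNat 0, Int.ofNat 0, Int.ofNat 0, Int.ofNat 0, Int.negSucc 1, Int.ofNat 0, Int.ofNat 0, Int.ofNat 0, Int.ofNat 0, Int.ofNat 0, Int.negSucc 1, Int.ofNat 2, Int.negSucc 1],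
  [Int.ofNat 0, Int.ofNat 0, Int.negSucc 1, Int.ofNat 0, Int.negSucc 1, Int.ofNat 0, Int.ofNat 0, Int.ofNat 2, Int.ofNat 0, Int.ofNat 0, Int.negSucc 1, Int.ofNat 0, Int.ofNat 0, Int.ofNat 0, Int.ofNat 0, Int.negSucc 1, Int.ofNat 0, Int.ofNat 0, Int.ofNat 0, Int.ofNat 0, Int.ofNat 0, Int.negSucc 1, Int.ofNat 2, Int.negSucc 1],
  [Int.negSucc 1, Int.ofNat 2, Int.ofNat 0, Int.negSucc 1, Int.ofNat 0, Int.ofNat 0, Int.ofNat 0, Int.ofNat 0, Int.ofNat 0, Int.ofNat 0, Int.ofNat 0, Int.negSucc 1, Int.negSucc 1, Int.ofNat 2, Int.ofNat 0, Int.ofNat 0, Int.negSucc 1, Int.negSucc 1, Int.ofNat 0, Int.ofNat 0, Int.ofNat 0, Int.ofNat 0, Int.ofNat 0, Int.ofNat 0],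
  [Int.ofNat 2, Int.ofNat 2, Int.ofNat 0, Int.negSucc 1, Int.ofNat 0, Int.ofNat 0, Int.ofNat 0, Int.ofNat 0, Int.ofNat 0, Int.ofNat 0, Int.ofNat 0, Int.ofNat 2, Int.negSucc 1, Int.ofNat 2, Int.ofNat 0, Int.ofNat 0, Int.negSucc 1, Int.negSucc 1, Int.ofNat 0, Int.ofNat 0, Int.ofNat 0, Int.ofNat 0, Int.ofNat 0, Int.ofNat 0],
  [Int.ofNat 0, Int.ofNat 2, Int.ofNat 2, Int.ofNat 0, Int.negSucc 1, Int.ofNat 0, Int.ofNat 0, Int.ofNat 0, Int.ofNat 0, Int.ofNat 0, Int.ofNat 0, Int.ofNat 0, Int.ofNat 2, Int.negSucc 1, Int.ofNat 2, Int.ofNat 0, Int.ofNat 0, Int.negSucc 1, Int.negSucc 1, Int.ofNat 0, Int.ofNat 0, Int.ofNat 0, Int.ofNat 0, Int.ofNat 0],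
  [Int.ofNat 2, Int.ofNat 0, Int.ofNat 0, Int.ofNat 0, Int.ofNat 0, Int.ofNat 0, Int.ofNat 0, Int.ofNat 0, Int.ofNat 0, Int.ofNat 0, Int.ofNat 0, Int.ofNat 0, Int.ofNat 2, Int.ofNat 0, Int.ofNat 2, Int.ofNat 0, Int.ofNat 2, Int.negSucc 1, Int.negSucc 1, Int.ofNat 0, Int.ofNat 0, Int.ofNat 0, Int.ofNat 2, Int.ofNat 2],
  [Int.ofNat 0, Int.ofNat 0, Int.ofNat 0, Int.ofNat 0, Int.ofNat 0, Int.ofNat 0, Int.ofNat 0, Int.ofNat 0, Int.ofNat 0, Int.ofNat 2, Int.ofNat 0, Int.ofNat 2, Int.ofNat 0, Int.ofNat 2, Int.negSucc 1, Int.negSucc 1, Int.ofNat 0, Int.ofNat 0, Int.ofNat 0, Int.ofNat 2, Int.ofNat 2, Int.ofNat 0, Int.ofNat 0, Int.ofNat 2],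
  [Int.ofNat 1, Int.ofNat 1, Int.ofNat 1, Int.ofNat 1, Int.negSucc 0, Int.ofNat 1, Int.negSucc 0, Int.negSucc 0, Int.negSucc 0, Int.ofNat 1, Int.negSucc 0, Int.ofNat 1, Int.negSucc 0, Int.ofNat 1, Int.negSucc 0, Int.negSucc 2, Int.negSucc 0, Int.ofNat 1, Int.negSucc 0, Int.ofNat 1, Int.ofNat 1, Int.negSucc 0, Int.negSucc 0, Int.negSucc 0],
  [Int.ofNat 1, Int.negSucc 0, Int.negSucc 0, Int.ofNat 1, Int.negSucc 0, Int.negSucc 0, Int.ofNat 1, Int.negSucc 0, Int.negSucc 0, Int.ofNat 1, Int.ofNat 1, Int.ofNat 1, Int.ofNat 1, Int.negSucc 0, Int.negSucc 0, Int.negSucc 2, Int.negSucc 0, Int.negSucc 0, Int.ofNat 1, Int.ofNat 1, Int.negSucc 0, Int.ofNat 1, Int.ofNat 1, Int.negSucc 0],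
  [Int.negSucc 1, Int.ofNat 0, Int.ofNat 0, Int.ofNat 2, Int.ofNat 0, Int.ofNat 0, Int.ofNat 0, Int.negSucc 1, Int.negSucc 1, Int.ofNat 2, Int.ofNat 2, Int.ofNat 0, Int.ofNat 0, Int.ofNat 0, Int.ofNat 0, Int.negSucc 1, Int.ofNat 0, Int.ofNat 0, Int.ofNat 0, Int.ofNat 0, Int.ofNat 0, Int.ofNat 0, Int.ofNat 2, Int.ofNat 0],
  [Int.negSucc 1, Int.ofNat 0, Int.ofNat 0, Int.ofNat 2, Int.ofNat 0, Int.ofNat 0, Int.ofNat 0, Int.negSucc 1, Int.negSucc 1, Int.negSucc 1, Int.negSucc 1, Int.ofNat 0, Int.ofNat 0, Int.ofNat 0, Int.ofNat 0, Int.ofNat 2, Int.ofNat 0, Int.ofNat 0, Int.ofNat 0, Int.ofNat 0, Int.ofNat 0, Int.ofNat 0, Int.negSucc 1, Int.ofNat 0],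
  [Int.ofNat 0, Int.negSucc 1, Int.ofNat 0, Int.ofNat 0, Int.ofNat 0, Int.ofNat 0, Int.ofNat 0, Int.ofNat 0, Int.negSucc 1, Int.ofNat 0, Int.negSucc 1, Int.negSucc 1, Int.ofNat 0, Int.ofNat 2, Int.ofNat 0, Int.ofNat 0, Int.ofNat 0, Int.negSucc 1, Int.ofNat 2, Int.ofNat 0, Int.ofNat 0, Int.negSucc 1, Int.ofNat 0, Int.ofNat 0],
  [Int.ofNat 0, Int.negSucc 1, Int.ofNat 0, Int.ofNat 0, Int.ofNat 0, Int.ofNat 0, Int.ofNat 0, Int.ofNat 0, Int.negSucc 1, Int.ofNat 0, Int.ofNat 2, Int.negSucc 1, Int.ofNat 0, Int.ofNat 2, Int.ofNat 0, Int.ofNat 0, Int.ofNat 0, Int.negSucc 1, Int.negSucc 1, Int.ofNat 0, Int.ofNat 0, Int.negSucc 1, Int.ofNat 0, Int.ofNat 0],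
  [Int.negSucc 0, Int.ofNat 1, Int.negSucc 0, Int.ofNat 1, Int.negSucc 0, Int.ofNat 1, Int.ofNat 1, Int.ofNat 1, Int.ofNat 1, Int.negSucc 0, Int.ofNat 1, Int.ofNat 1, Int.ofNat 3, Int.ofNat 1, Int.ofNat 1, Int.negSucc 0, Int.negSucc 0, Int.negSucc 0, Int.ofNat 1, Int.ofNat 1, Int.negSucc 0, Int.negSucc 0, Int.negSucc 0, Int.negSucc 0],
  [Int.negSucc 0, Int.ofNat 1, Int.ofNat 1, Int.ofNat 1, Int.negSucc 0, Int.negSucc 0, Int.ofNat 1, Int.ofNat 1, Int.negSucc 0, Int.ofNat 3, Int.ofNat 1, Int.ofNat 1, Int.ofNat 1, Int.negSucc 0, Int.negSucc 0, Int.negSucc 0, Int.ofNat 1, Int.ofNat 1, Int.negSucc 0, Int.negSucc 0, Int.ofNat 1, Int.negSucc 0, Int.ofNat 1, Int.negSucc 0],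
  [Int.ofNat 1, Int.negSucc 0, Int.negSucc 0, Int.ofNat 1, Int.negSucc 0, Int.negSucc 0, Int.ofNat 1, Int.ofNat 1, Int.negSucc 0, Int.ofNat 1, Int.negSucc 0, Int.ofNat 1, Int.ofNat 1, Int.negSucc 0, Int.negSucc 0, Int.negSucc 2, Int.ofNat 1, Int.ofNat 1, Int.negSucc 0, Int.negSucc 0, Int.negSucc 0, Int.negSucc 0, Int.ofNat 1, Int.ofNat 1],
  [Int.negSucc 0, Int.negSucc 0, Int.ofNat 1, Int.ofNat 1, Int.negSucc 0, Int.negSucc 0, Int.ofNat 1, Int.negSucc 0, Int.negSucc 0, Int.ofNat 1, Int.ofNat 1, Int.negSucc 0, Int.ofNat 1, Int.negSucc 0, Int.ofNat 1, Int.ofNat 1, Int.negSucc 0, Int.negSucc 0, Int.negSucc 2, Int.ofNat 1, Int.ofNat 1, Int.negSucc 0, Int.negSucc 0, Int.ofNat 1],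
  [Int.ofNat 1, Int.ofNat 1, Int.negSucc 0, Int.ofNat 1, Int.ofNat 1, Int.negSucc 0, Int.ofNat 1, Int.negSucc 0, Int.ofNat 1, Int.negSucc 0, Int.negSucc 0, Int.ofNat 1, Int.ofNat 3, Int.ofNat 1, Int.ofNat 1, Int.negSucc 0, Int.ofNat 1, Int.negSucc 0, Int.negSucc 0, Int.ofNat 1, Int.negSucc 0, Int.negSucc 0, Int.ofNat 1, Int.negSucc 0],
  [Int.ofNat 1, Int.negSucc 0, Int.ofNat 1, Int.ofNat 1, Int.negSucc 0, Int.ofNat 1, Int.negSucc 0, Int.ofNat 1, Int.negSucc 0, Int.negSucc 0, Int.ofNat 1, Int.ofNat 3, Int.ofNat 1, Int.ofNat 1, Int.negSucc 0, Int.ofNat 1, Int.negSucc 0, Int.negSucc 0, Int.ofNat 1, Int.negSucc 0, Int.negSucc 0, Int.ofNat 1, Int.ofNat 1, Int.negSucc 0],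
  [Int.negSucc 0, Int.negSucc 0, Int.negSucc 0, Int.ofNat 1, Int.negSucc 0, Int.ofNat 1, Int.negSucc 0, Int.negSucc 0, Int.negSucc 0, Int.ofNat 1, Int.negSucc 0, Int.negSucc 2, Int.ofNat 1, Int.ofNat 1, Int.negSucc 0, Int.ofNat 1, Int.negSucc 0, Int.negSucc 0, Int.negSucc 0, Int.negSucc 0, Int.negSucc 0, Int.negSucc 0, Int.ofNat 1, Int.negSucc 0],
  [Int.negSucc 0, Int.negSucc 0, Int.negSucc 0, Int.ofNat 1, Int.negSucc 0, Int.negSucc 0, Int.negSucc 0, Int.negSucc 0, Int.ofNat 1, Int.negSucc 0, Int.negSucc 0, Int.negSucc 0, Int.ofNat 1, Int.negSucc 0, Int.negSucc 0, Int.ofNat 1, Int.ofNat 1, Int.ofNat 1, Int.negSucc 0, Int.negSucc 0, Int.ofNat 1, Int.negSucc 0, Int.negSucc 2, Int.negSucc 0],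
  [Int.ofNat 1, Int.negSucc 0, Int.ofNat 1, Int.ofNat 1, Int.negSucc 0, Int.negSucc 0, Int.negSucc 0, Int.ofNat 1, Int.ofNat 1, Int.ofNat 1, Int.ofNat 1, Int.ofNat 1, Int.ofNat 1, Int.negSucc 0, Int.negSucc 0, Int.ofNat 1, Int.ofNat 1, Int.ofNat 1, Int.ofNat 1, Int.negSucc 0, Int.ofNat 1, Int.ofNat 1, Int.negSucc 2, Int.negSucc 0],
  [Int.negSucc 2, Int.ofNat 1, Int.negSucc 0, Int.ofNat 1, Int.ofNat 1, Int.negSucc 0, Int.negSucc 0, Int.negSucc 0, Int.ofNat 1, Int.ofNat 1, Int.ofNat 1, Int.ofNat 1, Int.ofNat 1, Int.ofNat 1, Int.negSucc 0, Int.negSucc 0, Int.ofNat 1, Int.ofNat 1, Int.ofNat 1, Int.ofNat 1, Int.negSucc 0, Int.ofNat 1, Int.ofNat 1, Int.negSucc 0],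
  [Int.ofNat 1, Int.negSucc 2, Int.negSucc 0, Int.ofNat 1, Int.negSucc 0, Int.negSucc 0, Int.negSucc 0, Int.negSucc 0, Int.negSucc 0, Int.ofNat 1, Int.ofNat 1, Int.negSucc 0, Int.negSucc 0, Int.negSucc 0, Int.negSucc 0, Int.negSucc 0, Int.negSucc 0, Int.ofNat 1, Int.negSucc 0, Int.ofNat 1, Int.negSucc 0, Int.ofNat 1, Int.negSucc 0, Int.negSucc 0],
  [Int.ofNat 1, Int.negSucc 0, Int.negSucc 0, Int.negSucc 0, Int.negSucc 0, Int.negSucc 0, Int.ofNat 1, Int.ofNat 1, Int.negSucc 0, Int.negSucc 0, Int.negSucc 0, Int.negSucc 0, Int.negSucc 0, Int.negSucc 0, Int.ofNat 1, Int.negSucc 0, Int.ofNat 1, Int.negSucc 0, Int.ofNat 1, Int.negSucc 0, Int.ofNat 1, Int.negSucc 2, Int.negSucc 0, Int.negSucc 0],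
  [Int.negSucc 1, Int.ofNat 0, Int.ofNat 0, Int.ofNat 0, Int.ofNat 0, Int.ofNat 0, Int.ofNat 2, Int.ofNat 2, Int.ofNat 0, Int.ofNat 0, Int.ofNat 0, Int.ofNat 0, Int.ofNat 0, Int.ofNat 0, Int.ofNat 2, Int.ofNat 0, Int.ofNat 2, Int.ofNat 0, Int.ofNat 2, Int.ofNat 0, Int.ofNat 2, Int.negSucc 1, Int.ofNat 0, Int.ofNat 0],
  [Int.negSucc 1, Int.ofNat 2, Int.ofNat 0, Int.ofNat 0, Int.ofNat 2, Int.ofNat 2, Int.ofNat 0, Int.ofNat 0, Int.ofNat 0, Int.ofNat 0, Int.ofNat 2, Int.ofNat 0, Int.ofNat 0, Int.ofNat 2, Int.ofNat 0, Int.ofNat 0, Int.ofNat 0, Int.ofNat 2, Int.ofNat 0, Int.ofNat 0, Int.negSucc 1, Int.ofNat 0, Int.ofNat 0, Int.ofNat 0],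
  [Int.ofNat 2, Int.negSucc 1, Int.ofNat 0, Int.negSucc 1, Int.ofNat 0, Int.ofNat 0, Int.ofNat 0, Int.ofNat 0, Int.ofNat 0, Int.ofNat 0, Int.ofNat 2, Int.ofNat 0, Int.ofNat 0, Int.ofNat 0, Int.negSucc 1, Int.ofNat 0, Int.negSucc 1, Int.ofNat 0, Int.ofNat 0, Int.ofNat 0, Int.negSucc 1, Int.ofNat 0, Int.negSucc 1, Int.ofNat 0],
  [Int.ofNat 2, Int.negSucc 1, Int.ofNat 0, Int.negSucc 1, Int.ofNat 0, Int.ofNat 0, Int.ofNat 0, Int.ofNat 0, Int.ofNat 0, Int.ofNat 0, Int.negSucc 1, Int.ofNat 0, Int.ofNat 0, Int.ofNat 0, Int.negSucc 1, Int.ofNat 0, Int.negSucc 1, Int.ofNat 0, Int.ofNat 0, Int.ofNat 0, Int.negSucc 1, Int.ofNat 0, Int.ofNat 2, Int.ofNat 0],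
  [Int.negSucc 1, Int.negSucc 1, Int.ofNat 0, Int.ofNat 0, Int.negSucc 1, Int.ofNat 0, Int.ofNat 0, Int.negSucc 1, Int.ofNat 0, Int.negSucc 1, Int.ofNat 0, Int.ofNat 0, Int.ofNat 0, Int.ofNat 0, Int.ofNat 0, Int.ofNat 0, Int.ofNat 0, Int.ofNat 0, Int.ofNat 0, Int.ofNat 0, Int.ofNat 2, Int.negSucc 1, Int.ofNat 2, Int.ofNat 0],
  [Int.ofNat 2, Int.ofNat 2, Int.ofNat 0, Int.ofNat 0, Int.ofNat 2, Int.ofNat 0, Int.ofNat 0, Int.negSucc 1, Int.ofNat 0, Int.ofNat 2, Int.ofNat 0, Int.ofNat 0, Int.ofNat 0, Int.ofNat 0, Int.ofNat 0, Int.ofNat 0, Int.ofNat 0, Int.ofNat 0, Int.ofNat 0, Int.ofNat 0, Int.ofNat 2, Int.negSucc 1, Int.ofNat 2, Int.ofNat 0],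
  [Int.ofNat 0, Int.ofNat 2, Int.ofNat 0, Int.ofNat 0, Int.ofNat 0, Int.ofNat 2, Int.ofNat 0, Int.ofNat 0, Int.ofNat 2, Int.ofNat 0, Int.ofNat 0, Int.ofNat 0, Int.negSucc 1, Int.negSucc 1, Int.ofNat 0, Int.ofNat 0, Int.ofNat 0, Int.ofNat 2, Int.ofNat 0, Int.ofNat 0, Int.ofNat 0, Int.ofNat 0, Int.ofNat 2, Int.ofNat 2],
  [Int.ofNat 0, Int.ofNat 2, Int.ofNat 0, Int.ofNat 0, Int.ofNat 0, Int.ofNat 2, Int.ofNat 0, Int.ofNat 0, Int.ofNat 2, Int.ofNat 0, Int.ofNat 0, Int.ofNat 0, Int.negSucc 1, Int.negSucc 1, Int.ofNat 0, Int.ofNat 0, Int.ofNat 0, Int.ofNat 2, Int.ofNat 0, Int.ofNat 0, Int.ofNat 0, Int.ofNat 0, Int.ofNat 2, Int.ofNat 2],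
  [Int.ofNat 2, Int.ofNat 0, Int.ofNat 2, Int.ofNat 0, Int.ofNat 0, Int.ofNat 0, Int.ofNat 2, Int.ofNat 0, Int.ofNat 0, Int.ofNat 2, Int.ofNat 0, Int.ofNat 0, Int.ofNat 0, Int.negSucc 1, Int.negSucc 1, Int.ofNat 0, Int.ofNat 0, Int.ofNat 0, Int.ofNat 2, Int.ofNat 0, Int.ofNat 0, Int.ofNat 0, Int.ofNat 0, Int.ofNat 2],
  [Int.ofNat 1, Int.ofNat 3, Int.ofNat 1, Int.ofNat 1, Int.ofNat 1, Int.ofNat 1, Int.ofNat 1, Int.negSucc 0, Int.negSucc 0, Int.ofNat 1, Int.negSucc 0, Int.negSucc 0, Int.negSucc 0, Int.negSucc 0, Int.negSucc 0, Int.negSucc 0, Int.ofNat 1, Int.ofNat 1, Int.ofNat 1, Int.negSucc 0, Int.negSucc 0, Int.negSucc 0, Int.ofNat 1, Int.ofNat 1],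
  [Int.ofNat 1, Int.ofNat 1, Int.ofNat 1, Int.ofNat 1, Int.negSucc 0, Int.negSucc 0, Int.ofNat 1, Int.negSucc 0, Int.negSucc 0, Int.negSucc 0, Int.negSucc 0, Int.negSucc 0, Int.negSucc 0, Int.ofNat 1, Int.ofNat 1, Int.ofNat 1, Int.negSucc 0, Int.negSucc 0, Int.negSucc 0, Int.ofNat 1, Int.ofNat 1, Int.ofNat 3, Int.ofNat 1, Int.ofNat 1],
  [Int.ofNat 1, Int.ofNat 1, Int.ofNat 1, Int.ofNat 1, Int.negSucc 0, Int.negSucc 0, Int.negSucc 0, Int.negSucc 2, Int.ofNat 1, Int.negSucc 0, Int.negSucc 0, Int.ofNat 1, Int.ofNat 1, Int.ofNat 1, Int.ofNat 1, Int.ofNat 1, Int.negSucc 0, Int.negSucc 0, Int.ofNat 1, Int.negSucc 0, Int.ofNat 1, Int.ofNat 1, Int.ofNat 1, Int.ofNat 1],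
  [Int.ofNat 1, Int.negSucc 0, Int.negSucc 0, Int.ofNat 1, Int.ofNat 1, Int.negSucc 2, Int.ofNat 1, Int.negSucc 0, Int.ofNat 1, Int.ofNat 1, Int.ofNat 1, Int.negSucc 0, Int.negSucc 0, Int.negSucc 0, Int.ofNat 1, Int.ofNat 1, Int.ofNat 1, Int.ofNat 1, Int.ofNat 1, Int.ofNat 1, Int.ofNat 1, Int.negSucc 0, Int.negSucc 0, Int.ofNat 1],
  [Int.negSucc 0, Int.ofNat 1, Int.ofNat 1, Int.ofNat 1, Int.ofNat 1, Int.negSucc 2, Int.ofNat 1, Int.negSucc 0, Int.ofNat 1, Int.negSucc 0, Int.negSucc 0, Int.negSucc 0, Int.negSucc 0, Int.negSucc 0, Int.ofNat 1, Int.negSucc 0, Int.ofNat 1, Int.ofNat 1, Int.ofNat 1, Int.ofNat 1, Int.negSucc 0, Int.negSucc 0, Int.negSucc 0, Int.negSucc 0],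
  [Int.negSucc 0, Int.ofNat 1, Int.negSucc 0, Int.ofNat 1, Int.ofNat 1, Int.ofNat 3, Int.negSucc 0, Int.negSucc 0, Int.ofNat 1, Int.ofNat 1, Int.ofNat 1, Int.negSucc 0, Int.negSucc 0, Int.negSucc 0, Int.ofNat 1, Int.ofNat 1, Int.ofNat 1, Int.ofNat 1, Int.negSucc 0, Int.ofNat 1, Int.negSucc 0, Int.negSucc 0, Int.ofNat 1, Int.negSucc 0],
  [Int.negSucc 0, Int.ofNat 1, Int.ofNat 1, Int.ofNat 1, Int.negSucc 0, Int.negSucc 0, Int.negSucc 0, Int.ofNat 3, Int.ofNat 1, Int.negSucc 0, Int.negSucc 0, Int.ofNat 1, Int.ofNat 1, Int.ofNat 1, Int.ofNat 1, Int.negSucc 0, Int.ofNat 1, Int.negSucc 0, Int.ofNat 1, Int.ofNat 1, Int.negSucc 0, Int.ofNat 1, Int.negSucc 0, Int.negSucc 0],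
  [Int.negSucc 0, Int.ofNat 1, Int.negSucc 0, Int.ofNat 1, Int.negSucc 0, Int.ofNat 1, Int.ofNat 1, Int.ofNat 3, Int.ofNat 1, Int.ofNat 1, Int.ofNat 1, Int.ofNat 1, Int.ofNat 1, Int.ofNat 1, Int.ofNat 1, Int.ofNat 1, Int.ofNat 1, Int.negSucc 0, Int.negSucc 0, Int.ofNat 1, Int.negSucc 0, Int.ofNat 1, Int.ofNat 1, Int.negSucc 0],
  [Int.ofNat 0, Int.negSucc 1, Int.ofNat 0, Int.ofNat 0, Int.negSucc 1, Int.ofNat 0, Int.negSucc 1, Int.ofNat 0, Int.ofNat 0, Int.ofNat 0, Int.ofNat 0, Int.ofNat 0, Int.ofNat 0, Int.ofNat 0, Int.ofNat 0, Int.ofNat 0, Int.ofNat 0, Int.negSucc 1, Int.negSucc 1, Int.negSucc 1, Int.negSucc 1, Int.negSucc 1, Int.ofNat 0, Int.ofNat 0],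
  [Int.ofNat 0, Int.negSucc 1, Int.negSucc 1, Int.ofNat 0, Int.ofNat 0, Int.negSucc 1, Int.negSucc 1, Int.ofNat 0, Int.ofNat 0, Int.ofNat 0, Int.ofNat 0, Int.negSucc 1, Int.ofNat 0, Int.ofNat 0, Int.negSucc 1, Int.ofNat 0, Int.ofNat 0, Int.ofNat 0, Int.negSucc 1, Int.ofNat 0, Int.ofNat 0, Int.negSucc 1, Int.ofNat 0, Int.ofNat 0],
  [Int.negSucc 1, Int.ofNat 0, Int.ofNat 0, Int.ofNat 2, Int.ofNat 0, Int.ofNat 0, Int.ofNat 0, Int.ofNat 2, Int.ofNat 2, Int.ofNat 0, Int.ofNat 0, Int.ofNat 0, Int.ofNat 2, Int.ofNat 0, Int.ofNat 0, Int.ofNat 0, Int.ofNat 0, Int.ofNat 2, Int.ofNat 0, Int.ofNat 2, Int.ofNat 0, Int.ofNat 0, Int.ofNat 0, Int.negSucc 1],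
  [Int.ofNat 0, Int.ofNat 0, Int.ofNat 0, Int.negSucc 1, Int.ofNat 0, Int.ofNat 0, Int.ofNat 2, Int.ofNat 0, Int.ofNat 0, Int.ofNat 0, Int.ofNat 2, Int.ofNat 2, Int.ofNat 0, Int.ofNat 0, Int.ofNat 0, Int.ofNat 2, Int.ofNat 0, Int.ofNat 0, Int.ofNat 0, Int.ofNat 0, Int.ofNat 2, Int.ofNat 0, Int.ofNat 2, Int.negSucc 1],
  [Int.negSucc 0, Int.negSucc 0, Int.negSucc 0, Int.negSucc 0, Int.negSucc 0, Int.ofNat 1, Int.ofNat 1, Int.negSucc 0, Int.negSucc 0, Int.negSucc 2, Int.negSucc 0, Int.ofNat 1, Int.negSucc 0, Int.negSucc 0, Int.ofNat 1, Int.negSucc 0, Int.negSucc 0, Int.ofNat 1, Int.negSucc 0, Int.negSucc 0, Int.negSucc 0, Int.negSucc 0, Int.ofNat 1, Int.ofNat 1],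
  [Int.negSucc 0, Int.negSucc 0, Int.negSucc 0, Int.negSucc 0, Int.ofNat 1, Int.ofNat 1, Int.negSucc 0, Int.negSucc 0, Int.negSucc 2, Int.negSucc 0, Int.ofNat 1, Int.negSucc 0, Int.negSucc 0, Int.ofNat 1, Int.negSucc 0, Int.negSucc 0, Int.ofNat 1, Int.negSucc 0, Int.negSucc 0, Int.negSucc 0, Int.negSucc 0, Int.ofNat 1, Int.negSucc 0, Int.ofNat 1],
  [Int.ofNat 1, Int.negSucc 0, Int.ofNat 1, Int.negSucc 0, Int.ofNat 1, Int.ofNat 1, Int.negSucc 0, Int.ofNat 1, Int.negSucc 2, Int.ofNat 1, Int.negSucc 0, Int.ofNat 1, Int.negSucc 0, Int.ofNat 1, Int.negSucc 0, Int.negSucc 0, Int.ofNat 1, Int.negSucc 0, Int.ofNat 1, Int.negSucc 0, Int.negSucc 0, Int.negSucc 0, Int.negSucc 0, Int.ofNat 1],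
  [Int.ofNat 1, Int.ofNat 1, Int.ofNat 1, Int.negSucc 0, Int.negSucc 0, Int.negSucc 0, Int.ofNat 1, Int.negSucc 0, Int.ofNat 1, Int.ofNat 1, Int.negSucc 0, Int.negSucc 0, Int.ofNat 1, Int.negSucc 2, Int.negSucc 0, Int.negSucc 0, Int.negSucc 0, Int.negSucc 0, Int.negSucc 0, Int.negSucc 0, Int.ofNat 1, Int.ofNat 1, Int.ofNat 1, Int.ofNat 1],
  [Int.negSucc 0, Int.ofNat 1, Int.negSucc 0, Int.negSucc 0, Int.negSucc 0, Int.negSucc 0, Int.ofNat 1, Int.ofNat 1, Int.ofNat 1, Int.negSucc 0, Int.ofNat 1, Int.ofNat 1, Int.ofNat 1, Int.negSucc 2, Int.negSucc 0, Int.negSucc 0, Int.negSucc 0, Int.negSucc 0, Int.ofNat 1, Int.negSucc 0, Int.ofNat 1, Int.negSucc 0, Int.ofNat 1, Int.ofNat 1],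
  [Int.ofNat 1, Int.negSucc 0, Int.ofNat 1, Int.negSucc 0, Int.negSucc 0, Int.negSucc 0, Int.negSucc 0, Int.ofNat 1, Int.ofNat 1, Int.ofNat 1, Int.negSucc 0, Int.ofNat 1, Int.ofNat 1, Int.ofNat 1, Int.negSucc 2, Int.negSucc 0, Int.negSucc 0, Int.negSucc 0, Int.negSucc 0, Int.ofNat 1, Int.negSucc 0, Int.ofNat 1, Int.negSucc 0, Int.ofNat 1],
  [Int.ofNat 0, Int.ofNat 2, Int.ofNat 0, Int.ofNat 2, Int.ofNat 0, Int.ofNat 2, Int.negSucc 1, Int.ofNat 0, Int.ofNat 0, Int.ofNat 2, Int.ofNat 0, Int.ofNat 0, Int.ofNat 0, Int.ofNat 2, Int.ofNat 0, Int.ofNat 0, Int.ofNat 0, Int.ofNat 2, Int.negSucc 1, Int.ofNat 0, Int.ofNat 0, Int.ofNat 0, Int.ofNat 0, Int.ofNat 0],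
  [Int.ofNat 2, Int.ofNat 0, Int.ofNat 2, Int.negSucc 1, Int.ofNat 0, Int.ofNat 0, Int.ofNat 2, Int.ofNat 0, Int.ofNat 0, Int.ofNat 0, Int.ofNat 2, Int.ofNat 0, Int.ofNat 0, Int.ofNat 0, Int.ofNat 2, Int.negSucc 1, Int.ofNat 0, Int.ofNat 0, Int.ofNat 0, Int.ofNat 0, Int.ofNat 0, Int.ofNat 2, Int.ofNat 0, Int.ofNat 0],
  [Int.ofNat 0, Int.ofNat 2, Int.ofNat 0, Int.negSucc 1, Int.ofNat 0, Int.ofNat 0, Int.ofNat 0, Int.negSucc 1, Int.ofNat 0, Int.ofNat 0, Int.ofNat 2, Int.ofNat 0, Int.ofNat 0, Int.ofNat 0, Int.ofNat 2, Int.negSucc 1, Int.ofNat 0, Int.ofNat 0, Int.ofNat 0, Int.negSucc 1, Int.ofNat 0, Int.ofNat 0, Int.ofNat 0, Int.ofNat 2],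
  [Int.ofNat 0, Int.ofNat 0, Int.ofNat 0, Int.negSucc 1, Int.ofNat 0, Int.negSucc 1, Int.ofNat 0, Int.ofNat 2, Int.ofNat 0, Int.ofNat 0, Int.ofNat 0, Int.ofNat 0, Int.ofNat 0, Int.ofNat 0, Int.ofNat 0, Int.negSucc 1, Int.ofNat 0, Int.ofNat 2, Int.ofNat 2, Int.ofNat 0, Int.ofNat 0, Int.ofNat 0, Int.negSucc 1, Int.ofNat 2],
  [Int.ofNat 1, Int.ofNat 1, Int.ofNat 1, Int.negSucc 0, Int.ofNat 1, Int.negSucc 0, Int.negSucc 0, Int.ofNat 1, Int.negSucc 0, Int.ofNat 1, Int.ofNat 1, Int.negSucc 0, Int.negSucc 0, Int.ofNat 1, Int.ofNat 1, Int.negSucc 0, Int.ofNat 1, Int.ofNat 3, Int.ofNat 1, Int.negSucc 0, Int.ofNat 1, Int.negSucc 0, Int.negSucc 0, Int.negSucc 0],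
  [Int.ofNat 1, Int.ofNat 1, Int.negSucc 0, Int.negSucc 0, Int.ofNat 1, Int.ofNat 1, Int.ofNat 1, Int.ofNat 1, Int.negSucc 0, Int.negSucc 0, Int.negSucc 0, Int.negSucc 0, Int.negSucc 0, Int.ofNat 1, Int.ofNat 1, Int.ofNat 1, Int.ofNat 1, Int.ofNat 3, Int.negSucc 0, Int.negSucc 0, Int.ofNat 1, Int.negSucc 0, Int.ofNat 1, Int.negSucc 0],
  [Int.negSucc 0, Int.ofNat 1, Int.negSucc 0, Int.negSucc 0, Int.ofNat 1, Int.ofNat 1, Int.negSucc 0, Int.negSucc 0, Int.ofNat 1, Int.ofNat 1, Int.ofNat 1, Int.ofNat 1, Int.ofNat 1, Int.ofNat 1, Int.ofNat 3, Int.negSucc 0, Int.negSucc 0, Int.negSucc 0, Int.negSucc 0, Int.negSucc 0, Int.ofNat 1, Int.ofNat 1, Int.ofNat 1, Int.negSucc 0],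
  [Int.ofNat 1, Int.negSucc 0, Int.ofNat 1, Int.ofNat 1, Int.negSucc 0, Int.ofNat 1, Int.ofNat 1, Int.negSucc 0, Int.negSucc 0, Int.negSucc 0, Int.ofNat 1, Int.ofNat 1, Int.negSucc 0, Int.negSucc 0, Int.ofNat 3, Int.negSucc 0, Int.ofNat 1, Int.negSucc 0, Int.ofNat 1, Int.negSucc 0, Int.ofNat 1, Int.ofNat 1, Int.ofNat 1, Int.negSucc 0],
  [Int.negSucc 0, Int.ofNat 1, Int.ofNat 1, Int.negSucc 0, Int.negSucc 0, Int.negSucc 0, Int.negSucc 0, Int.negSucc 0, Int.ofNat 1, Int.ofNat 1, Int.ofNat 1, Int.ofNat 1, Int.ofNat 1, Int.negSucc 0, Int.ofNat 1, Int.ofNat 1, Int.ofNat 1, Int.negSucc 0, Int.ofNat 3, Int.ofNat 1, Int.negSucc 0, Int.negSucc 0, Int.negSucc 0, Int.ofNat 1],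
  [Int.ofNat 1, Int.ofNat 1, Int.negSucc 0, Int.negSucc 0, Int.negSucc 0, Int.negSucc 0, Int.negSucc 0, Int.ofNat 1, Int.ofNat 1, Int.negSucc 0, Int.negSucc 0, Int.negSucc 0, Int.ofNat 1, Int.negSucc 0, Int.ofNat 1, Int.ofNat 1, Int.ofNat 1, Int.negSucc 0, Int.negSucc 2, Int.ofNat 1, Int.negSucc 0, Int.ofNat 1, Int.negSucc 0, Int.ofNat 1],
  [Int.negSucc 0, Int.ofNat 1, Int.ofNat 1, Int.negSucc 0, Int.negSucc 0, Int.negSucc 0, Int.negSucc 0, Int.negSucc 0, Int.ofNat 1, Int.ofNat 1, Int.negSucc 0, Int.negSucc 0, Int.negSucc 0, Int.ofNat 1, Int.negSucc 0, Int.ofNat 1, Int.ofNat 1, Int.ofNat 1, Int.negSucc 0, Int.negSucc 2, Int.ofNat 1, Int.negSucc 0, Int.ofNat 1, Int.ofNat 1],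
  [Int.ofNat 2, Int.ofNat 0, Int.ofNat 0, Int.ofNat 0, Int.negSucc 1, Int.ofNat 0, Int.ofNat 2, Int.ofNat 2, Int.ofNat 2, Int.ofNat 0, Int.negSucc 1, Int.ofNat 0, Int.ofNat 0, Int.ofNat 0, Int.ofNat 0, Int.ofNat 0, Int.ofNat 0, Int.ofNat 2, Int.ofNat 0, Int.ofNat 0, Int.ofNat 0, Int.ofNat 2, Int.ofNat 0, Int.ofNat 0],
  [Int.ofNat 0, Int.negSucc 1, Int.ofNat 0, Int.ofNat 2, Int.ofNat 2, Int.ofNat 2, Int.ofNat 0, Int.negSucc 1, Int.ofNat 0, Int.ofNat 0, Int.ofNat 0, Int.ofNat 0, Int.ofNat 0, Int.ofNat 0, Int.ofNat 2, Int.ofNat 0, Int.ofNat 0, Int.ofNat 0, Int.ofNat 2, Int.ofNat 0, Int.ofNat 2, Int.ofNat 0, Int.ofNat 0, Int.ofNat 0],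
  [Int.negSucc 0, Int.ofNat 1, Int.negSucc 0, Int.negSucc 0, Int.ofNat 1, Int.negSucc 0, Int.ofNat 1, Int.negSucc 0, Int.negSucc 0, Int.negSucc 0, Int.negSucc 0, Int.negSucc 0, Int.negSucc 0, Int.negSucc 0, Int.negSucc 0, Int.negSucc 0, Int.negSucc 0, Int.negSucc 2, Int.ofNat 1, Int.ofNat 1, Int.ofNat 1, Int.ofNat 1, Int.negSucc 0, Int.negSucc 0],
  [Int.negSucc 0, Int.ofNat 1, Int.ofNat 1, Int.negSucc 0, Int.ofNat 1, Int.negSucc 0, Int.negSucc 0, Int.negSucc 0, Int.negSucc 0, Int.negSucc 0, Int.ofNat 1, Int.negSucc 2, Int.negSucc 0, Int.negSucc 0, Int.negSucc 0, Int.negSucc 0, Int.negSucc 0, Int.negSucc 0, Int.ofNat 1, Int.negSucc 0, Int.ofNat 1, Int.negSucc 0, Int.ofNat 1, Int.negSucc 0],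
  [Int.ofNat 1, Int.negSucc 0, Int.negSucc 0, Int.ofNat 1, Int.ofNat 1, Int.ofNat 1, Int.ofNat 1, Int.ofNat 1, Int.ofNat 1, Int.negSucc 0, Int.ofNat 1, Int.negSucc 0, Int.ofNat 1, Int.negSucc 0, Int.ofNat 1, Int.negSucc 0, Int.negSucc 0, Int.ofNat 1, Int.ofNat 3, Int.ofNat 1, Int.ofNat 1, Int.ofNat 1, Int.ofNat 1, Int.ofNat 1],
  [Int.ofNat 1, Int.negSucc 0, Int.ofNat 1, Int.ofNat 1, Int.ofNat 1, Int.negSucc 0, Int.negSucc 0, Int.ofNat 1, Int.ofNat 1, Int.ofNat 1, Int.negSucc 0, Int.negSucc 0, Int.ofNat 1, Int.negSucc 0, Int.ofNat 1, Int.ofNat 1, Int.negSucc 0, Int.ofNat 1, Int.negSucc 2, Int.ofNat 1, Int.ofNat 1, Int.ofNat 1, Int.negSucc 0, Int.ofNat 1],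
  [Int.ofNat 1, Int.ofNat 1, Int.ofNat 1, Int.ofNat 1, Int.negSucc 0, Int.negSucc 0, Int.negSucc 0, Int.negSucc 0, Int.negSucc 0, Int.negSucc 2, Int.ofNat 1, Int.negSucc 0, Int.ofNat 1, Int.ofNat 1, Int.negSucc 0, Int.ofNat 1, Int.negSucc 0, Int.ofNat 1, Int.ofNat 1, Int.ofNat 1, Int.ofNat 1, Int.ofNat 1, Int.ofNat 1, Int.ofNat 1],
  [Int.ofNat 1, Int.ofNat 1, Int.negSucc 0, Int.ofNat 1, Int.negSucc 0, Int.ofNat 1, Int.ofNat 1, Int.negSucc 0, Int.negSucc 0, Int.ofNat 3, Int.negSucc 0, Int.negSucc 0, Int.ofNat 1, Int.ofNat 1, Int.negSucc 0, Int.negSucc 0, Int.negSucc 0, Int.ofNat 1, Int.negSucc 0, Int.ofNat 1, Int.ofNat 1, Int.ofNat 1, Int.negSucc 0, Int.ofNat 1],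
  [Int.ofNat 0, Int.ofNat 0, Int.ofNat 2, Int.ofNat 0, Int.ofNat 0, Int.ofNat 0, Int.ofNat 0, Int.negSucc 1, Int.ofNat 0, Int.ofNat 2, Int.negSucc 1, Int.ofNat 0, Int.ofNat 2, Int.ofNat 2, Int.negSucc 1, Int.negSucc 1, Int.ofNat 0, Int.ofNat 0, Int.ofNat 0, Int.ofNat 0, Int.ofNat 0, Int.ofNat 0, Int.ofNat 0, Int.ofNat 0],
  [Int.ofNat 0, Int.ofNat 0, Int.ofNat 0, Int.ofNat 0, Int.ofNat 2, Int.ofNat 0, Int.ofNat 0, Int.ofNat 0, Int.ofNat 0, Int.ofNat 2, Int.negSucc 1, Int.ofNat 0, Int.ofNat 0, Int.ofNat 2, Int.ofNat 0, Int.negSucc 1, Int.ofNat 2, Int.ofNat 0, Int.ofNat 0, Int.ofNat 0, Int.negSucc 1, Int.ofNat 0, Int.negSucc 1, Int.ofNat 0],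
  [Int.ofNat 0, Int.ofNat 0, Int.ofNat 0, Int.ofNat 0, Int.ofNat 0, Int.ofNat 0, Int.ofNat 0, Int.ofNat 0, Int.ofNat 0, Int.ofNat 4, Int.ofNat 0, Int.ofNat 0, Int.ofNat 0, Int.ofNat 0, Int.ofNat 0, Int.ofNat 0, Int.ofNat 0, Int.ofNat 0, Int.ofNat 0, Int.ofNat 0, Int.ofNat 0, Int.ofNat 0, Int.negSucc 3, Int.ofNat 0],
  [Int.ofNat 0, Int.ofNat 0, Int.negSucc 3, Int.ofNat 0, Int.ofNat 0, Int.ofNat 0, Int.ofNat 0, Int.ofNat 0, Int.ofNat 0, Int.ofNat 0, Int.ofNat 0, Int.ofNat 0, Int.ofNat 4, Int.ofNat 0, Int.ofNat 0, Int.ofNat 0, Int.ofNat 0, Int.ofNat 0, Int.ofNat 0, Int.ofNat 0, Int.ofNat 0, Int.ofNat 0, Int.ofNat 0, Int.ofNat 0],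
  [Int.negSucc 1, Int.negSucc 1, Int.ofNat 2, Int.ofNat 0, Int.ofNat 0, Int.ofNat 0, Int.ofNat 0, Int.ofNat 0, Int.negSucc 1, Int.ofNat 0, Int.ofNat 0, Int.negSucc 1, Int.ofNat 2, Int.ofNat 0, Int.ofNat 0, Int.ofNat 0, Int.ofNat 0, Int.ofNat 0, Int.negSucc 1, Int.ofNat 0, Int.ofNat 0, Int.ofNat 0, Int.ofNat 0, Int.negSucc 1],
  [Int.negSucc 1, Int.ofNat 2, Int.ofNat 0, Int.ofNat 0, Int.ofNat 0, Int.ofNat 0, Int.ofNat 0, Int.negSucc 1, Int.ofNat 0, Int.ofNat 0, Int.negSucc 1, Int.ofNat 2, Int.ofNat 0, Int.ofNat 0, Int.ofNat 0, Int.ofNat 0, Int.ofNat 0, Int.negSucc 1, Int.ofNat 0, Int.ofNat 0, Int.ofNat 0, Int.ofNat 0, Int.negSucc 1, Int.negSucc 1],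
  [Int.ofNat 2, Int.ofNat 2, Int.ofNat 0, Int.ofNat 0, Int.ofNat 0, Int.ofNat 0, Int.ofNat 0, Int.ofNat 2, Int.ofNat 0, Int.ofNat 0, Int.ofNat 2, Int.negSucc 1, Int.ofNat 0, Int.ofNat 0, Int.ofNat 0, Int.ofNat 0, Int.ofNat 0, Int.negSucc 1, Int.ofNat 0, Int.ofNat 0, Int.ofNat 0, Int.ofNat 0, Int.negSucc 1, Int.negSucc 1],
  [Int.ofNat 2, Int.ofNat 0, Int.ofNat 0, Int.ofNat 0, Int.ofNat 2, Int.ofNat 2, Int.ofNat 0, Int.ofNat 0, Int.ofNat 0, Int.ofNat 0, Int.ofNat 0, Int.ofNat 0, Int.ofNat 0, Int.ofNat 0, Int.ofNat 0, Int.ofNat 0, Int.ofNat 0, Int.negSucc 1, Int.ofNat 0, Int.negSucc 1, Int.ofNat 0, Int.ofNat 2, Int.negSucc 1, Int.negSucc 1],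
  [Int.negSucc 1, Int.ofNat 0, Int.ofNat 0, Int.ofNat 0, Int.ofNat 2, Int.ofNat 2, Int.ofNat 0, Int.ofNat 0, Int.ofNat 0, Int.ofNat 0, Int.ofNat 0, Int.ofNat 0, Int.ofNat 0, Int.ofNat 0, Int.ofNat 0, Int.ofNat 0, Int.ofNat 0, Int.negSucc 1, Int.ofNat 0, Int.negSucc 1, Int.ofNat 0, Int.negSucc 1, Int.negSucc 1, Int.negSucc 1],
  [Int.negSucc 1, Int.negSucc 1, Int.ofNat 0, Int.ofNat 0, Int.ofNat 0, Int.ofNat 2, Int.ofNat 2, Int.ofNat 0, Int.ofNat 0, Int.ofNat 0, Int.ofNat 0, Int.ofNat 0, Int.ofNat 0, Int.ofNat 0, Int.ofNat 0, Int.ofNat 0, Int.ofNat 0, Int.ofNat 0, Int.negSucc 1, Int.ofNat 0, Int.negSucc 1, Int.ofNat 0, Int.negSucc 1, Int.negSucc 1],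
  [Int.negSucc 0, Int.negSucc 0, Int.negSucc 2, Int.negSucc 0, Int.ofNat 1, Int.ofNat 1, Int.ofNat 1, Int.negSucc 0, Int.ofNat 1, Int.ofNat 1, Int.ofNat 1, Int.ofNat 1, Int.ofNat 1, Int.ofNat 1, Int.negSucc 0, Int.ofNat 1, Int.ofNat 1, Int.negSucc 0, Int.negSucc 0, Int.negSucc 0, Int.negSucc 0, Int.negSucc 0, Int.negSucc 0, Int.negSucc 0],
  [Int.negSucc 0, Int.ofNat 1, Int.ofNat 1, Int.ofNat 1, Int.negSucc 0, Int.ofNat 1, Int.ofNat 1, Int.ofNat 1, Int.ofNat 1, Int.ofNat 1, Int.ofNat 1, Int.negSucc 0, Int.ofNat 1, Int.ofNat 1, Int.negSucc 0, Int.negSucc 0, Int.negSucc 0, Int.negSucc 0, Int.negSucc 0, Int.negSucc 0, Int.negSucc 0, Int.negSucc 0, Int.negSucc 2, Int.negSucc 0],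
  [Int.ofNat 1, Int.negSucc 0, Int.negSucc 0, Int.ofNat 1, Int.ofNat 1, Int.ofNat 1, Int.ofNat 1, Int.ofNat 1, Int.ofNat 1, Int.ofNat 1, Int.ofNat 1, Int.negSucc 0, Int.ofNat 1, Int.ofNat 3, Int.negSucc 0, Int.negSucc 0, Int.ofNat 1, Int.negSucc 0, Int.negSucc 0, Int.negSucc 0, Int.negSucc 0, Int.negSucc 0, Int.negSucc 0, Int.ofNat 1],
  [Int.ofNat 1, Int.ofNat 1, Int.ofNat 1, Int.ofNat 1, Int.negSucc 0, Int.ofNat 1, Int.negSucc 0, Int.ofNat 1, Int.ofNat 1, Int.ofNat 3, Int.negSucc 0, Int.negSucc 0, Int.ofNat 1, Int.ofNat 1, Int.negSucc 0, Int.negSucc 0, Int.ofNat 1, Int.negSucc 0, Int.negSucc 0, Int.negSucc 0, Int.negSucc 0, Int.ofNat 1, Int.negSucc 0, Int.ofNat 1],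
  [Int.ofNat 1, Int.ofNat 1, Int.ofNat 1, Int.ofNat 1, Int.negSucc 0, Int.ofNat 1, Int.negSucc 0, Int.ofNat 1, Int.ofNat 1, Int.ofNat 3, Int.negSucc 0, Int.negSucc 0, Int.ofNat 1, Int.ofNat 1, Int.negSucc 0, Int.negSucc 0, Int.ofNat 1, Int.negSucc 0, Int.negSucc 0, Int.negSucc 0, Int.negSucc 0, Int.ofNat 1, Int.negSucc 0, Int.ofNat 1],
  [Int.ofNat 1, Int.ofNat 1, Int.negSucc 0, Int.ofNat 1, Int.negSucc 0, Int.negSucc 0, Int.ofNat 1, Int.ofNat 1, Int.ofNat 1, Int.negSucc 2, Int.ofNat 1, Int.negSucc 0, Int.ofNat 1, Int.ofNat 1, Int.negSucc 0, Int.ofNat 1, Int.ofNat 1, Int.negSucc 0, Int.ofNat 1, Int.negSucc 0, Int.negSucc 0, Int.ofNat 1, Int.ofNat 1, Int.ofNat 1],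
  [Int.ofNat 1, Int.ofNat 1, Int.negSucc 0, Int.ofNat 1, Int.negSucc 0, Int.ofNat 1, Int.ofNat 1, Int.ofNat 1, Int.negSucc 0, Int.negSucc 0, Int.ofNat 1, Int.ofNat 1, Int.ofNat 1, Int.negSucc 0, Int.negSucc 0, Int.ofNat 1, Int.negSucc 0, Int.ofNat 1, Int.negSucc 2, Int.negSucc 0, Int.ofNat 1, Int.ofNat 1, Int.ofNat 1, Int.ofNat 1],
  [Int.negSucc 0, Int.negSucc 0, Int.ofNat 1, Int.negSucc 0, Int.ofNat 1, Int.ofNat 1, Int.negSucc 0, Int.ofNat 1, Int.ofNat 1, Int.ofNat 1, Int.ofNat 1, Int.ofNat 1, Int.negSucc 0, Int.ofNat 1, Int.negSucc 0, Int.ofNat 1, Int.ofNat 1, Int.ofNat 1, Int.ofNat 3, Int.negSucc 0, Int.ofNat 1, Int.ofNat 1, Int.ofNat 1, Int.ofNat 1],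
  [Int.ofNat 1, Int.ofNat 1, Int.ofNat 1, Int.ofNat 1, Int.ofNat 1, Int.ofNat 1, Int.negSucc 0, Int.ofNat 1, Int.ofNat 1, Int.ofNat 1, Int.ofNat 1, Int.ofNat 1, Int.ofNat 1, Int.ofNat 1, Int.ofNat 3, Int.negSucc 0, Int.ofNat 1, Int.ofNat 1, Int.negSucc 0, Int.negSucc 0, Int.ofNat 1, Int.negSucc 0, Int.negSucc 0, Int.negSucc 0],
  [Int.negSucc 0, Int.ofNat 1, Int.negSucc 0, Int.ofNat 1, Int.ofNat 1, Int.ofNat 1, Int.negSucc 0, Int.negSucc 0, Int.ofNat 1, Int.negSucc 0, Int.negSucc 0, Int.negSucc 0, Int.ofNat 1, Int.ofNat 1, Int.ofNat 3, Int.negSucc 0, Int.ofNat 1, Int.ofNat 1, Int.ofNat 1, Int.negSucc 0, Int.ofNat 1, Int.ofNat 1, Int.negSucc 0, Int.negSucc 0],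
  [Int.negSucc 0, Int.negSucc 0, Int.ofNat 1, Int.negSucc 0, Int.ofNat 1, Int.ofNat 1, Int.ofNat 1, Int.negSucc 0, Int.negSucc 0, Int.ofNat 1, Int.negSucc 0, Int.negSucc 0, Int.negSucc 0, Int.ofNat 1, Int.ofNat 1, Int.ofNat 3, Int.negSucc 0, Int.ofNat 1, Int.ofNat 1, Int.ofNat 1, Int.negSucc 0, Int.ofNat 1, Int.ofNat 1, Int.negSucc 0],
  [Int.ofNat 0, Int.ofNat 0, Int.negSucc 1, Int.negSucc 1, Int.ofNat 0, Int.ofNat 0, Int.ofNat 0, Int.negSucc 1, Int.ofNat 0, Int.ofNat 0, Int.negSucc 1, Int.ofNat 0, Int.ofNat 0, Int.ofNat 0, Int.ofNat 0, Int.ofNat 2, Int.negSucc 1, Int.ofNat 0, Int.ofNat 2, Int.ofNat 0, Int.negSucc 1, Int.ofNat 0, Int.ofNat 0, Int.ofNat 0],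
  [Int.negSucc 1, Int.ofNat 0, Int.ofNat 0, Int.ofNat 0, Int.negSucc 1, Int.ofNat 0, Int.ofNat 0, Int.negSucc 1, Int.ofNat 0, Int.ofNat 0, Int.ofNat 0, Int.ofNat 0, Int.ofNat 2, Int.negSucc 1, Int.ofNat 0, Int.ofNat 2, Int.ofNat 0, Int.negSucc 1, Int.ofNat 0, Int.ofNat 0, Int.ofNat 0, Int.ofNat 0, Int.negSucc 1, Int.ofNat 0],
  [Int.ofNat 1, Int.negSucc 0, Int.negSucc 0, Int.ofNat 1, Int.ofNat 1, Int.ofNat 1, Int.ofNat 1, Int.negSucc 0, Int.negSucc 0, Int.negSucc 0, Int.negSucc 0, Int.negSucc 0, Int.ofNat 1, Int.ofNat 1, Int.ofNat 1, Int.ofNat 1, Int.ofNat 3, Int.negSucc 0, Int.negSucc 0, Int.ofNat 1, Int.negSucc 0, Int.ofNat 1, Int.ofNat 1, Int.negSucc 0],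
  [Int.ofNat 1, Int.ofNat 1, Int.ofNat 1, Int.ofNat 1, Int.negSucc 0, Int.negSucc 0, Int.negSucc 0, Int.negSucc 0, Int.ofNat 1, Int.ofNat 1, Int.negSucc 0, Int.negSucc 0, Int.negSucc 0, Int.ofNat 3, Int.ofNat 1, Int.ofNat 1, Int.negSucc 0, Int.ofNat 1, Int.negSucc 0, Int.negSucc 0, Int.ofNat 1, Int.ofNat 1, Int.ofNat 1, Int.negSucc 0],
  [Int.ofNat 0, Int.ofNat 0, Int.ofNat 0, Int.ofNat 0, Int.negSucc 1, Int.negSucc 1, Int.ofNat 0, Int.ofNat 0, Int.ofNat 2, Int.ofNat 0, Int.negSucc 1, Int.ofNat 0, Int.ofNat 0, Int.ofNat 2, Int.ofNat 0, Int.ofNat 0, Int.negSucc 1, Int.ofNat 0, Int.ofNat 0, Int.ofNat 0, Int.ofNat 0, Int.ofNat 2, Int.ofNat 0, Int.ofNat 2],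
  [Int.ofNat 0, Int.ofNat 0, Int.ofNat 0, Int.ofNat 0, Int.negSucc 1, Int.ofNat 2, Int.ofNat 0, Int.ofNat 0, Int.ofNat 2, Int.ofNat 0, Int.ofNat 2, Int.ofNat 0, Int.ofNat 0, Int.ofNat 2, Int.ofNat 0, Int.ofNat 0, Int.negSucc 1, Int.ofNat 0, Int.ofNat 0, Int.ofNat 0, Int.ofNat 0, Int.ofNat 2, Int.ofNat 0, Int.ofNat 2],
  [Int.ofNat 0, Int.ofNat 0, Int.ofNat 0, Int.ofNat 0, Int.ofNat 2, Int.ofNat 0, Int.ofNat 0, Int.ofNat 2, Int.ofNat 2, Int.ofNat 0, Int.ofNat 0, Int.ofNat 0, Int.ofNat 0, Int.ofNat 0, Int.negSucc 1, Int.ofNat 0, Int.ofNat 0, Int.ofNat 0, Int.ofNat 0, Int.negSucc 1, Int.ofNat 2, Int.ofNat 2, Int.ofNat 0, Int.ofNat 2],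
  [Int.ofNat 0, Int.ofNat 0, Int.ofNat 0, Int.ofNat 0, Int.ofNat 2, Int.ofNat 0, Int.ofNat 0, Int.ofNat 2, Int.ofNat 2, Int.ofNat 0, Int.ofNat 0, Int.ofNat 0, Int.ofNat 0, Int.ofNat 0, Int.negSucc 1, Int.ofNat 0, Int.ofNat 0, Int.ofNat 0, Int.ofNat 0, Int.negSucc 1, Int.ofNat 2, Int.ofNat 2, Int.ofNat 0, Int.ofNat 2],
  [Int.ofNat 1, Int.ofNat 1, Int.ofNat 1, Int.ofNat 1, Int.ofNat 1, Int.ofNat 1, Int.negSucc 0, Int.ofNat 1, Int.ofNat 1, Int.negSucc 0, Int.negSucc 0, Int.negSucc 0, Int.negSucc 0, Int.negSucc 0, Int.negSucc 0, Int.negSucc 0, Int.negSucc 0, Int.ofNat 1, Int.negSucc 0, Int.negSucc 2, Int.ofNat 1, Int.ofNat 1, Int.negSucc 0, Int.negSucc 0],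
  [Int.ofNat 1, Int.negSucc 0, Int.negSucc 0, Int.ofNat 1, Int.ofNat 1, Int.ofNat 1, Int.ofNat 1, Int.ofNat 1, Int.negSucc 0, Int.negSucc 0, Int.ofNat 1, Int.negSucc 2, Int.ofNat 1, Int.negSucc 0, Int.ofNat 1, Int.negSucc 0, Int.negSucc 0, Int.negSucc 0, Int.ofNat 1, Int.negSucc 0, Int.negSucc 0, Int.ofNat 1, Int.negSucc 0, Int.negSucc 0],
  [Int.negSucc 1, Int.ofNat 0, Int.ofNat 0, Int.ofNat 0, Int.ofNat 2, Int.ofNat 0, Int.ofNat 0, Int.ofNat 0, Int.ofNat 0, Int.ofNat 0, Int.ofNat 2, Int.negSucc 1, Int.ofNat 2, Int.ofNat 0, Int.ofNat 0, Int.ofNat 0, Int.ofNat 0, Int.negSucc 1, Int.ofNat 2, Int.negSucc 1, Int.ofNat 0, Int.ofNat 0, Int.ofNat 0, Int.ofNat 0],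
  [Int.ofNat 0, Int.ofNat 0, Int.ofNat 0, Int.negSucc 1, Int.ofNat 0, Int.ofNat 0, Int.ofNat 0, Int.ofNat 2, Int.ofNat 0, Int.ofNat 0, Int.ofNat 0, Int.ofNat 0, Int.ofNat 0, Int.ofNat 2, Int.negSucc 1, Int.ofNat 2, Int.ofNat 0, Int.ofNat 0, Int.ofNat 0, Int.ofNat 0, Int.negSucc 1, Int.ofNat 2, Int.negSucc 1, Int.ofNat 0],
  [Int.ofNat 0, Int.ofNat 0, Int.ofNat 0, Int.ofNat 0, Int.ofNat 0, Int.ofNat 2, Int.negSucc 1, Int.ofNat 0, Int.ofNat 0, Int.ofNat 0, Int.ofNat 0, Int.ofNat 0, Int.ofNat 0, Int.ofNat 2, Int.ofNat 0, Int.ofNat 2, Int.ofNat 0, Int.ofNat 2, Int.ofNat 0, Int.negSucc 1, Int.negSucc 1, Int.ofNat 0, Int.negSucc 1, Int.ofNat 0],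
  [Int.ofNat 0, Int.ofNat 0, Int.ofNat 0, Int.ofNat 0, Int.ofNat 2, Int.negSucc 1, Int.ofNat 0, Int.ofNat 0, Int.ofNat 0, Int.ofNat 0, Int.ofNat 0, Int.ofNat 0, Int.ofNat 2, Int.ofNat 0, Int.ofNat 2, Int.ofNat 0, Int.ofNat 2, Int.ofNat 0, Int.negSucc 1, Int.negSucc 1, Int.ofNat 0, Int.negSucc 1, Int.ofNat 0, Int.ofNat 0],
  [Int.ofNat 0, Int.ofNat 0, Int.ofNat 0, Int.ofNat 0, Int.ofNat 2, Int.negSucc 1, Int.ofNat 0, Int.ofNat 0, Int.ofNat 0, Int.ofNat 0, Int.ofNat 0, Int.ofNat 0, Int.ofNat 2, Int.ofNat 0, Int.ofNat 2, Int.ofNat 0, Int.ofNat 2, Int.ofNat 0, Int.ofNat 2, Int.negSucc 1, Int.ofNat 0, Int.ofNat 2, Int.ofNat 0, Int.ofNat 0],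
  [Int.ofNat 0, Int.ofNat 0, Int.ofNat 2, Int.ofNat 0, Int.ofNat 0, Int.ofNat 0, Int.ofNat 2, Int.ofNat 0, Int.ofNat 0, Int.ofNat 2, Int.ofNat 2, Int.ofNat 2, Int.ofNat 0, Int.ofNat 0, Int.negSucc 1, Int.ofNat 0, Int.ofNat 2, Int.ofNat 0, Int.ofNat 0, Int.ofNat 0, Int.negSucc 1, Int.ofNat 0, Int.ofNat 0, Int.ofNat 0],
  [Int.ofNat 0, Int.ofNat 0, Int.negSucc 1, Int.ofNat 0, Int.ofNat 0, Int.ofNat 0, Int.ofNat 2, Int.ofNat 0, Int.ofNat 0, Int.negSucc 1, Int.negSucc 1, Int.negSucc 1, Int.ofNat 0, Int.ofNat 0, Int.negSucc 1, Int.ofNat 0, Int.ofNat 2, Int.ofNat 0, Int.ofNat 0, Int.ofNat 0, Int.negSucc 1, Int.ofNat 0, Int.ofNat 0, Int.ofNat 0],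
  [Int.ofNat 0, Int.ofNat 0, Int.ofNat 0, Int.negSucc 1, Int.ofNat 0, Int.ofNat 0, Int.ofNat 0, Int.ofNat 2, Int.ofNat 0, Int.ofNat 0, Int.negSucc 1, Int.negSucc 1, Int.negSucc 1, Int.ofNat 0, Int.ofNat 0, Int.negSucc 1, Int.ofNat 0, Int.ofNat 2, Int.ofNat 0, Int.ofNat 0, Int.ofNat 0, Int.negSucc 1, Int.ofNat 0, Int.ofNat 0],
  [Int.ofNat 0, Int.ofNat 0, Int.ofNat 0, Int.negSucc 1, Int.ofNat 0, Int.ofNat 0, Int.ofNat 0, Int.ofNat 2, Int.ofNat 2, Int.ofNat 2, Int.ofNat 0, Int.ofNat 0, Int.ofNat 0, Int.ofNat 0, Int.ofNat 0, Int.ofNat 0, Int.ofNat 0, Int.ofNat 2, Int.ofNat 2, Int.ofNat 0, Int.ofNat 2, Int.negSucc 1, Int.ofNat 0, Int.ofNat 0],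
  [Int.negSucc 1, Int.ofNat 0, Int.ofNat 0, Int.ofNat 0, Int.ofNat 2, Int.ofNat 2, Int.ofNat 2, Int.ofNat 0, Int.ofNat 0, Int.ofNat 0, Int.ofNat 0, Int.ofNat 0, Int.ofNat 0, Int.ofNat 0, Int.ofNat 2, Int.ofNat 2, Int.ofNat 0, Int.ofNat 2, Int.negSucc 1, Int.ofNat 0, Int.ofNat 0, Int.ofNat 0, Int.ofNat 0, Int.ofNat 0],
  [Int.ofNat 1, Int.negSucc 0, Int.negSucc 0, Int.negSucc 2, Int.ofNat 1, Int.negSucc 0, Int.ofNat 1, Int.negSucc 0, Int.ofNat 1, Int.negSucc 0, Int.negSucc 0, Int.ofNat 1, Int.ofNat 1, Int.negSucc 0, Int.negSucc 0, Int.ofNat 1, Int.negSucc 0, Int.negSucc 0, Int.negSucc 0, Int.negSucc 0, Int.negSucc 0, Int.negSucc 0, Int.negSucc 0, Int.negSucc 0],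
  [Int.ofNat 1, Int.ofNat 1, Int.ofNat 1, Int.negSucc 2, Int.negSucc 0, Int.negSucc 0, Int.negSucc 0, Int.negSucc 0, Int.ofNat 1, Int.negSucc 0, Int.negSucc 0, Int.negSucc 0, Int.negSucc 0, Int.negSucc 0, Int.negSucc 0, Int.ofNat 1, Int.ofNat 1, Int.negSucc 0, Int.negSucc 0, Int.ofNat 1, Int.negSucc 0, Int.negSucc 0, Int.negSucc 0, Int.negSucc 0],
  [Int.ofNat 0, Int.ofNat 0, Int.ofNat 0, Int.ofNat 0, Int.ofNat 0, Int.ofNat 2, Int.ofNat 0, Int.ofNat 0, Int.ofNat 2, Int.ofNat 0, Int.ofNat 0, Int.ofNat 0, Int.ofNat 0, Int.ofNat 0, Int.ofNat 2, Int.ofNat 2, Int.ofNat 2, Int.ofNat 2, Int.ofNat 0, Int.ofNat 2, Int.ofNat 0, Int.ofNat 0, Int.ofNat 0, Int.ofNat 2],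
  [Int.ofNat 0, Int.ofNat 0, Int.ofNat 0, Int.ofNat 0, Int.ofNat 0, Int.negSucc 1, Int.ofNat 0, Int.ofNat 0, Int.ofNat 2, Int.ofNat 0, Int.ofNat 0, Int.ofNat 0, Int.ofNat 0, Int.ofNat 0, Int.ofNat 2, Int.negSucc 1, Int.ofNat 2, Int.ofNat 2, Int.ofNat 0, Int.ofNat 2, Int.ofNat 0, Int.ofNat 0, Int.ofNat 0, Int.ofNat 2],
  [Int.ofNat 0, Int.ofNat 2, Int.ofNat 0, Int.ofNat 2, Int.ofNat 2, Int.ofNat 0, Int.ofNat 0, Int.ofNat 0, Int.negSucc 1, Int.ofNat 0, Int.ofNat 0, Int.ofNat 0, Int.negSucc 1, Int.ofNat 0, Int.ofNat 2, Int.ofNat 0, Int.ofNat 2, Int.ofNat 0, Int.ofNat 0, Int.ofNat 0, Int.ofNat 0, Int.ofNat 0, Int.ofNat 0, Int.ofNat 2],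
  [Int.ofNat 0, Int.negSucc 1, Int.ofNat 0, Int.negSucc 1, Int.negSucc 1, Int.ofNat 0, Int.ofNat 0, Int.ofNat 0, Int.ofNat 2, Int.ofNat 0, Int.ofNat 0, Int.ofNat 0, Int.ofNat 2, Int.ofNat 0, Int.ofNat 2, Int.ofNat 0, Int.negSucc 1, Int.ofNat 0, Int.ofNat 0, Int.ofNat 0, Int.ofNat 0, Int.ofNat 0, Int.ofNat 0, Int.ofNat 2],
  [Int.ofNat 2, Int.ofNat 0, Int.ofNat 0, Int.ofNat 0, Int.ofNat 0, Int.ofNat 0, Int.ofNat 0, Int.ofNat 0, Int.ofNat 0, Int.ofNat 0, Int.negSucc 1, Int.ofNat 0, Int.ofNat 0, Int.ofNat 0, Int.ofNat 0, Int.negSucc 1, Int.ofNat 0, Int.negSucc 1, Int.ofNat 2, Int.ofNat 0, Int.ofNat 2, Int.ofNat 2, Int.negSucc 1, Int.ofNat 0],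
  [Int.negSucc 1, Int.ofNat 0, Int.ofNat 0, Int.ofNat 0, Int.ofNat 0, Int.ofNat 0, Int.ofNat 0, Int.ofNat 0, Int.ofNat 0, Int.ofNat 0, Int.ofNat 2, Int.ofNat 0, Int.ofNat 0, Int.ofNat 0, Int.ofNat 0, Int.negSucc 1, Int.ofNat 0, Int.negSucc 1, Int.negSucc 1, Int.ofNat 0, Int.ofNat 2, Int.negSucc 1, Int.negSucc 1, Int.ofNat 0],
  [Int.negSucc 1, Int.negSucc 1, Int.ofNat 0, Int.ofNat 0, Int.ofNat 0, Int.ofNat 0, Int.ofNat 0, Int.ofNat 0, Int.ofNat 0, Int.ofNat 0, Int.ofNat 0, Int.ofNat 2, Int.ofNat 0, Int.ofNat 0, Int.ofNat 0, Int.ofNat 0, Int.negSucc 1, Int.ofNat 0, Int.negSucc 1, Int.negSucc 1, Int.ofNat 0, Int.ofNat 2, Int.negSucc 1, Int.ofNat 0],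
  [Int.ofNat 0, Int.ofNat 0, Int.negSucc 1, Int.ofNat 0, Int.ofNat 2, Int.ofNat 0, Int.ofNat 0, Int.ofNat 0, Int.ofNat 0, Int.ofNat 0, Int.ofNat 0, Int.ofNat 2, Int.ofNat 0, Int.ofNat 2, Int.ofNat 0, Int.ofNat 0, Int.ofNat 0, Int.ofNat 0, Int.negSucc 1, Int.negSucc 1, Int.ofNat 0, Int.ofNat 2, Int.ofNat 0, Int.negSucc 1],
  [Int.ofNat 0, Int.ofNat 2, Int.ofNat 0, Int.ofNat 0, Int.ofNat 0, Int.ofNat 0, Int.ofNat 0, Int.ofNat 0, Int.ofNat 2, Int.ofNat 0, Int.ofNat 2, Int.ofNat 0, Int.ofNat 0, Int.ofNat 0, Int.ofNat 0, Int.negSucc 1, Int.negSucc 1, Int.ofNat 0, Int.ofNat 2, Int.ofNat 0, Int.ofNat 0, Int.ofNat 0, Int.negSucc 1, Int.negSucc 1],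
  [Int.ofNat 0, Int.negSucc 1, Int.ofNat 0, Int.ofNat 0, Int.ofNat 2, Int.ofNat 0, Int.ofNat 0, Int.ofNat 0, Int.ofNat 0, Int.ofNat 0, Int.ofNat 2, Int.negSucc 1, Int.negSucc 1, Int.ofNat 2, Int.ofNat 0, Int.negSucc 1, Int.ofNat 0, Int.ofNat 0, Int.ofNat 0, Int.ofNat 0, Int.ofNat 0, Int.ofNat 0, Int.ofNat 0, Int.ofNat 2],
  [Int.ofNat 0, Int.ofNat 0, Int.ofNat 2, Int.ofNat 0, Int.ofNat 0, Int.ofNat 0, Int.ofNat 0, Int.ofNat 2, Int.negSucc 1, Int.ofNat 2, Int.ofNat 0, Int.ofNat 0, Int.ofNat 0, Int.ofNat 0, Int.ofNat 0, Int.negSucc 1, Int.ofNat 0, Int.ofNat 0, Int.negSucc 1, Int.negSucc 1, Int.ofNat 0, Int.ofNat 0, Int.ofNat 0, Int.ofNat 2],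
  [Int.ofNat 2, Int.ofNat 2, Int.ofNat 0, Int.ofNat 0, Int.ofNat 0, Int.ofNat 0, Int.ofNat 0, Int.ofNat 2, Int.ofNat 0, Int.ofNat 2, Int.ofNat 0, Int.ofNat 2, Int.ofNat 2, Int.ofNat 0, Int.ofNat 0, Int.negSucc 1, Int.ofNat 0, Int.ofNat 0, Int.ofNat 0, Int.negSucc 1, Int.ofNat 0, Int.ofNat 0, Int.ofNat 0, Int.ofNat 0],
  [Int.ofNat 2, Int.ofNat 2, Int.ofNat 0, Int.ofNat 0, Int.ofNat 0, Int.ofNat 0, Int.ofNat 0, Int.ofNat 2, Int.ofNat 0, Int.negSucc 1, Int.ofNat 0, Int.ofNat 2, Int.ofNat 2, Int.ofNat 0, Int.ofNat 0, Int.ofNat 2, Int.ofNat 0, Int.ofNat 0, Int.ofNat 0, Int.negSucc 1, Int.ofNat 0, Int.ofNat 0, Int.ofNat 0, Int.ofNat 0],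
  [Int.ofNat 2, Int.negSucc 1, Int.negSucc 1, Int.ofNat 0, Int.ofNat 0, Int.ofNat 0, Int.ofNat 2, Int.ofNat 0, Int.ofNat 0, Int.ofNat 0, Int.ofNat 2, Int.ofNat 0, Int.ofNat 0, Int.ofNat 0, Int.ofNat 0, Int.ofNat 0, Int.ofNat 2, Int.ofNat 2, Int.ofNat 2, Int.ofNat 0, Int.ofNat 0, Int.ofNat 0, Int.ofNat 0, Int.ofNat 0],
  [Int.ofNat 2, Int.negSucc 1, Int.ofNat 2, Int.ofNat 0, Int.ofNat 0, Int.ofNat 0, Int.negSucc 1, Int.ofNat 0, Int.ofNat 0, Int.ofNat 0, Int.negSucc 1, Int.ofNat 0, Int.ofNat 0, Int.ofNat 0, Int.ofNat 0, Int.ofNat 0, Int.ofNat 2, Int.ofNat 2, Int.negSucc 1, Int.ofNat 0, Int.ofNat 0, Int.ofNat 0, Int.ofNat 0, Int.ofNat 0],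
  [Int.negSucc 0, Int.ofNat 3, Int.negSucc 0, Int.negSucc 0, Int.negSucc 0, Int.negSucc 0, Int.negSucc 0, Int.ofNat 1, Int.ofNat 1, Int.ofNat 1, Int.negSucc 0, Int.ofNat 1, Int.ofNat 1, Int.negSucc 0, Int.negSucc 0, Int.ofNat 1, Int.ofNat 1, Int.ofNat 1, Int.negSucc 0, Int.ofNat 1, Int.ofNat 1, Int.ofNat 1, Int.negSucc 0, Int.ofNat 1],
  [Int.negSucc 0, Int.negSucc 0, Int.negSucc 0, Int.negSucc 0, Int.negSucc 0, Int.ofNat 1, Int.ofNat 3, Int.negSucc 0, Int.ofNat 1, Int.ofNat 1, Int.ofNat 1, Int.ofNat 1, Int.ofNat 1, Int.ofNat 1, Int.ofNat 1, Int.ofNat 1, Int.negSucc 0, Int.ofNat 1, Int.negSucc 0, Int.negSucc 0, Int.negSucc 0, Int.ofNat 1, Int.negSucc 0, Int.ofNat 1],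
  [Int.ofNat 0, Int.ofNat 0, Int.ofNat 0, Int.negSucc 1, Int.ofNat 0, Int.ofNat 0, Int.ofNat 2, Int.negSucc 1, Int.ofNat 0, Int.ofNat 0, Int.ofNat 0, Int.ofNat 0, Int.ofNat 0, Int.ofNat 2, Int.ofNat 0, Int.ofNat 0, Int.ofNat 0, Int.ofNat 0, Int.negSucc 1, Int.negSucc 1, Int.negSucc 1, Int.ofNat 0, Int.ofNat 0, Int.negSucc 1],
  [Int.negSucc 1, Int.ofNat 0, Int.ofNat 0, Int.ofNat 0, Int.ofNat 0, Int.ofNat 0, Int.negSucc 1, Int.ofNat 0, Int.ofNat 0, Int.ofNat 2, Int.negSucc 1, Int.ofNat 0, Int.ofNat 0, Int.ofNat 0, Int.ofNat 0, Int.ofNat 0, Int.ofNat 2, Int.ofNat 0, Int.ofNat 0, Int.ofNat 0, Int.ofNat 0, Int.negSucc 1, Int.negSucc 1, Int.negSucc 1],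
  [Int.ofNat 0, Int.negSucc 1, Int.negSucc 1, Int.ofNat 0, Int.ofNat 0, Int.ofNat 0, Int.ofNat 0, Int.ofNat 2, Int.ofNat 0, Int.ofNat 2, Int.negSucc 1, Int.ofNat 0, Int.ofNat 0, Int.ofNat 0, Int.ofNat 0, Int.ofNat 0, Int.ofNat 2, Int.ofNat 0, Int.ofNat 0, Int.ofNat 2, Int.ofNat 0, Int.ofNat 0, Int.negSucc 1, Int.ofNat 0],
  [Int.negSucc 1, Int.negSucc 1, Int.ofNat 0, Int.ofNat 0, Int.ofNat 0, Int.ofNat 0, Int.ofNat 2, Int.ofNat 0, Int.ofNat 2, Int.negSucc 1, Int.ofNat 0, Int.ofNat 0, Int.ofNat 0, Int.ofNat 0, Int.ofNat 0, Int.ofNat 2, Int.ofNat 0, Int.ofNat 0, Int.ofNat 2, Int.ofNat 0, Int.ofNat 0, Int.negSucc 1, Int.ofNat 0, Int.ofNat 0],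
  [Int.ofNat 2, Int.negSucc 1, Int.ofNat 0, Int.ofNat 0, Int.ofNat 0, Int.ofNat 0, Int.ofNat 2, Int.ofNat 0, Int.ofNat 2, Int.ofNat 2, Int.ofNat 0, Int.ofNat 0, Int.ofNat 0, Int.ofNat 0, Int.ofNat 0, Int.ofNat 2, Int.ofNat 0, Int.ofNat 0, Int.negSucc 1, Int.ofNat 0, Int.ofNat 0, Int.ofNat 2, Int.ofNat 0, Int.ofNat 0],
  [Int.ofNat 2, Int.ofNat 0, Int.negSucc 1, Int.ofNat 0, Int.negSucc 1, Int.ofNat 0, Int.ofNat 0, Int.ofNat 0, Int.ofNat 2, Int.ofNat 0, Int.ofNat 2, Int.ofNat 0, Int.ofNat 0, Int.ofNat 2, Int.ofNat 0, Int.ofNat 2, Int.ofNat 0, Int.ofNat 0, Int.ofNat 2, Int.ofNat 0, Int.ofNat 0, Int.ofNat 0, Int.ofNat 0, Int.ofNat 0],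
  [Int.negSucc 1, Int.ofNat 0, Int.ofNat 2, Int.ofNat 0, Int.negSucc 1, Int.ofNat 0, Int.ofNat 0, Int.ofNat 0, Int.ofNat 2, Int.ofNat 0, Int.negSucc 1, Int.ofNat 0, Int.ofNat 0, Int.ofNat 2, Int.ofNat 0, Int.ofNat 2, Int.ofNat 0, Int.ofNat 0, Int.negSucc 1, Int.ofNat 0, Int.ofNat 0, Int.ofNat 0, Int.ofNat 0, Int.ofNat 0],
  [Int.ofNat 0, Int.negSucc 1, Int.ofNat 0, Int.ofNat 2, Int.ofNat 0, Int.negSucc 1, Int.ofNat 0, Int.ofNat 0, Int.ofNat 0, Int.ofNat 2, Int.ofNat 0, Int.negSucc 1, Int.ofNat 0, Int.ofNat 0, Int.ofNat 2, Int.ofNat 0, Int.ofNat 2, Int.ofNat 0, Int.ofNat 0, Int.negSucc 1, Int.ofNat 0, Int.ofNat 0, Int.ofNat 0, Int.ofNat 0],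
  [Int.negSucc 0, Int.ofNat 1, Int.negSucc 0, Int.ofNat 1, Int.negSucc 0, Int.negSucc 2, Int.ofNat 1, Int.ofNat 1, Int.ofNat 1, Int.ofNat 1, Int.negSucc 0, Int.negSucc 0, Int.ofNat 1, Int.negSucc 0, Int.ofNat 1, Int.negSucc 0, Int.ofNat 1, Int.negSucc 0, Int.ofNat 1, Int.negSucc 0, Int.negSucc 0, Int.ofNat 1, Int.negSucc 0, Int.negSucc 0],
  [Int.ofNat 1, Int.negSucc 0, Int.negSucc 2, Int.ofNat 1, Int.ofNat 1, Int.ofNat 1, Int.ofNat 1, Int.negSucc 0, Int.negSucc 0, Int.ofNat 1, Int.negSucc 0, Int.ofNat 1, Int.negSucc 0, Int.ofNat 1, Int.negSucc 0, Int.ofNat 1, Int.negSucc 0, Int.negSucc 0, Int.ofNat 1, Int.negSucc 0, Int.negSucc 0, Int.ofNat 1, Int.negSucc 0, Int.negSucc 0],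
  [Int.negSucc 2, Int.negSucc 0, Int.ofNat 1, Int.ofNat 1, Int.ofNat 1, Int.ofNat 1, Int.ofNat 1, Int.negSucc 0, Int.negSucc 0, Int.ofNat 1, Int.negSucc 0, Int.ofNat 1, Int.negSucc 0, Int.ofNat 1, Int.negSucc 0, Int.ofNat 1, Int.negSucc 0, Int.negSucc 0, Int.ofNat 1, Int.negSucc 0, Int.negSucc 0, Int.ofNat 1, Int.negSucc 0, Int.negSucc 0],
  [Int.negSucc 2, Int.ofNat 1, Int.ofNat 1, Int.ofNat 1, Int.ofNat 1, Int.negSucc 0, Int.ofNat 1, Int.negSucc 0, Int.negSucc 0, Int.ofNat 1, Int.negSucc 0, Int.negSucc 0, Int.ofNat 1, Int.negSucc 0, Int.negSucc 0, Int.ofNat 1, Int.negSucc 0, Int.negSucc 0, Int.negSucc 0, Int.ofNat 1, Int.ofNat 1, Int.ofNat 1, Int.negSucc 0, Int.negSucc 0],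
  [Int.ofNat 2, Int.negSucc 1, Int.negSucc 1, Int.ofNat 2, Int.ofNat 2, Int.ofNat 0, Int.ofNat 0, Int.negSucc 1, Int.ofNat 0, Int.ofNat 0, Int.negSucc 1, Int.ofNat 0, Int.ofNat 2, Int.ofNat 0, Int.ofNat 0, Int.ofNat 0, Int.ofNat 0, Int.ofNat 0, Int.ofNat 0, Int.ofNat 0, Int.ofNat 0, Int.ofNat 0, Int.ofNat 0, Int.ofNat 0],
  [Int.ofNat 2, Int.negSucc 1, Int.ofNat 2, Int.ofNat 2, Int.ofNat 2, Int.ofNat 0, Int.ofNat 0, Int.negSucc 1, Int.ofNat 0, Int.ofNat 0, Int.ofNat 2, Int.ofNat 0, Int.ofNat 2, Int.ofNat 0, Int.ofNat 0, Int.ofNat 0, Int.ofNat 0, Int.ofNat 0, Int.ofNat 0, Int.ofNat 0, Int.ofNat 0, Int.ofNat 0, Int.ofNat 0, Int.ofNat 0],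
  [Int.ofNat 2, Int.ofNat 0, Int.ofNat 0, Int.ofNat 0, Int.ofNat 0, Int.ofNat 0, Int.ofNat 0, Int.ofNat 2, Int.ofNat 0, Int.ofNat 0, Int.ofNat 0, Int.negSucc 1, Int.ofNat 0, Int.ofNat 2, Int.ofNat 0, Int.ofNat 0, Int.ofNat 0, Int.ofNat 2, Int.ofNat 0, Int.ofNat 2, Int.ofNat 2, Int.negSucc 1, Int.ofNat 0, Int.ofNat 0],
  [Int.negSucc 1, Int.ofNat 0, Int.ofNat 0, Int.ofNat 0, Int.ofNat 0, Int.ofNat 0, Int.ofNat 0, Int.ofNat 2, Int.ofNat 0, Int.ofNat 0, Int.ofNat 0, Int.negSucc 1, Int.ofNat 0, Int.negSucc 1, Int.ofNat 0, Int.ofNat 0, Int.ofNat 0, Int.ofNat 2, Int.ofNat 0, Int.ofNat 2, Int.ofNat 2, Int.negSucc 1, Int.ofNat 0, Int.ofNat 0],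
  [Int.ofNat 0, Int.ofNat 0, Int.negSucc 1, Int.ofNat 0, Int.ofNat 2, Int.ofNat 0, Int.ofNat 2, Int.negSucc 1, Int.ofNat 2, Int.ofNat 0, Int.ofNat 0, Int.ofNat 0, Int.negSucc 1, Int.ofNat 2, Int.ofNat 0, Int.ofNat 0, Int.ofNat 0, Int.ofNat 0, Int.ofNat 0, Int.ofNat 0, Int.ofNat 0, Int.ofNat 0, Int.ofNat 0, Int.negSucc 1],
  [Int.ofNat 0, Int.ofNat 0, Int.ofNat 2, Int.ofNat 0, Int.ofNat 2, Int.ofNat 0, Int.ofNat 2, Int.ofNat 2, Int.ofNat 2, Int.ofNat 0, Int.ofNat 0, Int.ofNat 0, Int.negSucc 1, Int.ofNat 2, Int.ofNat 0, Int.ofNat 0, Int.ofNat 0, Int.ofNat 0, Int.ofNat 0, Int.ofNat 0, Int.ofNat 0, Int.ofNat 0, Int.ofNat 0, Int.negSucc 1],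
  [Int.ofNat 0, Int.ofNat 0, Int.ofNat 0, Int.ofNat 2, Int.ofNat 0, Int.ofNat 2, Int.ofNat 0, Int.ofNat 2, Int.ofNat 2, Int.ofNat 2, Int.ofNat 0, Int.ofNat 0, Int.ofNat 0, Int.negSucc 1, Int.ofNat 2, Int.ofNat 0, Int.ofNat 0, Int.ofNat 0, Int.ofNat 0, Int.ofNat 0, Int.ofNat 0, Int.ofNat 0, Int.ofNat 0, Int.negSucc 1],
  [Int.negSucc 0, Int.negSucc 0, Int.negSucc 0, Int.negSucc 0, Int.ofNat 1, Int.negSucc 0, Int.negSucc 0, Int.ofNat 1, Int.ofNat 1, Int.ofNat 1, Int.negSucc 0, Int.negSucc 0, Int.negSucc 0, Int.negSucc 0, Int.negSucc 0, Int.negSucc 0, Int.ofNat 1, Int.negSucc 2, Int.negSucc 0, Int.negSucc 0, Int.negSucc 0, Int.negSucc 0, Int.ofNat 1, Int.ofNat 1],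
  [Int.negSucc 0, Int.ofNat 1, Int.negSucc 0, Int.negSucc 0, Int.ofNat 1, Int.ofNat 1, Int.ofNat 1, Int.negSucc 0, Int.negSucc 0, Int.negSucc 0, Int.negSucc 0, Int.negSucc 0, Int.negSucc 0, Int.ofNat 1, Int.negSucc 2, Int.negSucc 0, Int.negSucc 0, Int.negSucc 0, Int.negSucc 0, Int.ofNat 1, Int.negSucc 0, Int.negSucc 0, Int.negSucc 0, Int.ofNat 1],
  [Int.ofNat 1, Int.negSucc 0, Int.ofNat 1, Int.ofNat 1, Int.ofNat 1, Int.ofNat 3, Int.ofNat 1, Int.negSucc 0, Int.ofNat 1, Int.ofNat 1, Int.ofNat 1, Int.ofNat 1, Int.ofNat 1, Int.ofNat 1, Int.negSucc 0, Int.ofNat 1, Int.negSucc 0, Int.ofNat 1, Int.ofNat 1, Int.ofNat 1, Int.ofNat 1, Int.negSucc 0, Int.negSucc 0, Int.negSucc 0],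
  [Int.ofNat 1, Int.ofNat 1, Int.ofNat 1, Int.ofNat 1, Int.ofNat 1, Int.negSucc 0, Int.ofNat 1, Int.ofNat 1, Int.ofNat 1, Int.ofNat 1, Int.ofNat 1, Int.ofNat 1, Int.ofNat 1, Int.negSucc 0, Int.negSucc 0, Int.ofNat 1, Int.ofNat 1, Int.negSucc 0, Int.negSucc 0, Int.ofNat 1, Int.negSucc 0, Int.ofNat 3, Int.ofNat 1, Int.negSucc 0],
  [Int.ofNat 0, Int.ofNat 0, Int.ofNat 0, Int.ofNat 2, Int.ofNat 0, Int.ofNat 0, Int.negSucc 1, Int.negSucc 1, Int.ofNat 0, Int.ofNat 0, Int.ofNat 0, Int.ofNat 0, Int.ofNat 0, Int.negSucc 1, Int.ofNat 0, Int.ofNat 0, Int.ofNat 0, Int.ofNat 0, Int.negSucc 1, Int.negSucc 1, Int.negSucc 1, Int.ofNat 0, Int.ofNat 0, Int.ofNat 2],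
  [Int.ofNat 0, Int.ofNat 0, Int.ofNat 0, Int.ofNat 2, Int.ofNat 0, Int.ofNat 0, Int.ofNat 2, Int.negSucc 1, Int.ofNat 0, Int.ofNat 0, Int.ofNat 0, Int.ofNat 0, Int.ofNat 0, Int.negSucc 1, Int.ofNat 0, Int.ofNat 0, Int.ofNat 0, Int.ofNat 0, Int.ofNat 2, Int.negSucc 1, Int.negSucc 1, Int.ofNat 0, Int.ofNat 0, Int.ofNat 2],
  [Int.ofNat 0, Int.ofNat 0, Int.negSucc 1, Int.ofNat 0, Int.negSucc 1, Int.ofNat 2, Int.ofNat 0, Int.ofNat 0, Int.ofNat 0, Int.ofNat 2, Int.ofNat 0, Int.ofNat 0, Int.ofNat 0, Int.ofNat 2, Int.ofNat 0, Int.negSucc 1, Int.ofNat 0, Int.negSucc 1, Int.ofNat 0, Int.ofNat 0, Int.ofNat 0, Int.ofNat 0, Int.ofNat 0, Int.ofNat 2],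
  [Int.ofNat 0, Int.ofNat 0, Int.ofNat 2, Int.ofNat 0, Int.negSucc 1, Int.negSucc 1, Int.ofNat 0, Int.ofNat 0, Int.ofNat 0, Int.negSucc 1, Int.ofNat 0, Int.ofNat 0, Int.ofNat 0, Int.ofNat 2, Int.ofNat 0, Int.ofNat 2, Int.ofNat 0, Int.negSucc 1, Int.ofNat 0, Int.ofNat 0, Int.ofNat 0, Int.ofNat 0, Int.ofNat 0, Int.ofNat 2],
  [Int.ofNat 2, Int.ofNat 2, Int.ofNat 0, Int.ofNat 2, Int.negSucc 1, Int.ofNat 0, Int.ofNat 0, Int.ofNat 0, Int.ofNat 0, Int.negSucc 1, Int.ofNat 0, Int.ofNat 0, Int.ofNat 0, Int.ofNat 2, Int.ofNat 2, Int.ofNat 2, Int.ofNat 0, Int.ofNat 0, Int.ofNat 0, Int.ofNat 0, Int.ofNat 0, Int.ofNat 0, Int.ofNat 0, Int.ofNat 0],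
  [Int.ofNat 2, Int.ofNat 0, Int.ofNat 0, Int.ofNat 2, Int.ofNat 0, Int.ofNat 0, Int.ofNat 2, Int.ofNat 0, Int.ofNat 0, Int.ofNat 0, Int.ofNat 0, Int.ofNat 0, Int.ofNat 0, Int.negSucc 1, Int.ofNat 0, Int.ofNat 2, Int.ofNat 2, Int.ofNat 0, Int.negSucc 1, Int.ofNat 0, Int.ofNat 0, Int.ofNat 0, Int.ofNat 2, Int.ofNat 0],
  [Int.negSucc 0, Int.ofNat 1, Int.ofNat 1, Int.ofNat 1, Int.negSucc 0, Int.negSucc 0, Int.ofNat 1, Int.negSucc 0, Int.ofNat 1, Int.negSucc 0, Int.negSucc 0, Int.ofNat 1, Int.ofNat 1, Int.negSucc 2, Int.negSucc 0, Int.ofNat 1, Int.ofNat 1, Int.negSucc 0, Int.negSucc 0, Int.negSucc 0, Int.negSucc 0, Int.negSucc 0, Int.ofNat 1, Int.ofNat 1],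
  [Int.negSucc 0, Int.negSucc 0, Int.ofNat 1, Int.negSucc 0, Int.ofNat 1, Int.ofNat 1, Int.ofNat 1, Int.negSucc 0, Int.negSucc 0, Int.ofNat 1, Int.negSucc 0, Int.ofNat 1, Int.negSucc 0, Int.negSucc 0, Int.ofNat 1, Int.ofNat 1, Int.negSucc 2, Int.negSucc 0, Int.ofNat 1, Int.ofNat 1, Int.negSucc 0, Int.negSucc 0, Int.negSucc 0, Int.ofNat 1],
  [Int.ofNat 1, Int.ofNat 1, Int.negSucc 0, Int.negSucc 0, Int.ofNat 3, Int.ofNat 1, Int.ofNat 1, Int.negSucc 0, Int.negSucc 0, Int.ofNat 1, Int.negSucc 0, Int.ofNat 1, Int.negSucc 0, Int.ofNat 1, Int.ofNat 1, Int.ofNat 1, Int.negSucc 0, Int.negSucc 0, Int.ofNat 1, Int.ofNat 1, Int.negSucc 0, Int.negSucc 0, Int.ofNat 1, Int.negSucc 0],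
  [Int.ofNat 1, Int.negSucc 0, Int.negSucc 0, Int.ofNat 3, Int.ofNat 1, Int.ofNat 1, Int.negSucc 0, Int.negSucc 0, Int.ofNat 1, Int.negSucc 0, Int.ofNat 1, Int.negSucc 0, Int.ofNat 1, Int.ofNat 1, Int.ofNat 1, Int.negSucc 0, Int.negSucc 0, Int.ofNat 1, Int.ofNat 1, Int.negSucc 0, Int.negSucc 0, Int.ofNat 1, Int.ofNat 1, Int.negSucc 0],
  [Int.negSucc 0, Int.negSucc 0, Int.ofNat 1, Int.ofNat 3, Int.ofNat 1, Int.ofNat 1, Int.negSucc 0, Int.ofNat 1, Int.ofNat 1, Int.ofNat 1, Int.negSucc 0, Int.ofNat 1, Int.ofNat 1, Int.ofNat 1, Int.ofNat 1, Int.negSucc 0, Int.negSucc 0, Int.ofNat 1, Int.negSucc 0, Int.negSucc 0, Int.negSucc 0, Int.negSucc 0, Int.ofNat 1, Int.negSucc 0],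
  [Int.negSucc 0, Int.ofNat 1, Int.negSucc 0, Int.ofNat 3, Int.negSucc 0, Int.negSucc 0, Int.ofNat 1, Int.negSucc 0, Int.ofNat 1, Int.negSucc 0, Int.negSucc 0, Int.ofNat 1, Int.ofNat 1, Int.ofNat 1, Int.negSucc 0, Int.negSucc 0, Int.ofNat 1, Int.ofNat 1, Int.negSucc 0, Int.ofNat 1, Int.ofNat 1, Int.ofNat 1, Int.ofNat 1, Int.negSucc 0],
  [Int.ofNat 1, Int.ofNat 1, Int.ofNat 1, Int.ofNat 3, Int.negSucc 0, Int.negSucc 0, Int.ofNat 1, Int.ofNat 1, Int.ofNat 1, Int.ofNat 1, Int.ofNat 1, Int.negSucc 0, Int.ofNat 1, Int.ofNat 1, Int.negSucc 0, Int.negSucc 0, Int.ofNat 1, Int.ofNat 1, Int.ofNat 1, Int.ofNat 1, Int.ofNat 1, Int.negSucc 0, Int.ofNat 1, Int.negSucc 0],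
  [Int.ofNat 1, Int.ofNat 1, Int.ofNat 1, Int.ofNat 1, Int.ofNat 3, Int.negSucc 0, Int.negSucc 0, Int.ofNat 1, Int.ofNat 1, Int.ofNat 1, Int.ofNat 1, Int.ofNat 1, Int.negSucc 0, Int.ofNat 1, Int.ofNat 1, Int.negSucc 0, Int.negSucc 0, Int.ofNat 1, Int.ofNat 1, Int.ofNat 1, Int.ofNat 1, Int.ofNat 1, Int.negSucc 0, Int.negSucc 0],
  [Int.ofNat 0, Int.ofNat 0, Int.ofNat 0, Int.ofNat 0, Int.ofNat 2, Int.negSucc 1, Int.negSucc 1, Int.ofNat 0, Int.ofNat 0, Int.ofNat 0, Int.ofNat 0, Int.ofNat 0, Int.negSucc 1, Int.ofNat 0, Int.ofNat 0, Int.negSucc 1, Int.negSucc 1, Int.ofNat 0, Int.ofNat 0, Int.ofNat 0, Int.ofNat 0, Int.ofNat 0, Int.negSucc 1, Int.ofNat 2],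
  [Int.ofNat 0, Int.ofNat 2, Int.negSucc 1, Int.negSucc 1, Int.ofNat 0, Int.ofNat 0, Int.ofNat 0, Int.ofNat 0, Int.ofNat 0, Int.negSucc 1, Int.ofNat 0, Int.ofNat 0, Int.negSucc 1, Int.negSucc 1, Int.ofNat 0, Int.ofNat 0, Int.ofNat 0, Int.ofNat 0, Int.ofNat 0, Int.negSucc 1, Int.ofNat 0, Int.ofNat 0, Int.ofNat 0, Int.ofNat 2],
  [Int.ofNat 1, Int.negSucc 0, Int.ofNat 3, Int.negSucc 0, Int.ofNat 1, Int.ofNat 1, Int.ofNat 1, Int.ofNat 1, Int.ofNat 1, Int.negSucc 0, Int.ofNat 1, Int.ofNat 1, Int.negSucc 0, Int.negSucc 0, Int.ofNat 1, Int.ofNat 1, Int.ofNat 1, Int.ofNat 1, Int.ofNat 1, Int.negSucc 0, Int.ofNat 1, Int.ofNat 1, Int.ofNat 1, Int.negSucc 0],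
  [Int.ofNat 1, Int.ofNat 1, Int.ofNat 1, Int.negSucc 0, Int.ofNat 1, Int.ofNat 1, Int.ofNat 3, Int.ofNat 1, Int.negSucc 0, Int.negSucc 0, Int.ofNat 1, Int.ofNat 1, Int.negSucc 0, Int.ofNat 1, Int.ofNat 1, Int.ofNat 1, Int.ofNat 1, Int.ofNat 1, Int.negSucc 0, Int.ofNat 1, Int.ofNat 1, Int.ofNat 1, Int.negSucc 0, Int.negSucc 0],
  [Int.ofNat 0, Int.ofNat 0, Int.ofNat 0, Int.negSucc 1, Int.ofNat 0, Int.ofNat 0, Int.ofNat 0, Int.negSucc 1, Int.ofNat 0, Int.negSucc 1, Int.ofNat 0, Int.ofNat 2, Int.ofNat 0, Int.ofNat 0, Int.ofNat 0, Int.ofNat 0, Int.ofNat 0, Int.ofNat 0, Int.ofNat 0, Int.negSucc 1, Int.ofNat 0, Int.negSucc 1, Int.negSucc 1, Int.ofNat 2],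
  [Int.ofNat 0, Int.ofNat 0, Int.ofNat 0, Int.negSucc 1, Int.ofNat 0, Int.ofNat 0, Int.ofNat 0, Int.negSucc 1, Int.ofNat 0, Int.ofNat 2, Int.ofNat 0, Int.ofNat 2, Int.ofNat 0, Int.ofNat 0, Int.ofNat 0, Int.ofNat 0, Int.ofNat 0, Int.ofNat 0, Int.ofNat 0, Int.negSucc 1, Int.ofNat 0, Int.negSucc 1, Int.ofNat 2, Int.ofNat 2],
  [Int.ofNat 0, Int.ofNat 0, Int.ofNat 2, Int.ofNat 0, Int.ofNat 0, Int.ofNat 0, Int.negSucc 1, Int.negSucc 1, Int.ofNat 0, Int.ofNat 0, Int.ofNat 0, Int.negSucc 1, Int.ofNat 0, Int.ofNat 0, Int.ofNat 0, Int.ofNat 0, Int.negSucc 1, Int.ofNat 0, Int.ofNat 2, Int.ofNat 0, Int.ofNat 0, Int.ofNat 0, Int.ofNat 2, Int.ofNat 2],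
  [Int.ofNat 0, Int.ofNat 0, Int.negSucc 1, Int.ofNat 0, Int.ofNat 0, Int.ofNat 0, Int.ofNat 2, Int.negSucc 1, Int.ofNat 0, Int.ofNat 0, Int.ofNat 0, Int.negSucc 1, Int.ofNat 0, Int.ofNat 0, Int.ofNat 0, Int.ofNat 0, Int.ofNat 2, Int.ofNat 0, Int.negSucc 1, Int.ofNat 0, Int.ofNat 0, Int.ofNat 0, Int.ofNat 2, Int.ofNat 2],
  [Int.ofNat 2, Int.ofNat 2, Int.negSucc 1, Int.ofNat 0, Int.ofNat 0, Int.ofNat 0, Int.ofNat 0, Int.ofNat 0, Int.ofNat 0, Int.ofNat 0, Int.ofNat 2, Int.negSucc 1, Int.ofNat 0, Int.negSucc 1, Int.negSucc 1, Int.ofNat 0, Int.ofNat 0, Int.ofNat 0, Int.ofNat 0, Int.ofNat 2, Int.ofNat 0, Int.ofNat 0, Int.ofNat 0, Int.ofNat 0],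
  [Int.negSucc 1, Int.ofNat 2, Int.ofNat 2, Int.ofNat 0, Int.ofNat 0, Int.ofNat 0, Int.ofNat 0, Int.ofNat 0, Int.ofNat 0, Int.ofNat 0, Int.negSucc 1, Int.ofNat 2, Int.ofNat 0, Int.negSucc 1, Int.negSucc 1, Int.ofNat 0, Int.ofNat 0, Int.ofNat 0, Int.ofNat 0, Int.ofNat 2, Int.ofNat 0, Int.ofNat 0, Int.ofNat 0, Int.ofNat 0],
  [Int.ofNat 0, Int.negSucc 1, Int.ofNat 2, Int.ofNat 2, Int.ofNat 0, Int.ofNat 0, Int.ofNat 0, Int.ofNat 0, Int.ofNat 0, Int.ofNat 0, Int.ofNat 0, Int.negSucc 1, Int.ofNat 2, Int.ofNat 0, Int.negSucc 1, Int.negSucc 1, Int.ofNat 0, Int.ofNat 0, Int.ofNat 0, Int.ofNat 0, Int.ofNat 2, Int.ofNat 0, Int.ofNat 0, Int.ofNat 0],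
  [Int.ofNat 0, Int.ofNat 2, Int.negSucc 1, Int.ofNat 2, Int.ofNat 0, Int.ofNat 0, Int.ofNat 0, Int.ofNat 0, Int.ofNat 0, Int.ofNat 0, Int.ofNat 0, Int.negSucc 1, Int.ofNat 2, Int.ofNat 0, Int.negSucc 1, Int.negSucc 1, Int.ofNat 0, Int.ofNat 0, Int.ofNat 0, Int.ofNat 0, Int.ofNat 2, Int.ofNat 0, Int.ofNat 0, Int.ofNat 0],
  [Int.ofNat 2, Int.ofNat 0, Int.ofNat 0, Int.ofNat 0, Int.ofNat 0, Int.ofNat 0, Int.ofNat 0, Int.ofNat 0, Int.negSucc 1, Int.ofNat 2, Int.ofNat 0, Int.negSucc 1, Int.negSucc 1, Int.ofNat 0, Int.ofNat 0, Int.ofNat 0, Int.ofNat 0, Int.ofNat 2, Int.ofNat 0, Int.ofNat 0, Int.ofNat 0, Int.ofNat 2, Int.negSucc 1, Int.ofNat 0],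
  [Int.negSucc 0, Int.ofNat 1, Int.ofNat 1, Int.negSucc 0, Int.ofNat 1, Int.negSucc 0, Int.negSucc 0, Int.negSucc 0, Int.ofNat 1, Int.ofNat 1, Int.negSucc 0, Int.ofNat 1, Int.ofNat 1, Int.ofNat 1, Int.negSucc 0, Int.negSucc 0, Int.ofNat 1, Int.ofNat 1, Int.ofNat 3, Int.negSucc 0, Int.negSucc 0, Int.ofNat 1, Int.negSucc 0, Int.ofNat 1],
  [Int.negSucc 0, Int.negSucc 0, Int.ofNat 1, Int.negSucc 0, Int.ofNat 3, Int.negSucc 0, Int.ofNat 1, Int.negSucc 0, Int.ofNat 1, Int.ofNat 1, Int.negSucc 0, Int.ofNat 1, Int.ofNat 1, Int.ofNat 1, Int.negSucc 0, Int.negSucc 0, Int.ofNat 1, Int.negSucc 0, Int.ofNat 1, Int.ofNat 1, Int.ofNat 1, Int.negSucc 0, Int.negSucc 0, Int.ofNat 1],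
  [Int.ofNat 1, Int.ofNat 1, Int.negSucc 0, Int.ofNat 1, Int.ofNat 1, Int.ofNat 1, Int.ofNat 1, Int.negSucc 0, Int.negSucc 0, Int.ofNat 1, Int.negSucc 0, Int.negSucc 0, Int.negSucc 0, Int.negSucc 0, Int.ofNat 1, Int.negSucc 0, Int.negSucc 0, Int.ofNat 1, Int.negSucc 0, Int.ofNat 1, Int.ofNat 1, Int.negSucc 0, Int.negSucc 2, Int.negSucc 0],
  [Int.ofNat 1, Int.ofNat 1, Int.ofNat 1, Int.ofNat 1, Int.ofNat 1, Int.negSucc 0, Int.negSucc 0, Int.negSucc 0, Int.negSucc 0, Int.negSucc 0, Int.ofNat 1, Int.negSucc 0, Int.negSucc 0, Int.negSucc 0, Int.ofNat 1, Int.ofNat 1, Int.negSucc 0, Int.ofNat 1, Int.ofNat 1, Int.ofNat 1, Int.ofNat 1, Int.negSucc 0, Int.ofNat 3, Int.negSucc 0],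
  [Int.negSucc 0, Int.negSucc 0, Int.ofNat 1, Int.ofNat 1, Int.negSucc 0, Int.negSucc 0, Int.negSucc 0, Int.negSucc 0, Int.ofNat 1, Int.ofNat 1, Int.ofNat 1, Int.ofNat 3, Int.ofNat 1, Int.ofNat 1, Int.negSucc 0, Int.ofNat 1, Int.ofNat 1, Int.negSucc 0, Int.ofNat 1, Int.ofNat 1, Int.negSucc 0, Int.negSucc 0, Int.ofNat 1, Int.negSucc 0],
  [Int.negSucc 0, Int.negSucc 0, Int.negSucc 0, Int.ofNat 1, Int.negSucc 0, Int.ofNat 1, Int.ofNat 1, Int.negSucc 0, Int.ofNat 1, Int.negSucc 0, Int.negSucc 0, Int.ofNat 3, Int.ofNat 1, Int.ofNat 1, Int.negSucc 0, Int.negSucc 0, Int.ofNat 1, Int.negSucc 0, Int.negSucc 0, Int.ofNat 1, Int.negSucc 0, Int.negSucc 0, Int.negSucc 0, Int.negSucc 0],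
  [Int.negSucc 0, Int.negSucc 0, Int.negSucc 0, Int.ofNat 1, Int.negSucc 0, Int.ofNat 1, Int.ofNat 1, Int.negSucc 0, Int.negSucc 0, Int.ofNat 1, Int.ofNat 1, Int.ofNat 1, Int.negSucc 0, Int.ofNat 1, Int.negSucc 0, Int.ofNat 1, Int.ofNat 1, Int.negSucc 0, Int.negSucc 2, Int.ofNat 1, Int.ofNat 1, Int.negSucc 0, Int.negSucc 0, Int.negSucc 0],
  [Int.negSucc 0, Int.negSucc 2, Int.ofNat 1, Int.ofNat 1, Int.negSucc 0, Int.negSucc 0, Int.negSucc 0, Int.ofNat 1, Int.ofNat 1, Int.negSucc 0, Int.negSucc 0, Int.ofNat 1, Int.negSucc 0, Int.ofNat 1, Int.negSucc 0, Int.ofNat 1, Int.ofNat 1, Int.ofNat 1, Int.negSucc 0, Int.negSucc 0, Int.ofNat 1, Int.ofNat 1, Int.negSucc 0, Int.negSucc 0],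
  [Int.negSucc 0, Int.ofNat 1, Int.negSucc 2, Int.ofNat 1, Int.negSucc 0, Int.negSucc 0, Int.negSucc 0, Int.ofNat 1, Int.ofNat 1, Int.negSucc 0, Int.negSucc 0, Int.ofNat 1, Int.negSucc 0, Int.ofNat 1, Int.negSucc 0, Int.ofNat 1, Int.ofNat 1, Int.ofNat 1, Int.negSucc 0, Int.negSucc 0, Int.ofNat 1, Int.ofNat 1, Int.negSucc 0, Int.negSucc 0],
  [Int.ofNat 1, Int.ofNat 1, Int.negSucc 0, Int.negSucc 0, Int.ofNat 1, Int.negSucc 2, Int.ofNat 1, Int.negSucc 0, Int.negSucc 0, Int.negSucc 0, Int.ofNat 1, Int.ofNat 1, Int.negSucc 0, Int.negSucc 0, Int.ofNat 1, Int.negSucc 0, Int.ofNat 1, Int.negSucc 0, Int.ofNat 1, Int.ofNat 1, Int.ofNat 1, Int.negSucc 0, Int.negSucc 0, Int.negSucc 0],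
  [Int.negSucc 0, Int.negSucc 0, Int.ofNat 1, Int.ofNat 1, Int.ofNat 1, Int.negSucc 0, Int.ofNat 1, Int.negSucc 0, Int.negSucc 0, Int.negSucc 0, Int.ofNat 1, Int.ofNat 1, Int.negSucc 0, Int.negSucc 0, Int.ofNat 3, Int.negSucc 0, Int.ofNat 1, Int.ofNat 1, Int.ofNat 1, Int.ofNat 1, Int.ofNat 1, Int.negSucc 0, Int.negSucc 0, Int.ofNat 1],
  [Int.negSucc 0, Int.ofNat 1, Int.ofNat 1, Int.ofNat 1, Int.negSucc 0, Int.ofNat 1, Int.negSucc 0, Int.negSucc 0, Int.negSucc 0, Int.ofNat 1, Int.ofNat 1, Int.negSucc 0, Int.negSucc 0, Int.ofNat 3, Int.negSucc 0, Int.ofNat 1, Int.ofNat 1, Int.ofNat 1, Int.ofNat 1, Int.ofNat 1, Int.negSucc 0, Int.negSucc 0, Int.negSucc 0, Int.ofNat 1],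
  [Int.ofNat 1, Int.ofNat 1, Int.negSucc 0, Int.ofNat 1, Int.negSucc 0, Int.ofNat 1, Int.negSucc 0, Int.ofNat 1, Int.negSucc 0, Int.negSucc 0, Int.negSucc 0, Int.ofNat 1, Int.negSucc 0, Int.ofNat 3, Int.negSucc 0, Int.ofNat 1, Int.ofNat 1, Int.ofNat 1, Int.negSucc 0, Int.ofNat 1, Int.negSucc 0, Int.ofNat 1, Int.negSucc 0, Int.ofNat 1],
  [Int.ofNat 1, Int.negSucc 0, Int.negSucc 0, Int.ofNat 1, Int.ofNat 1, Int.negSucc 0, Int.negSucc 0, Int.negSucc 0, Int.negSucc 0, Int.ofNat 1, Int.ofNat 1, Int.negSucc 0, Int.ofNat 3, Int.negSucc 0, Int.ofNat 1, Int.ofNat 1, Int.negSucc 0, Int.negSucc 0, Int.negSucc 0, Int.ofNat 1, Int.ofNat 1, Int.ofNat 1, Int.ofNat 1, Int.ofNat 1],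
  [Int.negSucc 0, Int.negSucc 0, Int.ofNat 1, Int.ofNat 1, Int.ofNat 1, Int.negSucc 0, Int.negSucc 0, Int.ofNat 1, Int.negSucc 0, Int.negSucc 0, Int.negSucc 0, Int.ofNat 1, Int.ofNat 3, Int.negSucc 0, Int.ofNat 1, Int.ofNat 1, Int.negSucc 0, Int.negSucc 0, Int.ofNat 1, Int.ofNat 1, Int.ofNat 1, Int.negSucc 0, Int.ofNat 1, Int.ofNat 1],
  [Int.ofNat 1, Int.negSucc 0, Int.negSucc 0, Int.ofNat 1, Int.ofNat 1, Int.ofNat 1, Int.negSucc 0, Int.negSucc 0, Int.ofNat 1, Int.negSucc 0, Int.negSucc 0, Int.negSucc 0, Int.ofNat 1, Int.ofNat 3, Int.negSucc 0, Int.ofNat 1, Int.ofNat 1, Int.negSucc 0, Int.negSucc 0, Int.ofNat 1, Int.ofNat 1, Int.ofNat 1, Int.negSucc 0, Int.ofNat 1],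
  [Int.negSucc 0, Int.ofNat 1, Int.ofNat 1, Int.ofNat 1, Int.negSucc 0, Int.ofNat 1, Int.negSucc 0, Int.negSucc 0, Int.ofNat 1, Int.negSucc 0, Int.negSucc 0, Int.negSucc 0, Int.ofNat 1, Int.ofNat 1, Int.negSucc 0, Int.ofNat 1, Int.negSucc 0, Int.negSucc 0, Int.negSucc 0, Int.ofNat 1, Int.ofNat 1, Int.ofNat 1, Int.negSucc 2, Int.negSucc 0],
  [Int.ofNat 1, Int.negSucc 0, Int.ofNat 1, Int.negSucc 0, Int.negSucc 0, Int.ofNat 1, Int.negSucc 0, Int.negSucc 0, Int.negSucc 0, Int.ofNat 1, Int.ofNat 1, Int.negSucc 0, Int.ofNat 1, Int.negSucc 0, Int.negSucc 0, Int.negSucc 0, Int.ofNat 1, Int.ofNat 1, Int.ofNat 1, Int.negSucc 2, Int.negSucc 0, Int.ofNat 1, Int.ofNat 1, Int.negSucc 0],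
  [Int.negSucc 0, Int.ofNat 1, Int.negSucc 0, Int.negSucc 0, Int.negSucc 0, Int.ofNat 1, Int.ofNat 1, Int.ofNat 1, Int.negSucc 0, Int.ofNat 1, Int.ofNat 1, Int.negSucc 0, Int.ofNat 1, Int.negSucc 0, Int.negSucc 0, Int.negSucc 0, Int.ofNat 1, Int.ofNat 1, Int.ofNat 1, Int.negSucc 0, Int.negSucc 0, Int.ofNat 3, Int.ofNat 1, Int.ofNat 1],
  [Int.negSucc 0, Int.ofNat 1, Int.negSucc 0, Int.negSucc 0, Int.ofNat 1, Int.ofNat 1, Int.negSucc 0, Int.ofNat 1, Int.ofNat 1, Int.negSucc 0, Int.negSucc 0, Int.ofNat 1, Int.ofNat 1, Int.ofNat 1, Int.ofNat 1, Int.negSucc 0, Int.negSucc 0, Int.negSucc 0, Int.ofNat 1, Int.negSucc 0, Int.ofNat 3, Int.ofNat 1, Int.negSucc 0, Int.ofNat 1],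
  [Int.ofNat 1, Int.negSucc 0, Int.ofNat 1, Int.negSucc 0, Int.ofNat 1, Int.ofNat 1, Int.negSucc 0, Int.ofNat 1, Int.negSucc 0, Int.negSucc 0, Int.negSucc 0, Int.negSucc 0, Int.negSucc 0, Int.ofNat 1, Int.ofNat 1, Int.negSucc 0, Int.negSucc 0, Int.negSucc 0, Int.negSucc 0, Int.negSucc 0, Int.ofNat 3, Int.ofNat 1, Int.negSucc 0, Int.negSucc 0],
  [Int.ofNat 1, Int.negSucc 0, Int.negSucc 0, Int.negSucc 0, Int.ofNat 1, Int.negSucc 0, Int.ofNat 1, Int.ofNat 1, Int.negSucc 0, Int.ofNat 1, Int.ofNat 1, Int.negSucc 0, Int.negSucc 0, Int.ofNat 1, Int.ofNat 1, Int.ofNat 1, Int.negSucc 0, Int.negSucc 0, Int.ofNat 1, Int.negSucc 0, Int.ofNat 3, Int.ofNat 1, Int.ofNat 1, Int.negSucc 0],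
  [Int.ofNat 1, Int.negSucc 0, Int.negSucc 0, Int.negSucc 0, Int.ofNat 1, Int.ofNat 1, Int.ofNat 1, Int.negSucc 0, Int.negSucc 0, Int.ofNat 3, Int.ofNat 1, Int.ofNat 1, Int.ofNat 1, Int.ofNat 1, Int.negSucc 0, Int.ofNat 1, Int.negSucc 0, Int.negSucc 0, Int.ofNat 1, Int.negSucc 0, Int.ofNat 1, Int.negSucc 0, Int.ofNat 1, Int.negSucc 0],
  [Int.negSucc 0, Int.ofNat 1, Int.ofNat 1, Int.ofNat 1, Int.negSucc 0, Int.ofNat 1, Int.negSucc 0, Int.negSucc 0, Int.ofNat 1, Int.negSucc 2, Int.ofNat 1, Int.ofNat 1, Int.negSucc 0, Int.negSucc 0, Int.negSucc 0, Int.ofNat 1, Int.ofNat 1, Int.negSucc 0, Int.negSucc 0, Int.negSucc 0, Int.ofNat 1, Int.negSucc 0, Int.ofNat 1, Int.negSucc 0],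
  [Int.negSucc 0, Int.ofNat 1, Int.ofNat 1, Int.ofNat 1, Int.negSucc 0, Int.negSucc 2, Int.negSucc 0, Int.negSucc 0, Int.ofNat 1, Int.ofNat 1, Int.ofNat 1, Int.ofNat 1, Int.negSucc 0, Int.negSucc 0, Int.negSucc 0, Int.ofNat 1, Int.ofNat 1, Int.negSucc 0, Int.negSucc 0, Int.negSucc 0, Int.ofNat 1, Int.negSucc 0, Int.ofNat 1, Int.negSucc 0],
  [Int.ofNat 1, Int.ofNat 1, Int.negSucc 0, Int.ofNat 1, Int.negSucc 0, Int.negSucc 2, Int.negSucc 0, Int.ofNat 1, Int.ofNat 1, Int.negSucc 0, Int.negSucc 0, Int.negSucc 0, Int.negSucc 0, Int.negSucc 0, Int.negSucc 0, Int.ofNat 1, Int.ofNat 1, Int.negSucc 0, Int.ofNat 1, Int.negSucc 0, Int.ofNat 1, Int.ofNat 1, Int.ofNat 1, Int.negSucc 0],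
  [Int.ofNat 1, Int.ofNat 1, Int.ofNat 1, Int.negSucc 0, Int.ofNat 1, Int.negSucc 0, Int.negSucc 2, Int.negSucc 0, Int.ofNat 1, Int.ofNat 1, Int.negSucc 0, Int.negSucc 0, Int.negSucc 0, Int.negSucc 0, Int.negSucc 0, Int.negSucc 0, Int.ofNat 1, Int.ofNat 1, Int.negSucc 0, Int.ofNat 1, Int.negSucc 0, Int.ofNat 1, Int.ofNat 1, Int.negSucc 0],
  [Int.ofNat 0, Int.ofNat 0, Int.ofNat 0, Int.ofNat 0, Int.ofNat 0, Int.ofNat 0, Int.negSucc 1, Int.ofNat 0, Int.ofNat 2, Int.ofNat 2, Int.ofNat 0, Int.ofNat 0, Int.ofNat 0, Int.negSucc 1, Int.ofNat 0, Int.ofNat 0, Int.ofNat 0, Int.ofNat 2, Int.ofNat 0, Int.ofNat 2, Int.ofNat 0, Int.ofNat 2, Int.ofNat 0, Int.ofNat 2],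
  [Int.ofNat 0, Int.ofNat 0, Int.ofNat 0, Int.negSucc 1, Int.ofNat 0, Int.ofNat 2, Int.ofNat 2, Int.ofNat 0, Int.ofNat 0, Int.ofNat 0, Int.negSucc 1, Int.ofNat 0, Int.ofNat 0, Int.ofNat 0, Int.ofNat 2, Int.ofNat 0, Int.ofNat 2, Int.ofNat 0, Int.ofNat 2, Int.ofNat 0, Int.ofNat 0, Int.ofNat 0, Int.ofNat 0, Int.ofNat 2],
  [Int.ofNat 1, Int.ofNat 1, Int.ofNat 1, Int.negSucc 2, Int.negSucc 0, Int.ofNat 1, Int.ofNat 1, Int.negSucc 0, Int.negSucc 0, Int.ofNat 1, Int.negSucc 0, Int.negSucc 0, Int.negSucc 0, Int.negSucc 0, Int.ofNat 1, Int.ofNat 1, Int.ofNat 1, Int.negSucc 0, Int.ofNat 1, Int.negSucc 0, Int.ofNat 1, Int.negSucc 0, Int.negSucc 0, Int.negSucc 0],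
  [Int.ofNat 1, Int.ofNat 1, Int.negSucc 0, Int.negSucc 2, Int.ofNat 1, Int.negSucc 0, Int.ofNat 1, Int.negSucc 0, Int.negSucc 0, Int.negSucc 0, Int.ofNat 1, Int.negSucc 0, Int.ofNat 1, Int.ofNat 1, Int.negSucc 0, Int.ofNat 1, Int.negSucc 0, Int.ofNat 1, Int.ofNat 1, Int.negSucc 0, Int.negSucc 0, Int.ofNat 1, Int.negSucc 0, Int.negSucc 0],
  [Int.negSucc 0, Int.negSucc 0, Int.ofNat 1, Int.negSucc 0, Int.ofNat 1, Int.ofNat 1, Int.ofNat 1, Int.negSucc 0, Int.negSucc 0, Int.negSucc 0, Int.ofNat 1, Int.negSucc 0, Int.ofNat 1, Int.ofNat 1, Int.ofNat 1, Int.ofNat 1, Int.negSucc 0, Int.ofNat 3, Int.ofNat 1, Int.negSucc 0, Int.negSucc 0, Int.ofNat 1, Int.negSucc 0, Int.ofNat 1],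
  [Int.negSucc 0, Int.negSucc 0, Int.negSucc 0, Int.negSucc 0, Int.ofNat 1, Int.negSucc 0, Int.negSucc 0, Int.negSucc 0, Int.negSucc 0, Int.ofNat 1, Int.negSucc 0, Int.negSucc 0, Int.ofNat 1, Int.ofNat 1, Int.ofNat 1, Int.negSucc 0, Int.negSucc 0, Int.ofNat 3, Int.negSucc 0, Int.negSucc 0, Int.negSucc 0, Int.ofNat 1, Int.ofNat 1, Int.ofNat 1],
  [Int.ofNat 1, Int.ofNat 1, Int.negSucc 0, Int.ofNat 1, Int.ofNat 1, Int.negSucc 0, Int.negSucc 0, Int.negSucc 0, Int.negSucc 0, Int.negSucc 0, Int.negSucc 0, Int.ofNat 1, Int.ofNat 3, Int.negSucc 0, Int.negSucc 0, Int.negSucc 0, Int.negSucc 0, Int.negSucc 0, Int.negSucc 0, Int.ofNat 1, Int.ofNat 1, Int.negSucc 0, Int.negSucc 0, Int.ofNat 1],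
  [Int.ofNat 1, Int.ofNat 1, Int.ofNat 1, Int.ofNat 1, Int.ofNat 1, Int.ofNat 1, Int.ofNat 1, Int.negSucc 0, Int.negSucc 0, Int.ofNat 1, Int.ofNat 1, Int.ofNat 1, Int.ofNat 3, Int.negSucc 0, Int.negSucc 0, Int.ofNat 1, Int.negSucc 0, Int.negSucc 0, Int.ofNat 1, Int.ofNat 1, Int.ofNat 1, Int.negSucc 0, Int.ofNat 1, Int.ofNat 1],
  [Int.ofNat 1, Int.ofNat 1, Int.ofNat 1, Int.ofNat 1, Int.ofNat 1, Int.ofNat 1, Int.ofNat 1, Int.negSucc 0, Int.negSucc 2, Int.negSucc 0, Int.negSucc 0, Int.negSucc 0, Int.ofNat 1, Int.negSucc 0, Int.negSucc 0, Int.negSucc 0, Int.negSucc 0, Int.negSucc 0, Int.negSucc 0, Int.ofNat 1, Int.negSucc 0, Int.negSucc 0, Int.ofNat 1, Int.ofNat 1],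
  [Int.ofNat 1, Int.negSucc 0, Int.ofNat 1, Int.ofNat 1, Int.ofNat 1, Int.negSucc 0, Int.ofNat 1, Int.ofNat 1, Int.negSucc 0, Int.ofNat 1, Int.negSucc 0, Int.ofNat 1, Int.negSucc 2, Int.negSucc 0, Int.negSucc 0, Int.negSucc 0, Int.negSucc 0, Int.negSucc 0, Int.ofNat 1, Int.ofNat 1, Int.negSucc 0, Int.negSucc 0, Int.negSucc 0, Int.ofNat 1],
  [Int.ofNat 0, Int.ofNat 2, Int.ofNat 0, Int.ofNat 2, Int.ofNat 2, Int.ofNat 0, Int.ofNat 0, Int.ofNat 0, Int.ofNat 0, Int.ofNat 2, Int.ofNat 0, Int.ofNat 2, Int.negSucc 1, Int.ofNat 0, Int.ofNat 0, Int.ofNat 0, Int.ofNat 0, Int.ofNat 0, Int.ofNat 2, Int.ofNat 0, Int.ofNat 0, Int.negSucc 1, Int.ofNat 0, Int.ofNat 0],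
  [Int.ofNat 0, Int.negSucc 1, Int.ofNat 0, Int.ofNat 0, Int.ofNat 2, Int.ofNat 0, Int.ofNat 2, Int.ofNat 2, Int.ofNat 0, Int.ofNat 0, Int.ofNat 0, Int.ofNat 0, Int.ofNat 2, Int.ofNat 0, Int.ofNat 2, Int.negSucc 1, Int.ofNat 0, Int.ofNat 0, Int.ofNat 0, Int.ofNat 0, Int.ofNat 0, Int.ofNat 2, Int.ofNat 0, Int.ofNat 0],
  [Int.negSucc 0, Int.ofNat 1, Int.negSucc 0, Int.negSucc 0, Int.ofNat 1, Int.negSucc 0, Int.negSucc 0, Int.negSucc 0, Int.negSucc 0, Int.ofNat 1, Int.ofNat 1, Int.negSucc 0, Int.ofNat 1, Int.negSucc 0, Int.ofNat 1, Int.negSucc 0, Int.negSucc 0, Int.negSucc 0, Int.negSucc 0, Int.negSucc 2, Int.ofNat 1, Int.negSucc 0, Int.negSucc 0, Int.negSucc 0],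
  [Int.ofNat 1, Int.negSucc 0, Int.negSucc 0, Int.ofNat 1, Int.negSucc 0, Int.negSucc 0, Int.negSucc 0, Int.negSucc 0, Int.ofNat 1, Int.ofNat 1, Int.negSucc 0, Int.ofNat 1, Int.negSucc 0, Int.ofNat 1, Int.negSucc 0, Int.negSucc 0, Int.negSucc 0, Int.negSucc 0, Int.negSucc 2, Int.ofNat 1, Int.negSucc 0, Int.negSucc 0, Int.negSucc 0, Int.negSucc 0],
  [Int.negSucc 0, Int.negSucc 0, Int.ofNat 1, Int.ofNat 1, Int.negSucc 0, Int.negSucc 0, Int.negSucc 0, Int.ofNat 1, Int.ofNat 1, Int.negSucc 0, Int.ofNat 1, Int.negSucc 0, Int.negSucc 0, Int.ofNat 1, Int.negSucc 0, Int.negSucc 0, Int.negSucc 0, Int.negSucc 0, Int.ofNat 3, Int.ofNat 1, Int.negSucc 0, Int.ofNat 1, Int.negSucc 0, Int.negSucc 0],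
  [Int.negSucc 0, Int.ofNat 1, Int.ofNat 3, Int.ofNat 1, Int.negSucc 0, Int.ofNat 1, Int.negSucc 0, Int.negSucc 0, Int.negSucc 0, Int.negSucc 0, Int.ofNat 1, Int.negSucc 0, Int.ofNat 1, Int.ofNat 1, Int.ofNat 1, Int.negSucc 0, Int.negSucc 0, Int.negSucc 0, Int.negSucc 0, Int.negSucc 0, Int.negSucc 0, Int.ofNat 1, Int.negSucc 0, Int.negSucc 0],
  [Int.ofNat 1, Int.ofNat 1, Int.negSucc 2, Int.ofNat 1, Int.negSucc 0, Int.ofNat 1, Int.negSucc 0, Int.ofNat 1, Int.negSucc 0, Int.ofNat 1, Int.negSucc 0, Int.ofNat 1, Int.ofNat 1, Int.ofNat 1, Int.ofNat 1, Int.negSucc 0, Int.negSucc 0, Int.negSucc 0, Int.ofNat 1, Int.negSucc 0, Int.negSucc 0, Int.negSucc 0, Int.negSucc 0, Int.negSucc 0],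
  [Int.negSucc 0, Int.ofNat 1, Int.ofNat 1, Int.negSucc 2, Int.ofNat 1, Int.negSucc 0, Int.ofNat 1, Int.negSucc 0, Int.ofNat 1, Int.negSucc 0, Int.ofNat 1, Int.negSucc 0, Int.ofNat 1, Int.ofNat 1, Int.ofNat 1, Int.ofNat 1, Int.negSucc 0, Int.negSucc 0, Int.negSucc 0, Int.ofNat 1, Int.negSucc 0, Int.negSucc 0, Int.negSucc 0, Int.negSucc 0],
  [Int.ofNat 1, Int.negSucc 0, Int.negSucc 0, Int.negSucc 0, Int.ofNat 1, Int.ofNat 1, Int.ofNat 1, Int.negSucc 0, Int.ofNat 1, Int.negSucc 0, Int.ofNat 1, Int.negSucc 0, Int.ofNat 1, Int.ofNat 1, Int.ofNat 3, Int.ofNat 1, Int.negSucc 0, Int.ofNat 1, Int.negSucc 0, Int.ofNat 1, Int.negSucc 0, Int.negSucc 0, Int.negSucc 0, Int.ofNat 1],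
  [Int.negSucc 0, Int.ofNat 1, Int.ofNat 1, Int.ofNat 1, Int.negSucc 0, Int.ofNat 1, Int.negSucc 0, Int.ofNat 1, Int.negSucc 0, Int.ofNat 1, Int.ofNat 1, Int.ofNat 3, Int.ofNat 1, Int.negSucc 0, Int.ofNat 1, Int.negSucc 0, Int.ofNat 1, Int.negSucc 0, Int.negSucc 0, Int.negSucc 0, Int.ofNat 1, Int.negSucc 0, Int.negSucc 0, Int.ofNat 1],
  [Int.ofNat 2, Int.ofNat 0, Int.ofNat 0, Int.ofNat 0, Int.ofNat 0, Int.ofNat 0, Int.ofNat 0, Int.ofNat 2, Int.negSucc 1, Int.ofNat 0, Int.ofNat 0, Int.ofNat 2, Int.ofNat 0, Int.ofNat 0, Int.ofNat 0, Int.negSucc 1, Int.ofNat 2, Int.negSucc 1, Int.negSucc 1, Int.ofNat 0, Int.ofNat 0, Int.ofNat 0, Int.ofNat 0, Int.ofNat 0],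
  [Int.ofNat 2, Int.ofNat 0, Int.ofNat 0, Int.ofNat 0, Int.negSucc 1, Int.ofNat 2, Int.ofNat 0, Int.ofNat 0, Int.ofNat 0, Int.ofNat 0, Int.ofNat 0, Int.negSucc 1, Int.ofNat 0, Int.ofNat 2, Int.ofNat 0, Int.negSucc 1, Int.negSucc 1, Int.ofNat 0, Int.ofNat 0, Int.ofNat 2, Int.ofNat 0, Int.ofNat 0, Int.ofNat 0, Int.ofNat 0],
  [Int.negSucc 0, Int.ofNat 1, Int.ofNat 1, Int.negSucc 0, Int.negSucc 0, Int.ofNat 1, Int.negSucc 0, Int.negSucc 0, Int.ofNat 1, Int.ofNat 1, Int.ofNat 1, Int.negSucc 0, Int.ofNat 1, Int.ofNat 3, Int.negSucc 0, Int.negSucc 0, Int.negSucc 0, Int.negSucc 0, Int.ofNat 1, Int.ofNat 1, Int.ofNat 1, Int.negSucc 0, Int.ofNat 1, Int.ofNat 1],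
  [Int.negSucc 0, Int.ofNat 1, Int.negSucc 0, Int.negSucc 0, Int.negSucc 0, Int.negSucc 0, Int.ofNat 1, Int.negSucc 0, Int.ofNat 1, Int.negSucc 0, Int.negSucc 0, Int.negSucc 0, Int.ofNat 1, Int.ofNat 3, Int.negSucc 0, Int.ofNat 1, Int.negSucc 0, Int.negSucc 0, Int.negSucc 0, Int.ofNat 1, Int.ofNat 1, Int.negSucc 0, Int.negSucc 0, Int.ofNat 1],
  [Int.negSucc 0, Int.negSucc 0, Int.negSucc 0, Int.ofNat 1, Int.negSucc 0, Int.ofNat 1, Int.negSucc 0, Int.negSucc 0, Int.negSucc 0, Int.ofNat 1, Int.ofNat 3, Int.negSucc 0, Int.ofNat 1, Int.negSucc 0, Int.negSucc 0, Int.negSucc 0, Int.ofNat 1, Int.ofNat 1, Int.negSucc 0, Int.negSucc 0, Int.negSucc 0, Int.ofNat 1, Int.negSucc 0, Int.ofNat 1],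
  [Int.ofNat 1, Int.ofNat 1, Int.ofNat 1, Int.negSucc 0, Int.ofNat 1, Int.ofNat 1, Int.ofNat 1, Int.negSucc 0, Int.ofNat 1, Int.negSucc 0, Int.ofNat 3, Int.negSucc 0, Int.negSucc 0, Int.ofNat 1, Int.negSucc 0, Int.negSucc 0, Int.negSucc 0, Int.ofNat 1, Int.ofNat 1, Int.negSucc 0, Int.negSucc 0, Int.ofNat 1, Int.negSucc 0, Int.ofNat 1],
  [Int.ofNat 1, Int.negSucc 0, Int.negSucc 0, Int.negSucc 0, Int.ofNat 1, Int.negSucc 0, Int.negSucc 0, Int.ofNat 1, Int.negSucc 0, Int.ofNat 1, Int.negSucc 0, Int.ofNat 1, Int.ofNat 1, Int.negSucc 0, Int.ofNat 1, Int.negSucc 0, Int.ofNat 3, Int.ofNat 1, Int.negSucc 0, Int.ofNat 1, Int.ofNat 1, Int.negSucc 0, Int.ofNat 1, Int.ofNat 1],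
  [Int.negSucc 0, Int.negSucc 0, Int.ofNat 1, Int.negSucc 0, Int.ofNat 1, Int.negSucc 0, Int.negSucc 0, Int.negSucc 0, Int.negSucc 0, Int.negSucc 0, Int.ofNat 1, Int.negSucc 0, Int.ofNat 1, Int.negSucc 0, Int.ofNat 1, Int.negSucc 0, Int.ofNat 3, Int.ofNat 1, Int.ofNat 1, Int.ofNat 1, Int.ofNat 1, Int.ofNat 1, Int.ofNat 1, Int.ofNat 1],
  [Int.ofNat 1, Int.negSucc 0, Int.negSucc 0, Int.ofNat 1, Int.negSucc 0, Int.ofNat 1, Int.negSucc 0, Int.negSucc 0, Int.negSucc 0, Int.negSucc 0, Int.negSucc 0, Int.ofNat 1, Int.negSucc 0, Int.ofNat 1, Int.negSucc 0, Int.ofNat 1, Int.negSucc 0, Int.ofNat 3, Int.ofNat 1, Int.ofNat 1, Int.ofNat 1, Int.ofNat 1, Int.ofNat 1, Int.ofNat 1],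
  [Int.negSucc 0, Int.ofNat 1, Int.ofNat 1, Int.negSucc 0, Int.negSucc 0, Int.negSucc 0, Int.negSucc 0, Int.negSucc 0, Int.negSucc 0, Int.negSucc 0, Int.negSucc 0, Int.ofNat 1, Int.negSucc 0, Int.ofNat 1, Int.negSucc 2, Int.ofNat 1, Int.negSucc 0, Int.ofNat 1, Int.ofNat 1, Int.ofNat 1, Int.ofNat 1, Int.ofNat 1, Int.ofNat 1, Int.negSucc 0],
  [Int.negSucc 0, Int.negSucc 0, Int.negSucc 0, Int.negSucc 0, Int.negSucc 0, Int.negSucc 0, Int.negSucc 0, Int.negSucc 0, Int.ofNat 1, Int.negSucc 0, Int.ofNat 1, Int.negSucc 2, Int.ofNat 1, Int.negSucc 0, Int.ofNat 1, Int.ofNat 1, Int.ofNat 1, Int.ofNat 1, Int.ofNat 1, Int.ofNat 1, Int.negSucc 0, Int.ofNat 1, Int.ofNat 1, Int.negSucc 0],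
  [Int.negSucc 0, Int.negSucc 0, Int.negSucc 0, Int.negSucc 0, Int.negSucc 0, Int.negSucc 0, Int.negSucc 0, Int.negSucc 0, Int.ofNat 1, Int.negSucc 0, Int.ofNat 1, Int.negSucc 2, Int.ofNat 1, Int.negSucc 0, Int.ofNat 1, Int.ofNat 1, Int.ofNat 1, Int.ofNat 1, Int.ofNat 1, Int.ofNat 1, Int.negSucc 0, Int.ofNat 1, Int.ofNat 1, Int.negSucc 0],
  [Int.negSucc 0, Int.negSucc 0, Int.negSucc 0, Int.negSucc 0, Int.ofNat 1, Int.negSucc 0, Int.negSucc 0, Int.ofNat 1, Int.ofNat 1, Int.negSucc 0, Int.negSucc 0, Int.ofNat 1, Int.negSucc 0, Int.ofNat 1, Int.ofNat 1, Int.ofNat 1, Int.ofNat 1, Int.ofNat 1, Int.negSucc 0, Int.negSucc 2, Int.ofNat 1, Int.negSucc 0, Int.ofNat 1, Int.negSucc 0],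
  [Int.negSucc 0, Int.negSucc 0, Int.negSucc 0, Int.negSucc 0, Int.negSucc 0, Int.negSucc 0, Int.ofNat 1, Int.ofNat 3, Int.ofNat 1, Int.negSucc 0, Int.negSucc 0, Int.ofNat 1, Int.negSucc 0, Int.negSucc 0, Int.ofNat 1, Int.ofNat 1, Int.negSucc 0, Int.ofNat 1, Int.negSucc 0, Int.negSucc 0, Int.ofNat 1, Int.ofNat 1, Int.negSucc 0, Int.negSucc 0],
  [Int.negSucc 0, Int.negSucc 0, Int.ofNat 1, Int.negSucc 0, Int.negSucc 0, Int.ofNat 1, Int.negSucc 0, Int.ofNat 3, Int.ofNat 1, Int.ofNat 1, Int.ofNat 1, Int.ofNat 1, Int.negSucc 0, Int.negSucc 0, Int.ofNat 1, Int.negSucc 0, Int.negSucc 0, Int.ofNat 1, Int.ofNat 1, Int.negSucc 0, Int.ofNat 1, Int.ofNat 1, Int.ofNat 1, Int.negSucc 0],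
  [Int.negSucc 0, Int.ofNat 1, Int.negSucc 0, Int.ofNat 1, Int.negSucc 0, Int.negSucc 0, Int.ofNat 1, Int.ofNat 1, Int.ofNat 1, Int.ofNat 1, Int.negSucc 0, Int.ofNat 1, Int.ofNat 1, Int.negSucc 0, Int.negSucc 0, Int.ofNat 1, Int.negSucc 0, Int.ofNat 3, Int.negSucc 0, Int.negSucc 0, Int.ofNat 1, Int.ofNat 1, Int.ofNat 1, Int.negSucc 0],
  [Int.negSucc 0, Int.ofNat 1, Int.ofNat 1, Int.ofNat 1, Int.negSucc 0, Int.ofNat 1, Int.negSucc 0, Int.ofNat 1, Int.ofNat 1, Int.negSucc 0, Int.ofNat 1, Int.ofNat 1, Int.ofNat 1, Int.negSucc 0, Int.negSucc 0, Int.negSucc 0, Int.negSucc 0, Int.ofNat 3, Int.ofNat 1, Int.negSucc 0, Int.ofNat 1, Int.ofNat 1, Int.negSucc 0, Int.negSucc 0],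
  [Int.ofNat 1, Int.negSucc 0, Int.negSucc 0, Int.negSucc 0, Int.ofNat 1, Int.negSucc 0, Int.negSucc 0, Int.ofNat 1, Int.negSucc 0, Int.negSucc 0, Int.ofNat 1, Int.negSucc 0, Int.negSucc 0, Int.ofNat 1, Int.negSucc 2, Int.negSucc 0, Int.ofNat 1, Int.ofNat 1, Int.negSucc 0, Int.negSucc 0, Int.ofNat 1, Int.ofNat 1, Int.ofNat 1, Int.ofNat 1],
  [Int.ofNat 1, Int.negSucc 0, Int.negSucc 0, Int.negSucc 0, Int.negSucc 0, Int.ofNat 1, Int.negSucc 0, Int.negSucc 0, Int.ofNat 1, Int.negSucc 0, Int.ofNat 1, Int.negSucc 0, Int.negSucc 0, Int.negSucc 0, Int.ofNat 1, Int.negSucc 0, Int.ofNat 1, Int.negSucc 0, Int.ofNat 1, Int.ofNat 1, Int.ofNat 1, Int.ofNat 1, Int.negSucc 2, Int.ofNat 1],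
  [Int.negSucc 0, Int.ofNat 1, Int.ofNat 1, Int.negSucc 0, Int.ofNat 1, Int.ofNat 1, Int.negSucc 0, Int.negSucc 0, Int.ofNat 1, Int.negSucc 0, Int.ofNat 1, Int.negSucc 0, Int.negSucc 0, Int.ofNat 1, Int.ofNat 1, Int.negSucc 0, Int.ofNat 3, Int.negSucc 0, Int.ofNat 1, Int.ofNat 1, Int.ofNat 1, Int.ofNat 1, Int.negSucc 0, Int.negSucc 0],
  [Int.ofNat 1, Int.ofNat 1, Int.negSucc 0, Int.negSucc 0, Int.ofNat 1, Int.ofNat 1, Int.negSucc 0, Int.ofNat 1, Int.ofNat 1, Int.negSucc 0, Int.negSucc 0, Int.ofNat 1, Int.negSucc 0, Int.ofNat 1, Int.negSucc 0, Int.negSucc 0, Int.ofNat 1, Int.ofNat 1, Int.negSucc 0, Int.ofNat 3, Int.negSucc 0, Int.ofNat 1, Int.ofNat 1, Int.negSucc 0],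
  [Int.negSucc 0, Int.negSucc 0, Int.ofNat 1, Int.negSucc 0, Int.negSucc 0, Int.ofNat 1, Int.negSucc 2, Int.negSucc 0, Int.ofNat 1, Int.ofNat 1, Int.ofNat 1, Int.ofNat 1, Int.negSucc 0, Int.negSucc 0, Int.negSucc 0, Int.ofNat 1, Int.negSucc 0, Int.ofNat 1, Int.negSucc 0, Int.ofNat 1, Int.ofNat 1, Int.negSucc 0, Int.negSucc 0, Int.ofNat 1],
  [Int.negSucc 0, Int.ofNat 1, Int.negSucc 0, Int.negSucc 0, Int.ofNat 1, Int.negSucc 2, Int.negSucc 0, Int.ofNat 1, Int.ofNat 1, Int.ofNat 1, Int.ofNat 1, Int.negSucc 0, Int.negSucc 0, Int.negSucc 0, Int.ofNat 1, Int.negSucc 0, Int.ofNat 1, Int.negSucc 0, Int.ofNat 1, Int.ofNat 1, Int.negSucc 0, Int.negSucc 0, Int.negSucc 0, Int.ofNat 1],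
  [Int.ofNat 1, Int.ofNat 1, Int.ofNat 1, Int.negSucc 0, Int.ofNat 1, Int.negSucc 2, Int.negSucc 0, Int.negSucc 0, Int.ofNat 1, Int.negSucc 0, Int.negSucc 0, Int.ofNat 1, Int.negSucc 0, Int.negSucc 0, Int.ofNat 1, Int.negSucc 0, Int.ofNat 1, Int.negSucc 0, Int.negSucc 0, Int.ofNat 1, Int.negSucc 0, Int.ofNat 1, Int.negSucc 0, Int.ofNat 1]]

set_option maxRecDepth 100000 in
theorem c1et6_chk : pmChk (List.replicate 14 [6, 0, 25, 26]).flatten nxL c1et6M 0 0 = true := by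
  decide +kernel

theorem c1et6_ne : wE letE2 (List.replicate 14 [6, 0, 25, 26]).flatten ≠ 1 ∧ wE letE2 (List.replicate 14 [6, 0, 25, 26]).flatten ≠ negElt :=
  ne_pm_of_chk nxL_mem c1et6_chk

set_option maxRecDepth 100000 in
def c1et7M : List (List ℤ) :=
  [[Int.negSucc 3, Int.ofNat 0, Int.ofNat 0, Int.ofNat 0, Int.ofNat 0, Int.ofNat 0, Int.ofNat 0, Int.ofNat 0, Int.ofNat 0, Int.ofNat 0, Int.ofNat 0, Int.ofNat 0, Int.ofNat 0, Int.ofNat 0, Int.ofNat 0, Int.ofNat 0, Int.ofNat 0, Int.ofNat 0, Int.ofNat 0, Int.ofNat 0, Int.ofNat 0, Int.ofNat 0, Int.ofNat 0, Int.ofNat 4],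
  [Int.ofNat 4, Int.ofNat 0, Int.ofNat 0, Int.ofNat 0, Int.ofNat 0, Int.ofNat 0, Int.ofNat 0, Int.ofNat 0, Int.ofNat 0, Int.ofNat 0, Int.ofNat 0, Int.ofNat 0, Int.ofNat 0, Int.ofNat 0, Int.ofNat 0, Int.ofNat 0, Int.ofNat 0, Int.ofNat 0, Int.ofNat 0, Int.ofNat 0, Int.ofNat 0, Int.ofNat 0, Int.ofNat 0, Int.ofNat 4],
  [Int.ofNat 0, Int.ofNat 4, Int.ofNat 0, Int.ofNat 0, Int.ofNat 0, Int.ofNat 0, Int.ofNat 0, Int.ofNat 0, Int.ofNat 0, Int.ofNat 0, Int.ofNat 0, Int.ofNat 0, Int.ofNat 0, Int.ofNat 0, Int.ofNat 0, Int.ofNat 0, Int.ofNat 0, Int.ofNat 0, Int.ofNat 0, Int.ofNat 0, Int.ofNat 0, Int.ofNat 0, Int.ofNat 0, Int.ofNat 4],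
  [Int.ofNat 4, Int.ofNat 0, Int.ofNat 4, Int.ofNat 0, Int.ofNat 0, Int.ofNat 0, Int.ofNat 0, Int.ofNat 0, Int.ofNat 0, Int.ofNat 0, Int.ofNat 0, Int.ofNat 0, Int.ofNat 0, Int.ofNat 0, Int.ofNat 0, Int.ofNat 0, Int.ofNat 0, Int.ofNat 0, Int.ofNat 0, Int.ofNat 0, Int.ofNat 0, Int.ofNat 0, Int.ofNat 0, Int.ofNat 0],
  [Int.ofNat 0, Int.ofNat 0, Int.ofNat 0, Int.ofNat 0, Int.ofNat 0, Int.ofNat 0, Int.ofNat 0, Int.ofNat 0, Int.ofNat 0, Int.ofNat 0, Int.ofNat 0, Int.ofNat 0, Int.ofNat 0, Int.ofNat 0, Int.ofNat 0, Int.ofNat 0, Int.ofNat 0, Int.ofNat 0, Int.ofNat 0, Int.ofNat 0, Int.ofNat 4, Int.ofNat 0, Int.ofNat 4, Int.ofNat 0],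
  [Int.ofNat 0, Int.ofNat 0, Int.ofNat 0, Int.ofNat 0, Int.negSucc 1, Int.ofNat 0, Int.ofNat 0, Int.ofNat 0, Int.ofNat 0, Int.negSucc 1, Int.negSucc 1, Int.ofNat 0, Int.ofNat 0, Int.negSucc 1, Int.ofNat 0, Int.negSucc 1, Int.negSucc 1, Int.ofNat 0, Int.ofNat 0, Int.ofNat 0, Int.ofNat 2, Int.ofNat 0, Int.ofNat 2, Int.ofNat 0],
  [Int.ofNat 0, Int.ofNat 0, Int.negSucc 1, Int.ofNat 0, Int.ofNat 0, Int.ofNat 0, Int.ofNat 0, Int.negSucc 1, Int.ofNat 0, Int.negSucc 1, Int.ofNat 2, Int.ofNat 0, Int.negSucc 1, Int.negSucc 1, Int.ofNat 2, Int.negSucc 1, Int.ofNat 0, Int.ofNat 0, Int.ofNat 0, Int.ofNat 0, Int.ofNat 0, Int.ofNat 0, Int.ofNat 0, Int.ofNat 0],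
  [Int.negSucc 0, Int.negSucc 0, Int.ofNat 1, Int.negSucc 0, Int.ofNat 1, Int.negSucc 0, Int.ofNat 1, Int.negSucc 0, Int.ofNat 1, Int.negSucc 0, Int.ofNat 3, Int.ofNat 1, Int.negSucc 0, Int.negSucc 0, Int.ofNat 1, Int.negSucc 0, Int.ofNat 1, Int.negSucc 0, Int.ofNat 1, Int.ofNat 1, Int.ofNat 1, Int.ofNat 1, Int.ofNat 1, Int.negSucc 0],
  [Int.negSucc 0, Int.negSucc 0, Int.negSucc 0, Int.negSucc 0, Int.ofNat 1, Int.ofNat 1, Int.negSucc 0, Int.negSucc 0, Int.ofNat 1, Int.ofNat 1, Int.negSucc 2, Int.ofNat 1, Int.negSucc 0, Int.negSucc 0, Int.ofNat 1, Int.ofNat 1, Int.ofNat 1, Int.negSucc 0, Int.negSucc 0, Int.ofNat 1, Int.ofNat 1, Int.ofNat 1, Int.negSucc 0, Int.negSucc 0],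
  [Int.negSucc 2, Int.ofNat 1, Int.ofNat 1, Int.ofNat 1, Int.ofNat 1, Int.negSucc 0, Int.ofNat 1, Int.negSucc 0, Int.ofNat 1, Int.ofNat 1, Int.negSucc 0, Int.negSucc 0, Int.ofNat 1, Int.ofNat 1, Int.negSucc 0, Int.negSucc 0, Int.ofNat 1, Int.negSucc 0, Int.ofNat 1, Int.negSucc 0, Int.negSucc 0, Int.negSucc 0, Int.negSucc 0, Int.negSucc 0],
  [Int.ofNat 3, Int.negSucc 0, Int.negSucc 0, Int.negSucc 0, Int.negSucc 0, Int.negSucc 0, Int.negSucc 0, Int.negSucc 0, Int.negSucc 0, Int.negSucc 0, Int.negSucc 0, Int.negSucc 0, Int.negSucc 0, Int.negSucc 0, Int.negSucc 0, Int.negSucc 0, Int.negSucc 0, Int.negSucc 0, Int.negSucc 0, Int.negSucc 0, Int.negSucc 0, Int.negSucc 0, Int.negSucc 0, Int.negSucc 0],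
  [Int.negSucc 0, Int.negSucc 0, Int.negSucc 0, Int.negSucc 0, Int.negSucc 0, Int.negSucc 0, Int.negSucc 0, Int.negSucc 0, Int.negSucc 0, Int.negSucc 0, Int.negSucc 0, Int.negSucc 0, Int.negSucc 0, Int.negSucc 0, Int.negSucc 0, Int.negSucc 0, Int.negSucc 0, Int.negSucc 0, Int.negSucc 0, Int.negSucc 0, Int.negSucc 0, Int.negSucc 0, Int.negSucc 0, Int.ofNat 3],
  [Int.ofNat 1, Int.negSucc 0, Int.ofNat 1, Int.negSucc 0, Int.negSucc 0, Int.negSucc 0, Int.negSucc 0, Int.ofNat 1, Int.negSucc 0, Int.ofNat 1, Int.ofNat 1, Int.ofNat 1, Int.negSucc 0, Int.negSucc 0, Int.negSucc 0, Int.negSucc 0, Int.negSucc 0, Int.negSucc 0, Int.ofNat 1, Int.negSucc 0, Int.negSucc 0, Int.ofNat 1, Int.negSucc 0, Int.ofNat 3],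
  [Int.negSucc 0, Int.ofNat 1, Int.negSucc 0, Int.ofNat 1, Int.negSucc 0, Int.negSucc 0, Int.negSucc 0, Int.negSucc 0, Int.ofNat 1, Int.negSucc 0, Int.ofNat 1, Int.ofNat 1, Int.ofNat 1, Int.negSucc 0, Int.negSucc 0, Int.negSucc 0, Int.negSucc 0, Int.negSucc 0, Int.negSucc 0, Int.ofNat 1, Int.negSucc 0, Int.negSucc 0, Int.ofNat 1, Int.ofNat 3],
  [Int.ofNat 2, Int.ofNat 0, Int.ofNat 2, Int.ofNat 2, Int.ofNat 0, Int.ofNat 0, Int.ofNat 0, Int.ofNat 0, Int.ofNat 0, Int.ofNat 0, Int.ofNat 2, Int.ofNat 0, Int.ofNat 0, Int.ofNat 0, Int.ofNat 0, Int.ofNat 0, Int.ofNat 0, Int.ofNat 0, Int.negSucc 1, Int.ofNat 2, Int.ofNat 0, Int.ofNat 0, Int.ofNat 2, Int.negSucc 1],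
  [Int.ofNat 2, Int.ofNat 0, Int.ofNat 0, Int.ofNat 0, Int.ofNat 0, Int.ofNat 0, Int.ofNat 0, Int.ofNat 2, Int.ofNat 0, Int.ofNat 0, Int.ofNat 0, Int.ofNat 0, Int.ofNat 0, Int.ofNat 0, Int.ofNat 0, Int.negSucc 1, Int.ofNat 2, Int.ofNat 0, Int.ofNat 0, Int.ofNat 2, Int.ofNat 2, Int.ofNat 0, Int.ofNat 2, Int.negSucc 1],
  [Int.negSucc 1, Int.ofNat 0, Int.ofNat 0, Int.ofNat 0, Int.negSucc 1, Int.ofNat 0, Int.negSucc 1, Int.ofNat 0, Int.ofNat 0, Int.ofNat 0, Int.ofNat 0, Int.ofNat 0, Int.ofNat 0, Int.negSucc 1, Int.ofNat 0, Int.negSucc 1, Int.ofNat 0, Int.ofNat 0, Int.ofNat 0, Int.ofNat 0, Int.ofNat 2, Int.negSucc 1, Int.ofNat 0, Int.ofNat 2],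
  [Int.negSucc 1, Int.negSucc 1, Int.negSucc 1, Int.ofNat 0, Int.ofNat 0, Int.ofNat 0, Int.ofNat 0, Int.ofNat 0, Int.ofNat 0, Int.negSucc 1, Int.ofNat 2, Int.ofNat 0, Int.ofNat 0, Int.ofNat 0, Int.ofNat 0, Int.negSucc 1, Int.ofNat 0, Int.ofNat 0, Int.ofNat 0, Int.ofNat 0, Int.negSucc 1, Int.ofNat 0, Int.ofNat 0, Int.ofNat 2],
  [Int.ofNat 0, Int.ofNat 0, Int.ofNat 0, Int.ofNat 0, Int.ofNat 0, Int.ofNat 0, Int.ofNat 0, Int.ofNat 0, Int.ofNat 0, Int.ofNat 0, Int.ofNat 4, Int.ofNat 0, Int.ofNat 0, Int.ofNat 0, Int.ofNat 0, Int.ofNat 0, Int.ofNat 0, Int.ofNat 0, Int.ofNat 0, Int.ofNat 0, Int.ofNat 0, Int.ofNat 0, Int.ofNat 0, Int.negSucc 3],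
  [Int.ofNat 0, Int.ofNat 0, Int.ofNat 0, Int.ofNat 0, Int.ofNat 0, Int.ofNat 0, Int.ofNat 0, Int.ofNat 0, Int.ofNat 0, Int.ofNat 0, Int.negSucc 3, Int.ofNat 0, Int.ofNat 0, Int.ofNat 0, Int.ofNat 0, Int.ofNat 0, Int.ofNat 0, Int.ofNat 0, Int.ofNat 0, Int.ofNat 0, Int.ofNat 0, Int.ofNat 0, Int.ofNat 0, Int.negSucc 3],
  [Int.ofNat 0, Int.ofNat 0, Int.ofNat 0, Int.ofNat 0, Int.ofNat 0, Int.ofNat 0, Int.ofNat 0, Int.ofNat 0, Int.ofNat 0, Int.ofNat 0, Int.ofNat 0, Int.ofNat 0, Int.ofNat 0, Int.ofNat 0, Int.ofNat 0, Int.ofNat 0, Int.ofNat 0, Int.ofNat 0, Int.negSucc 3, Int.ofNat 0, Int.ofNat 0, Int.ofNat 0, Int.ofNat 0, Int.negSucc 3],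
  [Int.ofNat 0, Int.ofNat 0, Int.ofNat 0, Int.ofNat 0, Int.ofNat 0, Int.ofNat 0, Int.ofNat 0, Int.ofNat 0, Int.ofNat 0, Int.ofNat 0, Int.ofNat 0, Int.ofNat 0, Int.ofNat 0, Int.ofNat 0, Int.ofNat 0, Int.ofNat 0, Int.ofNat 0, Int.ofNat 0, Int.ofNat 4, Int.ofNat 0, Int.ofNat 0, Int.ofNat 0, Int.ofNat 0, Int.negSucc 3],
  [Int.negSucc 1, Int.negSucc 1, Int.negSucc 1, Int.ofNat 0, Int.ofNat 0, Int.ofNat 0, Int.ofNat 0, Int.ofNat 0, Int.negSucc 1, Int.ofNat 0, Int.ofNat 0, Int.negSucc 1, Int.negSucc 1, Int.ofNat 0, Int.ofNat 0, Int.ofNat 0, Int.ofNat 0, Int.ofNat 0, Int.ofNat 2, Int.ofNat 0, Int.ofNat 0, Int.ofNat 0, Int.ofNat 0, Int.ofNat 2],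
  [Int.negSucc 1, Int.ofNat 2, Int.ofNat 0, Int.ofNat 0, Int.negSucc 1, Int.ofNat 0, Int.negSucc 1, Int.ofNat 0, Int.ofNat 0, Int.negSucc 1, Int.ofNat 0, Int.ofNat 0, Int.negSucc 1, Int.ofNat 0, Int.ofNat 0, Int.ofNat 0, Int.ofNat 0, Int.negSucc 1, Int.ofNat 0, Int.ofNat 0, Int.ofNat 0, Int.ofNat 0, Int.ofNat 0, Int.ofNat 2],
  [Int.ofNat 3, Int.negSucc 0, Int.ofNat 1, Int.ofNat 1, Int.negSucc 0, Int.ofNat 1, Int.negSucc 0, Int.ofNat 1, Int.ofNat 1, Int.negSucc 0, Int.ofNat 1, Int.ofNat 1, Int.negSucc 0, Int.ofNat 1, Int.ofNat 1, Int.ofNat 1, Int.ofNat 1, Int.negSucc 0, Int.ofNat 1, Int.ofNat 1, Int.ofNat 1, Int.ofNat 1, Int.ofNat 1, Int.negSucc 0],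
  [Int.ofNat 1, Int.ofNat 1, Int.ofNat 1, Int.ofNat 3, Int.negSucc 0, Int.ofNat 1, Int.ofNat 1, Int.negSucc 0, Int.ofNat 1, Int.negSucc 0, Int.ofNat 1, Int.ofNat 1, Int.negSucc 0, Int.ofNat 1, Int.ofNat 1, Int.negSucc 0, Int.ofNat 1, Int.ofNat 1, Int.ofNat 1, Int.ofNat 1, Int.negSucc 0, Int.ofNat 1, Int.ofNat 1, Int.negSucc 0],
  [Int.ofNat 0, Int.ofNat 0, Int.ofNat 0, Int.ofNat 0, Int.negSucc 1, Int.negSucc 1, Int.ofNat 0, Int.negSucc 1, Int.ofNat 0, Int.ofNat 0, Int.ofNat 2, Int.ofNat 0, Int.negSucc 1, Int.ofNat 0, Int.negSucc 1, Int.ofNat 0, Int.ofNat 0, Int.negSucc 1, Int.ofNat 0, Int.ofNat 0, Int.ofNat 0, Int.ofNat 0, Int.ofNat 0, Int.ofNat 2],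
  [Int.ofNat 0, Int.ofNat 0, Int.ofNat 0, Int.negSucc 1, Int.negSucc 1, Int.ofNat 0, Int.negSucc 1, Int.ofNat 0, Int.ofNat 0, Int.ofNat 2, Int.ofNat 0, Int.negSucc 1, Int.ofNat 0, Int.negSucc 1, Int.ofNat 0, Int.ofNat 0, Int.negSucc 1, Int.ofNat 0, Int.ofNat 0, Int.ofNat 0, Int.ofNat 0, Int.ofNat 0, Int.ofNat 0, Int.ofNat 2],
  [Int.ofNat 0, Int.ofNat 0, Int.ofNat 0, Int.negSucc 1, Int.negSucc 1, Int.ofNat 0, Int.negSucc 1, Int.ofNat 0, Int.ofNat 0, Int.negSucc 1, Int.ofNat 0, Int.ofNat 2, Int.ofNat 0, Int.negSucc 1, Int.ofNat 0, Int.ofNat 0, Int.negSucc 1, Int.ofNat 0, Int.ofNat 0, Int.ofNat 0, Int.ofNat 0, Int.ofNat 0, Int.ofNat 0, Int.ofNat 2],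
  [Int.ofNat 0, Int.ofNat 0, Int.ofNat 0, Int.negSucc 1, Int.ofNat 0, Int.ofNat 0, Int.negSucc 1, Int.ofNat 0, Int.negSucc 1, Int.negSucc 1, Int.ofNat 0, Int.ofNat 0, Int.negSucc 1, Int.ofNat 0, Int.ofNat 0, Int.ofNat 0, Int.ofNat 0, Int.ofNat 0, Int.negSucc 1, Int.ofNat 0, Int.ofNat 0, Int.ofNat 0, Int.ofNat 2, Int.ofNat 2],
  [Int.ofNat 0, Int.ofNat 0, Int.ofNat 0, Int.negSucc 1, Int.ofNat 0, Int.ofNat 0, Int.negSucc 1, Int.ofNat 0, Int.negSucc 1, Int.ofNat 2, Int.ofNat 0, Int.ofNat 0, Int.negSucc 1, Int.ofNat 0, Int.ofNat 0, Int.ofNat 0, Int.ofNat 0, Int.ofNat 0, Int.ofNat 2, Int.ofNat 0, Int.ofNat 0, Int.ofNat 0, Int.ofNat 2, Int.ofNat 2],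
  [Int.ofNat 2, Int.ofNat 0, Int.ofNat 0, Int.ofNat 0, Int.negSucc 1, Int.ofNat 0, Int.ofNat 0, Int.negSucc 1, Int.ofNat 0, Int.negSucc 1, Int.ofNat 2, Int.ofNat 0, Int.ofNat 0, Int.negSucc 1, Int.ofNat 0, Int.ofNat 0, Int.ofNat 0, Int.ofNat 0, Int.ofNat 0, Int.ofNat 2, Int.ofNat 0, Int.ofNat 0, Int.ofNat 0, Int.ofNat 2],
  [Int.ofNat 0, Int.ofNat 2, Int.ofNat 2, Int.ofNat 0, Int.ofNat 0, Int.ofNat 0, Int.ofNat 0, Int.negSucc 1, Int.ofNat 0, Int.negSucc 1, Int.ofNat 2, Int.ofNat 0, Int.ofNat 0, Int.ofNat 0, Int.ofNat 0, Int.ofNat 0, Int.ofNat 2, Int.ofNat 0, Int.ofNat 0, Int.ofNat 2, Int.ofNat 0, Int.ofNat 0, Int.ofNat 2, Int.ofNat 0],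
  [Int.ofNat 0, Int.ofNat 0, Int.ofNat 0, Int.ofNat 0, Int.negSucc 1, Int.ofNat 0, Int.negSucc 1, Int.ofNat 2, Int.ofNat 0, Int.ofNat 0, Int.ofNat 0, Int.ofNat 0, Int.ofNat 0, Int.ofNat 2, Int.ofNat 0, Int.ofNat 0, Int.ofNat 2, Int.ofNat 0, Int.ofNat 0, Int.ofNat 2, Int.ofNat 0, Int.ofNat 2, Int.ofNat 2, Int.ofNat 0],
  [Int.ofNat 0, Int.ofNat 0, Int.ofNat 0, Int.ofNat 0, Int.negSucc 3, Int.ofNat 0, Int.negSucc 3, Int.ofNat 0, Int.ofNat 0, Int.ofNat 0, Int.ofNat 0, Int.ofNat 0, Int.ofNat 0, Int.ofNat 0, Int.ofNat 0, Int.ofNat 0, Int.ofNat 0, Int.ofNat 0, Int.ofNat 0, Int.ofNat 0, Int.ofNat 0, Int.ofNat 0, Int.ofNat 0, Int.ofNat 0],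
  [Int.ofNat 0, Int.negSucc 3, Int.negSucc 3, Int.ofNat 0, Int.ofNat 0, Int.ofNat 0, Int.ofNat 0, Int.ofNat 0, Int.ofNat 0, Int.ofNat 0, Int.ofNat 0, Int.ofNat 0, Int.ofNat 0, Int.ofNat 0, Int.ofNat 0, Int.ofNat 0, Int.ofNat 0, Int.ofNat 0, Int.ofNat 0, Int.ofNat 0, Int.ofNat 0, Int.ofNat 0, Int.ofNat 0, Int.ofNat 0],
  [Int.negSucc 3, Int.ofNat 0, Int.ofNat 0, Int.ofNat 0, Int.ofNat 0, Int.ofNat 0, Int.ofNat 0, Int.ofNat 0, Int.ofNat 0, Int.ofNat 0, Int.ofNat 0, Int.ofNat 0, Int.ofNat 0, Int.ofNat 0, Int.ofNat 0, Int.ofNat 0, Int.ofNat 0, Int.ofNat 0, Int.ofNat 0, Int.ofNat 0, Int.ofNat 0, Int.ofNat 0, Int.ofNat 0, Int.negSucc 3],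
  [Int.negSucc 3, Int.ofNat 0, Int.ofNat 0, Int.ofNat 0, Int.ofNat 0, Int.ofNat 0, Int.ofNat 0, Int.ofNat 0, Int.ofNat 0, Int.ofNat 0, Int.ofNat 0, Int.ofNat 0, Int.ofNat 0, Int.ofNat 0, Int.ofNat 0, Int.ofNat 0, Int.ofNat 0, Int.ofNat 0, Int.ofNat 0, Int.ofNat 0, Int.ofNat 0, Int.ofNat 0, Int.ofNat 0, Int.negSucc 3],
  [Int.ofNat 0, Int.ofNat 0, Int.ofNat 0, Int.ofNat 0, Int.ofNat 0, Int.ofNat 0, Int.ofNat 0, Int.ofNat 0, Int.ofNat 0, Int.ofNat 0, Int.ofNat 0, Int.ofNat 0, Int.ofNat 0, Int.ofNat 0, Int.ofNat 0, Int.ofNat 0, Int.ofNat 0, Int.ofNat 0, Int.ofNat 0, Int.ofNat 0, Int.negSucc 3, Int.ofNat 0, Int.ofNat 0, Int.negSucc 3],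
  [Int.ofNat 0, Int.ofNat 0, Int.ofNat 0, Int.ofNat 0, Int.ofNat 0, Int.ofNat 0, Int.ofNat 0, Int.ofNat 0, Int.ofNat 0, Int.ofNat 0, Int.ofNat 0, Int.ofNat 0, Int.ofNat 0, Int.ofNat 0, Int.ofNat 0, Int.ofNat 0, Int.ofNat 0, Int.ofNat 0, Int.ofNat 0, Int.ofNat 0, Int.negSucc 3, Int.ofNat 0, Int.ofNat 0, Int.negSucc 3],
  [Int.negSucc 3, Int.ofNat 0, Int.ofNat 0, Int.ofNat 0, Int.ofNat 0, Int.ofNat 0, Int.ofNat 0, Int.ofNat 0, Int.negSucc 3, Int.ofNat 0, Int.ofNat 0, Int.ofNat 0, Int.ofNat 0, Int.ofNat 0, Int.ofNat 0, Int.ofNat 0, Int.ofNat 0, Int.ofNat 0, Int.ofNat 0, Int.ofNat 0, Int.ofNat 0, Int.ofNat 0, Int.ofNat 0, Int.ofNat 0],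
  [Int.ofNat 4, Int.ofNat 0, Int.ofNat 0, Int.ofNat 0, Int.ofNat 0, Int.ofNat 0, Int.ofNat 0, Int.ofNat 0, Int.negSucc 3, Int.ofNat 0, Int.ofNat 0, Int.ofNat 0, Int.ofNat 0, Int.ofNat 0, Int.ofNat 0, Int.ofNat 0, Int.ofNat 0, Int.ofNat 0, Int.ofNat 0, Int.ofNat 0, Int.ofNat 0, Int.ofNat 0, Int.ofNat 0, Int.ofNat 0],
  [Int.ofNat 0, Int.ofNat 4, Int.ofNat 0, Int.ofNat 0, Int.ofNat 0, Int.ofNat 0, Int.ofNat 0, Int.ofNat 0, Int.ofNat 0, Int.negSucc 3, Int.ofNat 0, Int.ofNat 0, Int.ofNat 0, Int.ofNat 0, Int.ofNat 0, Int.ofNat 0, Int.ofNat 0, Int.ofNat 0, Int.ofNat 0, Int.ofNat 0, Int.ofNat 0, Int.ofNat 0, Int.ofNat 0, Int.ofNat 0],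
  [Int.ofNat 2, Int.negSucc 1, Int.ofNat 2, Int.ofNat 0, Int.ofNat 0, Int.ofNat 0, Int.ofNat 0, Int.ofNat 0, Int.ofNat 0, Int.negSucc 1, Int.ofNat 2, Int.ofNat 0, Int.ofNat 0, Int.ofNat 0, Int.ofNat 0, Int.ofNat 2, Int.ofNat 0, Int.ofNat 0, Int.ofNat 0, Int.ofNat 0, Int.ofNat 2, Int.ofNat 0, Int.ofNat 0, Int.ofNat 2],
  [Int.ofNat 0, Int.ofNat 0, Int.ofNat 0, Int.ofNat 0, Int.ofNat 0, Int.ofNat 0, Int.negSucc 1, Int.ofNat 2, Int.ofNat 0, Int.ofNat 0, Int.ofNat 0, Int.ofNat 0, Int.ofNat 2, Int.ofNat 0, Int.ofNat 0, Int.ofNat 0, Int.ofNat 0, Int.ofNat 2, Int.ofNat 0, Int.ofNat 0, Int.ofNat 2, Int.negSucc 1, Int.ofNat 2, Int.ofNat 2],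
  [Int.ofNat 1, Int.ofNat 1, Int.ofNat 1, Int.negSucc 0, Int.negSucc 0, Int.negSucc 0, Int.negSucc 0, Int.ofNat 3, Int.negSucc 0, Int.negSucc 0, Int.negSucc 0, Int.negSucc 0, Int.ofNat 1, Int.negSucc 0, Int.negSucc 0, Int.negSucc 0, Int.negSucc 0, Int.ofNat 1, Int.negSucc 0, Int.ofNat 1, Int.ofNat 1, Int.negSucc 0, Int.ofNat 1, Int.negSucc 0],
  [Int.ofNat 1, Int.negSucc 0, Int.negSucc 0, Int.negSucc 0, Int.negSucc 0, Int.ofNat 3, Int.ofNat 1, Int.negSucc 0, Int.ofNat 1, Int.negSucc 0, Int.ofNat 1, Int.ofNat 1, Int.negSucc 0, Int.negSucc 0, Int.ofNat 1, Int.negSucc 0, Int.negSucc 0, Int.negSucc 0, Int.ofNat 1, Int.negSucc 0, Int.negSucc 0, Int.negSucc 0, Int.ofNat 1, Int.negSucc 0],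
  [Int.negSucc 1, Int.ofNat 0, Int.ofNat 0, Int.negSucc 1, Int.ofNat 0, Int.ofNat 2, Int.ofNat 2, Int.ofNat 0, Int.ofNat 0, Int.ofNat 0, Int.ofNat 2, Int.ofNat 0, Int.negSucc 1, Int.ofNat 0, Int.ofNat 0, Int.ofNat 0, Int.ofNat 0, Int.negSucc 1, Int.ofNat 0, Int.ofNat 0, Int.ofNat 0, Int.ofNat 0, Int.ofNat 2, Int.ofNat 0],
  [Int.negSucc 1, Int.ofNat 0, Int.ofNat 0, Int.negSucc 1, Int.ofNat 0, Int.negSucc 1, Int.negSucc 1, Int.ofNat 0, Int.ofNat 0, Int.ofNat 0, Int.negSucc 1, Int.ofNat 0, Int.negSucc 1, Int.ofNat 0, Int.ofNat 0, Int.ofNat 0, Int.ofNat 0, Int.negSucc 1, Int.ofNat 0, Int.ofNat 0, Int.ofNat 0, Int.ofNat 0, Int.negSucc 1, Int.ofNat 0],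
  [Int.negSucc 1, Int.ofNat 0, Int.ofNat 0, Int.ofNat 0, Int.ofNat 0, Int.ofNat 0, Int.ofNat 0, Int.ofNat 0, Int.ofNat 0, Int.ofNat 0, Int.negSucc 1, Int.ofNat 0, Int.ofNat 0, Int.ofNat 0, Int.ofNat 0, Int.negSucc 1, Int.ofNat 0, Int.negSucc 1, Int.negSucc 1, Int.ofNat 0, Int.negSucc 1, Int.negSucc 1, Int.negSucc 1, Int.ofNat 0],
  [Int.negSucc 1, Int.ofNat 0, Int.ofNat 0, Int.ofNat 0, Int.ofNat 0, Int.ofNat 0, Int.ofNat 0, Int.ofNat 0, Int.ofNat 0, Int.ofNat 0, Int.ofNat 2, Int.ofNat 0, Int.ofNat 0, Int.ofNat 0, Int.ofNat 0, Int.ofNat 2, Int.ofNat 0, Int.negSucc 1, Int.ofNat 2, Int.ofNat 0, Int.negSucc 1, Int.negSucc 1, Int.ofNat 2, Int.ofNat 0],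
  [Int.ofNat 1, Int.negSucc 0, Int.negSucc 0, Int.ofNat 1, Int.negSucc 0, Int.ofNat 1, Int.ofNat 1, Int.ofNat 1, Int.negSucc 0, Int.negSucc 0, Int.ofNat 1, Int.negSucc 0, Int.negSucc 0, Int.negSucc 0, Int.ofNat 1, Int.ofNat 1, Int.negSucc 0, Int.negSucc 0, Int.ofNat 1, Int.ofNat 1, Int.negSucc 2, Int.negSucc 0, Int.ofNat 1, Int.negSucc 0],
  [Int.ofNat 1, Int.ofNat 1, Int.ofNat 1, Int.ofNat 1, Int.negSucc 0, Int.negSucc 0, Int.negSucc 0, Int.ofNat 1, Int.negSucc 0, Int.negSucc 0, Int.ofNat 1, Int.ofNat 1, Int.negSucc 0, Int.negSucc 0, Int.negSucc 0, Int.ofNat 1, Int.negSucc 0, Int.negSucc 0, Int.negSucc 0, Int.ofNat 1, Int.ofNat 1, Int.negSucc 2, Int.ofNat 1, Int.negSucc 0],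
  [Int.ofNat 0, Int.ofNat 0, Int.ofNat 0, Int.ofNat 2, Int.ofNat 0, Int.ofNat 0, Int.ofNat 0, Int.ofNat 2, Int.ofNat 0, Int.negSucc 1, Int.ofNat 0, Int.ofNat 2, Int.ofNat 0, Int.ofNat 0, Int.ofNat 0, Int.ofNat 0, Int.ofNat 0, Int.ofNat 0, Int.ofNat 0, Int.ofNat 2, Int.ofNat 0, Int.negSucc 1, Int.ofNat 2, Int.ofNat 2],
  [Int.ofNat 0, Int.negSucc 1, Int.ofNat 2, Int.ofNat 0, Int.ofNat 0, Int.ofNat 0, Int.ofNat 2, Int.ofNat 0, Int.ofNat 0, Int.ofNat 0, Int.ofNat 2, Int.ofNat 0, Int.negSucc 1, Int.ofNat 0, Int.ofNat 2, Int.ofNat 0, Int.ofNat 0, Int.ofNat 0, Int.ofNat 0, Int.ofNat 0, Int.ofNat 0, Int.ofNat 0, Int.ofNat 2, Int.ofNat 2],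
  [Int.ofNat 1, Int.ofNat 3, Int.negSucc 0, Int.negSucc 0, Int.negSucc 0, Int.negSucc 0, Int.ofNat 1, Int.negSucc 0, Int.ofNat 1, Int.negSucc 0, Int.ofNat 1, Int.ofNat 1, Int.negSucc 0, Int.negSucc 0, Int.ofNat 1, Int.negSucc 0, Int.negSucc 0, Int.negSucc 0, Int.ofNat 1, Int.negSucc 0, Int.negSucc 0, Int.negSucc 0, Int.ofNat 1, Int.negSucc 0],
  [Int.ofNat 3, Int.negSucc 0, Int.negSucc 0, Int.negSucc 0, Int.negSucc 0, Int.ofNat 1, Int.negSucc 0, Int.ofNat 1, Int.negSucc 0, Int.ofNat 1, Int.ofNat 1, Int.negSucc 0, Int.negSucc 0, Int.ofNat 1, Int.negSucc 0, Int.negSucc 0, Int.negSucc 0, Int.ofNat 1, Int.negSucc 0, Int.negSucc 0, Int.negSucc 0, Int.ofNat 1, Int.ofNat 1, Int.negSucc 0],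
  [Int.negSucc 2, Int.negSucc 0, Int.ofNat 1, Int.negSucc 0, Int.negSucc 0, Int.ofNat 1, Int.negSucc 0, Int.negSucc 0, Int.negSucc 0, Int.negSucc 0, Int.negSucc 0, Int.ofNat 1, Int.negSucc 0, Int.ofNat 1, Int.negSucc 0, Int.negSucc 0, Int.negSucc 0, Int.ofNat 1, Int.ofNat 1, Int.negSucc 0, Int.negSucc 0, Int.negSucc 0, Int.ofNat 1, Int.negSucc 0],
  [Int.negSucc 2, Int.ofNat 1, Int.ofNat 1, Int.negSucc 0, Int.negSucc 0, Int.negSucc 0, Int.negSucc 0, Int.negSucc 0, Int.negSucc 0, Int.negSucc 0, Int.negSucc 0, Int.negSucc 0, Int.ofNat 1, Int.negSucc 0, Int.negSucc 0, Int.negSucc 0, Int.negSucc 0, Int.ofNat 1, Int.negSucc 0, Int.ofNat 1, Int.ofNat 1, Int.negSucc 0, Int.ofNat 1, Int.negSucc 0],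
  [Int.ofNat 3, Int.ofNat 1, Int.negSucc 0, Int.negSucc 0, Int.negSucc 0, Int.negSucc 0, Int.negSucc 0, Int.ofNat 1, Int.negSucc 0, Int.ofNat 1, Int.ofNat 1, Int.ofNat 1, Int.ofNat 1, Int.negSucc 0, Int.negSucc 0, Int.negSucc 0, Int.negSucc 0, Int.ofNat 1, Int.ofNat 1, Int.ofNat 1, Int.ofNat 1, Int.ofNat 1, Int.ofNat 1, Int.negSucc 0],
  [Int.ofNat 1, Int.ofNat 3, Int.ofNat 1, Int.negSucc 0, Int.negSucc 0, Int.negSucc 0, Int.negSucc 0, Int.negSucc 0, Int.ofNat 1, Int.negSucc 0, Int.ofNat 1, Int.ofNat 1, Int.ofNat 1, Int.ofNat 1, Int.negSucc 0, Int.negSucc 0, Int.negSucc 0, Int.negSucc 0, Int.ofNat 1, Int.ofNat 1, Int.ofNat 1, Int.ofNat 1, Int.ofNat 1, Int.negSucc 0],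
  [Int.ofNat 1, Int.negSucc 0, Int.ofNat 1, Int.ofNat 1, Int.negSucc 0, Int.ofNat 1, Int.negSucc 0, Int.negSucc 0, Int.negSucc 0, Int.negSucc 0, Int.ofNat 1, Int.negSucc 0, Int.negSucc 0, Int.ofNat 1, Int.ofNat 1, Int.negSucc 0, Int.negSucc 0, Int.ofNat 1, Int.negSucc 0, Int.ofNat 1, Int.ofNat 1, Int.ofNat 1, Int.ofNat 1, Int.ofNat 3],
  [Int.ofNat 1, Int.negSucc 0, Int.ofNat 1, Int.negSucc 0, Int.negSucc 0, Int.negSucc 0, Int.negSucc 0, Int.ofNat 1, Int.negSucc 0, Int.negSucc 0, Int.ofNat 1, Int.ofNat 1, Int.negSucc 0, Int.negSucc 0, Int.ofNat 1, Int.negSucc 0, Int.ofNat 1, Int.ofNat 1, Int.ofNat 1, Int.ofNat 1, Int.ofNat 1, Int.negSucc 0, Int.ofNat 1, Int.ofNat 3],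
  [Int.ofNat 1, Int.ofNat 3, Int.ofNat 1, Int.negSucc 0, Int.negSucc 0, Int.negSucc 0, Int.negSucc 0, Int.ofNat 1, Int.negSucc 0, Int.negSucc 0, Int.ofNat 1, Int.ofNat 1, Int.negSucc 0, Int.negSucc 0, Int.ofNat 1, Int.negSucc 0, Int.ofNat 1, Int.ofNat 1, Int.ofNat 1, Int.ofNat 1, Int.ofNat 1, Int.negSucc 0, Int.ofNat 1, Int.negSucc 0],
  [Int.ofNat 1, Int.negSucc 0, Int.negSucc 0, Int.negSucc 0, Int.ofNat 1, Int.ofNat 1, Int.ofNat 1, Int.ofNat 1, Int.negSucc 0, Int.negSucc 0, Int.ofNat 1, Int.ofNat 1, Int.negSucc 0, Int.ofNat 1, Int.ofNat 1, Int.negSucc 0, Int.negSucc 0, Int.ofNat 1, Int.ofNat 3, Int.ofNat 1, Int.negSucc 0, Int.negSucc 0, Int.ofNat 1, Int.negSucc 0],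
  [Int.negSucc 1, Int.ofNat 0, Int.ofNat 0, Int.negSucc 1, Int.ofNat 0, Int.ofNat 0, Int.ofNat 0, Int.ofNat 0, Int.negSucc 1, Int.ofNat 0, Int.ofNat 2, Int.ofNat 0, Int.negSucc 1, Int.ofNat 0, Int.ofNat 0, Int.ofNat 0, Int.negSucc 1, Int.ofNat 0, Int.ofNat 2, Int.ofNat 0, Int.ofNat 0, Int.negSucc 1, Int.ofNat 0, Int.ofNat 0],
  [Int.negSucc 1, Int.ofNat 0, Int.ofNat 0, Int.negSucc 1, Int.ofNat 0, Int.ofNat 0, Int.ofNat 0, Int.ofNat 0, Int.negSucc 1, Int.ofNat 0, Int.negSucc 1, Int.ofNat 0, Int.negSucc 1, Int.ofNat 0, Int.ofNat 0, Int.ofNat 0, Int.negSucc 1, Int.ofNat 0, Int.negSucc 1, Int.ofNat 0, Int.ofNat 0, Int.negSucc 1, Int.ofNat 0, Int.ofNat 0],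
  [Int.negSucc 1, Int.negSucc 1, Int.ofNat 0, Int.negSucc 1, Int.ofNat 0, Int.ofNat 0, Int.negSucc 1, Int.negSucc 1, Int.ofNat 0, Int.ofNat 0, Int.ofNat 0, Int.ofNat 0, Int.ofNat 0, Int.ofNat 0, Int.ofNat 0, Int.negSucc 1, Int.ofNat 0, Int.negSucc 1, Int.ofNat 0, Int.ofNat 0, Int.negSucc 1, Int.ofNat 0, Int.ofNat 0, Int.ofNat 0],
  [Int.ofNat 2, Int.ofNat 2, Int.ofNat 0, Int.ofNat 2, Int.ofNat 0, Int.ofNat 0, Int.ofNat 2, Int.negSucc 1, Int.ofNat 0, Int.ofNat 0, Int.ofNat 0, Int.ofNat 0, Int.ofNat 0, Int.ofNat 0, Int.ofNat 0, Int.negSucc 1, Int.ofNat 0, Int.negSucc 1, Int.ofNat 0, Int.ofNat 0, Int.negSucc 1, Int.ofNat 0, Int.ofNat 0, Int.ofNat 0],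
  [Int.ofNat 0, Int.ofNat 0, Int.ofNat 0, Int.negSucc 1, Int.negSucc 1, Int.ofNat 0, Int.ofNat 0, Int.ofNat 0, Int.negSucc 1, Int.ofNat 0, Int.ofNat 0, Int.ofNat 0, Int.ofNat 0, Int.negSucc 1, Int.ofNat 0, Int.ofNat 2, Int.ofNat 0, Int.ofNat 0, Int.ofNat 0, Int.ofNat 2, Int.ofNat 0, Int.ofNat 0, Int.ofNat 2, Int.ofNat 2],
  [Int.ofNat 0, Int.ofNat 0, Int.ofNat 0, Int.negSucc 1, Int.negSucc 1, Int.ofNat 0, Int.ofNat 0, Int.ofNat 0, Int.negSucc 1, Int.ofNat 0, Int.ofNat 0, Int.ofNat 0, Int.ofNat 0, Int.negSucc 1, Int.ofNat 0, Int.ofNat 2, Int.ofNat 0, Int.ofNat 0, Int.ofNat 0, Int.ofNat 2, Int.ofNat 0, Int.ofNat 0, Int.ofNat 2, Int.ofNat 2],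
  [Int.ofNat 2, Int.ofNat 0, Int.ofNat 0, Int.ofNat 0, Int.negSucc 1, Int.negSucc 1, Int.ofNat 0, Int.ofNat 0, Int.ofNat 0, Int.negSucc 1, Int.ofNat 0, Int.ofNat 0, Int.ofNat 0, Int.ofNat 0, Int.negSucc 1, Int.ofNat 0, Int.ofNat 2, Int.ofNat 0, Int.ofNat 0, Int.ofNat 0, Int.ofNat 2, Int.ofNat 0, Int.ofNat 0, Int.ofNat 2],
  [Int.ofNat 0, Int.ofNat 2, Int.ofNat 2, Int.ofNat 2, Int.negSucc 1, Int.ofNat 0, Int.ofNat 0, Int.ofNat 0, Int.ofNat 0, Int.negSucc 1, Int.ofNat 0, Int.ofNat 0, Int.ofNat 0, Int.ofNat 0, Int.ofNat 0, Int.ofNat 0, Int.ofNat 2, Int.ofNat 2, Int.ofNat 0, Int.ofNat 0, Int.ofNat 2, Int.ofNat 0, Int.ofNat 0, Int.ofNat 0],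
  [Int.ofNat 2, Int.negSucc 1, Int.ofNat 0, Int.ofNat 0, Int.ofNat 0, Int.ofNat 0, Int.negSucc 1, Int.ofNat 0, Int.ofNat 0, Int.ofNat 0, Int.ofNat 0, Int.ofNat 0, Int.ofNat 0, Int.ofNat 2, Int.ofNat 2, Int.ofNat 0, Int.ofNat 0, Int.ofNat 2, Int.ofNat 0, Int.ofNat 0, Int.ofNat 0, Int.ofNat 2, Int.ofNat 2, Int.ofNat 0],
  [Int.negSucc 1, Int.ofNat 2, Int.ofNat 0, Int.negSucc 1, Int.negSucc 1, Int.negSucc 1, Int.negSucc 1, Int.ofNat 0, Int.ofNat 0, Int.ofNat 0, Int.ofNat 0, Int.ofNat 0, Int.ofNat 0, Int.ofNat 0, Int.ofNat 0, Int.ofNat 0, Int.negSucc 1, Int.ofNat 0, Int.ofNat 0, Int.ofNat 0, Int.ofNat 0, Int.ofNat 2, Int.ofNat 0, Int.ofNat 0],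
  [Int.negSucc 1, Int.negSucc 1, Int.negSucc 1, Int.negSucc 1, Int.ofNat 0, Int.ofNat 0, Int.ofNat 0, Int.ofNat 0, Int.ofNat 0, Int.ofNat 0, Int.ofNat 0, Int.ofNat 0, Int.ofNat 0, Int.negSucc 1, Int.ofNat 0, Int.ofNat 0, Int.ofNat 0, Int.ofNat 0, Int.ofNat 2, Int.ofNat 0, Int.ofNat 2, Int.negSucc 1, Int.ofNat 0, Int.ofNat 0],
  [Int.negSucc 0, Int.negSucc 0, Int.negSucc 0, Int.negSucc 0, Int.ofNat 1, Int.ofNat 1, Int.ofNat 1, Int.ofNat 1, Int.negSucc 0, Int.negSucc 0, Int.negSucc 0, Int.negSucc 0, Int.negSucc 0, Int.negSucc 0, Int.ofNat 1, Int.negSucc 0, Int.ofNat 1, Int.ofNat 1, Int.ofNat 1, Int.ofNat 1, Int.ofNat 1, Int.negSucc 0, Int.ofNat 1, Int.negSucc 2],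
  [Int.negSucc 0, Int.negSucc 0, Int.ofNat 1, Int.negSucc 0, Int.ofNat 1, Int.negSucc 0, Int.negSucc 0, Int.ofNat 1, Int.negSucc 0, Int.ofNat 1, Int.ofNat 1, Int.negSucc 0, Int.negSucc 0, Int.negSucc 0, Int.ofNat 1, Int.ofNat 1, Int.ofNat 1, Int.ofNat 1, Int.negSucc 0, Int.ofNat 1, Int.ofNat 1, Int.negSucc 0, Int.negSucc 0, Int.negSucc 2],
  [Int.negSucc 0, Int.negSucc 0, Int.ofNat 1, Int.negSucc 0, Int.negSucc 0, Int.ofNat 1, Int.ofNat 1, Int.ofNat 1, Int.ofNat 1, Int.negSucc 0, Int.negSucc 0, Int.negSucc 0, Int.negSucc 0, Int.ofNat 1, Int.ofNat 1, Int.negSucc 0, Int.ofNat 1, Int.negSucc 0, Int.ofNat 1, Int.ofNat 1, Int.negSucc 0, Int.ofNat 1, Int.negSucc 0, Int.negSucc 2],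
  [Int.negSucc 0, Int.negSucc 0, Int.negSucc 0, Int.negSucc 0, Int.negSucc 0, Int.negSucc 0, Int.negSucc 0, Int.ofNat 1, Int.ofNat 1, Int.ofNat 1, Int.ofNat 1, Int.negSucc 0, Int.negSucc 0, Int.ofNat 1, Int.ofNat 1, Int.ofNat 1, Int.ofNat 1, Int.negSucc 0, Int.negSucc 0, Int.ofNat 1, Int.negSucc 0, Int.ofNat 1, Int.ofNat 1, Int.negSucc 2],
  [Int.negSucc 1, Int.negSucc 1, Int.negSucc 1, Int.ofNat 0, Int.negSucc 1, Int.ofNat 0, Int.negSucc 1, Int.ofNat 0, Int.ofNat 2, Int.ofNat 0, Int.ofNat 0, Int.ofNat 0, Int.ofNat 0, Int.ofNat 0, Int.ofNat 2, Int.ofNat 0, Int.ofNat 0, Int.ofNat 0, Int.ofNat 0, Int.ofNat 0, Int.negSucc 1, Int.ofNat 0, Int.ofNat 0, Int.ofNat 0],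
  [Int.negSucc 1, Int.ofNat 0, Int.negSucc 1, Int.ofNat 0, Int.negSucc 1, Int.ofNat 0, Int.negSucc 1, Int.ofNat 0, Int.ofNat 0, Int.ofNat 0, Int.ofNat 0, Int.ofNat 0, Int.ofNat 2, Int.ofNat 0, Int.ofNat 0, Int.ofNat 0, Int.ofNat 0, Int.ofNat 0, Int.negSucc 1, Int.ofNat 0, Int.ofNat 0, Int.negSucc 1, Int.ofNat 2, Int.ofNat 0],
  [Int.ofNat 0, Int.negSucc 1, Int.ofNat 0, Int.ofNat 0, Int.negSucc 1, Int.ofNat 0, Int.ofNat 0, Int.ofNat 2, Int.ofNat 0, Int.ofNat 0, Int.ofNat 0, Int.ofNat 0, Int.ofNat 2, Int.ofNat 0, Int.ofNat 0, Int.ofNat 0, Int.ofNat 0, Int.ofNat 0, Int.negSucc 1, Int.ofNat 2, Int.ofNat 0, Int.ofNat 0, Int.ofNat 2, Int.negSucc 1],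
  [Int.ofNat 0, Int.ofNat 0, Int.ofNat 2, Int.ofNat 0, Int.negSucc 1, Int.ofNat 0, Int.ofNat 0, Int.negSucc 1, Int.ofNat 0, Int.ofNat 0, Int.ofNat 2, Int.ofNat 0, Int.ofNat 0, Int.ofNat 0, Int.ofNat 0, Int.ofNat 2, Int.ofNat 0, Int.ofNat 0, Int.ofNat 0, Int.ofNat 0, Int.ofNat 0, Int.negSucc 1, Int.ofNat 2, Int.negSucc 1],
  [Int.ofNat 0, Int.ofNat 0, Int.negSucc 1, Int.ofNat 0, Int.negSucc 1, Int.ofNat 0, Int.ofNat 2, Int.ofNat 0, Int.ofNat 0, Int.negSucc 1, Int.ofNat 0, Int.ofNat 0, Int.ofNat 0, Int.ofNat 0, Int.ofNat 0, Int.ofNat 0, Int.ofNat 0, Int.ofNat 0, Int.ofNat 0, Int.ofNat 2, Int.negSucc 1, Int.ofNat 0, Int.ofNat 2, Int.ofNat 2],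
  [Int.ofNat 0, Int.negSucc 1, Int.ofNat 0, Int.negSucc 1, Int.ofNat 0, Int.ofNat 2, Int.ofNat 0, Int.ofNat 0, Int.negSucc 1, Int.ofNat 0, Int.ofNat 0, Int.ofNat 0, Int.ofNat 0, Int.ofNat 0, Int.ofNat 0, Int.ofNat 0, Int.ofNat 0, Int.ofNat 0, Int.ofNat 2, Int.negSucc 1, Int.ofNat 0, Int.ofNat 2, Int.ofNat 0, Int.ofNat 2],
  [Int.ofNat 0, Int.negSucc 1, Int.ofNat 0, Int.negSucc 1, Int.ofNat 0, Int.ofNat 2, Int.ofNat 0, Int.ofNat 0, Int.negSucc 1, Int.ofNat 0, Int.ofNat 0, Int.ofNat 0, Int.ofNat 0, Int.ofNat 0, Int.ofNat 0, Int.ofNat 0, Int.ofNat 0, Int.ofNat 0, Int.negSucc 1, Int.negSucc 1, Int.ofNat 0, Int.negSucc 1, Int.ofNat 0, Int.ofNat 2],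
  [Int.ofNat 0, Int.ofNat 0, Int.negSucc 1, Int.negSucc 1, Int.negSucc 1, Int.ofNat 0, Int.ofNat 0, Int.ofNat 0, Int.ofNat 0, Int.ofNat 0, Int.negSucc 1, Int.ofNat 0, Int.ofNat 0, Int.negSucc 1, Int.negSucc 1, Int.ofNat 0, Int.ofNat 0, Int.ofNat 0, Int.ofNat 0, Int.ofNat 0, Int.ofNat 2, Int.ofNat 0, Int.ofNat 0, Int.ofNat 2],
  [Int.ofNat 0, Int.ofNat 0, Int.ofNat 2, Int.negSucc 1, Int.negSucc 1, Int.ofNat 0, Int.ofNat 0, Int.ofNat 0, Int.ofNat 0, Int.ofNat 0, Int.ofNat 2, Int.ofNat 0, Int.ofNat 0, Int.negSucc 1, Int.negSucc 1, Int.ofNat 0, Int.ofNat 0, Int.ofNat 0, Int.ofNat 0, Int.ofNat 0, Int.ofNat 2, Int.ofNat 0, Int.ofNat 0, Int.ofNat 2],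
  [Int.ofNat 0, Int.ofNat 0, Int.ofNat 0, Int.ofNat 2, Int.negSucc 1, Int.negSucc 1, Int.ofNat 0, Int.ofNat 0, Int.ofNat 0, Int.ofNat 0, Int.ofNat 0, Int.ofNat 2, Int.ofNat 0, Int.ofNat 0, Int.negSucc 1, Int.negSucc 1, Int.ofNat 0, Int.ofNat 0, Int.ofNat 0, Int.ofNat 0, Int.ofNat 0, Int.ofNat 2, Int.ofNat 0, Int.ofNat 2],
  [Int.ofNat 1, Int.ofNat 1, Int.ofNat 1, Int.ofNat 3, Int.negSucc 0, Int.negSucc 0, Int.negSucc 0, Int.negSucc 0, Int.negSucc 0, Int.ofNat 1, Int.ofNat 1, Int.ofNat 1, Int.negSucc 0, Int.ofNat 1, Int.negSucc 0, Int.negSucc 0, Int.ofNat 1, Int.ofNat 1, Int.negSucc 0, Int.negSucc 0, Int.ofNat 1, Int.ofNat 1, Int.ofNat 1, Int.negSucc 0],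
  [Int.ofNat 3, Int.negSucc 0, Int.negSucc 0, Int.negSucc 0, Int.negSucc 0, Int.negSucc 0, Int.ofNat 1, Int.ofNat 1, Int.ofNat 1, Int.negSucc 0, Int.ofNat 1, Int.negSucc 0, Int.negSucc 0, Int.ofNat 1, Int.ofNat 1, Int.negSucc 0, Int.negSucc 0, Int.ofNat 1, Int.ofNat 1, Int.ofNat 1, Int.ofNat 1, Int.ofNat 1, Int.ofNat 1, Int.negSucc 0],
  [Int.negSucc 2, Int.ofNat 1, Int.ofNat 1, Int.negSucc 0, Int.negSucc 0, Int.negSucc 0, Int.negSucc 0, Int.negSucc 0, Int.ofNat 1, Int.negSucc 0, Int.ofNat 1, Int.negSucc 0, Int.negSucc 0, Int.ofNat 1, Int.ofNat 1, Int.negSucc 0, Int.negSucc 0, Int.ofNat 1, Int.ofNat 1, Int.negSucc 0, Int.ofNat 1, Int.negSucc 0, Int.ofNat 1, Int.ofNat 1],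
  [Int.negSucc 2, Int.negSucc 0, Int.negSucc 0, Int.negSucc 0, Int.ofNat 1, Int.negSucc 0, Int.ofNat 1, Int.ofNat 1, Int.negSucc 0, Int.ofNat 1, Int.ofNat 1, Int.ofNat 1, Int.negSucc 0, Int.negSucc 0, Int.ofNat 1, Int.negSucc 0, Int.ofNat 1, Int.ofNat 1, Int.ofNat 1, Int.negSucc 0, Int.negSucc 0, Int.negSucc 0, Int.negSucc 0, Int.ofNat 1],
  [Int.ofNat 1, Int.negSucc 0, Int.negSucc 0, Int.negSucc 0, Int.ofNat 1, Int.negSucc 0, Int.ofNat 1, Int.ofNat 1, Int.negSucc 0, Int.ofNat 1, Int.ofNat 1, Int.ofNat 1, Int.negSucc 0, Int.negSucc 0, Int.ofNat 1, Int.negSucc 0, Int.ofNat 1, Int.ofNat 1, Int.ofNat 1, Int.negSucc 0, Int.negSucc 0, Int.negSucc 0, Int.negSucc 0, Int.negSucc 2],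
  [Int.ofNat 1, Int.negSucc 0, Int.ofNat 1, Int.negSucc 0, Int.ofNat 1, Int.ofNat 1, Int.negSucc 0, Int.ofNat 1, Int.negSucc 0, Int.negSucc 0, Int.negSucc 0, Int.ofNat 1, Int.negSucc 0, Int.negSucc 0, Int.ofNat 1, Int.ofNat 1, Int.ofNat 1, Int.ofNat 1, Int.negSucc 0, Int.negSucc 0, Int.negSucc 0, Int.negSucc 0, Int.ofNat 1, Int.negSucc 2],
  [Int.negSucc 0, Int.ofNat 1, Int.ofNat 1, Int.negSucc 0, Int.ofNat 1, Int.negSucc 0, Int.negSucc 0, Int.negSucc 0, Int.ofNat 1, Int.negSucc 0, Int.negSucc 0, Int.ofNat 1, Int.ofNat 1, Int.ofNat 1, Int.ofNat 1, Int.negSucc 0, Int.negSucc 0, Int.negSucc 0, Int.negSucc 0, Int.ofNat 1, Int.ofNat 1, Int.negSucc 0, Int.ofNat 1, Int.negSucc 2],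
  [Int.ofNat 1, Int.negSucc 0, Int.negSucc 0, Int.ofNat 1, Int.negSucc 0, Int.negSucc 0, Int.ofNat 1, Int.negSucc 0, Int.negSucc 0, Int.ofNat 1, Int.negSucc 0, Int.ofNat 1, Int.negSucc 0, Int.negSucc 0, Int.ofNat 1, Int.negSucc 0, Int.ofNat 1, Int.negSucc 0, Int.ofNat 1, Int.ofNat 1, Int.ofNat 1, Int.negSucc 0, Int.ofNat 1, Int.negSucc 2],
  [Int.negSucc 2, Int.ofNat 1, Int.ofNat 1, Int.negSucc 0, Int.negSucc 0, Int.ofNat 1, Int.ofNat 1, Int.negSucc 0, Int.ofNat 1, Int.negSucc 0, Int.ofNat 1, Int.negSucc 0, Int.negSucc 0, Int.negSucc 0, Int.ofNat 1, Int.ofNat 1, Int.negSucc 0, Int.negSucc 0, Int.ofNat 1, Int.ofNat 1, Int.negSucc 0, Int.negSucc 0, Int.negSucc 0, Int.ofNat 1],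
  [Int.ofNat 3, Int.ofNat 1, Int.negSucc 0, Int.negSucc 0, Int.negSucc 0, Int.ofNat 1, Int.ofNat 1, Int.ofNat 1, Int.ofNat 1, Int.ofNat 1, Int.negSucc 0, Int.ofNat 1, Int.negSucc 0, Int.negSucc 0, Int.ofNat 1, Int.ofNat 1, Int.negSucc 0, Int.negSucc 0, Int.negSucc 0, Int.ofNat 1, Int.negSucc 0, Int.ofNat 1, Int.negSucc 0, Int.ofNat 1],
  [Int.negSucc 0, Int.ofNat 3, Int.ofNat 1, Int.negSucc 0, Int.negSucc 0, Int.negSucc 0, Int.ofNat 1, Int.ofNat 1, Int.ofNat 1, Int.ofNat 1, Int.ofNat 1, Int.negSucc 0, Int.ofNat 1, Int.negSucc 0, Int.negSucc 0, Int.ofNat 1, Int.ofNat 1, Int.negSucc 0, Int.negSucc 0, Int.negSucc 0, Int.ofNat 1, Int.negSucc 0, Int.ofNat 1, Int.ofNat 1],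
  [Int.ofNat 3, Int.negSucc 0, Int.ofNat 1, Int.ofNat 1, Int.negSucc 0, Int.ofNat 1, Int.ofNat 1, Int.ofNat 1, Int.ofNat 1, Int.negSucc 0, Int.negSucc 0, Int.negSucc 0, Int.ofNat 1, Int.negSucc 0, Int.ofNat 1, Int.negSucc 0, Int.ofNat 1, Int.ofNat 1, Int.negSucc 0, Int.negSucc 0, Int.negSucc 0, Int.negSucc 0, Int.ofNat 1, Int.ofNat 1],
  [Int.ofNat 1, Int.negSucc 0, Int.ofNat 1, Int.ofNat 1, Int.ofNat 1, Int.ofNat 1, Int.negSucc 0, Int.negSucc 0, Int.negSucc 0, Int.ofNat 1, Int.negSucc 0, Int.ofNat 1, Int.negSucc 0, Int.ofNat 1, Int.ofNat 1, Int.negSucc 0, Int.negSucc 0, Int.negSucc 0, Int.negSucc 0, Int.ofNat 1, Int.ofNat 3, Int.negSucc 0, Int.ofNat 1, Int.ofNat 1],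
  [Int.ofNat 0, Int.ofNat 2, Int.ofNat 0, Int.ofNat 0, Int.ofNat 0, Int.ofNat 0, Int.ofNat 0, Int.ofNat 0, Int.ofNat 0, Int.ofNat 0, Int.negSucc 1, Int.ofNat 2, Int.ofNat 0, Int.ofNat 0, Int.ofNat 0, Int.negSucc 1, Int.negSucc 1, Int.negSucc 1, Int.ofNat 0, Int.ofNat 2, Int.ofNat 2, Int.ofNat 0, Int.ofNat 0, Int.ofNat 0],
  [Int.ofNat 0, Int.ofNat 0, Int.ofNat 0, Int.ofNat 0, Int.ofNat 0, Int.ofNat 0, Int.ofNat 0, Int.negSucc 1, Int.ofNat 0, Int.ofNat 0, Int.ofNat 2, Int.negSucc 1, Int.ofNat 0, Int.negSucc 1, Int.ofNat 0, Int.negSucc 1, Int.ofNat 0, Int.ofNat 0, Int.ofNat 2, Int.ofNat 2, Int.ofNat 0, Int.ofNat 0, Int.ofNat 2, Int.ofNat 0],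
  [Int.ofNat 0, Int.ofNat 0, Int.ofNat 0, Int.ofNat 0, Int.ofNat 0, Int.ofNat 0, Int.ofNat 0, Int.negSucc 1, Int.ofNat 0, Int.ofNat 0, Int.ofNat 2, Int.negSucc 1, Int.ofNat 0, Int.negSucc 1, Int.ofNat 0, Int.negSucc 1, Int.ofNat 0, Int.ofNat 0, Int.ofNat 2, Int.ofNat 2, Int.ofNat 0, Int.ofNat 0, Int.ofNat 2, Int.ofNat 0],
  [Int.ofNat 0, Int.ofNat 0, Int.ofNat 0, Int.ofNat 0, Int.ofNat 0, Int.ofNat 0, Int.ofNat 0, Int.negSucc 1, Int.ofNat 0, Int.ofNat 0, Int.negSucc 1, Int.negSucc 1, Int.ofNat 0, Int.negSucc 1, Int.ofNat 0, Int.ofNat 2, Int.ofNat 0, Int.ofNat 0, Int.negSucc 1, Int.ofNat 2, Int.ofNat 0, Int.ofNat 0, Int.negSucc 1, Int.ofNat 0],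
  [Int.ofNat 0, Int.ofNat 0, Int.ofNat 0, Int.negSucc 1, Int.ofNat 0, Int.ofNat 2, Int.ofNat 0, Int.ofNat 0, Int.negSucc 1, Int.ofNat 0, Int.ofNat 0, Int.negSucc 1, Int.negSucc 1, Int.ofNat 0, Int.ofNat 2, Int.ofNat 0, Int.ofNat 0, Int.negSucc 1, Int.negSucc 1, Int.ofNat 0, Int.ofNat 0, Int.ofNat 0, Int.ofNat 0, Int.ofNat 0],
  [Int.ofNat 0, Int.ofNat 0, Int.ofNat 0, Int.negSucc 1, Int.ofNat 0, Int.negSucc 1, Int.ofNat 0, Int.ofNat 0, Int.negSucc 1, Int.ofNat 0, Int.ofNat 0, Int.negSucc 1, Int.negSucc 1, Int.ofNat 0, Int.ofNat 2, Int.ofNat 0, Int.ofNat 0, Int.negSucc 1, Int.ofNat 2, Int.ofNat 0, Int.ofNat 0, Int.ofNat 0, Int.ofNat 0, Int.ofNat 0],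
  [Int.ofNat 0, Int.ofNat 0, Int.ofNat 0, Int.ofNat 0, Int.ofNat 0, Int.ofNat 0, Int.ofNat 0, Int.ofNat 0, Int.ofNat 0, Int.ofNat 0, Int.ofNat 0, Int.ofNat 0, Int.ofNat 0, Int.ofNat 0, Int.ofNat 4, Int.ofNat 0, Int.ofNat 0, Int.ofNat 0, Int.ofNat 4, Int.ofNat 0, Int.ofNat 0, Int.ofNat 0, Int.ofNat 0, Int.ofNat 0],
  [Int.ofNat 0, Int.ofNat 4, Int.ofNat 0, Int.ofNat 0, Int.ofNat 0, Int.ofNat 0, Int.ofNat 0, Int.ofNat 0, Int.ofNat 0, Int.ofNat 0, Int.ofNat 0, Int.ofNat 0, Int.ofNat 0, Int.ofNat 0, Int.ofNat 0, Int.ofNat 0, Int.ofNat 0, Int.ofNat 0, Int.ofNat 0, Int.ofNat 0, Int.ofNat 0, Int.ofNat 0, Int.ofNat 4, Int.ofNat 0],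
  [Int.ofNat 2, Int.negSucc 1, Int.ofNat 2, Int.ofNat 0, Int.negSucc 1, Int.ofNat 0, Int.ofNat 0, Int.ofNat 0, Int.ofNat 0, Int.ofNat 0, Int.ofNat 0, Int.ofNat 0, Int.ofNat 0, Int.negSucc 1, Int.ofNat 0, Int.ofNat 0, Int.negSucc 1, Int.ofNat 0, Int.ofNat 0, Int.ofNat 0, Int.ofNat 0, Int.ofNat 0, Int.ofNat 2, Int.ofNat 2],
  [Int.ofNat 0, Int.ofNat 0, Int.ofNat 2, Int.ofNat 2, Int.negSucc 1, Int.ofNat 2, Int.ofNat 0, Int.negSucc 1, Int.ofNat 0, Int.ofNat 0, Int.ofNat 0, Int.ofNat 0, Int.ofNat 0, Int.ofNat 0, Int.ofNat 0, Int.ofNat 0, Int.negSucc 1, Int.ofNat 0, Int.ofNat 0, Int.negSucc 1, Int.ofNat 0, Int.ofNat 0, Int.ofNat 0, Int.ofNat 2],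
  [Int.ofNat 2, Int.ofNat 2, Int.ofNat 0, Int.ofNat 0, Int.ofNat 0, Int.ofNat 0, Int.ofNat 2, Int.ofNat 0, Int.ofNat 0, Int.ofNat 0, Int.ofNat 0, Int.ofNat 0, Int.ofNat 0, Int.ofNat 2, Int.negSucc 1, Int.ofNat 0, Int.ofNat 0, Int.negSucc 1, Int.ofNat 0, Int.ofNat 0, Int.ofNat 0, Int.ofNat 2, Int.ofNat 2, Int.ofNat 0],
  [Int.ofNat 2, Int.ofNat 0, Int.ofNat 0, Int.ofNat 0, Int.ofNat 0, Int.ofNat 2, Int.ofNat 0, Int.ofNat 0, Int.ofNat 0, Int.ofNat 0, Int.ofNat 0, Int.ofNat 0, Int.ofNat 2, Int.negSucc 1, Int.ofNat 0, Int.ofNat 0, Int.negSucc 1, Int.ofNat 0, Int.ofNat 0, Int.ofNat 0, Int.ofNat 2, Int.ofNat 2, Int.ofNat 2, Int.ofNat 0],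
  [Int.negSucc 1, Int.ofNat 0, Int.ofNat 0, Int.ofNat 0, Int.ofNat 0, Int.ofNat 2, Int.ofNat 0, Int.ofNat 0, Int.ofNat 0, Int.ofNat 0, Int.ofNat 0, Int.ofNat 0, Int.ofNat 2, Int.negSucc 1, Int.ofNat 0, Int.ofNat 0, Int.negSucc 1, Int.ofNat 0, Int.ofNat 0, Int.ofNat 0, Int.ofNat 2, Int.negSucc 1, Int.ofNat 2, Int.ofNat 0],
  [Int.negSucc 1, Int.ofNat 0, Int.ofNat 0, Int.ofNat 0, Int.ofNat 0, Int.ofNat 0, Int.ofNat 0, Int.ofNat 2, Int.ofNat 0, Int.negSucc 1, Int.negSucc 1, Int.ofNat 0, Int.negSucc 1, Int.ofNat 0, Int.ofNat 0, Int.ofNat 0, Int.ofNat 2, Int.ofNat 2, Int.ofNat 0, Int.ofNat 0, Int.ofNat 2, Int.ofNat 0, Int.ofNat 0, Int.ofNat 0],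
  [Int.ofNat 2, Int.ofNat 0, Int.ofNat 0, Int.ofNat 0, Int.ofNat 0, Int.ofNat 0, Int.ofNat 0, Int.negSucc 1, Int.ofNat 0, Int.ofNat 2, Int.ofNat 2, Int.ofNat 0, Int.negSucc 1, Int.ofNat 0, Int.ofNat 0, Int.ofNat 0, Int.ofNat 2, Int.ofNat 2, Int.ofNat 0, Int.ofNat 0, Int.ofNat 2, Int.ofNat 0, Int.ofNat 0, Int.ofNat 0],
  [Int.ofNat 0, Int.ofNat 2, Int.ofNat 0, Int.ofNat 0, Int.ofNat 0, Int.ofNat 0, Int.ofNat 0, Int.ofNat 0, Int.negSucc 1, Int.ofNat 0, Int.ofNat 2, Int.ofNat 2, Int.ofNat 0, Int.negSucc 1, Int.ofNat 0, Int.ofNat 0, Int.ofNat 0, Int.ofNat 2, Int.ofNat 2, Int.ofNat 0, Int.ofNat 0, Int.ofNat 2, Int.ofNat 0, Int.ofNat 0],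
  [Int.ofNat 1, Int.negSucc 0, Int.ofNat 1, Int.negSucc 0, Int.ofNat 1, Int.negSucc 0, Int.negSucc 0, Int.negSucc 0, Int.negSucc 2, Int.negSucc 0, Int.ofNat 1, Int.ofNat 1, Int.negSucc 0, Int.negSucc 0, Int.negSucc 0, Int.negSucc 0, Int.ofNat 1, Int.ofNat 1, Int.ofNat 1, Int.negSucc 0, Int.negSucc 0, Int.ofNat 1, Int.ofNat 1, Int.ofNat 1],
  [Int.negSucc 0, Int.ofNat 1, Int.negSucc 0, Int.negSucc 0, Int.negSucc 0, Int.negSucc 2, Int.negSucc 0, Int.ofNat 1, Int.ofNat 1, Int.negSucc 0, Int.negSucc 0, Int.negSucc 0, Int.negSucc 0, Int.ofNat 1, Int.ofNat 1, Int.ofNat 1, Int.negSucc 0, Int.negSucc 0, Int.ofNat 1, Int.ofNat 1, Int.ofNat 1, Int.negSucc 0, Int.ofNat 1, Int.ofNat 1],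
  [Int.ofNat 1, Int.negSucc 0, Int.ofNat 1, Int.ofNat 1, Int.negSucc 0, Int.negSucc 0, Int.negSucc 0, Int.ofNat 1, Int.ofNat 1, Int.negSucc 0, Int.negSucc 0, Int.negSucc 0, Int.negSucc 0, Int.ofNat 1, Int.ofNat 3, Int.ofNat 1, Int.negSucc 0, Int.ofNat 1, Int.ofNat 1, Int.ofNat 1, Int.ofNat 1, Int.negSucc 0, Int.ofNat 1, Int.negSucc 0],
  [Int.ofNat 1, Int.negSucc 0, Int.negSucc 0, Int.ofNat 1, Int.ofNat 1, Int.ofNat 1, Int.ofNat 1, Int.negSucc 0, Int.negSucc 0, Int.ofNat 1, Int.ofNat 1, Int.ofNat 1, Int.negSucc 0, Int.negSucc 0, Int.ofNat 1, Int.ofNat 1, Int.ofNat 1, Int.ofNat 3, Int.negSucc 0, Int.negSucc 0, Int.negSucc 0, Int.negSucc 0, Int.ofNat 1, Int.negSucc 0],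
  [Int.negSucc 1, Int.ofNat 0, Int.ofNat 0, Int.negSucc 1, Int.ofNat 0, Int.negSucc 1, Int.ofNat 2, Int.ofNat 0, Int.ofNat 0, Int.ofNat 0, Int.ofNat 0, Int.ofNat 2, Int.ofNat 0, Int.negSucc 1, Int.negSucc 1, Int.ofNat 0, Int.ofNat 0, Int.ofNat 0, Int.ofNat 0, Int.ofNat 0, Int.negSucc 1, Int.ofNat 0, Int.ofNat 0, Int.ofNat 0],
  [Int.negSucc 1, Int.ofNat 0, Int.ofNat 0, Int.negSucc 1, Int.ofNat 0, Int.ofNat 2, Int.negSucc 1, Int.ofNat 0, Int.ofNat 0, Int.ofNat 0, Int.ofNat 0, Int.ofNat 2, Int.ofNat 0, Int.negSucc 1, Int.negSucc 1, Int.ofNat 0, Int.ofNat 0, Int.ofNat 0, Int.ofNat 0, Int.ofNat 0, Int.negSucc 1, Int.ofNat 0, Int.ofNat 0, Int.ofNat 0],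
  [Int.ofNat 0, Int.ofNat 0, Int.ofNat 2, Int.ofNat 0, Int.negSucc 1, Int.negSucc 1, Int.ofNat 0, Int.negSucc 1, Int.ofNat 2, Int.negSucc 1, Int.negSucc 1, Int.ofNat 0, Int.ofNat 0, Int.ofNat 0, Int.ofNat 0, Int.ofNat 0, Int.ofNat 0, Int.ofNat 0, Int.ofNat 0, Int.ofNat 0, Int.negSucc 1, Int.ofNat 0, Int.ofNat 0, Int.ofNat 0],
  [Int.ofNat 0, Int.ofNat 0, Int.negSucc 1, Int.ofNat 0, Int.ofNat 2, Int.negSucc 1, Int.ofNat 0, Int.negSucc 1, Int.negSucc 1, Int.ofNat 2, Int.negSucc 1, Int.ofNat 0, Int.ofNat 0, Int.ofNat 0, Int.ofNat 0, Int.ofNat 0, Int.ofNat 0, Int.ofNat 0, Int.ofNat 0, Int.ofNat 0, Int.negSucc 1, Int.ofNat 0, Int.ofNat 0, Int.ofNat 0],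
  [Int.ofNat 0, Int.ofNat 0, Int.ofNat 0, Int.ofNat 0, Int.ofNat 0, Int.ofNat 2, Int.ofNat 0, Int.ofNat 0, Int.negSucc 1, Int.negSucc 1, Int.ofNat 0, Int.negSucc 1, Int.ofNat 0, Int.negSucc 1, Int.ofNat 0, Int.ofNat 0, Int.negSucc 1, Int.ofNat 2, Int.ofNat 0, Int.ofNat 0, Int.negSucc 1, Int.ofNat 0, Int.ofNat 0, Int.ofNat 0],
  [Int.ofNat 0, Int.ofNat 0, Int.ofNat 0, Int.ofNat 0, Int.ofNat 0, Int.ofNat 2, Int.ofNat 0, Int.ofNat 0, Int.negSucc 1, Int.ofNat 2, Int.ofNat 0, Int.ofNat 2, Int.ofNat 0, Int.negSucc 1, Int.ofNat 0, Int.ofNat 0, Int.negSucc 1, Int.ofNat 2, Int.ofNat 0, Int.ofNat 0, Int.negSucc 1, Int.ofNat 0, Int.ofNat 0, Int.ofNat 0],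
  [Int.ofNat 0, Int.ofNat 0, Int.ofNat 0, Int.ofNat 0, Int.ofNat 0, Int.ofNat 0, Int.ofNat 2, Int.ofNat 0, Int.ofNat 0, Int.negSucc 1, Int.ofNat 2, Int.ofNat 0, Int.ofNat 2, Int.ofNat 0, Int.negSucc 1, Int.ofNat 0, Int.ofNat 0, Int.negSucc 1, Int.ofNat 2, Int.ofNat 0, Int.ofNat 0, Int.negSucc 1, Int.ofNat 0, Int.ofNat 0],
  [Int.ofNat 0, Int.ofNat 0, Int.ofNat 0, Int.ofNat 2, Int.ofNat 0, Int.ofNat 2, Int.ofNat 2, Int.ofNat 0, Int.negSucc 1, Int.negSucc 1, Int.ofNat 2, Int.negSucc 1, Int.ofNat 0, Int.ofNat 0, Int.ofNat 0, Int.ofNat 0, Int.ofNat 0, Int.ofNat 0, Int.ofNat 0, Int.ofNat 0, Int.ofNat 0, Int.negSucc 1, Int.ofNat 0, Int.ofNat 0],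
  [Int.ofNat 2, Int.ofNat 0, Int.ofNat 2, Int.ofNat 2, Int.ofNat 0, Int.negSucc 1, Int.negSucc 1, Int.ofNat 2, Int.negSucc 1, Int.ofNat 0, Int.ofNat 0, Int.ofNat 0, Int.ofNat 0, Int.ofNat 0, Int.ofNat 0, Int.ofNat 0, Int.ofNat 0, Int.ofNat 0, Int.negSucc 1, Int.ofNat 0, Int.ofNat 0, Int.ofNat 0, Int.ofNat 0, Int.ofNat 0],
  [Int.ofNat 0, Int.ofNat 2, Int.ofNat 0, Int.ofNat 2, Int.ofNat 0, Int.negSucc 1, Int.negSucc 1, Int.ofNat 2, Int.ofNat 0, Int.ofNat 0, Int.ofNat 0, Int.ofNat 2, Int.ofNat 2, Int.ofNat 0, Int.ofNat 0, Int.ofNat 0, Int.ofNat 0, Int.ofNat 0, Int.ofNat 0, Int.ofNat 0, Int.ofNat 0, Int.ofNat 0, Int.ofNat 0, Int.ofNat 2],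
  [Int.ofNat 0, Int.negSucc 1, Int.ofNat 0, Int.ofNat 2, Int.ofNat 0, Int.ofNat 2, Int.ofNat 0, Int.ofNat 0, Int.ofNat 2, Int.ofNat 0, Int.ofNat 0, Int.ofNat 0, Int.ofNat 0, Int.ofNat 0, Int.ofNat 0, Int.ofNat 0, Int.ofNat 0, Int.ofNat 0, Int.ofNat 2, Int.ofNat 2, Int.ofNat 0, Int.negSucc 1, Int.ofNat 0, Int.ofNat 2],
  [Int.ofNat 0, Int.ofNat 2, Int.ofNat 0, Int.ofNat 0, Int.ofNat 0, Int.ofNat 0, Int.ofNat 0, Int.ofNat 0, Int.ofNat 0, Int.ofNat 0, Int.ofNat 0, Int.negSucc 1, Int.negSucc 1, Int.ofNat 0, Int.negSucc 1, Int.ofNat 0, Int.ofNat 0, Int.negSucc 1, Int.ofNat 0, Int.ofNat 2, Int.ofNat 0, Int.negSucc 1, Int.ofNat 0, Int.negSucc 1],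
  [Int.ofNat 0, Int.ofNat 2, Int.ofNat 0, Int.ofNat 0, Int.ofNat 0, Int.ofNat 0, Int.ofNat 0, Int.ofNat 0, Int.ofNat 0, Int.ofNat 0, Int.ofNat 0, Int.negSucc 1, Int.negSucc 1, Int.ofNat 0, Int.negSucc 1, Int.ofNat 0, Int.ofNat 0, Int.negSucc 1, Int.ofNat 0, Int.ofNat 2, Int.ofNat 0, Int.negSucc 1, Int.ofNat 0, Int.negSucc 1],
  [Int.ofNat 0, Int.negSucc 1, Int.negSucc 1, Int.ofNat 0, Int.ofNat 2, Int.ofNat 2, Int.ofNat 0, Int.ofNat 0, Int.ofNat 0, Int.ofNat 0, Int.ofNat 0, Int.ofNat 0, Int.negSucc 1, Int.ofNat 0, Int.ofNat 0, Int.ofNat 0, Int.ofNat 0, Int.ofNat 0, Int.ofNat 0, Int.ofNat 0, Int.negSucc 1, Int.negSucc 1, Int.ofNat 0, Int.negSucc 1],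
  [Int.ofNat 0, Int.negSucc 1, Int.ofNat 2, Int.ofNat 0, Int.ofNat 2, Int.negSucc 1, Int.ofNat 0, Int.ofNat 0, Int.ofNat 0, Int.ofNat 0, Int.ofNat 0, Int.ofNat 0, Int.negSucc 1, Int.ofNat 0, Int.ofNat 0, Int.ofNat 0, Int.ofNat 0, Int.ofNat 0, Int.ofNat 0, Int.ofNat 0, Int.negSucc 1, Int.negSucc 1, Int.ofNat 0, Int.negSucc 1],
  [Int.negSucc 0, Int.ofNat 1, Int.negSucc 2, Int.ofNat 1, Int.ofNat 1, Int.negSucc 0, Int.ofNat 1, Int.ofNat 1, Int.ofNat 1, Int.ofNat 1, Int.ofNat 1, Int.ofNat 1, Int.negSucc 0, Int.negSucc 0, Int.ofNat 1, Int.ofNat 1, Int.negSucc 0, Int.ofNat 1, Int.ofNat 1, Int.ofNat 1, Int.negSucc 0, Int.negSucc 0, Int.negSucc 0, Int.ofNat 1],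
  [Int.negSucc 0, Int.ofNat 1, Int.ofNat 1, Int.ofNat 1, Int.negSucc 2, Int.negSucc 0, Int.ofNat 1, Int.negSucc 0, Int.negSucc 0, Int.negSucc 0, Int.ofNat 1, Int.ofNat 1, Int.ofNat 1, Int.ofNat 1, Int.ofNat 1, Int.ofNat 1, Int.negSucc 0, Int.ofNat 1, Int.ofNat 1, Int.negSucc 0, Int.ofNat 1, Int.negSucc 0, Int.ofNat 1, Int.ofNat 1],
  [Int.ofNat 2, Int.ofNat 0, Int.ofNat 0, Int.ofNat 0, Int.negSucc 1, Int.negSucc 1, Int.ofNat 2, Int.ofNat 0, Int.negSucc 1, Int.negSucc 1, Int.ofNat 0, Int.ofNat 0, Int.ofNat 0, Int.ofNat 2, Int.ofNat 0, Int.ofNat 0, Int.ofNat 0, Int.ofNat 0, Int.ofNat 0, Int.ofNat 0, Int.ofNat 0, Int.ofNat 0, Int.ofNat 2, Int.ofNat 0],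
  [Int.ofNat 0, Int.ofNat 0, Int.ofNat 2, Int.ofNat 2, Int.ofNat 0, Int.ofNat 0, Int.ofNat 0, Int.negSucc 1, Int.negSucc 1, Int.ofNat 2, Int.ofNat 0, Int.negSucc 1, Int.negSucc 1, Int.ofNat 0, Int.ofNat 0, Int.ofNat 0, Int.ofNat 2, Int.ofNat 0, Int.ofNat 0, Int.ofNat 0, Int.ofNat 0, Int.ofNat 0, Int.ofNat 0, Int.ofNat 0],
  [Int.ofNat 1, Int.ofNat 1, Int.negSucc 0, Int.ofNat 1, Int.negSucc 0, Int.negSucc 0, Int.ofNat 1, Int.negSucc 0, Int.ofNat 1, Int.ofNat 1, Int.negSucc 0, Int.ofNat 1, Int.ofNat 1, Int.negSucc 0, Int.negSucc 0, Int.negSucc 0, Int.ofNat 1, Int.negSucc 0, Int.ofNat 3, Int.ofNat 1, Int.negSucc 0, Int.ofNat 1, Int.negSucc 0, Int.ofNat 1],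
  [Int.ofNat 1, Int.negSucc 0, Int.ofNat 1, Int.negSucc 0, Int.negSucc 0, Int.ofNat 1, Int.negSucc 0, Int.ofNat 1, Int.ofNat 1, Int.negSucc 0, Int.ofNat 1, Int.ofNat 1, Int.negSucc 0, Int.negSucc 0, Int.negSucc 0, Int.ofNat 1, Int.negSucc 0, Int.ofNat 3, Int.ofNat 1, Int.negSucc 0, Int.ofNat 1, Int.negSucc 0, Int.ofNat 1, Int.ofNat 1],
  [Int.negSucc 0, Int.negSucc 0, Int.negSucc 0, Int.negSucc 0, Int.negSucc 0, Int.ofNat 1, Int.negSucc 0, Int.negSucc 0, Int.ofNat 1, Int.ofNat 1, Int.negSucc 0, Int.negSucc 0, Int.negSucc 0, Int.negSucc 0, Int.negSucc 0, Int.ofNat 1, Int.negSucc 0, Int.ofNat 3, Int.negSucc 0, Int.negSucc 0, Int.ofNat 1, Int.ofNat 1, Int.ofNat 1, Int.ofNat 1],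
  [Int.negSucc 0, Int.negSucc 0, Int.negSucc 0, Int.negSucc 0, Int.negSucc 0, Int.negSucc 0, Int.negSucc 0, Int.ofNat 1, Int.ofNat 1, Int.negSucc 0, Int.ofNat 1, Int.negSucc 0, Int.negSucc 0, Int.ofNat 1, Int.negSucc 0, Int.ofNat 1, Int.negSucc 0, Int.ofNat 1, Int.negSucc 0, Int.ofNat 3, Int.ofNat 1, Int.negSucc 0, Int.negSucc 0, Int.ofNat 1],
  [Int.ofNat 1, Int.negSucc 0, Int.ofNat 1, Int.negSucc 0, Int.negSucc 0, Int.negSucc 0, Int.negSucc 0, Int.negSucc 0, Int.ofNat 1, Int.ofNat 1, Int.negSucc 0, Int.ofNat 1, Int.negSucc 0, Int.ofNat 1, Int.negSucc 0, Int.ofNat 1, Int.negSucc 0, Int.ofNat 1, Int.ofNat 1, Int.ofNat 3, Int.ofNat 1, Int.ofNat 1, Int.negSucc 0, Int.ofNat 1],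
  [Int.negSucc 0, Int.ofNat 1, Int.negSucc 0, Int.ofNat 1, Int.negSucc 0, Int.negSucc 0, Int.negSucc 0, Int.negSucc 0, Int.negSucc 0, Int.ofNat 1, Int.ofNat 1, Int.negSucc 0, Int.ofNat 1, Int.negSucc 0, Int.ofNat 1, Int.negSucc 0, Int.ofNat 1, Int.negSucc 0, Int.ofNat 1, Int.ofNat 1, Int.ofNat 3, Int.ofNat 1, Int.ofNat 1, Int.ofNat 1],
  [Int.ofNat 1, Int.negSucc 0, Int.ofNat 1, Int.ofNat 1, Int.negSucc 0, Int.negSucc 0, Int.negSucc 0, Int.negSucc 0, Int.negSucc 0, Int.negSucc 0, Int.negSucc 0, Int.negSucc 0, Int.ofNat 1, Int.negSucc 0, Int.ofNat 1, Int.negSucc 2, Int.ofNat 1, Int.negSucc 0, Int.ofNat 1, Int.ofNat 1, Int.ofNat 1, Int.ofNat 1, Int.ofNat 1, Int.negSucc 0],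
  [Int.ofNat 1, Int.negSucc 0, Int.negSucc 0, Int.negSucc 0, Int.negSucc 0, Int.negSucc 0, Int.negSucc 0, Int.negSucc 0, Int.negSucc 0, Int.ofNat 1, Int.negSucc 0, Int.ofNat 1, Int.negSucc 2, Int.ofNat 1, Int.negSucc 0, Int.ofNat 1, Int.ofNat 1, Int.ofNat 1, Int.ofNat 1, Int.ofNat 1, Int.ofNat 1, Int.negSucc 0, Int.ofNat 1, Int.negSucc 0],
  [Int.negSucc 1, Int.ofNat 0, Int.ofNat 0, Int.ofNat 0, Int.negSucc 1, Int.ofNat 0, Int.ofNat 0, Int.ofNat 0, Int.ofNat 0, Int.ofNat 0, Int.negSucc 1, Int.ofNat 2, Int.negSucc 1, Int.ofNat 0, Int.ofNat 0, Int.ofNat 0, Int.ofNat 0, Int.ofNat 2, Int.ofNat 2, Int.ofNat 2, Int.ofNat 0, Int.ofNat 0, Int.ofNat 0, Int.ofNat 0],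
  [Int.negSucc 1, Int.ofNat 0, Int.negSucc 1, Int.ofNat 0, Int.ofNat 2, Int.ofNat 0, Int.ofNat 0, Int.negSucc 1, Int.negSucc 1, Int.ofNat 0, Int.ofNat 0, Int.ofNat 2, Int.ofNat 0, Int.ofNat 0, Int.ofNat 0, Int.ofNat 0, Int.ofNat 0, Int.ofNat 0, Int.ofNat 0, Int.ofNat 2, Int.ofNat 0, Int.ofNat 0, Int.ofNat 2, Int.ofNat 0],
  [Int.ofNat 0, Int.negSucc 1, Int.ofNat 0, Int.ofNat 0, Int.ofNat 0, Int.ofNat 0, Int.ofNat 0, Int.negSucc 1, Int.negSucc 1, Int.ofNat 0, Int.ofNat 0, Int.ofNat 2, Int.ofNat 0, Int.negSucc 1, Int.ofNat 0, Int.ofNat 0, Int.negSucc 1, Int.ofNat 0, Int.ofNat 0, Int.ofNat 2, Int.ofNat 0, Int.ofNat 0, Int.ofNat 0, Int.negSucc 1],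
  [Int.ofNat 0, Int.negSucc 1, Int.ofNat 0, Int.ofNat 0, Int.ofNat 0, Int.ofNat 0, Int.ofNat 0, Int.negSucc 1, Int.negSucc 1, Int.ofNat 0, Int.ofNat 0, Int.ofNat 2, Int.ofNat 0, Int.negSucc 1, Int.ofNat 0, Int.ofNat 0, Int.negSucc 1, Int.ofNat 0, Int.ofNat 0, Int.ofNat 2, Int.ofNat 0, Int.ofNat 0, Int.ofNat 0, Int.negSucc 1],
  [Int.ofNat 0, Int.negSucc 1, Int.ofNat 2, Int.negSucc 1, Int.ofNat 0, Int.ofNat 0, Int.ofNat 0, Int.ofNat 0, Int.ofNat 0, Int.ofNat 0, Int.negSucc 1, Int.negSucc 1, Int.ofNat 0, Int.ofNat 0, Int.ofNat 0, Int.ofNat 0, Int.ofNat 2, Int.ofNat 0, Int.ofNat 0, Int.ofNat 0, Int.ofNat 0, Int.negSucc 1, Int.ofNat 0, Int.negSucc 1],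
  [Int.ofNat 0, Int.ofNat 2, Int.negSucc 1, Int.ofNat 2, Int.ofNat 0, Int.ofNat 0, Int.ofNat 0, Int.ofNat 0, Int.ofNat 0, Int.ofNat 0, Int.negSucc 1, Int.negSucc 1, Int.ofNat 0, Int.ofNat 0, Int.ofNat 0, Int.ofNat 0, Int.negSucc 1, Int.ofNat 0, Int.ofNat 0, Int.ofNat 0, Int.ofNat 0, Int.negSucc 1, Int.ofNat 0, Int.negSucc 1],
  [Int.negSucc 1, Int.ofNat 0, Int.negSucc 1, Int.ofNat 0, Int.ofNat 0, Int.ofNat 0, Int.ofNat 0, Int.ofNat 0, Int.ofNat 0, Int.ofNat 0, Int.negSucc 1, Int.negSucc 1, Int.negSucc 1, Int.ofNat 0, Int.ofNat 0, Int.ofNat 2, Int.negSucc 1, Int.ofNat 0, Int.ofNat 0, Int.ofNat 0, Int.ofNat 0, Int.ofNat 0, Int.ofNat 2, Int.ofNat 0],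
  [Int.ofNat 2, Int.ofNat 0, Int.ofNat 2, Int.ofNat 0, Int.ofNat 0, Int.ofNat 0, Int.ofNat 0, Int.ofNat 0, Int.ofNat 0, Int.ofNat 0, Int.ofNat 2, Int.ofNat 2, Int.negSucc 1, Int.ofNat 0, Int.ofNat 0, Int.ofNat 2, Int.negSucc 1, Int.ofNat 0, Int.ofNat 0, Int.ofNat 0, Int.ofNat 0, Int.ofNat 0, Int.ofNat 2, Int.ofNat 0],
  [Int.ofNat 2, Int.ofNat 2, Int.ofNat 0, Int.ofNat 2, Int.ofNat 0, Int.ofNat 0, Int.ofNat 0, Int.ofNat 0, Int.ofNat 0, Int.ofNat 0, Int.ofNat 0, Int.ofNat 2, Int.ofNat 2, Int.negSucc 1, Int.ofNat 0, Int.ofNat 0, Int.ofNat 2, Int.negSucc 1, Int.ofNat 0, Int.ofNat 0, Int.ofNat 0, Int.ofNat 0, Int.ofNat 0, Int.ofNat 0],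
  [Int.ofNat 0, Int.ofNat 0, Int.ofNat 2, Int.ofNat 2, Int.ofNat 0, Int.ofNat 0, Int.ofNat 0, Int.ofNat 0, Int.negSucc 1, Int.ofNat 0, Int.ofNat 0, Int.ofNat 0, Int.ofNat 0, Int.negSucc 1, Int.ofNat 0, Int.ofNat 0, Int.ofNat 2, Int.negSucc 1, Int.negSucc 1, Int.ofNat 0, Int.ofNat 0, Int.ofNat 0, Int.ofNat 0, Int.ofNat 2],
  [Int.ofNat 2, Int.ofNat 0, Int.ofNat 0, Int.ofNat 0, Int.ofNat 0, Int.negSucc 1, Int.ofNat 0, Int.ofNat 0, Int.ofNat 0, Int.ofNat 0, Int.negSucc 1, Int.ofNat 0, Int.ofNat 0, Int.ofNat 2, Int.negSucc 1, Int.negSucc 1, Int.ofNat 0, Int.ofNat 0, Int.ofNat 0, Int.ofNat 0, Int.ofNat 0, Int.ofNat 0, Int.ofNat 2, Int.ofNat 2],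
  [Int.ofNat 0, Int.ofNat 2, Int.ofNat 2, Int.ofNat 2, Int.negSucc 1, Int.ofNat 0, Int.ofNat 0, Int.ofNat 0, Int.ofNat 0, Int.ofNat 2, Int.ofNat 0, Int.ofNat 0, Int.ofNat 0, Int.ofNat 0, Int.ofNat 0, Int.ofNat 0, Int.negSucc 1, Int.ofNat 2, Int.ofNat 0, Int.ofNat 0, Int.ofNat 2, Int.ofNat 0, Int.ofNat 0, Int.ofNat 0],
  [Int.ofNat 0, Int.ofNat 0, Int.negSucc 1, Int.ofNat 2, Int.ofNat 0, Int.ofNat 0, Int.ofNat 2, Int.ofNat 0, Int.ofNat 0, Int.ofNat 0, Int.ofNat 2, Int.ofNat 2, Int.ofNat 2, Int.negSucc 1, Int.ofNat 0, Int.ofNat 0, Int.ofNat 0, Int.ofNat 0, Int.ofNat 2, Int.ofNat 0, Int.ofNat 0, Int.ofNat 0, Int.ofNat 0, Int.ofNat 0],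
  [Int.negSucc 0, Int.negSucc 0, Int.ofNat 1, Int.ofNat 1, Int.ofNat 1, Int.negSucc 0, Int.ofNat 1, Int.negSucc 0, Int.negSucc 2, Int.negSucc 0, Int.ofNat 1, Int.negSucc 0, Int.negSucc 0, Int.negSucc 0, Int.negSucc 0, Int.negSucc 0, Int.ofNat 1, Int.negSucc 0, Int.negSucc 0, Int.negSucc 0, Int.negSucc 0, Int.negSucc 0, Int.ofNat 1, Int.negSucc 0],
  [Int.negSucc 0, Int.negSucc 0, Int.negSucc 0, Int.ofNat 1, Int.ofNat 1, Int.ofNat 1, Int.negSucc 0, Int.negSucc 0, Int.negSucc 2, Int.ofNat 1, Int.negSucc 0, Int.negSucc 0, Int.negSucc 0, Int.negSucc 0, Int.negSucc 0, Int.ofNat 1, Int.ofNat 1, Int.negSucc 0, Int.ofNat 1, Int.negSucc 0, Int.negSucc 0, Int.negSucc 0, Int.negSucc 0, Int.negSucc 0],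
  [Int.negSucc 0, Int.negSucc 0, Int.negSucc 0, Int.ofNat 1, Int.negSucc 0, Int.negSucc 0, Int.ofNat 1, Int.negSucc 0, Int.negSucc 0, Int.negSucc 2, Int.ofNat 1, Int.negSucc 0, Int.negSucc 0, Int.ofNat 1, Int.ofNat 1, Int.negSucc 0, Int.negSucc 0, Int.negSucc 0, Int.negSucc 0, Int.ofNat 1, Int.negSucc 0, Int.negSucc 0, Int.ofNat 1, Int.negSucc 0],
  [Int.negSucc 0, Int.negSucc 0, Int.ofNat 1, Int.ofNat 1, Int.negSucc 0, Int.ofNat 1, Int.negSucc 0, Int.negSucc 0, Int.negSucc 0, Int.ofNat 3, Int.negSucc 0, Int.negSucc 0, Int.negSucc 0, Int.ofNat 1, Int.ofNat 1, Int.ofNat 1, Int.negSucc 0, Int.negSucc 0, Int.ofNat 1, Int.ofNat 1, Int.negSucc 0, Int.negSucc 0, Int.negSucc 0, Int.negSucc 0],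
  [Int.ofNat 0, Int.ofNat 0, Int.negSucc 1, Int.ofNat 0, Int.ofNat 0, Int.ofNat 0, Int.ofNat 0, Int.ofNat 0, Int.ofNat 0, Int.ofNat 2, Int.negSucc 1, Int.ofNat 0, Int.ofNat 0, Int.ofNat 2, Int.ofNat 0, Int.ofNat 0, Int.ofNat 0, Int.negSucc 1, Int.ofNat 2, Int.ofNat 2, Int.negSucc 1, Int.ofNat 0, Int.ofNat 0, Int.ofNat 0],
  [Int.ofNat 0, Int.ofNat 2, Int.ofNat 0, Int.ofNat 0, Int.negSucc 1, Int.ofNat 0, Int.ofNat 0, Int.ofNat 0, Int.ofNat 0, Int.ofNat 0, Int.ofNat 0, Int.ofNat 2, Int.ofNat 0, Int.ofNat 2, Int.negSucc 1, Int.ofNat 0, Int.ofNat 2, Int.ofNat 0, Int.ofNat 0, Int.ofNat 0, Int.negSucc 1, Int.negSucc 1, Int.ofNat 0, Int.ofNat 0],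
  [Int.ofNat 1, Int.negSucc 0, Int.ofNat 1, Int.ofNat 1, Int.negSucc 2, Int.ofNat 1, Int.ofNat 1, Int.ofNat 1, Int.negSucc 0, Int.ofNat 1, Int.ofNat 1, Int.ofNat 1, Int.negSucc 0, Int.ofNat 1, Int.negSucc 0, Int.ofNat 1, Int.ofNat 1, Int.ofNat 1, Int.negSucc 0, Int.ofNat 1, Int.negSucc 0, Int.negSucc 0, Int.negSucc 0, Int.ofNat 1],
  [Int.negSucc 0, Int.negSucc 0, Int.negSucc 0, Int.ofNat 1, Int.negSucc 0, Int.ofNat 1, Int.ofNat 1, Int.negSucc 2, Int.ofNat 1, Int.ofNat 1, Int.ofNat 1, Int.negSucc 0, Int.ofNat 1, Int.ofNat 1, Int.ofNat 1, Int.negSucc 0, Int.ofNat 1, Int.negSucc 0, Int.ofNat 1, Int.ofNat 1, Int.ofNat 1, Int.negSucc 0, Int.ofNat 1, Int.ofNat 1],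
  [Int.ofNat 0, Int.ofNat 0, Int.ofNat 0, Int.ofNat 0, Int.negSucc 1, Int.ofNat 0, Int.ofNat 2, Int.negSucc 1, Int.ofNat 0, Int.ofNat 0, Int.ofNat 0, Int.negSucc 1, Int.ofNat 0, Int.ofNat 0, Int.ofNat 0, Int.negSucc 1, Int.ofNat 0, Int.negSucc 1, Int.ofNat 0, Int.ofNat 2, Int.ofNat 0, Int.ofNat 0, Int.ofNat 0, Int.negSucc 1],
  [Int.ofNat 0, Int.ofNat 0, Int.ofNat 0, Int.negSucc 1, Int.ofNat 0, Int.ofNat 2, Int.negSucc 1, Int.ofNat 0, Int.ofNat 0, Int.ofNat 0, Int.negSucc 1, Int.ofNat 0, Int.ofNat 0, Int.ofNat 0, Int.negSucc 1, Int.ofNat 0, Int.negSucc 1, Int.ofNat 0, Int.ofNat 2, Int.ofNat 0, Int.ofNat 0, Int.ofNat 0, Int.ofNat 0, Int.negSucc 1],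
  [Int.ofNat 0, Int.ofNat 0, Int.ofNat 0, Int.negSucc 1, Int.ofNat 0, Int.ofNat 2, Int.negSucc 1, Int.ofNat 0, Int.ofNat 0, Int.ofNat 0, Int.ofNat 2, Int.ofNat 0, Int.ofNat 0, Int.ofNat 0, Int.negSucc 1, Int.ofNat 0, Int.negSucc 1, Int.ofNat 0, Int.negSucc 1, Int.ofNat 0, Int.ofNat 0, Int.ofNat 0, Int.ofNat 0, Int.negSucc 1],
  [Int.ofNat 0, Int.ofNat 0, Int.negSucc 1, Int.negSucc 1, Int.ofNat 0, Int.ofNat 2, Int.ofNat 0, Int.ofNat 0, Int.ofNat 0, Int.negSucc 1, Int.ofNat 0, Int.negSucc 1, Int.ofNat 0, Int.ofNat 0, Int.ofNat 0, Int.ofNat 0, Int.ofNat 0, Int.ofNat 0, Int.negSucc 1, Int.ofNat 0, Int.ofNat 2, Int.ofNat 0, Int.ofNat 0, Int.negSucc 1],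
  [Int.ofNat 0, Int.ofNat 0, Int.ofNat 2, Int.negSucc 1, Int.ofNat 0, Int.ofNat 2, Int.ofNat 0, Int.ofNat 0, Int.ofNat 0, Int.ofNat 2, Int.ofNat 0, Int.ofNat 2, Int.ofNat 0, Int.ofNat 0, Int.ofNat 0, Int.ofNat 0, Int.ofNat 0, Int.ofNat 0, Int.ofNat 2, Int.ofNat 0, Int.ofNat 2, Int.ofNat 0, Int.ofNat 0, Int.negSucc 1],
  [Int.ofNat 0, Int.ofNat 0, Int.ofNat 0, Int.ofNat 2, Int.negSucc 1, Int.ofNat 0, Int.ofNat 2, Int.ofNat 0, Int.ofNat 0, Int.ofNat 0, Int.ofNat 2, Int.ofNat 0, Int.ofNat 2, Int.ofNat 0, Int.ofNat 0, Int.ofNat 0, Int.ofNat 0, Int.ofNat 0, Int.ofNat 0, Int.ofNat 2, Int.ofNat 0, Int.ofNat 2, Int.ofNat 0, Int.negSucc 1],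
  [Int.negSucc 0, Int.negSucc 0, Int.negSucc 0, Int.ofNat 1, Int.negSucc 0, Int.negSucc 0, Int.negSucc 0, Int.negSucc 2, Int.negSucc 0, Int.negSucc 0, Int.ofNat 1, Int.negSucc 0, Int.ofNat 1, Int.ofNat 1, Int.negSucc 0, Int.negSucc 0, Int.ofNat 1, Int.negSucc 0, Int.negSucc 0, Int.negSucc 0, Int.negSucc 0, Int.negSucc 0, Int.ofNat 1, Int.ofNat 1],
  [Int.ofNat 1, Int.negSucc 0, Int.negSucc 0, Int.negSucc 0, Int.negSucc 2, Int.negSucc 0, Int.negSucc 0, Int.ofNat 1, Int.negSucc 0, Int.ofNat 1, Int.ofNat 1, Int.negSucc 0, Int.negSucc 0, Int.ofNat 1, Int.negSucc 0, Int.negSucc 0, Int.negSucc 0, Int.negSucc 0, Int.negSucc 0, Int.ofNat 1, Int.negSucc 0, Int.negSucc 0, Int.negSucc 0, Int.ofNat 1],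
  [Int.negSucc 0, Int.ofNat 1, Int.ofNat 1, Int.ofNat 1, Int.negSucc 0, Int.ofNat 1, Int.negSucc 0, Int.ofNat 1, Int.ofNat 1, Int.ofNat 1, Int.ofNat 1, Int.ofNat 1, Int.ofNat 1, Int.ofNat 3, Int.ofNat 1, Int.negSucc 0, Int.ofNat 1, Int.ofNat 1, Int.ofNat 1, Int.ofNat 1, Int.negSucc 0, Int.negSucc 0, Int.ofNat 1, Int.negSucc 0],
  [Int.negSucc 0, Int.negSucc 0, Int.negSucc 0, Int.ofNat 1, Int.ofNat 1, Int.ofNat 1, Int.ofNat 1, Int.ofNat 1, Int.ofNat 1, Int.ofNat 3, Int.negSucc 0, Int.ofNat 1, Int.ofNat 1, Int.ofNat 1, Int.ofNat 1, Int.negSucc 0, Int.ofNat 1, Int.ofNat 1, Int.ofNat 1, Int.ofNat 1, Int.negSucc 0, Int.ofNat 1, Int.ofNat 1, Int.negSucc 0],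
  [Int.negSucc 0, Int.negSucc 0, Int.negSucc 0, Int.negSucc 0, Int.negSucc 0, Int.negSucc 0, Int.negSucc 0, Int.negSucc 0, Int.negSucc 0, Int.ofNat 3, Int.negSucc 0, Int.negSucc 0, Int.negSucc 0, Int.negSucc 0, Int.negSucc 0, Int.negSucc 0, Int.negSucc 0, Int.negSucc 0, Int.negSucc 0, Int.negSucc 0, Int.negSucc 0, Int.negSucc 0, Int.negSucc 0, Int.negSucc 0],
  [Int.negSucc 0, Int.negSucc 0, Int.ofNat 1, Int.negSucc 0, Int.negSucc 0, Int.ofNat 1, Int.ofNat 1, Int.negSucc 0, Int.negSucc 0, Int.negSucc 2, Int.ofNat 1, Int.negSucc 0, Int.negSucc 0, Int.negSucc 0, Int.negSucc 0, Int.ofNat 1, Int.negSucc 0, Int.negSucc 0, Int.ofNat 1, Int.negSucc 0, Int.negSucc 0, Int.negSucc 0, Int.ofNat 1, Int.negSucc 0],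
  [Int.ofNat 1, Int.negSucc 0, Int.negSucc 0, Int.negSucc 0, Int.negSucc 0, Int.ofNat 1, Int.negSucc 0, Int.negSucc 0, Int.ofNat 1, Int.negSucc 0, Int.negSucc 0, Int.negSucc 0, Int.ofNat 1, Int.negSucc 0, Int.negSucc 0, Int.ofNat 1, Int.negSucc 0, Int.negSucc 0, Int.negSucc 2, Int.ofNat 1, Int.negSucc 0, Int.negSucc 0, Int.ofNat 1, Int.negSucc 0],
  [Int.negSucc 0, Int.ofNat 1, Int.ofNat 1, Int.ofNat 1, Int.ofNat 1, Int.ofNat 1, Int.ofNat 1, Int.negSucc 0, Int.negSucc 0, Int.ofNat 1, Int.negSucc 0, Int.negSucc 0, Int.negSucc 0, Int.ofNat 1, Int.negSucc 0, Int.ofNat 1, Int.ofNat 1, Int.negSucc 0, Int.ofNat 3, Int.ofNat 1, Int.negSucc 0, Int.negSucc 0, Int.ofNat 1, Int.negSucc 0],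
  [Int.negSucc 0, Int.ofNat 1, Int.negSucc 0, Int.ofNat 1, Int.negSucc 0, Int.ofNat 1, Int.ofNat 1, Int.ofNat 1, Int.negSucc 0, Int.ofNat 1, Int.ofNat 1, Int.ofNat 1, Int.negSucc 0, Int.negSucc 0, Int.ofNat 3, Int.ofNat 1, Int.negSucc 0, Int.ofNat 1, Int.negSucc 0, Int.ofNat 1, Int.negSucc 0, Int.negSucc 0, Int.ofNat 1, Int.negSucc 0],
  [Int.ofNat 1, Int.ofNat 1, Int.ofNat 1, Int.ofNat 1, Int.negSucc 0, Int.ofNat 1, Int.ofNat 1, Int.negSucc 0, Int.negSucc 0, Int.negSucc 0, Int.negSucc 0, Int.negSucc 0, Int.negSucc 0, Int.negSucc 0, Int.ofNat 3, Int.ofNat 1, Int.negSucc 0, Int.ofNat 1, Int.ofNat 1, Int.ofNat 1, Int.negSucc 0, Int.ofNat 1, Int.ofNat 1, Int.negSucc 0],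
  [Int.ofNat 1, Int.ofNat 1, Int.ofNat 1, Int.ofNat 1, Int.ofNat 1, Int.negSucc 0, Int.ofNat 1, Int.ofNat 1, Int.negSucc 0, Int.negSucc 0, Int.negSucc 0, Int.negSucc 0, Int.negSucc 0, Int.negSucc 0, Int.negSucc 0, Int.ofNat 3, Int.ofNat 1, Int.negSucc 0, Int.ofNat 1, Int.ofNat 1, Int.ofNat 1, Int.negSucc 0, Int.ofNat 1, Int.negSucc 0],
  [Int.ofNat 0, Int.ofNat 0, Int.ofNat 0, Int.ofNat 2, Int.ofNat 0, Int.ofNat 0, Int.ofNat 0, Int.ofNat 0, Int.ofNat 0, Int.negSucc 1, Int.negSucc 1, Int.ofNat 0, Int.ofNat 0, Int.negSucc 1, Int.ofNat 0, Int.ofNat 2, Int.ofNat 0, Int.ofNat 0, Int.ofNat 2, Int.ofNat 0, Int.ofNat 0, Int.negSucc 1, Int.ofNat 0, Int.ofNat 2],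
  [Int.ofNat 2, Int.ofNat 0, Int.ofNat 0, Int.ofNat 0, Int.ofNat 0, Int.ofNat 0, Int.negSucc 1, Int.negSucc 1, Int.ofNat 0, Int.ofNat 0, Int.negSucc 1, Int.ofNat 0, Int.ofNat 2, Int.ofNat 0, Int.ofNat 0, Int.ofNat 2, Int.ofNat 0, Int.ofNat 0, Int.negSucc 1, Int.ofNat 0, Int.ofNat 0, Int.ofNat 0, Int.ofNat 0, Int.ofNat 2],
  [Int.ofNat 0, Int.ofNat 2, Int.ofNat 2, Int.ofNat 0, Int.ofNat 0, Int.ofNat 0, Int.ofNat 0, Int.ofNat 0, Int.ofNat 0, Int.ofNat 0, Int.negSucc 1, Int.ofNat 0, Int.ofNat 2, Int.ofNat 0, Int.ofNat 0, Int.ofNat 2, Int.ofNat 0, Int.ofNat 0, Int.negSucc 1, Int.ofNat 2, Int.ofNat 0, Int.ofNat 2, Int.ofNat 0, Int.ofNat 0],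
  [Int.ofNat 0, Int.ofNat 0, Int.ofNat 0, Int.ofNat 0, Int.negSucc 1, Int.ofNat 0, Int.ofNat 2, Int.negSucc 1, Int.ofNat 2, Int.ofNat 0, Int.ofNat 0, Int.ofNat 0, Int.ofNat 0, Int.ofNat 0, Int.ofNat 0, Int.ofNat 2, Int.ofNat 0, Int.ofNat 0, Int.ofNat 2, Int.ofNat 0, Int.ofNat 2, Int.ofNat 0, Int.ofNat 2, Int.ofNat 0],
  [Int.ofNat 0, Int.ofNat 0, Int.ofNat 0, Int.ofNat 0, Int.negSucc 1, Int.ofNat 0, Int.ofNat 2, Int.negSucc 1, Int.ofNat 0, Int.negSucc 1, Int.negSucc 1, Int.negSucc 1, Int.negSucc 1, Int.ofNat 0, Int.ofNat 0, Int.ofNat 0, Int.ofNat 0, Int.ofNat 0, Int.ofNat 0, Int.ofNat 0, Int.ofNat 0, Int.ofNat 0, Int.ofNat 2, Int.ofNat 0],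
  [Int.ofNat 0, Int.ofNat 0, Int.ofNat 0, Int.ofNat 0, Int.negSucc 1, Int.ofNat 0, Int.negSucc 1, Int.negSucc 1, Int.ofNat 0, Int.ofNat 2, Int.ofNat 2, Int.negSucc 1, Int.negSucc 1, Int.ofNat 0, Int.ofNat 0, Int.ofNat 0, Int.ofNat 0, Int.ofNat 0, Int.ofNat 0, Int.ofNat 0, Int.ofNat 0, Int.ofNat 0, Int.negSucc 1, Int.ofNat 0],
  [Int.negSucc 1, Int.ofNat 0, Int.ofNat 0, Int.ofNat 0, Int.ofNat 0, Int.ofNat 0, Int.negSucc 1, Int.ofNat 0, Int.negSucc 1, Int.ofNat 0, Int.ofNat 0, Int.ofNat 0, Int.negSucc 1, Int.ofNat 2, Int.ofNat 0, Int.ofNat 0, Int.ofNat 0, Int.negSucc 1, Int.ofNat 2, Int.ofNat 0, Int.negSucc 1, Int.ofNat 0, Int.ofNat 0, Int.ofNat 0],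
  [Int.negSucc 1, Int.ofNat 0, Int.ofNat 0, Int.ofNat 0, Int.ofNat 0, Int.ofNat 0, Int.ofNat 2, Int.ofNat 0, Int.negSucc 1, Int.ofNat 0, Int.ofNat 0, Int.ofNat 0, Int.negSucc 1, Int.ofNat 2, Int.ofNat 0, Int.ofNat 0, Int.ofNat 0, Int.negSucc 1, Int.negSucc 1, Int.ofNat 0, Int.negSucc 1, Int.ofNat 0, Int.ofNat 0, Int.ofNat 0],
  [Int.ofNat 1, Int.negSucc 0, Int.negSucc 0, Int.ofNat 1, Int.negSucc 0, Int.ofNat 1, Int.ofNat 1, Int.negSucc 0, Int.ofNat 1, Int.ofNat 1, Int.ofNat 1, Int.ofNat 3, Int.ofNat 1, Int.ofNat 1, Int.ofNat 1, Int.ofNat 1, Int.negSucc 0, Int.negSucc 0, Int.ofNat 1, Int.negSucc 0, Int.negSucc 0, Int.negSucc 0, Int.negSucc 0, Int.negSucc 0],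
  [Int.ofNat 1, Int.ofNat 1, Int.ofNat 1, Int.ofNat 1, Int.negSucc 0, Int.negSucc 0, Int.negSucc 0, Int.ofNat 1, Int.negSucc 0, Int.ofNat 1, Int.negSucc 0, Int.negSucc 0, Int.ofNat 1, Int.ofNat 1, Int.negSucc 0, Int.ofNat 1, Int.ofNat 1, Int.ofNat 3, Int.negSucc 0, Int.negSucc 0, Int.ofNat 1, Int.negSucc 0, Int.ofNat 1, Int.negSucc 0],
  [Int.ofNat 0, Int.ofNat 0, Int.ofNat 0, Int.ofNat 0, Int.negSucc 1, Int.negSucc 1, Int.ofNat 0, Int.ofNat 2, Int.ofNat 0, Int.ofNat 0, Int.negSucc 1, Int.ofNat 0, Int.ofNat 2, Int.ofNat 0, Int.negSucc 1, Int.ofNat 0, Int.ofNat 0, Int.ofNat 2, Int.ofNat 0, Int.ofNat 0, Int.ofNat 0, Int.ofNat 0, Int.ofNat 0, Int.ofNat 2],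
  [Int.ofNat 0, Int.ofNat 0, Int.ofNat 0, Int.ofNat 0, Int.ofNat 0, Int.ofNat 0, Int.ofNat 0, Int.negSucc 1, Int.negSucc 1, Int.ofNat 0, Int.ofNat 2, Int.ofNat 0, Int.ofNat 0, Int.negSucc 1, Int.ofNat 0, Int.ofNat 2, Int.ofNat 0, Int.negSucc 1, Int.ofNat 0, Int.ofNat 0, Int.ofNat 2, Int.ofNat 0, Int.ofNat 0, Int.ofNat 2],
  [Int.ofNat 1, Int.ofNat 1, Int.ofNat 1, Int.ofNat 1, Int.ofNat 1, Int.ofNat 1, Int.ofNat 1, Int.negSucc 0, Int.negSucc 0, Int.negSucc 2, Int.negSucc 0, Int.ofNat 1, Int.ofNat 1, Int.negSucc 0, Int.ofNat 1, Int.negSucc 0, Int.ofNat 1, Int.negSucc 0, Int.ofNat 1, Int.ofNat 1, Int.negSucc 0, Int.ofNat 1, Int.ofNat 1, Int.negSucc 0],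
  [Int.ofNat 1, Int.ofNat 1, Int.ofNat 1, Int.ofNat 1, Int.ofNat 1, Int.ofNat 1, Int.negSucc 0, Int.negSucc 0, Int.negSucc 2, Int.negSucc 0, Int.ofNat 1, Int.ofNat 1, Int.negSucc 0, Int.ofNat 1, Int.negSucc 0, Int.ofNat 1, Int.negSucc 0, Int.ofNat 1, Int.ofNat 1, Int.negSucc 0, Int.ofNat 1, Int.ofNat 1, Int.ofNat 1, Int.negSucc 0],
  [Int.negSucc 0, Int.ofNat 1, Int.negSucc 0, Int.ofNat 1, Int.ofNat 1, Int.ofNat 1, Int.negSucc 0, Int.ofNat 1, Int.negSucc 2, Int.ofNat 1, Int.negSucc 0, Int.negSucc 0, Int.negSucc 0, Int.ofNat 1, Int.negSucc 0, Int.ofNat 1, Int.negSucc 0, Int.ofNat 1, Int.negSucc 0, Int.negSucc 0, Int.ofNat 1, Int.negSucc 0, Int.ofNat 1, Int.negSucc 0],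
  [Int.negSucc 0, Int.negSucc 0, Int.negSucc 0, Int.ofNat 1, Int.ofNat 1, Int.negSucc 0, Int.ofNat 1, Int.ofNat 1, Int.ofNat 1, Int.negSucc 0, Int.negSucc 0, Int.negSucc 0, Int.ofNat 1, Int.negSucc 2, Int.negSucc 0, Int.ofNat 1, Int.negSucc 0, Int.ofNat 1, Int.negSucc 0, Int.ofNat 1, Int.ofNat 1, Int.ofNat 1, Int.negSucc 0, Int.negSucc 0],
  [Int.ofNat 1, Int.negSucc 0, Int.ofNat 1, Int.ofNat 1, Int.ofNat 1, Int.negSucc 0, Int.ofNat 1, Int.negSucc 0, Int.ofNat 1, Int.ofNat 1, Int.ofNat 1, Int.ofNat 1, Int.ofNat 1, Int.negSucc 2, Int.negSucc 0, Int.ofNat 1, Int.negSucc 0, Int.ofNat 1, Int.ofNat 1, Int.ofNat 1, Int.ofNat 1, Int.negSucc 0, Int.negSucc 0, Int.negSucc 0],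
  [Int.negSucc 0, Int.ofNat 1, Int.negSucc 0, Int.ofNat 1, Int.ofNat 1, Int.ofNat 1, Int.negSucc 0, Int.ofNat 1, Int.negSucc 0, Int.ofNat 1, Int.ofNat 1, Int.ofNat 1, Int.ofNat 1, Int.ofNat 1, Int.negSucc 2, Int.negSucc 0, Int.ofNat 1, Int.negSucc 0, Int.ofNat 1, Int.ofNat 1, Int.ofNat 1, Int.ofNat 1, Int.negSucc 0, Int.negSucc 0],
  [Int.ofNat 0, Int.negSucc 1, Int.ofNat 0, Int.ofNat 2, Int.ofNat 0, Int.ofNat 2, Int.negSucc 1, Int.ofNat 0, Int.negSucc 1, Int.ofNat 0, Int.ofNat 0, Int.ofNat 0, Int.ofNat 0, Int.ofNat 0, Int.negSucc 1, Int.negSucc 1, Int.ofNat 0, Int.ofNat 0, Int.ofNat 0, Int.ofNat 0, Int.ofNat 0, Int.ofNat 0, Int.negSucc 1, Int.ofNat 0],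
  [Int.ofNat 2, Int.ofNat 0, Int.ofNat 2, Int.negSucc 1, Int.ofNat 0, Int.negSucc 1, Int.ofNat 0, Int.ofNat 0, Int.ofNat 0, Int.ofNat 0, Int.ofNat 0, Int.negSucc 1, Int.negSucc 1, Int.ofNat 0, Int.ofNat 0, Int.ofNat 0, Int.ofNat 0, Int.ofNat 0, Int.ofNat 0, Int.negSucc 1, Int.ofNat 0, Int.negSucc 1, Int.ofNat 0, Int.ofNat 0],
  [Int.ofNat 0, Int.ofNat 2, Int.ofNat 0, Int.ofNat 0, Int.ofNat 0, Int.ofNat 0, Int.ofNat 2, Int.ofNat 2, Int.ofNat 2, Int.ofNat 0, Int.ofNat 0, Int.ofNat 0, Int.ofNat 0, Int.ofNat 0, Int.ofNat 2, Int.ofNat 0, Int.ofNat 0, Int.ofNat 2, Int.ofNat 2, Int.ofNat 0, Int.ofNat 0, Int.ofNat 0, Int.ofNat 0, Int.ofNat 2],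
  [Int.ofNat 0, Int.ofNat 2, Int.ofNat 0, Int.ofNat 0, Int.ofNat 2, Int.ofNat 2, Int.ofNat 0, Int.ofNat 0, Int.ofNat 0, Int.ofNat 0, Int.ofNat 0, Int.ofNat 2, Int.ofNat 0, Int.ofNat 0, Int.ofNat 0, Int.ofNat 0, Int.ofNat 2, Int.ofNat 2, Int.ofNat 2, Int.ofNat 0, Int.ofNat 0, Int.ofNat 0, Int.ofNat 0, Int.ofNat 2],
  [Int.ofNat 2, Int.ofNat 0, Int.ofNat 2, Int.negSucc 1, Int.ofNat 0, Int.ofNat 0, Int.ofNat 0, Int.ofNat 0, Int.negSucc 1, Int.ofNat 0, Int.ofNat 0, Int.ofNat 0, Int.negSucc 1, Int.negSucc 1, Int.negSucc 1, Int.ofNat 0, Int.ofNat 0, Int.ofNat 0, Int.ofNat 0, Int.ofNat 0, Int.ofNat 0, Int.ofNat 0, Int.negSucc 1, Int.ofNat 0],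
  [Int.ofNat 2, Int.ofNat 0, Int.negSucc 1, Int.negSucc 1, Int.ofNat 0, Int.ofNat 0, Int.ofNat 0, Int.ofNat 0, Int.negSucc 1, Int.ofNat 0, Int.ofNat 0, Int.ofNat 0, Int.negSucc 1, Int.negSucc 1, Int.negSucc 1, Int.ofNat 0, Int.ofNat 0, Int.ofNat 0, Int.ofNat 0, Int.ofNat 0, Int.ofNat 0, Int.ofNat 0, Int.ofNat 2, Int.ofNat 0],
  [Int.ofNat 0, Int.ofNat 0, Int.ofNat 0, Int.negSucc 1, Int.negSucc 1, Int.ofNat 0, Int.ofNat 0, Int.negSucc 1, Int.ofNat 0, Int.ofNat 0, Int.negSucc 1, Int.ofNat 0, Int.ofNat 0, Int.ofNat 0, Int.ofNat 0, Int.ofNat 0, Int.ofNat 0, Int.negSucc 1, Int.ofNat 0, Int.negSucc 1, Int.ofNat 2, Int.ofNat 0, Int.ofNat 2, Int.ofNat 0],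
  [Int.ofNat 0, Int.ofNat 0, Int.ofNat 0, Int.ofNat 2, Int.ofNat 2, Int.ofNat 0, Int.ofNat 0, Int.negSucc 1, Int.ofNat 0, Int.ofNat 0, Int.negSucc 1, Int.ofNat 0, Int.ofNat 0, Int.ofNat 0, Int.ofNat 0, Int.ofNat 0, Int.ofNat 0, Int.negSucc 1, Int.ofNat 0, Int.negSucc 1, Int.ofNat 2, Int.ofNat 0, Int.ofNat 2, Int.ofNat 0],
  [Int.ofNat 0, Int.ofNat 2, Int.ofNat 0, Int.ofNat 0, Int.negSucc 1, Int.ofNat 0, Int.negSucc 1, Int.ofNat 0, Int.ofNat 2, Int.ofNat 0, Int.ofNat 0, Int.ofNat 0, Int.ofNat 0, Int.negSucc 1, Int.ofNat 0, Int.ofNat 2, Int.negSucc 1, Int.ofNat 2, Int.ofNat 0, Int.ofNat 0, Int.ofNat 0, Int.ofNat 0, Int.ofNat 0, Int.ofNat 0],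
  [Int.ofNat 0, Int.ofNat 2, Int.ofNat 0, Int.ofNat 0, Int.negSucc 1, Int.ofNat 0, Int.negSucc 1, Int.ofNat 0, Int.ofNat 2, Int.ofNat 0, Int.ofNat 0, Int.ofNat 0, Int.ofNat 0, Int.negSucc 1, Int.ofNat 0, Int.ofNat 2, Int.negSucc 1, Int.ofNat 2, Int.ofNat 0, Int.ofNat 0, Int.ofNat 0, Int.ofNat 0, Int.ofNat 0, Int.ofNat 0],
  [Int.ofNat 0, Int.ofNat 0, Int.ofNat 2, Int.ofNat 0, Int.ofNat 0, Int.negSucc 1, Int.ofNat 0, Int.negSucc 1, Int.ofNat 0, Int.ofNat 2, Int.ofNat 0, Int.ofNat 0, Int.ofNat 0, Int.ofNat 0, Int.negSucc 1, Int.ofNat 0, Int.ofNat 2, Int.negSucc 1, Int.ofNat 2, Int.ofNat 0, Int.ofNat 0, Int.ofNat 0, Int.ofNat 0, Int.ofNat 0],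
  [Int.ofNat 1, Int.ofNat 1, Int.negSucc 0, Int.ofNat 3, Int.negSucc 0, Int.ofNat 1, Int.ofNat 1, Int.negSucc 0, Int.negSucc 0, Int.ofNat 1, Int.negSucc 0, Int.negSucc 0, Int.negSucc 0, Int.negSucc 0, Int.ofNat 1, Int.negSucc 0, Int.ofNat 1, Int.ofNat 1, Int.ofNat 1, Int.ofNat 1, Int.negSucc 0, Int.ofNat 1, Int.negSucc 0, Int.ofNat 1],
  [Int.ofNat 3, Int.negSucc 0, Int.ofNat 1, Int.ofNat 1, Int.negSucc 0, Int.negSucc 0, Int.ofNat 1, Int.negSucc 0, Int.negSucc 0, Int.negSucc 0, Int.negSucc 0, Int.ofNat 1, Int.negSucc 0, Int.ofNat 1, Int.ofNat 1, Int.ofNat 1, Int.ofNat 1, Int.negSucc 0, Int.ofNat 1, Int.negSucc 0, Int.ofNat 1, Int.ofNat 1, Int.negSucc 0, Int.ofNat 1],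
  [Int.negSucc 0, Int.ofNat 3, Int.ofNat 1, Int.ofNat 1, Int.negSucc 0, Int.negSucc 0, Int.ofNat 1, Int.negSucc 0, Int.negSucc 0, Int.negSucc 0, Int.negSucc 0, Int.ofNat 1, Int.negSucc 0, Int.ofNat 1, Int.ofNat 1, Int.ofNat 1, Int.ofNat 1, Int.negSucc 0, Int.ofNat 1, Int.negSucc 0, Int.ofNat 1, Int.ofNat 1, Int.negSucc 0, Int.ofNat 1],
  [Int.negSucc 0, Int.ofNat 1, Int.negSucc 0, Int.ofNat 1, Int.ofNat 1, Int.negSucc 0, Int.ofNat 1, Int.negSucc 0, Int.negSucc 0, Int.ofNat 1, Int.ofNat 1, Int.negSucc 0, Int.negSucc 0, Int.ofNat 1, Int.negSucc 0, Int.ofNat 1, Int.negSucc 0, Int.ofNat 1, Int.ofNat 3, Int.ofNat 1, Int.ofNat 1, Int.negSucc 0, Int.negSucc 0, Int.ofNat 1],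
  [Int.ofNat 1, Int.negSucc 0, Int.ofNat 1, Int.ofNat 1, Int.ofNat 1, Int.negSucc 0, Int.ofNat 1, Int.negSucc 0, Int.negSucc 0, Int.negSucc 0, Int.negSucc 0, Int.negSucc 0, Int.negSucc 0, Int.ofNat 1, Int.negSucc 0, Int.negSucc 0, Int.negSucc 0, Int.ofNat 1, Int.ofNat 3, Int.ofNat 1, Int.negSucc 0, Int.negSucc 0, Int.negSucc 0, Int.negSucc 0],
  [Int.ofNat 1, Int.negSucc 0, Int.negSucc 0, Int.ofNat 1, Int.ofNat 1, Int.ofNat 1, Int.negSucc 0, Int.negSucc 0, Int.negSucc 0, Int.ofNat 1, Int.ofNat 1, Int.negSucc 0, Int.negSucc 0, Int.ofNat 1, Int.negSucc 0, Int.ofNat 1, Int.negSucc 0, Int.ofNat 1, Int.negSucc 2, Int.ofNat 1, Int.negSucc 0, Int.negSucc 0, Int.ofNat 1, Int.negSucc 0],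
  [Int.negSucc 0, Int.negSucc 0, Int.negSucc 0, Int.negSucc 2, Int.negSucc 0, Int.ofNat 1, Int.ofNat 1, Int.negSucc 0, Int.negSucc 0, Int.negSucc 0, Int.ofNat 1, Int.ofNat 1, Int.negSucc 0, Int.ofNat 1, Int.ofNat 1, Int.ofNat 1, Int.negSucc 0, Int.ofNat 1, Int.ofNat 1, Int.negSucc 0, Int.negSucc 0, Int.ofNat 1, Int.ofNat 1, Int.negSucc 0],
  [Int.negSucc 0, Int.negSucc 0, Int.ofNat 1, Int.negSucc 2, Int.negSucc 0, Int.negSucc 0, Int.negSucc 0, Int.negSucc 0, Int.negSucc 0, Int.ofNat 1, Int.negSucc 0, Int.ofNat 1, Int.negSucc 0, Int.ofNat 1, Int.ofNat 1, Int.negSucc 0, Int.negSucc 0, Int.ofNat 1, Int.negSucc 0, Int.negSucc 0, Int.negSucc 0, Int.ofNat 1, Int.negSucc 0, Int.negSucc 0],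
  [Int.ofNat 0, Int.ofNat 0, Int.negSucc 1, Int.negSucc 1, Int.ofNat 0, Int.ofNat 0, Int.ofNat 0, Int.ofNat 0, Int.ofNat 0, Int.ofNat 2, Int.ofNat 0, Int.ofNat 2, Int.ofNat 0, Int.ofNat 2, Int.ofNat 2, Int.ofNat 0, Int.ofNat 0, Int.ofNat 2, Int.ofNat 0, Int.ofNat 0, Int.ofNat 0, Int.ofNat 2, Int.ofNat 0, Int.ofNat 0],
  [Int.ofNat 0, Int.ofNat 0, Int.ofNat 0, Int.negSucc 1, Int.negSucc 1, Int.ofNat 2, Int.ofNat 0, Int.ofNat 0, Int.ofNat 0, Int.ofNat 0, Int.ofNat 0, Int.ofNat 0, Int.ofNat 0, Int.ofNat 2, Int.ofNat 2, Int.ofNat 0, Int.ofNat 2, Int.ofNat 2, Int.ofNat 0, Int.ofNat 0, Int.ofNat 0, Int.ofNat 0, Int.ofNat 2, Int.ofNat 0],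
  [Int.ofNat 0, Int.ofNat 0, Int.ofNat 0, Int.negSucc 3, Int.negSucc 3, Int.ofNat 0, Int.ofNat 0, Int.ofNat 0, Int.ofNat 0, Int.ofNat 0, Int.ofNat 0, Int.ofNat 0, Int.ofNat 0, Int.ofNat 0, Int.ofNat 0, Int.ofNat 0, Int.ofNat 0, Int.ofNat 0, Int.ofNat 0, Int.ofNat 0, Int.ofNat 0, Int.ofNat 0, Int.ofNat 0, Int.ofNat 0],
  [Int.ofNat 0, Int.ofNat 0, Int.ofNat 0, Int.ofNat 0, Int.ofNat 0, Int.ofNat 0, Int.negSucc 3, Int.negSucc 3, Int.ofNat 0, Int.ofNat 0, Int.ofNat 0, Int.ofNat 0, Int.ofNat 0, Int.ofNat 0, Int.ofNat 0, Int.ofNat 0, Int.ofNat 0, Int.ofNat 0, Int.ofNat 0, Int.ofNat 0, Int.ofNat 0, Int.ofNat 0, Int.ofNat 0, Int.ofNat 0],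
  [Int.ofNat 0, Int.ofNat 0, Int.ofNat 0, Int.ofNat 0, Int.ofNat 0, Int.ofNat 0, Int.ofNat 0, Int.ofNat 0, Int.ofNat 0, Int.ofNat 0, Int.ofNat 0, Int.ofNat 0, Int.ofNat 0, Int.ofNat 0, Int.ofNat 0, Int.ofNat 0, Int.ofNat 0, Int.ofNat 0, Int.ofNat 0, Int.ofNat 4, Int.ofNat 0, Int.ofNat 4, Int.ofNat 0, Int.ofNat 0],
  [Int.ofNat 0, Int.ofNat 0, Int.ofNat 0, Int.ofNat 0, Int.ofNat 0, Int.ofNat 0, Int.ofNat 0, Int.ofNat 0, Int.ofNat 0, Int.ofNat 0, Int.ofNat 0, Int.ofNat 0, Int.ofNat 0, Int.ofNat 0, Int.ofNat 0, Int.ofNat 0, Int.ofNat 0, Int.ofNat 0, Int.ofNat 4, Int.ofNat 0, Int.ofNat 4, Int.ofNat 0, Int.ofNat 0, Int.ofNat 0],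
  [Int.ofNat 0, Int.ofNat 0, Int.ofNat 0, Int.ofNat 0, Int.ofNat 0, Int.ofNat 0, Int.ofNat 0, Int.ofNat 0, Int.ofNat 0, Int.ofNat 0, Int.ofNat 0, Int.ofNat 0, Int.ofNat 0, Int.ofNat 0, Int.ofNat 0, Int.ofNat 0, Int.ofNat 0, Int.ofNat 0, Int.negSucc 3, Int.ofNat 0, Int.ofNat 4, Int.ofNat 0, Int.ofNat 0, Int.ofNat 0],
  [Int.ofNat 0, Int.ofNat 0, Int.negSucc 3, Int.ofNat 0, Int.ofNat 0, Int.ofNat 0, Int.ofNat 0, Int.ofNat 4, Int.ofNat 0, Int.ofNat 0, Int.ofNat 0, Int.ofNat 0, Int.ofNat 0, Int.ofNat 0, Int.ofNat 0, Int.ofNat 0, Int.ofNat 0, Int.ofNat 0, Int.ofNat 0, Int.ofNat 0, Int.ofNat 0, Int.ofNat 0, Int.ofNat 0, Int.ofNat 0],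
  [Int.ofNat 0, Int.ofNat 0, Int.ofNat 4, Int.ofNat 0, Int.ofNat 0, Int.ofNat 0, Int.ofNat 0, Int.negSucc 3, Int.ofNat 0, Int.ofNat 0, Int.ofNat 0, Int.ofNat 0, Int.ofNat 0, Int.ofNat 0, Int.ofNat 0, Int.ofNat 0, Int.ofNat 0, Int.ofNat 0, Int.ofNat 0, Int.ofNat 0, Int.ofNat 0, Int.ofNat 0, Int.ofNat 0, Int.ofNat 0],
  [Int.ofNat 0, Int.ofNat 0, Int.ofNat 0, Int.ofNat 4, Int.ofNat 0, Int.ofNat 0, Int.ofNat 0, Int.ofNat 0, Int.negSucc 3, Int.ofNat 0, Int.ofNat 0, Int.ofNat 0, Int.ofNat 0, Int.ofNat 0, Int.ofNat 0, Int.ofNat 0, Int.ofNat 0, Int.ofNat 0, Int.ofNat 0, Int.ofNat 0, Int.ofNat 0, Int.ofNat 0, Int.ofNat 0, Int.ofNat 0],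
  [Int.ofNat 0, Int.ofNat 0, Int.ofNat 0, Int.ofNat 2, Int.ofNat 0, Int.negSucc 1, Int.ofNat 0, Int.ofNat 0, Int.negSucc 1, Int.ofNat 0, Int.ofNat 0, Int.ofNat 2, Int.ofNat 2, Int.ofNat 0, Int.negSucc 1, Int.ofNat 0, Int.ofNat 0, Int.negSucc 1, Int.ofNat 2, Int.ofNat 0, Int.ofNat 0, Int.ofNat 0, Int.ofNat 0, Int.ofNat 0],
  [Int.ofNat 2, Int.ofNat 0, Int.negSucc 1, Int.ofNat 0, Int.ofNat 0, Int.negSucc 1, Int.ofNat 0, Int.ofNat 0, Int.ofNat 2, Int.ofNat 2, Int.ofNat 0, Int.negSucc 1, Int.ofNat 0, Int.ofNat 0, Int.negSucc 1, Int.ofNat 2, Int.ofNat 0, Int.ofNat 0, Int.ofNat 0, Int.ofNat 0, Int.ofNat 0, Int.ofNat 0, Int.ofNat 0, Int.ofNat 0],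
  [Int.negSucc 1, Int.ofNat 0, Int.ofNat 2, Int.ofNat 2, Int.ofNat 0, Int.ofNat 0, Int.ofNat 0, Int.ofNat 0, Int.ofNat 2, Int.ofNat 0, Int.negSucc 1, Int.negSucc 1, Int.ofNat 0, Int.ofNat 0, Int.ofNat 0, Int.ofNat 0, Int.ofNat 0, Int.ofNat 2, Int.ofNat 0, Int.ofNat 0, Int.negSucc 1, Int.ofNat 0, Int.ofNat 0, Int.ofNat 0],
  [Int.negSucc 1, Int.ofNat 0, Int.ofNat 0, Int.ofNat 2, Int.ofNat 0, Int.ofNat 0, Int.ofNat 2, Int.negSucc 1, Int.ofNat 0, Int.ofNat 0, Int.negSucc 1, Int.ofNat 2, Int.ofNat 0, Int.ofNat 0, Int.ofNat 0, Int.ofNat 0, Int.ofNat 2, Int.ofNat 0, Int.ofNat 0, Int.negSucc 1, Int.ofNat 0, Int.ofNat 0, Int.ofNat 0, Int.ofNat 0],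
  [Int.ofNat 1, Int.negSucc 0, Int.negSucc 0, Int.ofNat 1, Int.negSucc 0, Int.negSucc 0, Int.ofNat 3, Int.negSucc 0, Int.negSucc 0, Int.ofNat 1, Int.negSucc 0, Int.ofNat 1, Int.negSucc 0, Int.negSucc 0, Int.negSucc 0, Int.ofNat 1, Int.ofNat 1, Int.negSucc 0, Int.negSucc 0, Int.negSucc 0, Int.ofNat 1, Int.ofNat 1, Int.negSucc 0, Int.negSucc 0],
  [Int.ofNat 1, Int.negSucc 0, Int.ofNat 1, Int.ofNat 1, Int.negSucc 0, Int.ofNat 1, Int.negSucc 2, Int.negSucc 0, Int.negSucc 0, Int.negSucc 0, Int.ofNat 1, Int.ofNat 1, Int.negSucc 0, Int.negSucc 0, Int.negSucc 0, Int.negSucc 0, Int.ofNat 1, Int.negSucc 0, Int.ofNat 1, Int.negSucc 0, Int.ofNat 1, Int.ofNat 1, Int.ofNat 1, Int.negSucc 0],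
  [Int.ofNat 1, Int.ofNat 1, Int.ofNat 1, Int.negSucc 0, Int.negSucc 0, Int.negSucc 2, Int.ofNat 1, Int.ofNat 1, Int.ofNat 1, Int.ofNat 1, Int.negSucc 0, Int.negSucc 0, Int.negSucc 0, Int.negSucc 0, Int.negSucc 0, Int.ofNat 1, Int.negSucc 0, Int.negSucc 0, Int.negSucc 0, Int.ofNat 1, Int.ofNat 1, Int.negSucc 0, Int.ofNat 1, Int.negSucc 0],
  [Int.negSucc 0, Int.negSucc 0, Int.negSucc 0, Int.ofNat 1, Int.ofNat 1, Int.negSucc 2, Int.negSucc 0, Int.ofNat 1, Int.negSucc 0, Int.negSucc 0, Int.negSucc 0, Int.negSucc 0, Int.ofNat 1, Int.ofNat 1, Int.negSucc 0, Int.ofNat 1, Int.ofNat 1, Int.negSucc 0, Int.ofNat 1, Int.ofNat 1, Int.ofNat 1, Int.negSucc 0, Int.ofNat 1, Int.negSucc 0],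
  [Int.negSucc 0, Int.ofNat 1, Int.negSucc 0, Int.ofNat 1, Int.negSucc 0, Int.negSucc 0, Int.ofNat 1, Int.ofNat 1, Int.ofNat 1, Int.negSucc 2, Int.ofNat 1, Int.negSucc 0, Int.negSucc 0, Int.ofNat 1, Int.ofNat 1, Int.ofNat 1, Int.negSucc 0, Int.ofNat 1, Int.negSucc 0, Int.negSucc 0, Int.negSucc 0, Int.ofNat 1, Int.negSucc 0, Int.negSucc 0],
  [Int.ofNat 1, Int.ofNat 1, Int.ofNat 1, Int.ofNat 1, Int.negSucc 0, Int.negSucc 0, Int.ofNat 1, Int.negSucc 0, Int.ofNat 1, Int.ofNat 3, Int.negSucc 0, Int.ofNat 1, Int.negSucc 0, Int.ofNat 1, Int.ofNat 1, Int.ofNat 1, Int.negSucc 0, Int.ofNat 1, Int.ofNat 1, Int.negSucc 0, Int.negSucc 0, Int.negSucc 0, Int.negSucc 0, Int.negSucc 0],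
  [Int.negSucc 0, Int.ofNat 1, Int.ofNat 1, Int.ofNat 1, Int.ofNat 1, Int.negSucc 0, Int.negSucc 0, Int.ofNat 1, Int.negSucc 0, Int.ofNat 1, Int.ofNat 3, Int.negSucc 0, Int.ofNat 1, Int.negSucc 0, Int.ofNat 1, Int.ofNat 1, Int.ofNat 1, Int.negSucc 0, Int.ofNat 1, Int.ofNat 1, Int.negSucc 0, Int.negSucc 0, Int.negSucc 0, Int.negSucc 0],
  [Int.ofNat 1, Int.negSucc 0, Int.negSucc 0, Int.ofNat 1, Int.ofNat 1, Int.negSucc 0, Int.negSucc 0, Int.ofNat 1, Int.negSucc 0, Int.negSucc 0, Int.ofNat 1, Int.negSucc 0, Int.ofNat 1, Int.negSucc 0, Int.ofNat 1, Int.negSucc 0, Int.ofNat 1, Int.negSucc 0, Int.ofNat 1, Int.ofNat 1, Int.negSucc 2, Int.negSucc 0, Int.negSucc 0, Int.ofNat 1],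
  [Int.ofNat 1, Int.ofNat 1, Int.negSucc 0, Int.negSucc 0, Int.ofNat 1, Int.negSucc 0, Int.negSucc 0, Int.ofNat 1, Int.negSucc 0, Int.ofNat 1, Int.negSucc 0, Int.ofNat 1, Int.negSucc 0, Int.ofNat 1, Int.negSucc 0, Int.ofNat 1, Int.ofNat 1, Int.negSucc 2, Int.negSucc 0, Int.negSucc 0, Int.ofNat 1, Int.negSucc 0, Int.negSucc 0, Int.ofNat 1],
  [Int.ofNat 0, Int.ofNat 0, Int.ofNat 2, Int.ofNat 2, Int.ofNat 0, Int.ofNat 2, Int.ofNat 0, Int.ofNat 2, Int.ofNat 0, Int.ofNat 0, Int.negSucc 1, Int.ofNat 2, Int.ofNat 0, Int.ofNat 0, Int.ofNat 2, Int.ofNat 0, Int.ofNat 0, Int.ofNat 0, Int.ofNat 0, Int.ofNat 0, Int.ofNat 0, Int.ofNat 0, Int.negSucc 1, Int.ofNat 0],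
  [Int.ofNat 0, Int.ofNat 0, Int.ofNat 0, Int.ofNat 2, Int.ofNat 0, Int.ofNat 2, Int.ofNat 2, Int.negSucc 1, Int.ofNat 0, Int.ofNat 0, Int.ofNat 0, Int.ofNat 0, Int.ofNat 0, Int.ofNat 0, Int.negSucc 1, Int.ofNat 0, Int.ofNat 0, Int.ofNat 2, Int.ofNat 0, Int.ofNat 2, Int.ofNat 0, Int.ofNat 2, Int.ofNat 0, Int.ofNat 0],
  [Int.ofNat 0, Int.ofNat 0, Int.ofNat 0, Int.ofNat 0, Int.ofNat 0, Int.ofNat 0, Int.ofNat 0, Int.negSucc 3, Int.ofNat 0, Int.ofNat 0, Int.ofNat 0, Int.ofNat 0, Int.ofNat 0, Int.ofNat 0, Int.negSucc 3, Int.ofNat 0, Int.ofNat 0, Int.ofNat 0, Int.ofNat 0, Int.ofNat 0, Int.ofNat 0, Int.ofNat 0, Int.ofNat 0, Int.ofNat 0],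
  [Int.ofNat 0, Int.ofNat 0, Int.ofNat 0, Int.ofNat 0, Int.ofNat 0, Int.ofNat 0, Int.ofNat 0, Int.negSucc 3, Int.ofNat 0, Int.ofNat 0, Int.ofNat 0, Int.ofNat 0, Int.ofNat 0, Int.ofNat 0, Int.negSucc 3, Int.ofNat 0, Int.ofNat 0, Int.ofNat 0, Int.ofNat 0, Int.ofNat 0, Int.ofNat 0, Int.ofNat 0, Int.ofNat 0, Int.ofNat 0],
  [Int.ofNat 0, Int.ofNat 0, Int.negSucc 3, Int.ofNat 0, Int.ofNat 0, Int.ofNat 0, Int.ofNat 0, Int.ofNat 0, Int.negSucc 3, Int.ofNat 0, Int.ofNat 0, Int.ofNat 0, Int.ofNat 0, Int.ofNat 0, Int.ofNat 0, Int.ofNat 0, Int.ofNat 0, Int.ofNat 0, Int.ofNat 0, Int.ofNat 0, Int.ofNat 0, Int.ofNat 0, Int.ofNat 0, Int.ofNat 0],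
  [Int.ofNat 0, Int.ofNat 0, Int.ofNat 4, Int.ofNat 0, Int.ofNat 0, Int.ofNat 0, Int.ofNat 0, Int.ofNat 0, Int.negSucc 3, Int.ofNat 0, Int.ofNat 0, Int.ofNat 0, Int.ofNat 0, Int.ofNat 0, Int.ofNat 0, Int.ofNat 0, Int.ofNat 0, Int.ofNat 0, Int.ofNat 0, Int.ofNat 0, Int.ofNat 0, Int.ofNat 0, Int.ofNat 0, Int.ofNat 0],
  [Int.ofNat 2, Int.ofNat 2, Int.negSucc 1, Int.ofNat 0, Int.ofNat 0, Int.ofNat 0, Int.ofNat 0, Int.ofNat 0, Int.negSucc 1, Int.ofNat 0, Int.ofNat 0, Int.ofNat 2, Int.ofNat 2, Int.ofNat 0, Int.ofNat 0, Int.ofNat 0, Int.ofNat 0, Int.ofNat 0, Int.ofNat 2, Int.ofNat 0, Int.ofNat 0, Int.ofNat 0, Int.ofNat 0, Int.ofNat 2],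
  [Int.ofNat 2, Int.ofNat 2, Int.ofNat 0, Int.ofNat 0, Int.negSucc 1, Int.ofNat 0, Int.ofNat 2, Int.ofNat 0, Int.ofNat 0, Int.ofNat 2, Int.ofNat 0, Int.ofNat 0, Int.negSucc 1, Int.ofNat 0, Int.ofNat 0, Int.ofNat 0, Int.ofNat 0, Int.ofNat 2, Int.ofNat 0, Int.ofNat 0, Int.ofNat 0, Int.ofNat 0, Int.ofNat 0, Int.ofNat 2],
  [Int.ofNat 1, Int.ofNat 1, Int.ofNat 3, Int.negSucc 0, Int.negSucc 0, Int.negSucc 0, Int.ofNat 1, Int.negSucc 0, Int.ofNat 1, Int.ofNat 1, Int.negSucc 0, Int.ofNat 1, Int.negSucc 0, Int.ofNat 1, Int.negSucc 0, Int.negSucc 0, Int.ofNat 1, Int.ofNat 1, Int.ofNat 1, Int.negSucc 0, Int.negSucc 0, Int.negSucc 0, Int.ofNat 1, Int.ofNat 1],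
  [Int.negSucc 0, Int.negSucc 0, Int.ofNat 1, Int.ofNat 1, Int.ofNat 1, Int.ofNat 3, Int.negSucc 0, Int.negSucc 0, Int.negSucc 0, Int.ofNat 1, Int.negSucc 0, Int.ofNat 1, Int.ofNat 1, Int.negSucc 0, Int.ofNat 1, Int.negSucc 0, Int.ofNat 1, Int.negSucc 0, Int.negSucc 0, Int.ofNat 1, Int.ofNat 1, Int.ofNat 1, Int.negSucc 0, Int.ofNat 1],
  [Int.ofNat 1, Int.ofNat 1, Int.negSucc 0, Int.negSucc 0, Int.ofNat 1, Int.ofNat 1, Int.negSucc 0, Int.negSucc 0, Int.negSucc 0, Int.ofNat 1, Int.negSucc 0, Int.ofNat 1, Int.ofNat 1, Int.negSucc 0, Int.negSucc 0, Int.negSucc 0, Int.ofNat 1, Int.negSucc 2, Int.negSucc 0, Int.ofNat 1, Int.ofNat 1, Int.ofNat 1, Int.negSucc 0, Int.negSucc 0],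
  [Int.ofNat 1, Int.negSucc 0, Int.negSucc 0, Int.ofNat 1, Int.ofNat 1, Int.negSucc 0, Int.negSucc 0, Int.negSucc 0, Int.ofNat 1, Int.negSucc 0, Int.ofNat 1, Int.ofNat 1, Int.negSucc 0, Int.negSucc 0, Int.negSucc 0, Int.ofNat 1, Int.negSucc 2, Int.negSucc 0, Int.ofNat 1, Int.ofNat 1, Int.ofNat 1, Int.negSucc 0, Int.ofNat 1, Int.negSucc 0],
  [Int.negSucc 0, Int.negSucc 0, Int.ofNat 1, Int.ofNat 1, Int.ofNat 1, Int.negSucc 0, Int.negSucc 0, Int.ofNat 1, Int.ofNat 1, Int.ofNat 1, Int.negSucc 0, Int.negSucc 0, Int.negSucc 0, Int.negSucc 0, Int.negSucc 0, Int.ofNat 1, Int.negSucc 2, Int.negSucc 0, Int.negSucc 0, Int.ofNat 1, Int.ofNat 1, Int.ofNat 1, Int.ofNat 1, Int.negSucc 0],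
  [Int.negSucc 0, Int.ofNat 1, Int.negSucc 0, Int.ofNat 1, Int.negSucc 0, Int.negSucc 0, Int.ofNat 1, Int.ofNat 1, Int.ofNat 1, Int.negSucc 2, Int.ofNat 1, Int.negSucc 0, Int.negSucc 0, Int.ofNat 1, Int.ofNat 1, Int.ofNat 1, Int.negSucc 0, Int.ofNat 1, Int.negSucc 0, Int.negSucc 0, Int.negSucc 0, Int.ofNat 1, Int.negSucc 0, Int.negSucc 0],
  [Int.ofNat 1, Int.ofNat 1, Int.ofNat 1, Int.ofNat 1, Int.negSucc 0, Int.negSucc 0, Int.ofNat 1, Int.negSucc 0, Int.ofNat 1, Int.ofNat 3, Int.negSucc 0, Int.ofNat 1, Int.negSucc 0, Int.ofNat 1, Int.ofNat 1, Int.ofNat 1, Int.negSucc 0, Int.ofNat 1, Int.ofNat 1, Int.negSucc 0, Int.negSucc 0, Int.negSucc 0, Int.negSucc 0, Int.negSucc 0],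
  [Int.negSucc 0, Int.ofNat 1, Int.ofNat 1, Int.ofNat 1, Int.ofNat 1, Int.negSucc 0, Int.negSucc 0, Int.ofNat 1, Int.negSucc 0, Int.ofNat 1, Int.ofNat 3, Int.negSucc 0, Int.ofNat 1, Int.negSucc 0, Int.ofNat 1, Int.ofNat 1, Int.ofNat 1, Int.negSucc 0, Int.ofNat 1, Int.ofNat 1, Int.negSucc 0, Int.negSucc 0, Int.negSucc 0, Int.negSucc 0],
  [Int.ofNat 1, Int.negSucc 0, Int.negSucc 0, Int.ofNat 1, Int.ofNat 1, Int.negSucc 0, Int.negSucc 0, Int.ofNat 1, Int.negSucc 0, Int.negSucc 0, Int.ofNat 1, Int.negSucc 0, Int.ofNat 1, Int.negSucc 0, Int.ofNat 1, Int.negSucc 0, Int.ofNat 1, Int.negSucc 0, Int.ofNat 1, Int.ofNat 1, Int.negSucc 2, Int.negSucc 0, Int.negSucc 0, Int.ofNat 1],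
  [Int.ofNat 1, Int.ofNat 1, Int.negSucc 0, Int.negSucc 0, Int.ofNat 1, Int.negSucc 0, Int.negSucc 0, Int.ofNat 1, Int.negSucc 0, Int.ofNat 1, Int.negSucc 0, Int.ofNat 1, Int.negSucc 0, Int.ofNat 1, Int.negSucc 0, Int.ofNat 1, Int.ofNat 1, Int.negSucc 2, Int.negSucc 0, Int.negSucc 0, Int.ofNat 1, Int.negSucc 0, Int.negSucc 0, Int.ofNat 1],
  [Int.ofNat 0, Int.ofNat 0, Int.ofNat 2, Int.ofNat 2, Int.ofNat 0, Int.ofNat 2, Int.ofNat 0, Int.ofNat 2, Int.ofNat 0, Int.ofNat 0, Int.negSucc 1, Int.ofNat 2, Int.ofNat 0, Int.ofNat 0, Int.ofNat 2, Int.ofNat 0, Int.ofNat 0, Int.ofNat 0, Int.ofNat 0, Int.ofNat 0, Int.ofNat 0, Int.ofNat 0, Int.negSucc 1, Int.ofNat 0],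
  [Int.ofNat 0, Int.ofNat 0, Int.ofNat 0, Int.ofNat 2, Int.ofNat 0, Int.ofNat 2, Int.ofNat 2, Int.negSucc 1, Int.ofNat 0, Int.ofNat 0, Int.ofNat 0, Int.ofNat 0, Int.ofNat 0, Int.ofNat 0, Int.negSucc 1, Int.ofNat 0, Int.ofNat 0, Int.ofNat 2, Int.ofNat 0, Int.ofNat 2, Int.ofNat 0, Int.ofNat 2, Int.ofNat 0, Int.ofNat 0],
  [Int.ofNat 0, Int.ofNat 0, Int.ofNat 0, Int.ofNat 0, Int.ofNat 0, Int.ofNat 0, Int.ofNat 0, Int.negSucc 3, Int.ofNat 0, Int.ofNat 0, Int.ofNat 0, Int.ofNat 0, Int.ofNat 0, Int.ofNat 0, Int.negSucc 3, Int.ofNat 0, Int.ofNat 0, Int.ofNat 0, Int.ofNat 0, Int.ofNat 0, Int.ofNat 0, Int.ofNat 0, Int.ofNat 0, Int.ofNat 0],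
  [Int.ofNat 0, Int.ofNat 0, Int.ofNat 0, Int.ofNat 0, Int.ofNat 0, Int.ofNat 0, Int.ofNat 0, Int.negSucc 3, Int.ofNat 0, Int.ofNat 0, Int.ofNat 0, Int.ofNat 0, Int.ofNat 0, Int.ofNat 0, Int.negSucc 3, Int.ofNat 0, Int.ofNat 0, Int.ofNat 0, Int.ofNat 0, Int.ofNat 0, Int.ofNat 0, Int.ofNat 0, Int.ofNat 0, Int.ofNat 0],
  [Int.ofNat 0, Int.ofNat 0, Int.ofNat 0, Int.ofNat 0, Int.negSucc 3, Int.ofNat 0, Int.ofNat 0, Int.ofNat 0, Int.ofNat 0, Int.ofNat 0, Int.ofNat 0, Int.negSucc 3, Int.ofNat 0, Int.ofNat 0, Int.ofNat 0, Int.ofNat 0, Int.ofNat 0, Int.ofNat 0, Int.ofNat 0, Int.ofNat 0, Int.ofNat 0, Int.ofNat 0, Int.ofNat 0, Int.ofNat 0],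
  [Int.ofNat 0, Int.ofNat 0, Int.ofNat 0, Int.ofNat 0, Int.ofNat 4, Int.ofNat 0, Int.ofNat 0, Int.ofNat 0, Int.ofNat 0, Int.ofNat 0, Int.ofNat 0, Int.negSucc 3, Int.ofNat 0, Int.ofNat 0, Int.ofNat 0, Int.ofNat 0, Int.ofNat 0, Int.ofNat 0, Int.ofNat 0, Int.ofNat 0, Int.ofNat 0, Int.ofNat 0, Int.ofNat 0, Int.ofNat 0],
  [Int.ofNat 0, Int.ofNat 0, Int.negSucc 3, Int.ofNat 0, Int.ofNat 0, Int.ofNat 0, Int.ofNat 0, Int.ofNat 0, Int.ofNat 0, Int.ofNat 0, Int.ofNat 0, Int.ofNat 0, Int.ofNat 0, Int.ofNat 0, Int.ofNat 0, Int.ofNat 0, Int.ofNat 0, Int.ofNat 4, Int.ofNat 0, Int.ofNat 0, Int.ofNat 0, Int.ofNat 0, Int.ofNat 0, Int.ofNat 0],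
  [Int.ofNat 0, Int.ofNat 0, Int.ofNat 4, Int.ofNat 0, Int.ofNat 0, Int.ofNat 0, Int.ofNat 0, Int.ofNat 0, Int.ofNat 0, Int.ofNat 0, Int.ofNat 0, Int.ofNat 0, Int.ofNat 0, Int.ofNat 0, Int.ofNat 0, Int.ofNat 0, Int.ofNat 0, Int.ofNat 4, Int.ofNat 0, Int.ofNat 0, Int.ofNat 0, Int.ofNat 0, Int.ofNat 0, Int.ofNat 0],
  [Int.ofNat 0, Int.ofNat 0, Int.ofNat 0, Int.ofNat 4, Int.ofNat 0, Int.ofNat 0, Int.ofNat 0, Int.ofNat 0, Int.ofNat 0, Int.ofNat 0, Int.ofNat 0, Int.ofNat 0, Int.ofNat 0, Int.ofNat 0, Int.ofNat 0, Int.ofNat 0, Int.ofNat 0, Int.ofNat 0, Int.ofNat 4, Int.ofNat 0, Int.ofNat 0, Int.ofNat 0, Int.ofNat 0, Int.ofNat 0],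
  [Int.ofNat 0, Int.ofNat 0, Int.ofNat 0, Int.ofNat 2, Int.ofNat 0, Int.negSucc 1, Int.ofNat 0, Int.ofNat 0, Int.negSucc 1, Int.ofNat 0, Int.ofNat 0, Int.negSucc 1, Int.negSucc 1, Int.ofNat 0, Int.negSucc 1, Int.ofNat 0, Int.ofNat 0, Int.negSucc 1, Int.ofNat 2, Int.ofNat 0, Int.ofNat 0, Int.ofNat 0, Int.ofNat 0, Int.ofNat 0],
  [Int.ofNat 2, Int.ofNat 0, Int.negSucc 1, Int.ofNat 0, Int.ofNat 0, Int.negSucc 1, Int.ofNat 0, Int.ofNat 0, Int.negSucc 1, Int.negSucc 1, Int.ofNat 0, Int.negSucc 1, Int.ofNat 0, Int.ofNat 0, Int.negSucc 1, Int.ofNat 2, Int.ofNat 0, Int.ofNat 0, Int.ofNat 0, Int.ofNat 0, Int.ofNat 0, Int.ofNat 0, Int.ofNat 0, Int.ofNat 0],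
  [Int.negSucc 1, Int.ofNat 0, Int.ofNat 2, Int.ofNat 2, Int.ofNat 0, Int.ofNat 0, Int.ofNat 0, Int.ofNat 0, Int.ofNat 0, Int.negSucc 1, Int.ofNat 0, Int.ofNat 0, Int.ofNat 2, Int.ofNat 0, Int.ofNat 0, Int.ofNat 2, Int.ofNat 0, Int.ofNat 2, Int.ofNat 2, Int.ofNat 0, Int.ofNat 0, Int.ofNat 0, Int.ofNat 0, Int.ofNat 0],
  [Int.negSucc 1, Int.ofNat 0, Int.ofNat 0, Int.ofNat 2, Int.ofNat 2, Int.ofNat 0, Int.ofNat 2, Int.ofNat 0, Int.ofNat 2, Int.ofNat 0, Int.ofNat 0, Int.ofNat 2, Int.negSucc 1, Int.ofNat 0, Int.ofNat 0, Int.ofNat 2, Int.ofNat 0, Int.ofNat 0, Int.ofNat 0, Int.ofNat 0, Int.ofNat 0, Int.ofNat 0, Int.ofNat 0, Int.ofNat 0],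
  [Int.ofNat 1, Int.negSucc 0, Int.negSucc 0, Int.ofNat 1, Int.ofNat 1, Int.negSucc 0, Int.ofNat 1, Int.negSucc 0, Int.ofNat 1, Int.negSucc 0, Int.negSucc 0, Int.ofNat 1, Int.negSucc 2, Int.negSucc 0, Int.negSucc 0, Int.ofNat 1, Int.negSucc 0, Int.negSucc 0, Int.negSucc 0, Int.negSucc 0, Int.negSucc 0, Int.negSucc 0, Int.negSucc 0, Int.negSucc 0],
  [Int.ofNat 1, Int.negSucc 0, Int.ofNat 1, Int.ofNat 1, Int.ofNat 1, Int.ofNat 1, Int.negSucc 0, Int.negSucc 0, Int.ofNat 1, Int.ofNat 1, Int.ofNat 1, Int.ofNat 1, Int.negSucc 2, Int.negSucc 0, Int.negSucc 0, Int.negSucc 0, Int.negSucc 0, Int.negSucc 0, Int.ofNat 1, Int.negSucc 0, Int.negSucc 0, Int.negSucc 0, Int.ofNat 1, Int.negSucc 0],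
  [Int.negSucc 0, Int.negSucc 0, Int.negSucc 0, Int.ofNat 1, Int.negSucc 0, Int.negSucc 0, Int.ofNat 1, Int.ofNat 1, Int.negSucc 0, Int.ofNat 1, Int.ofNat 1, Int.negSucc 0, Int.ofNat 1, Int.ofNat 1, Int.negSucc 0, Int.ofNat 1, Int.negSucc 0, Int.ofNat 1, Int.ofNat 1, Int.negSucc 0, Int.negSucc 2, Int.negSucc 0, Int.ofNat 1, Int.negSucc 0],
  [Int.negSucc 0, Int.negSucc 0, Int.ofNat 1, Int.ofNat 1, Int.negSucc 0, Int.ofNat 1, Int.negSucc 0, Int.ofNat 1, Int.negSucc 0, Int.negSucc 0, Int.negSucc 0, Int.negSucc 0, Int.ofNat 1, Int.ofNat 1, Int.negSucc 0, Int.negSucc 0, Int.negSucc 0, Int.ofNat 1, Int.negSucc 0, Int.negSucc 0, Int.negSucc 2, Int.negSucc 0, Int.negSucc 0, Int.negSucc 0],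
  [Int.ofNat 0, Int.ofNat 0, Int.negSucc 1, Int.ofNat 0, Int.ofNat 0, Int.ofNat 0, Int.ofNat 0, Int.ofNat 2, Int.ofNat 0, Int.ofNat 2, Int.ofNat 2, Int.ofNat 0, Int.ofNat 2, Int.ofNat 2, Int.negSucc 1, Int.ofNat 2, Int.ofNat 0, Int.ofNat 0, Int.ofNat 0, Int.ofNat 0, Int.ofNat 0, Int.ofNat 0, Int.ofNat 0, Int.ofNat 0],
  [Int.ofNat 0, Int.ofNat 0, Int.ofNat 0, Int.ofNat 0, Int.negSucc 1, Int.ofNat 0, Int.ofNat 0, Int.ofNat 0, Int.ofNat 0, Int.ofNat 2, Int.ofNat 2, Int.ofNat 0, Int.ofNat 0, Int.ofNat 2, Int.ofNat 0, Int.ofNat 2, Int.ofNat 2, Int.ofNat 0, Int.ofNat 0, Int.ofNat 0, Int.ofNat 2, Int.ofNat 0, Int.negSucc 1, Int.ofNat 0],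
  [Int.ofNat 0, Int.ofNat 0, Int.ofNat 0, Int.ofNat 0, Int.negSucc 1, Int.ofNat 0, Int.ofNat 0, Int.ofNat 0, Int.ofNat 0, Int.negSucc 1, Int.negSucc 1, Int.ofNat 0, Int.ofNat 0, Int.ofNat 2, Int.ofNat 0, Int.negSucc 1, Int.ofNat 2, Int.ofNat 0, Int.ofNat 0, Int.ofNat 0, Int.negSucc 1, Int.ofNat 0, Int.negSucc 1, Int.ofNat 0],
  [Int.negSucc 1, Int.ofNat 0, Int.negSucc 1, Int.ofNat 0, Int.ofNat 0, Int.ofNat 0, Int.ofNat 0, Int.negSucc 1, Int.ofNat 0, Int.ofNat 0, Int.ofNat 0, Int.ofNat 0, Int.negSucc 1, Int.negSucc 1, Int.ofNat 0, Int.ofNat 0, Int.ofNat 2, Int.ofNat 0, Int.negSucc 1, Int.ofNat 2, Int.ofNat 0, Int.ofNat 0, Int.ofNat 0, Int.ofNat 0],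
  [Int.ofNat 0, Int.negSucc 1, Int.ofNat 0, Int.ofNat 0, Int.ofNat 0, Int.ofNat 0, Int.ofNat 0, Int.negSucc 1, Int.ofNat 2, Int.ofNat 0, Int.ofNat 0, Int.ofNat 2, Int.ofNat 0, Int.negSucc 1, Int.ofNat 0, Int.ofNat 0, Int.ofNat 2, Int.ofNat 0, Int.ofNat 0, Int.ofNat 2, Int.ofNat 0, Int.ofNat 0, Int.ofNat 0, Int.negSucc 1],
  [Int.negSucc 1, Int.ofNat 0, Int.ofNat 0, Int.ofNat 0, Int.ofNat 0, Int.ofNat 0, Int.negSucc 1, Int.ofNat 2, Int.ofNat 0, Int.ofNat 0, Int.ofNat 2, Int.ofNat 0, Int.negSucc 1, Int.ofNat 0, Int.ofNat 0, Int.ofNat 2, Int.ofNat 0, Int.ofNat 0, Int.ofNat 2, Int.ofNat 0, Int.ofNat 0, Int.ofNat 0, Int.ofNat 0, Int.negSucc 1],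
  [Int.ofNat 2, Int.ofNat 0, Int.ofNat 0, Int.ofNat 0, Int.ofNat 0, Int.ofNat 0, Int.negSucc 1, Int.negSucc 1, Int.ofNat 0, Int.ofNat 0, Int.negSucc 1, Int.ofNat 0, Int.negSucc 1, Int.ofNat 0, Int.ofNat 0, Int.ofNat 2, Int.ofNat 0, Int.ofNat 0, Int.negSucc 1, Int.ofNat 0, Int.ofNat 0, Int.ofNat 0, Int.ofNat 0, Int.negSucc 1],
  [Int.ofNat 2, Int.ofNat 0, Int.negSucc 1, Int.ofNat 0, Int.ofNat 0, Int.negSucc 1, Int.ofNat 0, Int.ofNat 0, Int.ofNat 0, Int.ofNat 0, Int.ofNat 0, Int.ofNat 0, Int.ofNat 0, Int.ofNat 0, Int.ofNat 0, Int.ofNat 2, Int.negSucc 1, Int.ofNat 0, Int.negSucc 1, Int.ofNat 0, Int.ofNat 0, Int.negSucc 1, Int.ofNat 0, Int.negSucc 1],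
  [Int.negSucc 1, Int.ofNat 0, Int.ofNat 2, Int.ofNat 0, Int.ofNat 0, Int.negSucc 1, Int.ofNat 0, Int.ofNat 0, Int.ofNat 0, Int.ofNat 0, Int.ofNat 0, Int.ofNat 0, Int.ofNat 0, Int.ofNat 0, Int.ofNat 0, Int.ofNat 2, Int.negSucc 1, Int.ofNat 0, Int.ofNat 2, Int.ofNat 0, Int.ofNat 0, Int.ofNat 2, Int.ofNat 0, Int.negSucc 1],
  [Int.ofNat 0, Int.negSucc 1, Int.ofNat 0, Int.ofNat 2, Int.ofNat 0, Int.ofNat 0, Int.negSucc 1, Int.ofNat 0, Int.ofNat 0, Int.ofNat 0, Int.ofNat 0, Int.ofNat 0, Int.ofNat 0, Int.ofNat 0, Int.ofNat 0, Int.ofNat 0, Int.ofNat 2, Int.negSucc 1, Int.ofNat 0, Int.ofNat 2, Int.ofNat 0, Int.ofNat 0, Int.ofNat 2, Int.negSucc 1],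
  [Int.negSucc 1, Int.ofNat 0, Int.negSucc 1, Int.ofNat 2, Int.negSucc 1, Int.ofNat 0, Int.negSucc 1, Int.ofNat 0, Int.ofNat 0, Int.ofNat 0, Int.ofNat 0, Int.ofNat 0, Int.ofNat 0, Int.negSucc 1, Int.ofNat 0, Int.ofNat 0, Int.ofNat 0, Int.negSucc 1, Int.ofNat 0, Int.ofNat 2, Int.ofNat 0, Int.ofNat 0, Int.ofNat 0, Int.ofNat 0],
  [Int.ofNat 2, Int.negSucc 1, Int.ofNat 0, Int.negSucc 1, Int.ofNat 0, Int.ofNat 0, Int.ofNat 0, Int.ofNat 0, Int.ofNat 0, Int.ofNat 0, Int.negSucc 1, Int.ofNat 0, Int.ofNat 0, Int.ofNat 0, Int.negSucc 1, Int.ofNat 0, Int.ofNat 2, Int.ofNat 0, Int.ofNat 0, Int.ofNat 0, Int.negSucc 1, Int.ofNat 0, Int.negSucc 1, Int.ofNat 0],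
  [Int.negSucc 1, Int.ofNat 2, Int.ofNat 0, Int.ofNat 0, Int.ofNat 0, Int.ofNat 2, Int.ofNat 0, Int.ofNat 0, Int.ofNat 0, Int.ofNat 2, Int.ofNat 0, Int.ofNat 0, Int.ofNat 0, Int.ofNat 0, Int.ofNat 0, Int.ofNat 2, Int.ofNat 2, Int.ofNat 2, Int.ofNat 0, Int.ofNat 0, Int.ofNat 0, Int.ofNat 0, Int.negSucc 1, Int.ofNat 0],
  [Int.negSucc 1, Int.ofNat 0, Int.ofNat 0, Int.ofNat 0, Int.ofNat 0, Int.ofNat 0, Int.ofNat 0, Int.ofNat 0, Int.ofNat 0, Int.ofNat 0, Int.ofNat 0, Int.ofNat 2, Int.ofNat 2, Int.ofNat 2, Int.negSucc 1, Int.ofNat 2, Int.ofNat 0, Int.ofNat 0, Int.ofNat 2, Int.ofNat 0, Int.ofNat 0, Int.ofNat 2, Int.ofNat 0, Int.ofNat 0],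
  [Int.ofNat 1, Int.negSucc 0, Int.negSucc 0, Int.ofNat 1, Int.negSucc 0, Int.ofNat 1, Int.negSucc 0, Int.negSucc 0, Int.negSucc 2, Int.negSucc 0, Int.negSucc 0, Int.negSucc 0, Int.negSucc 0, Int.ofNat 1, Int.negSucc 0, Int.ofNat 1, Int.negSucc 0, Int.ofNat 1, Int.negSucc 0, Int.negSucc 0, Int.negSucc 0, Int.ofNat 1, Int.negSucc 0, Int.negSucc 0],
  [Int.ofNat 1, Int.negSucc 0, Int.ofNat 1, Int.ofNat 1, Int.negSucc 0, Int.negSucc 0, Int.ofNat 1, Int.negSucc 0, Int.negSucc 2, Int.ofNat 1, Int.ofNat 1, Int.negSucc 0, Int.negSucc 0, Int.ofNat 1, Int.negSucc 0, Int.negSucc 0, Int.negSucc 0, Int.ofNat 1, Int.ofNat 1, Int.negSucc 0, Int.negSucc 0, Int.ofNat 1, Int.ofNat 1, Int.negSucc 0],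
  [Int.ofNat 1, Int.negSucc 0, Int.negSucc 0, Int.negSucc 2, Int.negSucc 0, Int.ofNat 1, Int.ofNat 1, Int.ofNat 1, Int.negSucc 0, Int.negSucc 0, Int.ofNat 1, Int.negSucc 0, Int.negSucc 0, Int.negSucc 0, Int.ofNat 1, Int.ofNat 1, Int.negSucc 0, Int.negSucc 0, Int.ofNat 1, Int.ofNat 1, Int.ofNat 1, Int.negSucc 0, Int.ofNat 1, Int.negSucc 0],
  [Int.negSucc 0, Int.ofNat 1, Int.ofNat 1, Int.ofNat 3, Int.ofNat 1, Int.ofNat 1, Int.negSucc 0, Int.ofNat 1, Int.ofNat 1, Int.ofNat 1, Int.ofNat 1, Int.negSucc 0, Int.ofNat 1, Int.ofNat 1, Int.ofNat 1, Int.ofNat 1, Int.ofNat 1, Int.negSucc 0, Int.negSucc 0, Int.ofNat 1, Int.ofNat 1, Int.negSucc 0, Int.ofNat 1, Int.negSucc 0],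
  [Int.negSucc 0, Int.ofNat 1, Int.negSucc 0, Int.ofNat 1, Int.negSucc 0, Int.ofNat 1, Int.ofNat 1, Int.ofNat 1, Int.ofNat 1, Int.ofNat 1, Int.ofNat 1, Int.ofNat 1, Int.negSucc 0, Int.ofNat 1, Int.negSucc 0, Int.ofNat 3, Int.ofNat 1, Int.ofNat 1, Int.ofNat 1, Int.negSucc 0, Int.ofNat 1, Int.ofNat 1, Int.ofNat 1, Int.negSucc 0],
  [Int.ofNat 1, Int.ofNat 1, Int.ofNat 1, Int.ofNat 1, Int.negSucc 0, Int.ofNat 1, Int.ofNat 1, Int.negSucc 0, Int.ofNat 1, Int.negSucc 0, Int.negSucc 0, Int.negSucc 0, Int.negSucc 0, Int.ofNat 1, Int.negSucc 0, Int.ofNat 3, Int.ofNat 1, Int.ofNat 1, Int.negSucc 0, Int.negSucc 0, Int.ofNat 1, Int.negSucc 0, Int.ofNat 1, Int.negSucc 0],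
  [Int.ofNat 1, Int.ofNat 1, Int.ofNat 1, Int.ofNat 1, Int.ofNat 1, Int.negSucc 0, Int.ofNat 1, Int.ofNat 1, Int.negSucc 0, Int.ofNat 1, Int.negSucc 0, Int.negSucc 0, Int.negSucc 0, Int.negSucc 0, Int.ofNat 1, Int.negSucc 0, Int.ofNat 3, Int.ofNat 1, Int.ofNat 1, Int.negSucc 0, Int.negSucc 0, Int.ofNat 1, Int.negSucc 0, Int.negSucc 0],
  [Int.ofNat 0, Int.ofNat 0, Int.ofNat 0, Int.ofNat 0, Int.ofNat 0, Int.negSucc 1, Int.ofNat 0, Int.ofNat 0, Int.ofNat 0, Int.ofNat 2, Int.ofNat 0, Int.ofNat 0, Int.ofNat 0, Int.negSucc 1, Int.ofNat 0, Int.ofNat 0, Int.ofNat 2, Int.ofNat 0, Int.ofNat 2, Int.negSucc 1, Int.ofNat 0, Int.ofNat 0, Int.negSucc 1, Int.ofNat 2],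
  [Int.ofNat 0, Int.ofNat 0, Int.negSucc 1, Int.ofNat 0, Int.ofNat 0, Int.ofNat 0, Int.ofNat 2, Int.ofNat 0, Int.ofNat 0, Int.ofNat 0, Int.negSucc 1, Int.ofNat 0, Int.ofNat 0, Int.ofNat 2, Int.ofNat 0, Int.ofNat 2, Int.negSucc 1, Int.ofNat 0, Int.ofNat 0, Int.negSucc 1, Int.ofNat 0, Int.ofNat 0, Int.ofNat 0, Int.ofNat 2],
  [Int.ofNat 0, Int.ofNat 0, Int.ofNat 2, Int.ofNat 0, Int.ofNat 0, Int.ofNat 0, Int.ofNat 2, Int.ofNat 0, Int.ofNat 0, Int.ofNat 0, Int.negSucc 1, Int.ofNat 0, Int.ofNat 0, Int.ofNat 2, Int.ofNat 0, Int.ofNat 2, Int.negSucc 1, Int.ofNat 0, Int.ofNat 0, Int.negSucc 1, Int.ofNat 0, Int.ofNat 0, Int.ofNat 0, Int.negSucc 1],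
  [Int.ofNat 0, Int.ofNat 2, Int.ofNat 0, Int.ofNat 0, Int.ofNat 0, Int.ofNat 0, Int.ofNat 2, Int.negSucc 1, Int.ofNat 0, Int.ofNat 2, Int.ofNat 0, Int.ofNat 0, Int.ofNat 0, Int.negSucc 1, Int.ofNat 0, Int.ofNat 2, Int.ofNat 0, Int.ofNat 0, Int.ofNat 0, Int.ofNat 0, Int.ofNat 0, Int.ofNat 0, Int.negSucc 1, Int.negSucc 1],
  [Int.ofNat 0, Int.negSucc 1, Int.ofNat 0, Int.ofNat 0, Int.ofNat 2, Int.ofNat 0, Int.ofNat 2, Int.negSucc 1, Int.ofNat 0, Int.ofNat 0, Int.negSucc 1, Int.ofNat 0, Int.ofNat 0, Int.ofNat 0, Int.ofNat 0, Int.ofNat 0, Int.ofNat 2, Int.ofNat 0, Int.ofNat 0, Int.ofNat 0, Int.negSucc 1, Int.ofNat 0, Int.ofNat 0, Int.ofNat 2],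
  [Int.ofNat 0, Int.negSucc 1, Int.ofNat 0, Int.ofNat 0, Int.ofNat 2, Int.ofNat 0, Int.negSucc 1, Int.negSucc 1, Int.ofNat 0, Int.ofNat 0, Int.ofNat 2, Int.ofNat 0, Int.ofNat 0, Int.ofNat 0, Int.ofNat 0, Int.ofNat 0, Int.ofNat 2, Int.ofNat 0, Int.ofNat 0, Int.ofNat 0, Int.negSucc 1, Int.ofNat 0, Int.ofNat 0, Int.ofNat 2],
  [Int.negSucc 1, Int.ofNat 0, Int.ofNat 0, Int.ofNat 0, Int.negSucc 1, Int.ofNat 0, Int.ofNat 2, Int.ofNat 0, Int.negSucc 1, Int.ofNat 0, Int.ofNat 0, Int.ofNat 0, Int.ofNat 0, Int.ofNat 0, Int.ofNat 0, Int.ofNat 0, Int.negSucc 1, Int.ofNat 0, Int.ofNat 2, Int.ofNat 2, Int.ofNat 0, Int.ofNat 0, Int.ofNat 0, Int.ofNat 2],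
  [Int.negSucc 1, Int.ofNat 0, Int.ofNat 0, Int.ofNat 0, Int.negSucc 1, Int.ofNat 0, Int.negSucc 1, Int.ofNat 0, Int.negSucc 1, Int.ofNat 0, Int.ofNat 0, Int.ofNat 0, Int.ofNat 0, Int.ofNat 0, Int.ofNat 0, Int.ofNat 0, Int.negSucc 1, Int.ofNat 0, Int.negSucc 1, Int.ofNat 2, Int.ofNat 0, Int.ofNat 0, Int.ofNat 0, Int.ofNat 2],
  [Int.ofNat 2, Int.ofNat 0, Int.ofNat 0, Int.ofNat 0, Int.ofNat 0, Int.ofNat 0, Int.negSucc 1, Int.ofNat 0, Int.ofNat 0, Int.ofNat 0, Int.ofNat 0, Int.ofNat 2, Int.ofNat 2, Int.ofNat 2, Int.ofNat 0, Int.ofNat 0, Int.ofNat 0, Int.ofNat 0, Int.ofNat 0, Int.ofNat 2, Int.ofNat 0, Int.ofNat 0, Int.ofNat 2, Int.negSucc 1],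
  [Int.ofNat 2, Int.ofNat 0, Int.negSucc 1, Int.ofNat 0, Int.ofNat 0, Int.ofNat 0, Int.ofNat 0, Int.ofNat 0, Int.ofNat 0, Int.ofNat 2, Int.ofNat 0, Int.ofNat 2, Int.ofNat 0, Int.ofNat 0, Int.ofNat 0, Int.ofNat 0, Int.ofNat 2, Int.ofNat 2, Int.ofNat 0, Int.ofNat 2, Int.ofNat 0, Int.ofNat 0, Int.ofNat 0, Int.negSucc 1],
  [Int.negSucc 2, Int.negSucc 0, Int.ofNat 1, Int.negSucc 0, Int.negSucc 0, Int.negSucc 0, Int.negSucc 0, Int.negSucc 0, Int.negSucc 0, Int.ofNat 1, Int.negSucc 0, Int.ofNat 1, Int.negSucc 0, Int.negSucc 0, Int.negSucc 0, Int.negSucc 0, Int.ofNat 1, Int.ofNat 1, Int.negSucc 0, Int.ofNat 1, Int.negSucc 0, Int.negSucc 0, Int.negSucc 0, Int.ofNat 1],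
  [Int.negSucc 0, Int.negSucc 0, Int.negSucc 0, Int.negSucc 2, Int.negSucc 0, Int.ofNat 1, Int.negSucc 0, Int.negSucc 0, Int.negSucc 0, Int.negSucc 0, Int.negSucc 0, Int.negSucc 0, Int.ofNat 1, Int.negSucc 0, Int.ofNat 1, Int.negSucc 0, Int.negSucc 0, Int.negSucc 0, Int.negSucc 0, Int.ofNat 1, Int.ofNat 1, Int.negSucc 0, Int.ofNat 1, Int.ofNat 1],
  [Int.ofNat 0, Int.ofNat 0, Int.ofNat 0, Int.negSucc 1, Int.ofNat 0, Int.ofNat 2, Int.ofNat 0, Int.ofNat 0, Int.ofNat 0, Int.ofNat 0, Int.ofNat 0, Int.ofNat 0, Int.ofNat 2, Int.ofNat 0, Int.ofNat 2, Int.ofNat 0, Int.ofNat 0, Int.ofNat 0, Int.ofNat 0, Int.ofNat 2, Int.ofNat 2, Int.ofNat 0, Int.ofNat 2, Int.negSucc 1],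
  [Int.ofNat 0, Int.ofNat 0, Int.negSucc 1, Int.ofNat 0, Int.ofNat 2, Int.ofNat 0, Int.ofNat 0, Int.ofNat 0, Int.ofNat 0, Int.ofNat 0, Int.ofNat 0, Int.ofNat 2, Int.ofNat 0, Int.ofNat 2, Int.ofNat 0, Int.ofNat 0, Int.ofNat 0, Int.ofNat 0, Int.ofNat 2, Int.ofNat 2, Int.ofNat 0, Int.ofNat 2, Int.ofNat 0, Int.negSucc 1],
  [Int.ofNat 0, Int.ofNat 0, Int.ofNat 2, Int.ofNat 0, Int.ofNat 2, Int.ofNat 0, Int.ofNat 0, Int.ofNat 0, Int.ofNat 0, Int.ofNat 0, Int.ofNat 0, Int.negSucc 1, Int.ofNat 0, Int.ofNat 2, Int.ofNat 0, Int.ofNat 0, Int.ofNat 0, Int.ofNat 0, Int.negSucc 1, Int.ofNat 2, Int.ofNat 0, Int.negSucc 1, Int.ofNat 0, Int.negSucc 1],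
  [Int.ofNat 0, Int.ofNat 2, Int.negSucc 1, Int.ofNat 0, Int.ofNat 0, Int.ofNat 0, Int.ofNat 2, Int.ofNat 0, Int.ofNat 0, Int.ofNat 0, Int.negSucc 1, Int.ofNat 0, Int.ofNat 2, Int.ofNat 0, Int.ofNat 2, Int.ofNat 0, Int.ofNat 0, Int.ofNat 0, Int.ofNat 0, Int.ofNat 0, Int.ofNat 0, Int.ofNat 0, Int.negSucc 1, Int.negSucc 1],
  [Int.ofNat 0, Int.ofNat 2, Int.ofNat 2, Int.ofNat 0, Int.ofNat 0, Int.ofNat 0, Int.ofNat 2, Int.ofNat 0, Int.ofNat 0, Int.ofNat 0, Int.ofNat 2, Int.ofNat 0, Int.ofNat 2, Int.ofNat 0, Int.ofNat 2, Int.ofNat 0, Int.ofNat 0, Int.ofNat 0, Int.ofNat 0, Int.ofNat 0, Int.ofNat 0, Int.ofNat 0, Int.negSucc 1, Int.negSucc 1],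
  [Int.negSucc 1, Int.ofNat 0, Int.ofNat 2, Int.ofNat 2, Int.ofNat 0, Int.ofNat 0, Int.ofNat 0, Int.ofNat 2, Int.ofNat 0, Int.ofNat 0, Int.ofNat 0, Int.ofNat 2, Int.ofNat 0, Int.ofNat 2, Int.ofNat 0, Int.ofNat 2, Int.ofNat 0, Int.ofNat 0, Int.ofNat 0, Int.ofNat 0, Int.ofNat 0, Int.ofNat 0, Int.ofNat 0, Int.negSucc 1],
  [Int.ofNat 1, Int.negSucc 0, Int.negSucc 2, Int.ofNat 1, Int.negSucc 0, Int.negSucc 0, Int.negSucc 0, Int.ofNat 1, Int.negSucc 0, Int.negSucc 0, Int.negSucc 0, Int.ofNat 1, Int.negSucc 0, Int.ofNat 1, Int.negSucc 0, Int.ofNat 1, Int.negSucc 0, Int.negSucc 0, Int.negSucc 0, Int.negSucc 0, Int.negSucc 0, Int.negSucc 0, Int.negSucc 0, Int.ofNat 1],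
  [Int.ofNat 1, Int.negSucc 0, Int.negSucc 0, Int.negSucc 0, Int.ofNat 1, Int.negSucc 0, Int.negSucc 0, Int.negSucc 0, Int.ofNat 1, Int.negSucc 0, Int.ofNat 1, Int.negSucc 0, Int.ofNat 1, Int.negSucc 0, Int.negSucc 0, Int.negSucc 0, Int.negSucc 0, Int.negSucc 0, Int.negSucc 0, Int.negSucc 0, Int.ofNat 1, Int.negSucc 0, Int.negSucc 2, Int.ofNat 1],
  [Int.negSucc 0, Int.ofNat 1, Int.ofNat 1, Int.ofNat 1, Int.ofNat 3, Int.ofNat 1, Int.ofNat 1, Int.ofNat 1, Int.ofNat 1, Int.negSucc 0, Int.ofNat 1, Int.negSucc 0, Int.ofNat 1, Int.ofNat 1, Int.ofNat 1, Int.negSucc 0, Int.ofNat 1, Int.ofNat 1, Int.negSucc 0, Int.ofNat 1, Int.ofNat 1, Int.ofNat 1, Int.negSucc 0, Int.negSucc 0],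
  [Int.negSucc 0, Int.ofNat 1, Int.ofNat 3, Int.ofNat 1, Int.negSucc 0, Int.ofNat 1, Int.ofNat 1, Int.ofNat 1, Int.ofNat 1, Int.ofNat 1, Int.ofNat 1, Int.ofNat 1, Int.negSucc 0, Int.ofNat 1, Int.negSucc 0, Int.negSucc 0, Int.ofNat 1, Int.ofNat 1, Int.ofNat 1, Int.negSucc 0, Int.ofNat 1, Int.ofNat 1, Int.ofNat 1, Int.negSucc 0],
  [Int.ofNat 2, Int.ofNat 0, Int.negSucc 1, Int.ofNat 0, Int.negSucc 1, Int.ofNat 0, Int.ofNat 0, Int.ofNat 0, Int.ofNat 0, Int.ofNat 0, Int.ofNat 0, Int.ofNat 0, Int.negSucc 1, Int.ofNat 0, Int.negSucc 1, Int.negSucc 1, Int.ofNat 0, Int.ofNat 0, Int.ofNat 0, Int.negSucc 1, Int.ofNat 0, Int.ofNat 0, Int.ofNat 0, Int.ofNat 2],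
  [Int.ofNat 2, Int.ofNat 0, Int.ofNat 2, Int.ofNat 0, Int.negSucc 1, Int.ofNat 0, Int.ofNat 0, Int.ofNat 0, Int.ofNat 0, Int.ofNat 0, Int.ofNat 0, Int.ofNat 0, Int.negSucc 1, Int.ofNat 0, Int.negSucc 1, Int.ofNat 2, Int.ofNat 0, Int.ofNat 0, Int.ofNat 0, Int.negSucc 1, Int.ofNat 0, Int.ofNat 0, Int.ofNat 0, Int.ofNat 2],
  [Int.ofNat 0, Int.ofNat 0, Int.ofNat 0, Int.ofNat 0, Int.negSucc 1, Int.ofNat 0, Int.ofNat 0, Int.ofNat 0, Int.ofNat 0, Int.ofNat 0, Int.ofNat 0, Int.ofNat 0, Int.ofNat 2, Int.negSucc 1, Int.ofNat 0, Int.ofNat 0, Int.negSucc 1, Int.negSucc 1, Int.ofNat 0, Int.ofNat 2, Int.ofNat 2, Int.ofNat 0, Int.ofNat 0, Int.ofNat 2],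
  [Int.ofNat 0, Int.ofNat 0, Int.ofNat 0, Int.ofNat 0, Int.ofNat 2, Int.ofNat 0, Int.ofNat 0, Int.ofNat 0, Int.ofNat 0, Int.ofNat 0, Int.ofNat 0, Int.ofNat 0, Int.negSucc 1, Int.ofNat 2, Int.ofNat 0, Int.ofNat 0, Int.ofNat 2, Int.negSucc 1, Int.ofNat 0, Int.ofNat 2, Int.ofNat 2, Int.ofNat 0, Int.ofNat 0, Int.ofNat 2],
  [Int.ofNat 2, Int.ofNat 0, Int.ofNat 0, Int.ofNat 0, Int.negSucc 1, Int.ofNat 0, Int.ofNat 2, Int.ofNat 2, Int.ofNat 2, Int.ofNat 0, Int.ofNat 2, Int.ofNat 0, Int.ofNat 0, Int.ofNat 0, Int.ofNat 0, Int.ofNat 0, Int.ofNat 0, Int.ofNat 2, Int.ofNat 0, Int.ofNat 0, Int.ofNat 0, Int.negSucc 1, Int.ofNat 0, Int.ofNat 0],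
  [Int.negSucc 1, Int.ofNat 0, Int.ofNat 0, Int.ofNat 0, Int.negSucc 1, Int.ofNat 0, Int.ofNat 2, Int.negSucc 1, Int.ofNat 2, Int.ofNat 0, Int.negSucc 1, Int.ofNat 0, Int.ofNat 0, Int.ofNat 0, Int.ofNat 0, Int.ofNat 0, Int.ofNat 0, Int.ofNat 2, Int.ofNat 0, Int.ofNat 0, Int.ofNat 0, Int.ofNat 2, Int.ofNat 0, Int.ofNat 0],
  [Int.ofNat 0, Int.negSucc 1, Int.ofNat 0, Int.ofNat 0, Int.ofNat 0, Int.negSucc 1, Int.ofNat 0, Int.ofNat 2, Int.negSucc 1, Int.ofNat 2, Int.ofNat 0, Int.negSucc 1, Int.ofNat 0, Int.ofNat 0, Int.ofNat 0, Int.ofNat 0, Int.ofNat 0, Int.ofNat 0, Int.ofNat 2, Int.ofNat 0, Int.ofNat 0, Int.ofNat 0, Int.ofNat 2, Int.ofNat 0],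
  [Int.negSucc 0, Int.ofNat 1, Int.negSucc 0, Int.ofNat 1, Int.negSucc 0, Int.negSucc 0, Int.negSucc 0, Int.ofNat 1, Int.negSucc 0, Int.ofNat 1, Int.negSucc 0, Int.negSucc 0, Int.ofNat 1, Int.negSucc 0, Int.ofNat 1, Int.negSucc 0, Int.negSucc 0, Int.ofNat 1, Int.ofNat 3, Int.negSucc 0, Int.negSucc 0, Int.negSucc 0, Int.ofNat 1, Int.negSucc 0],
  [Int.ofNat 1, Int.negSucc 0, Int.negSucc 0, Int.negSucc 0, Int.ofNat 1, Int.negSucc 0, Int.ofNat 1, Int.negSucc 0, Int.negSucc 0, Int.ofNat 1, Int.negSucc 0, Int.ofNat 1, Int.negSucc 0, Int.negSucc 0, Int.ofNat 1, Int.ofNat 3, Int.negSucc 0, Int.negSucc 0, Int.negSucc 0, Int.ofNat 1, Int.negSucc 0, Int.ofNat 1, Int.negSucc 0, Int.negSucc 0],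
  [Int.negSucc 1, Int.ofNat 0, Int.ofNat 0, Int.ofNat 0, Int.ofNat 2, Int.ofNat 0, Int.ofNat 0, Int.negSucc 1, Int.ofNat 0, Int.ofNat 0, Int.negSucc 1, Int.ofNat 2, Int.ofNat 0, Int.ofNat 0, Int.ofNat 2, Int.ofNat 2, Int.ofNat 0, Int.ofNat 0, Int.ofNat 0, Int.ofNat 0, Int.negSucc 1, Int.ofNat 0, Int.ofNat 0, Int.ofNat 0],
  [Int.negSucc 1, Int.ofNat 0, Int.ofNat 2, Int.ofNat 0, Int.ofNat 0, Int.negSucc 1, Int.ofNat 0, Int.negSucc 1, Int.ofNat 0, Int.ofNat 0, Int.negSucc 1, Int.ofNat 0, Int.ofNat 0, Int.ofNat 0, Int.ofNat 0, Int.ofNat 2, Int.ofNat 0, Int.ofNat 2, Int.ofNat 0, Int.ofNat 2, Int.ofNat 0, Int.ofNat 0, Int.ofNat 0, Int.ofNat 0],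
  [Int.ofNat 2, Int.ofNat 0, Int.negSucc 1, Int.ofNat 0, Int.ofNat 0, Int.negSucc 1, Int.ofNat 0, Int.negSucc 1, Int.ofNat 0, Int.ofNat 0, Int.negSucc 1, Int.ofNat 0, Int.ofNat 0, Int.ofNat 0, Int.ofNat 0, Int.ofNat 2, Int.ofNat 0, Int.ofNat 2, Int.ofNat 0, Int.ofNat 2, Int.ofNat 0, Int.ofNat 0, Int.ofNat 0, Int.ofNat 0],
  [Int.ofNat 2, Int.ofNat 0, Int.ofNat 2, Int.ofNat 0, Int.ofNat 0, Int.ofNat 2, Int.ofNat 0, Int.negSucc 1, Int.ofNat 0, Int.ofNat 0, Int.ofNat 2, Int.ofNat 0, Int.ofNat 0, Int.ofNat 0, Int.ofNat 0, Int.negSucc 1, Int.ofNat 0, Int.ofNat 2, Int.ofNat 0, Int.ofNat 2, Int.ofNat 0, Int.ofNat 0, Int.ofNat 0, Int.ofNat 0],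
  [Int.ofNat 0, Int.ofNat 0, Int.ofNat 0, Int.ofNat 0, Int.ofNat 0, Int.ofNat 2, Int.ofNat 0, Int.ofNat 2, Int.negSucc 1, Int.ofNat 0, Int.ofNat 2, Int.ofNat 0, Int.ofNat 0, Int.ofNat 0, Int.negSucc 1, Int.ofNat 2, Int.ofNat 0, Int.ofNat 0, Int.ofNat 2, Int.ofNat 0, Int.ofNat 0, Int.ofNat 2, Int.ofNat 0, Int.ofNat 0],
  [Int.ofNat 0, Int.ofNat 0, Int.ofNat 0, Int.ofNat 0, Int.ofNat 0, Int.negSucc 1, Int.ofNat 0, Int.ofNat 2, Int.negSucc 1, Int.ofNat 0, Int.negSucc 1, Int.ofNat 0, Int.ofNat 0, Int.ofNat 0, Int.negSucc 1, Int.negSucc 1, Int.ofNat 0, Int.ofNat 0, Int.negSucc 1, Int.ofNat 0, Int.ofNat 0, Int.ofNat 2, Int.ofNat 0, Int.ofNat 0],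
  [Int.ofNat 0, Int.ofNat 0, Int.ofNat 0, Int.ofNat 2, Int.ofNat 0, Int.ofNat 0, Int.negSucc 1, Int.ofNat 0, Int.ofNat 0, Int.ofNat 2, Int.ofNat 0, Int.ofNat 2, Int.ofNat 2, Int.ofNat 0, Int.ofNat 0, Int.ofNat 0, Int.ofNat 0, Int.ofNat 2, Int.ofNat 0, Int.negSucc 1, Int.ofNat 2, Int.ofNat 0, Int.ofNat 0, Int.ofNat 0],
  [Int.ofNat 0, Int.ofNat 0, Int.negSucc 1, Int.ofNat 2, Int.ofNat 0, Int.ofNat 0, Int.ofNat 0, Int.ofNat 0, Int.ofNat 0, Int.ofNat 2, Int.ofNat 0, Int.negSucc 1, Int.ofNat 0, Int.ofNat 2, Int.ofNat 2, Int.ofNat 0, Int.ofNat 0, Int.ofNat 2, Int.ofNat 0, Int.ofNat 0, Int.ofNat 0, Int.ofNat 2, Int.ofNat 0, Int.ofNat 0],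
  [Int.negSucc 0, Int.negSucc 0, Int.ofNat 1, Int.negSucc 0, Int.negSucc 0, Int.negSucc 2, Int.negSucc 0, Int.negSucc 0, Int.ofNat 1, Int.ofNat 1, Int.negSucc 0, Int.negSucc 0, Int.ofNat 1, Int.ofNat 1, Int.negSucc 0, Int.negSucc 0, Int.negSucc 0, Int.negSucc 0, Int.ofNat 1, Int.negSucc 0, Int.negSucc 0, Int.ofNat 1, Int.negSucc 0, Int.negSucc 0],
  [Int.negSucc 0, Int.ofNat 1, Int.negSucc 0, Int.negSucc 0, Int.negSucc 0, Int.ofNat 1, Int.negSucc 0, Int.negSucc 0, Int.negSucc 2, Int.negSucc 0, Int.negSucc 0, Int.ofNat 1, Int.ofNat 1, Int.negSucc 0, Int.negSucc 0, Int.ofNat 1, Int.ofNat 1, Int.negSucc 0, Int.negSucc 0, Int.negSucc 0, Int.negSucc 0, Int.ofNat 1, Int.negSucc 0, Int.negSucc 0],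
  [Int.ofNat 0, Int.negSucc 1, Int.ofNat 0, Int.ofNat 0, Int.ofNat 0, Int.ofNat 2, Int.ofNat 0, Int.ofNat 0, Int.negSucc 1, Int.ofNat 0, Int.ofNat 0, Int.ofNat 2, Int.ofNat 2, Int.ofNat 0, Int.ofNat 0, Int.ofNat 2, Int.ofNat 2, Int.ofNat 0, Int.ofNat 0, Int.ofNat 0, Int.ofNat 0, Int.ofNat 2, Int.ofNat 0, Int.ofNat 0],
  [Int.negSucc 1, Int.ofNat 0, Int.ofNat 0, Int.ofNat 0, Int.ofNat 2, Int.ofNat 0, Int.ofNat 0, Int.negSucc 1, Int.ofNat 0, Int.ofNat 0, Int.ofNat 2, Int.ofNat 2, Int.ofNat 0, Int.ofNat 0, Int.ofNat 2, Int.ofNat 2, Int.ofNat 0, Int.ofNat 0, Int.ofNat 0, Int.ofNat 0, Int.ofNat 2, Int.ofNat 0, Int.ofNat 0, Int.ofNat 0],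
  [Int.ofNat 2, Int.ofNat 0, Int.ofNat 0, Int.ofNat 0, Int.ofNat 2, Int.ofNat 0, Int.ofNat 0, Int.ofNat 2, Int.ofNat 0, Int.ofNat 0, Int.negSucc 1, Int.negSucc 1, Int.ofNat 0, Int.ofNat 0, Int.ofNat 2, Int.ofNat 2, Int.ofNat 0, Int.ofNat 0, Int.ofNat 0, Int.ofNat 0, Int.ofNat 2, Int.ofNat 0, Int.ofNat 0, Int.ofNat 0],
  [Int.ofNat 2, Int.ofNat 0, Int.ofNat 0, Int.ofNat 0, Int.ofNat 0, Int.negSucc 1, Int.ofNat 2, Int.ofNat 2, Int.ofNat 0, Int.ofNat 0, Int.ofNat 0, Int.ofNat 2, Int.ofNat 0, Int.ofNat 0, Int.ofNat 0, Int.ofNat 2, Int.ofNat 0, Int.ofNat 0, Int.ofNat 0, Int.ofNat 0, Int.ofNat 0, Int.ofNat 2, Int.negSucc 1, Int.ofNat 0],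
  [Int.negSucc 1, Int.ofNat 0, Int.ofNat 0, Int.ofNat 0, Int.ofNat 0, Int.negSucc 1, Int.ofNat 2, Int.negSucc 1, Int.ofNat 0, Int.ofNat 0, Int.ofNat 0, Int.negSucc 1, Int.ofNat 0, Int.ofNat 0, Int.ofNat 0, Int.ofNat 2, Int.ofNat 0, Int.ofNat 0, Int.ofNat 0, Int.ofNat 0, Int.ofNat 0, Int.negSucc 1, Int.negSucc 1, Int.ofNat 0],
  [Int.negSucc 1, Int.negSucc 1, Int.ofNat 0, Int.ofNat 0, Int.ofNat 0, Int.ofNat 0, Int.negSucc 1, Int.ofNat 2, Int.negSucc 1, Int.ofNat 0, Int.ofNat 0, Int.ofNat 0, Int.negSucc 1, Int.ofNat 0, Int.ofNat 0, Int.ofNat 0, Int.ofNat 2, Int.ofNat 0, Int.ofNat 0, Int.ofNat 0, Int.ofNat 0, Int.ofNat 0, Int.negSucc 1, Int.ofNat 0],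
  [Int.ofNat 0, Int.ofNat 0, Int.negSucc 1, Int.ofNat 0, Int.ofNat 0, Int.ofNat 0, Int.negSucc 1, Int.ofNat 2, Int.ofNat 0, Int.ofNat 0, Int.ofNat 0, Int.ofNat 2, Int.ofNat 0, Int.ofNat 0, Int.ofNat 0, Int.ofNat 0, Int.ofNat 2, Int.ofNat 0, Int.ofNat 2, Int.ofNat 0, Int.ofNat 0, Int.ofNat 0, Int.negSucc 1, Int.negSucc 1],
  [Int.ofNat 0, Int.ofNat 0, Int.ofNat 0, Int.negSucc 1, Int.ofNat 2, Int.ofNat 0, Int.ofNat 0, Int.ofNat 0, Int.ofNat 2, Int.ofNat 0, Int.ofNat 0, Int.ofNat 0, Int.ofNat 0, Int.ofNat 2, Int.ofNat 0, Int.ofNat 2, Int.ofNat 0, Int.ofNat 0, Int.ofNat 0, Int.negSucc 1, Int.ofNat 0, Int.ofNat 0, Int.negSucc 1, Int.negSucc 1],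
  [Int.negSucc 0, Int.negSucc 0, Int.negSucc 0, Int.negSucc 0, Int.ofNat 1, Int.ofNat 1, Int.ofNat 1, Int.ofNat 1, Int.ofNat 1, Int.negSucc 0, Int.negSucc 0, Int.negSucc 0, Int.negSucc 0, Int.ofNat 1, Int.ofNat 1, Int.ofNat 1, Int.negSucc 0, Int.ofNat 1, Int.negSucc 0, Int.negSucc 0, Int.negSucc 0, Int.ofNat 1, Int.negSucc 2, Int.ofNat 1],
  [Int.negSucc 0, Int.ofNat 1, Int.ofNat 1, Int.negSucc 0, Int.negSucc 0, Int.ofNat 1, Int.negSucc 0, Int.negSucc 0, Int.negSucc 0, Int.ofNat 1, Int.negSucc 0, Int.ofNat 1, Int.negSucc 0, Int.negSucc 0, Int.negSucc 2, Int.ofNat 1, Int.ofNat 1, Int.ofNat 1, Int.negSucc 0, Int.negSucc 0, Int.ofNat 1, Int.ofNat 1, Int.negSucc 0, Int.ofNat 1],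
  [Int.ofNat 2, Int.ofNat 0, Int.ofNat 0, Int.ofNat 0, Int.ofNat 0, Int.ofNat 2, Int.ofNat 0, Int.ofNat 0, Int.ofNat 0, Int.ofNat 0, Int.negSucc 1, Int.ofNat 2, Int.ofNat 0, Int.ofNat 0, Int.negSucc 1, Int.ofNat 0, Int.ofNat 2, Int.ofNat 2, Int.ofNat 0, Int.ofNat 0, Int.ofNat 0, Int.ofNat 2, Int.ofNat 0, Int.ofNat 0],
  [Int.ofNat 2, Int.ofNat 0, Int.ofNat 0, Int.ofNat 0, Int.ofNat 0, Int.negSucc 1, Int.ofNat 0, Int.ofNat 0, Int.ofNat 0, Int.ofNat 0, Int.ofNat 2, Int.ofNat 2, Int.ofNat 0, Int.ofNat 0, Int.negSucc 1, Int.ofNat 0, Int.ofNat 2, Int.ofNat 2, Int.ofNat 0, Int.ofNat 0, Int.ofNat 0, Int.ofNat 2, Int.ofNat 0, Int.ofNat 0],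
  [Int.ofNat 2, Int.ofNat 2, Int.ofNat 2, Int.ofNat 0, Int.negSucc 1, Int.ofNat 0, Int.ofNat 2, Int.ofNat 0, Int.negSucc 1, Int.ofNat 0, Int.ofNat 0, Int.ofNat 0, Int.ofNat 0, Int.ofNat 0, Int.ofNat 2, Int.ofNat 0, Int.ofNat 0, Int.ofNat 0, Int.ofNat 0, Int.ofNat 0, Int.ofNat 2, Int.ofNat 0, Int.ofNat 0, Int.ofNat 0],
  [Int.negSucc 1, Int.negSucc 1, Int.negSucc 1, Int.ofNat 0, Int.ofNat 2, Int.ofNat 0, Int.negSucc 1, Int.ofNat 0, Int.ofNat 2, Int.ofNat 0, Int.ofNat 0, Int.ofNat 0, Int.ofNat 0, Int.ofNat 0, Int.ofNat 2, Int.ofNat 0, Int.ofNat 0, Int.ofNat 0, Int.ofNat 0, Int.ofNat 0, Int.ofNat 2, Int.ofNat 0, Int.ofNat 0, Int.ofNat 0],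
  [Int.ofNat 0, Int.ofNat 0, Int.ofNat 0, Int.ofNat 0, Int.ofNat 0, Int.ofNat 0, Int.ofNat 0, Int.ofNat 0, Int.ofNat 2, Int.ofNat 0, Int.ofNat 0, Int.negSucc 1, Int.ofNat 0, Int.ofNat 0, Int.ofNat 0, Int.ofNat 0, Int.ofNat 0, Int.ofNat 2, Int.ofNat 2, Int.negSucc 1, Int.ofNat 2, Int.ofNat 0, Int.negSucc 1, Int.negSucc 1],
  [Int.ofNat 0, Int.ofNat 0, Int.ofNat 0, Int.ofNat 0, Int.ofNat 0, Int.ofNat 0, Int.ofNat 0, Int.ofNat 0, Int.ofNat 2, Int.ofNat 0, Int.ofNat 0, Int.ofNat 2, Int.ofNat 0, Int.ofNat 0, Int.ofNat 0, Int.ofNat 0, Int.ofNat 0, Int.ofNat 2, Int.negSucc 1, Int.negSucc 1, Int.ofNat 2, Int.ofNat 0, Int.negSucc 1, Int.negSucc 1],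
  [Int.negSucc 1, Int.ofNat 0, Int.ofNat 0, Int.ofNat 0, Int.ofNat 0, Int.ofNat 0, Int.ofNat 0, Int.ofNat 0, Int.ofNat 0, Int.ofNat 2, Int.ofNat 0, Int.ofNat 0, Int.ofNat 2, Int.ofNat 0, Int.ofNat 0, Int.ofNat 0, Int.ofNat 0, Int.ofNat 0, Int.ofNat 2, Int.negSucc 1, Int.negSucc 1, Int.ofNat 2, Int.ofNat 0, Int.negSucc 1],
  [Int.ofNat 0, Int.negSucc 1, Int.negSucc 1, Int.ofNat 0, Int.ofNat 0, Int.ofNat 0, Int.ofNat 0, Int.ofNat 0, Int.negSucc 1, Int.ofNat 2, Int.ofNat 0, Int.negSucc 1, Int.ofNat 0, Int.ofNat 0, Int.ofNat 0, Int.ofNat 0, Int.ofNat 0, Int.ofNat 0, Int.ofNat 0, Int.negSucc 1, Int.negSucc 1, Int.ofNat 2, Int.ofNat 0, Int.ofNat 0],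
  [Int.ofNat 0, Int.ofNat 0, Int.ofNat 0, Int.ofNat 0, Int.ofNat 0, Int.negSucc 1, Int.ofNat 2, Int.ofNat 0, Int.negSucc 1, Int.ofNat 0, Int.ofNat 0, Int.ofNat 0, Int.ofNat 0, Int.ofNat 0, Int.ofNat 0, Int.ofNat 0, Int.negSucc 1, Int.negSucc 1, Int.ofNat 2, Int.ofNat 0, Int.ofNat 0, Int.negSucc 1, Int.negSucc 1, Int.ofNat 0],
  [Int.ofNat 0, Int.ofNat 0, Int.ofNat 0, Int.ofNat 2, Int.ofNat 2, Int.ofNat 0, Int.ofNat 2, Int.ofNat 0, Int.negSucc 1, Int.ofNat 0, Int.ofNat 0, Int.ofNat 0, Int.ofNat 0, Int.ofNat 2, Int.ofNat 2, Int.ofNat 0, Int.ofNat 0, Int.ofNat 0, Int.ofNat 2, Int.ofNat 0, Int.ofNat 0, Int.negSucc 1, Int.ofNat 0, Int.ofNat 0],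
  [Int.ofNat 0, Int.ofNat 2, Int.ofNat 2, Int.ofNat 2, Int.ofNat 2, Int.ofNat 0, Int.ofNat 0, Int.ofNat 0, Int.ofNat 0, Int.ofNat 2, Int.ofNat 0, Int.ofNat 0, Int.ofNat 0, Int.ofNat 0, Int.ofNat 0, Int.ofNat 0, Int.negSucc 1, Int.ofNat 2, Int.ofNat 0, Int.ofNat 0, Int.negSucc 1, Int.ofNat 0, Int.ofNat 0, Int.ofNat 0],
  [Int.ofNat 2, Int.ofNat 0, Int.ofNat 0, Int.ofNat 0, Int.ofNat 2, Int.negSucc 1, Int.ofNat 0, Int.ofNat 0, Int.ofNat 0, Int.ofNat 2, Int.ofNat 0, Int.ofNat 0, Int.ofNat 0, Int.ofNat 0, Int.negSucc 1, Int.ofNat 0, Int.negSucc 1, Int.ofNat 0, Int.ofNat 0, Int.ofNat 0, Int.negSucc 1, Int.ofNat 0, Int.ofNat 0, Int.ofNat 2],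
  [Int.ofNat 2, Int.ofNat 0, Int.ofNat 0, Int.ofNat 0, Int.ofNat 2, Int.ofNat 2, Int.ofNat 0, Int.ofNat 0, Int.ofNat 0, Int.negSucc 1, Int.ofNat 0, Int.ofNat 0, Int.ofNat 0, Int.ofNat 0, Int.negSucc 1, Int.ofNat 0, Int.negSucc 1, Int.ofNat 0, Int.ofNat 0, Int.ofNat 0, Int.negSucc 1, Int.ofNat 0, Int.ofNat 0, Int.ofNat 2],
  [Int.ofNat 0, Int.ofNat 0, Int.negSucc 1, Int.ofNat 0, Int.ofNat 0, Int.ofNat 0, Int.ofNat 2, Int.ofNat 0, Int.ofNat 0, Int.ofNat 0, Int.ofNat 2, Int.ofNat 0, Int.ofNat 0, Int.negSucc 1, Int.ofNat 0, Int.ofNat 2, Int.negSucc 1, Int.ofNat 0, Int.ofNat 0, Int.negSucc 1, Int.ofNat 0, Int.ofNat 0, Int.ofNat 0, Int.ofNat 2],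
  [Int.ofNat 0, Int.ofNat 0, Int.ofNat 2, Int.ofNat 0, Int.ofNat 0, Int.ofNat 0, Int.negSucc 1, Int.ofNat 0, Int.ofNat 0, Int.ofNat 0, Int.negSucc 1, Int.ofNat 0, Int.ofNat 0, Int.negSucc 1, Int.ofNat 0, Int.negSucc 1, Int.negSucc 1, Int.ofNat 0, Int.ofNat 0, Int.negSucc 1, Int.ofNat 0, Int.ofNat 0, Int.ofNat 0, Int.ofNat 2],
  [Int.ofNat 2, Int.ofNat 2, Int.ofNat 0, Int.ofNat 0, Int.ofNat 2, Int.ofNat 0, Int.ofNat 0, Int.ofNat 2, Int.ofNat 0, Int.ofNat 2, Int.ofNat 0, Int.ofNat 0, Int.ofNat 0, Int.ofNat 0, Int.ofNat 0, Int.ofNat 0, Int.ofNat 0, Int.ofNat 0, Int.ofNat 0, Int.ofNat 0, Int.ofNat 2, Int.ofNat 2, Int.ofNat 2, Int.ofNat 0],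
  [Int.ofNat 2, Int.ofNat 0, Int.ofNat 0, Int.ofNat 0, Int.ofNat 0, Int.ofNat 2, Int.ofNat 2, Int.ofNat 0, Int.ofNat 0, Int.ofNat 0, Int.ofNat 2, Int.ofNat 0, Int.ofNat 0, Int.ofNat 2, Int.ofNat 0, Int.ofNat 0, Int.ofNat 0, Int.ofNat 0, Int.ofNat 2, Int.ofNat 2, Int.ofNat 0, Int.ofNat 2, Int.ofNat 0, Int.ofNat 0],
  [Int.negSucc 0, Int.ofNat 1, Int.ofNat 1, Int.negSucc 0, Int.negSucc 0, Int.ofNat 1, Int.negSucc 0, Int.negSucc 2, Int.negSucc 0, Int.negSucc 0, Int.ofNat 1, Int.negSucc 0, Int.negSucc 0, Int.ofNat 1, Int.negSucc 0, Int.negSucc 0, Int.negSucc 0, Int.negSucc 0, Int.ofNat 1, Int.negSucc 0, Int.negSucc 0, Int.negSucc 0, Int.negSucc 0, Int.ofNat 1],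
  [Int.negSucc 0, Int.negSucc 0, Int.negSucc 0, Int.negSucc 0, Int.ofNat 1, Int.ofNat 1, Int.negSucc 0, Int.negSucc 0, Int.ofNat 1, Int.negSucc 0, Int.negSucc 2, Int.negSucc 0, Int.negSucc 0, Int.ofNat 1, Int.negSucc 0, Int.negSucc 0, Int.ofNat 1, Int.negSucc 0, Int.negSucc 0, Int.negSucc 0, Int.negSucc 0, Int.ofNat 1, Int.negSucc 0, Int.ofNat 1],
  [Int.ofNat 0, Int.ofNat 0, Int.ofNat 0, Int.ofNat 0, Int.ofNat 0, Int.ofNat 2, Int.ofNat 0, Int.ofNat 0, Int.ofNat 2, Int.ofNat 2, Int.ofNat 0, Int.ofNat 0, Int.ofNat 0, Int.ofNat 0, Int.ofNat 0, Int.ofNat 2, Int.ofNat 0, Int.ofNat 0, Int.ofNat 0, Int.ofNat 0, Int.ofNat 2, Int.ofNat 2, Int.negSucc 1, Int.negSucc 1],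
  [Int.ofNat 0, Int.ofNat 0, Int.ofNat 0, Int.ofNat 0, Int.ofNat 2, Int.ofNat 0, Int.ofNat 0, Int.ofNat 2, Int.ofNat 2, Int.ofNat 0, Int.ofNat 0, Int.ofNat 0, Int.ofNat 0, Int.ofNat 0, Int.ofNat 2, Int.ofNat 0, Int.ofNat 0, Int.ofNat 0, Int.ofNat 0, Int.ofNat 2, Int.ofNat 2, Int.negSucc 1, Int.ofNat 0, Int.negSucc 1],
  [Int.ofNat 0, Int.ofNat 0, Int.ofNat 0, Int.ofNat 0, Int.ofNat 2, Int.ofNat 0, Int.ofNat 0, Int.negSucc 1, Int.ofNat 2, Int.ofNat 0, Int.ofNat 0, Int.ofNat 0, Int.ofNat 0, Int.ofNat 0, Int.ofNat 2, Int.ofNat 0, Int.ofNat 0, Int.ofNat 0, Int.ofNat 0, Int.ofNat 2, Int.ofNat 2, Int.ofNat 2, Int.ofNat 0, Int.negSucc 1],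
  [Int.ofNat 0, Int.ofNat 0, Int.ofNat 0, Int.ofNat 0, Int.ofNat 0, Int.ofNat 0, Int.ofNat 2, Int.ofNat 2, Int.ofNat 0, Int.ofNat 0, Int.ofNat 2, Int.ofNat 2, Int.ofNat 0, Int.ofNat 2, Int.ofNat 2, Int.ofNat 0, Int.ofNat 0, Int.ofNat 0, Int.ofNat 0, Int.ofNat 0, Int.ofNat 0, Int.negSucc 1, Int.ofNat 0, Int.negSucc 1],
  [Int.ofNat 0, Int.ofNat 0, Int.ofNat 0, Int.ofNat 0, Int.ofNat 0, Int.ofNat 0, Int.ofNat 2, Int.negSucc 1, Int.ofNat 0, Int.ofNat 0, Int.negSucc 1, Int.negSucc 1, Int.ofNat 0, Int.ofNat 2, Int.ofNat 2, Int.ofNat 0, Int.ofNat 0, Int.ofNat 0, Int.ofNat 0, Int.ofNat 0, Int.ofNat 0, Int.ofNat 2, Int.ofNat 0, Int.negSucc 1],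
  [Int.ofNat 0, Int.ofNat 0, Int.ofNat 0, Int.ofNat 0, Int.ofNat 0, Int.ofNat 0, Int.ofNat 0, Int.ofNat 2, Int.negSucc 1, Int.ofNat 0, Int.ofNat 0, Int.negSucc 1, Int.negSucc 1, Int.ofNat 0, Int.ofNat 2, Int.ofNat 2, Int.ofNat 0, Int.ofNat 0, Int.ofNat 0, Int.ofNat 0, Int.ofNat 0, Int.ofNat 0, Int.ofNat 2, Int.negSucc 1],
  [Int.negSucc 0, Int.negSucc 0, Int.negSucc 0, Int.negSucc 0, Int.negSucc 0, Int.negSucc 0, Int.negSucc 0, Int.ofNat 1, Int.ofNat 1, Int.negSucc 0, Int.negSucc 0, Int.ofNat 1, Int.ofNat 1, Int.negSucc 0, Int.ofNat 1, Int.ofNat 1, Int.negSucc 0, Int.negSucc 0, Int.ofNat 3, Int.negSucc 0, Int.negSucc 0, Int.negSucc 0, Int.ofNat 1, Int.ofNat 1],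
  [Int.negSucc 0, Int.negSucc 0, Int.negSucc 0, Int.negSucc 0, Int.ofNat 1, Int.ofNat 1, Int.negSucc 0, Int.negSucc 0, Int.ofNat 1, Int.ofNat 1, Int.negSucc 0, Int.ofNat 1, Int.ofNat 1, Int.negSucc 0, Int.negSucc 0, Int.ofNat 3, Int.negSucc 0, Int.negSucc 0, Int.negSucc 0, Int.ofNat 1, Int.negSucc 0, Int.negSucc 0, Int.negSucc 0, Int.ofNat 1],
  [Int.ofNat 0, Int.ofNat 0, Int.ofNat 0, Int.ofNat 0, Int.ofNat 2, Int.ofNat 2, Int.ofNat 0, Int.ofNat 0, Int.ofNat 0, Int.ofNat 0, Int.negSucc 1, Int.ofNat 0, Int.ofNat 0, Int.ofNat 0, Int.ofNat 0, Int.ofNat 2, Int.ofNat 0, Int.ofNat 0, Int.negSucc 1, Int.ofNat 2, Int.negSucc 1, Int.ofNat 0, Int.ofNat 0, Int.negSucc 1],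
  [Int.ofNat 0, Int.ofNat 0, Int.ofNat 2, Int.ofNat 0, Int.negSucc 1, Int.ofNat 0, Int.ofNat 0, Int.negSucc 1, Int.ofNat 0, Int.ofNat 0, Int.negSucc 1, Int.ofNat 0, Int.ofNat 0, Int.ofNat 0, Int.ofNat 0, Int.ofNat 2, Int.ofNat 0, Int.ofNat 0, Int.ofNat 0, Int.ofNat 0, Int.ofNat 0, Int.ofNat 2, Int.ofNat 2, Int.negSucc 1],
  [Int.ofNat 0, Int.ofNat 0, Int.negSucc 1, Int.ofNat 0, Int.negSucc 1, Int.ofNat 0, Int.ofNat 0, Int.negSucc 1, Int.ofNat 0, Int.ofNat 0, Int.negSucc 1, Int.ofNat 0, Int.ofNat 0, Int.ofNat 0, Int.ofNat 0, Int.ofNat 2, Int.ofNat 0, Int.ofNat 0, Int.ofNat 0, Int.ofNat 0, Int.ofNat 0, Int.ofNat 2, Int.ofNat 2, Int.ofNat 2],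
  [Int.ofNat 0, Int.ofNat 0, Int.ofNat 2, Int.ofNat 0, Int.negSucc 1, Int.ofNat 0, Int.ofNat 0, Int.negSucc 1, Int.ofNat 0, Int.ofNat 0, Int.ofNat 2, Int.ofNat 0, Int.ofNat 0, Int.ofNat 0, Int.ofNat 0, Int.negSucc 1, Int.ofNat 0, Int.ofNat 0, Int.ofNat 0, Int.ofNat 0, Int.ofNat 0, Int.ofNat 2, Int.negSucc 1, Int.ofNat 2],
  [Int.ofNat 2, Int.ofNat 0, Int.ofNat 0, Int.ofNat 0, Int.ofNat 0, Int.ofNat 0, Int.ofNat 2, Int.ofNat 0, Int.ofNat 0, Int.ofNat 0, Int.ofNat 0, Int.negSucc 1, Int.negSucc 1, Int.negSucc 1, Int.ofNat 0, Int.ofNat 0, Int.ofNat 0, Int.ofNat 0, Int.ofNat 0, Int.ofNat 2, Int.ofNat 0, Int.ofNat 0, Int.negSucc 1, Int.ofNat 2],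
  [Int.negSucc 1, Int.ofNat 0, Int.ofNat 0, Int.ofNat 0, Int.ofNat 0, Int.ofNat 0, Int.negSucc 1, Int.ofNat 0, Int.ofNat 0, Int.ofNat 0, Int.ofNat 0, Int.negSucc 1, Int.ofNat 2, Int.ofNat 2, Int.ofNat 0, Int.ofNat 0, Int.ofNat 0, Int.ofNat 0, Int.ofNat 0, Int.ofNat 2, Int.ofNat 0, Int.ofNat 0, Int.negSucc 1, Int.ofNat 2],
  [Int.ofNat 2, Int.negSucc 1, Int.negSucc 1, Int.ofNat 0, Int.ofNat 0, Int.ofNat 0, Int.ofNat 2, Int.ofNat 2, Int.ofNat 0, Int.ofNat 0, Int.ofNat 0, Int.ofNat 0, Int.ofNat 0, Int.ofNat 0, Int.ofNat 0, Int.ofNat 0, Int.ofNat 0, Int.ofNat 0, Int.ofNat 0, Int.negSucc 1, Int.ofNat 0, Int.ofNat 2, Int.ofNat 0, Int.negSucc 1],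
  [Int.negSucc 1, Int.negSucc 1, Int.ofNat 2, Int.ofNat 0, Int.ofNat 0, Int.ofNat 0, Int.ofNat 2, Int.negSucc 1, Int.ofNat 0, Int.ofNat 0, Int.ofNat 0, Int.ofNat 0, Int.ofNat 0, Int.ofNat 0, Int.ofNat 0, Int.ofNat 0, Int.ofNat 0, Int.ofNat 0, Int.ofNat 0, Int.negSucc 1, Int.ofNat 0, Int.negSucc 1, Int.ofNat 0, Int.negSucc 1],
  [Int.ofNat 0, Int.negSucc 1, Int.negSucc 1, Int.ofNat 2, Int.ofNat 0, Int.ofNat 0, Int.ofNat 0, Int.ofNat 2, Int.negSucc 1, Int.ofNat 0, Int.ofNat 0, Int.ofNat 0, Int.ofNat 0, Int.ofNat 0, Int.ofNat 0, Int.ofNat 0, Int.ofNat 0, Int.ofNat 0, Int.ofNat 0, Int.ofNat 0, Int.negSucc 1, Int.ofNat 0, Int.negSucc 1, Int.negSucc 1],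
  [Int.negSucc 2, Int.negSucc 0, Int.negSucc 0, Int.ofNat 1, Int.ofNat 1, Int.negSucc 0, Int.negSucc 0, Int.ofNat 1, Int.negSucc 0, Int.ofNat 1, Int.ofNat 1, Int.ofNat 1, Int.ofNat 1, Int.ofNat 1, Int.negSucc 0, Int.ofNat 1, Int.ofNat 1, Int.negSucc 0, Int.ofNat 1, Int.negSucc 0, Int.negSucc 0, Int.negSucc 0, Int.negSucc 0, Int.negSucc 0],
  [Int.ofNat 1, Int.ofNat 1, Int.negSucc 0, Int.negSucc 0, Int.ofNat 1, Int.negSucc 0, Int.ofNat 1, Int.ofNat 1, Int.ofNat 1, Int.ofNat 1, Int.ofNat 1, Int.negSucc 0, Int.ofNat 1, Int.ofNat 1, Int.negSucc 0, Int.ofNat 1, Int.negSucc 0, Int.negSucc 0, Int.negSucc 0, Int.negSucc 0, Int.negSucc 2, Int.negSucc 0, Int.negSucc 0, Int.negSucc 0],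
  [Int.negSucc 0, Int.negSucc 0, Int.ofNat 1, Int.ofNat 1, Int.ofNat 1, Int.ofNat 1, Int.ofNat 1, Int.ofNat 1, Int.ofNat 1, Int.ofNat 1, Int.ofNat 1, Int.negSucc 0, Int.ofNat 1, Int.ofNat 1, Int.ofNat 1, Int.ofNat 1, Int.negSucc 0, Int.ofNat 1, Int.negSucc 0, Int.negSucc 0, Int.negSucc 2, Int.negSucc 0, Int.negSucc 0, Int.ofNat 1],
  [Int.negSucc 0, Int.ofNat 1, Int.ofNat 1, Int.ofNat 1, Int.negSucc 0, Int.ofNat 1, Int.ofNat 1, Int.ofNat 1, Int.ofNat 1, Int.ofNat 1, Int.negSucc 2, Int.ofNat 1, Int.ofNat 1, Int.negSucc 0, Int.negSucc 0, Int.ofNat 1, Int.ofNat 1, Int.ofNat 1, Int.negSucc 0, Int.negSucc 0, Int.negSucc 0, Int.ofNat 1, Int.negSucc 0, Int.ofNat 1],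
  [Int.ofNat 2, Int.ofNat 0, Int.ofNat 0, Int.ofNat 0, Int.ofNat 0, Int.ofNat 0, Int.ofNat 0, Int.ofNat 0, Int.ofNat 0, Int.ofNat 2, Int.negSucc 1, Int.ofNat 0, Int.ofNat 0, Int.ofNat 0, Int.negSucc 1, Int.ofNat 2, Int.ofNat 2, Int.ofNat 0, Int.negSucc 1, Int.negSucc 1, Int.ofNat 0, Int.ofNat 0, Int.ofNat 0, Int.ofNat 0],
  [Int.ofNat 2, Int.ofNat 0, Int.ofNat 0, Int.ofNat 0, Int.ofNat 0, Int.ofNat 0, Int.ofNat 0, Int.ofNat 0, Int.ofNat 0, Int.negSucc 1, Int.ofNat 2, Int.ofNat 0, Int.ofNat 0, Int.ofNat 0, Int.negSucc 1, Int.negSucc 1, Int.ofNat 2, Int.ofNat 0, Int.ofNat 2, Int.negSucc 1, Int.ofNat 0, Int.ofNat 0, Int.ofNat 0, Int.ofNat 0],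
  [Int.ofNat 0, Int.ofNat 0, Int.negSucc 1, Int.ofNat 2, Int.ofNat 0, Int.negSucc 1, Int.ofNat 0, Int.ofNat 0, Int.ofNat 0, Int.ofNat 0, Int.ofNat 0, Int.ofNat 0, Int.ofNat 0, Int.negSucc 1, Int.negSucc 1, Int.ofNat 2, Int.ofNat 0, Int.ofNat 0, Int.ofNat 2, Int.ofNat 2, Int.ofNat 0, Int.ofNat 0, Int.ofNat 0, Int.ofNat 0],
  [Int.ofNat 0, Int.ofNat 0, Int.ofNat 2, Int.ofNat 2, Int.ofNat 0, Int.ofNat 2, Int.ofNat 0, Int.ofNat 0, Int.ofNat 0, Int.ofNat 0, Int.ofNat 0, Int.ofNat 0, Int.ofNat 0, Int.negSucc 1, Int.negSucc 1, Int.negSucc 1, Int.ofNat 0, Int.ofNat 0, Int.negSucc 1, Int.ofNat 2, Int.ofNat 0, Int.ofNat 0, Int.ofNat 0, Int.ofNat 0],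
  [Int.ofNat 1, Int.ofNat 1, Int.negSucc 0, Int.ofNat 1, Int.ofNat 1, Int.ofNat 1, Int.negSucc 0, Int.negSucc 0, Int.ofNat 1, Int.ofNat 1, Int.ofNat 1, Int.ofNat 1, Int.ofNat 1, Int.negSucc 0, Int.negSucc 2, Int.negSucc 0, Int.ofNat 1, Int.negSucc 0, Int.negSucc 0, Int.ofNat 1, Int.ofNat 1, Int.negSucc 0, Int.ofNat 1, Int.ofNat 1],
  [Int.ofNat 1, Int.negSucc 0, Int.negSucc 0, Int.ofNat 1, Int.negSucc 0, Int.negSucc 0, Int.ofNat 1, Int.ofNat 1, Int.ofNat 1, Int.ofNat 1, Int.negSucc 0, Int.ofNat 1, Int.ofNat 1, Int.ofNat 1, Int.negSucc 0, Int.negSucc 0, Int.negSucc 0, Int.ofNat 1, Int.ofNat 1, Int.ofNat 1, Int.ofNat 1, Int.ofNat 1, Int.negSucc 2, Int.ofNat 1],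
  [Int.negSucc 0, Int.ofNat 1, Int.ofNat 1, Int.ofNat 1, Int.ofNat 1, Int.negSucc 0, Int.negSucc 0, Int.negSucc 0, Int.negSucc 0, Int.ofNat 1, Int.negSucc 0, Int.negSucc 0, Int.negSucc 0, Int.ofNat 3, Int.negSucc 0, Int.negSucc 0, Int.ofNat 1, Int.ofNat 1, Int.negSucc 0, Int.negSucc 0, Int.ofNat 1, Int.negSucc 0, Int.negSucc 0, Int.negSucc 0],
  [Int.ofNat 1, Int.negSucc 0, Int.negSucc 0, Int.negSucc 0, Int.ofNat 1, Int.ofNat 1, Int.ofNat 1, Int.ofNat 1, Int.negSucc 0, Int.negSucc 0, Int.negSucc 0, Int.negSucc 0, Int.ofNat 1, Int.negSucc 0, Int.negSucc 0, Int.negSucc 0, Int.ofNat 3, Int.negSucc 0, Int.negSucc 0, Int.ofNat 1, Int.ofNat 1, Int.negSucc 0, Int.negSucc 0, Int.negSucc 0],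
  [Int.negSucc 1, Int.ofNat 0, Int.ofNat 0, Int.ofNat 0, Int.ofNat 0, Int.ofNat 2, Int.ofNat 0, Int.ofNat 0, Int.ofNat 0, Int.ofNat 0, Int.ofNat 0, Int.ofNat 0, Int.ofNat 2, Int.negSucc 1, Int.ofNat 0, Int.ofNat 0, Int.ofNat 2, Int.ofNat 0, Int.ofNat 0, Int.ofNat 0, Int.ofNat 2, Int.negSucc 1, Int.negSucc 1, Int.ofNat 0],
  [Int.ofNat 0, Int.ofNat 0, Int.ofNat 0, Int.ofNat 0, Int.ofNat 2, Int.ofNat 0, Int.ofNat 0, Int.ofNat 0, Int.ofNat 0, Int.ofNat 0, Int.ofNat 0, Int.ofNat 2, Int.negSucc 1, Int.ofNat 0, Int.ofNat 0, Int.ofNat 2, Int.ofNat 0, Int.ofNat 0, Int.ofNat 0, Int.ofNat 2, Int.negSucc 1, Int.negSucc 1, Int.negSucc 1, Int.ofNat 0],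
  [Int.ofNat 0, Int.ofNat 0, Int.ofNat 0, Int.ofNat 0, Int.ofNat 2, Int.ofNat 0, Int.ofNat 0, Int.ofNat 0, Int.ofNat 0, Int.ofNat 0, Int.ofNat 0, Int.negSucc 1, Int.negSucc 1, Int.ofNat 0, Int.ofNat 0, Int.ofNat 2, Int.ofNat 0, Int.ofNat 0, Int.ofNat 0, Int.ofNat 2, Int.negSucc 1, Int.ofNat 2, Int.negSucc 1, Int.ofNat 0]]

set_option maxRecDepth 100000 in
theorem c1et7_chk : pmChk (List.replicate 14 [7, 0, 25, 26]).flatten nxL c1et7M 0 0 = true := by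
  decide +kernel

theorem c1et7_ne : wE letE2 (List.replicate 14 [7, 0, 25, 26]).flatten ≠ 1 ∧ wE letE2 (List.replicate 14 [7, 0, 25, 26]).flatten ≠ negElt :=
  ne_pm_of_chk nxL_mem c1et7_chk

set_option maxRecDepth 100000 in
def c1et8M : List (List ℤ) :=
  [[Int.negSucc 3, Int.ofNat 0, Int.ofNat 0, Int.ofNat 0, Int.ofNat 0, Int.ofNat 0, Int.ofNat 0, Int.ofNat 0, Int.ofNat 0, Int.ofNat 0, Int.ofNat 0, Int.ofNat 0, Int.ofNat 0, Int.ofNat 0, Int.ofNat 0, Int.ofNat 0, Int.ofNat 0, Int.ofNat 0, Int.ofNat 0, Int.ofNat 0, Int.ofNat 0, Int.ofNat 0, Int.ofNat 0, Int.ofNat 4],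
  [Int.ofNat 4, Int.ofNat 0, Int.ofNat 0, Int.ofNat 0, Int.ofNat 0, Int.ofNat 0, Int.ofNat 0, Int.ofNat 0, Int.ofNat 0, Int.ofNat 0, Int.ofNat 0, Int.ofNat 0, Int.ofNat 0, Int.ofNat 0, Int.ofNat 0, Int.ofNat 0, Int.ofNat 0, Int.ofNat 0, Int.ofNat 0, Int.ofNat 0, Int.ofNat 0, Int.ofNat 0, Int.ofNat 0, Int.ofNat 4],
  [Int.ofNat 0, Int.ofNat 4, Int.ofNat 0, Int.ofNat 0, Int.ofNat 0, Int.ofNat 0, Int.ofNat 0, Int.ofNat 0, Int.ofNat 0, Int.ofNat 0, Int.ofNat 0, Int.ofNat 0, Int.ofNat 0, Int.ofNat 0, Int.ofNat 0, Int.ofNat 0, Int.ofNat 0, Int.ofNat 0, Int.ofNat 0, Int.ofNat 0, Int.ofNat 0, Int.ofNat 0, Int.ofNat 0, Int.ofNat 4],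
  [Int.ofNat 4, Int.ofNat 0, Int.ofNat 4, Int.ofNat 0, Int.ofNat 0, Int.ofNat 0, Int.ofNat 0, Int.ofNat 0, Int.ofNat 0, Int.ofNat 0, Int.ofNat 0, Int.ofNat 0, Int.ofNat 0, Int.ofNat 0, Int.ofNat 0, Int.ofNat 0, Int.ofNat 0, Int.ofNat 0, Int.ofNat 0, Int.ofNat 0, Int.ofNat 0, Int.ofNat 0, Int.ofNat 0, Int.ofNat 0],
  [Int.ofNat 0, Int.ofNat 0, Int.ofNat 0, Int.ofNat 0, Int.ofNat 0, Int.ofNat 0, Int.ofNat 0, Int.ofNat 0, Int.ofNat 0, Int.ofNat 0, Int.ofNat 0, Int.ofNat 0, Int.ofNat 0, Int.ofNat 0, Int.ofNat 0, Int.ofNat 0, Int.ofNat 0, Int.ofNat 0, Int.ofNat 0, Int.ofNat 0, Int.ofNat 4, Int.ofNat 0, Int.ofNat 4, Int.ofNat 0],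
  [Int.ofNat 0, Int.ofNat 0, Int.ofNat 0, Int.ofNat 0, Int.negSucc 1, Int.ofNat 0, Int.ofNat 0, Int.ofNat 0, Int.ofNat 0, Int.negSucc 1, Int.negSucc 1, Int.ofNat 0, Int.ofNat 0, Int.negSucc 1, Int.ofNat 0, Int.negSucc 1, Int.negSucc 1, Int.ofNat 0, Int.ofNat 0, Int.ofNat 0, Int.ofNat 2, Int.ofNat 0, Int.ofNat 2, Int.ofNat 0],
  [Int.ofNat 0, Int.ofNat 0, Int.negSucc 1, Int.ofNat 0, Int.ofNat 0, Int.ofNat 0, Int.ofNat 0, Int.negSucc 1, Int.ofNat 0, Int.negSucc 1, Int.ofNat 2, Int.ofNat 0, Int.negSucc 1, Int.negSucc 1, Int.ofNat 2, Int.negSucc 1, Int.ofNat 0, Int.ofNat 0, Int.ofNat 0, Int.ofNat 0, Int.ofNat 0, Int.ofNat 0, Int.ofNat 0, Int.ofNat 0],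
  [Int.negSucc 0, Int.negSucc 0, Int.ofNat 1, Int.negSucc 0, Int.ofNat 1, Int.negSucc 0, Int.ofNat 1, Int.negSucc 0, Int.ofNat 1, Int.negSucc 0, Int.ofNat 3, Int.ofNat 1, Int.negSucc 0, Int.negSucc 0, Int.ofNat 1, Int.negSucc 0, Int.ofNat 1, Int.negSucc 0, Int.ofNat 1, Int.ofNat 1, Int.ofNat 1, Int.ofNat 1, Int.ofNat 1, Int.negSucc 0],
  [Int.negSucc 0, Int.negSucc 0, Int.negSucc 0, Int.negSucc 0, Int.ofNat 1, Int.ofNat 1, Int.negSucc 0, Int.negSucc 0, Int.ofNat 1, Int.ofNat 1, Int.negSucc 2, Int.ofNat 1, Int.negSucc 0, Int.negSucc 0, Int.ofNat 1, Int.ofNat 1, Int.ofNat 1, Int.negSucc 0, Int.negSucc 0, Int.ofNat 1, Int.ofNat 1, Int.ofNat 1, Int.negSucc 0, Int.negSucc 0],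
  [Int.negSucc 2, Int.ofNat 1, Int.ofNat 1, Int.ofNat 1, Int.ofNat 1, Int.negSucc 0, Int.ofNat 1, Int.negSucc 0, Int.ofNat 1, Int.ofNat 1, Int.negSucc 0, Int.negSucc 0, Int.ofNat 1, Int.ofNat 1, Int.negSucc 0, Int.negSucc 0, Int.ofNat 1, Int.negSucc 0, Int.ofNat 1, Int.negSucc 0, Int.negSucc 0, Int.negSucc 0, Int.negSucc 0, Int.negSucc 0],
  [Int.ofNat 3, Int.negSucc 0, Int.negSucc 0, Int.negSucc 0, Int.negSucc 0, Int.negSucc 0, Int.negSucc 0, Int.negSucc 0, Int.negSucc 0, Int.negSucc 0, Int.negSucc 0, Int.negSucc 0, Int.negSucc 0, Int.negSucc 0, Int.negSucc 0, Int.negSucc 0, Int.negSucc 0, Int.negSucc 0, Int.negSucc 0, Int.negSucc 0, Int.negSucc 0, Int.negSucc 0, Int.negSucc 0, Int.negSucc 0],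
  [Int.negSucc 0, Int.negSucc 0, Int.negSucc 0, Int.negSucc 0, Int.negSucc 0, Int.negSucc 0, Int.negSucc 0, Int.negSucc 0, Int.negSucc 0, Int.negSucc 0, Int.negSucc 0, Int.negSucc 0, Int.negSucc 0, Int.negSucc 0, Int.negSucc 0, Int.negSucc 0, Int.negSucc 0, Int.negSucc 0, Int.negSucc 0, Int.negSucc 0, Int.negSucc 0, Int.negSucc 0, Int.negSucc 0, Int.ofNat 3],
  [Int.ofNat 1, Int.negSucc 0, Int.ofNat 1, Int.negSucc 0, Int.negSucc 0, Int.negSucc 0, Int.negSucc 0, Int.ofNat 1, Int.negSucc 0, Int.ofNat 1, Int.ofNat 1, Int.ofNat 1, Int.negSucc 0, Int.negSucc 0, Int.negSucc 0, Int.negSucc 0, Int.negSucc 0, Int.negSucc 0, Int.ofNat 1, Int.negSucc 0, Int.negSucc 0, Int.ofNat 1, Int.negSucc 0, Int.ofNat 3],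
  [Int.negSucc 0, Int.ofNat 1, Int.negSucc 0, Int.ofNat 1, Int.negSucc 0, Int.negSucc 0, Int.negSucc 0, Int.negSucc 0, Int.ofNat 1, Int.negSucc 0, Int.ofNat 1, Int.ofNat 1, Int.ofNat 1, Int.negSucc 0, Int.negSucc 0, Int.negSucc 0, Int.negSucc 0, Int.negSucc 0, Int.negSucc 0, Int.ofNat 1, Int.negSucc 0, Int.negSucc 0, Int.ofNat 1, Int.ofNat 3],
  [Int.ofNat 2, Int.ofNat 0, Int.ofNat 2, Int.ofNat 2, Int.ofNat 0, Int.ofNat 0, Int.ofNat 0, Int.ofNat 0, Int.ofNat 0, Int.ofNat 0, Int.ofNat 2, Int.ofNat 0, Int.ofNat 0, Int.ofNat 0, Int.ofNat 0, Int.ofNat 0, Int.ofNat 0, Int.ofNat 0, Int.negSucc 1, Int.ofNat 2, Int.ofNat 0, Int.ofNat 0, Int.ofNat 2, Int.negSucc 1],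
  [Int.ofNat 2, Int.ofNat 0, Int.ofNat 0, Int.ofNat 0, Int.ofNat 0, Int.ofNat 0, Int.ofNat 0, Int.ofNat 2, Int.ofNat 0, Int.ofNat 0, Int.ofNat 0, Int.ofNat 0, Int.ofNat 0, Int.ofNat 0, Int.ofNat 0, Int.negSucc 1, Int.ofNat 2, Int.ofNat 0, Int.ofNat 0, Int.ofNat 2, Int.ofNat 2, Int.ofNat 0, Int.ofNat 2, Int.negSucc 1],
  [Int.negSucc 1, Int.ofNat 0, Int.ofNat 0, Int.ofNat 0, Int.negSucc 1, Int.ofNat 0, Int.negSucc 1, Int.ofNat 0, Int.ofNat 0, Int.ofNat 0, Int.ofNat 0, Int.ofNat 0, Int.ofNat 0, Int.negSucc 1, Int.ofNat 0, Int.negSucc 1, Int.ofNat 0, Int.ofNat 0, Int.ofNat 0, Int.ofNat 0, Int.ofNat 2, Int.negSucc 1, Int.ofNat 0, Int.ofNat 2],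
  [Int.negSucc 1, Int.negSucc 1, Int.negSucc 1, Int.ofNat 0, Int.ofNat 0, Int.ofNat 0, Int.ofNat 0, Int.ofNat 0, Int.ofNat 0, Int.negSucc 1, Int.ofNat 2, Int.ofNat 0, Int.ofNat 0, Int.ofNat 0, Int.ofNat 0, Int.negSucc 1, Int.ofNat 0, Int.ofNat 0, Int.ofNat 0, Int.ofNat 0, Int.negSucc 1, Int.ofNat 0, Int.ofNat 0, Int.ofNat 2],
  [Int.ofNat 0, Int.ofNat 0, Int.ofNat 0, Int.ofNat 0, Int.ofNat 0, Int.ofNat 0, Int.ofNat 0, Int.ofNat 0, Int.ofNat 0, Int.ofNat 0, Int.ofNat 4, Int.ofNat 0, Int.ofNat 0, Int.ofNat 0, Int.ofNat 0, Int.ofNat 0, Int.ofNat 0, Int.ofNat 0, Int.ofNat 0, Int.ofNat 0, Int.ofNat 0, Int.ofNat 0, Int.ofNat 0, Int.negSucc 3],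
  [Int.ofNat 0, Int.ofNat 0, Int.ofNat 0, Int.ofNat 0, Int.ofNat 0, Int.ofNat 0, Int.ofNat 0, Int.ofNat 0, Int.ofNat 0, Int.ofNat 0, Int.negSucc 3, Int.ofNat 0, Int.ofNat 0, Int.ofNat 0, Int.ofNat 0, Int.ofNat 0, Int.ofNat 0, Int.ofNat 0, Int.ofNat 0, Int.ofNat 0, Int.ofNat 0, Int.ofNat 0, Int.ofNat 0, Int.negSucc 3],
  [Int.ofNat 0, Int.ofNat 0, Int.ofNat 0, Int.ofNat 0, Int.ofNat 0, Int.ofNat 0, Int.ofNat 0, Int.ofNat 0, Int.ofNat 0, Int.ofNat 0, Int.ofNat 0, Int.ofNat 0, Int.ofNat 0, Int.ofNat 0, Int.negSucc 3, Int.ofNat 0, Int.ofNat 0, Int.ofNat 0, Int.ofNat 0, Int.ofNat 0, Int.ofNat 0, Int.ofNat 0, Int.ofNat 0, Int.negSucc 3],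
  [Int.ofNat 0, Int.ofNat 0, Int.ofNat 0, Int.ofNat 0, Int.ofNat 0, Int.ofNat 0, Int.ofNat 0, Int.ofNat 0, Int.ofNat 0, Int.ofNat 0, Int.ofNat 0, Int.ofNat 0, Int.ofNat 0, Int.ofNat 0, Int.negSucc 3, Int.ofNat 0, Int.ofNat 0, Int.ofNat 0, Int.ofNat 0, Int.ofNat 0, Int.ofNat 0, Int.ofNat 0, Int.ofNat 0, Int.negSucc 3],
  [Int.negSucc 1, Int.negSucc 1, Int.negSucc 1, Int.ofNat 2, Int.ofNat 0, Int.ofNat 2, Int.ofNat 0, Int.ofNat 0, Int.ofNat 0, Int.ofNat 0, Int.ofNat 0, Int.ofNat 0, Int.ofNat 0, Int.ofNat 0, Int.negSucc 1, Int.ofNat 0, Int.ofNat 0, Int.ofNat 2, Int.ofNat 0, Int.ofNat 0, Int.ofNat 0, Int.ofNat 0, Int.ofNat 0, Int.ofNat 2],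
  [Int.negSucc 1, Int.ofNat 0, Int.ofNat 0, Int.ofNat 2, Int.negSucc 1, Int.ofNat 0, Int.negSucc 1, Int.ofNat 2, Int.ofNat 0, Int.ofNat 0, Int.ofNat 0, Int.ofNat 0, Int.ofNat 0, Int.ofNat 0, Int.ofNat 2, Int.ofNat 0, Int.ofNat 0, Int.ofNat 0, Int.ofNat 0, Int.ofNat 0, Int.ofNat 0, Int.ofNat 0, Int.negSucc 1, Int.ofNat 2],
  [Int.ofNat 2, Int.ofNat 0, Int.ofNat 0, Int.ofNat 0, Int.ofNat 0, Int.negSucc 1, Int.negSucc 1, Int.ofNat 2, Int.ofNat 0, Int.ofNat 0, Int.ofNat 0, Int.ofNat 0, Int.ofNat 0, Int.ofNat 2, Int.ofNat 0, Int.ofNat 0, Int.ofNat 2, Int.negSucc 1, Int.ofNat 0, Int.ofNat 0, Int.ofNat 0, Int.ofNat 0, Int.ofNat 0, Int.negSucc 1],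
  [Int.ofNat 0, Int.ofNat 0, Int.ofNat 0, Int.ofNat 2, Int.ofNat 0, Int.ofNat 0, Int.ofNat 0, Int.ofNat 0, Int.negSucc 1, Int.negSucc 1, Int.ofNat 2, Int.ofNat 0, Int.ofNat 0, Int.ofNat 0, Int.ofNat 0, Int.ofNat 0, Int.ofNat 2, Int.ofNat 0, Int.ofNat 0, Int.ofNat 2, Int.negSucc 1, Int.ofNat 0, Int.ofNat 0, Int.negSucc 1],
  [Int.negSucc 0, Int.negSucc 0, Int.negSucc 0, Int.ofNat 1, Int.negSucc 0, Int.negSucc 0, Int.negSucc 0, Int.negSucc 0, Int.negSucc 0, Int.negSucc 0, Int.ofNat 3, Int.ofNat 1, Int.ofNat 1, Int.negSucc 0, Int.negSucc 0, Int.ofNat 1, Int.ofNat 1, Int.negSucc 0, Int.ofNat 1, Int.ofNat 1, Int.negSucc 0, Int.negSucc 0, Int.negSucc 0, Int.ofNat 1],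
  [Int.negSucc 0, Int.negSucc 0, Int.ofNat 1, Int.negSucc 0, Int.negSucc 0, Int.negSucc 0, Int.negSucc 0, Int.negSucc 0, Int.negSucc 0, Int.ofNat 3, Int.ofNat 1, Int.ofNat 1, Int.negSucc 0, Int.negSucc 0, Int.ofNat 1, Int.ofNat 1, Int.negSucc 0, Int.ofNat 1, Int.ofNat 1, Int.negSucc 0, Int.negSucc 0, Int.negSucc 0, Int.negSucc 0, Int.ofNat 1],
  [Int.ofNat 1, Int.negSucc 0, Int.negSucc 0, Int.negSucc 0, Int.negSucc 0, Int.negSucc 0, Int.negSucc 0, Int.ofNat 1, Int.negSucc 0, Int.negSucc 2, Int.negSucc 0, Int.negSucc 0, Int.negSucc 0, Int.negSucc 0, Int.ofNat 1, Int.ofNat 1, Int.negSucc 0, Int.ofNat 1, Int.negSucc 0, Int.negSucc 0, Int.negSucc 0, Int.ofNat 1, Int.negSucc 0, Int.ofNat 1],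
  [Int.ofNat 1, Int.negSucc 0, Int.negSucc 0, Int.negSucc 0, Int.negSucc 0, Int.negSucc 0, Int.negSucc 0, Int.negSucc 0, Int.negSucc 2, Int.negSucc 0, Int.ofNat 1, Int.ofNat 1, Int.negSucc 0, Int.negSucc 0, Int.negSucc 0, Int.ofNat 1, Int.negSucc 0, Int.negSucc 0, Int.negSucc 0, Int.ofNat 1, Int.negSucc 0, Int.ofNat 1, Int.negSucc 0, Int.ofNat 1],
  [Int.negSucc 0, Int.negSucc 0, Int.ofNat 1, Int.negSucc 0, Int.negSucc 0, Int.negSucc 0, Int.negSucc 0, Int.ofNat 1, Int.negSucc 2, Int.ofNat 1, Int.negSucc 0, Int.negSucc 0, Int.negSucc 0, Int.negSucc 0, Int.negSucc 0, Int.ofNat 1, Int.negSucc 0, Int.negSucc 0, Int.ofNat 1, Int.ofNat 1, Int.negSucc 0, Int.negSucc 0, Int.negSucc 0, Int.ofNat 1],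
  [Int.negSucc 0, Int.negSucc 0, Int.negSucc 0, Int.ofNat 1, Int.negSucc 0, Int.negSucc 0, Int.negSucc 0, Int.negSucc 0, Int.ofNat 1, Int.negSucc 2, Int.ofNat 1, Int.negSucc 0, Int.negSucc 0, Int.negSucc 0, Int.negSucc 0, Int.negSucc 0, Int.ofNat 1, Int.negSucc 0, Int.negSucc 0, Int.ofNat 1, Int.ofNat 1, Int.negSucc 0, Int.negSucc 0, Int.ofNat 1],
  [Int.ofNat 0, Int.ofNat 0, Int.ofNat 0, Int.ofNat 2, Int.ofNat 0, Int.ofNat 0, Int.ofNat 0, Int.ofNat 0, Int.ofNat 2, Int.negSucc 1, Int.ofNat 2, Int.ofNat 0, Int.ofNat 0, Int.ofNat 0, Int.ofNat 0, Int.ofNat 0, Int.ofNat 2, Int.ofNat 0, Int.ofNat 0, Int.ofNat 2, Int.ofNat 2, Int.ofNat 0, Int.ofNat 0, Int.negSucc 1],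
  [Int.ofNat 2, Int.ofNat 0, Int.ofNat 0, Int.ofNat 0, Int.ofNat 0, Int.ofNat 2, Int.negSucc 1, Int.ofNat 2, Int.ofNat 0, Int.ofNat 0, Int.ofNat 0, Int.ofNat 0, Int.ofNat 0, Int.ofNat 2, Int.ofNat 0, Int.ofNat 0, Int.ofNat 2, Int.ofNat 2, Int.ofNat 0, Int.ofNat 0, Int.ofNat 0, Int.ofNat 0, Int.ofNat 0, Int.negSucc 1],
  [Int.negSucc 1, Int.ofNat 0, Int.ofNat 0, Int.negSucc 1, Int.negSucc 1, Int.ofNat 0, Int.negSucc 1, Int.ofNat 2, Int.ofNat 0, Int.ofNat 0, Int.ofNat 0, Int.ofNat 0, Int.ofNat 0, Int.ofNat 0, Int.negSucc 1, Int.ofNat 0, Int.ofNat 0, Int.ofNat 0, Int.ofNat 0, Int.ofNat 0, Int.ofNat 0, Int.ofNat 0, Int.negSucc 1, Int.ofNat 2],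
  [Int.negSucc 1, Int.negSucc 1, Int.negSucc 1, Int.negSucc 1, Int.ofNat 0, Int.ofNat 2, Int.ofNat 0, Int.ofNat 0, Int.ofNat 0, Int.ofNat 0, Int.ofNat 0, Int.ofNat 0, Int.ofNat 0, Int.ofNat 0, Int.negSucc 1, Int.ofNat 0, Int.ofNat 0, Int.negSucc 1, Int.ofNat 0, Int.ofNat 0, Int.ofNat 0, Int.ofNat 0, Int.ofNat 0, Int.ofNat 2],
  [Int.ofNat 0, Int.ofNat 0, Int.ofNat 0, Int.ofNat 0, Int.ofNat 0, Int.ofNat 4, Int.ofNat 0, Int.ofNat 0, Int.ofNat 0, Int.ofNat 0, Int.ofNat 0, Int.ofNat 0, Int.ofNat 0, Int.ofNat 0, Int.ofNat 0, Int.ofNat 0, Int.ofNat 0, Int.ofNat 0, Int.ofNat 0, Int.ofNat 0, Int.ofNat 0, Int.ofNat 0, Int.ofNat 0, Int.negSucc 3],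
  [Int.ofNat 0, Int.ofNat 0, Int.ofNat 0, Int.ofNat 0, Int.ofNat 0, Int.negSucc 3, Int.ofNat 0, Int.ofNat 0, Int.ofNat 0, Int.ofNat 0, Int.ofNat 0, Int.ofNat 0, Int.ofNat 0, Int.ofNat 0, Int.ofNat 0, Int.ofNat 0, Int.ofNat 0, Int.ofNat 0, Int.ofNat 0, Int.ofNat 0, Int.ofNat 0, Int.ofNat 0, Int.ofNat 0, Int.negSucc 3],
  [Int.ofNat 0, Int.ofNat 0, Int.ofNat 0, Int.ofNat 0, Int.ofNat 0, Int.ofNat 0, Int.ofNat 0, Int.ofNat 0, Int.negSucc 3, Int.ofNat 0, Int.ofNat 0, Int.ofNat 0, Int.ofNat 0, Int.ofNat 0, Int.ofNat 0, Int.ofNat 0, Int.ofNat 0, Int.ofNat 0, Int.ofNat 0, Int.ofNat 0, Int.ofNat 0, Int.ofNat 0, Int.ofNat 0, Int.negSucc 3],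
  [Int.ofNat 0, Int.ofNat 0, Int.ofNat 0, Int.ofNat 0, Int.ofNat 0, Int.ofNat 0, Int.ofNat 0, Int.ofNat 0, Int.ofNat 4, Int.ofNat 0, Int.ofNat 0, Int.ofNat 0, Int.ofNat 0, Int.ofNat 0, Int.ofNat 0, Int.ofNat 0, Int.ofNat 0, Int.ofNat 0, Int.ofNat 0, Int.ofNat 0, Int.ofNat 0, Int.ofNat 0, Int.ofNat 0, Int.negSucc 3],
  [Int.negSucc 3, Int.ofNat 0, Int.ofNat 0, Int.ofNat 0, Int.ofNat 0, Int.ofNat 0, Int.ofNat 0, Int.ofNat 0, Int.ofNat 0, Int.ofNat 0, Int.ofNat 0, Int.ofNat 0, Int.ofNat 0, Int.ofNat 0, Int.ofNat 0, Int.ofNat 0, Int.ofNat 0, Int.ofNat 0, Int.ofNat 0, Int.ofNat 0, Int.ofNat 4, Int.ofNat 0, Int.ofNat 0, Int.ofNat 0],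
  [Int.ofNat 4, Int.ofNat 0, Int.ofNat 0, Int.ofNat 0, Int.ofNat 0, Int.ofNat 0, Int.ofNat 0, Int.ofNat 0, Int.ofNat 0, Int.ofNat 0, Int.ofNat 0, Int.ofNat 0, Int.ofNat 0, Int.ofNat 0, Int.ofNat 0, Int.ofNat 0, Int.ofNat 0, Int.ofNat 0, Int.ofNat 0, Int.ofNat 0, Int.ofNat 4, Int.ofNat 0, Int.ofNat 0, Int.ofNat 0],
  [Int.ofNat 0, Int.ofNat 4, Int.ofNat 0, Int.ofNat 0, Int.ofNat 0, Int.ofNat 0, Int.ofNat 0, Int.ofNat 0, Int.ofNat 0, Int.ofNat 0, Int.ofNat 0, Int.ofNat 0, Int.ofNat 0, Int.ofNat 0, Int.ofNat 0, Int.ofNat 0, Int.ofNat 0, Int.ofNat 0, Int.ofNat 0, Int.ofNat 0, Int.ofNat 0, Int.ofNat 4, Int.ofNat 0, Int.ofNat 0],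
  [Int.ofNat 2, Int.negSucc 1, Int.ofNat 2, Int.ofNat 0, Int.ofNat 0, Int.ofNat 0, Int.negSucc 1, Int.negSucc 1, Int.ofNat 0, Int.ofNat 0, Int.ofNat 0, Int.ofNat 0, Int.ofNat 0, Int.ofNat 0, Int.ofNat 0, Int.ofNat 0, Int.ofNat 0, Int.ofNat 0, Int.ofNat 0, Int.negSucc 1, Int.ofNat 0, Int.ofNat 2, Int.ofNat 0, Int.ofNat 2],
  [Int.ofNat 0, Int.ofNat 0, Int.ofNat 0, Int.negSucc 1, Int.negSucc 1, Int.ofNat 0, Int.ofNat 0, Int.ofNat 0, Int.ofNat 0, Int.ofNat 0, Int.ofNat 0, Int.ofNat 0, Int.ofNat 0, Int.ofNat 0, Int.ofNat 0, Int.ofNat 0, Int.negSucc 1, Int.ofNat 0, Int.ofNat 2, Int.ofNat 0, Int.ofNat 2, Int.negSucc 1, Int.ofNat 2, Int.ofNat 2],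
  [Int.ofNat 1, Int.ofNat 1, Int.ofNat 1, Int.negSucc 0, Int.negSucc 0, Int.ofNat 1, Int.ofNat 1, Int.ofNat 1, Int.negSucc 0, Int.negSucc 0, Int.negSucc 0, Int.negSucc 0, Int.negSucc 0, Int.ofNat 1, Int.ofNat 1, Int.negSucc 0, Int.negSucc 0, Int.ofNat 1, Int.ofNat 1, Int.ofNat 1, Int.ofNat 1, Int.negSucc 0, Int.ofNat 3, Int.negSucc 0],
  [Int.ofNat 1, Int.ofNat 1, Int.negSucc 0, Int.negSucc 0, Int.ofNat 1, Int.ofNat 1, Int.ofNat 1, Int.negSucc 0, Int.negSucc 0, Int.ofNat 1, Int.ofNat 1, Int.ofNat 1, Int.negSucc 0, Int.negSucc 0, Int.ofNat 3, Int.negSucc 0, Int.negSucc 0, Int.ofNat 1, Int.ofNat 1, Int.negSucc 0, Int.negSucc 0, Int.ofNat 1, Int.ofNat 1, Int.negSucc 0],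
  [Int.negSucc 0, Int.negSucc 0, Int.ofNat 1, Int.negSucc 2, Int.ofNat 1, Int.negSucc 0, Int.ofNat 1, Int.negSucc 0, Int.negSucc 0, Int.ofNat 1, Int.ofNat 1, Int.ofNat 1, Int.negSucc 0, Int.negSucc 0, Int.ofNat 1, Int.negSucc 0, Int.negSucc 0, Int.negSucc 0, Int.ofNat 1, Int.negSucc 0, Int.negSucc 0, Int.ofNat 1, Int.ofNat 1, Int.ofNat 1],
  [Int.negSucc 0, Int.negSucc 0, Int.negSucc 0, Int.negSucc 2, Int.ofNat 1, Int.ofNat 1, Int.negSucc 0, Int.negSucc 0, Int.negSucc 0, Int.negSucc 0, Int.negSucc 0, Int.ofNat 1, Int.negSucc 0, Int.negSucc 0, Int.ofNat 1, Int.ofNat 1, Int.negSucc 0, Int.negSucc 0, Int.negSucc 0, Int.negSucc 0, Int.negSucc 0, Int.ofNat 1, Int.negSucc 0, Int.ofNat 1],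
  [Int.negSucc 0, Int.negSucc 0, Int.negSucc 0, Int.negSucc 0, Int.negSucc 0, Int.ofNat 1, Int.negSucc 0, Int.negSucc 2, Int.negSucc 0, Int.negSucc 0, Int.negSucc 0, Int.negSucc 0, Int.ofNat 1, Int.ofNat 1, Int.negSucc 0, Int.ofNat 1, Int.negSucc 0, Int.negSucc 0, Int.negSucc 0, Int.ofNat 1, Int.negSucc 0, Int.ofNat 1, Int.negSucc 0, Int.ofNat 1],
  [Int.negSucc 0, Int.negSucc 0, Int.ofNat 1, Int.negSucc 0, Int.negSucc 0, Int.negSucc 0, Int.ofNat 1, Int.negSucc 2, Int.negSucc 0, Int.ofNat 1, Int.ofNat 1, Int.negSucc 0, Int.ofNat 1, Int.ofNat 1, Int.negSucc 0, Int.negSucc 0, Int.negSucc 0, Int.negSucc 0, Int.ofNat 1, Int.ofNat 1, Int.negSucc 0, Int.ofNat 1, Int.ofNat 1, Int.ofNat 1],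
  [Int.ofNat 1, Int.ofNat 1, Int.negSucc 0, Int.ofNat 1, Int.negSucc 0, Int.ofNat 1, Int.ofNat 1, Int.negSucc 2, Int.negSucc 0, Int.ofNat 1, Int.ofNat 1, Int.negSucc 0, Int.ofNat 1, Int.ofNat 1, Int.ofNat 1, Int.negSucc 0, Int.negSucc 0, Int.ofNat 1, Int.ofNat 1, Int.ofNat 1, Int.negSucc 0, Int.ofNat 1, Int.ofNat 1, Int.negSucc 0],
  [Int.ofNat 1, Int.ofNat 1, Int.ofNat 1, Int.ofNat 1, Int.negSucc 0, Int.ofNat 1, Int.ofNat 1, Int.ofNat 1, Int.negSucc 0, Int.ofNat 1, Int.negSucc 2, Int.ofNat 1, Int.negSucc 0, Int.ofNat 1, Int.ofNat 1, Int.negSucc 0, Int.ofNat 1, Int.negSucc 0, Int.negSucc 0, Int.ofNat 1, Int.ofNat 1, Int.negSucc 0, Int.ofNat 1, Int.negSucc 0],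
  [Int.ofNat 0, Int.ofNat 0, Int.ofNat 0, Int.ofNat 0, Int.negSucc 1, Int.ofNat 0, Int.ofNat 0, Int.ofNat 0, Int.ofNat 0, Int.ofNat 2, Int.negSucc 1, Int.ofNat 2, Int.ofNat 0, Int.ofNat 0, Int.ofNat 0, Int.ofNat 0, Int.ofNat 0, Int.negSucc 1, Int.ofNat 0, Int.ofNat 0, Int.ofNat 2, Int.negSucc 1, Int.ofNat 0, Int.ofNat 2],
  [Int.ofNat 2, Int.negSucc 1, Int.ofNat 0, Int.ofNat 0, Int.ofNat 0, Int.ofNat 0, Int.ofNat 0, Int.negSucc 1, Int.ofNat 0, Int.ofNat 0, Int.ofNat 0, Int.ofNat 0, Int.ofNat 2, Int.negSucc 1, Int.ofNat 2, Int.ofNat 0, Int.ofNat 0, Int.ofNat 0, Int.ofNat 0, Int.ofNat 0, Int.negSucc 1, Int.ofNat 0, Int.ofNat 0, Int.ofNat 2],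
  [Int.negSucc 0, Int.ofNat 3, Int.ofNat 1, Int.negSucc 0, Int.ofNat 1, Int.negSucc 0, Int.ofNat 1, Int.negSucc 0, Int.negSucc 0, Int.ofNat 1, Int.ofNat 1, Int.negSucc 0, Int.ofNat 1, Int.negSucc 0, Int.ofNat 1, Int.ofNat 1, Int.ofNat 1, Int.negSucc 0, Int.negSucc 0, Int.ofNat 1, Int.negSucc 0, Int.ofNat 1, Int.ofNat 1, Int.negSucc 0],
  [Int.ofNat 3, Int.ofNat 1, Int.negSucc 0, Int.ofNat 1, Int.negSucc 0, Int.ofNat 1, Int.negSucc 0, Int.negSucc 0, Int.ofNat 1, Int.ofNat 1, Int.negSucc 0, Int.ofNat 1, Int.negSucc 0, Int.ofNat 1, Int.ofNat 1, Int.ofNat 1, Int.negSucc 0, Int.negSucc 0, Int.ofNat 1, Int.negSucc 0, Int.ofNat 1, Int.ofNat 1, Int.negSucc 0, Int.negSucc 0],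
  [Int.negSucc 2, Int.ofNat 1, Int.ofNat 1, Int.ofNat 1, Int.negSucc 0, Int.ofNat 1, Int.negSucc 0, Int.ofNat 1, Int.ofNat 1, Int.negSucc 0, Int.ofNat 1, Int.negSucc 0, Int.negSucc 0, Int.ofNat 1, Int.ofNat 1, Int.ofNat 1, Int.negSucc 0, Int.negSucc 0, Int.negSucc 0, Int.negSucc 0, Int.ofNat 1, Int.negSucc 0, Int.negSucc 0, Int.negSucc 0],
  [Int.negSucc 2, Int.ofNat 1, Int.negSucc 0, Int.ofNat 1, Int.ofNat 1, Int.ofNat 1, Int.negSucc 0, Int.ofNat 1, Int.negSucc 0, Int.negSucc 0, Int.negSucc 0, Int.ofNat 1, Int.ofNat 1, Int.ofNat 1, Int.negSucc 0, Int.ofNat 1, Int.negSucc 0, Int.negSucc 0, Int.negSucc 0, Int.negSucc 0, Int.ofNat 1, Int.ofNat 1, Int.negSucc 0, Int.negSucc 0],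
  [Int.ofNat 3, Int.ofNat 1, Int.ofNat 1, Int.ofNat 1, Int.ofNat 1, Int.ofNat 1, Int.negSucc 0, Int.negSucc 0, Int.negSucc 0, Int.ofNat 1, Int.ofNat 1, Int.negSucc 0, Int.ofNat 1, Int.ofNat 1, Int.negSucc 0, Int.ofNat 1, Int.negSucc 0, Int.negSucc 0, Int.ofNat 1, Int.negSucc 0, Int.ofNat 1, Int.negSucc 0, Int.negSucc 0, Int.negSucc 0],
  [Int.negSucc 0, Int.ofNat 3, Int.ofNat 1, Int.ofNat 1, Int.ofNat 1, Int.ofNat 1, Int.ofNat 1, Int.negSucc 0, Int.negSucc 0, Int.negSucc 0, Int.ofNat 1, Int.ofNat 1, Int.negSucc 0, Int.ofNat 1, Int.ofNat 1, Int.negSucc 0, Int.ofNat 1, Int.negSucc 0, Int.negSucc 0, Int.ofNat 1, Int.negSucc 0, Int.ofNat 1, Int.negSucc 0, Int.negSucc 0],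
  [Int.ofNat 2, Int.negSucc 1, Int.ofNat 0, Int.ofNat 0, Int.ofNat 0, Int.ofNat 0, Int.ofNat 0, Int.negSucc 1, Int.ofNat 0, Int.ofNat 0, Int.ofNat 2, Int.ofNat 2, Int.ofNat 0, Int.ofNat 0, Int.ofNat 0, Int.ofNat 0, Int.ofNat 0, Int.negSucc 1, Int.ofNat 0, Int.ofNat 0, Int.ofNat 0, Int.ofNat 0, Int.negSucc 1, Int.ofNat 2],
  [Int.ofNat 0, Int.ofNat 0, Int.ofNat 0, Int.ofNat 0, Int.negSucc 1, Int.ofNat 0, Int.ofNat 0, Int.ofNat 2, Int.ofNat 2, Int.ofNat 0, Int.ofNat 0, Int.ofNat 0, Int.ofNat 0, Int.ofNat 0, Int.negSucc 1, Int.ofNat 0, Int.ofNat 0, Int.ofNat 0, Int.ofNat 0, Int.negSucc 1, Int.ofNat 2, Int.negSucc 1, Int.ofNat 0, Int.ofNat 2],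
  [Int.ofNat 1, Int.ofNat 1, Int.ofNat 1, Int.ofNat 1, Int.negSucc 0, Int.ofNat 1, Int.ofNat 1, Int.ofNat 3, Int.ofNat 1, Int.negSucc 0, Int.negSucc 0, Int.negSucc 0, Int.negSucc 0, Int.ofNat 1, Int.negSucc 0, Int.negSucc 0, Int.ofNat 1, Int.ofNat 1, Int.negSucc 0, Int.negSucc 0, Int.ofNat 1, Int.negSucc 0, Int.ofNat 1, Int.negSucc 0],
  [Int.ofNat 1, Int.ofNat 1, Int.negSucc 0, Int.ofNat 1, Int.negSucc 0, Int.ofNat 3, Int.ofNat 1, Int.negSucc 0, Int.negSucc 0, Int.ofNat 1, Int.ofNat 1, Int.ofNat 1, Int.negSucc 0, Int.ofNat 1, Int.ofNat 1, Int.negSucc 0, Int.ofNat 1, Int.negSucc 0, Int.ofNat 1, Int.negSucc 0, Int.negSucc 0, Int.ofNat 1, Int.negSucc 0, Int.negSucc 0],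
  [Int.negSucc 0, Int.negSucc 0, Int.ofNat 1, Int.negSucc 0, Int.negSucc 0, Int.ofNat 1, Int.ofNat 1, Int.negSucc 0, Int.negSucc 0, Int.ofNat 1, Int.ofNat 1, Int.ofNat 1, Int.negSucc 0, Int.ofNat 1, Int.negSucc 0, Int.negSucc 0, Int.ofNat 1, Int.negSucc 2, Int.ofNat 1, Int.negSucc 0, Int.negSucc 0, Int.ofNat 1, Int.negSucc 0, Int.ofNat 1],
  [Int.negSucc 0, Int.negSucc 0, Int.negSucc 0, Int.negSucc 0, Int.negSucc 0, Int.negSucc 0, Int.negSucc 0, Int.negSucc 0, Int.negSucc 0, Int.negSucc 0, Int.negSucc 0, Int.ofNat 1, Int.negSucc 0, Int.ofNat 1, Int.negSucc 0, Int.ofNat 1, Int.ofNat 1, Int.negSucc 2, Int.negSucc 0, Int.negSucc 0, Int.negSucc 0, Int.ofNat 1, Int.ofNat 1, Int.ofNat 1],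
  [Int.negSucc 0, Int.ofNat 1, Int.ofNat 1, Int.negSucc 0, Int.negSucc 0, Int.negSucc 0, Int.ofNat 1, Int.negSucc 0, Int.negSucc 0, Int.negSucc 0, Int.ofNat 1, Int.negSucc 0, Int.ofNat 1, Int.negSucc 0, Int.negSucc 2, Int.negSucc 0, Int.negSucc 0, Int.negSucc 0, Int.negSucc 0, Int.negSucc 0, Int.negSucc 0, Int.negSucc 0, Int.ofNat 1, Int.ofNat 1],
  [Int.ofNat 1, Int.negSucc 0, Int.negSucc 0, Int.ofNat 1, Int.ofNat 1, Int.negSucc 0, Int.negSucc 0, Int.negSucc 0, Int.ofNat 1, Int.ofNat 1, Int.ofNat 1, Int.negSucc 0, Int.negSucc 0, Int.ofNat 1, Int.negSucc 2, Int.negSucc 0, Int.ofNat 1, Int.negSucc 0, Int.ofNat 1, Int.negSucc 0, Int.negSucc 0, Int.negSucc 0, Int.ofNat 1, Int.ofNat 1],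
  [Int.ofNat 1, Int.ofNat 1, Int.negSucc 0, Int.negSucc 0, Int.negSucc 0, Int.ofNat 1, Int.negSucc 0, Int.ofNat 1, Int.negSucc 0, Int.negSucc 0, Int.ofNat 1, Int.negSucc 0, Int.negSucc 0, Int.negSucc 0, Int.ofNat 1, Int.ofNat 1, Int.ofNat 1, Int.ofNat 1, Int.negSucc 2, Int.negSucc 0, Int.ofNat 1, Int.negSucc 0, Int.negSucc 0, Int.ofNat 1],
  [Int.negSucc 0, Int.ofNat 1, Int.ofNat 1, Int.negSucc 0, Int.negSucc 0, Int.ofNat 1, Int.negSucc 0, Int.negSucc 0, Int.negSucc 0, Int.ofNat 1, Int.negSucc 0, Int.ofNat 1, Int.negSucc 0, Int.negSucc 0, Int.ofNat 1, Int.ofNat 1, Int.ofNat 1, Int.ofNat 1, Int.ofNat 3, Int.negSucc 0, Int.ofNat 1, Int.ofNat 1, Int.negSucc 0, Int.ofNat 1],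
  [Int.negSucc 0, Int.negSucc 0, Int.ofNat 1, Int.ofNat 1, Int.negSucc 0, Int.negSucc 0, Int.ofNat 1, Int.negSucc 0, Int.negSucc 0, Int.negSucc 0, Int.ofNat 1, Int.negSucc 0, Int.ofNat 1, Int.negSucc 0, Int.negSucc 0, Int.ofNat 1, Int.ofNat 1, Int.ofNat 1, Int.ofNat 1, Int.ofNat 3, Int.negSucc 0, Int.ofNat 1, Int.ofNat 1, Int.ofNat 1],
  [Int.ofNat 1, Int.ofNat 1, Int.negSucc 0, Int.ofNat 1, Int.negSucc 0, Int.negSucc 0, Int.negSucc 0, Int.negSucc 2, Int.negSucc 0, Int.negSucc 0, Int.ofNat 1, Int.negSucc 0, Int.ofNat 1, Int.negSucc 0, Int.negSucc 0, Int.ofNat 1, Int.ofNat 1, Int.ofNat 1, Int.ofNat 1, Int.ofNat 1, Int.negSucc 0, Int.negSucc 0, Int.ofNat 1, Int.negSucc 0],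
  [Int.ofNat 1, Int.negSucc 0, Int.negSucc 0, Int.negSucc 0, Int.negSucc 2, Int.negSucc 0, Int.negSucc 0, Int.ofNat 1, Int.negSucc 0, Int.ofNat 1, Int.negSucc 0, Int.negSucc 0, Int.ofNat 1, Int.ofNat 1, Int.ofNat 1, Int.ofNat 1, Int.ofNat 1, Int.negSucc 0, Int.negSucc 0, Int.ofNat 1, Int.ofNat 1, Int.ofNat 1, Int.negSucc 0, Int.negSucc 0],
  [Int.negSucc 1, Int.ofNat 0, Int.ofNat 0, Int.ofNat 0, Int.negSucc 1, Int.ofNat 0, Int.negSucc 1, Int.ofNat 0, Int.ofNat 0, Int.ofNat 0, Int.negSucc 1, Int.ofNat 0, Int.ofNat 2, Int.ofNat 2, Int.ofNat 2, Int.ofNat 0, Int.ofNat 2, Int.ofNat 0, Int.ofNat 0, Int.ofNat 0, Int.ofNat 0, Int.ofNat 0, Int.ofNat 0, Int.ofNat 0],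
  [Int.negSucc 1, Int.negSucc 1, Int.negSucc 1, Int.ofNat 0, Int.ofNat 0, Int.ofNat 0, Int.ofNat 0, Int.negSucc 1, Int.ofNat 2, Int.ofNat 2, Int.ofNat 0, Int.ofNat 0, Int.ofNat 0, Int.ofNat 2, Int.ofNat 0, Int.ofNat 0, Int.ofNat 0, Int.ofNat 2, Int.ofNat 0, Int.ofNat 0, Int.ofNat 0, Int.ofNat 0, Int.ofNat 0, Int.ofNat 0],
  [Int.negSucc 0, Int.negSucc 0, Int.negSucc 0, Int.negSucc 0, Int.negSucc 0, Int.negSucc 0, Int.ofNat 1, Int.negSucc 0, Int.ofNat 1, Int.ofNat 1, Int.negSucc 0, Int.negSucc 0, Int.negSucc 0, Int.ofNat 1, Int.negSucc 0, Int.negSucc 0, Int.negSucc 0, Int.ofNat 1, Int.negSucc 0, Int.ofNat 1, Int.negSucc 0, Int.ofNat 1, Int.negSucc 0, Int.negSucc 2],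
  [Int.negSucc 0, Int.negSucc 0, Int.ofNat 1, Int.negSucc 0, Int.negSucc 0, Int.ofNat 1, Int.negSucc 0, Int.negSucc 0, Int.ofNat 1, Int.negSucc 0, Int.ofNat 1, Int.negSucc 0, Int.negSucc 0, Int.ofNat 1, Int.negSucc 0, Int.ofNat 1, Int.negSucc 0, Int.ofNat 1, Int.ofNat 1, Int.ofNat 1, Int.negSucc 0, Int.ofNat 1, Int.ofNat 1, Int.negSucc 2],
  [Int.ofNat 1, Int.negSucc 0, Int.ofNat 1, Int.ofNat 1, Int.negSucc 0, Int.negSucc 0, Int.negSucc 0, Int.negSucc 0, Int.ofNat 1, Int.ofNat 1, Int.ofNat 1, Int.negSucc 0, Int.negSucc 0, Int.ofNat 1, Int.ofNat 1, Int.ofNat 1, Int.negSucc 0, Int.ofNat 1, Int.negSucc 0, Int.ofNat 1, Int.negSucc 0, Int.negSucc 0, Int.negSucc 0, Int.negSucc 2],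
  [Int.ofNat 1, Int.negSucc 0, Int.negSucc 0, Int.ofNat 1, Int.negSucc 0, Int.ofNat 1, Int.ofNat 1, Int.negSucc 0, Int.ofNat 1, Int.negSucc 0, Int.negSucc 0, Int.negSucc 0, Int.negSucc 0, Int.ofNat 1, Int.ofNat 1, Int.negSucc 0, Int.negSucc 0, Int.ofNat 1, Int.ofNat 1, Int.ofNat 1, Int.negSucc 0, Int.negSucc 0, Int.ofNat 1, Int.negSucc 2],
  [Int.negSucc 2, Int.negSucc 0, Int.negSucc 0, Int.negSucc 0, Int.negSucc 0, Int.negSucc 0, Int.ofNat 1, Int.negSucc 0, Int.ofNat 1, Int.ofNat 1, Int.ofNat 1, Int.negSucc 0, Int.negSucc 0, Int.ofNat 1, Int.negSucc 0, Int.ofNat 1, Int.negSucc 0, Int.negSucc 0, Int.ofNat 1, Int.ofNat 1, Int.ofNat 1, Int.negSucc 0, Int.ofNat 1, Int.ofNat 1],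
  [Int.negSucc 2, Int.ofNat 1, Int.ofNat 1, Int.negSucc 0, Int.negSucc 0, Int.negSucc 0, Int.negSucc 0, Int.negSucc 0, Int.negSucc 0, Int.negSucc 0, Int.negSucc 0, Int.ofNat 1, Int.ofNat 1, Int.ofNat 1, Int.negSucc 0, Int.ofNat 1, Int.ofNat 1, Int.negSucc 0, Int.negSucc 0, Int.ofNat 1, Int.ofNat 1, Int.ofNat 1, Int.negSucc 0, Int.ofNat 1],
  [Int.ofNat 3, Int.negSucc 0, Int.negSucc 0, Int.ofNat 1, Int.negSucc 0, Int.ofNat 1, Int.negSucc 0, Int.negSucc 0, Int.negSucc 0, Int.negSucc 0, Int.negSucc 0, Int.ofNat 1, Int.ofNat 1, Int.ofNat 1, Int.ofNat 1, Int.ofNat 1, Int.ofNat 1, Int.ofNat 1, Int.negSucc 0, Int.ofNat 1, Int.ofNat 1, Int.ofNat 1, Int.negSucc 0, Int.negSucc 0],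
  [Int.ofNat 1, Int.ofNat 1, Int.negSucc 0, Int.ofNat 3, Int.negSucc 0, Int.negSucc 0, Int.ofNat 1, Int.negSucc 0, Int.ofNat 1, Int.negSucc 0, Int.negSucc 0, Int.negSucc 0, Int.negSucc 0, Int.negSucc 0, Int.ofNat 1, Int.ofNat 1, Int.ofNat 1, Int.ofNat 1, Int.ofNat 1, Int.ofNat 1, Int.ofNat 1, Int.negSucc 0, Int.ofNat 1, Int.negSucc 0],
  [Int.negSucc 0, Int.negSucc 0, Int.ofNat 1, Int.ofNat 1, Int.negSucc 0, Int.negSucc 2, Int.ofNat 1, Int.negSucc 0, Int.ofNat 1, Int.negSucc 0, Int.negSucc 0, Int.negSucc 0, Int.negSucc 0, Int.negSucc 0, Int.negSucc 0, Int.ofNat 1, Int.ofNat 1, Int.negSucc 0, Int.ofNat 1, Int.ofNat 1, Int.ofNat 1, Int.negSucc 0, Int.ofNat 1, Int.ofNat 1],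
  [Int.negSucc 0, Int.ofNat 1, Int.ofNat 1, Int.negSucc 0, Int.negSucc 2, Int.ofNat 1, Int.negSucc 0, Int.ofNat 1, Int.negSucc 0, Int.negSucc 0, Int.negSucc 0, Int.negSucc 0, Int.negSucc 0, Int.negSucc 0, Int.ofNat 1, Int.ofNat 1, Int.negSucc 0, Int.ofNat 1, Int.ofNat 1, Int.ofNat 1, Int.negSucc 0, Int.ofNat 1, Int.negSucc 0, Int.ofNat 1],
  [Int.ofNat 1, Int.ofNat 1, Int.negSucc 0, Int.negSucc 0, Int.negSucc 2, Int.ofNat 1, Int.negSucc 0, Int.negSucc 0, Int.negSucc 0, Int.ofNat 1, Int.ofNat 1, Int.ofNat 1, Int.negSucc 0, Int.negSucc 0, Int.ofNat 1, Int.ofNat 1, Int.negSucc 0, Int.ofNat 1, Int.negSucc 0, Int.ofNat 1, Int.negSucc 0, Int.negSucc 0, Int.negSucc 0, Int.ofNat 1],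
  [Int.ofNat 1, Int.negSucc 0, Int.negSucc 0, Int.negSucc 0, Int.ofNat 1, Int.ofNat 1, Int.negSucc 2, Int.negSucc 0, Int.ofNat 1, Int.negSucc 0, Int.negSucc 0, Int.ofNat 1, Int.negSucc 0, Int.negSucc 0, Int.ofNat 1, Int.ofNat 1, Int.negSucc 0, Int.negSucc 0, Int.negSucc 0, Int.ofNat 1, Int.ofNat 1, Int.negSucc 0, Int.ofNat 1, Int.ofNat 1],
  [Int.negSucc 0, Int.negSucc 0, Int.ofNat 1, Int.negSucc 0, Int.ofNat 1, Int.ofNat 1, Int.negSucc 2, Int.ofNat 1, Int.ofNat 1, Int.ofNat 1, Int.ofNat 1, Int.negSucc 0, Int.negSucc 0, Int.negSucc 0, Int.ofNat 1, Int.ofNat 1, Int.negSucc 0, Int.negSucc 0, Int.ofNat 1, Int.ofNat 1, Int.ofNat 1, Int.ofNat 1, Int.ofNat 1, Int.ofNat 1],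
  [Int.ofNat 1, Int.negSucc 0, Int.negSucc 0, Int.ofNat 1, Int.negSucc 0, Int.ofNat 1, Int.ofNat 1, Int.negSucc 2, Int.ofNat 1, Int.ofNat 1, Int.ofNat 1, Int.ofNat 1, Int.negSucc 0, Int.negSucc 0, Int.negSucc 0, Int.ofNat 1, Int.ofNat 1, Int.negSucc 0, Int.negSucc 0, Int.ofNat 1, Int.ofNat 1, Int.ofNat 1, Int.ofNat 1, Int.ofNat 1],
  [Int.negSucc 0, Int.ofNat 1, Int.ofNat 1, Int.ofNat 1, Int.negSucc 0, Int.ofNat 1, Int.ofNat 1, Int.negSucc 2, Int.ofNat 1, Int.negSucc 0, Int.negSucc 0, Int.ofNat 1, Int.negSucc 0, Int.negSucc 0, Int.negSucc 0, Int.negSucc 0, Int.ofNat 1, Int.negSucc 0, Int.negSucc 0, Int.ofNat 1, Int.negSucc 0, Int.ofNat 1, Int.ofNat 1, Int.negSucc 0],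
  [Int.ofNat 1, Int.negSucc 0, Int.ofNat 1, Int.ofNat 1, Int.negSucc 2, Int.ofNat 1, Int.negSucc 0, Int.negSucc 0, Int.ofNat 1, Int.negSucc 0, Int.negSucc 0, Int.negSucc 0, Int.negSucc 0, Int.ofNat 1, Int.negSucc 0, Int.negSucc 0, Int.ofNat 1, Int.negSucc 0, Int.ofNat 1, Int.ofNat 1, Int.negSucc 0, Int.ofNat 1, Int.ofNat 1, Int.negSucc 0],
  [Int.negSucc 0, Int.ofNat 1, Int.negSucc 0, Int.ofNat 1, Int.negSucc 2, Int.ofNat 1, Int.negSucc 0, Int.negSucc 0, Int.ofNat 1, Int.ofNat 1, Int.ofNat 1, Int.negSucc 0, Int.negSucc 0, Int.ofNat 1, Int.negSucc 0, Int.ofNat 1, Int.ofNat 1, Int.negSucc 0, Int.ofNat 1, Int.ofNat 1, Int.ofNat 1, Int.ofNat 1, Int.ofNat 1, Int.ofNat 1],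
  [Int.negSucc 0, Int.negSucc 0, Int.negSucc 2, Int.ofNat 1, Int.ofNat 1, Int.negSucc 0, Int.negSucc 0, Int.ofNat 1, Int.negSucc 0, Int.ofNat 1, Int.ofNat 1, Int.negSucc 0, Int.ofNat 1, Int.ofNat 1, Int.ofNat 1, Int.ofNat 1, Int.ofNat 1, Int.negSucc 0, Int.ofNat 1, Int.negSucc 0, Int.ofNat 1, Int.ofNat 1, Int.ofNat 1, Int.ofNat 1],
  [Int.negSucc 0, Int.negSucc 0, Int.ofNat 1, Int.ofNat 1, Int.negSucc 0, Int.negSucc 0, Int.negSucc 0, Int.ofNat 1, Int.negSucc 0, Int.negSucc 0, Int.negSucc 0, Int.negSucc 0, Int.ofNat 1, Int.negSucc 0, Int.ofNat 1, Int.negSucc 0, Int.negSucc 0, Int.negSucc 0, Int.ofNat 1, Int.negSucc 0, Int.negSucc 0, Int.ofNat 1, Int.negSucc 0, Int.negSucc 2],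
  [Int.negSucc 0, Int.negSucc 0, Int.negSucc 0, Int.ofNat 1, Int.negSucc 0, Int.ofNat 1, Int.ofNat 1, Int.ofNat 1, Int.negSucc 0, Int.ofNat 1, Int.ofNat 1, Int.negSucc 0, Int.ofNat 1, Int.negSucc 0, Int.ofNat 1, Int.ofNat 1, Int.negSucc 0, Int.negSucc 0, Int.negSucc 0, Int.negSucc 0, Int.negSucc 0, Int.ofNat 1, Int.ofNat 1, Int.negSucc 2],
  [Int.ofNat 1, Int.negSucc 0, Int.negSucc 0, Int.negSucc 0, Int.ofNat 1, Int.ofNat 1, Int.ofNat 1, Int.ofNat 1, Int.ofNat 1, Int.negSucc 0, Int.negSucc 0, Int.ofNat 1, Int.ofNat 1, Int.negSucc 0, Int.negSucc 0, Int.negSucc 0, Int.negSucc 0, Int.ofNat 1, Int.ofNat 1, Int.negSucc 0, Int.negSucc 0, Int.negSucc 0, Int.ofNat 1, Int.negSucc 2],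
  [Int.negSucc 0, Int.ofNat 1, Int.ofNat 1, Int.ofNat 1, Int.negSucc 0, Int.ofNat 1, Int.negSucc 0, Int.ofNat 1, Int.negSucc 0, Int.ofNat 1, Int.negSucc 0, Int.ofNat 1, Int.negSucc 0, Int.ofNat 1, Int.negSucc 0, Int.negSucc 0, Int.ofNat 1, Int.ofNat 1, Int.negSucc 0, Int.negSucc 0, Int.negSucc 0, Int.negSucc 0, Int.ofNat 1, Int.negSucc 2],
  [Int.negSucc 2, Int.ofNat 1, Int.ofNat 1, Int.negSucc 0, Int.ofNat 1, Int.ofNat 1, Int.negSucc 0, Int.ofNat 1, Int.negSucc 0, Int.ofNat 1, Int.ofNat 1, Int.ofNat 1, Int.negSucc 0, Int.ofNat 1, Int.negSucc 0, Int.ofNat 1, Int.negSucc 0, Int.negSucc 0, Int.negSucc 0, Int.negSucc 0, Int.negSucc 0, Int.negSucc 0, Int.ofNat 1, Int.negSucc 0],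
  [Int.ofNat 3, Int.ofNat 1, Int.negSucc 0, Int.negSucc 0, Int.ofNat 1, Int.ofNat 1, Int.negSucc 0, Int.negSucc 0, Int.negSucc 0, Int.negSucc 0, Int.negSucc 0, Int.negSucc 0, Int.negSucc 0, Int.ofNat 1, Int.negSucc 0, Int.ofNat 1, Int.negSucc 0, Int.negSucc 0, Int.ofNat 1, Int.negSucc 0, Int.negSucc 0, Int.ofNat 1, Int.ofNat 1, Int.negSucc 0],
  [Int.ofNat 1, Int.ofNat 3, Int.ofNat 1, Int.negSucc 0, Int.negSucc 0, Int.ofNat 1, Int.ofNat 1, Int.negSucc 0, Int.negSucc 0, Int.negSucc 0, Int.negSucc 0, Int.negSucc 0, Int.negSucc 0, Int.negSucc 0, Int.ofNat 1, Int.negSucc 0, Int.ofNat 1, Int.negSucc 0, Int.negSucc 0, Int.ofNat 1, Int.negSucc 0, Int.negSucc 0, Int.ofNat 1, Int.negSucc 0],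
  [Int.ofNat 1, Int.negSucc 0, Int.ofNat 1, Int.negSucc 0, Int.negSucc 0, Int.ofNat 1, Int.ofNat 1, Int.negSucc 0, Int.ofNat 1, Int.ofNat 1, Int.ofNat 1, Int.ofNat 1, Int.ofNat 1, Int.negSucc 0, Int.ofNat 1, Int.ofNat 1, Int.ofNat 1, Int.negSucc 0, Int.ofNat 1, Int.ofNat 1, Int.ofNat 1, Int.negSucc 0, Int.ofNat 1, Int.ofNat 3],
  [Int.negSucc 0, Int.negSucc 0, Int.ofNat 1, Int.ofNat 1, Int.negSucc 0, Int.ofNat 1, Int.ofNat 1, Int.ofNat 1, Int.ofNat 1, Int.ofNat 1, Int.negSucc 0, Int.ofNat 1, Int.ofNat 1, Int.ofNat 1, Int.negSucc 0, Int.ofNat 1, Int.ofNat 1, Int.ofNat 1, Int.negSucc 0, Int.ofNat 1, Int.ofNat 1, Int.negSucc 0, Int.ofNat 1, Int.ofNat 3],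
  [Int.ofNat 2, Int.ofNat 2, Int.ofNat 0, Int.ofNat 0, Int.negSucc 1, Int.ofNat 0, Int.ofNat 0, Int.ofNat 0, Int.ofNat 0, Int.ofNat 0, Int.negSucc 1, Int.ofNat 0, Int.ofNat 0, Int.ofNat 0, Int.negSucc 1, Int.ofNat 0, Int.ofNat 0, Int.ofNat 0, Int.negSucc 1, Int.ofNat 0, Int.ofNat 0, Int.negSucc 1, Int.ofNat 0, Int.negSucc 1],
  [Int.ofNat 2, Int.ofNat 0, Int.negSucc 1, Int.ofNat 0, Int.negSucc 1, Int.ofNat 0, Int.ofNat 0, Int.negSucc 1, Int.ofNat 0, Int.ofNat 0, Int.ofNat 0, Int.ofNat 0, Int.ofNat 0, Int.ofNat 0, Int.ofNat 0, Int.ofNat 0, Int.ofNat 0, Int.negSucc 1, Int.ofNat 2, Int.ofNat 0, Int.negSucc 1, Int.ofNat 0, Int.ofNat 0, Int.negSucc 1],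
  [Int.negSucc 2, Int.negSucc 0, Int.ofNat 1, Int.ofNat 1, Int.negSucc 0, Int.ofNat 1, Int.ofNat 1, Int.negSucc 0, Int.negSucc 0, Int.ofNat 1, Int.ofNat 1, Int.negSucc 0, Int.negSucc 0, Int.ofNat 1, Int.ofNat 1, Int.ofNat 1, Int.ofNat 1, Int.negSucc 0, Int.ofNat 1, Int.ofNat 1, Int.negSucc 0, Int.ofNat 1, Int.ofNat 1, Int.ofNat 1],
  [Int.negSucc 2, Int.negSucc 0, Int.negSucc 0, Int.ofNat 1, Int.negSucc 0, Int.negSucc 0, Int.negSucc 0, Int.negSucc 0, Int.negSucc 0, Int.negSucc 0, Int.negSucc 0, Int.negSucc 0, Int.negSucc 0, Int.ofNat 1, Int.ofNat 1, Int.negSucc 0, Int.ofNat 1, Int.negSucc 0, Int.negSucc 0, Int.ofNat 1, Int.negSucc 0, Int.ofNat 1, Int.negSucc 0, Int.ofNat 1],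
  [Int.ofNat 1, Int.negSucc 0, Int.negSucc 0, Int.negSucc 0, Int.negSucc 0, Int.ofNat 1, Int.ofNat 1, Int.ofNat 1, Int.negSucc 0, Int.negSucc 0, Int.negSucc 0, Int.negSucc 0, Int.negSucc 0, Int.ofNat 1, Int.negSucc 0, Int.negSucc 0, Int.negSucc 2, Int.ofNat 1, Int.negSucc 0, Int.negSucc 0, Int.negSucc 0, Int.negSucc 0, Int.negSucc 0, Int.ofNat 1],
  [Int.ofNat 1, Int.negSucc 0, Int.ofNat 1, Int.negSucc 0, Int.negSucc 0, Int.negSucc 0, Int.negSucc 0, Int.ofNat 1, Int.negSucc 0, Int.ofNat 1, Int.ofNat 1, Int.negSucc 0, Int.negSucc 0, Int.ofNat 1, Int.negSucc 0, Int.ofNat 1, Int.negSucc 2, Int.ofNat 1, Int.ofNat 1, Int.negSucc 0, Int.negSucc 0, Int.negSucc 0, Int.ofNat 1, Int.ofNat 1],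
  [Int.ofNat 0, Int.ofNat 2, Int.ofNat 0, Int.ofNat 0, Int.ofNat 0, Int.ofNat 0, Int.ofNat 0, Int.ofNat 2, Int.ofNat 0, Int.ofNat 0, Int.ofNat 0, Int.ofNat 0, Int.ofNat 0, Int.ofNat 2, Int.ofNat 0, Int.ofNat 0, Int.negSucc 1, Int.ofNat 2, Int.ofNat 2, Int.ofNat 0, Int.negSucc 1, Int.ofNat 0, Int.ofNat 2, Int.ofNat 0],
  [Int.ofNat 0, Int.ofNat 2, Int.ofNat 0, Int.ofNat 0, Int.ofNat 0, Int.ofNat 0, Int.ofNat 2, Int.ofNat 0, Int.negSucc 1, Int.ofNat 0, Int.ofNat 2, Int.ofNat 0, Int.ofNat 0, Int.ofNat 0, Int.ofNat 2, Int.ofNat 0, Int.ofNat 2, Int.ofNat 0, Int.ofNat 0, Int.ofNat 2, Int.ofNat 0, Int.negSucc 1, Int.ofNat 0, Int.ofNat 0],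
  [Int.ofNat 1, Int.negSucc 0, Int.ofNat 1, Int.negSucc 0, Int.negSucc 0, Int.negSucc 0, Int.ofNat 1, Int.negSucc 0, Int.negSucc 0, Int.negSucc 0, Int.ofNat 1, Int.ofNat 1, Int.ofNat 1, Int.negSucc 0, Int.ofNat 1, Int.negSucc 0, Int.ofNat 1, Int.negSucc 0, Int.ofNat 1, Int.ofNat 1, Int.negSucc 0, Int.negSucc 2, Int.negSucc 0, Int.ofNat 1],
  [Int.negSucc 0, Int.negSucc 2, Int.negSucc 0, Int.ofNat 1, Int.negSucc 0, Int.ofNat 1, Int.negSucc 0, Int.negSucc 0, Int.negSucc 0, Int.ofNat 1, Int.negSucc 0, Int.negSucc 0, Int.negSucc 0, Int.ofNat 1, Int.ofNat 1, Int.ofNat 1, Int.negSucc 0, Int.ofNat 1, Int.negSucc 0, Int.ofNat 1, Int.negSucc 0, Int.ofNat 1, Int.ofNat 1, Int.ofNat 1],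
  [Int.negSucc 0, Int.ofNat 1, Int.negSucc 0, Int.negSucc 0, Int.negSucc 0, Int.negSucc 0, Int.negSucc 0, Int.negSucc 0, Int.ofNat 1, Int.ofNat 1, Int.negSucc 0, Int.ofNat 1, Int.ofNat 1, Int.ofNat 1, Int.negSucc 0, Int.ofNat 1, Int.negSucc 0, Int.negSucc 0, Int.ofNat 1, Int.ofNat 1, Int.negSucc 0, Int.ofNat 1, Int.ofNat 1, Int.negSucc 2],
  [Int.ofNat 1, Int.negSucc 0, Int.negSucc 0, Int.negSucc 0, Int.negSucc 0, Int.negSucc 0, Int.negSucc 0, Int.ofNat 1, Int.ofNat 1, Int.negSucc 0, Int.ofNat 1, Int.ofNat 1, Int.ofNat 1, Int.negSucc 0, Int.ofNat 1, Int.negSucc 0, Int.negSucc 0, Int.ofNat 1, Int.ofNat 1, Int.negSucc 0, Int.ofNat 1, Int.ofNat 1, Int.negSucc 0, Int.negSucc 2],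
  [Int.negSucc 0, Int.negSucc 0, Int.ofNat 1, Int.negSucc 0, Int.negSucc 0, Int.negSucc 0, Int.negSucc 0, Int.negSucc 0, Int.ofNat 1, Int.ofNat 1, Int.negSucc 0, Int.negSucc 0, Int.ofNat 1, Int.negSucc 0, Int.ofNat 1, Int.negSucc 0, Int.negSucc 0, Int.ofNat 1, Int.negSucc 0, Int.negSucc 0, Int.ofNat 1, Int.negSucc 0, Int.negSucc 0, Int.negSucc 2],
  [Int.negSucc 0, Int.ofNat 1, Int.negSucc 0, Int.negSucc 0, Int.negSucc 0, Int.negSucc 0, Int.negSucc 0, Int.ofNat 1, Int.ofNat 1, Int.negSucc 0, Int.negSucc 0, Int.ofNat 1, Int.negSucc 0, Int.ofNat 1, Int.negSucc 0, Int.negSucc 0, Int.ofNat 1, Int.negSucc 0, Int.negSucc 0, Int.ofNat 1, Int.negSucc 0, Int.negSucc 0, Int.negSucc 0, Int.negSucc 2],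
  [Int.ofNat 1, Int.ofNat 1, Int.ofNat 1, Int.negSucc 0, Int.negSucc 0, Int.negSucc 0, Int.negSucc 0, Int.negSucc 0, Int.ofNat 1, Int.ofNat 1, Int.ofNat 1, Int.negSucc 0, Int.negSucc 0, Int.ofNat 1, Int.negSucc 0, Int.negSucc 0, Int.ofNat 1, Int.negSucc 0, Int.ofNat 1, Int.ofNat 1, Int.negSucc 0, Int.ofNat 1, Int.negSucc 0, Int.negSucc 2],
  [Int.negSucc 0, Int.ofNat 1, Int.ofNat 1, Int.ofNat 1, Int.negSucc 0, Int.negSucc 0, Int.negSucc 0, Int.negSucc 0, Int.negSucc 0, Int.ofNat 1, Int.ofNat 1, Int.ofNat 1, Int.negSucc 0, Int.negSucc 0, Int.ofNat 1, Int.negSucc 0, Int.negSucc 0, Int.ofNat 1, Int.negSucc 0, Int.ofNat 1, Int.ofNat 1, Int.negSucc 0, Int.ofNat 1, Int.negSucc 2],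
  [Int.ofNat 0, Int.negSucc 1, Int.negSucc 1, Int.ofNat 0, Int.ofNat 0, Int.negSucc 1, Int.ofNat 0, Int.ofNat 0, Int.ofNat 0, Int.ofNat 0, Int.ofNat 0, Int.ofNat 2, Int.ofNat 0, Int.ofNat 0, Int.ofNat 0, Int.negSucc 1, Int.ofNat 0, Int.ofNat 0, Int.ofNat 0, Int.ofNat 2, Int.ofNat 0, Int.ofNat 0, Int.ofNat 2, Int.ofNat 2],
  [Int.ofNat 0, Int.ofNat 0, Int.negSucc 1, Int.ofNat 0, Int.ofNat 0, Int.ofNat 0, Int.ofNat 0, Int.ofNat 0, Int.ofNat 2, Int.ofNat 0, Int.ofNat 0, Int.ofNat 0, Int.negSucc 1, Int.ofNat 0, Int.ofNat 0, Int.ofNat 0, Int.ofNat 2, Int.ofNat 0, Int.ofNat 0, Int.ofNat 2, Int.ofNat 0, Int.negSucc 1, Int.negSucc 1, Int.ofNat 2],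
  [Int.ofNat 0, Int.ofNat 0, Int.ofNat 2, Int.ofNat 0, Int.ofNat 0, Int.ofNat 0, Int.ofNat 0, Int.ofNat 0, Int.ofNat 2, Int.ofNat 0, Int.ofNat 0, Int.ofNat 0, Int.negSucc 1, Int.ofNat 0, Int.ofNat 0, Int.ofNat 0, Int.ofNat 2, Int.ofNat 0, Int.ofNat 0, Int.ofNat 2, Int.ofNat 0, Int.negSucc 1, Int.negSucc 1, Int.negSucc 1],
  [Int.ofNat 0, Int.ofNat 0, Int.ofNat 0, Int.ofNat 0, Int.ofNat 0, Int.ofNat 0, Int.ofNat 2, Int.ofNat 0, Int.negSucc 1, Int.ofNat 0, Int.ofNat 0, Int.ofNat 0, Int.ofNat 0, Int.ofNat 2, Int.negSucc 1, Int.ofNat 0, Int.ofNat 2, Int.ofNat 0, Int.ofNat 0, Int.ofNat 0, Int.negSucc 1, Int.ofNat 0, Int.ofNat 2, Int.negSucc 1],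
  [Int.negSucc 0, Int.negSucc 0, Int.negSucc 0, Int.ofNat 1, Int.negSucc 2, Int.ofNat 1, Int.ofNat 1, Int.negSucc 0, Int.negSucc 0, Int.ofNat 1, Int.ofNat 1, Int.ofNat 1, Int.ofNat 1, Int.negSucc 0, Int.negSucc 0, Int.ofNat 1, Int.negSucc 0, Int.ofNat 1, Int.ofNat 1, Int.negSucc 0, Int.negSucc 0, Int.negSucc 0, Int.negSucc 0, Int.ofNat 1],
  [Int.negSucc 0, Int.negSucc 0, Int.ofNat 1, Int.ofNat 1, Int.negSucc 2, Int.negSucc 0, Int.negSucc 0, Int.negSucc 0, Int.negSucc 0, Int.negSucc 0, Int.negSucc 0, Int.ofNat 1, Int.ofNat 1, Int.negSucc 0, Int.negSucc 0, Int.negSucc 0, Int.negSucc 0, Int.ofNat 1, Int.negSucc 0, Int.negSucc 0, Int.negSucc 0, Int.negSucc 0, Int.ofNat 1, Int.ofNat 1],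
  [Int.negSucc 0, Int.negSucc 0, Int.ofNat 1, Int.negSucc 0, Int.negSucc 0, Int.negSucc 0, Int.negSucc 0, Int.ofNat 1, Int.negSucc 0, Int.negSucc 0, Int.negSucc 0, Int.negSucc 0, Int.negSucc 0, Int.negSucc 2, Int.ofNat 1, Int.negSucc 0, Int.negSucc 0, Int.ofNat 1, Int.negSucc 0, Int.ofNat 1, Int.negSucc 0, Int.negSucc 0, Int.ofNat 1, Int.ofNat 1],
  [Int.ofNat 1, Int.ofNat 1, Int.negSucc 0, Int.ofNat 1, Int.ofNat 1, Int.negSucc 0, Int.ofNat 1, Int.ofNat 1, Int.ofNat 1, Int.ofNat 1, Int.negSucc 0, Int.negSucc 0, Int.ofNat 1, Int.ofNat 3, Int.ofNat 1, Int.negSucc 0, Int.ofNat 1, Int.ofNat 1, Int.ofNat 1, Int.ofNat 1, Int.negSucc 0, Int.negSucc 0, Int.ofNat 1, Int.ofNat 1],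
  [Int.ofNat 1, Int.ofNat 1, Int.negSucc 0, Int.negSucc 0, Int.ofNat 1, Int.ofNat 1, Int.ofNat 1, Int.ofNat 3, Int.negSucc 0, Int.negSucc 0, Int.ofNat 1, Int.negSucc 0, Int.negSucc 0, Int.ofNat 1, Int.ofNat 1, Int.ofNat 1, Int.negSucc 0, Int.ofNat 1, Int.ofNat 1, Int.ofNat 1, Int.ofNat 1, Int.ofNat 1, Int.ofNat 1, Int.ofNat 1],
  [Int.negSucc 0, Int.ofNat 1, Int.ofNat 1, Int.negSucc 0, Int.ofNat 1, Int.ofNat 1, Int.ofNat 1, Int.negSucc 2, Int.negSucc 0, Int.ofNat 1, Int.negSucc 0, Int.ofNat 1, Int.negSucc 0, Int.ofNat 1, Int.ofNat 1, Int.ofNat 1, Int.negSucc 0, Int.ofNat 1, Int.negSucc 0, Int.ofNat 1, Int.ofNat 1, Int.negSucc 0, Int.ofNat 1, Int.ofNat 1],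
  [Int.ofNat 1, Int.negSucc 0, Int.ofNat 1, Int.ofNat 1, Int.negSucc 0, Int.ofNat 1, Int.ofNat 1, Int.ofNat 1, Int.negSucc 2, Int.negSucc 0, Int.ofNat 1, Int.negSucc 0, Int.ofNat 1, Int.negSucc 0, Int.ofNat 1, Int.ofNat 1, Int.ofNat 1, Int.negSucc 0, Int.ofNat 1, Int.negSucc 0, Int.ofNat 1, Int.ofNat 1, Int.negSucc 0, Int.ofNat 1],
  [Int.ofNat 0, Int.ofNat 2, Int.ofNat 0, Int.ofNat 0, Int.ofNat 0, Int.ofNat 0, Int.ofNat 0, Int.ofNat 0, Int.negSucc 1, Int.negSucc 1, Int.ofNat 0, Int.ofNat 0, Int.ofNat 2, Int.ofNat 0, Int.ofNat 0, Int.ofNat 0, Int.ofNat 2, Int.negSucc 1, Int.ofNat 2, Int.negSucc 1, Int.ofNat 0, Int.ofNat 0, Int.ofNat 0, Int.ofNat 0],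
  [Int.ofNat 0, Int.ofNat 0, Int.ofNat 0, Int.ofNat 0, Int.ofNat 0, Int.negSucc 1, Int.negSucc 1, Int.ofNat 0, Int.ofNat 0, Int.ofNat 2, Int.ofNat 0, Int.ofNat 0, Int.ofNat 0, Int.ofNat 2, Int.negSucc 1, Int.ofNat 2, Int.negSucc 1, Int.ofNat 0, Int.ofNat 0, Int.ofNat 0, Int.ofNat 0, Int.ofNat 2, Int.ofNat 0, Int.ofNat 0],
  [Int.ofNat 0, Int.ofNat 0, Int.ofNat 0, Int.ofNat 2, Int.ofNat 0, Int.ofNat 0, Int.negSucc 1, Int.ofNat 0, Int.ofNat 0, Int.ofNat 0, Int.negSucc 1, Int.ofNat 0, Int.ofNat 0, Int.ofNat 2, Int.ofNat 0, Int.ofNat 0, Int.negSucc 1, Int.ofNat 2, Int.ofNat 0, Int.ofNat 0, Int.negSucc 1, Int.ofNat 2, Int.ofNat 0, Int.ofNat 0],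
  [Int.ofNat 0, Int.negSucc 1, Int.ofNat 0, Int.ofNat 2, Int.ofNat 0, Int.ofNat 0, Int.ofNat 0, Int.negSucc 1, Int.ofNat 0, Int.ofNat 2, Int.negSucc 1, Int.ofNat 2, Int.ofNat 0, Int.negSucc 1, Int.ofNat 0, Int.ofNat 0, Int.ofNat 0, Int.ofNat 0, Int.ofNat 0, Int.ofNat 0, Int.ofNat 2, Int.ofNat 0, Int.ofNat 0, Int.ofNat 0],
  [Int.negSucc 0, Int.ofNat 1, Int.negSucc 0, Int.ofNat 1, Int.ofNat 1, Int.negSucc 0, Int.ofNat 1, Int.negSucc 0, Int.negSucc 0, Int.ofNat 1, Int.negSucc 2, Int.ofNat 1, Int.negSucc 0, Int.negSucc 0, Int.negSucc 0, Int.negSucc 0, Int.ofNat 1, Int.negSucc 0, Int.negSucc 0, Int.ofNat 1, Int.ofNat 1, Int.ofNat 1, Int.ofNat 1, Int.negSucc 0],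
  [Int.negSucc 0, Int.ofNat 1, Int.ofNat 1, Int.ofNat 1, Int.ofNat 1, Int.ofNat 1, Int.negSucc 0, Int.negSucc 0, Int.negSucc 0, Int.negSucc 0, Int.ofNat 3, Int.ofNat 1, Int.negSucc 0, Int.negSucc 0, Int.negSucc 0, Int.ofNat 1, Int.ofNat 1, Int.negSucc 0, Int.ofNat 1, Int.ofNat 1, Int.ofNat 1, Int.ofNat 1, Int.negSucc 0, Int.negSucc 0],
  [Int.ofNat 1, Int.negSucc 0, Int.ofNat 1, Int.negSucc 0, Int.ofNat 1, Int.negSucc 0, Int.ofNat 1, Int.ofNat 1, Int.negSucc 0, Int.negSucc 0, Int.ofNat 1, Int.ofNat 1, Int.ofNat 1, Int.ofNat 1, Int.ofNat 3, Int.ofNat 1, Int.negSucc 0, Int.negSucc 0, Int.negSucc 0, Int.ofNat 1, Int.negSucc 0, Int.ofNat 1, Int.negSucc 0, Int.negSucc 0],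
  [Int.ofNat 1, Int.negSucc 0, Int.negSucc 0, Int.negSucc 0, Int.ofNat 1, Int.ofNat 1, Int.negSucc 0, Int.ofNat 1, Int.negSucc 0, Int.ofNat 1, Int.negSucc 0, Int.ofNat 1, Int.ofNat 1, Int.ofNat 1, Int.ofNat 3, Int.negSucc 0, Int.negSucc 0, Int.negSucc 0, Int.ofNat 1, Int.ofNat 1, Int.negSucc 0, Int.ofNat 1, Int.ofNat 1, Int.negSucc 0],
  [Int.negSucc 1, Int.ofNat 0, Int.ofNat 0, Int.negSucc 1, Int.ofNat 0, Int.ofNat 0, Int.negSucc 1, Int.ofNat 0, Int.negSucc 1, Int.ofNat 2, Int.ofNat 0, Int.ofNat 0, Int.ofNat 0, Int.ofNat 0, Int.ofNat 2, Int.ofNat 0, Int.negSucc 1, Int.negSucc 1, Int.ofNat 0, Int.ofNat 0, Int.ofNat 0, Int.ofNat 0, Int.ofNat 0, Int.ofNat 0],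
  [Int.negSucc 1, Int.ofNat 0, Int.negSucc 1, Int.negSucc 1, Int.ofNat 0, Int.ofNat 0, Int.ofNat 0, Int.ofNat 0, Int.negSucc 1, Int.ofNat 0, Int.ofNat 0, Int.ofNat 0, Int.negSucc 1, Int.ofNat 2, Int.negSucc 1, Int.ofNat 0, Int.ofNat 0, Int.ofNat 0, Int.ofNat 0, Int.ofNat 0, Int.ofNat 0, Int.ofNat 0, Int.ofNat 2, Int.ofNat 0],
  [Int.ofNat 0, Int.negSucc 1, Int.ofNat 0, Int.ofNat 0, Int.negSucc 1, Int.ofNat 2, Int.ofNat 0, Int.ofNat 0, Int.ofNat 0, Int.ofNat 0, Int.ofNat 0, Int.ofNat 2, Int.ofNat 0, Int.ofNat 0, Int.ofNat 0, Int.ofNat 0, Int.negSucc 1, Int.ofNat 2, Int.ofNat 2, Int.ofNat 0, Int.ofNat 0, Int.ofNat 0, Int.ofNat 0, Int.negSucc 1],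
  [Int.ofNat 0, Int.ofNat 0, Int.ofNat 0, Int.ofNat 0, Int.negSucc 1, Int.ofNat 0, Int.ofNat 0, Int.negSucc 1, Int.ofNat 2, Int.ofNat 0, Int.ofNat 0, Int.ofNat 0, Int.ofNat 0, Int.ofNat 0, Int.ofNat 2, Int.ofNat 0, Int.ofNat 0, Int.ofNat 0, Int.ofNat 0, Int.negSucc 1, Int.ofNat 2, Int.ofNat 2, Int.ofNat 0, Int.negSucc 1],
  [Int.negSucc 0, Int.negSucc 0, Int.negSucc 0, Int.negSucc 0, Int.negSucc 0, Int.negSucc 0, Int.ofNat 1, Int.negSucc 0, Int.ofNat 1, Int.negSucc 0, Int.negSucc 0, Int.negSucc 0, Int.negSucc 0, Int.ofNat 1, Int.ofNat 1, Int.negSucc 0, Int.ofNat 1, Int.negSucc 0, Int.negSucc 0, Int.negSucc 0, Int.ofNat 1, Int.ofNat 3, Int.ofNat 1, Int.ofNat 1],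
  [Int.negSucc 0, Int.negSucc 0, Int.negSucc 0, Int.negSucc 0, Int.negSucc 0, Int.ofNat 1, Int.negSucc 0, Int.ofNat 1, Int.negSucc 0, Int.negSucc 0, Int.negSucc 0, Int.negSucc 0, Int.ofNat 1, Int.ofNat 1, Int.negSucc 0, Int.ofNat 1, Int.negSucc 0, Int.negSucc 0, Int.negSucc 0, Int.ofNat 1, Int.ofNat 3, Int.ofNat 1, Int.negSucc 0, Int.ofNat 1],
  [Int.ofNat 1, Int.negSucc 0, Int.ofNat 1, Int.negSucc 0, Int.negSucc 0, Int.ofNat 1, Int.negSucc 0, Int.negSucc 0, Int.negSucc 0, Int.ofNat 1, Int.ofNat 1, Int.ofNat 1, Int.ofNat 1, Int.ofNat 1, Int.negSucc 0, Int.ofNat 1, Int.negSucc 0, Int.negSucc 0, Int.ofNat 1, Int.ofNat 1, Int.ofNat 3, Int.negSucc 0, Int.negSucc 0, Int.ofNat 1],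
  [Int.ofNat 1, Int.ofNat 1, Int.ofNat 1, Int.negSucc 0, Int.negSucc 0, Int.ofNat 1, Int.negSucc 0, Int.ofNat 3, Int.ofNat 1, Int.negSucc 0, Int.negSucc 0, Int.negSucc 0, Int.ofNat 1, Int.negSucc 0, Int.ofNat 1, Int.ofNat 1, Int.ofNat 1, Int.negSucc 0, Int.negSucc 0, Int.negSucc 0, Int.ofNat 1, Int.negSucc 0, Int.ofNat 1, Int.ofNat 1],
  [Int.negSucc 0, Int.ofNat 1, Int.negSucc 0, Int.negSucc 0, Int.negSucc 0, Int.ofNat 1, Int.negSucc 0, Int.negSucc 2, Int.ofNat 1, Int.ofNat 1, Int.ofNat 1, Int.ofNat 1, Int.ofNat 1, Int.negSucc 0, Int.ofNat 1, Int.ofNat 1, Int.ofNat 1, Int.negSucc 0, Int.ofNat 1, Int.negSucc 0, Int.ofNat 1, Int.ofNat 1, Int.ofNat 1, Int.ofNat 1],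
  [Int.ofNat 1, Int.negSucc 0, Int.ofNat 1, Int.negSucc 0, Int.negSucc 0, Int.negSucc 0, Int.ofNat 1, Int.negSucc 0, Int.negSucc 2, Int.ofNat 1, Int.ofNat 1, Int.ofNat 1, Int.ofNat 1, Int.ofNat 1, Int.negSucc 0, Int.ofNat 1, Int.ofNat 1, Int.ofNat 1, Int.negSucc 0, Int.ofNat 1, Int.negSucc 0, Int.ofNat 1, Int.ofNat 1, Int.ofNat 1],
  [Int.ofNat 0, Int.ofNat 2, Int.ofNat 0, Int.ofNat 0, Int.negSucc 1, Int.ofNat 0, Int.ofNat 0, Int.negSucc 1, Int.negSucc 1, Int.ofNat 0, Int.ofNat 0, Int.ofNat 2, Int.ofNat 2, Int.ofNat 0, Int.ofNat 0, Int.ofNat 0, Int.ofNat 0, Int.ofNat 2, Int.ofNat 0, Int.ofNat 0, Int.negSucc 1, Int.ofNat 0, Int.ofNat 0, Int.ofNat 0],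
  [Int.ofNat 0, Int.negSucc 1, Int.ofNat 0, Int.ofNat 0, Int.negSucc 1, Int.negSucc 1, Int.ofNat 0, Int.ofNat 0, Int.ofNat 2, Int.ofNat 2, Int.ofNat 0, Int.ofNat 0, Int.ofNat 0, Int.ofNat 0, Int.ofNat 2, Int.ofNat 0, Int.ofNat 0, Int.negSucc 1, Int.ofNat 0, Int.ofNat 0, Int.ofNat 0, Int.ofNat 2, Int.ofNat 0, Int.ofNat 0],
  [Int.negSucc 0, Int.ofNat 1, Int.negSucc 0, Int.ofNat 1, Int.negSucc 0, Int.negSucc 0, Int.negSucc 0, Int.negSucc 0, Int.ofNat 1, Int.ofNat 1, Int.negSucc 0, Int.negSucc 0, Int.negSucc 0, Int.ofNat 1, Int.ofNat 3, Int.negSucc 0, Int.ofNat 1, Int.negSucc 0, Int.negSucc 0, Int.negSucc 0, Int.negSucc 0, Int.ofNat 1, Int.ofNat 1, Int.negSucc 0],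
  [Int.negSucc 0, Int.negSucc 0, Int.negSucc 0, Int.ofNat 1, Int.negSucc 0, Int.negSucc 0, Int.negSucc 0, Int.negSucc 0, Int.negSucc 0, Int.ofNat 1, Int.negSucc 0, Int.negSucc 0, Int.ofNat 1, Int.ofNat 1, Int.ofNat 1, Int.negSucc 0, Int.ofNat 1, Int.ofNat 3, Int.ofNat 1, Int.negSucc 0, Int.ofNat 1, Int.negSucc 0, Int.negSucc 0, Int.negSucc 0],
  [Int.negSucc 0, Int.negSucc 0, Int.negSucc 0, Int.negSucc 0, Int.negSucc 0, Int.negSucc 2, Int.ofNat 1, Int.ofNat 1, Int.negSucc 0, Int.ofNat 1, Int.negSucc 0, Int.negSucc 0, Int.ofNat 1, Int.ofNat 1, Int.negSucc 0, Int.negSucc 0, Int.ofNat 1, Int.ofNat 1, Int.ofNat 1, Int.ofNat 1, Int.ofNat 1, Int.ofNat 1, Int.negSucc 0, Int.negSucc 0],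
  [Int.negSucc 0, Int.negSucc 0, Int.ofNat 1, Int.negSucc 0, Int.negSucc 0, Int.ofNat 3, Int.negSucc 0, Int.ofNat 1, Int.negSucc 0, Int.negSucc 0, Int.ofNat 1, Int.negSucc 0, Int.ofNat 1, Int.ofNat 1, Int.negSucc 0, Int.ofNat 1, Int.ofNat 1, Int.ofNat 1, Int.negSucc 0, Int.ofNat 1, Int.ofNat 1, Int.ofNat 1, Int.ofNat 1, Int.negSucc 0],
  [Int.ofNat 1, Int.ofNat 1, Int.negSucc 0, Int.negSucc 0, Int.negSucc 0, Int.negSucc 0, Int.ofNat 1, Int.negSucc 0, Int.ofNat 3, Int.ofNat 1, Int.ofNat 1, Int.ofNat 1, Int.ofNat 1, Int.negSucc 0, Int.ofNat 1, Int.negSucc 0, Int.ofNat 1, Int.ofNat 1, Int.negSucc 0, Int.ofNat 1, Int.negSucc 0, Int.negSucc 0, Int.ofNat 1, Int.negSucc 0],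
  [Int.negSucc 0, Int.negSucc 0, Int.ofNat 1, Int.ofNat 1, Int.ofNat 1, Int.negSucc 0, Int.negSucc 0, Int.negSucc 0, Int.negSucc 2, Int.negSucc 0, Int.ofNat 1, Int.ofNat 1, Int.negSucc 0, Int.ofNat 1, Int.ofNat 1, Int.negSucc 0, Int.negSucc 0, Int.ofNat 1, Int.ofNat 1, Int.ofNat 1, Int.negSucc 0, Int.negSucc 0, Int.ofNat 1, Int.negSucc 0],
  [Int.negSucc 0, Int.ofNat 1, Int.ofNat 1, Int.negSucc 0, Int.ofNat 1, Int.negSucc 0, Int.ofNat 1, Int.ofNat 1, Int.negSucc 0, Int.negSucc 0, Int.negSucc 0, Int.ofNat 1, Int.negSucc 0, Int.negSucc 0, Int.ofNat 1, Int.ofNat 1, Int.ofNat 1, Int.ofNat 1, Int.ofNat 1, Int.negSucc 0, Int.negSucc 2, Int.negSucc 0, Int.negSucc 0, Int.negSucc 0],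
  [Int.ofNat 1, Int.ofNat 1, Int.negSucc 0, Int.negSucc 0, Int.ofNat 1, Int.negSucc 0, Int.ofNat 1, Int.negSucc 0, Int.negSucc 0, Int.ofNat 1, Int.ofNat 1, Int.negSucc 0, Int.negSucc 0, Int.negSucc 0, Int.ofNat 1, Int.ofNat 1, Int.ofNat 1, Int.ofNat 1, Int.negSucc 0, Int.negSucc 0, Int.negSucc 2, Int.ofNat 1, Int.negSucc 0, Int.negSucc 0],
  [Int.negSucc 0, Int.ofNat 1, Int.ofNat 1, Int.negSucc 0, Int.negSucc 0, Int.ofNat 1, Int.negSucc 0, Int.ofNat 1, Int.negSucc 0, Int.negSucc 0, Int.ofNat 1, Int.ofNat 1, Int.negSucc 0, Int.negSucc 0, Int.negSucc 0, Int.ofNat 1, Int.ofNat 1, Int.ofNat 1, Int.ofNat 1, Int.negSucc 0, Int.negSucc 0, Int.negSucc 2, Int.ofNat 1, Int.negSucc 0],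
  [Int.ofNat 1, Int.negSucc 0, Int.negSucc 0, Int.negSucc 0, Int.negSucc 0, Int.ofNat 1, Int.ofNat 1, Int.ofNat 3, Int.negSucc 0, Int.negSucc 0, Int.ofNat 1, Int.ofNat 1, Int.negSucc 0, Int.negSucc 0, Int.negSucc 0, Int.ofNat 1, Int.ofNat 1, Int.ofNat 1, Int.ofNat 1, Int.ofNat 1, Int.negSucc 0, Int.negSucc 0, Int.ofNat 1, Int.ofNat 1],
  [Int.negSucc 0, Int.negSucc 0, Int.ofNat 1, Int.ofNat 1, Int.ofNat 3, Int.negSucc 0, Int.negSucc 0, Int.ofNat 1, Int.ofNat 1, Int.negSucc 0, Int.negSucc 0, Int.negSucc 0, Int.ofNat 1, Int.ofNat 1, Int.ofNat 1, Int.ofNat 1, Int.ofNat 1, Int.negSucc 0, Int.negSucc 0, Int.ofNat 1, Int.ofNat 1, Int.negSucc 0, Int.negSucc 0, Int.ofNat 1],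
  [Int.ofNat 1, Int.ofNat 1, Int.negSucc 0, Int.ofNat 1, Int.ofNat 1, Int.negSucc 0, Int.negSucc 0, Int.ofNat 1, Int.ofNat 1, Int.negSucc 0, Int.negSucc 0, Int.negSucc 0, Int.ofNat 1, Int.negSucc 0, Int.ofNat 1, Int.ofNat 1, Int.negSucc 0, Int.negSucc 0, Int.negSucc 0, Int.ofNat 1, Int.ofNat 1, Int.negSucc 0, Int.negSucc 2, Int.negSucc 0],
  [Int.ofNat 1, Int.negSucc 0, Int.ofNat 1, Int.ofNat 1, Int.negSucc 0, Int.ofNat 1, Int.negSucc 0, Int.negSucc 0, Int.ofNat 1, Int.negSucc 0, Int.ofNat 1, Int.negSucc 0, Int.negSucc 0, Int.negSucc 0, Int.negSucc 2, Int.ofNat 1, Int.ofNat 1, Int.ofNat 1, Int.ofNat 1, Int.negSucc 0, Int.negSucc 0, Int.negSucc 0, Int.ofNat 1, Int.negSucc 0],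
  [Int.negSucc 0, Int.ofNat 1, Int.negSucc 0, Int.ofNat 1, Int.negSucc 0, Int.ofNat 1, Int.ofNat 1, Int.ofNat 1, Int.ofNat 1, Int.negSucc 0, Int.ofNat 1, Int.negSucc 0, Int.negSucc 0, Int.negSucc 0, Int.negSucc 2, Int.ofNat 1, Int.ofNat 1, Int.ofNat 1, Int.ofNat 1, Int.ofNat 1, Int.negSucc 0, Int.ofNat 1, Int.ofNat 1, Int.ofNat 1],
  [Int.negSucc 0, Int.ofNat 1, Int.ofNat 1, Int.ofNat 1, Int.negSucc 0, Int.negSucc 0, Int.negSucc 0, Int.ofNat 1, Int.ofNat 1, Int.ofNat 1, Int.negSucc 0, Int.negSucc 0, Int.negSucc 0, Int.negSucc 0, Int.negSucc 2, Int.negSucc 0, Int.ofNat 1, Int.ofNat 1, Int.negSucc 0, Int.ofNat 1, Int.negSucc 0, Int.ofNat 1, Int.negSucc 0, Int.ofNat 1],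
  [Int.ofNat 1, Int.negSucc 0, Int.negSucc 0, Int.ofNat 1, Int.negSucc 0, Int.negSucc 2, Int.ofNat 1, Int.ofNat 1, Int.negSucc 0, Int.ofNat 1, Int.ofNat 1, Int.ofNat 1, Int.negSucc 0, Int.ofNat 1, Int.negSucc 0, Int.negSucc 0, Int.negSucc 0, Int.negSucc 0, Int.ofNat 1, Int.negSucc 0, Int.negSucc 0, Int.negSucc 0, Int.ofNat 1, Int.ofNat 1],
  [Int.ofNat 1, Int.negSucc 0, Int.ofNat 1, Int.ofNat 1, Int.negSucc 0, Int.ofNat 3, Int.negSucc 0, Int.ofNat 1, Int.negSucc 0, Int.negSucc 0, Int.negSucc 0, Int.ofNat 1, Int.negSucc 0, Int.ofNat 1, Int.negSucc 0, Int.ofNat 1, Int.negSucc 0, Int.negSucc 0, Int.negSucc 0, Int.negSucc 0, Int.negSucc 0, Int.negSucc 0, Int.negSucc 0, Int.ofNat 1],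
  [Int.ofNat 0, Int.ofNat 2, Int.ofNat 0, Int.ofNat 0, Int.ofNat 0, Int.ofNat 2, Int.ofNat 0, Int.ofNat 2, Int.ofNat 0, Int.ofNat 0, Int.ofNat 0, Int.ofNat 2, Int.ofNat 0, Int.ofNat 2, Int.negSucc 1, Int.ofNat 2, Int.ofNat 0, Int.negSucc 1, Int.ofNat 0, Int.ofNat 0, Int.ofNat 0, Int.ofNat 0, Int.ofNat 0, Int.ofNat 0],
  [Int.ofNat 0, Int.ofNat 0, Int.ofNat 0, Int.ofNat 0, Int.ofNat 0, Int.ofNat 0, Int.ofNat 2, Int.ofNat 2, Int.ofNat 0, Int.ofNat 0, Int.ofNat 2, Int.ofNat 0, Int.ofNat 0, Int.ofNat 0, Int.negSucc 1, Int.ofNat 2, Int.ofNat 2, Int.ofNat 2, Int.ofNat 0, Int.ofNat 0, Int.ofNat 0, Int.ofNat 0, Int.negSucc 1, Int.ofNat 0],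
  [Int.ofNat 0, Int.ofNat 0, Int.ofNat 0, Int.ofNat 0, Int.ofNat 0, Int.ofNat 0, Int.ofNat 0, Int.ofNat 0, Int.ofNat 0, Int.negSucc 1, Int.ofNat 0, Int.ofNat 0, Int.ofNat 0, Int.ofNat 0, Int.negSucc 1, Int.ofNat 0, Int.ofNat 2, Int.ofNat 2, Int.ofNat 0, Int.negSucc 1, Int.negSucc 1, Int.negSucc 1, Int.negSucc 1, Int.ofNat 0],
  [Int.negSucc 1, Int.negSucc 1, Int.negSucc 1, Int.ofNat 0, Int.ofNat 0, Int.ofNat 0, Int.ofNat 0, Int.ofNat 0, Int.ofNat 0, Int.ofNat 0, Int.ofNat 0, Int.ofNat 0, Int.negSucc 1, Int.ofNat 0, Int.ofNat 0, Int.ofNat 0, Int.ofNat 0, Int.negSucc 1, Int.ofNat 0, Int.ofNat 2, Int.ofNat 2, Int.ofNat 0, Int.negSucc 1, Int.ofNat 0],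
  [Int.negSucc 0, Int.negSucc 0, Int.negSucc 0, Int.ofNat 1, Int.ofNat 1, Int.ofNat 1, Int.negSucc 0, Int.negSucc 0, Int.ofNat 1, Int.negSucc 0, Int.negSucc 0, Int.ofNat 1, Int.negSucc 0, Int.ofNat 1, Int.ofNat 1, Int.negSucc 0, Int.ofNat 1, Int.negSucc 0, Int.ofNat 1, Int.ofNat 1, Int.ofNat 1, Int.negSucc 0, Int.negSucc 0, Int.negSucc 2],
  [Int.negSucc 0, Int.negSucc 0, Int.ofNat 1, Int.ofNat 1, Int.ofNat 1, Int.negSucc 0, Int.negSucc 0, Int.ofNat 1, Int.negSucc 0, Int.negSucc 0, Int.ofNat 1, Int.negSucc 0, Int.ofNat 1, Int.ofNat 1, Int.negSucc 0, Int.ofNat 1, Int.negSucc 0, Int.ofNat 1, Int.ofNat 1, Int.ofNat 1, Int.negSucc 0, Int.negSucc 0, Int.negSucc 0, Int.negSucc 2],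
  [Int.ofNat 1, Int.negSucc 0, Int.negSucc 0, Int.ofNat 1, Int.ofNat 1, Int.negSucc 0, Int.negSucc 0, Int.negSucc 0, Int.negSucc 0, Int.ofNat 1, Int.negSucc 0, Int.ofNat 1, Int.ofNat 1, Int.ofNat 1, Int.negSucc 0, Int.ofNat 1, Int.negSucc 0, Int.ofNat 1, Int.negSucc 0, Int.ofNat 1, Int.negSucc 0, Int.ofNat 1, Int.negSucc 0, Int.negSucc 2],
  [Int.ofNat 1, Int.negSucc 0, Int.negSucc 0, Int.ofNat 1, Int.negSucc 0, Int.negSucc 0, Int.ofNat 1, Int.negSucc 0, Int.ofNat 1, Int.negSucc 0, Int.ofNat 1, Int.negSucc 0, Int.ofNat 1, Int.negSucc 0, Int.ofNat 1, Int.ofNat 1, Int.ofNat 1, Int.negSucc 0, Int.negSucc 0, Int.ofNat 1, Int.negSucc 0, Int.negSucc 0, Int.ofNat 1, Int.negSucc 2],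
  [Int.negSucc 0, Int.negSucc 0, Int.ofNat 1, Int.ofNat 1, Int.negSucc 0, Int.negSucc 0, Int.ofNat 1, Int.ofNat 1, Int.ofNat 1, Int.ofNat 1, Int.negSucc 0, Int.ofNat 1, Int.ofNat 1, Int.negSucc 0, Int.ofNat 1, Int.ofNat 1, Int.ofNat 1, Int.negSucc 0, Int.ofNat 1, Int.ofNat 1, Int.negSucc 0, Int.ofNat 1, Int.ofNat 1, Int.negSucc 2],
  [Int.ofNat 1, Int.negSucc 0, Int.negSucc 0, Int.ofNat 1, Int.ofNat 1, Int.negSucc 0, Int.negSucc 0, Int.ofNat 1, Int.ofNat 1, Int.ofNat 1, Int.ofNat 1, Int.negSucc 0, Int.ofNat 1, Int.ofNat 1, Int.negSucc 0, Int.ofNat 1, Int.ofNat 1, Int.ofNat 1, Int.negSucc 0, Int.ofNat 1, Int.ofNat 1, Int.negSucc 0, Int.ofNat 1, Int.negSucc 2],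
  [Int.negSucc 2, Int.negSucc 0, Int.negSucc 0, Int.ofNat 1, Int.negSucc 0, Int.negSucc 0, Int.negSucc 0, Int.ofNat 1, Int.ofNat 1, Int.negSucc 0, Int.negSucc 0, Int.negSucc 0, Int.ofNat 1, Int.negSucc 0, Int.negSucc 0, Int.negSucc 0, Int.negSucc 0, Int.ofNat 1, Int.negSucc 0, Int.ofNat 1, Int.negSucc 0, Int.negSucc 0, Int.negSucc 0, Int.ofNat 1],
  [Int.ofNat 1, Int.negSucc 0, Int.negSucc 0, Int.negSucc 0, Int.ofNat 1, Int.ofNat 1, Int.negSucc 0, Int.negSucc 0, Int.negSucc 0, Int.ofNat 1, Int.negSucc 0, Int.negSucc 0, Int.negSucc 0, Int.negSucc 0, Int.ofNat 1, Int.negSucc 0, Int.ofNat 1, Int.negSucc 0, Int.negSucc 0, Int.negSucc 0, Int.negSucc 2, Int.negSucc 0, Int.negSucc 0, Int.ofNat 1],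
  [Int.negSucc 0, Int.ofNat 1, Int.ofNat 1, Int.negSucc 0, Int.ofNat 1, Int.ofNat 1, Int.ofNat 1, Int.ofNat 1, Int.ofNat 1, Int.ofNat 3, Int.ofNat 1, Int.ofNat 1, Int.ofNat 1, Int.negSucc 0, Int.ofNat 1, Int.ofNat 1, Int.ofNat 1, Int.negSucc 0, Int.ofNat 1, Int.ofNat 1, Int.negSucc 0, Int.ofNat 1, Int.negSucc 0, Int.negSucc 0],
  [Int.negSucc 0, Int.ofNat 1, Int.ofNat 1, Int.negSucc 0, Int.ofNat 1, Int.ofNat 1, Int.ofNat 1, Int.ofNat 1, Int.ofNat 1, Int.negSucc 0, Int.negSucc 0, Int.negSucc 0, Int.ofNat 3, Int.ofNat 1, Int.negSucc 0, Int.ofNat 1, Int.ofNat 1, Int.ofNat 1, Int.ofNat 1, Int.ofNat 1, Int.ofNat 1, Int.ofNat 1, Int.ofNat 1, Int.negSucc 0],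
  [Int.ofNat 1, Int.negSucc 0, Int.negSucc 0, Int.negSucc 0, Int.negSucc 0, Int.ofNat 1, Int.negSucc 0, Int.negSucc 0, Int.negSucc 0, Int.negSucc 0, Int.negSucc 0, Int.negSucc 2, Int.ofNat 1, Int.negSucc 0, Int.negSucc 0, Int.ofNat 1, Int.negSucc 0, Int.ofNat 1, Int.negSucc 0, Int.negSucc 0, Int.ofNat 1, Int.negSucc 0, Int.negSucc 0, Int.ofNat 1],
  [Int.ofNat 1, Int.negSucc 0, Int.ofNat 1, Int.negSucc 0, Int.negSucc 0, Int.negSucc 0, Int.ofNat 1, Int.negSucc 0, Int.negSucc 0, Int.ofNat 1, Int.ofNat 1, Int.negSucc 2, Int.ofNat 1, Int.negSucc 0, Int.negSucc 0, Int.negSucc 0, Int.negSucc 0, Int.ofNat 1, Int.ofNat 1, Int.negSucc 0, Int.ofNat 1, Int.negSucc 0, Int.ofNat 1, Int.ofNat 1],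
  [Int.ofNat 1, Int.negSucc 0, Int.negSucc 2, Int.negSucc 0, Int.negSucc 0, Int.ofNat 1, Int.negSucc 0, Int.negSucc 0, Int.negSucc 0, Int.ofNat 1, Int.negSucc 0, Int.negSucc 0, Int.negSucc 0, Int.negSucc 0, Int.ofNat 1, Int.ofNat 1, Int.negSucc 0, Int.ofNat 1, Int.ofNat 1, Int.ofNat 1, Int.ofNat 1, Int.negSucc 0, Int.ofNat 1, Int.ofNat 1],
  [Int.negSucc 0, Int.ofNat 1, Int.ofNat 3, Int.ofNat 1, Int.ofNat 1, Int.ofNat 1, Int.ofNat 1, Int.negSucc 0, Int.ofNat 1, Int.negSucc 0, Int.negSucc 0, Int.negSucc 0, Int.ofNat 1, Int.ofNat 1, Int.ofNat 1, Int.ofNat 1, Int.ofNat 1, Int.ofNat 1, Int.negSucc 0, Int.ofNat 1, Int.ofNat 1, Int.negSucc 0, Int.ofNat 1, Int.ofNat 1],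
  [Int.ofNat 1, Int.ofNat 1, Int.negSucc 0, Int.ofNat 1, Int.ofNat 1, Int.negSucc 0, Int.ofNat 1, Int.ofNat 1, Int.ofNat 1, Int.ofNat 1, Int.ofNat 1, Int.ofNat 3, Int.negSucc 0, Int.negSucc 0, Int.negSucc 0, Int.ofNat 1, Int.negSucc 0, Int.ofNat 1, Int.ofNat 1, Int.ofNat 1, Int.ofNat 1, Int.ofNat 1, Int.ofNat 1, Int.negSucc 0],
  [Int.negSucc 0, Int.ofNat 1, Int.ofNat 1, Int.ofNat 1, Int.ofNat 1, Int.negSucc 0, Int.ofNat 1, Int.negSucc 0, Int.ofNat 1, Int.negSucc 0, Int.negSucc 0, Int.negSucc 2, Int.negSucc 0, Int.negSucc 0, Int.negSucc 0, Int.ofNat 1, Int.negSucc 0, Int.ofNat 1, Int.negSucc 0, Int.ofNat 1, Int.ofNat 1, Int.negSucc 0, Int.ofNat 1, Int.negSucc 0],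
  [Int.ofNat 1, Int.negSucc 0, Int.ofNat 1, Int.ofNat 1, Int.ofNat 1, Int.ofNat 1, Int.negSucc 0, Int.ofNat 1, Int.negSucc 0, Int.ofNat 1, Int.negSucc 0, Int.negSucc 0, Int.negSucc 2, Int.negSucc 0, Int.negSucc 0, Int.negSucc 0, Int.ofNat 1, Int.negSucc 0, Int.ofNat 1, Int.negSucc 0, Int.ofNat 1, Int.ofNat 1, Int.negSucc 0, Int.negSucc 0],
  [Int.negSucc 0, Int.ofNat 1, Int.negSucc 0, Int.ofNat 1, Int.ofNat 1, Int.ofNat 1, Int.negSucc 0, Int.ofNat 1, Int.ofNat 1, Int.ofNat 1, Int.negSucc 0, Int.ofNat 1, Int.negSucc 0, Int.negSucc 0, Int.negSucc 0, Int.negSucc 0, Int.ofNat 1, Int.negSucc 0, Int.ofNat 3, Int.negSucc 0, Int.ofNat 1, Int.ofNat 1, Int.negSucc 0, Int.ofNat 1],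
  [Int.ofNat 1, Int.ofNat 1, Int.ofNat 1, Int.negSucc 0, Int.ofNat 1, Int.ofNat 1, Int.ofNat 1, Int.negSucc 0, Int.ofNat 1, Int.negSucc 0, Int.negSucc 0, Int.negSucc 0, Int.negSucc 0, Int.ofNat 1, Int.negSucc 0, Int.ofNat 3, Int.negSucc 0, Int.ofNat 1, Int.ofNat 1, Int.negSucc 0, Int.negSucc 0, Int.ofNat 1, Int.negSucc 0, Int.ofNat 1],
  [Int.ofNat 1, Int.ofNat 1, Int.ofNat 1, Int.negSucc 0, Int.ofNat 1, Int.ofNat 1, Int.ofNat 1, Int.negSucc 0, Int.ofNat 1, Int.negSucc 0, Int.negSucc 0, Int.negSucc 0, Int.negSucc 0, Int.ofNat 1, Int.negSucc 0, Int.ofNat 3, Int.negSucc 0, Int.ofNat 1, Int.ofNat 1, Int.negSucc 0, Int.negSucc 0, Int.ofNat 1, Int.negSucc 0, Int.ofNat 1],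
  [Int.ofNat 1, Int.ofNat 1, Int.ofNat 1, Int.negSucc 0, Int.ofNat 1, Int.negSucc 0, Int.ofNat 1, Int.negSucc 0, Int.negSucc 0, Int.ofNat 1, Int.negSucc 0, Int.ofNat 1, Int.negSucc 0, Int.negSucc 0, Int.negSucc 0, Int.ofNat 3, Int.ofNat 1, Int.negSucc 0, Int.ofNat 1, Int.negSucc 0, Int.ofNat 1, Int.ofNat 1, Int.negSucc 0, Int.ofNat 1],
  [Int.ofNat 1, Int.ofNat 1, Int.ofNat 1, Int.ofNat 1, Int.ofNat 1, Int.ofNat 1, Int.ofNat 1, Int.negSucc 0, Int.negSucc 0, Int.negSucc 0, Int.negSucc 2, Int.ofNat 1, Int.negSucc 0, Int.negSucc 0, Int.ofNat 1, Int.ofNat 1, Int.ofNat 1, Int.ofNat 1, Int.ofNat 1, Int.negSucc 0, Int.negSucc 0, Int.ofNat 1, Int.negSucc 0, Int.ofNat 1],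
  [Int.ofNat 1, Int.ofNat 1, Int.negSucc 0, Int.ofNat 1, Int.ofNat 1, Int.negSucc 0, Int.negSucc 0, Int.negSucc 0, Int.negSucc 0, Int.ofNat 1, Int.ofNat 3, Int.ofNat 1, Int.negSucc 0, Int.negSucc 0, Int.ofNat 1, Int.negSucc 0, Int.ofNat 1, Int.ofNat 1, Int.negSucc 0, Int.negSucc 0, Int.negSucc 0, Int.ofNat 1, Int.ofNat 1, Int.ofNat 1],
  [Int.negSucc 0, Int.negSucc 0, Int.negSucc 0, Int.negSucc 0, Int.negSucc 0, Int.ofNat 1, Int.ofNat 1, Int.ofNat 1, Int.ofNat 1, Int.ofNat 1, Int.negSucc 0, Int.ofNat 1, Int.ofNat 1, Int.ofNat 1, Int.ofNat 3, Int.negSucc 0, Int.ofNat 1, Int.negSucc 0, Int.negSucc 0, Int.negSucc 0, Int.negSucc 0, Int.ofNat 1, Int.ofNat 1, Int.ofNat 1],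
  [Int.negSucc 0, Int.negSucc 0, Int.ofNat 1, Int.negSucc 0, Int.negSucc 0, Int.negSucc 0, Int.negSucc 0, Int.ofNat 1, Int.ofNat 1, Int.negSucc 0, Int.ofNat 1, Int.ofNat 1, Int.ofNat 1, Int.ofNat 1, Int.ofNat 3, Int.ofNat 1, Int.ofNat 1, Int.negSucc 0, Int.ofNat 1, Int.negSucc 0, Int.negSucc 0, Int.ofNat 1, Int.negSucc 0, Int.ofNat 1],
  [Int.ofNat 1, Int.ofNat 1, Int.negSucc 0, Int.negSucc 0, Int.negSucc 0, Int.negSucc 0, Int.negSucc 0, Int.ofNat 1, Int.negSucc 0, Int.negSucc 0, Int.ofNat 1, Int.negSucc 0, Int.negSucc 0, Int.ofNat 1, Int.ofNat 3, Int.ofNat 1, Int.ofNat 1, Int.negSucc 0, Int.negSucc 0, Int.negSucc 0, Int.negSucc 0, Int.ofNat 1, Int.negSucc 0, Int.negSucc 0],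
  [Int.ofNat 1, Int.negSucc 0, Int.negSucc 0, Int.negSucc 0, Int.negSucc 0, Int.ofNat 1, Int.ofNat 1, Int.negSucc 0, Int.ofNat 1, Int.negSucc 0, Int.ofNat 1, Int.negSucc 0, Int.negSucc 0, Int.negSucc 0, Int.negSucc 0, Int.ofNat 1, Int.ofNat 1, Int.negSucc 0, Int.negSucc 0, Int.negSucc 0, Int.ofNat 1, Int.negSucc 0, Int.ofNat 3, Int.negSucc 0],
  [Int.negSucc 1, Int.ofNat 0, Int.ofNat 0, Int.ofNat 0, Int.negSucc 1, Int.ofNat 2, Int.ofNat 2, Int.ofNat 0, Int.ofNat 2, Int.negSucc 1, Int.ofNat 0, Int.ofNat 0, Int.ofNat 0, Int.negSucc 1, Int.ofNat 0, Int.ofNat 0, Int.ofNat 0, Int.ofNat 0, Int.ofNat 0, Int.ofNat 0, Int.ofNat 0, Int.ofNat 0, Int.ofNat 2, Int.ofNat 0],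
  [Int.ofNat 0, Int.ofNat 0, Int.ofNat 2, Int.negSucc 1, Int.ofNat 0, Int.ofNat 0, Int.ofNat 0, Int.negSucc 1, Int.ofNat 2, Int.ofNat 2, Int.ofNat 0, Int.ofNat 2, Int.negSucc 1, Int.ofNat 0, Int.ofNat 0, Int.ofNat 0, Int.negSucc 1, Int.ofNat 0, Int.ofNat 0, Int.ofNat 0, Int.ofNat 0, Int.ofNat 0, Int.ofNat 0, Int.ofNat 0],
  [Int.ofNat 1, Int.ofNat 1, Int.negSucc 0, Int.negSucc 0, Int.ofNat 1, Int.ofNat 1, Int.ofNat 1, Int.negSucc 0, Int.ofNat 1, Int.ofNat 1, Int.negSucc 0, Int.ofNat 1, Int.negSucc 2, Int.ofNat 1, Int.ofNat 1, Int.negSucc 0, Int.negSucc 0, Int.ofNat 1, Int.negSucc 0, Int.ofNat 1, Int.negSucc 0, Int.ofNat 1, Int.ofNat 1, Int.ofNat 1],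
  [Int.ofNat 1, Int.negSucc 0, Int.negSucc 0, Int.ofNat 1, Int.ofNat 1, Int.ofNat 1, Int.negSucc 0, Int.ofNat 1, Int.ofNat 1, Int.negSucc 0, Int.ofNat 1, Int.negSucc 2, Int.ofNat 1, Int.ofNat 1, Int.negSucc 0, Int.negSucc 0, Int.ofNat 1, Int.negSucc 0, Int.ofNat 1, Int.negSucc 0, Int.ofNat 1, Int.ofNat 1, Int.ofNat 1, Int.ofNat 1],
  [Int.negSucc 0, Int.negSucc 0, Int.ofNat 1, Int.ofNat 1, Int.ofNat 1, Int.ofNat 1, Int.negSucc 0, Int.negSucc 0, Int.ofNat 1, Int.ofNat 1, Int.negSucc 0, Int.ofNat 3, Int.ofNat 1, Int.ofNat 1, Int.negSucc 0, Int.negSucc 0, Int.ofNat 1, Int.negSucc 0, Int.negSucc 0, Int.negSucc 0, Int.ofNat 1, Int.negSucc 0, Int.ofNat 1, Int.ofNat 1],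
  [Int.negSucc 0, Int.ofNat 1, Int.negSucc 0, Int.ofNat 1, Int.negSucc 0, Int.negSucc 0, Int.ofNat 1, Int.ofNat 1, Int.ofNat 1, Int.ofNat 1, Int.negSucc 0, Int.negSucc 0, Int.ofNat 1, Int.ofNat 1, Int.negSucc 0, Int.negSucc 0, Int.ofNat 1, Int.ofNat 1, Int.negSucc 0, Int.negSucc 0, Int.ofNat 1, Int.negSucc 0, Int.ofNat 3, Int.ofNat 1],
  [Int.ofNat 1, Int.ofNat 1, Int.ofNat 1, Int.ofNat 1, Int.negSucc 0, Int.negSucc 0, Int.ofNat 1, Int.negSucc 0, Int.ofNat 1, Int.negSucc 0, Int.ofNat 1, Int.ofNat 1, Int.ofNat 1, Int.ofNat 1, Int.negSucc 0, Int.negSucc 0, Int.ofNat 1, Int.ofNat 1, Int.ofNat 1, Int.negSucc 0, Int.ofNat 1, Int.ofNat 1, Int.ofNat 3, Int.ofNat 1],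
  [Int.ofNat 3, Int.ofNat 1, Int.ofNat 1, Int.ofNat 1, Int.ofNat 1, Int.negSucc 0, Int.negSucc 0, Int.ofNat 1, Int.negSucc 0, Int.ofNat 1, Int.negSucc 0, Int.ofNat 1, Int.ofNat 1, Int.ofNat 1, Int.ofNat 1, Int.negSucc 0, Int.negSucc 0, Int.ofNat 1, Int.ofNat 1, Int.ofNat 1, Int.negSucc 0, Int.ofNat 1, Int.ofNat 1, Int.ofNat 1],
  [Int.ofNat 0, Int.ofNat 2, Int.ofNat 2, Int.ofNat 0, Int.ofNat 0, Int.negSucc 1, Int.negSucc 1, Int.ofNat 0, Int.negSucc 1, Int.ofNat 2, Int.ofNat 0, Int.ofNat 0, Int.ofNat 0, Int.ofNat 0, Int.ofNat 0, Int.ofNat 0, Int.negSucc 1, Int.ofNat 0, Int.ofNat 0, Int.ofNat 0, Int.ofNat 0, Int.ofNat 0, Int.ofNat 0, Int.ofNat 2],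
  [Int.ofNat 0, Int.ofNat 0, Int.negSucc 1, Int.negSucc 1, Int.ofNat 0, Int.negSucc 1, Int.ofNat 2, Int.ofNat 0, Int.ofNat 0, Int.ofNat 0, Int.ofNat 0, Int.ofNat 0, Int.ofNat 0, Int.negSucc 1, Int.ofNat 0, Int.ofNat 0, Int.ofNat 0, Int.ofNat 0, Int.ofNat 0, Int.ofNat 0, Int.ofNat 0, Int.ofNat 2, Int.ofNat 2, Int.ofNat 2],
  [Int.ofNat 0, Int.ofNat 0, Int.ofNat 2, Int.ofNat 0, Int.ofNat 0, Int.ofNat 0, Int.ofNat 0, Int.negSucc 1, Int.ofNat 0, Int.ofNat 0, Int.ofNat 0, Int.ofNat 0, Int.ofNat 0, Int.negSucc 1, Int.ofNat 2, Int.ofNat 0, Int.ofNat 0, Int.ofNat 2, Int.ofNat 0, Int.negSucc 1, Int.ofNat 0, Int.ofNat 0, Int.ofNat 2, Int.negSucc 1],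
  [Int.ofNat 0, Int.ofNat 0, Int.ofNat 0, Int.ofNat 0, Int.ofNat 0, Int.negSucc 1, Int.ofNat 2, Int.ofNat 0, Int.ofNat 0, Int.negSucc 1, Int.ofNat 0, Int.ofNat 2, Int.ofNat 0, Int.ofNat 0, Int.ofNat 2, Int.ofNat 0, Int.ofNat 0, Int.ofNat 2, Int.ofNat 0, Int.ofNat 0, Int.ofNat 0, Int.ofNat 0, Int.negSucc 1, Int.negSucc 1],
  [Int.negSucc 0, Int.negSucc 0, Int.negSucc 0, Int.negSucc 0, Int.ofNat 1, Int.negSucc 2, Int.ofNat 1, Int.negSucc 0, Int.negSucc 0, Int.negSucc 0, Int.ofNat 1, Int.ofNat 1, Int.negSucc 0, Int.ofNat 1, Int.ofNat 1, Int.ofNat 1, Int.ofNat 1, Int.ofNat 1, Int.negSucc 0, Int.negSucc 0, Int.ofNat 1, Int.negSucc 0, Int.negSucc 0, Int.ofNat 1],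
  [Int.negSucc 0, Int.negSucc 0, Int.ofNat 1, Int.negSucc 0, Int.ofNat 1, Int.ofNat 3, Int.negSucc 0, Int.negSucc 0, Int.negSucc 0, Int.ofNat 1, Int.negSucc 0, Int.ofNat 1, Int.negSucc 0, Int.ofNat 1, Int.ofNat 1, Int.negSucc 0, Int.ofNat 1, Int.ofNat 1, Int.ofNat 1, Int.negSucc 0, Int.ofNat 1, Int.negSucc 0, Int.ofNat 1, Int.ofNat 1],
  [Int.negSucc 0, Int.ofNat 1, Int.ofNat 1, Int.negSucc 0, Int.ofNat 1, Int.negSucc 0, Int.negSucc 0, Int.negSucc 0, Int.ofNat 3, Int.ofNat 1, Int.ofNat 1, Int.negSucc 0, Int.negSucc 0, Int.ofNat 1, Int.ofNat 1, Int.ofNat 1, Int.negSucc 0, Int.negSucc 0, Int.ofNat 1, Int.ofNat 1, Int.negSucc 0, Int.negSucc 0, Int.ofNat 1, Int.ofNat 1],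
  [Int.ofNat 1, Int.negSucc 0, Int.negSucc 0, Int.ofNat 1, Int.negSucc 0, Int.negSucc 0, Int.ofNat 1, Int.negSucc 0, Int.negSucc 2, Int.negSucc 0, Int.ofNat 1, Int.negSucc 0, Int.ofNat 1, Int.negSucc 0, Int.ofNat 1, Int.ofNat 1, Int.ofNat 1, Int.negSucc 0, Int.negSucc 0, Int.ofNat 1, Int.negSucc 0, Int.negSucc 0, Int.ofNat 1, Int.ofNat 1],
  [Int.ofNat 1, Int.ofNat 1, Int.negSucc 0, Int.ofNat 1, Int.negSucc 0, Int.negSucc 0, Int.ofNat 1, Int.negSucc 0, Int.negSucc 0, Int.negSucc 0, Int.ofNat 1, Int.negSucc 0, Int.negSucc 0, Int.negSucc 0, Int.negSucc 0, Int.ofNat 1, Int.ofNat 1, Int.negSucc 0, Int.ofNat 1, Int.ofNat 1, Int.negSucc 2, Int.ofNat 1, Int.negSucc 0, Int.ofNat 1],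
  [Int.negSucc 0, Int.ofNat 1, Int.ofNat 1, Int.ofNat 1, Int.negSucc 0, Int.negSucc 0, Int.ofNat 1, Int.ofNat 1, Int.negSucc 0, Int.ofNat 1, Int.negSucc 0, Int.ofNat 1, Int.negSucc 0, Int.negSucc 0, Int.negSucc 0, Int.ofNat 1, Int.ofNat 1, Int.negSucc 0, Int.negSucc 0, Int.ofNat 1, Int.negSucc 2, Int.negSucc 0, Int.negSucc 0, Int.ofNat 1],
  [Int.negSucc 0, Int.negSucc 0, Int.ofNat 1, Int.ofNat 1, Int.ofNat 1, Int.negSucc 0, Int.negSucc 0, Int.ofNat 1, Int.ofNat 1, Int.negSucc 0, Int.ofNat 1, Int.negSucc 0, Int.ofNat 1, Int.negSucc 0, Int.negSucc 0, Int.negSucc 0, Int.ofNat 1, Int.ofNat 1, Int.negSucc 0, Int.negSucc 0, Int.ofNat 1, Int.negSucc 2, Int.negSucc 0, Int.ofNat 1],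
  [Int.ofNat 1, Int.ofNat 1, Int.negSucc 0, Int.ofNat 1, Int.ofNat 1, Int.negSucc 0, Int.ofNat 1, Int.ofNat 3, Int.ofNat 1, Int.negSucc 0, Int.ofNat 1, Int.negSucc 0, Int.ofNat 1, Int.negSucc 0, Int.negSucc 0, Int.negSucc 0, Int.ofNat 1, Int.ofNat 1, Int.negSucc 0, Int.ofNat 1, Int.ofNat 1, Int.negSucc 0, Int.negSucc 0, Int.negSucc 0],
  [Int.ofNat 1, Int.ofNat 1, Int.negSucc 0, Int.ofNat 1, Int.ofNat 3, Int.ofNat 1, Int.negSucc 0, Int.ofNat 1, Int.negSucc 0, Int.ofNat 1, Int.negSucc 0, Int.negSucc 0, Int.negSucc 0, Int.ofNat 1, Int.ofNat 1, Int.negSucc 0, Int.ofNat 1, Int.ofNat 1, Int.negSucc 0, Int.negSucc 0, Int.ofNat 1, Int.ofNat 1, Int.negSucc 0, Int.negSucc 0],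
  [Int.negSucc 0, Int.negSucc 0, Int.ofNat 1, Int.negSucc 0, Int.ofNat 1, Int.negSucc 0, Int.negSucc 0, Int.ofNat 1, Int.ofNat 1, Int.ofNat 1, Int.negSucc 0, Int.ofNat 1, Int.ofNat 1, Int.negSucc 0, Int.negSucc 0, Int.negSucc 0, Int.negSucc 0, Int.negSucc 0, Int.ofNat 1, Int.negSucc 0, Int.ofNat 1, Int.ofNat 1, Int.negSucc 2, Int.ofNat 1],
  [Int.negSucc 0, Int.negSucc 0, Int.ofNat 1, Int.negSucc 0, Int.ofNat 1, Int.ofNat 1, Int.ofNat 1, Int.negSucc 0, Int.ofNat 1, Int.negSucc 0, Int.ofNat 1, Int.negSucc 0, Int.ofNat 1, Int.negSucc 0, Int.negSucc 2, Int.negSucc 0, Int.ofNat 1, Int.negSucc 0, Int.negSucc 0, Int.ofNat 1, Int.ofNat 1, Int.negSucc 0, Int.negSucc 0, Int.ofNat 1],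
  [Int.ofNat 1, Int.ofNat 1, Int.negSucc 0, Int.ofNat 1, Int.ofNat 1, Int.ofNat 3, Int.ofNat 1, Int.negSucc 0, Int.ofNat 1, Int.negSucc 0, Int.ofNat 1, Int.negSucc 0, Int.ofNat 1, Int.negSucc 0, Int.negSucc 0, Int.negSucc 0, Int.ofNat 1, Int.ofNat 1, Int.negSucc 0, Int.ofNat 1, Int.ofNat 1, Int.negSucc 0, Int.negSucc 0, Int.negSucc 0],
  [Int.ofNat 1, Int.ofNat 1, Int.ofNat 1, Int.ofNat 1, Int.ofNat 1, Int.negSucc 2, Int.negSucc 0, Int.negSucc 0, Int.ofNat 1, Int.ofNat 1, Int.negSucc 0, Int.negSucc 0, Int.ofNat 1, Int.negSucc 0, Int.negSucc 0, Int.ofNat 1, Int.ofNat 1, Int.ofNat 1, Int.ofNat 1, Int.ofNat 1, Int.ofNat 1, Int.negSucc 0, Int.ofNat 1, Int.negSucc 0],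
  [Int.ofNat 1, Int.ofNat 1, Int.ofNat 1, Int.ofNat 1, Int.ofNat 1, Int.negSucc 0, Int.ofNat 1, Int.ofNat 1, Int.ofNat 1, Int.ofNat 1, Int.ofNat 1, Int.ofNat 1, Int.ofNat 1, Int.negSucc 0, Int.negSucc 0, Int.negSucc 2, Int.ofNat 1, Int.negSucc 0, Int.negSucc 0, Int.ofNat 1, Int.negSucc 0, Int.negSucc 0, Int.ofNat 1, Int.negSucc 0],
  [Int.ofNat 1, Int.ofNat 1, Int.negSucc 0, Int.ofNat 1, Int.ofNat 1, Int.ofNat 1, Int.negSucc 0, Int.ofNat 1, Int.ofNat 1, Int.negSucc 0, Int.negSucc 0, Int.ofNat 1, Int.ofNat 1, Int.negSucc 0, Int.negSucc 0, Int.ofNat 3, Int.ofNat 1, Int.negSucc 0, Int.ofNat 1, Int.ofNat 1, Int.negSucc 0, Int.negSucc 0, Int.negSucc 0, Int.negSucc 0],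
  [Int.negSucc 0, Int.negSucc 0, Int.ofNat 1, Int.ofNat 1, Int.ofNat 1, Int.ofNat 1, Int.negSucc 0, Int.ofNat 1, Int.negSucc 0, Int.negSucc 0, Int.negSucc 0, Int.negSucc 0, Int.negSucc 0, Int.negSucc 0, Int.negSucc 0, Int.ofNat 3, Int.ofNat 1, Int.negSucc 0, Int.negSucc 0, Int.ofNat 1, Int.negSucc 0, Int.negSucc 0, Int.negSucc 0, Int.ofNat 1],
  [Int.negSucc 0, Int.negSucc 0, Int.negSucc 0, Int.ofNat 1, Int.ofNat 1, Int.negSucc 0, Int.negSucc 0, Int.ofNat 1, Int.ofNat 1, Int.negSucc 0, Int.ofNat 1, Int.ofNat 1, Int.negSucc 0, Int.negSucc 0, Int.negSucc 0, Int.ofNat 3, Int.negSucc 0, Int.negSucc 0, Int.ofNat 1, Int.negSucc 0, Int.negSucc 0, Int.negSucc 0, Int.negSucc 0, Int.ofNat 1],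
  [Int.ofNat 0, Int.ofNat 0, Int.ofNat 0, Int.ofNat 2, Int.ofNat 2, Int.ofNat 0, Int.ofNat 0, Int.ofNat 2, Int.ofNat 0, Int.negSucc 1, Int.ofNat 0, Int.ofNat 0, Int.negSucc 1, Int.ofNat 0, Int.ofNat 0, Int.ofNat 2, Int.ofNat 0, Int.ofNat 0, Int.ofNat 0, Int.ofNat 0, Int.negSucc 1, Int.ofNat 0, Int.ofNat 0, Int.negSucc 1],
  [Int.negSucc 1, Int.ofNat 0, Int.ofNat 0, Int.ofNat 0, Int.ofNat 0, Int.ofNat 0, Int.ofNat 2, Int.ofNat 2, Int.ofNat 0, Int.ofNat 0, Int.ofNat 2, Int.ofNat 0, Int.negSucc 1, Int.ofNat 0, Int.ofNat 0, Int.negSucc 1, Int.ofNat 0, Int.ofNat 0, Int.ofNat 2, Int.ofNat 0, Int.ofNat 0, Int.ofNat 0, Int.ofNat 0, Int.negSucc 1],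
  [Int.ofNat 0, Int.negSucc 1, Int.negSucc 1, Int.ofNat 0, Int.ofNat 0, Int.ofNat 0, Int.ofNat 0, Int.ofNat 0, Int.ofNat 0, Int.ofNat 0, Int.ofNat 2, Int.ofNat 0, Int.negSucc 1, Int.ofNat 0, Int.ofNat 0, Int.negSucc 1, Int.ofNat 0, Int.ofNat 0, Int.ofNat 2, Int.negSucc 1, Int.ofNat 0, Int.negSucc 1, Int.ofNat 0, Int.ofNat 0],
  [Int.negSucc 1, Int.negSucc 1, Int.ofNat 0, Int.ofNat 0, Int.ofNat 0, Int.ofNat 0, Int.ofNat 0, Int.ofNat 0, Int.ofNat 0, Int.ofNat 2, Int.ofNat 0, Int.negSucc 1, Int.ofNat 0, Int.ofNat 0, Int.negSucc 1, Int.ofNat 0, Int.ofNat 0, Int.ofNat 2, Int.negSucc 1, Int.ofNat 0, Int.negSucc 1, Int.ofNat 0, Int.ofNat 0, Int.ofNat 0],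
  [Int.ofNat 2, Int.negSucc 1, Int.ofNat 0, Int.ofNat 0, Int.ofNat 0, Int.ofNat 0, Int.ofNat 0, Int.ofNat 0, Int.ofNat 0, Int.negSucc 1, Int.ofNat 0, Int.ofNat 2, Int.ofNat 0, Int.ofNat 0, Int.negSucc 1, Int.ofNat 0, Int.ofNat 0, Int.ofNat 2, Int.ofNat 2, Int.ofNat 0, Int.negSucc 1, Int.ofNat 0, Int.ofNat 0, Int.ofNat 0],
  [Int.ofNat 2, Int.ofNat 0, Int.ofNat 2, Int.ofNat 0, Int.negSucc 1, Int.ofNat 0, Int.ofNat 0, Int.negSucc 1, Int.negSucc 1, Int.ofNat 0, Int.ofNat 0, Int.negSucc 1, Int.ofNat 0, Int.ofNat 0, Int.ofNat 0, Int.ofNat 0, Int.ofNat 0, Int.ofNat 0, Int.ofNat 0, Int.ofNat 2, Int.ofNat 0, Int.ofNat 0, Int.ofNat 2, Int.ofNat 0],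
  [Int.negSucc 1, Int.ofNat 0, Int.negSucc 1, Int.ofNat 0, Int.negSucc 1, Int.ofNat 0, Int.ofNat 0, Int.ofNat 2, Int.negSucc 1, Int.ofNat 0, Int.ofNat 0, Int.ofNat 2, Int.ofNat 0, Int.ofNat 0, Int.ofNat 0, Int.ofNat 0, Int.ofNat 0, Int.ofNat 0, Int.ofNat 0, Int.ofNat 2, Int.ofNat 0, Int.ofNat 0, Int.ofNat 2, Int.ofNat 0],
  [Int.ofNat 2, Int.negSucc 1, Int.ofNat 0, Int.negSucc 1, Int.ofNat 0, Int.negSucc 1, Int.ofNat 0, Int.ofNat 0, Int.ofNat 2, Int.negSucc 1, Int.ofNat 0, Int.ofNat 0, Int.ofNat 2, Int.ofNat 0, Int.ofNat 0, Int.ofNat 0, Int.ofNat 0, Int.ofNat 0, Int.ofNat 0, Int.ofNat 0, Int.ofNat 2, Int.ofNat 0, Int.ofNat 0, Int.ofNat 0],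
  [Int.negSucc 1, Int.ofNat 2, Int.ofNat 0, Int.ofNat 0, Int.ofNat 0, Int.ofNat 0, Int.ofNat 0, Int.ofNat 0, Int.ofNat 0, Int.negSucc 1, Int.ofNat 0, Int.negSucc 1, Int.ofNat 0, Int.ofNat 0, Int.ofNat 2, Int.ofNat 0, Int.ofNat 0, Int.ofNat 2, Int.negSucc 1, Int.ofNat 0, Int.ofNat 2, Int.ofNat 0, Int.ofNat 0, Int.ofNat 0],
  [Int.ofNat 0, Int.ofNat 0, Int.ofNat 0, Int.ofNat 0, Int.ofNat 0, Int.ofNat 0, Int.negSucc 1, Int.ofNat 0, Int.negSucc 1, Int.ofNat 0, Int.ofNat 0, Int.ofNat 2, Int.ofNat 0, Int.ofNat 0, Int.ofNat 2, Int.negSucc 1, Int.ofNat 0, Int.ofNat 2, Int.ofNat 0, Int.ofNat 0, Int.negSucc 1, Int.ofNat 2, Int.ofNat 0, Int.ofNat 0],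
  [Int.ofNat 0, Int.ofNat 0, Int.ofNat 0, Int.negSucc 1, Int.ofNat 0, Int.negSucc 1, Int.negSucc 1, Int.ofNat 0, Int.negSucc 1, Int.ofNat 2, Int.ofNat 2, Int.ofNat 2, Int.ofNat 0, Int.ofNat 0, Int.ofNat 0, Int.ofNat 0, Int.ofNat 0, Int.ofNat 0, Int.ofNat 0, Int.ofNat 0, Int.ofNat 0, Int.ofNat 2, Int.ofNat 0, Int.ofNat 0],
  [Int.ofNat 0, Int.negSucc 1, Int.ofNat 0, Int.negSucc 1, Int.ofNat 0, Int.ofNat 0, Int.ofNat 0, Int.ofNat 2, Int.ofNat 0, Int.ofNat 0, Int.ofNat 0, Int.ofNat 0, Int.ofNat 2, Int.ofNat 0, Int.ofNat 0, Int.ofNat 0, Int.negSucc 1, Int.ofNat 0, Int.ofNat 0, Int.ofNat 2, Int.ofNat 2, Int.negSucc 1, Int.ofNat 0, Int.ofNat 0],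
  [Int.negSucc 0, Int.ofNat 1, Int.negSucc 0, Int.negSucc 0, Int.ofNat 1, Int.ofNat 1, Int.negSucc 0, Int.ofNat 1, Int.negSucc 0, Int.negSucc 0, Int.negSucc 0, Int.negSucc 0, Int.ofNat 1, Int.ofNat 1, Int.ofNat 1, Int.negSucc 0, Int.negSucc 0, Int.ofNat 1, Int.negSucc 0, Int.ofNat 1, Int.ofNat 1, Int.negSucc 2, Int.ofNat 1, Int.negSucc 0],
  [Int.negSucc 0, Int.ofNat 1, Int.ofNat 1, Int.negSucc 0, Int.ofNat 1, Int.negSucc 0, Int.ofNat 1, Int.ofNat 1, Int.negSucc 0, Int.ofNat 1, Int.ofNat 1, Int.negSucc 0, Int.ofNat 1, Int.ofNat 1, Int.ofNat 1, Int.ofNat 1, Int.negSucc 0, Int.ofNat 1, Int.ofNat 1, Int.ofNat 1, Int.ofNat 1, Int.negSucc 2, Int.negSucc 0, Int.negSucc 0],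
  [Int.ofNat 1, Int.negSucc 0, Int.negSucc 0, Int.negSucc 0, Int.ofNat 1, Int.ofNat 1, Int.negSucc 2, Int.negSucc 0, Int.negSucc 0, Int.ofNat 1, Int.ofNat 1, Int.ofNat 1, Int.ofNat 1, Int.ofNat 1, Int.ofNat 1, Int.ofNat 1, Int.ofNat 1, Int.ofNat 1, Int.ofNat 1, Int.ofNat 1, Int.negSucc 0, Int.ofNat 1, Int.negSucc 0, Int.negSucc 0],
  [Int.negSucc 0, Int.ofNat 1, Int.ofNat 1, Int.ofNat 1, Int.negSucc 0, Int.ofNat 1, Int.ofNat 3, Int.negSucc 0, Int.ofNat 1, Int.negSucc 0, Int.ofNat 1, Int.ofNat 1, Int.negSucc 0, Int.negSucc 0, Int.ofNat 1, Int.ofNat 1, Int.negSucc 0, Int.ofNat 1, Int.negSucc 0, Int.ofNat 1, Int.negSucc 0, Int.ofNat 1, Int.negSucc 0, Int.negSucc 0],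
  [Int.negSucc 0, Int.negSucc 0, Int.ofNat 1, Int.ofNat 1, Int.ofNat 1, Int.negSucc 0, Int.ofNat 1, Int.negSucc 0, Int.negSucc 0, Int.ofNat 1, Int.negSucc 0, Int.ofNat 1, Int.ofNat 1, Int.negSucc 0, Int.negSucc 0, Int.ofNat 1, Int.ofNat 1, Int.negSucc 0, Int.ofNat 1, Int.ofNat 3, Int.ofNat 1, Int.negSucc 0, Int.ofNat 1, Int.negSucc 0],
  [Int.ofNat 1, Int.negSucc 0, Int.negSucc 0, Int.ofNat 1, Int.ofNat 1, Int.negSucc 0, Int.ofNat 1, Int.ofNat 1, Int.negSucc 0, Int.negSucc 0, Int.ofNat 1, Int.negSucc 0, Int.ofNat 1, Int.negSucc 0, Int.negSucc 0, Int.ofNat 1, Int.ofNat 1, Int.negSucc 0, Int.negSucc 0, Int.ofNat 3, Int.ofNat 1, Int.ofNat 1, Int.ofNat 1, Int.negSucc 0],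
  [Int.ofNat 1, Int.ofNat 1, Int.negSucc 0, Int.negSucc 0, Int.ofNat 1, Int.ofNat 1, Int.negSucc 0, Int.ofNat 1, Int.ofNat 1, Int.negSucc 0, Int.negSucc 0, Int.ofNat 1, Int.negSucc 0, Int.ofNat 1, Int.negSucc 0, Int.negSucc 0, Int.ofNat 1, Int.ofNat 1, Int.negSucc 0, Int.negSucc 0, Int.ofNat 3, Int.ofNat 1, Int.ofNat 1, Int.negSucc 0],
  [Int.negSucc 0, Int.negSucc 0, Int.ofNat 1, Int.negSucc 0, Int.negSucc 0, Int.ofNat 1, Int.negSucc 0, Int.ofNat 1, Int.ofNat 1, Int.negSucc 0, Int.negSucc 0, Int.ofNat 1, Int.negSucc 0, Int.negSucc 0, Int.negSucc 0, Int.negSucc 0, Int.negSucc 0, Int.ofNat 1, Int.negSucc 0, Int.negSucc 0, Int.ofNat 3, Int.ofNat 1, Int.negSucc 0, Int.ofNat 1],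
  [Int.negSucc 0, Int.negSucc 0, Int.ofNat 1, Int.negSucc 0, Int.ofNat 1, Int.ofNat 1, Int.negSucc 0, Int.negSucc 0, Int.ofNat 1, Int.negSucc 0, Int.negSucc 0, Int.negSucc 0, Int.negSucc 0, Int.negSucc 0, Int.ofNat 1, Int.negSucc 0, Int.negSucc 0, Int.ofNat 3, Int.ofNat 1, Int.negSucc 0, Int.negSucc 0, Int.negSucc 0, Int.ofNat 1, Int.ofNat 1],
  [Int.ofNat 1, Int.ofNat 1, Int.negSucc 0, Int.negSucc 2, Int.ofNat 1, Int.negSucc 0, Int.ofNat 1, Int.ofNat 1, Int.ofNat 1, Int.ofNat 1, Int.ofNat 1, Int.negSucc 0, Int.negSucc 0, Int.negSucc 0, Int.negSucc 0, Int.ofNat 1, Int.negSucc 0, Int.ofNat 1, Int.ofNat 1, Int.ofNat 1, Int.ofNat 1, Int.ofNat 1, Int.ofNat 1, Int.negSucc 0],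
  [Int.ofNat 1, Int.ofNat 1, Int.ofNat 1, Int.negSucc 2, Int.ofNat 1, Int.ofNat 1, Int.negSucc 0, Int.ofNat 1, Int.negSucc 0, Int.negSucc 0, Int.ofNat 1, Int.ofNat 1, Int.ofNat 1, Int.negSucc 0, Int.ofNat 1, Int.ofNat 1, Int.ofNat 1, Int.negSucc 0, Int.ofNat 1, Int.negSucc 0, Int.ofNat 1, Int.negSucc 0, Int.ofNat 1, Int.negSucc 0],
  [Int.ofNat 0, Int.ofNat 0, Int.ofNat 0, Int.negSucc 1, Int.ofNat 0, Int.ofNat 2, Int.ofNat 0, Int.ofNat 2, Int.negSucc 1, Int.negSucc 1, Int.ofNat 0, Int.ofNat 0, Int.ofNat 0, Int.negSucc 1, Int.ofNat 2, Int.ofNat 0, Int.ofNat 0, Int.ofNat 0, Int.ofNat 0, Int.ofNat 0, Int.ofNat 0, Int.ofNat 0, Int.ofNat 0, Int.ofNat 2],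
  [Int.ofNat 0, Int.ofNat 0, Int.ofNat 0, Int.negSucc 1, Int.ofNat 0, Int.negSucc 1, Int.ofNat 0, Int.ofNat 2, Int.negSucc 1, Int.ofNat 2, Int.ofNat 0, Int.ofNat 0, Int.ofNat 0, Int.negSucc 1, Int.ofNat 2, Int.ofNat 0, Int.ofNat 0, Int.ofNat 0, Int.ofNat 0, Int.ofNat 0, Int.ofNat 0, Int.ofNat 0, Int.ofNat 0, Int.ofNat 2],
  [Int.ofNat 0, Int.ofNat 0, Int.ofNat 0, Int.negSucc 1, Int.ofNat 0, Int.ofNat 2, Int.ofNat 0, Int.negSucc 1, Int.ofNat 0, Int.ofNat 0, Int.ofNat 0, Int.ofNat 0, Int.ofNat 0, Int.ofNat 0, Int.ofNat 0, Int.negSucc 1, Int.ofNat 0, Int.negSucc 1, Int.ofNat 2, Int.ofNat 0, Int.ofNat 0, Int.ofNat 0, Int.ofNat 2, Int.ofNat 2],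
  [Int.ofNat 0, Int.ofNat 0, Int.ofNat 0, Int.negSucc 1, Int.ofNat 0, Int.negSucc 1, Int.ofNat 0, Int.negSucc 1, Int.ofNat 0, Int.ofNat 0, Int.ofNat 0, Int.ofNat 0, Int.ofNat 0, Int.ofNat 0, Int.ofNat 0, Int.ofNat 2, Int.ofNat 0, Int.negSucc 1, Int.negSucc 1, Int.ofNat 0, Int.ofNat 0, Int.ofNat 0, Int.negSucc 1, Int.ofNat 2],
  [Int.ofNat 1, Int.ofNat 1, Int.ofNat 1, Int.ofNat 1, Int.ofNat 1, Int.ofNat 1, Int.ofNat 1, Int.negSucc 0, Int.ofNat 1, Int.negSucc 0, Int.negSucc 0, Int.ofNat 1, Int.ofNat 1, Int.ofNat 1, Int.ofNat 3, Int.ofNat 1, Int.ofNat 1, Int.ofNat 1, Int.negSucc 0, Int.ofNat 1, Int.negSucc 0, Int.ofNat 1, Int.negSucc 0, Int.negSucc 0],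
  [Int.ofNat 1, Int.negSucc 0, Int.ofNat 1, Int.ofNat 1, Int.ofNat 1, Int.ofNat 1, Int.ofNat 1, Int.ofNat 1, Int.ofNat 1, Int.ofNat 1, Int.negSucc 0, Int.ofNat 1, Int.ofNat 1, Int.negSucc 0, Int.ofNat 1, Int.ofNat 1, Int.ofNat 1, Int.ofNat 1, Int.ofNat 1, Int.negSucc 0, Int.negSucc 0, Int.negSucc 0, Int.ofNat 3, Int.negSucc 0],
  [Int.negSucc 0, Int.ofNat 1, Int.negSucc 0, Int.negSucc 0, Int.negSucc 0, Int.negSucc 0, Int.ofNat 1, Int.ofNat 1, Int.negSucc 0, Int.ofNat 1, Int.negSucc 0, Int.negSucc 0, Int.negSucc 0, Int.negSucc 2, Int.negSucc 0, Int.ofNat 1, Int.negSucc 0, Int.negSucc 0, Int.negSucc 0, Int.negSucc 0, Int.negSucc 0, Int.negSucc 0, Int.ofNat 1, Int.ofNat 1],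
  [Int.negSucc 0, Int.negSucc 0, Int.ofNat 1, Int.negSucc 0, Int.ofNat 1, Int.negSucc 0, Int.negSucc 0, Int.negSucc 0, Int.negSucc 0, Int.ofNat 1, Int.ofNat 1, Int.negSucc 0, Int.ofNat 1, Int.negSucc 0, Int.negSucc 0, Int.negSucc 0, Int.negSucc 2, Int.negSucc 0, Int.ofNat 1, Int.negSucc 0, Int.negSucc 0, Int.negSucc 0, Int.negSucc 0, Int.ofNat 1],
  [Int.ofNat 1, Int.ofNat 1, Int.negSucc 0, Int.ofNat 1, Int.ofNat 3, Int.ofNat 1, Int.ofNat 1, Int.ofNat 1, Int.negSucc 0, Int.ofNat 1, Int.ofNat 1, Int.negSucc 0, Int.ofNat 1, Int.ofNat 1, Int.ofNat 1, Int.negSucc 0, Int.negSucc 0, Int.ofNat 1, Int.ofNat 1, Int.ofNat 1, Int.negSucc 0, Int.ofNat 1, Int.ofNat 1, Int.negSucc 0],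
  [Int.ofNat 1, Int.negSucc 0, Int.ofNat 1, Int.ofNat 3, Int.ofNat 1, Int.ofNat 1, Int.ofNat 1, Int.negSucc 0, Int.ofNat 1, Int.ofNat 1, Int.negSucc 0, Int.ofNat 1, Int.ofNat 1, Int.ofNat 1, Int.negSucc 0, Int.negSucc 0, Int.ofNat 1, Int.ofNat 1, Int.ofNat 1, Int.negSucc 0, Int.ofNat 1, Int.ofNat 1, Int.ofNat 1, Int.negSucc 0],
  [Int.negSucc 0, Int.negSucc 0, Int.negSucc 0, Int.ofNat 3, Int.ofNat 1, Int.ofNat 1, Int.ofNat 1, Int.ofNat 1, Int.ofNat 1, Int.negSucc 0, Int.ofNat 1, Int.negSucc 0, Int.ofNat 1, Int.ofNat 1, Int.negSucc 0, Int.negSucc 0, Int.ofNat 1, Int.ofNat 1, Int.negSucc 0, Int.negSucc 0, Int.ofNat 1, Int.negSucc 0, Int.ofNat 1, Int.negSucc 0],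
  [Int.negSucc 0, Int.negSucc 0, Int.negSucc 0, Int.ofNat 3, Int.negSucc 0, Int.ofNat 1, Int.ofNat 1, Int.ofNat 1, Int.negSucc 0, Int.ofNat 1, Int.negSucc 0, Int.negSucc 0, Int.ofNat 1, Int.ofNat 1, Int.negSucc 0, Int.negSucc 0, Int.ofNat 1, Int.ofNat 1, Int.ofNat 1, Int.ofNat 1, Int.ofNat 1, Int.ofNat 1, Int.negSucc 0, Int.negSucc 0],
  [Int.ofNat 1, Int.negSucc 0, Int.ofNat 1, Int.ofNat 3, Int.negSucc 0, Int.ofNat 1, Int.ofNat 1, Int.negSucc 0, Int.negSucc 0, Int.negSucc 0, Int.ofNat 1, Int.ofNat 1, Int.ofNat 1, Int.ofNat 1, Int.negSucc 0, Int.negSucc 0, Int.ofNat 1, Int.ofNat 1, Int.negSucc 0, Int.ofNat 1, Int.ofNat 1, Int.negSucc 0, Int.negSucc 0, Int.negSucc 0],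
  [Int.negSucc 0, Int.ofNat 1, Int.negSucc 0, Int.ofNat 1, Int.ofNat 3, Int.negSucc 0, Int.ofNat 1, Int.ofNat 1, Int.negSucc 0, Int.negSucc 0, Int.negSucc 0, Int.ofNat 1, Int.ofNat 1, Int.ofNat 1, Int.ofNat 1, Int.negSucc 0, Int.negSucc 0, Int.ofNat 1, Int.ofNat 1, Int.negSucc 0, Int.ofNat 1, Int.ofNat 1, Int.negSucc 0, Int.negSucc 0],
  [Int.ofNat 0, Int.negSucc 1, Int.ofNat 0, Int.ofNat 0, Int.ofNat 2, Int.negSucc 1, Int.ofNat 0, Int.ofNat 0, Int.negSucc 1, Int.ofNat 0, Int.ofNat 0, Int.ofNat 0, Int.ofNat 0, Int.ofNat 0, Int.ofNat 0, Int.ofNat 0, Int.negSucc 1, Int.ofNat 0, Int.ofNat 0, Int.negSucc 1, Int.ofNat 2, Int.ofNat 0, Int.negSucc 1, Int.ofNat 0],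
  [Int.ofNat 0, Int.ofNat 2, Int.negSucc 1, Int.ofNat 0, Int.ofNat 0, Int.negSucc 1, Int.ofNat 0, Int.ofNat 0, Int.ofNat 0, Int.ofNat 0, Int.ofNat 0, Int.ofNat 0, Int.ofNat 0, Int.negSucc 1, Int.ofNat 0, Int.ofNat 0, Int.negSucc 1, Int.ofNat 2, Int.ofNat 0, Int.negSucc 1, Int.ofNat 0, Int.negSucc 1, Int.ofNat 0, Int.ofNat 0],
  [Int.ofNat 0, Int.negSucc 1, Int.ofNat 2, Int.ofNat 0, Int.ofNat 2, Int.negSucc 1, Int.ofNat 2, Int.ofNat 2, Int.ofNat 0, Int.ofNat 0, Int.ofNat 0, Int.ofNat 0, Int.ofNat 0, Int.ofNat 0, Int.ofNat 0, Int.ofNat 0, Int.ofNat 0, Int.ofNat 2, Int.ofNat 0, Int.ofNat 0, Int.ofNat 0, Int.ofNat 0, Int.ofNat 2, Int.ofNat 0],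
  [Int.ofNat 0, Int.ofNat 2, Int.ofNat 2, Int.ofNat 0, Int.ofNat 0, Int.ofNat 2, Int.ofNat 2, Int.ofNat 0, Int.ofNat 0, Int.ofNat 0, Int.ofNat 0, Int.ofNat 2, Int.ofNat 0, Int.ofNat 0, Int.ofNat 2, Int.ofNat 0, Int.ofNat 0, Int.ofNat 0, Int.negSucc 1, Int.ofNat 0, Int.ofNat 0, Int.negSucc 1, Int.ofNat 0, Int.ofNat 0],
  [Int.ofNat 2, Int.ofNat 0, Int.ofNat 0, Int.negSucc 1, Int.ofNat 0, Int.ofNat 0, Int.ofNat 2, Int.ofNat 0, Int.ofNat 0, Int.ofNat 0, Int.ofNat 0, Int.ofNat 2, Int.ofNat 0, Int.ofNat 0, Int.ofNat 0, Int.ofNat 0, Int.ofNat 0, Int.negSucc 1, Int.negSucc 1, Int.ofNat 0, Int.ofNat 0, Int.negSucc 1, Int.ofNat 0, Int.ofNat 2],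
  [Int.ofNat 2, Int.ofNat 0, Int.ofNat 0, Int.negSucc 1, Int.ofNat 0, Int.ofNat 0, Int.negSucc 1, Int.ofNat 0, Int.ofNat 0, Int.ofNat 0, Int.ofNat 0, Int.ofNat 2, Int.ofNat 0, Int.ofNat 0, Int.ofNat 0, Int.ofNat 0, Int.ofNat 0, Int.negSucc 1, Int.ofNat 2, Int.ofNat 0, Int.ofNat 0, Int.negSucc 1, Int.ofNat 0, Int.ofNat 2],
  [Int.ofNat 0, Int.ofNat 0, Int.ofNat 2, Int.ofNat 0, Int.ofNat 0, Int.negSucc 1, Int.negSucc 1, Int.negSucc 1, Int.ofNat 0, Int.ofNat 0, Int.ofNat 0, Int.ofNat 0, Int.ofNat 0, Int.ofNat 0, Int.negSucc 1, Int.ofNat 2, Int.ofNat 0, Int.ofNat 0, Int.ofNat 0, Int.ofNat 0, Int.ofNat 2, Int.ofNat 0, Int.ofNat 0, Int.ofNat 2],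
  [Int.ofNat 0, Int.ofNat 0, Int.negSucc 1, Int.ofNat 0, Int.ofNat 0, Int.negSucc 1, Int.ofNat 2, Int.negSucc 1, Int.ofNat 0, Int.ofNat 0, Int.ofNat 0, Int.ofNat 0, Int.ofNat 0, Int.ofNat 0, Int.negSucc 1, Int.ofNat 2, Int.ofNat 0, Int.ofNat 0, Int.ofNat 0, Int.ofNat 0, Int.ofNat 2, Int.ofNat 0, Int.ofNat 0, Int.ofNat 2],
  [Int.ofNat 2, Int.ofNat 0, Int.ofNat 0, Int.ofNat 2, Int.ofNat 0, Int.ofNat 0, Int.ofNat 0, Int.ofNat 0, Int.ofNat 2, Int.negSucc 1, Int.ofNat 0, Int.negSucc 1, Int.ofNat 0, Int.negSucc 1, Int.ofNat 0, Int.ofNat 0, Int.ofNat 0, Int.ofNat 0, Int.negSucc 1, Int.ofNat 2, Int.ofNat 0, Int.ofNat 0, Int.ofNat 0, Int.ofNat 0],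
  [Int.negSucc 1, Int.ofNat 0, Int.ofNat 0, Int.ofNat 2, Int.ofNat 0, Int.ofNat 0, Int.ofNat 0, Int.ofNat 0, Int.ofNat 2, Int.ofNat 2, Int.ofNat 0, Int.ofNat 2, Int.ofNat 0, Int.negSucc 1, Int.ofNat 0, Int.ofNat 0, Int.ofNat 0, Int.ofNat 0, Int.ofNat 2, Int.ofNat 2, Int.ofNat 0, Int.ofNat 0, Int.ofNat 0, Int.ofNat 0],
  [Int.ofNat 0, Int.negSucc 1, Int.ofNat 0, Int.ofNat 0, Int.ofNat 2, Int.ofNat 0, Int.ofNat 0, Int.ofNat 0, Int.ofNat 0, Int.ofNat 2, Int.ofNat 2, Int.ofNat 0, Int.ofNat 2, Int.ofNat 0, Int.negSucc 1, Int.ofNat 0, Int.ofNat 0, Int.ofNat 0, Int.ofNat 0, Int.ofNat 2, Int.ofNat 2, Int.ofNat 0, Int.ofNat 0, Int.ofNat 0],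
  [Int.negSucc 0, Int.ofNat 1, Int.negSucc 0, Int.ofNat 1, Int.ofNat 1, Int.ofNat 1, Int.negSucc 0, Int.negSucc 0, Int.negSucc 0, Int.negSucc 0, Int.negSucc 0, Int.negSucc 0, Int.ofNat 1, Int.negSucc 0, Int.negSucc 0, Int.negSucc 2, Int.negSucc 0, Int.ofNat 1, Int.negSucc 0, Int.ofNat 1, Int.negSucc 0, Int.negSucc 0, Int.negSucc 0, Int.negSucc 0],
  [Int.ofNat 1, Int.ofNat 1, Int.ofNat 1, Int.negSucc 0, Int.negSucc 0, Int.negSucc 0, Int.negSucc 0, Int.negSucc 0, Int.negSucc 0, Int.ofNat 1, Int.negSucc 0, Int.negSucc 0, Int.negSucc 2, Int.negSucc 0, Int.ofNat 1, Int.negSucc 0, Int.ofNat 1, Int.negSucc 0, Int.negSucc 0, Int.negSucc 0, Int.negSucc 0, Int.ofNat 1, Int.negSucc 0, Int.negSucc 0],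
  [Int.ofNat 0, Int.ofNat 0, Int.ofNat 0, Int.ofNat 0, Int.ofNat 0, Int.ofNat 0, Int.ofNat 0, Int.ofNat 0, Int.ofNat 2, Int.ofNat 2, Int.ofNat 0, Int.ofNat 2, Int.ofNat 0, Int.ofNat 0, Int.ofNat 2, Int.ofNat 0, Int.ofNat 2, Int.ofNat 0, Int.ofNat 2, Int.ofNat 0, Int.ofNat 0, Int.ofNat 2, Int.ofNat 0, Int.ofNat 2],
  [Int.ofNat 0, Int.ofNat 0, Int.ofNat 0, Int.ofNat 0, Int.ofNat 2, Int.ofNat 0, Int.ofNat 0, Int.ofNat 0, Int.ofNat 0, Int.ofNat 0, Int.ofNat 0, Int.ofNat 0, Int.ofNat 2, Int.ofNat 2, Int.ofNat 0, Int.ofNat 0, Int.ofNat 2, Int.ofNat 2, Int.ofNat 0, Int.ofNat 2, Int.ofNat 2, Int.ofNat 0, Int.ofNat 0, Int.ofNat 2],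
  [Int.ofNat 1, Int.ofNat 1, Int.ofNat 1, Int.negSucc 0, Int.negSucc 0, Int.negSucc 0, Int.negSucc 0, Int.negSucc 0, Int.negSucc 0, Int.negSucc 0, Int.negSucc 0, Int.negSucc 0, Int.ofNat 1, Int.negSucc 0, Int.negSucc 0, Int.negSucc 0, Int.negSucc 0, Int.ofNat 1, Int.negSucc 0, Int.ofNat 1, Int.ofNat 1, Int.negSucc 0, Int.negSucc 2, Int.negSucc 0],
  [Int.ofNat 1, Int.ofNat 1, Int.negSucc 0, Int.negSucc 0, Int.negSucc 0, Int.ofNat 1, Int.ofNat 1, Int.negSucc 0, Int.negSucc 0, Int.ofNat 1, Int.ofNat 1, Int.negSucc 0, Int.ofNat 1, Int.negSucc 0, Int.negSucc 0, Int.ofNat 1, Int.negSucc 0, Int.ofNat 1, Int.ofNat 1, Int.ofNat 1, Int.ofNat 1, Int.negSucc 0, Int.ofNat 3, Int.negSucc 0],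
  [Int.ofNat 1, Int.ofNat 1, Int.ofNat 1, Int.negSucc 0, Int.ofNat 1, Int.negSucc 0, Int.negSucc 0, Int.negSucc 0, Int.ofNat 3, Int.ofNat 1, Int.negSucc 0, Int.ofNat 1, Int.negSucc 0, Int.negSucc 0, Int.ofNat 1, Int.ofNat 1, Int.ofNat 1, Int.negSucc 0, Int.negSucc 0, Int.ofNat 1, Int.ofNat 1, Int.negSucc 0, Int.ofNat 1, Int.negSucc 0],
  [Int.ofNat 1, Int.ofNat 1, Int.negSucc 0, Int.negSucc 0, Int.ofNat 1, Int.ofNat 1, Int.ofNat 1, Int.negSucc 0, Int.ofNat 3, Int.negSucc 0, Int.ofNat 1, Int.ofNat 1, Int.negSucc 0, Int.negSucc 0, Int.ofNat 1, Int.negSucc 0, Int.ofNat 1, Int.negSucc 0, Int.ofNat 1, Int.ofNat 1, Int.ofNat 1, Int.negSucc 0, Int.negSucc 0, Int.negSucc 0],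
  [Int.negSucc 0, Int.negSucc 0, Int.ofNat 1, Int.negSucc 0, Int.ofNat 1, Int.ofNat 1, Int.ofNat 1, Int.negSucc 0, Int.ofNat 1, Int.negSucc 0, Int.ofNat 1, Int.negSucc 0, Int.negSucc 2, Int.negSucc 0, Int.ofNat 1, Int.negSucc 0, Int.ofNat 1, Int.negSucc 0, Int.negSucc 0, Int.ofNat 1, Int.ofNat 1, Int.negSucc 0, Int.negSucc 0, Int.ofNat 1],
  [Int.negSucc 0, Int.negSucc 0, Int.ofNat 1, Int.negSucc 0, Int.ofNat 1, Int.negSucc 0, Int.negSucc 0, Int.ofNat 1, Int.ofNat 1, Int.negSucc 2, Int.negSucc 0, Int.ofNat 1, Int.ofNat 1, Int.negSucc 0, Int.negSucc 0, Int.negSucc 0, Int.negSucc 0, Int.negSucc 0, Int.ofNat 1, Int.negSucc 0, Int.ofNat 1, Int.ofNat 1, Int.ofNat 1, Int.ofNat 1],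
  [Int.ofNat 1, Int.ofNat 1, Int.negSucc 0, Int.ofNat 1, Int.ofNat 1, Int.ofNat 1, Int.negSucc 0, Int.ofNat 1, Int.negSucc 0, Int.negSucc 0, Int.ofNat 1, Int.negSucc 0, Int.negSucc 0, Int.negSucc 0, Int.ofNat 1, Int.ofNat 1, Int.negSucc 0, Int.ofNat 1, Int.negSucc 0, Int.negSucc 0, Int.ofNat 3, Int.ofNat 1, Int.ofNat 1, Int.negSucc 0],
  [Int.ofNat 3, Int.ofNat 1, Int.ofNat 1, Int.ofNat 1, Int.ofNat 1, Int.negSucc 0, Int.ofNat 1, Int.ofNat 1, Int.ofNat 1, Int.negSucc 0, Int.ofNat 1, Int.negSucc 0, Int.negSucc 0, Int.ofNat 1, Int.negSucc 0, Int.negSucc 0, Int.negSucc 0, Int.ofNat 1, Int.ofNat 1, Int.negSucc 0, Int.ofNat 1, Int.negSucc 0, Int.negSucc 0, Int.negSucc 0],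
  [Int.negSucc 0, Int.ofNat 1, Int.ofNat 1, Int.ofNat 1, Int.ofNat 1, Int.negSucc 0, Int.ofNat 1, Int.ofNat 1, Int.ofNat 1, Int.negSucc 0, Int.ofNat 1, Int.negSucc 0, Int.negSucc 0, Int.ofNat 1, Int.negSucc 0, Int.negSucc 0, Int.negSucc 0, Int.ofNat 1, Int.ofNat 1, Int.negSucc 0, Int.ofNat 1, Int.negSucc 0, Int.negSucc 0, Int.ofNat 3],
  [Int.ofNat 1, Int.ofNat 1, Int.ofNat 1, Int.ofNat 1, Int.negSucc 0, Int.ofNat 1, Int.ofNat 1, Int.ofNat 1, Int.negSucc 0, Int.ofNat 1, Int.negSucc 0, Int.negSucc 0, Int.ofNat 1, Int.negSucc 0, Int.negSucc 0, Int.negSucc 0, Int.ofNat 1, Int.ofNat 1, Int.negSucc 0, Int.ofNat 1, Int.negSucc 0, Int.negSucc 0, Int.negSucc 0, Int.ofNat 3],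
  [Int.negSucc 0, Int.ofNat 1, Int.negSucc 0, Int.ofNat 1, Int.negSucc 0, Int.ofNat 1, Int.ofNat 1, Int.negSucc 0, Int.negSucc 0, Int.negSucc 0, Int.ofNat 1, Int.ofNat 1, Int.ofNat 1, Int.negSucc 0, Int.negSucc 0, Int.negSucc 0, Int.ofNat 1, Int.ofNat 1, Int.ofNat 1, Int.ofNat 1, Int.negSucc 0, Int.ofNat 1, Int.negSucc 0, Int.ofNat 3],
  [Int.negSucc 0, Int.negSucc 0, Int.ofNat 1, Int.ofNat 1, Int.ofNat 1, Int.ofNat 1, Int.negSucc 0, Int.negSucc 0, Int.negSucc 0, Int.ofNat 1, Int.ofNat 1, Int.negSucc 0, Int.negSucc 0, Int.negSucc 0, Int.ofNat 1, Int.negSucc 0, Int.ofNat 1, Int.negSucc 0, Int.ofNat 1, Int.ofNat 1, Int.ofNat 1, Int.negSucc 0, Int.ofNat 1, Int.ofNat 3],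
  [Int.ofNat 1, Int.negSucc 0, Int.negSucc 0, Int.ofNat 1, Int.ofNat 1, Int.ofNat 1, Int.negSucc 0, Int.ofNat 1, Int.negSucc 0, Int.negSucc 0, Int.negSucc 0, Int.ofNat 1, Int.negSucc 0, Int.negSucc 0, Int.ofNat 1, Int.negSucc 0, Int.ofNat 1, Int.negSucc 0, Int.negSucc 0, Int.ofNat 1, Int.ofNat 1, Int.ofNat 1, Int.ofNat 1, Int.ofNat 3],
  [Int.ofNat 1, Int.ofNat 1, Int.negSucc 0, Int.negSucc 0, Int.ofNat 1, Int.ofNat 1, Int.ofNat 1, Int.negSucc 0, Int.ofNat 1, Int.negSucc 0, Int.negSucc 0, Int.negSucc 0, Int.ofNat 1, Int.negSucc 0, Int.negSucc 0, Int.ofNat 1, Int.negSucc 0, Int.ofNat 1, Int.negSucc 0, Int.negSucc 0, Int.ofNat 1, Int.ofNat 1, Int.ofNat 1, Int.ofNat 3],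
  [Int.ofNat 1, Int.ofNat 1, Int.ofNat 3, Int.negSucc 0, Int.ofNat 1, Int.ofNat 1, Int.ofNat 1, Int.negSucc 0, Int.ofNat 1, Int.negSucc 0, Int.negSucc 0, Int.negSucc 0, Int.ofNat 1, Int.negSucc 0, Int.negSucc 0, Int.ofNat 1, Int.negSucc 0, Int.ofNat 1, Int.negSucc 0, Int.negSucc 0, Int.ofNat 1, Int.ofNat 1, Int.ofNat 1, Int.negSucc 0],
  [Int.negSucc 0, Int.ofNat 1, Int.ofNat 1, Int.ofNat 1, Int.negSucc 0, Int.ofNat 1, Int.negSucc 0, Int.negSucc 0, Int.negSucc 0, Int.ofNat 1, Int.negSucc 0, Int.negSucc 0, Int.ofNat 1, Int.negSucc 0, Int.ofNat 1, Int.negSucc 0, Int.negSucc 0, Int.ofNat 1, Int.ofNat 1, Int.ofNat 1, Int.ofNat 1, Int.ofNat 1, Int.ofNat 3, Int.negSucc 0],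
  [Int.ofNat 1, Int.negSucc 0, Int.negSucc 0, Int.negSucc 0, Int.negSucc 0, Int.negSucc 0, Int.negSucc 0, Int.negSucc 0, Int.negSucc 0, Int.ofNat 1, Int.negSucc 0, Int.negSucc 0, Int.ofNat 1, Int.negSucc 0, Int.negSucc 0, Int.negSucc 0, Int.negSucc 0, Int.negSucc 0, Int.ofNat 1, Int.ofNat 1, Int.ofNat 1, Int.ofNat 1, Int.ofNat 3, Int.ofNat 1],
  [Int.ofNat 1, Int.negSucc 0, Int.negSucc 0, Int.negSucc 0, Int.ofNat 1, Int.negSucc 0, Int.negSucc 0, Int.negSucc 0, Int.ofNat 1, Int.negSucc 0, Int.ofNat 1, Int.negSucc 0, Int.ofNat 1, Int.negSucc 0, Int.ofNat 3, Int.negSucc 0, Int.negSucc 0, Int.negSucc 0, Int.negSucc 0, Int.negSucc 0, Int.ofNat 1, Int.negSucc 0, Int.ofNat 1, Int.ofNat 1],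
  [Int.negSucc 0, Int.ofNat 1, Int.ofNat 1, Int.negSucc 0, Int.ofNat 1, Int.negSucc 0, Int.ofNat 1, Int.ofNat 1, Int.ofNat 1, Int.negSucc 0, Int.ofNat 1, Int.negSucc 0, Int.ofNat 1, Int.negSucc 0, Int.ofNat 3, Int.negSucc 0, Int.negSucc 0, Int.negSucc 0, Int.negSucc 0, Int.ofNat 1, Int.ofNat 1, Int.ofNat 1, Int.ofNat 1, Int.negSucc 0],
  [Int.negSucc 0, Int.ofNat 1, Int.negSucc 0, Int.negSucc 0, Int.ofNat 1, Int.ofNat 1, Int.negSucc 0, Int.ofNat 1, Int.ofNat 1, Int.ofNat 1, Int.negSucc 0, Int.negSucc 0, Int.ofNat 1, Int.negSucc 0, Int.ofNat 3, Int.ofNat 1, Int.negSucc 0, Int.negSucc 0, Int.ofNat 1, Int.ofNat 1, Int.ofNat 1, Int.ofNat 1, Int.negSucc 0, Int.negSucc 0],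
  [Int.negSucc 0, Int.negSucc 0, Int.negSucc 0, Int.ofNat 1, Int.ofNat 3, Int.negSucc 0, Int.ofNat 1, Int.negSucc 0, Int.ofNat 1, Int.ofNat 1, Int.negSucc 0, Int.ofNat 1, Int.ofNat 1, Int.ofNat 1, Int.negSucc 0, Int.ofNat 1, Int.ofNat 1, Int.ofNat 1, Int.ofNat 1, Int.negSucc 0, Int.negSucc 0, Int.ofNat 1, Int.negSucc 0, Int.negSucc 0],
  [Int.ofNat 1, Int.ofNat 1, Int.ofNat 1, Int.negSucc 0, Int.negSucc 2, Int.negSucc 0, Int.negSucc 0, Int.negSucc 0, Int.negSucc 0, Int.negSucc 0, Int.negSucc 0, Int.ofNat 1, Int.negSucc 0, Int.negSucc 0, Int.negSucc 0, Int.ofNat 1, Int.negSucc 0, Int.ofNat 1, Int.negSucc 0, Int.negSucc 0, Int.negSucc 0, Int.ofNat 1, Int.negSucc 0, Int.negSucc 0],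
  [Int.negSucc 0, Int.negSucc 0, Int.ofNat 1, Int.ofNat 1, Int.ofNat 1, Int.negSucc 0, Int.negSucc 0, Int.negSucc 0, Int.negSucc 0, Int.negSucc 0, Int.negSucc 0, Int.ofNat 1, Int.ofNat 1, Int.negSucc 0, Int.negSucc 0, Int.negSucc 0, Int.negSucc 0, Int.negSucc 2, Int.negSucc 0, Int.negSucc 0, Int.negSucc 0, Int.negSucc 0, Int.ofNat 1, Int.ofNat 1],
  [Int.ofNat 1, Int.negSucc 0, Int.negSucc 0, Int.ofNat 1, Int.ofNat 1, Int.negSucc 0, Int.negSucc 0, Int.ofNat 1, Int.negSucc 0, Int.ofNat 1, Int.ofNat 1, Int.negSucc 0, Int.ofNat 1, Int.negSucc 0, Int.negSucc 0, Int.negSucc 0, Int.negSucc 0, Int.negSucc 2, Int.ofNat 1, Int.negSucc 0, Int.negSucc 0, Int.ofNat 1, Int.ofNat 1, Int.ofNat 1],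
  [Int.ofNat 1, Int.ofNat 1, Int.negSucc 0, Int.negSucc 0, Int.ofNat 1, Int.ofNat 1, Int.negSucc 0, Int.negSucc 0, Int.ofNat 1, Int.negSucc 0, Int.ofNat 1, Int.ofNat 1, Int.negSucc 0, Int.ofNat 1, Int.negSucc 0, Int.negSucc 0, Int.negSucc 0, Int.negSucc 0, Int.negSucc 2, Int.ofNat 1, Int.negSucc 0, Int.negSucc 0, Int.ofNat 1, Int.ofNat 1],
  [Int.ofNat 0, Int.ofNat 0, Int.ofNat 2, Int.ofNat 0, Int.ofNat 0, Int.ofNat 2, Int.ofNat 0, Int.ofNat 0, Int.ofNat 2, Int.ofNat 0, Int.ofNat 2, Int.ofNat 2, Int.ofNat 0, Int.ofNat 0, Int.ofNat 0, Int.ofNat 0, Int.negSucc 1, Int.ofNat 0, Int.negSucc 1, Int.ofNat 2, Int.ofNat 0, Int.ofNat 0, Int.ofNat 0, Int.ofNat 0],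
  [Int.ofNat 0, Int.ofNat 0, Int.ofNat 2, Int.ofNat 0, Int.ofNat 0, Int.ofNat 2, Int.ofNat 0, Int.ofNat 2, Int.ofNat 2, Int.ofNat 0, Int.ofNat 0, Int.ofNat 0, Int.ofNat 0, Int.negSucc 1, Int.ofNat 0, Int.negSucc 1, Int.ofNat 2, Int.ofNat 0, Int.ofNat 0, Int.ofNat 0, Int.ofNat 0, Int.ofNat 0, Int.ofNat 2, Int.ofNat 0],
  [Int.ofNat 1, Int.ofNat 1, Int.negSucc 0, Int.negSucc 0, Int.negSucc 0, Int.ofNat 1, Int.negSucc 0, Int.ofNat 1, Int.ofNat 1, Int.ofNat 1, Int.ofNat 1, Int.negSucc 0, Int.negSucc 0, Int.negSucc 2, Int.negSucc 0, Int.negSucc 0, Int.ofNat 1, Int.negSucc 0, Int.negSucc 0, Int.negSucc 0, Int.ofNat 1, Int.negSucc 0, Int.ofNat 1, Int.ofNat 1],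
  [Int.ofNat 1, Int.negSucc 0, Int.negSucc 0, Int.negSucc 0, Int.negSucc 0, Int.ofNat 1, Int.negSucc 0, Int.ofNat 1, Int.negSucc 0, Int.negSucc 2, Int.ofNat 1, Int.negSucc 0, Int.ofNat 1, Int.ofNat 1, Int.ofNat 1, Int.negSucc 0, Int.ofNat 1, Int.negSucc 0, Int.ofNat 1, Int.negSucc 0, Int.negSucc 0, Int.ofNat 1, Int.negSucc 0, Int.ofNat 1],
  [Int.negSucc 0, Int.ofNat 1, Int.ofNat 1, Int.negSucc 0, Int.negSucc 0, Int.ofNat 1, Int.negSucc 0, Int.ofNat 1, Int.negSucc 0, Int.negSucc 0, Int.ofNat 3, Int.negSucc 0, Int.ofNat 1, Int.ofNat 1, Int.ofNat 1, Int.ofNat 1, Int.ofNat 1, Int.negSucc 0, Int.ofNat 1, Int.negSucc 0, Int.ofNat 1, Int.ofNat 1, Int.negSucc 0, Int.negSucc 0],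
  [Int.negSucc 0, Int.ofNat 1, Int.negSucc 0, Int.negSucc 0, Int.negSucc 0, Int.negSucc 0, Int.ofNat 1, Int.ofNat 1, Int.negSucc 0, Int.ofNat 1, Int.negSucc 2, Int.negSucc 0, Int.ofNat 1, Int.ofNat 1, Int.ofNat 1, Int.negSucc 0, Int.ofNat 1, Int.negSucc 0, Int.negSucc 0, Int.negSucc 0, Int.ofNat 1, Int.ofNat 1, Int.ofNat 1, Int.negSucc 0],
  [Int.negSucc 0, Int.ofNat 1, Int.negSucc 0, Int.negSucc 0, Int.ofNat 1, Int.ofNat 1, Int.ofNat 1, Int.negSucc 0, Int.ofNat 1, Int.negSucc 0, Int.negSucc 0, Int.ofNat 1, Int.negSucc 0, Int.ofNat 1, Int.negSucc 2, Int.negSucc 0, Int.negSucc 0, Int.ofNat 1, Int.ofNat 1, Int.negSucc 0, Int.ofNat 1, Int.negSucc 0, Int.ofNat 1, Int.negSucc 0],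
  [Int.negSucc 0, Int.ofNat 1, Int.ofNat 1, Int.negSucc 0, Int.ofNat 1, Int.negSucc 0, Int.negSucc 0, Int.negSucc 0, Int.ofNat 1, Int.ofNat 1, Int.ofNat 1, Int.ofNat 1, Int.negSucc 0, Int.ofNat 1, Int.negSucc 2, Int.ofNat 1, Int.negSucc 0, Int.ofNat 1, Int.negSucc 0, Int.negSucc 0, Int.ofNat 1, Int.negSucc 0, Int.negSucc 0, Int.negSucc 0],
  [Int.ofNat 1, Int.negSucc 0, Int.negSucc 0, Int.ofNat 1, Int.ofNat 1, Int.ofNat 1, Int.ofNat 1, Int.ofNat 1, Int.ofNat 1, Int.negSucc 0, Int.negSucc 0, Int.ofNat 1, Int.negSucc 0, Int.ofNat 1, Int.negSucc 0, Int.negSucc 0, Int.negSucc 0, Int.ofNat 3, Int.negSucc 0, Int.ofNat 1, Int.negSucc 0, Int.ofNat 1, Int.negSucc 0, Int.ofNat 1],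
  [Int.ofNat 1, Int.negSucc 0, Int.ofNat 1, Int.ofNat 1, Int.negSucc 0, Int.ofNat 1, Int.negSucc 0, Int.ofNat 1, Int.negSucc 0, Int.negSucc 0, Int.ofNat 1, Int.ofNat 1, Int.ofNat 1, Int.negSucc 0, Int.ofNat 3, Int.negSucc 0, Int.ofNat 1, Int.ofNat 1, Int.ofNat 1, Int.negSucc 0, Int.negSucc 0, Int.negSucc 0, Int.negSucc 0, Int.ofNat 1],
  [Int.ofNat 0, Int.ofNat 2, Int.ofNat 0, Int.negSucc 1, Int.ofNat 0, Int.negSucc 1, Int.ofNat 0, Int.ofNat 2, Int.negSucc 1, Int.ofNat 0, Int.ofNat 2, Int.ofNat 0, Int.ofNat 0, Int.ofNat 0, Int.ofNat 0, Int.ofNat 0, Int.ofNat 2, Int.negSucc 1, Int.ofNat 0, Int.ofNat 0, Int.ofNat 0, Int.ofNat 0, Int.ofNat 0, Int.ofNat 0],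
  [Int.ofNat 0, Int.ofNat 0, Int.ofNat 0, Int.ofNat 0, Int.ofNat 2, Int.ofNat 0, Int.negSucc 1, Int.ofNat 0, Int.negSucc 1, Int.ofNat 0, Int.ofNat 2, Int.negSucc 1, Int.ofNat 0, Int.ofNat 2, Int.ofNat 0, Int.ofNat 0, Int.ofNat 0, Int.ofNat 0, Int.ofNat 0, Int.ofNat 2, Int.negSucc 1, Int.ofNat 0, Int.ofNat 0, Int.ofNat 0],
  [Int.ofNat 0, Int.ofNat 0, Int.ofNat 0, Int.ofNat 0, Int.ofNat 0, Int.ofNat 0, Int.negSucc 1, Int.ofNat 0, Int.ofNat 0, Int.ofNat 0, Int.ofNat 2, Int.ofNat 0, Int.ofNat 2, Int.ofNat 0, Int.ofNat 0, Int.ofNat 0, Int.negSucc 1, Int.ofNat 0, Int.ofNat 2, Int.ofNat 2, Int.negSucc 1, Int.ofNat 0, Int.negSucc 1, Int.ofNat 0],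
  [Int.ofNat 0, Int.ofNat 0, Int.ofNat 0, Int.ofNat 0, Int.ofNat 0, Int.negSucc 1, Int.ofNat 0, Int.ofNat 0, Int.ofNat 0, Int.ofNat 2, Int.ofNat 0, Int.ofNat 2, Int.ofNat 0, Int.ofNat 0, Int.ofNat 0, Int.negSucc 1, Int.ofNat 0, Int.ofNat 2, Int.ofNat 2, Int.negSucc 1, Int.ofNat 0, Int.negSucc 1, Int.ofNat 0, Int.ofNat 0],
  [Int.ofNat 0, Int.ofNat 0, Int.ofNat 0, Int.ofNat 0, Int.ofNat 0, Int.negSucc 1, Int.ofNat 0, Int.ofNat 0, Int.ofNat 0, Int.negSucc 1, Int.ofNat 0, Int.negSucc 1, Int.ofNat 0, Int.ofNat 0, Int.ofNat 0, Int.negSucc 1, Int.ofNat 0, Int.ofNat 2, Int.negSucc 1, Int.negSucc 1, Int.ofNat 0, Int.ofNat 2, Int.ofNat 0, Int.ofNat 0],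
  [Int.ofNat 0, Int.ofNat 0, Int.negSucc 1, Int.ofNat 0, Int.ofNat 0, Int.ofNat 0, Int.ofNat 0, Int.ofNat 0, Int.negSucc 1, Int.ofNat 0, Int.ofNat 2, Int.ofNat 0, Int.ofNat 0, Int.ofNat 0, Int.negSucc 1, Int.negSucc 1, Int.ofNat 0, Int.ofNat 0, Int.ofNat 0, Int.ofNat 2, Int.negSucc 1, Int.ofNat 0, Int.negSucc 1, Int.ofNat 0],
  [Int.ofNat 0, Int.ofNat 0, Int.ofNat 2, Int.ofNat 0, Int.ofNat 0, Int.ofNat 0, Int.ofNat 0, Int.ofNat 0, Int.negSucc 1, Int.ofNat 0, Int.negSucc 1, Int.ofNat 0, Int.ofNat 0, Int.ofNat 0, Int.negSucc 1, Int.negSucc 1, Int.ofNat 0, Int.ofNat 0, Int.ofNat 0, Int.ofNat 2, Int.negSucc 1, Int.ofNat 0, Int.negSucc 1, Int.ofNat 0],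
  [Int.negSucc 1, Int.ofNat 0, Int.ofNat 0, Int.ofNat 2, Int.ofNat 0, Int.ofNat 0, Int.ofNat 0, Int.ofNat 0, Int.ofNat 0, Int.negSucc 1, Int.ofNat 0, Int.negSucc 1, Int.ofNat 0, Int.ofNat 0, Int.ofNat 0, Int.negSucc 1, Int.negSucc 1, Int.ofNat 0, Int.ofNat 0, Int.ofNat 0, Int.ofNat 2, Int.negSucc 1, Int.ofNat 0, Int.ofNat 0],
  [Int.ofNat 1, Int.negSucc 0, Int.negSucc 0, Int.ofNat 1, Int.ofNat 1, Int.negSucc 0, Int.ofNat 1, Int.ofNat 1, Int.ofNat 1, Int.negSucc 0, Int.ofNat 1, Int.negSucc 0, Int.ofNat 1, Int.ofNat 1, Int.negSucc 0, Int.negSucc 0, Int.negSucc 0, Int.negSucc 0, Int.ofNat 1, Int.ofNat 1, Int.ofNat 3, Int.negSucc 0, Int.ofNat 1, Int.negSucc 0],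
  [Int.ofNat 1, Int.ofNat 1, Int.negSucc 0, Int.ofNat 1, Int.ofNat 1, Int.ofNat 1, Int.negSucc 0, Int.ofNat 1, Int.negSucc 0, Int.ofNat 1, Int.ofNat 1, Int.negSucc 0, Int.negSucc 0, Int.negSucc 0, Int.negSucc 0, Int.ofNat 1, Int.ofNat 1, Int.ofNat 3, Int.negSucc 0, Int.ofNat 1, Int.ofNat 1, Int.negSucc 0, Int.negSucc 0, Int.negSucc 0],
  [Int.negSucc 0, Int.negSucc 0, Int.ofNat 1, Int.negSucc 0, Int.ofNat 1, Int.negSucc 0, Int.negSucc 0, Int.ofNat 1, Int.ofNat 1, Int.negSucc 0, Int.negSucc 0, Int.ofNat 1, Int.ofNat 1, Int.negSucc 0, Int.negSucc 2, Int.negSucc 0, Int.ofNat 1, Int.ofNat 1, Int.ofNat 1, Int.ofNat 1, Int.negSucc 0, Int.negSucc 0, Int.negSucc 0, Int.ofNat 1],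
  [Int.negSucc 0, Int.negSucc 0, Int.ofNat 1, Int.negSucc 0, Int.ofNat 1, Int.ofNat 1, Int.ofNat 1, Int.negSucc 0, Int.ofNat 1, Int.negSucc 0, Int.negSucc 0, Int.ofNat 1, Int.negSucc 0, Int.ofNat 1, Int.negSucc 0, Int.negSucc 0, Int.ofNat 1, Int.negSucc 2, Int.negSucc 0, Int.ofNat 1, Int.negSucc 0, Int.negSucc 0, Int.ofNat 1, Int.ofNat 1],
  [Int.ofNat 1, Int.ofNat 1, Int.negSucc 0, Int.ofNat 1, Int.negSucc 0, Int.ofNat 3, Int.ofNat 1, Int.negSucc 0, Int.ofNat 1, Int.ofNat 1, Int.ofNat 1, Int.ofNat 1, Int.negSucc 0, Int.negSucc 0, Int.ofNat 1, Int.ofNat 1, Int.negSucc 0, Int.negSucc 0, Int.negSucc 0, Int.ofNat 1, Int.ofNat 1, Int.negSucc 0, Int.negSucc 0, Int.negSucc 0],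
  [Int.ofNat 1, Int.ofNat 1, Int.ofNat 1, Int.ofNat 1, Int.negSucc 0, Int.negSucc 2, Int.negSucc 0, Int.negSucc 0, Int.ofNat 1, Int.negSucc 0, Int.negSucc 0, Int.ofNat 1, Int.negSucc 0, Int.negSucc 0, Int.ofNat 1, Int.negSucc 0, Int.negSucc 0, Int.negSucc 0, Int.ofNat 1, Int.ofNat 1, Int.ofNat 1, Int.negSucc 0, Int.ofNat 1, Int.negSucc 0],
  [Int.negSucc 0, Int.negSucc 0, Int.ofNat 1, Int.ofNat 1, Int.ofNat 1, Int.negSucc 0, Int.negSucc 0, Int.ofNat 1, Int.negSucc 2, Int.ofNat 1, Int.negSucc 0, Int.negSucc 0, Int.negSucc 0, Int.negSucc 0, Int.negSucc 0, Int.ofNat 1, Int.ofNat 1, Int.negSucc 0, Int.negSucc 0, Int.ofNat 1, Int.ofNat 1, Int.ofNat 1, Int.ofNat 1, Int.negSucc 0],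
  [Int.ofNat 1, Int.ofNat 1, Int.negSucc 0, Int.negSucc 0, Int.negSucc 0, Int.negSucc 0, Int.ofNat 1, Int.ofNat 1, Int.ofNat 3, Int.negSucc 0, Int.negSucc 0, Int.negSucc 0, Int.ofNat 1, Int.ofNat 1, Int.negSucc 0, Int.ofNat 1, Int.negSucc 0, Int.negSucc 0, Int.ofNat 1, Int.ofNat 1, Int.ofNat 1, Int.ofNat 1, Int.ofNat 1, Int.negSucc 0],
  [Int.negSucc 0, Int.ofNat 1, Int.negSucc 0, Int.ofNat 1, Int.negSucc 0, Int.negSucc 0, Int.ofNat 1, Int.ofNat 1, Int.ofNat 1, Int.negSucc 0, Int.negSucc 0, Int.negSucc 0, Int.ofNat 1, Int.ofNat 1, Int.ofNat 1, Int.negSucc 0, Int.negSucc 0, Int.negSucc 0, Int.negSucc 0, Int.ofNat 1, Int.ofNat 3, Int.ofNat 1, Int.ofNat 1, Int.ofNat 1],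
  [Int.ofNat 1, Int.ofNat 1, Int.ofNat 1, Int.ofNat 1, Int.negSucc 0, Int.negSucc 0, Int.ofNat 1, Int.negSucc 0, Int.ofNat 1, Int.ofNat 1, Int.ofNat 1, Int.ofNat 1, Int.ofNat 1, Int.ofNat 1, Int.ofNat 1, Int.negSucc 0, Int.negSucc 0, Int.negSucc 0, Int.ofNat 1, Int.ofNat 1, Int.ofNat 3, Int.negSucc 0, Int.ofNat 1, Int.ofNat 1],
  [Int.ofNat 1, Int.ofNat 1, Int.ofNat 1, Int.ofNat 1, Int.ofNat 1, Int.negSucc 0, Int.negSucc 0, Int.ofNat 1, Int.negSucc 0, Int.ofNat 1, Int.ofNat 1, Int.ofNat 1, Int.ofNat 1, Int.ofNat 1, Int.ofNat 1, Int.ofNat 1, Int.negSucc 0, Int.negSucc 0, Int.negSucc 0, Int.ofNat 1, Int.ofNat 1, Int.ofNat 3, Int.negSucc 0, Int.ofNat 1],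
  [Int.ofNat 1, Int.ofNat 1, Int.ofNat 1, Int.ofNat 1, Int.ofNat 1, Int.negSucc 0, Int.negSucc 2, Int.negSucc 0, Int.negSucc 0, Int.negSucc 0, Int.negSucc 0, Int.ofNat 1, Int.ofNat 1, Int.ofNat 1, Int.ofNat 1, Int.negSucc 0, Int.negSucc 0, Int.negSucc 0, Int.negSucc 0, Int.negSucc 0, Int.negSucc 0, Int.ofNat 1, Int.negSucc 0, Int.ofNat 1],
  [Int.ofNat 1, Int.ofNat 1, Int.negSucc 0, Int.negSucc 2, Int.negSucc 0, Int.negSucc 0, Int.negSucc 0, Int.negSucc 0, Int.ofNat 1, Int.ofNat 1, Int.ofNat 1, Int.ofNat 1, Int.negSucc 0, Int.negSucc 0, Int.negSucc 0, Int.negSucc 0, Int.negSucc 0, Int.negSucc 0, Int.ofNat 1, Int.negSucc 0, Int.ofNat 1, Int.ofNat 1, Int.ofNat 1, Int.ofNat 1],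
  [Int.ofNat 0, Int.ofNat 0, Int.ofNat 2, Int.ofNat 0, Int.ofNat 0, Int.ofNat 2, Int.ofNat 0, Int.ofNat 0, Int.ofNat 0, Int.ofNat 0, Int.ofNat 0, Int.ofNat 0, Int.negSucc 1, Int.ofNat 0, Int.ofNat 2, Int.negSucc 1, Int.ofNat 0, Int.ofNat 2, Int.ofNat 0, Int.ofNat 0, Int.ofNat 0, Int.ofNat 2, Int.ofNat 2, Int.ofNat 0],
  [Int.ofNat 0, Int.ofNat 0, Int.ofNat 0, Int.ofNat 0, Int.ofNat 0, Int.ofNat 0, Int.ofNat 2, Int.ofNat 0, Int.negSucc 1, Int.ofNat 0, Int.ofNat 0, Int.ofNat 2, Int.ofNat 0, Int.ofNat 0, Int.ofNat 2, Int.negSucc 1, Int.ofNat 0, Int.ofNat 2, Int.ofNat 0, Int.ofNat 0, Int.ofNat 2, Int.ofNat 2, Int.ofNat 0, Int.ofNat 0],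
  [Int.ofNat 0, Int.ofNat 0, Int.ofNat 0, Int.negSucc 1, Int.ofNat 0, Int.negSucc 1, Int.ofNat 0, Int.negSucc 1, Int.negSucc 1, Int.ofNat 0, Int.ofNat 0, Int.ofNat 2, Int.ofNat 0, Int.ofNat 0, Int.ofNat 0, Int.negSucc 1, Int.ofNat 0, Int.ofNat 0, Int.ofNat 0, Int.negSucc 1, Int.ofNat 2, Int.ofNat 0, Int.ofNat 0, Int.ofNat 0],
  [Int.ofNat 0, Int.ofNat 0, Int.ofNat 0, Int.negSucc 1, Int.ofNat 0, Int.ofNat 2, Int.ofNat 0, Int.negSucc 1, Int.negSucc 1, Int.ofNat 0, Int.ofNat 0, Int.ofNat 2, Int.ofNat 0, Int.ofNat 0, Int.ofNat 0, Int.ofNat 2, Int.ofNat 0, Int.ofNat 0, Int.ofNat 0, Int.negSucc 1, Int.ofNat 2, Int.ofNat 0, Int.ofNat 0, Int.ofNat 0],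
  [Int.negSucc 1, Int.ofNat 0, Int.ofNat 0, Int.negSucc 1, Int.ofNat 2, Int.ofNat 0, Int.ofNat 0, Int.negSucc 1, Int.ofNat 0, Int.ofNat 0, Int.ofNat 0, Int.ofNat 0, Int.ofNat 0, Int.ofNat 0, Int.ofNat 0, Int.ofNat 2, Int.ofNat 0, Int.ofNat 0, Int.negSucc 1, Int.ofNat 2, Int.ofNat 0, Int.ofNat 2, Int.ofNat 0, Int.ofNat 0],
  [Int.negSucc 1, Int.ofNat 0, Int.ofNat 0, Int.negSucc 1, Int.ofNat 2, Int.ofNat 0, Int.ofNat 0, Int.negSucc 1, Int.ofNat 0, Int.ofNat 0, Int.ofNat 0, Int.ofNat 0, Int.ofNat 0, Int.ofNat 0, Int.ofNat 0, Int.negSucc 1, Int.ofNat 0, Int.ofNat 0, Int.ofNat 2, Int.ofNat 2, Int.ofNat 0, Int.ofNat 2, Int.ofNat 0, Int.ofNat 0],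
  [Int.ofNat 1, Int.negSucc 0, Int.negSucc 0, Int.negSucc 0, Int.ofNat 1, Int.ofNat 1, Int.negSucc 0, Int.negSucc 2, Int.negSucc 0, Int.ofNat 1, Int.ofNat 1, Int.negSucc 0, Int.negSucc 0, Int.negSucc 0, Int.ofNat 1, Int.negSucc 0, Int.negSucc 0, Int.ofNat 1, Int.ofNat 1, Int.ofNat 1, Int.ofNat 1, Int.ofNat 1, Int.negSucc 0, Int.negSucc 0],
  [Int.ofNat 1, Int.ofNat 1, Int.negSucc 0, Int.negSucc 0, Int.negSucc 0, Int.ofNat 1, Int.negSucc 0, Int.ofNat 1, Int.negSucc 0, Int.negSucc 0, Int.negSucc 2, Int.ofNat 1, Int.negSucc 0, Int.ofNat 1, Int.ofNat 1, Int.negSucc 0, Int.negSucc 0, Int.negSucc 0, Int.ofNat 1, Int.negSucc 0, Int.ofNat 1, Int.ofNat 1, Int.ofNat 1, Int.negSucc 0],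
  [Int.negSucc 0, Int.negSucc 0, Int.ofNat 1, Int.negSucc 0, Int.negSucc 0, Int.ofNat 1, Int.negSucc 0, Int.ofNat 1, Int.negSucc 0, Int.ofNat 1, Int.negSucc 0, Int.ofNat 1, Int.negSucc 0, Int.ofNat 1, Int.ofNat 1, Int.ofNat 1, Int.negSucc 0, Int.negSucc 0, Int.ofNat 1, Int.negSucc 0, Int.ofNat 3, Int.ofNat 1, Int.ofNat 1, Int.ofNat 1],
  [Int.ofNat 3, Int.ofNat 1, Int.ofNat 1, Int.negSucc 0, Int.negSucc 0, Int.ofNat 1, Int.negSucc 0, Int.negSucc 0, Int.ofNat 1, Int.negSucc 0, Int.ofNat 1, Int.negSucc 0, Int.ofNat 1, Int.negSucc 0, Int.ofNat 1, Int.negSucc 0, Int.ofNat 1, Int.ofNat 1, Int.ofNat 1, Int.negSucc 0, Int.negSucc 0, Int.ofNat 1, Int.negSucc 0, Int.ofNat 1],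
  [Int.ofNat 0, Int.ofNat 2, Int.ofNat 2, Int.negSucc 1, Int.ofNat 0, Int.ofNat 0, Int.ofNat 0, Int.ofNat 0, Int.ofNat 0, Int.ofNat 0, Int.ofNat 2, Int.negSucc 1, Int.ofNat 0, Int.ofNat 0, Int.ofNat 0, Int.ofNat 0, Int.ofNat 2, Int.ofNat 0, Int.ofNat 0, Int.ofNat 0, Int.ofNat 0, Int.ofNat 2, Int.ofNat 0, Int.ofNat 2],
  [Int.ofNat 2, Int.ofNat 2, Int.negSucc 1, Int.ofNat 0, Int.ofNat 0, Int.ofNat 0, Int.ofNat 0, Int.ofNat 0, Int.ofNat 0, Int.ofNat 2, Int.negSucc 1, Int.ofNat 0, Int.ofNat 0, Int.ofNat 0, Int.ofNat 0, Int.ofNat 2, Int.ofNat 0, Int.ofNat 0, Int.ofNat 0, Int.ofNat 0, Int.ofNat 2, Int.ofNat 0, Int.ofNat 0, Int.ofNat 2],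
  [Int.negSucc 1, Int.ofNat 2, Int.ofNat 2, Int.ofNat 0, Int.ofNat 0, Int.ofNat 0, Int.ofNat 0, Int.ofNat 0, Int.ofNat 0, Int.negSucc 1, Int.ofNat 2, Int.ofNat 0, Int.ofNat 0, Int.ofNat 0, Int.ofNat 0, Int.ofNat 2, Int.ofNat 0, Int.ofNat 0, Int.ofNat 0, Int.ofNat 0, Int.ofNat 2, Int.ofNat 0, Int.ofNat 0, Int.ofNat 2],
  [Int.negSucc 1, Int.ofNat 2, Int.ofNat 0, Int.ofNat 0, Int.ofNat 2, Int.ofNat 2, Int.ofNat 0, Int.ofNat 2, Int.negSucc 1, Int.ofNat 0, Int.ofNat 0, Int.ofNat 0, Int.ofNat 0, Int.ofNat 0, Int.ofNat 0, Int.ofNat 2, Int.ofNat 0, Int.ofNat 0, Int.ofNat 0, Int.ofNat 0, Int.ofNat 0, Int.ofNat 0, Int.ofNat 0, Int.ofNat 2],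
  [Int.ofNat 2, Int.ofNat 2, Int.ofNat 0, Int.ofNat 0, Int.ofNat 2, Int.ofNat 2, Int.ofNat 0, Int.negSucc 1, Int.negSucc 1, Int.ofNat 0, Int.ofNat 0, Int.ofNat 0, Int.ofNat 0, Int.ofNat 0, Int.ofNat 0, Int.ofNat 2, Int.ofNat 0, Int.ofNat 0, Int.ofNat 0, Int.ofNat 0, Int.ofNat 0, Int.ofNat 0, Int.ofNat 0, Int.ofNat 2],
  [Int.ofNat 0, Int.ofNat 2, Int.ofNat 2, Int.ofNat 0, Int.ofNat 0, Int.ofNat 2, Int.ofNat 2, Int.ofNat 0, Int.negSucc 1, Int.negSucc 1, Int.ofNat 0, Int.ofNat 0, Int.ofNat 0, Int.ofNat 0, Int.ofNat 0, Int.ofNat 0, Int.ofNat 2, Int.ofNat 0, Int.ofNat 0, Int.ofNat 0, Int.ofNat 0, Int.ofNat 0, Int.ofNat 0, Int.ofNat 2],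
  [Int.ofNat 3, Int.ofNat 1, Int.ofNat 1, Int.negSucc 0, Int.negSucc 0, Int.ofNat 1, Int.ofNat 1, Int.negSucc 0, Int.negSucc 0, Int.negSucc 0, Int.ofNat 1, Int.ofNat 1, Int.ofNat 1, Int.negSucc 0, Int.negSucc 0, Int.ofNat 1, Int.ofNat 1, Int.negSucc 0, Int.ofNat 1, Int.negSucc 0, Int.ofNat 1, Int.negSucc 0, Int.negSucc 0, Int.ofNat 1],
  [Int.negSucc 0, Int.negSucc 0, Int.ofNat 1, Int.ofNat 1, Int.negSucc 0, Int.negSucc 0, Int.negSucc 0, Int.ofNat 1, Int.ofNat 1, Int.ofNat 1, Int.negSucc 0, Int.negSucc 0, Int.ofNat 1, Int.ofNat 1, Int.negSucc 0, Int.ofNat 1, Int.negSucc 0, Int.ofNat 1, Int.negSucc 0, Int.negSucc 0, Int.ofNat 3, Int.ofNat 1, Int.ofNat 1, Int.ofNat 1],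
  [Int.ofNat 1, Int.ofNat 1, Int.negSucc 0, Int.ofNat 1, Int.negSucc 0, Int.negSucc 0, Int.negSucc 0, Int.ofNat 1, Int.ofNat 1, Int.negSucc 0, Int.negSucc 2, Int.negSucc 0, Int.ofNat 1, Int.ofNat 1, Int.negSucc 0, Int.negSucc 0, Int.negSucc 0, Int.ofNat 1, Int.negSucc 0, Int.negSucc 0, Int.ofNat 1, Int.ofNat 1, Int.ofNat 1, Int.negSucc 0],
  [Int.ofNat 1, Int.negSucc 0, Int.negSucc 0, Int.ofNat 1, Int.negSucc 0, Int.ofNat 1, Int.negSucc 0, Int.negSucc 2, Int.ofNat 1, Int.ofNat 1, Int.ofNat 1, Int.ofNat 1, Int.negSucc 0, Int.negSucc 0, Int.ofNat 1, Int.negSucc 0, Int.ofNat 1, Int.negSucc 0, Int.ofNat 1, Int.negSucc 0, Int.ofNat 1, Int.negSucc 0, Int.negSucc 0, Int.negSucc 0],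
  [Int.negSucc 1, Int.ofNat 0, Int.ofNat 0, Int.ofNat 0, Int.ofNat 0, Int.ofNat 0, Int.ofNat 2, Int.ofNat 0, Int.ofNat 0, Int.ofNat 0, Int.ofNat 0, Int.ofNat 0, Int.negSucc 1, Int.ofNat 0, Int.ofNat 0, Int.negSucc 1, Int.ofNat 2, Int.negSucc 1, Int.ofNat 0, Int.ofNat 2, Int.ofNat 0, Int.ofNat 2, Int.ofNat 0, Int.ofNat 0],
  [Int.negSucc 1, Int.ofNat 0, Int.ofNat 0, Int.ofNat 0, Int.ofNat 0, Int.ofNat 0, Int.negSucc 1, Int.ofNat 0, Int.ofNat 0, Int.ofNat 0, Int.ofNat 0, Int.ofNat 0, Int.negSucc 1, Int.ofNat 0, Int.ofNat 0, Int.ofNat 2, Int.ofNat 2, Int.negSucc 1, Int.ofNat 0, Int.ofNat 2, Int.ofNat 0, Int.ofNat 2, Int.ofNat 0, Int.ofNat 0],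
  [Int.ofNat 0, Int.ofNat 2, Int.ofNat 0, Int.ofNat 0, Int.ofNat 0, Int.negSucc 1, Int.ofNat 2, Int.ofNat 0, Int.ofNat 0, Int.ofNat 0, Int.ofNat 0, Int.ofNat 0, Int.ofNat 2, Int.ofNat 0, Int.negSucc 1, Int.ofNat 0, Int.ofNat 2, Int.negSucc 1, Int.ofNat 0, Int.ofNat 0, Int.negSucc 1, Int.ofNat 0, Int.ofNat 0, Int.ofNat 0],
  [Int.ofNat 0, Int.negSucc 1, Int.ofNat 0, Int.ofNat 0, Int.ofNat 0, Int.negSucc 1, Int.negSucc 1, Int.ofNat 0, Int.ofNat 0, Int.ofNat 0, Int.ofNat 0, Int.ofNat 0, Int.negSucc 1, Int.ofNat 0, Int.negSucc 1, Int.ofNat 0, Int.negSucc 1, Int.negSucc 1, Int.ofNat 0, Int.ofNat 0, Int.negSucc 1, Int.ofNat 0, Int.ofNat 0, Int.ofNat 0],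
  [Int.ofNat 0, Int.ofNat 0, Int.ofNat 0, Int.ofNat 0, Int.negSucc 1, Int.ofNat 0, Int.ofNat 0, Int.ofNat 0, Int.negSucc 1, Int.negSucc 1, Int.negSucc 1, Int.ofNat 0, Int.ofNat 0, Int.ofNat 0, Int.ofNat 0, Int.ofNat 0, Int.ofNat 0, Int.ofNat 0, Int.negSucc 1, Int.negSucc 1, Int.ofNat 0, Int.negSucc 1, Int.negSucc 1, Int.ofNat 0],
  [Int.ofNat 0, Int.ofNat 0, Int.ofNat 0, Int.ofNat 0, Int.negSucc 1, Int.ofNat 0, Int.ofNat 0, Int.ofNat 0, Int.negSucc 1, Int.ofNat 2, Int.ofNat 2, Int.ofNat 0, Int.ofNat 0, Int.ofNat 0, Int.ofNat 0, Int.ofNat 0, Int.ofNat 0, Int.ofNat 0, Int.ofNat 2, Int.negSucc 1, Int.ofNat 0, Int.ofNat 2, Int.negSucc 1, Int.ofNat 0],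
  [Int.negSucc 1, Int.ofNat 0, Int.ofNat 0, Int.ofNat 0, Int.ofNat 0, Int.negSucc 1, Int.ofNat 0, Int.ofNat 0, Int.ofNat 0, Int.negSucc 1, Int.ofNat 2, Int.ofNat 2, Int.ofNat 0, Int.ofNat 0, Int.ofNat 0, Int.ofNat 0, Int.ofNat 0, Int.ofNat 0, Int.ofNat 0, Int.ofNat 2, Int.negSucc 1, Int.ofNat 0, Int.ofNat 2, Int.ofNat 0],
  [Int.ofNat 1, Int.negSucc 0, Int.negSucc 0, Int.ofNat 1, Int.negSucc 0, Int.negSucc 0, Int.negSucc 0, Int.negSucc 0, Int.negSucc 0, Int.negSucc 0, Int.ofNat 3, Int.ofNat 1, Int.negSucc 0, Int.negSucc 0, Int.ofNat 1, Int.ofNat 1, Int.negSucc 0, Int.ofNat 1, Int.negSucc 0, Int.ofNat 1, Int.negSucc 0, Int.negSucc 0, Int.ofNat 1, Int.negSucc 0],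
  [Int.ofNat 1, Int.negSucc 0, Int.negSucc 0, Int.negSucc 0, Int.negSucc 0, Int.negSucc 0, Int.negSucc 0, Int.ofNat 3, Int.ofNat 1, Int.negSucc 0, Int.negSucc 0, Int.ofNat 1, Int.ofNat 1, Int.negSucc 0, Int.ofNat 1, Int.negSucc 0, Int.ofNat 1, Int.negSucc 0, Int.negSucc 0, Int.ofNat 1, Int.ofNat 1, Int.negSucc 0, Int.negSucc 0, Int.negSucc 0],
  [Int.negSucc 1, Int.ofNat 0, Int.ofNat 0, Int.ofNat 0, Int.ofNat 0, Int.ofNat 0, Int.negSucc 1, Int.ofNat 2, Int.ofNat 0, Int.ofNat 0, Int.ofNat 0, Int.ofNat 0, Int.ofNat 0, Int.ofNat 0, Int.ofNat 2, Int.ofNat 0, Int.ofNat 2, Int.ofNat 0, Int.negSucc 1, Int.ofNat 0, Int.ofNat 2, Int.negSucc 1, Int.ofNat 0, Int.ofNat 0],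
  [Int.negSucc 1, Int.negSucc 1, Int.ofNat 0, Int.ofNat 0, Int.negSucc 1, Int.ofNat 2, Int.ofNat 0, Int.ofNat 0, Int.ofNat 0, Int.ofNat 0, Int.ofNat 2, Int.ofNat 0, Int.ofNat 0, Int.ofNat 2, Int.ofNat 0, Int.ofNat 0, Int.ofNat 0, Int.ofNat 2, Int.ofNat 0, Int.ofNat 0, Int.negSucc 1, Int.ofNat 0, Int.ofNat 0, Int.ofNat 0],
  [Int.ofNat 0, Int.ofNat 0, Int.negSucc 1, Int.negSucc 1, Int.negSucc 1, Int.ofNat 0, Int.ofNat 0, Int.ofNat 0, Int.ofNat 0, Int.ofNat 0, Int.ofNat 2, Int.ofNat 0, Int.ofNat 0, Int.ofNat 2, Int.negSucc 1, Int.ofNat 0, Int.ofNat 0, Int.ofNat 0, Int.ofNat 0, Int.ofNat 0, Int.negSucc 1, Int.ofNat 0, Int.ofNat 0, Int.negSucc 1],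
  [Int.ofNat 0, Int.ofNat 0, Int.ofNat 2, Int.negSucc 1, Int.negSucc 1, Int.ofNat 0, Int.ofNat 0, Int.ofNat 0, Int.ofNat 0, Int.ofNat 0, Int.negSucc 1, Int.ofNat 0, Int.ofNat 0, Int.ofNat 2, Int.negSucc 1, Int.ofNat 0, Int.ofNat 0, Int.ofNat 0, Int.ofNat 0, Int.ofNat 0, Int.negSucc 1, Int.ofNat 0, Int.ofNat 0, Int.negSucc 1],
  [Int.ofNat 0, Int.ofNat 0, Int.ofNat 0, Int.ofNat 0, Int.negSucc 1, Int.negSucc 1, Int.ofNat 0, Int.negSucc 1, Int.ofNat 0, Int.ofNat 0, Int.ofNat 2, Int.ofNat 0, Int.negSucc 1, Int.ofNat 0, Int.negSucc 1, Int.ofNat 0, Int.ofNat 0, Int.ofNat 2, Int.ofNat 0, Int.ofNat 0, Int.ofNat 0, Int.ofNat 0, Int.ofNat 0, Int.negSucc 1],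
  [Int.ofNat 0, Int.ofNat 0, Int.ofNat 0, Int.ofNat 0, Int.negSucc 1, Int.ofNat 2, Int.ofNat 0, Int.negSucc 1, Int.ofNat 0, Int.ofNat 0, Int.negSucc 1, Int.ofNat 0, Int.negSucc 1, Int.ofNat 0, Int.negSucc 1, Int.ofNat 0, Int.ofNat 0, Int.ofNat 2, Int.ofNat 0, Int.ofNat 0, Int.ofNat 0, Int.ofNat 0, Int.ofNat 0, Int.negSucc 1],
  [Int.negSucc 0, Int.negSucc 0, Int.negSucc 0, Int.negSucc 0, Int.negSucc 0, Int.ofNat 1, Int.ofNat 1, Int.negSucc 0, Int.ofNat 1, Int.ofNat 1, Int.negSucc 0, Int.ofNat 1, Int.negSucc 0, Int.ofNat 1, Int.negSucc 2, Int.ofNat 1, Int.ofNat 1, Int.ofNat 1, Int.ofNat 1, Int.ofNat 1, Int.ofNat 1, Int.ofNat 1, Int.ofNat 1, Int.ofNat 1],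
  [Int.negSucc 0, Int.ofNat 1, Int.ofNat 1, Int.negSucc 0, Int.negSucc 0, Int.ofNat 1, Int.negSucc 0, Int.ofNat 1, Int.ofNat 1, Int.negSucc 0, Int.negSucc 0, Int.ofNat 1, Int.ofNat 1, Int.ofNat 1, Int.ofNat 1, Int.ofNat 1, Int.ofNat 1, Int.ofNat 1, Int.negSucc 0, Int.ofNat 1, Int.negSucc 0, Int.ofNat 1, Int.negSucc 2, Int.ofNat 1],
  [Int.ofNat 2, Int.ofNat 0, Int.ofNat 0, Int.negSucc 1, Int.ofNat 0, Int.ofNat 0, Int.negSucc 1, Int.ofNat 0, Int.ofNat 0, Int.ofNat 0, Int.ofNat 0, Int.ofNat 0, Int.ofNat 0, Int.ofNat 2, Int.ofNat 0, Int.ofNat 2, Int.ofNat 2, Int.ofNat 0, Int.negSucc 1, Int.ofNat 0, Int.ofNat 0, Int.ofNat 0, Int.negSucc 1, Int.ofNat 0],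
  [Int.ofNat 0, Int.ofNat 0, Int.negSucc 1, Int.ofNat 2, Int.ofNat 0, Int.ofNat 0, Int.negSucc 1, Int.ofNat 0, Int.ofNat 0, Int.negSucc 1, Int.ofNat 0, Int.ofNat 0, Int.ofNat 0, Int.ofNat 0, Int.ofNat 0, Int.ofNat 0, Int.ofNat 2, Int.ofNat 0, Int.ofNat 2, Int.ofNat 2, Int.ofNat 0, Int.negSucc 1, Int.ofNat 0, Int.ofNat 0],
  [Int.negSucc 0, Int.negSucc 0, Int.ofNat 1, Int.ofNat 1, Int.negSucc 0, Int.negSucc 0, Int.negSucc 0, Int.ofNat 1, Int.negSucc 0, Int.negSucc 0, Int.ofNat 1, Int.negSucc 0, Int.negSucc 0, Int.negSucc 0, Int.negSucc 0, Int.ofNat 1, Int.ofNat 1, Int.negSucc 0, Int.ofNat 1, Int.ofNat 3, Int.ofNat 1, Int.negSucc 0, Int.negSucc 0, Int.negSucc 0],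
  [Int.negSucc 0, Int.ofNat 1, Int.ofNat 1, Int.negSucc 0, Int.negSucc 0, Int.negSucc 0, Int.ofNat 1, Int.negSucc 0, Int.negSucc 0, Int.ofNat 1, Int.negSucc 0, Int.negSucc 0, Int.negSucc 0, Int.negSucc 0, Int.ofNat 1, Int.ofNat 1, Int.negSucc 0, Int.ofNat 1, Int.ofNat 3, Int.ofNat 1, Int.negSucc 0, Int.negSucc 0, Int.negSucc 0, Int.negSucc 0],
  [Int.ofNat 1, Int.ofNat 1, Int.negSucc 0, Int.negSucc 0, Int.negSucc 0, Int.negSucc 0, Int.ofNat 1, Int.ofNat 1, Int.negSucc 0, Int.negSucc 0, Int.ofNat 1, Int.ofNat 1, Int.negSucc 0, Int.negSucc 0, Int.ofNat 1, Int.ofNat 1, Int.negSucc 0, Int.ofNat 1, Int.negSucc 2, Int.ofNat 1, Int.negSucc 0, Int.ofNat 1, Int.negSucc 0, Int.negSucc 0],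
  [Int.ofNat 1, Int.negSucc 0, Int.negSucc 2, Int.negSucc 0, Int.ofNat 1, Int.ofNat 1, Int.negSucc 0, Int.negSucc 0, Int.negSucc 0, Int.negSucc 0, Int.ofNat 1, Int.ofNat 1, Int.negSucc 0, Int.negSucc 0, Int.ofNat 1, Int.ofNat 1, Int.negSucc 0, Int.negSucc 0, Int.ofNat 1, Int.ofNat 1, Int.negSucc 0, Int.ofNat 1, Int.ofNat 1, Int.negSucc 0],
  [Int.negSucc 0, Int.negSucc 0, Int.ofNat 3, Int.negSucc 0, Int.ofNat 1, Int.ofNat 1, Int.negSucc 0, Int.ofNat 1, Int.negSucc 0, Int.ofNat 1, Int.negSucc 0, Int.negSucc 0, Int.negSucc 0, Int.negSucc 0, Int.ofNat 1, Int.ofNat 1, Int.negSucc 0, Int.negSucc 0, Int.negSucc 0, Int.ofNat 1, Int.negSucc 0, Int.negSucc 0, Int.ofNat 1, Int.negSucc 0],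
  [Int.ofNat 1, Int.negSucc 0, Int.negSucc 0, Int.ofNat 3, Int.negSucc 0, Int.ofNat 1, Int.ofNat 1, Int.negSucc 0, Int.ofNat 1, Int.negSucc 0, Int.ofNat 1, Int.negSucc 0, Int.negSucc 0, Int.negSucc 0, Int.negSucc 0, Int.ofNat 1, Int.ofNat 1, Int.negSucc 0, Int.negSucc 0, Int.negSucc 0, Int.ofNat 1, Int.negSucc 0, Int.negSucc 0, Int.negSucc 0],
  [Int.negSucc 1, Int.ofNat 0, Int.ofNat 0, Int.ofNat 2, Int.ofNat 0, Int.ofNat 0, Int.ofNat 2, Int.ofNat 0, Int.ofNat 2, Int.negSucc 1, Int.ofNat 0, Int.ofNat 0, Int.ofNat 0, Int.ofNat 0, Int.negSucc 1, Int.ofNat 0, Int.ofNat 2, Int.negSucc 1, Int.ofNat 0, Int.ofNat 0, Int.ofNat 0, Int.ofNat 0, Int.ofNat 0, Int.ofNat 0],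
  [Int.ofNat 2, Int.ofNat 0, Int.ofNat 0, Int.ofNat 2, Int.ofNat 0, Int.ofNat 2, Int.negSucc 1, Int.ofNat 0, Int.ofNat 0, Int.ofNat 0, Int.ofNat 0, Int.negSucc 1, Int.ofNat 0, Int.ofNat 2, Int.negSucc 1, Int.ofNat 0, Int.ofNat 0, Int.ofNat 0, Int.ofNat 0, Int.ofNat 0, Int.negSucc 1, Int.ofNat 0, Int.ofNat 0, Int.ofNat 0],
  [Int.negSucc 0, Int.ofNat 1, Int.ofNat 1, Int.ofNat 1, Int.negSucc 0, Int.ofNat 1, Int.negSucc 0, Int.ofNat 1, Int.ofNat 1, Int.ofNat 1, Int.ofNat 1, Int.negSucc 0, Int.ofNat 1, Int.ofNat 1, Int.negSucc 2, Int.ofNat 1, Int.negSucc 0, Int.negSucc 0, Int.ofNat 1, Int.ofNat 1, Int.negSucc 0, Int.ofNat 1, Int.negSucc 0, Int.ofNat 1],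
  [Int.negSucc 0, Int.negSucc 0, Int.negSucc 0, Int.ofNat 1, Int.ofNat 1, Int.ofNat 1, Int.ofNat 1, Int.ofNat 1, Int.ofNat 1, Int.ofNat 1, Int.negSucc 0, Int.negSucc 0, Int.ofNat 1, Int.negSucc 0, Int.negSucc 0, Int.ofNat 1, Int.ofNat 1, Int.negSucc 2, Int.ofNat 1, Int.negSucc 0, Int.ofNat 1, Int.ofNat 1, Int.ofNat 1, Int.ofNat 1],
  [Int.ofNat 0, Int.ofNat 0, Int.ofNat 0, Int.ofNat 2, Int.ofNat 0, Int.ofNat 2, Int.ofNat 0, Int.ofNat 0, Int.ofNat 0, Int.ofNat 0, Int.negSucc 1, Int.negSucc 1, Int.ofNat 0, Int.negSucc 1, Int.ofNat 0, Int.ofNat 0, Int.ofNat 0, Int.negSucc 1, Int.ofNat 0, Int.negSucc 1, Int.ofNat 0, Int.ofNat 0, Int.ofNat 0, Int.negSucc 1],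
  [Int.ofNat 0, Int.ofNat 0, Int.ofNat 0, Int.ofNat 2, Int.ofNat 0, Int.negSucc 1, Int.ofNat 0, Int.ofNat 0, Int.ofNat 0, Int.ofNat 0, Int.ofNat 2, Int.negSucc 1, Int.ofNat 0, Int.negSucc 1, Int.ofNat 0, Int.ofNat 0, Int.ofNat 0, Int.negSucc 1, Int.ofNat 0, Int.negSucc 1, Int.ofNat 0, Int.ofNat 0, Int.ofNat 0, Int.negSucc 1],
  [Int.ofNat 2, Int.ofNat 0, Int.negSucc 1, Int.ofNat 0, Int.ofNat 0, Int.ofNat 0, Int.ofNat 0, Int.ofNat 2, Int.negSucc 1, Int.ofNat 0, Int.negSucc 1, Int.ofNat 0, Int.ofNat 0, Int.ofNat 0, Int.negSucc 1, Int.ofNat 0, Int.negSucc 1, Int.ofNat 0, Int.ofNat 0, Int.ofNat 0, Int.ofNat 0, Int.ofNat 0, Int.ofNat 0, Int.negSucc 1],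
  [Int.negSucc 1, Int.ofNat 0, Int.ofNat 2, Int.ofNat 0, Int.ofNat 0, Int.ofNat 0, Int.ofNat 0, Int.ofNat 2, Int.ofNat 2, Int.ofNat 0, Int.negSucc 1, Int.ofNat 0, Int.ofNat 0, Int.ofNat 0, Int.negSucc 1, Int.ofNat 0, Int.ofNat 2, Int.ofNat 0, Int.ofNat 0, Int.ofNat 0, Int.ofNat 0, Int.ofNat 0, Int.ofNat 0, Int.negSucc 1],
  [Int.negSucc 1, Int.ofNat 0, Int.ofNat 0, Int.ofNat 0, Int.ofNat 0, Int.ofNat 0, Int.ofNat 0, Int.ofNat 0, Int.ofNat 0, Int.ofNat 0, Int.ofNat 2, Int.ofNat 2, Int.ofNat 0, Int.ofNat 2, Int.ofNat 0, Int.ofNat 0, Int.negSucc 1, Int.ofNat 0, Int.negSucc 1, Int.ofNat 0, Int.ofNat 2, Int.ofNat 0, Int.ofNat 0, Int.negSucc 1],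
  [Int.ofNat 2, Int.ofNat 0, Int.ofNat 0, Int.ofNat 0, Int.ofNat 0, Int.ofNat 0, Int.ofNat 0, Int.ofNat 0, Int.ofNat 0, Int.ofNat 0, Int.negSucc 1, Int.negSucc 1, Int.ofNat 0, Int.ofNat 2, Int.ofNat 0, Int.ofNat 0, Int.negSucc 1, Int.ofNat 0, Int.ofNat 2, Int.ofNat 0, Int.ofNat 2, Int.ofNat 0, Int.ofNat 0, Int.negSucc 1],
  [Int.ofNat 0, Int.ofNat 2, Int.ofNat 0, Int.ofNat 0, Int.ofNat 0, Int.ofNat 0, Int.ofNat 0, Int.ofNat 0, Int.ofNat 0, Int.ofNat 0, Int.ofNat 0, Int.negSucc 1, Int.negSucc 1, Int.ofNat 0, Int.ofNat 2, Int.ofNat 0, Int.ofNat 0, Int.negSucc 1, Int.ofNat 0, Int.ofNat 2, Int.ofNat 0, Int.ofNat 2, Int.ofNat 0, Int.negSucc 1],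
  [Int.ofNat 0, Int.negSucc 1, Int.ofNat 0, Int.ofNat 0, Int.ofNat 0, Int.ofNat 0, Int.negSucc 1, Int.negSucc 1, Int.ofNat 2, Int.ofNat 0, Int.ofNat 0, Int.ofNat 0, Int.ofNat 0, Int.ofNat 0, Int.ofNat 2, Int.ofNat 0, Int.ofNat 0, Int.negSucc 1, Int.ofNat 2, Int.ofNat 0, Int.ofNat 0, Int.ofNat 0, Int.ofNat 0, Int.ofNat 2],
  [Int.ofNat 0, Int.ofNat 0, Int.ofNat 0, Int.negSucc 1, Int.negSucc 1, Int.ofNat 2, Int.ofNat 0, Int.ofNat 0, Int.ofNat 0, Int.ofNat 0, Int.ofNat 0, Int.ofNat 2, Int.ofNat 0, Int.ofNat 0, Int.negSucc 1, Int.ofNat 2, Int.ofNat 0, Int.ofNat 0, Int.ofNat 0, Int.ofNat 0, Int.ofNat 0, Int.negSucc 1, Int.ofNat 0, Int.ofNat 2],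
  [Int.ofNat 1, Int.ofNat 1, Int.ofNat 1, Int.negSucc 0, Int.negSucc 0, Int.ofNat 3, Int.ofNat 1, Int.ofNat 1, Int.negSucc 0, Int.negSucc 0, Int.negSucc 0, Int.ofNat 1, Int.negSucc 0, Int.ofNat 1, Int.negSucc 0, Int.ofNat 1, Int.ofNat 1, Int.ofNat 1, Int.negSucc 0, Int.ofNat 1, Int.negSucc 0, Int.negSucc 0, Int.ofNat 1, Int.negSucc 0],
  [Int.ofNat 1, Int.ofNat 1, Int.negSucc 0, Int.negSucc 0, Int.negSucc 0, Int.ofNat 1, Int.ofNat 1, Int.negSucc 0, Int.negSucc 0, Int.ofNat 1, Int.negSucc 0, Int.ofNat 1, Int.negSucc 0, Int.ofNat 1, Int.ofNat 1, Int.ofNat 1, Int.negSucc 0, Int.negSucc 0, Int.ofNat 1, Int.ofNat 1, Int.negSucc 0, Int.ofNat 3, Int.ofNat 1, Int.negSucc 0],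
  [Int.negSucc 0, Int.negSucc 0, Int.ofNat 1, Int.negSucc 0, Int.negSucc 0, Int.ofNat 1, Int.negSucc 0, Int.negSucc 2, Int.negSucc 0, Int.ofNat 1, Int.negSucc 0, Int.ofNat 1, Int.negSucc 0, Int.ofNat 1, Int.ofNat 1, Int.ofNat 1, Int.negSucc 0, Int.negSucc 0, Int.ofNat 1, Int.negSucc 0, Int.negSucc 0, Int.ofNat 1, Int.ofNat 1, Int.ofNat 1],
  [Int.negSucc 0, Int.negSucc 0, Int.negSucc 0, Int.negSucc 0, Int.negSucc 0, Int.negSucc 0, Int.ofNat 1, Int.negSucc 2, Int.negSucc 0, Int.negSucc 0, Int.ofNat 1, Int.ofNat 1, Int.negSucc 0, Int.ofNat 1, Int.ofNat 1, Int.negSucc 0, Int.negSucc 0, Int.negSucc 0, Int.negSucc 0, Int.negSucc 0, Int.negSucc 0, Int.ofNat 1, Int.negSucc 0, Int.ofNat 1],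
  [Int.negSucc 0, Int.negSucc 0, Int.negSucc 0, Int.negSucc 0, Int.negSucc 0, Int.ofNat 1, Int.negSucc 0, Int.negSucc 0, Int.negSucc 0, Int.negSucc 0, Int.negSucc 0, Int.negSucc 0, Int.negSucc 0, Int.ofNat 1, Int.ofNat 1, Int.negSucc 0, Int.negSucc 0, Int.ofNat 1, Int.negSucc 2, Int.negSucc 0, Int.ofNat 1, Int.ofNat 1, Int.negSucc 0, Int.ofNat 1],
  [Int.negSucc 0, Int.negSucc 0, Int.ofNat 1, Int.negSucc 0, Int.negSucc 0, Int.negSucc 0, Int.ofNat 1, Int.negSucc 0, Int.negSucc 0, Int.ofNat 1, Int.ofNat 1, Int.negSucc 0, Int.negSucc 0, Int.ofNat 1, Int.ofNat 1, Int.ofNat 1, Int.negSucc 0, Int.ofNat 1, Int.ofNat 3, Int.negSucc 0, Int.ofNat 1, Int.ofNat 1, Int.ofNat 1, Int.ofNat 1],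
  [Int.ofNat 1, Int.ofNat 1, Int.negSucc 0, Int.negSucc 0, Int.negSucc 0, Int.negSucc 0, Int.ofNat 1, Int.negSucc 0, Int.negSucc 0, Int.negSucc 0, Int.negSucc 0, Int.negSucc 0, Int.negSucc 0, Int.ofNat 1, Int.ofNat 1, Int.negSucc 0, Int.negSucc 0, Int.ofNat 1, Int.ofNat 3, Int.negSucc 0, Int.negSucc 0, Int.ofNat 1, Int.ofNat 1, Int.negSucc 0],
  [Int.ofNat 1, Int.ofNat 3, Int.ofNat 1, Int.negSucc 0, Int.negSucc 0, Int.ofNat 1, Int.ofNat 1, Int.negSucc 0, Int.negSucc 0, Int.negSucc 0, Int.negSucc 0, Int.negSucc 0, Int.negSucc 0, Int.negSucc 0, Int.ofNat 1, Int.negSucc 0, Int.ofNat 1, Int.negSucc 0, Int.negSucc 0, Int.ofNat 1, Int.negSucc 0, Int.negSucc 0, Int.ofNat 1, Int.negSucc 0],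
  [Int.ofNat 1, Int.negSucc 0, Int.ofNat 1, Int.negSucc 0, Int.negSucc 0, Int.ofNat 1, Int.ofNat 1, Int.negSucc 0, Int.ofNat 1, Int.ofNat 1, Int.ofNat 1, Int.ofNat 1, Int.ofNat 1, Int.negSucc 0, Int.ofNat 1, Int.ofNat 1, Int.ofNat 1, Int.negSucc 0, Int.ofNat 1, Int.ofNat 1, Int.ofNat 1, Int.negSucc 0, Int.ofNat 1, Int.ofNat 3],
  [Int.ofNat 1, Int.negSucc 0, Int.ofNat 1, Int.ofNat 1, Int.negSucc 0, Int.ofNat 1, Int.negSucc 0, Int.negSucc 0, Int.ofNat 1, Int.ofNat 1, Int.negSucc 0, Int.ofNat 1, Int.ofNat 1, Int.ofNat 1, Int.ofNat 1, Int.ofNat 1, Int.negSucc 0, Int.ofNat 1, Int.ofNat 1, Int.ofNat 1, Int.negSucc 0, Int.ofNat 1, Int.ofNat 1, Int.ofNat 3],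
  [Int.ofNat 1, Int.ofNat 3, Int.ofNat 1, Int.negSucc 0, Int.negSucc 0, Int.negSucc 0, Int.negSucc 0, Int.negSucc 0, Int.negSucc 0, Int.ofNat 1, Int.negSucc 0, Int.negSucc 0, Int.negSucc 0, Int.ofNat 1, Int.negSucc 0, Int.ofNat 1, Int.negSucc 0, Int.negSucc 0, Int.negSucc 0, Int.ofNat 1, Int.negSucc 0, Int.ofNat 1, Int.ofNat 1, Int.negSucc 0],
  [Int.ofNat 3, Int.ofNat 1, Int.negSucc 0, Int.negSucc 0, Int.negSucc 0, Int.negSucc 0, Int.negSucc 0, Int.negSucc 0, Int.ofNat 1, Int.negSucc 0, Int.negSucc 0, Int.negSucc 0, Int.ofNat 1, Int.negSucc 0, Int.ofNat 1, Int.negSucc 0, Int.negSucc 0, Int.negSucc 0, Int.ofNat 1, Int.negSucc 0, Int.ofNat 1, Int.ofNat 1, Int.ofNat 1, Int.negSucc 0],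
  [Int.negSucc 2, Int.ofNat 1, Int.ofNat 1, Int.negSucc 0, Int.negSucc 0, Int.negSucc 0, Int.negSucc 0, Int.ofNat 1, Int.ofNat 1, Int.ofNat 1, Int.ofNat 1, Int.ofNat 1, Int.ofNat 1, Int.negSucc 0, Int.ofNat 1, Int.negSucc 0, Int.negSucc 0, Int.negSucc 0, Int.negSucc 0, Int.negSucc 0, Int.ofNat 1, Int.negSucc 0, Int.ofNat 1, Int.negSucc 0]]

set_option maxRecDepth 100000 in
theorem c1et8_chk : pmChk (List.replicate 14 [8, 0, 25, 26]).flatten nxL c1et8M 0 0 = true := by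
  decide +kernel

theorem c1et8_ne : wE letE2 (List.replicate 14 [8, 0, 25, 26]).flatten ≠ 1 ∧ wE letE2 (List.replicate 14 [8, 0, 25, 26]).flatten ≠ negElt :=
  ne_pm_of_chk nxL_mem c1et8_chk

set_option maxRecDepth 100000 in
def c1et9M : List (List ℤ) :=
  [[Int.negSucc 3, Int.ofNat 0, Int.ofNat 0, Int.ofNat 0, Int.ofNat 0, Int.ofNat 0, Int.ofNat 0, Int.ofNat 0, Int.ofNat 0, Int.ofNat 0, Int.ofNat 0, Int.ofNat 0, Int.ofNat 0, Int.ofNat 0, Int.ofNat 0, Int.ofNat 0, Int.ofNat 0, Int.ofNat 0, Int.ofNat 0, Int.ofNat 0, Int.ofNat 0, Int.ofNat 0, Int.ofNat 0, Int.ofNat 4],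
  [Int.ofNat 4, Int.ofNat 0, Int.ofNat 0, Int.ofNat 0, Int.ofNat 0, Int.ofNat 0, Int.ofNat 0, Int.ofNat 0, Int.ofNat 0, Int.ofNat 0, Int.ofNat 0, Int.ofNat 0, Int.ofNat 0, Int.ofNat 0, Int.ofNat 0, Int.ofNat 0, Int.ofNat 0, Int.ofNat 0, Int.ofNat 0, Int.ofNat 0, Int.ofNat 0, Int.ofNat 0, Int.ofNat 0, Int.ofNat 4],
  [Int.ofNat 0, Int.ofNat 4, Int.ofNat 0, Int.ofNat 0, Int.ofNat 0, Int.ofNat 0, Int.ofNat 0, Int.ofNat 0, Int.ofNat 0, Int.ofNat 0, Int.ofNat 0, Int.ofNat 0, Int.ofNat 0, Int.ofNat 0, Int.ofNat 0, Int.ofNat 0, Int.ofNat 0, Int.ofNat 0, Int.ofNat 0, Int.ofNat 0, Int.ofNat 0, Int.ofNat 0, Int.ofNat 0, Int.ofNat 4],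
  [Int.ofNat 4, Int.ofNat 0, Int.ofNat 4, Int.ofNat 0, Int.ofNat 0, Int.ofNat 0, Int.ofNat 0, Int.ofNat 0, Int.ofNat 0, Int.ofNat 0, Int.ofNat 0, Int.ofNat 0, Int.ofNat 0, Int.ofNat 0, Int.ofNat 0, Int.ofNat 0, Int.ofNat 0, Int.ofNat 0, Int.ofNat 0, Int.ofNat 0, Int.ofNat 0, Int.ofNat 0, Int.ofNat 0, Int.ofNat 0],
  [Int.ofNat 0, Int.ofNat 0, Int.ofNat 0, Int.ofNat 0, Int.ofNat 0, Int.ofNat 0, Int.ofNat 0, Int.ofNat 0, Int.ofNat 0, Int.ofNat 0, Int.ofNat 0, Int.ofNat 0, Int.ofNat 0, Int.ofNat 0, Int.ofNat 0, Int.ofNat 0, Int.ofNat 0, Int.ofNat 0, Int.ofNat 0, Int.ofNat 0, Int.ofNat 4, Int.ofNat 0, Int.ofNat 4, Int.ofNat 0],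
  [Int.ofNat 0, Int.ofNat 0, Int.ofNat 0, Int.ofNat 0, Int.negSucc 1, Int.ofNat 0, Int.ofNat 0, Int.ofNat 0, Int.ofNat 0, Int.negSucc 1, Int.negSucc 1, Int.ofNat 0, Int.ofNat 0, Int.negSucc 1, Int.ofNat 0, Int.negSucc 1, Int.negSucc 1, Int.ofNat 0, Int.ofNat 0, Int.ofNat 0, Int.ofNat 2, Int.ofNat 0, Int.ofNat 2, Int.ofNat 0],
  [Int.ofNat 0, Int.ofNat 0, Int.negSucc 1, Int.ofNat 0, Int.ofNat 0, Int.ofNat 0, Int.ofNat 0, Int.negSucc 1, Int.ofNat 0, Int.negSucc 1, Int.ofNat 2, Int.ofNat 0, Int.negSucc 1, Int.negSucc 1, Int.ofNat 2, Int.negSucc 1, Int.ofNat 0, Int.ofNat 0, Int.ofNat 0, Int.ofNat 0, Int.ofNat 0, Int.ofNat 0, Int.ofNat 0, Int.ofNat 0],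
  [Int.negSucc 0, Int.negSucc 0, Int.ofNat 1, Int.negSucc 0, Int.ofNat 1, Int.negSucc 0, Int.ofNat 1, Int.negSucc 0, Int.ofNat 1, Int.negSucc 0, Int.ofNat 3, Int.ofNat 1, Int.negSucc 0, Int.negSucc 0, Int.ofNat 1, Int.negSucc 0, Int.ofNat 1, Int.negSucc 0, Int.ofNat 1, Int.ofNat 1, Int.ofNat 1, Int.ofNat 1, Int.ofNat 1, Int.negSucc 0],
  [Int.negSucc 0, Int.negSucc 0, Int.negSucc 0, Int.negSucc 0, Int.ofNat 1, Int.ofNat 1, Int.negSucc 0, Int.negSucc 0, Int.ofNat 1, Int.ofNat 1, Int.negSucc 2, Int.ofNat 1, Int.negSucc 0, Int.negSucc 0, Int.ofNat 1, Int.ofNat 1, Int.ofNat 1, Int.negSucc 0, Int.negSucc 0, Int.ofNat 1, Int.ofNat 1, Int.ofNat 1, Int.negSucc 0, Int.negSucc 0],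
  [Int.negSucc 2, Int.ofNat 1, Int.ofNat 1, Int.ofNat 1, Int.ofNat 1, Int.negSucc 0, Int.ofNat 1, Int.negSucc 0, Int.ofNat 1, Int.ofNat 1, Int.negSucc 0, Int.negSucc 0, Int.ofNat 1, Int.ofNat 1, Int.negSucc 0, Int.negSucc 0, Int.ofNat 1, Int.negSucc 0, Int.ofNat 1, Int.negSucc 0, Int.negSucc 0, Int.negSucc 0, Int.negSucc 0, Int.negSucc 0],
  [Int.ofNat 3, Int.negSucc 0, Int.negSucc 0, Int.negSucc 0, Int.negSucc 0, Int.negSucc 0, Int.negSucc 0, Int.negSucc 0, Int.negSucc 0, Int.negSucc 0, Int.negSucc 0, Int.negSucc 0, Int.negSucc 0, Int.negSucc 0, Int.negSucc 0, Int.negSucc 0, Int.negSucc 0, Int.negSucc 0, Int.negSucc 0, Int.negSucc 0, Int.negSucc 0, Int.negSucc 0, Int.negSucc 0, Int.negSucc 0],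
  [Int.negSucc 0, Int.negSucc 0, Int.negSucc 0, Int.negSucc 0, Int.negSucc 0, Int.negSucc 0, Int.negSucc 0, Int.negSucc 0, Int.negSucc 0, Int.negSucc 0, Int.negSucc 0, Int.negSucc 0, Int.negSucc 0, Int.negSucc 0, Int.negSucc 0, Int.negSucc 0, Int.negSucc 0, Int.negSucc 0, Int.negSucc 0, Int.negSucc 0, Int.negSucc 0, Int.negSucc 0, Int.negSucc 0, Int.ofNat 3],
  [Int.ofNat 1, Int.negSucc 0, Int.ofNat 1, Int.negSucc 0, Int.negSucc 0, Int.negSucc 0, Int.negSucc 0, Int.ofNat 1, Int.negSucc 0, Int.ofNat 1, Int.ofNat 1, Int.ofNat 1, Int.negSucc 0, Int.negSucc 0, Int.negSucc 0, Int.negSucc 0, Int.negSucc 0, Int.negSucc 0, Int.ofNat 1, Int.negSucc 0, Int.negSucc 0, Int.ofNat 1, Int.negSucc 0, Int.ofNat 3],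
  [Int.negSucc 0, Int.ofNat 1, Int.negSucc 0, Int.ofNat 1, Int.negSucc 0, Int.negSucc 0, Int.negSucc 0, Int.negSucc 0, Int.ofNat 1, Int.negSucc 0, Int.ofNat 1, Int.ofNat 1, Int.ofNat 1, Int.negSucc 0, Int.negSucc 0, Int.negSucc 0, Int.negSucc 0, Int.negSucc 0, Int.negSucc 0, Int.ofNat 1, Int.negSucc 0, Int.negSucc 0, Int.ofNat 1, Int.ofNat 3],
  [Int.ofNat 2, Int.ofNat 0, Int.ofNat 2, Int.ofNat 2, Int.ofNat 0, Int.ofNat 0, Int.ofNat 0, Int.ofNat 0, Int.ofNat 0, Int.ofNat 0, Int.ofNat 2, Int.ofNat 0, Int.ofNat 0, Int.ofNat 0, Int.ofNat 0, Int.ofNat 0, Int.ofNat 0, Int.ofNat 0, Int.negSucc 1, Int.ofNat 2, Int.ofNat 0, Int.ofNat 0, Int.ofNat 2, Int.negSucc 1],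
  [Int.ofNat 2, Int.ofNat 0, Int.ofNat 0, Int.ofNat 0, Int.ofNat 0, Int.ofNat 0, Int.ofNat 0, Int.ofNat 2, Int.ofNat 0, Int.ofNat 0, Int.ofNat 0, Int.ofNat 0, Int.ofNat 0, Int.ofNat 0, Int.ofNat 0, Int.negSucc 1, Int.ofNat 2, Int.ofNat 0, Int.ofNat 0, Int.ofNat 2, Int.ofNat 2, Int.ofNat 0, Int.ofNat 2, Int.negSucc 1],
  [Int.negSucc 1, Int.ofNat 0, Int.ofNat 0, Int.ofNat 0, Int.negSucc 1, Int.ofNat 0, Int.negSucc 1, Int.ofNat 0, Int.ofNat 0, Int.ofNat 0, Int.ofNat 0, Int.ofNat 0, Int.ofNat 0, Int.negSucc 1, Int.ofNat 0, Int.negSucc 1, Int.ofNat 0, Int.ofNat 0, Int.ofNat 0, Int.ofNat 0, Int.ofNat 2, Int.negSucc 1, Int.ofNat 0, Int.ofNat 2],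
  [Int.negSucc 1, Int.negSucc 1, Int.negSucc 1, Int.ofNat 0, Int.ofNat 0, Int.ofNat 0, Int.ofNat 0, Int.ofNat 0, Int.ofNat 0, Int.negSucc 1, Int.ofNat 2, Int.ofNat 0, Int.ofNat 0, Int.ofNat 0, Int.ofNat 0, Int.negSucc 1, Int.ofNat 0, Int.ofNat 0, Int.ofNat 0, Int.ofNat 0, Int.negSucc 1, Int.ofNat 0, Int.ofNat 0, Int.ofNat 2],
  [Int.ofNat 0, Int.ofNat 0, Int.ofNat 0, Int.ofNat 0, Int.ofNat 0, Int.ofNat 0, Int.ofNat 0, Int.ofNat 0, Int.ofNat 0, Int.ofNat 0, Int.ofNat 4, Int.ofNat 0, Int.ofNat 0, Int.ofNat 0, Int.ofNat 0, Int.ofNat 0, Int.ofNat 0, Int.ofNat 0, Int.ofNat 0, Int.ofNat 0, Int.ofNat 0, Int.ofNat 0, Int.ofNat 0, Int.negSucc 3],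
  [Int.ofNat 0, Int.ofNat 0, Int.ofNat 0, Int.ofNat 0, Int.ofNat 0, Int.ofNat 0, Int.ofNat 0, Int.ofNat 0, Int.ofNat 0, Int.ofNat 0, Int.negSucc 3, Int.ofNat 0, Int.ofNat 0, Int.ofNat 0, Int.ofNat 0, Int.ofNat 0, Int.ofNat 0, Int.ofNat 0, Int.ofNat 0, Int.ofNat 0, Int.ofNat 0, Int.ofNat 0, Int.ofNat 0, Int.negSucc 3],
  [Int.ofNat 0, Int.ofNat 0, Int.ofNat 0, Int.ofNat 0, Int.ofNat 0, Int.ofNat 0, Int.ofNat 0, Int.ofNat 0, Int.ofNat 0, Int.ofNat 0, Int.ofNat 0, Int.ofNat 0, Int.ofNat 0, Int.ofNat 0, Int.ofNat 0, Int.ofNat 0, Int.ofNat 0, Int.ofNat 0, Int.ofNat 0, Int.negSucc 3, Int.ofNat 0, Int.ofNat 0, Int.ofNat 0, Int.negSucc 3],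
  [Int.ofNat 0, Int.ofNat 0, Int.ofNat 0, Int.ofNat 0, Int.ofNat 0, Int.ofNat 0, Int.ofNat 0, Int.ofNat 0, Int.ofNat 0, Int.ofNat 0, Int.ofNat 0, Int.ofNat 0, Int.ofNat 0, Int.ofNat 0, Int.ofNat 0, Int.ofNat 0, Int.ofNat 0, Int.ofNat 0, Int.ofNat 0, Int.negSucc 3, Int.ofNat 0, Int.ofNat 0, Int.ofNat 0, Int.negSucc 3],
  [Int.negSucc 1, Int.negSucc 1, Int.negSucc 1, Int.ofNat 0, Int.ofNat 0, Int.ofNat 0, Int.ofNat 2, Int.ofNat 2, Int.ofNat 0, Int.ofNat 0, Int.ofNat 0, Int.ofNat 0, Int.ofNat 0, Int.ofNat 0, Int.ofNat 0, Int.ofNat 0, Int.ofNat 0, Int.ofNat 0, Int.ofNat 0, Int.negSucc 1, Int.ofNat 0, Int.ofNat 2, Int.ofNat 0, Int.ofNat 2],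
  [Int.negSucc 1, Int.ofNat 0, Int.ofNat 2, Int.ofNat 0, Int.negSucc 1, Int.ofNat 2, Int.negSucc 1, Int.ofNat 0, Int.ofNat 0, Int.ofNat 0, Int.ofNat 2, Int.negSucc 1, Int.ofNat 0, Int.ofNat 0, Int.ofNat 0, Int.ofNat 0, Int.ofNat 0, Int.ofNat 0, Int.ofNat 0, Int.ofNat 0, Int.ofNat 0, Int.ofNat 0, Int.ofNat 0, Int.ofNat 2],
  [Int.ofNat 3, Int.ofNat 1, Int.negSucc 0, Int.negSucc 0, Int.negSucc 0, Int.ofNat 1, Int.negSucc 0, Int.ofNat 1, Int.ofNat 1, Int.negSucc 0, Int.ofNat 1, Int.negSucc 0, Int.ofNat 1, Int.ofNat 1, Int.negSucc 0, Int.negSucc 0, Int.ofNat 1, Int.negSucc 0, Int.ofNat 1, Int.ofNat 1, Int.negSucc 0, Int.ofNat 1, Int.ofNat 1, Int.negSucc 0],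
  [Int.negSucc 0, Int.ofNat 1, Int.ofNat 1, Int.ofNat 3, Int.ofNat 1, Int.negSucc 0, Int.negSucc 0, Int.negSucc 0, Int.ofNat 1, Int.negSucc 0, Int.ofNat 1, Int.ofNat 1, Int.negSucc 0, Int.ofNat 1, Int.negSucc 0, Int.ofNat 1, Int.ofNat 1, Int.negSucc 0, Int.negSucc 0, Int.ofNat 1, Int.negSucc 0, Int.ofNat 1, Int.ofNat 1, Int.negSucc 0],
  [Int.ofNat 1, Int.negSucc 0, Int.negSucc 0, Int.ofNat 3, Int.negSucc 0, Int.negSucc 0, Int.negSucc 0, Int.negSucc 0, Int.ofNat 1, Int.negSucc 0, Int.ofNat 1, Int.ofNat 1, Int.negSucc 0, Int.negSucc 0, Int.negSucc 0, Int.ofNat 1, Int.negSucc 0, Int.negSucc 0, Int.negSucc 0, Int.ofNat 1, Int.negSucc 0, Int.ofNat 1, Int.negSucc 0, Int.ofNat 1],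
  [Int.negSucc 0, Int.negSucc 0, Int.ofNat 3, Int.negSucc 0, Int.negSucc 0, Int.negSucc 0, Int.negSucc 0, Int.ofNat 1, Int.negSucc 0, Int.ofNat 1, Int.ofNat 1, Int.negSucc 0, Int.negSucc 0, Int.negSucc 0, Int.ofNat 1, Int.negSucc 0, Int.negSucc 0, Int.negSucc 0, Int.ofNat 1, Int.negSucc 0, Int.ofNat 1, Int.negSucc 0, Int.ofNat 1, Int.ofNat 1],
  [Int.ofNat 1, Int.negSucc 0, Int.negSucc 2, Int.negSucc 0, Int.negSucc 0, Int.negSucc 0, Int.negSucc 0, Int.negSucc 0, Int.negSucc 0, Int.negSucc 0, Int.negSucc 0, Int.ofNat 1, Int.negSucc 0, Int.negSucc 0, Int.ofNat 1, Int.negSucc 0, Int.negSucc 0, Int.negSucc 0, Int.negSucc 0, Int.negSucc 0, Int.ofNat 1, Int.ofNat 1, Int.ofNat 1, Int.ofNat 1],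
  [Int.ofNat 1, Int.negSucc 2, Int.negSucc 0, Int.negSucc 0, Int.negSucc 0, Int.negSucc 0, Int.negSucc 0, Int.ofNat 1, Int.negSucc 0, Int.negSucc 0, Int.ofNat 1, Int.ofNat 1, Int.negSucc 0, Int.negSucc 0, Int.negSucc 0, Int.negSucc 0, Int.negSucc 0, Int.ofNat 1, Int.negSucc 0, Int.negSucc 0, Int.negSucc 0, Int.negSucc 0, Int.ofNat 1, Int.ofNat 1],
  [Int.negSucc 0, Int.negSucc 2, Int.ofNat 1, Int.negSucc 0, Int.negSucc 0, Int.negSucc 0, Int.negSucc 0, Int.negSucc 0, Int.negSucc 0, Int.ofNat 1, Int.negSucc 0, Int.negSucc 0, Int.negSucc 0, Int.negSucc 0, Int.negSucc 0, Int.negSucc 0, Int.negSucc 0, Int.ofNat 1, Int.ofNat 1, Int.negSucc 0, Int.negSucc 0, Int.ofNat 1, Int.ofNat 1, Int.ofNat 1],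
  [Int.ofNat 1, Int.negSucc 0, Int.negSucc 2, Int.ofNat 1, Int.negSucc 0, Int.negSucc 0, Int.negSucc 0, Int.negSucc 0, Int.negSucc 0, Int.negSucc 0, Int.ofNat 1, Int.negSucc 0, Int.negSucc 0, Int.negSucc 0, Int.negSucc 0, Int.negSucc 0, Int.negSucc 0, Int.negSucc 0, Int.ofNat 1, Int.ofNat 1, Int.negSucc 0, Int.negSucc 0, Int.ofNat 1, Int.ofNat 1],
  [Int.negSucc 1, Int.ofNat 0, Int.ofNat 2, Int.ofNat 2, Int.ofNat 0, Int.ofNat 0, Int.ofNat 0, Int.ofNat 0, Int.ofNat 0, Int.ofNat 0, Int.ofNat 2, Int.ofNat 0, Int.ofNat 0, Int.ofNat 0, Int.ofNat 0, Int.ofNat 0, Int.ofNat 0, Int.ofNat 0, Int.ofNat 2, Int.ofNat 2, Int.ofNat 0, Int.ofNat 0, Int.ofNat 2, Int.negSucc 1],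
  [Int.ofNat 2, Int.ofNat 0, Int.ofNat 0, Int.ofNat 0, Int.ofNat 0, Int.ofNat 0, Int.ofNat 0, Int.ofNat 2, Int.ofNat 0, Int.ofNat 0, Int.ofNat 0, Int.ofNat 0, Int.ofNat 0, Int.ofNat 0, Int.ofNat 0, Int.ofNat 2, Int.ofNat 2, Int.ofNat 0, Int.ofNat 0, Int.ofNat 2, Int.negSucc 1, Int.ofNat 0, Int.ofNat 2, Int.negSucc 1],
  [Int.negSucc 1, Int.ofNat 0, Int.ofNat 0, Int.ofNat 0, Int.negSucc 1, Int.ofNat 0, Int.negSucc 1, Int.ofNat 0, Int.ofNat 0, Int.ofNat 0, Int.ofNat 0, Int.ofNat 0, Int.ofNat 0, Int.negSucc 1, Int.ofNat 0, Int.ofNat 2, Int.ofNat 0, Int.ofNat 0, Int.ofNat 0, Int.ofNat 0, Int.negSucc 1, Int.negSucc 1, Int.ofNat 0, Int.ofNat 2],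
  [Int.negSucc 1, Int.negSucc 1, Int.negSucc 1, Int.ofNat 0, Int.ofNat 0, Int.ofNat 0, Int.ofNat 0, Int.ofNat 0, Int.ofNat 0, Int.negSucc 1, Int.negSucc 1, Int.ofNat 0, Int.ofNat 0, Int.ofNat 0, Int.ofNat 0, Int.ofNat 2, Int.ofNat 0, Int.ofNat 0, Int.ofNat 0, Int.ofNat 0, Int.negSucc 1, Int.ofNat 0, Int.ofNat 0, Int.ofNat 2],
  [Int.ofNat 0, Int.ofNat 0, Int.ofNat 0, Int.ofNat 0, Int.ofNat 0, Int.ofNat 0, Int.ofNat 0, Int.ofNat 0, Int.ofNat 0, Int.ofNat 0, Int.ofNat 0, Int.ofNat 0, Int.ofNat 0, Int.ofNat 0, Int.ofNat 0, Int.ofNat 4, Int.ofNat 0, Int.ofNat 0, Int.ofNat 0, Int.ofNat 0, Int.ofNat 0, Int.ofNat 0, Int.ofNat 0, Int.negSucc 3],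
  [Int.ofNat 0, Int.ofNat 0, Int.ofNat 0, Int.ofNat 0, Int.ofNat 0, Int.ofNat 0, Int.ofNat 0, Int.ofNat 0, Int.ofNat 0, Int.ofNat 0, Int.ofNat 0, Int.ofNat 0, Int.ofNat 0, Int.ofNat 0, Int.ofNat 0, Int.negSucc 3, Int.ofNat 0, Int.ofNat 0, Int.ofNat 0, Int.ofNat 0, Int.ofNat 0, Int.ofNat 0, Int.ofNat 0, Int.negSucc 3],
  [Int.ofNat 0, Int.ofNat 0, Int.ofNat 0, Int.ofNat 0, Int.ofNat 0, Int.ofNat 0, Int.ofNat 0, Int.ofNat 0, Int.ofNat 0, Int.ofNat 0, Int.ofNat 0, Int.ofNat 0, Int.negSucc 3, Int.ofNat 0, Int.ofNat 0, Int.ofNat 0, Int.ofNat 0, Int.ofNat 0, Int.ofNat 0, Int.ofNat 0, Int.ofNat 0, Int.ofNat 0, Int.ofNat 0, Int.negSucc 3],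
  [Int.ofNat 0, Int.ofNat 0, Int.ofNat 0, Int.ofNat 0, Int.ofNat 0, Int.ofNat 0, Int.ofNat 0, Int.ofNat 0, Int.ofNat 0, Int.ofNat 0, Int.ofNat 0, Int.ofNat 0, Int.ofNat 4, Int.ofNat 0, Int.ofNat 0, Int.ofNat 0, Int.ofNat 0, Int.ofNat 0, Int.ofNat 0, Int.ofNat 0, Int.ofNat 0, Int.ofNat 0, Int.ofNat 0, Int.negSucc 3],
  [Int.negSucc 3, Int.ofNat 0, Int.ofNat 0, Int.ofNat 0, Int.ofNat 0, Int.ofNat 0, Int.ofNat 0, Int.ofNat 0, Int.ofNat 0, Int.ofNat 0, Int.ofNat 0, Int.ofNat 0, Int.ofNat 0, Int.ofNat 0, Int.ofNat 0, Int.ofNat 0, Int.ofNat 0, Int.ofNat 0, Int.ofNat 0, Int.ofNat 0, Int.ofNat 0, Int.ofNat 4, Int.ofNat 0, Int.ofNat 0],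
  [Int.ofNat 4, Int.ofNat 0, Int.ofNat 0, Int.ofNat 0, Int.ofNat 0, Int.ofNat 0, Int.ofNat 0, Int.ofNat 0, Int.ofNat 0, Int.ofNat 0, Int.ofNat 0, Int.ofNat 0, Int.ofNat 0, Int.ofNat 0, Int.ofNat 0, Int.ofNat 0, Int.ofNat 0, Int.ofNat 0, Int.ofNat 0, Int.ofNat 0, Int.ofNat 0, Int.negSucc 3, Int.ofNat 0, Int.ofNat 0],
  [Int.ofNat 0, Int.ofNat 4, Int.ofNat 0, Int.ofNat 0, Int.ofNat 0, Int.ofNat 0, Int.ofNat 0, Int.ofNat 0, Int.ofNat 0, Int.ofNat 0, Int.ofNat 0, Int.ofNat 0, Int.ofNat 0, Int.ofNat 0, Int.ofNat 0, Int.ofNat 0, Int.ofNat 0, Int.ofNat 0, Int.ofNat 0, Int.ofNat 0, Int.ofNat 0, Int.ofNat 0, Int.negSucc 3, Int.ofNat 0],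
  [Int.ofNat 2, Int.negSucc 1, Int.ofNat 2, Int.ofNat 0, Int.ofNat 2, Int.ofNat 0, Int.ofNat 0, Int.ofNat 0, Int.ofNat 0, Int.ofNat 0, Int.ofNat 0, Int.ofNat 0, Int.ofNat 0, Int.ofNat 2, Int.ofNat 0, Int.ofNat 0, Int.ofNat 2, Int.ofNat 0, Int.ofNat 0, Int.ofNat 0, Int.ofNat 0, Int.ofNat 0, Int.negSucc 1, Int.ofNat 2],
  [Int.ofNat 0, Int.ofNat 2, Int.ofNat 0, Int.ofNat 0, Int.ofNat 0, Int.ofNat 0, Int.ofNat 0, Int.ofNat 0, Int.ofNat 0, Int.ofNat 0, Int.ofNat 2, Int.ofNat 0, Int.ofNat 0, Int.ofNat 2, Int.ofNat 0, Int.ofNat 0, Int.ofNat 0, Int.ofNat 0, Int.ofNat 0, Int.negSucc 1, Int.ofNat 2, Int.negSucc 1, Int.ofNat 2, Int.ofNat 2],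
  [Int.ofNat 2, Int.ofNat 0, Int.ofNat 2, Int.ofNat 0, Int.negSucc 1, Int.ofNat 0, Int.ofNat 2, Int.ofNat 2, Int.ofNat 0, Int.negSucc 1, Int.ofNat 0, Int.ofNat 0, Int.ofNat 0, Int.ofNat 0, Int.ofNat 0, Int.negSucc 1, Int.negSucc 1, Int.ofNat 0, Int.ofNat 0, Int.ofNat 0, Int.ofNat 0, Int.ofNat 0, Int.ofNat 0, Int.ofNat 0],
  [Int.ofNat 2, Int.ofNat 2, Int.negSucc 1, Int.ofNat 0, Int.ofNat 0, Int.ofNat 2, Int.ofNat 2, Int.ofNat 0, Int.ofNat 0, Int.ofNat 0, Int.ofNat 0, Int.ofNat 0, Int.negSucc 1, Int.negSucc 1, Int.ofNat 0, Int.negSucc 1, Int.ofNat 0, Int.ofNat 0, Int.ofNat 0, Int.ofNat 0, Int.ofNat 0, Int.ofNat 0, Int.ofNat 0, Int.ofNat 0],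
  [Int.negSucc 0, Int.negSucc 0, Int.ofNat 3, Int.negSucc 0, Int.ofNat 1, Int.ofNat 1, Int.ofNat 1, Int.negSucc 0, Int.ofNat 1, Int.ofNat 1, Int.ofNat 1, Int.ofNat 1, Int.negSucc 0, Int.negSucc 0, Int.negSucc 0, Int.negSucc 0, Int.ofNat 1, Int.negSucc 0, Int.ofNat 1, Int.negSucc 0, Int.ofNat 1, Int.negSucc 0, Int.ofNat 1, Int.ofNat 1],
  [Int.negSucc 0, Int.negSucc 0, Int.negSucc 2, Int.negSucc 0, Int.ofNat 1, Int.negSucc 0, Int.negSucc 0, Int.negSucc 0, Int.ofNat 1, Int.negSucc 0, Int.negSucc 0, Int.ofNat 1, Int.negSucc 0, Int.negSucc 0, Int.negSucc 0, Int.ofNat 1, Int.ofNat 1, Int.negSucc 0, Int.negSucc 0, Int.negSucc 0, Int.ofNat 1, Int.negSucc 0, Int.negSucc 0, Int.ofNat 1],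
  [Int.negSucc 0, Int.negSucc 0, Int.ofNat 1, Int.negSucc 0, Int.negSucc 0, Int.negSucc 0, Int.ofNat 1, Int.negSucc 0, Int.negSucc 0, Int.ofNat 1, Int.negSucc 0, Int.ofNat 1, Int.ofNat 1, Int.negSucc 0, Int.negSucc 0, Int.negSucc 2, Int.negSucc 0, Int.negSucc 0, Int.negSucc 0, Int.negSucc 0, Int.negSucc 0, Int.ofNat 1, Int.negSucc 0, Int.ofNat 1],
  [Int.negSucc 0, Int.negSucc 0, Int.negSucc 0, Int.negSucc 0, Int.negSucc 0, Int.ofNat 1, Int.negSucc 0, Int.negSucc 0, Int.negSucc 0, Int.negSucc 0, Int.ofNat 1, Int.ofNat 1, Int.ofNat 1, Int.negSucc 0, Int.negSucc 0, Int.ofNat 3, Int.negSucc 0, Int.negSucc 0, Int.ofNat 1, Int.negSucc 0, Int.negSucc 0, Int.ofNat 1, Int.ofNat 1, Int.ofNat 1],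
  [Int.ofNat 0, Int.ofNat 0, Int.ofNat 0, Int.ofNat 0, Int.ofNat 0, Int.ofNat 2, Int.ofNat 0, Int.ofNat 0, Int.negSucc 1, Int.negSucc 1, Int.ofNat 0, Int.ofNat 0, Int.ofNat 0, Int.ofNat 0, Int.ofNat 0, Int.ofNat 2, Int.ofNat 0, Int.ofNat 0, Int.ofNat 0, Int.ofNat 0, Int.negSucc 1, Int.ofNat 2, Int.ofNat 2, Int.negSucc 1],
  [Int.ofNat 0, Int.ofNat 0, Int.ofNat 0, Int.ofNat 0, Int.ofNat 0, Int.ofNat 2, Int.ofNat 0, Int.ofNat 2, Int.ofNat 0, Int.ofNat 0, Int.ofNat 0, Int.ofNat 0, Int.negSucc 1, Int.negSucc 1, Int.ofNat 0, Int.ofNat 2, Int.ofNat 0, Int.ofNat 0, Int.ofNat 0, Int.ofNat 2, Int.ofNat 0, Int.negSucc 1, Int.ofNat 0, Int.negSucc 1],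
  [Int.negSucc 0, Int.negSucc 0, Int.negSucc 0, Int.negSucc 0, Int.ofNat 1, Int.ofNat 1, Int.negSucc 0, Int.ofNat 1, Int.ofNat 1, Int.negSucc 0, Int.negSucc 0, Int.ofNat 1, Int.negSucc 0, Int.negSucc 0, Int.negSucc 0, Int.ofNat 1, Int.ofNat 1, Int.negSucc 0, Int.ofNat 1, Int.ofNat 1, Int.negSucc 0, Int.negSucc 2, Int.ofNat 1, Int.ofNat 1],
  [Int.negSucc 0, Int.negSucc 2, Int.ofNat 1, Int.negSucc 0, Int.negSucc 0, Int.negSucc 0, Int.negSucc 0, Int.ofNat 1, Int.ofNat 1, Int.negSucc 0, Int.ofNat 1, Int.ofNat 1, Int.negSucc 0, Int.negSucc 0, Int.ofNat 1, Int.negSucc 0, Int.negSucc 0, Int.negSucc 0, Int.ofNat 1, Int.ofNat 1, Int.negSucc 0, Int.ofNat 1, Int.ofNat 1, Int.ofNat 1],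
  [Int.ofNat 0, Int.ofNat 2, Int.negSucc 1, Int.ofNat 0, Int.ofNat 0, Int.ofNat 0, Int.negSucc 1, Int.ofNat 0, Int.ofNat 0, Int.ofNat 0, Int.ofNat 2, Int.ofNat 0, Int.negSucc 1, Int.ofNat 0, Int.ofNat 2, Int.ofNat 0, Int.ofNat 0, Int.ofNat 0, Int.ofNat 0, Int.ofNat 0, Int.ofNat 0, Int.ofNat 0, Int.ofNat 2, Int.negSucc 1],
  [Int.ofNat 2, Int.negSucc 1, Int.ofNat 0, Int.ofNat 0, Int.ofNat 0, Int.negSucc 1, Int.ofNat 0, Int.ofNat 0, Int.ofNat 0, Int.ofNat 2, Int.ofNat 0, Int.negSucc 1, Int.ofNat 0, Int.ofNat 2, Int.ofNat 0, Int.ofNat 0, Int.ofNat 0, Int.ofNat 0, Int.ofNat 0, Int.ofNat 0, Int.ofNat 0, Int.ofNat 2, Int.ofNat 0, Int.negSucc 1],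
  [Int.negSucc 1, Int.negSucc 1, Int.ofNat 0, Int.ofNat 0, Int.ofNat 0, Int.negSucc 1, Int.ofNat 0, Int.ofNat 0, Int.ofNat 0, Int.negSucc 1, Int.ofNat 0, Int.ofNat 2, Int.ofNat 0, Int.ofNat 2, Int.ofNat 0, Int.ofNat 0, Int.ofNat 0, Int.ofNat 0, Int.ofNat 0, Int.ofNat 0, Int.ofNat 0, Int.negSucc 1, Int.ofNat 0, Int.negSucc 1],
  [Int.negSucc 1, Int.ofNat 0, Int.ofNat 0, Int.ofNat 0, Int.negSucc 1, Int.ofNat 0, Int.ofNat 0, Int.ofNat 0, Int.negSucc 1, Int.ofNat 0, Int.negSucc 1, Int.ofNat 0, Int.ofNat 2, Int.ofNat 0, Int.ofNat 0, Int.ofNat 0, Int.ofNat 0, Int.ofNat 0, Int.ofNat 0, Int.ofNat 0, Int.negSucc 1, Int.ofNat 0, Int.ofNat 2, Int.negSucc 1],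
  [Int.ofNat 2, Int.ofNat 0, Int.ofNat 0, Int.ofNat 0, Int.negSucc 1, Int.ofNat 0, Int.ofNat 0, Int.ofNat 0, Int.negSucc 1, Int.ofNat 0, Int.ofNat 2, Int.ofNat 0, Int.ofNat 2, Int.ofNat 0, Int.ofNat 0, Int.ofNat 0, Int.ofNat 0, Int.ofNat 0, Int.ofNat 0, Int.ofNat 0, Int.negSucc 1, Int.ofNat 0, Int.ofNat 2, Int.negSucc 1],
  [Int.ofNat 2, Int.ofNat 2, Int.ofNat 0, Int.ofNat 0, Int.ofNat 0, Int.negSucc 1, Int.ofNat 0, Int.ofNat 0, Int.ofNat 0, Int.negSucc 1, Int.ofNat 0, Int.ofNat 2, Int.ofNat 0, Int.ofNat 2, Int.ofNat 0, Int.ofNat 0, Int.ofNat 0, Int.ofNat 0, Int.ofNat 0, Int.ofNat 0, Int.ofNat 0, Int.negSucc 1, Int.ofNat 0, Int.negSucc 1],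
  [Int.negSucc 0, Int.negSucc 0, Int.ofNat 1, Int.ofNat 1, Int.negSucc 0, Int.negSucc 0, Int.ofNat 1, Int.ofNat 1, Int.negSucc 0, Int.negSucc 0, Int.ofNat 1, Int.ofNat 1, Int.negSucc 0, Int.ofNat 1, Int.ofNat 1, Int.ofNat 1, Int.negSucc 0, Int.ofNat 1, Int.negSucc 0, Int.ofNat 1, Int.ofNat 1, Int.negSucc 0, Int.negSucc 0, Int.ofNat 3],
  [Int.ofNat 1, Int.negSucc 0, Int.negSucc 0, Int.ofNat 1, Int.ofNat 1, Int.negSucc 0, Int.negSucc 0, Int.ofNat 1, Int.ofNat 1, Int.negSucc 0, Int.ofNat 1, Int.ofNat 1, Int.ofNat 1, Int.negSucc 0, Int.ofNat 1, Int.negSucc 0, Int.ofNat 1, Int.ofNat 1, Int.negSucc 0, Int.negSucc 0, Int.negSucc 0, Int.negSucc 0, Int.ofNat 1, Int.ofNat 3],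
  [Int.ofNat 0, Int.ofNat 2, Int.ofNat 2, Int.ofNat 0, Int.ofNat 0, Int.negSucc 1, Int.ofNat 0, Int.ofNat 2, Int.ofNat 0, Int.ofNat 0, Int.ofNat 2, Int.ofNat 0, Int.ofNat 0, Int.negSucc 1, Int.ofNat 0, Int.ofNat 0, Int.ofNat 0, Int.ofNat 0, Int.negSucc 1, Int.ofNat 0, Int.ofNat 0, Int.ofNat 0, Int.ofNat 0, Int.negSucc 1],
  [Int.ofNat 0, Int.ofNat 0, Int.ofNat 0, Int.ofNat 0, Int.negSucc 1, Int.ofNat 2, Int.ofNat 2, Int.ofNat 2, Int.ofNat 0, Int.negSucc 1, Int.ofNat 0, Int.ofNat 0, Int.ofNat 0, Int.ofNat 0, Int.ofNat 0, Int.ofNat 0, Int.ofNat 0, Int.ofNat 0, Int.ofNat 2, Int.ofNat 0, Int.ofNat 0, Int.negSucc 1, Int.ofNat 0, Int.negSucc 1],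
  [Int.negSucc 0, Int.negSucc 0, Int.negSucc 0, Int.negSucc 0, Int.negSucc 0, Int.ofNat 1, Int.ofNat 1, Int.ofNat 1, Int.negSucc 0, Int.negSucc 0, Int.ofNat 1, Int.negSucc 0, Int.negSucc 0, Int.ofNat 1, Int.negSucc 0, Int.ofNat 1, Int.ofNat 1, Int.negSucc 0, Int.ofNat 1, Int.negSucc 0, Int.ofNat 1, Int.negSucc 2, Int.ofNat 1, Int.ofNat 1],
  [Int.negSucc 0, Int.negSucc 0, Int.ofNat 1, Int.negSucc 0, Int.negSucc 0, Int.negSucc 0, Int.negSucc 0, Int.ofNat 1, Int.negSucc 0, Int.ofNat 1, Int.negSucc 0, Int.negSucc 0, Int.negSucc 0, Int.ofNat 1, Int.negSucc 0, Int.negSucc 0, Int.ofNat 1, Int.negSucc 0, Int.negSucc 0, Int.negSucc 0, Int.ofNat 1, Int.negSucc 2, Int.negSucc 0, Int.ofNat 1],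
  [Int.negSucc 0, Int.ofNat 1, Int.negSucc 0, Int.negSucc 0, Int.negSucc 0, Int.negSucc 0, Int.negSucc 2, Int.negSucc 0, Int.negSucc 0, Int.ofNat 1, Int.ofNat 1, Int.ofNat 1, Int.negSucc 0, Int.negSucc 0, Int.negSucc 0, Int.negSucc 0, Int.negSucc 0, Int.negSucc 0, Int.ofNat 1, Int.ofNat 1, Int.negSucc 0, Int.negSucc 0, Int.negSucc 0, Int.ofNat 1],
  [Int.ofNat 1, Int.negSucc 0, Int.ofNat 1, Int.ofNat 1, Int.ofNat 1, Int.negSucc 0, Int.ofNat 3, Int.negSucc 0, Int.ofNat 1, Int.negSucc 0, Int.ofNat 1, Int.ofNat 1, Int.ofNat 1, Int.ofNat 1, Int.negSucc 0, Int.negSucc 0, Int.ofNat 1, Int.negSucc 0, Int.negSucc 0, Int.ofNat 1, Int.negSucc 0, Int.negSucc 0, Int.negSucc 0, Int.ofNat 1],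
  [Int.ofNat 1, Int.negSucc 0, Int.ofNat 1, Int.negSucc 0, Int.negSucc 0, Int.negSucc 0, Int.ofNat 1, Int.ofNat 1, Int.negSucc 0, Int.negSucc 0, Int.ofNat 1, Int.ofNat 1, Int.negSucc 0, Int.negSucc 0, Int.negSucc 0, Int.ofNat 1, Int.ofNat 1, Int.ofNat 1, Int.negSucc 0, Int.ofNat 3, Int.ofNat 1, Int.ofNat 1, Int.negSucc 0, Int.ofNat 1],
  [Int.negSucc 0, Int.negSucc 0, Int.negSucc 0, Int.negSucc 0, Int.negSucc 0, Int.negSucc 0, Int.ofNat 1, Int.negSucc 0, Int.negSucc 0, Int.ofNat 1, Int.negSucc 0, Int.negSucc 0, Int.negSucc 0, Int.negSucc 0, Int.negSucc 0, Int.ofNat 1, Int.ofNat 1, Int.ofNat 1, Int.ofNat 1, Int.ofNat 3, Int.ofNat 1, Int.negSucc 0, Int.negSucc 0, Int.ofNat 1],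
  [Int.negSucc 0, Int.negSucc 0, Int.negSucc 0, Int.negSucc 0, Int.negSucc 0, Int.negSucc 0, Int.negSucc 0, Int.ofNat 1, Int.negSucc 0, Int.negSucc 0, Int.ofNat 1, Int.negSucc 0, Int.negSucc 0, Int.negSucc 0, Int.negSucc 0, Int.negSucc 0, Int.ofNat 1, Int.ofNat 1, Int.ofNat 1, Int.ofNat 1, Int.ofNat 3, Int.ofNat 1, Int.negSucc 0, Int.ofNat 1],
  [Int.ofNat 0, Int.ofNat 0, Int.ofNat 0, Int.ofNat 0, Int.ofNat 0, Int.ofNat 0, Int.negSucc 1, Int.ofNat 0, Int.ofNat 0, Int.negSucc 1, Int.ofNat 0, Int.ofNat 0, Int.ofNat 0, Int.ofNat 0, Int.ofNat 0, Int.negSucc 1, Int.ofNat 2, Int.ofNat 2, Int.ofNat 2, Int.ofNat 0, Int.ofNat 2, Int.ofNat 0, Int.ofNat 0, Int.negSucc 1],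
  [Int.ofNat 0, Int.ofNat 0, Int.ofNat 0, Int.negSucc 1, Int.ofNat 0, Int.ofNat 0, Int.negSucc 1, Int.ofNat 0, Int.ofNat 0, Int.ofNat 0, Int.ofNat 0, Int.ofNat 0, Int.negSucc 1, Int.ofNat 2, Int.ofNat 2, Int.ofNat 2, Int.ofNat 0, Int.ofNat 2, Int.ofNat 0, Int.ofNat 0, Int.ofNat 0, Int.ofNat 0, Int.ofNat 0, Int.negSucc 1],
  [Int.negSucc 0, Int.negSucc 0, Int.negSucc 0, Int.negSucc 2, Int.negSucc 0, Int.negSucc 0, Int.negSucc 0, Int.ofNat 1, Int.ofNat 1, Int.negSucc 0, Int.negSucc 0, Int.ofNat 1, Int.negSucc 0, Int.ofNat 1, Int.ofNat 1, Int.ofNat 1, Int.negSucc 0, Int.ofNat 1, Int.ofNat 1, Int.ofNat 1, Int.negSucc 0, Int.ofNat 1, Int.negSucc 0, Int.ofNat 1],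
  [Int.negSucc 0, Int.negSucc 0, Int.negSucc 0, Int.negSucc 2, Int.ofNat 1, Int.ofNat 1, Int.negSucc 0, Int.negSucc 0, Int.negSucc 0, Int.ofNat 1, Int.negSucc 0, Int.ofNat 1, Int.negSucc 0, Int.negSucc 0, Int.negSucc 0, Int.ofNat 1, Int.ofNat 1, Int.ofNat 1, Int.negSucc 0, Int.ofNat 1, Int.ofNat 1, Int.negSucc 0, Int.ofNat 1, Int.ofNat 1],
  [Int.ofNat 0, Int.ofNat 0, Int.ofNat 0, Int.negSucc 1, Int.ofNat 0, Int.ofNat 2, Int.ofNat 0, Int.ofNat 0, Int.ofNat 0, Int.ofNat 0, Int.negSucc 1, Int.ofNat 2, Int.ofNat 0, Int.negSucc 1, Int.ofNat 0, Int.ofNat 0, Int.ofNat 0, Int.ofNat 2, Int.ofNat 0, Int.ofNat 2, Int.ofNat 0, Int.ofNat 0, Int.ofNat 0, Int.negSucc 1],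
  [Int.ofNat 0, Int.ofNat 0, Int.ofNat 0, Int.negSucc 1, Int.ofNat 0, Int.negSucc 1, Int.ofNat 0, Int.ofNat 0, Int.ofNat 0, Int.ofNat 0, Int.ofNat 2, Int.ofNat 2, Int.ofNat 0, Int.negSucc 1, Int.ofNat 0, Int.ofNat 0, Int.ofNat 0, Int.ofNat 2, Int.ofNat 0, Int.ofNat 2, Int.ofNat 0, Int.ofNat 0, Int.ofNat 0, Int.negSucc 1],
  [Int.ofNat 0, Int.ofNat 0, Int.ofNat 0, Int.ofNat 2, Int.ofNat 0, Int.ofNat 0, Int.ofNat 0, Int.ofNat 0, Int.negSucc 1, Int.ofNat 2, Int.negSucc 1, Int.ofNat 0, Int.ofNat 0, Int.ofNat 0, Int.ofNat 0, Int.ofNat 0, Int.negSucc 1, Int.ofNat 0, Int.ofNat 0, Int.ofNat 2, Int.ofNat 2, Int.ofNat 0, Int.ofNat 0, Int.negSucc 1],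
  [Int.ofNat 0, Int.ofNat 0, Int.ofNat 0, Int.ofNat 2, Int.ofNat 0, Int.ofNat 0, Int.ofNat 0, Int.ofNat 0, Int.negSucc 1, Int.negSucc 1, Int.ofNat 2, Int.ofNat 0, Int.ofNat 0, Int.ofNat 0, Int.ofNat 0, Int.ofNat 0, Int.negSucc 1, Int.ofNat 0, Int.ofNat 0, Int.ofNat 2, Int.ofNat 2, Int.ofNat 0, Int.ofNat 0, Int.negSucc 1],
  [Int.negSucc 0, Int.negSucc 0, Int.negSucc 0, Int.ofNat 1, Int.ofNat 1, Int.negSucc 0, Int.negSucc 0, Int.negSucc 0, Int.negSucc 0, Int.negSucc 2, Int.ofNat 1, Int.ofNat 1, Int.ofNat 1, Int.ofNat 1, Int.negSucc 0, Int.negSucc 0, Int.negSucc 0, Int.negSucc 0, Int.ofNat 1, Int.ofNat 1, Int.ofNat 1, Int.negSucc 0, Int.ofNat 1, Int.ofNat 1],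
  [Int.negSucc 0, Int.ofNat 1, Int.negSucc 0, Int.ofNat 1, Int.negSucc 0, Int.negSucc 0, Int.negSucc 0, Int.negSucc 0, Int.negSucc 0, Int.ofNat 1, Int.negSucc 0, Int.ofNat 1, Int.negSucc 0, Int.negSucc 2, Int.negSucc 0, Int.negSucc 0, Int.ofNat 1, Int.ofNat 1, Int.ofNat 1, Int.ofNat 1, Int.ofNat 1, Int.ofNat 1, Int.negSucc 0, Int.ofNat 1],
  [Int.ofNat 1, Int.negSucc 0, Int.ofNat 1, Int.ofNat 1, Int.ofNat 1, Int.negSucc 0, Int.negSucc 0, Int.negSucc 0, Int.negSucc 0, Int.ofNat 1, Int.negSucc 0, Int.ofNat 1, Int.negSucc 0, Int.negSucc 0, Int.negSucc 0, Int.negSucc 0, Int.ofNat 3, Int.ofNat 1, Int.ofNat 1, Int.ofNat 1, Int.ofNat 1, Int.ofNat 1, Int.ofNat 1, Int.negSucc 0],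
  [Int.ofNat 1, Int.ofNat 1, Int.ofNat 1, Int.ofNat 1, Int.negSucc 0, Int.ofNat 1, Int.ofNat 1, Int.ofNat 1, Int.negSucc 0, Int.negSucc 0, Int.negSucc 0, Int.negSucc 0, Int.ofNat 1, Int.negSucc 0, Int.ofNat 1, Int.negSucc 0, Int.negSucc 0, Int.negSucc 0, Int.negSucc 0, Int.ofNat 3, Int.ofNat 1, Int.ofNat 1, Int.ofNat 1, Int.negSucc 0],
  [Int.ofNat 0, Int.ofNat 0, Int.ofNat 0, Int.ofNat 0, Int.ofNat 0, Int.ofNat 0, Int.negSucc 1, Int.negSucc 1, Int.ofNat 0, Int.ofNat 0, Int.ofNat 0, Int.ofNat 0, Int.ofNat 2, Int.ofNat 0, Int.ofNat 0, Int.ofNat 0, Int.ofNat 0, Int.negSucc 1, Int.ofNat 0, Int.ofNat 0, Int.ofNat 2, Int.negSucc 1, Int.ofNat 2, Int.ofNat 2],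
  [Int.ofNat 0, Int.ofNat 0, Int.ofNat 0, Int.ofNat 0, Int.ofNat 0, Int.negSucc 1, Int.negSucc 1, Int.ofNat 0, Int.ofNat 0, Int.ofNat 0, Int.ofNat 0, Int.ofNat 2, Int.ofNat 0, Int.ofNat 0, Int.ofNat 0, Int.ofNat 0, Int.negSucc 1, Int.ofNat 0, Int.ofNat 0, Int.ofNat 2, Int.negSucc 1, Int.ofNat 2, Int.ofNat 0, Int.ofNat 2],
  [Int.ofNat 0, Int.ofNat 0, Int.ofNat 0, Int.ofNat 0, Int.ofNat 0, Int.negSucc 1, Int.negSucc 1, Int.ofNat 0, Int.ofNat 0, Int.ofNat 0, Int.ofNat 0, Int.negSucc 1, Int.ofNat 0, Int.ofNat 0, Int.ofNat 0, Int.ofNat 0, Int.negSucc 1, Int.ofNat 0, Int.ofNat 0, Int.ofNat 2, Int.negSucc 1, Int.negSucc 1, Int.ofNat 0, Int.ofNat 2],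
  [Int.ofNat 0, Int.ofNat 0, Int.ofNat 0, Int.ofNat 0, Int.ofNat 0, Int.ofNat 0, Int.ofNat 0, Int.negSucc 1, Int.ofNat 0, Int.negSucc 1, Int.negSucc 1, Int.ofNat 0, Int.ofNat 0, Int.ofNat 0, Int.ofNat 2, Int.ofNat 0, Int.ofNat 0, Int.ofNat 0, Int.negSucc 1, Int.ofNat 0, Int.negSucc 1, Int.ofNat 0, Int.negSucc 1, Int.ofNat 2],
  [Int.ofNat 0, Int.ofNat 0, Int.ofNat 0, Int.ofNat 0, Int.ofNat 0, Int.ofNat 0, Int.ofNat 0, Int.ofNat 2, Int.ofNat 0, Int.ofNat 2, Int.ofNat 2, Int.ofNat 0, Int.ofNat 0, Int.ofNat 0, Int.ofNat 2, Int.ofNat 0, Int.ofNat 0, Int.ofNat 0, Int.ofNat 2, Int.ofNat 0, Int.negSucc 1, Int.ofNat 0, Int.negSucc 1, Int.ofNat 2],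
  [Int.negSucc 1, Int.ofNat 0, Int.ofNat 0, Int.ofNat 0, Int.ofNat 0, Int.ofNat 0, Int.ofNat 0, Int.ofNat 0, Int.ofNat 2, Int.ofNat 0, Int.ofNat 2, Int.ofNat 2, Int.ofNat 0, Int.ofNat 0, Int.ofNat 0, Int.ofNat 2, Int.ofNat 0, Int.ofNat 0, Int.ofNat 0, Int.ofNat 2, Int.ofNat 0, Int.negSucc 1, Int.ofNat 0, Int.ofNat 2],
  [Int.ofNat 2, Int.ofNat 0, Int.ofNat 0, Int.ofNat 0, Int.ofNat 0, Int.ofNat 0, Int.ofNat 0, Int.ofNat 0, Int.ofNat 0, Int.negSucc 1, Int.ofNat 0, Int.ofNat 0, Int.negSucc 1, Int.ofNat 0, Int.ofNat 0, Int.ofNat 0, Int.ofNat 0, Int.ofNat 0, Int.negSucc 1, Int.ofNat 2, Int.negSucc 1, Int.negSucc 1, Int.ofNat 0, Int.negSucc 1],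
  [Int.ofNat 0, Int.ofNat 0, Int.ofNat 0, Int.ofNat 0, Int.ofNat 0, Int.ofNat 0, Int.negSucc 1, Int.ofNat 0, Int.ofNat 0, Int.negSucc 1, Int.ofNat 0, Int.ofNat 0, Int.ofNat 0, Int.ofNat 0, Int.ofNat 0, Int.negSucc 1, Int.ofNat 2, Int.negSucc 1, Int.negSucc 1, Int.ofNat 0, Int.ofNat 2, Int.ofNat 0, Int.ofNat 0, Int.negSucc 1],
  [Int.negSucc 0, Int.negSucc 0, Int.negSucc 0, Int.ofNat 1, Int.negSucc 0, Int.ofNat 1, Int.negSucc 0, Int.ofNat 1, Int.ofNat 1, Int.negSucc 0, Int.ofNat 1, Int.ofNat 1, Int.ofNat 1, Int.negSucc 0, Int.ofNat 1, Int.negSucc 0, Int.ofNat 1, Int.negSucc 0, Int.negSucc 0, Int.ofNat 1, Int.ofNat 3, Int.ofNat 1, Int.negSucc 0, Int.ofNat 1],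
  [Int.negSucc 0, Int.negSucc 0, Int.negSucc 0, Int.ofNat 1, Int.negSucc 0, Int.ofNat 1, Int.negSucc 0, Int.ofNat 1, Int.ofNat 1, Int.negSucc 0, Int.ofNat 3, Int.negSucc 0, Int.negSucc 0, Int.ofNat 1, Int.negSucc 0, Int.negSucc 0, Int.ofNat 1, Int.ofNat 1, Int.negSucc 0, Int.ofNat 1, Int.ofNat 1, Int.ofNat 1, Int.ofNat 1, Int.ofNat 1],
  [Int.ofNat 0, Int.ofNat 0, Int.ofNat 0, Int.ofNat 0, Int.negSucc 1, Int.ofNat 0, Int.negSucc 1, Int.ofNat 0, Int.ofNat 2, Int.negSucc 1, Int.ofNat 2, Int.ofNat 0, Int.ofNat 0, Int.ofNat 0, Int.negSucc 1, Int.negSucc 1, Int.ofNat 0, Int.ofNat 0, Int.ofNat 0, Int.ofNat 0, Int.ofNat 0, Int.ofNat 0, Int.ofNat 0, Int.negSucc 1],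
  [Int.ofNat 0, Int.ofNat 0, Int.ofNat 0, Int.ofNat 0, Int.negSucc 1, Int.ofNat 0, Int.ofNat 2, Int.ofNat 0, Int.ofNat 2, Int.ofNat 2, Int.negSucc 1, Int.ofNat 0, Int.ofNat 0, Int.ofNat 0, Int.negSucc 1, Int.ofNat 2, Int.ofNat 0, Int.ofNat 0, Int.ofNat 0, Int.ofNat 0, Int.ofNat 0, Int.ofNat 0, Int.ofNat 0, Int.negSucc 1],
  [Int.negSucc 1, Int.ofNat 0, Int.ofNat 0, Int.ofNat 2, Int.negSucc 1, Int.ofNat 2, Int.ofNat 0, Int.ofNat 0, Int.ofNat 0, Int.ofNat 0, Int.ofNat 0, Int.ofNat 0, Int.ofNat 2, Int.negSucc 1, Int.ofNat 0, Int.ofNat 0, Int.ofNat 0, Int.ofNat 0, Int.ofNat 2, Int.ofNat 0, Int.ofNat 0, Int.ofNat 0, Int.ofNat 0, Int.negSucc 1],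
  [Int.ofNat 2, Int.ofNat 0, Int.ofNat 0, Int.negSucc 1, Int.ofNat 2, Int.ofNat 2, Int.ofNat 0, Int.ofNat 0, Int.ofNat 0, Int.ofNat 0, Int.ofNat 0, Int.ofNat 0, Int.negSucc 1, Int.ofNat 2, Int.ofNat 0, Int.ofNat 0, Int.ofNat 0, Int.ofNat 0, Int.negSucc 1, Int.ofNat 0, Int.ofNat 0, Int.ofNat 0, Int.ofNat 0, Int.negSucc 1],
  [Int.negSucc 1, Int.ofNat 0, Int.ofNat 0, Int.ofNat 0, Int.ofNat 0, Int.ofNat 0, Int.ofNat 0, Int.ofNat 2, Int.ofNat 0, Int.ofNat 2, Int.ofNat 0, Int.ofNat 0, Int.ofNat 0, Int.ofNat 0, Int.negSucc 1, Int.negSucc 1, Int.ofNat 0, Int.ofNat 2, Int.ofNat 0, Int.ofNat 0, Int.ofNat 0, Int.negSucc 1, Int.ofNat 0, Int.ofNat 2],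
  [Int.ofNat 2, Int.ofNat 0, Int.ofNat 0, Int.ofNat 0, Int.ofNat 0, Int.ofNat 0, Int.ofNat 0, Int.negSucc 1, Int.ofNat 0, Int.negSucc 1, Int.ofNat 0, Int.ofNat 0, Int.ofNat 0, Int.ofNat 0, Int.negSucc 1, Int.negSucc 1, Int.ofNat 0, Int.ofNat 2, Int.ofNat 0, Int.ofNat 0, Int.ofNat 0, Int.ofNat 2, Int.ofNat 0, Int.ofNat 2],
  [Int.ofNat 0, Int.ofNat 2, Int.ofNat 0, Int.ofNat 0, Int.ofNat 0, Int.ofNat 0, Int.ofNat 0, Int.ofNat 0, Int.negSucc 1, Int.ofNat 0, Int.negSucc 1, Int.ofNat 0, Int.ofNat 0, Int.ofNat 0, Int.ofNat 0, Int.negSucc 1, Int.negSucc 1, Int.ofNat 0, Int.ofNat 2, Int.ofNat 0, Int.ofNat 0, Int.ofNat 0, Int.ofNat 2, Int.ofNat 2],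
  [Int.ofNat 2, Int.ofNat 0, Int.ofNat 2, Int.ofNat 0, Int.ofNat 0, Int.ofNat 0, Int.ofNat 0, Int.ofNat 0, Int.negSucc 1, Int.ofNat 2, Int.ofNat 0, Int.ofNat 0, Int.ofNat 0, Int.ofNat 0, Int.ofNat 0, Int.ofNat 0, Int.negSucc 1, Int.ofNat 0, Int.ofNat 2, Int.ofNat 0, Int.ofNat 2, Int.ofNat 0, Int.ofNat 2, Int.ofNat 0],
  [Int.ofNat 0, Int.ofNat 0, Int.ofNat 0, Int.ofNat 0, Int.ofNat 0, Int.negSucc 1, Int.ofNat 2, Int.ofNat 0, Int.ofNat 0, Int.ofNat 0, Int.ofNat 0, Int.ofNat 0, Int.ofNat 0, Int.negSucc 1, Int.ofNat 0, Int.ofNat 2, Int.ofNat 0, Int.ofNat 2, Int.ofNat 0, Int.ofNat 2, Int.ofNat 2, Int.ofNat 0, Int.ofNat 2, Int.ofNat 0],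
  [Int.ofNat 0, Int.ofNat 0, Int.ofNat 0, Int.ofNat 0, Int.ofNat 0, Int.negSucc 1, Int.ofNat 0, Int.negSucc 1, Int.ofNat 0, Int.negSucc 1, Int.negSucc 1, Int.ofNat 0, Int.ofNat 0, Int.negSucc 1, Int.ofNat 0, Int.ofNat 0, Int.ofNat 0, Int.ofNat 2, Int.ofNat 0, Int.ofNat 0, Int.ofNat 0, Int.negSucc 1, Int.ofNat 2, Int.ofNat 0],
  [Int.ofNat 0, Int.ofNat 0, Int.ofNat 0, Int.ofNat 0, Int.ofNat 0, Int.negSucc 1, Int.ofNat 0, Int.negSucc 1, Int.ofNat 0, Int.negSucc 1, Int.ofNat 0, Int.ofNat 2, Int.negSucc 1, Int.ofNat 0, Int.ofNat 2, Int.ofNat 0, Int.ofNat 0, Int.ofNat 0, Int.ofNat 0, Int.ofNat 0, Int.negSucc 1, Int.negSucc 1, Int.ofNat 0, Int.ofNat 0],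
  [Int.ofNat 0, Int.ofNat 0, Int.ofNat 0, Int.ofNat 0, Int.ofNat 0, Int.negSucc 1, Int.ofNat 2, Int.ofNat 0, Int.ofNat 0, Int.ofNat 0, Int.ofNat 2, Int.ofNat 2, Int.negSucc 1, Int.ofNat 0, Int.ofNat 2, Int.ofNat 2, Int.ofNat 0, Int.ofNat 0, Int.ofNat 0, Int.ofNat 2, Int.ofNat 0, Int.ofNat 0, Int.ofNat 0, Int.ofNat 0],
  [Int.ofNat 0, Int.ofNat 0, Int.ofNat 0, Int.ofNat 0, Int.ofNat 0, Int.ofNat 2, Int.negSucc 1, Int.ofNat 0, Int.ofNat 0, Int.ofNat 0, Int.negSucc 1, Int.ofNat 2, Int.negSucc 1, Int.ofNat 0, Int.ofNat 2, Int.negSucc 1, Int.ofNat 0, Int.ofNat 0, Int.ofNat 0, Int.ofNat 2, Int.ofNat 0, Int.ofNat 0, Int.ofNat 0, Int.ofNat 0],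
  [Int.ofNat 2, Int.negSucc 1, Int.ofNat 0, Int.ofNat 0, Int.ofNat 0, Int.ofNat 0, Int.negSucc 1, Int.ofNat 0, Int.ofNat 0, Int.ofNat 2, Int.ofNat 0, Int.ofNat 0, Int.ofNat 0, Int.negSucc 1, Int.ofNat 0, Int.ofNat 0, Int.ofNat 2, Int.ofNat 0, Int.ofNat 0, Int.negSucc 1, Int.ofNat 2, Int.ofNat 0, Int.ofNat 0, Int.ofNat 0],
  [Int.ofNat 2, Int.negSucc 1, Int.ofNat 0, Int.ofNat 0, Int.ofNat 0, Int.ofNat 0, Int.ofNat 2, Int.ofNat 0, Int.ofNat 0, Int.negSucc 1, Int.ofNat 0, Int.ofNat 0, Int.ofNat 0, Int.negSucc 1, Int.ofNat 0, Int.ofNat 0, Int.ofNat 2, Int.ofNat 0, Int.ofNat 0, Int.negSucc 1, Int.ofNat 2, Int.ofNat 0, Int.ofNat 0, Int.ofNat 0],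
  [Int.negSucc 1, Int.ofNat 2, Int.ofNat 0, Int.ofNat 0, Int.ofNat 0, Int.ofNat 0, Int.ofNat 2, Int.ofNat 0, Int.ofNat 0, Int.negSucc 1, Int.ofNat 0, Int.ofNat 0, Int.ofNat 0, Int.negSucc 1, Int.ofNat 0, Int.ofNat 0, Int.ofNat 2, Int.ofNat 0, Int.ofNat 0, Int.negSucc 1, Int.ofNat 2, Int.ofNat 0, Int.ofNat 0, Int.ofNat 0],
  [Int.negSucc 1, Int.ofNat 0, Int.ofNat 2, Int.ofNat 0, Int.ofNat 0, Int.ofNat 0, Int.ofNat 2, Int.ofNat 0, Int.ofNat 2, Int.ofNat 0, Int.ofNat 0, Int.negSucc 1, Int.ofNat 0, Int.negSucc 1, Int.ofNat 0, Int.ofNat 0, Int.negSucc 1, Int.ofNat 0, Int.ofNat 0, Int.ofNat 0, Int.ofNat 0, Int.ofNat 2, Int.ofNat 0, Int.ofNat 0],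
  [Int.ofNat 2, Int.ofNat 0, Int.negSucc 1, Int.ofNat 0, Int.ofNat 2, Int.ofNat 0, Int.ofNat 0, Int.negSucc 1, Int.ofNat 2, Int.ofNat 0, Int.ofNat 0, Int.negSucc 1, Int.ofNat 0, Int.ofNat 0, Int.ofNat 0, Int.ofNat 0, Int.ofNat 0, Int.ofNat 0, Int.ofNat 0, Int.negSucc 1, Int.ofNat 0, Int.ofNat 0, Int.ofNat 2, Int.ofNat 0],
  [Int.ofNat 0, Int.ofNat 0, Int.ofNat 2, Int.ofNat 2, Int.ofNat 0, Int.negSucc 1, Int.ofNat 0, Int.ofNat 2, Int.ofNat 0, Int.ofNat 0, Int.negSucc 1, Int.ofNat 2, Int.ofNat 0, Int.ofNat 0, Int.negSucc 1, Int.ofNat 0, Int.ofNat 0, Int.ofNat 0, Int.ofNat 0, Int.ofNat 0, Int.ofNat 0, Int.ofNat 0, Int.negSucc 1, Int.ofNat 0],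
  [Int.ofNat 1, Int.ofNat 1, Int.negSucc 0, Int.ofNat 3, Int.ofNat 1, Int.negSucc 0, Int.negSucc 0, Int.ofNat 1, Int.negSucc 0, Int.ofNat 1, Int.negSucc 0, Int.ofNat 1, Int.negSucc 0, Int.ofNat 1, Int.negSucc 0, Int.ofNat 1, Int.ofNat 1, Int.ofNat 1, Int.negSucc 0, Int.negSucc 0, Int.ofNat 1, Int.negSucc 0, Int.negSucc 0, Int.ofNat 1],
  [Int.ofNat 1, Int.negSucc 0, Int.ofNat 3, Int.ofNat 1, Int.negSucc 0, Int.negSucc 0, Int.ofNat 1, Int.negSucc 0, Int.ofNat 1, Int.negSucc 0, Int.ofNat 1, Int.negSucc 0, Int.ofNat 1, Int.negSucc 0, Int.ofNat 1, Int.ofNat 1, Int.ofNat 1, Int.negSucc 0, Int.negSucc 0, Int.ofNat 1, Int.negSucc 0, Int.negSucc 0, Int.ofNat 1, Int.ofNat 1],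
  [Int.negSucc 0, Int.negSucc 0, Int.negSucc 2, Int.ofNat 1, Int.negSucc 0, Int.negSucc 0, Int.ofNat 1, Int.ofNat 1, Int.ofNat 1, Int.ofNat 1, Int.negSucc 0, Int.ofNat 1, Int.ofNat 1, Int.negSucc 0, Int.ofNat 1, Int.ofNat 1, Int.ofNat 1, Int.negSucc 0, Int.ofNat 1, Int.ofNat 1, Int.negSucc 0, Int.ofNat 1, Int.ofNat 1, Int.ofNat 1],
  [Int.negSucc 0, Int.negSucc 2, Int.ofNat 1, Int.ofNat 1, Int.negSucc 0, Int.negSucc 0, Int.negSucc 0, Int.negSucc 0, Int.ofNat 1, Int.ofNat 1, Int.ofNat 1, Int.ofNat 1, Int.negSucc 0, Int.ofNat 1, Int.ofNat 1, Int.ofNat 1, Int.ofNat 1, Int.ofNat 1, Int.ofNat 1, Int.negSucc 0, Int.negSucc 0, Int.ofNat 1, Int.ofNat 1, Int.ofNat 1],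
  [Int.ofNat 1, Int.negSucc 2, Int.negSucc 0, Int.ofNat 1, Int.negSucc 0, Int.negSucc 0, Int.negSucc 0, Int.ofNat 1, Int.ofNat 1, Int.negSucc 0, Int.negSucc 0, Int.negSucc 0, Int.negSucc 0, Int.ofNat 1, Int.ofNat 1, Int.ofNat 1, Int.ofNat 1, Int.ofNat 1, Int.negSucc 0, Int.negSucc 0, Int.negSucc 0, Int.negSucc 0, Int.ofNat 1, Int.ofNat 1],
  [Int.ofNat 1, Int.ofNat 1, Int.negSucc 2, Int.negSucc 0, Int.ofNat 1, Int.negSucc 0, Int.negSucc 0, Int.negSucc 0, Int.ofNat 1, Int.ofNat 1, Int.negSucc 0, Int.negSucc 0, Int.negSucc 0, Int.negSucc 0, Int.ofNat 1, Int.ofNat 1, Int.ofNat 1, Int.ofNat 1, Int.ofNat 1, Int.negSucc 0, Int.negSucc 0, Int.negSucc 0, Int.negSucc 0, Int.ofNat 1],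
  [Int.negSucc 0, Int.negSucc 0, Int.ofNat 3, Int.negSucc 0, Int.ofNat 1, Int.negSucc 0, Int.ofNat 1, Int.ofNat 1, Int.ofNat 1, Int.ofNat 1, Int.negSucc 0, Int.negSucc 0, Int.negSucc 0, Int.negSucc 0, Int.ofNat 1, Int.ofNat 1, Int.ofNat 1, Int.ofNat 1, Int.ofNat 1, Int.ofNat 1, Int.negSucc 0, Int.ofNat 1, Int.negSucc 0, Int.negSucc 0],
  [Int.negSucc 0, Int.ofNat 1, Int.negSucc 0, Int.ofNat 1, Int.ofNat 1, Int.ofNat 1, Int.ofNat 1, Int.negSucc 0, Int.negSucc 0, Int.negSucc 0, Int.negSucc 0, Int.ofNat 1, Int.ofNat 1, Int.ofNat 1, Int.ofNat 1, Int.ofNat 1, Int.ofNat 1, Int.negSucc 0, Int.ofNat 1, Int.negSucc 0, Int.negSucc 0, Int.negSucc 0, Int.ofNat 3, Int.negSucc 0],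
  [Int.ofNat 0, Int.negSucc 1, Int.ofNat 0, Int.ofNat 0, Int.negSucc 1, Int.ofNat 0, Int.ofNat 2, Int.ofNat 0, Int.negSucc 1, Int.ofNat 0, Int.ofNat 0, Int.ofNat 0, Int.ofNat 0, Int.negSucc 1, Int.ofNat 0, Int.ofNat 2, Int.negSucc 1, Int.negSucc 1, Int.ofNat 0, Int.ofNat 0, Int.ofNat 0, Int.ofNat 0, Int.ofNat 0, Int.ofNat 0],
  [Int.ofNat 0, Int.ofNat 2, Int.negSucc 1, Int.ofNat 0, Int.ofNat 0, Int.ofNat 0, Int.ofNat 0, Int.ofNat 0, Int.ofNat 0, Int.negSucc 1, Int.ofNat 0, Int.negSucc 1, Int.ofNat 0, Int.negSucc 1, Int.ofNat 0, Int.ofNat 2, Int.negSucc 1, Int.ofNat 0, Int.negSucc 1, Int.ofNat 0, Int.ofNat 0, Int.ofNat 0, Int.ofNat 0, Int.ofNat 0],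
  [Int.ofNat 0, Int.negSucc 1, Int.ofNat 2, Int.ofNat 0, Int.ofNat 2, Int.ofNat 0, Int.ofNat 0, Int.ofNat 0, Int.ofNat 2, Int.negSucc 1, Int.ofNat 0, Int.ofNat 0, Int.ofNat 2, Int.ofNat 0, Int.ofNat 0, Int.ofNat 2, Int.ofNat 0, Int.ofNat 0, Int.ofNat 0, Int.ofNat 0, Int.ofNat 0, Int.ofNat 0, Int.ofNat 2, Int.ofNat 0],
  [Int.ofNat 0, Int.negSucc 1, Int.negSucc 1, Int.ofNat 0, Int.ofNat 2, Int.ofNat 0, Int.ofNat 0, Int.ofNat 0, Int.ofNat 2, Int.ofNat 2, Int.ofNat 0, Int.ofNat 0, Int.ofNat 2, Int.ofNat 0, Int.ofNat 0, Int.negSucc 1, Int.ofNat 0, Int.ofNat 0, Int.ofNat 0, Int.ofNat 0, Int.ofNat 0, Int.ofNat 0, Int.negSucc 1, Int.ofNat 0],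
  [Int.ofNat 0, Int.ofNat 0, Int.ofNat 0, Int.ofNat 2, Int.ofNat 0, Int.ofNat 0, Int.ofNat 0, Int.ofNat 0, Int.ofNat 0, Int.ofNat 0, Int.ofNat 0, Int.ofNat 0, Int.negSucc 1, Int.ofNat 2, Int.ofNat 0, Int.ofNat 0, Int.ofNat 0, Int.ofNat 2, Int.ofNat 2, Int.negSucc 1, Int.ofNat 0, Int.negSucc 1, Int.negSucc 1, Int.ofNat 0],
  [Int.ofNat 0, Int.ofNat 0, Int.ofNat 0, Int.negSucc 1, Int.ofNat 0, Int.ofNat 0, Int.ofNat 0, Int.ofNat 0, Int.ofNat 0, Int.ofNat 0, Int.ofNat 0, Int.ofNat 0, Int.ofNat 2, Int.negSucc 1, Int.ofNat 0, Int.ofNat 0, Int.ofNat 0, Int.ofNat 2, Int.negSucc 1, Int.negSucc 1, Int.ofNat 0, Int.negSucc 1, Int.negSucc 1, Int.ofNat 0],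
  [Int.ofNat 0, Int.negSucc 1, Int.ofNat 0, Int.ofNat 0, Int.ofNat 2, Int.ofNat 0, Int.negSucc 1, Int.negSucc 1, Int.ofNat 0, Int.ofNat 0, Int.ofNat 0, Int.ofNat 0, Int.negSucc 1, Int.ofNat 0, Int.negSucc 1, Int.negSucc 1, Int.ofNat 0, Int.ofNat 0, Int.ofNat 0, Int.ofNat 0, Int.ofNat 0, Int.ofNat 2, Int.ofNat 0, Int.ofNat 0],
  [Int.ofNat 0, Int.negSucc 1, Int.ofNat 0, Int.ofNat 0, Int.ofNat 2, Int.ofNat 0, Int.negSucc 1, Int.ofNat 2, Int.ofNat 0, Int.ofNat 0, Int.ofNat 0, Int.ofNat 0, Int.negSucc 1, Int.ofNat 0, Int.negSucc 1, Int.negSucc 1, Int.ofNat 0, Int.ofNat 0, Int.ofNat 0, Int.ofNat 0, Int.ofNat 0, Int.negSucc 1, Int.ofNat 0, Int.ofNat 0],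
  [Int.ofNat 0, Int.ofNat 0, Int.negSucc 1, Int.ofNat 0, Int.ofNat 0, Int.ofNat 2, Int.ofNat 0, Int.negSucc 1, Int.ofNat 2, Int.ofNat 0, Int.ofNat 0, Int.ofNat 0, Int.ofNat 0, Int.negSucc 1, Int.ofNat 0, Int.negSucc 1, Int.negSucc 1, Int.ofNat 0, Int.ofNat 0, Int.ofNat 0, Int.ofNat 0, Int.ofNat 0, Int.negSucc 1, Int.ofNat 0],
  [Int.negSucc 0, Int.negSucc 0, Int.ofNat 1, Int.negSucc 0, Int.ofNat 3, Int.ofNat 1, Int.ofNat 1, Int.negSucc 0, Int.ofNat 1, Int.ofNat 1, Int.ofNat 1, Int.negSucc 0, Int.negSucc 0, Int.ofNat 1, Int.negSucc 0, Int.negSucc 0, Int.ofNat 1, Int.negSucc 0, Int.negSucc 0, Int.ofNat 1, Int.ofNat 1, Int.ofNat 1, Int.ofNat 1, Int.negSucc 0],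
  [Int.negSucc 0, Int.ofNat 3, Int.ofNat 1, Int.ofNat 1, Int.negSucc 0, Int.ofNat 1, Int.ofNat 1, Int.ofNat 1, Int.negSucc 0, Int.negSucc 0, Int.ofNat 1, Int.negSucc 0, Int.negSucc 0, Int.ofNat 1, Int.negSucc 0, Int.negSucc 0, Int.ofNat 1, Int.ofNat 1, Int.ofNat 1, Int.ofNat 1, Int.negSucc 0, Int.negSucc 0, Int.ofNat 1, Int.negSucc 0],
  [Int.ofNat 2, Int.negSucc 1, Int.ofNat 0, Int.ofNat 0, Int.negSucc 1, Int.ofNat 0, Int.ofNat 0, Int.ofNat 0, Int.ofNat 0, Int.ofNat 0, Int.ofNat 2, Int.ofNat 0, Int.ofNat 0, Int.ofNat 0, Int.negSucc 1, Int.ofNat 0, Int.ofNat 0, Int.ofNat 0, Int.ofNat 2, Int.ofNat 0, Int.ofNat 0, Int.negSucc 1, Int.ofNat 0, Int.ofNat 2],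
  [Int.ofNat 2, Int.ofNat 0, Int.negSucc 1, Int.ofNat 0, Int.ofNat 2, Int.ofNat 0, Int.ofNat 0, Int.ofNat 2, Int.ofNat 0, Int.ofNat 0, Int.ofNat 0, Int.ofNat 0, Int.ofNat 0, Int.ofNat 0, Int.ofNat 0, Int.ofNat 0, Int.ofNat 0, Int.negSucc 1, Int.negSucc 1, Int.ofNat 0, Int.negSucc 1, Int.ofNat 0, Int.ofNat 0, Int.ofNat 2],
  [Int.negSucc 0, Int.ofNat 1, Int.ofNat 3, Int.ofNat 1, Int.ofNat 1, Int.ofNat 1, Int.negSucc 0, Int.ofNat 1, Int.ofNat 1, Int.ofNat 1, Int.ofNat 1, Int.ofNat 1, Int.ofNat 1, Int.negSucc 0, Int.ofNat 1, Int.ofNat 1, Int.negSucc 0, Int.negSucc 0, Int.negSucc 0, Int.negSucc 0, Int.negSucc 0, Int.negSucc 0, Int.negSucc 0, Int.negSucc 0],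
  [Int.negSucc 0, Int.ofNat 1, Int.negSucc 2, Int.ofNat 1, Int.ofNat 1, Int.negSucc 0, Int.ofNat 1, Int.ofNat 1, Int.ofNat 1, Int.negSucc 0, Int.negSucc 0, Int.ofNat 1, Int.ofNat 1, Int.negSucc 0, Int.ofNat 1, Int.negSucc 0, Int.negSucc 0, Int.negSucc 0, Int.ofNat 1, Int.negSucc 0, Int.negSucc 0, Int.negSucc 0, Int.ofNat 1, Int.negSucc 0],
  [Int.ofNat 1, Int.ofNat 1, Int.ofNat 1, Int.negSucc 0, Int.negSucc 0, Int.ofNat 1, Int.negSucc 0, Int.negSucc 0, Int.negSucc 0, Int.ofNat 1, Int.ofNat 1, Int.negSucc 0, Int.negSucc 0, Int.ofNat 1, Int.ofNat 1, Int.negSucc 2, Int.negSucc 0, Int.ofNat 1, Int.ofNat 1, Int.negSucc 0, Int.negSucc 0, Int.ofNat 1, Int.negSucc 0, Int.negSucc 0],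
  [Int.ofNat 1, Int.ofNat 1, Int.negSucc 0, Int.negSucc 0, Int.negSucc 0, Int.negSucc 0, Int.ofNat 1, Int.negSucc 0, Int.negSucc 0, Int.negSucc 0, Int.negSucc 0, Int.negSucc 0, Int.negSucc 0, Int.ofNat 1, Int.ofNat 1, Int.ofNat 3, Int.negSucc 0, Int.ofNat 1, Int.negSucc 0, Int.negSucc 0, Int.negSucc 0, Int.ofNat 1, Int.ofNat 1, Int.negSucc 0],
  [Int.negSucc 0, Int.negSucc 0, Int.ofNat 1, Int.negSucc 0, Int.negSucc 0, Int.negSucc 0, Int.ofNat 1, Int.negSucc 0, Int.ofNat 1, Int.negSucc 0, Int.negSucc 0, Int.ofNat 1, Int.ofNat 1, Int.ofNat 1, Int.ofNat 1, Int.ofNat 3, Int.negSucc 0, Int.ofNat 1, Int.ofNat 1, Int.negSucc 0, Int.negSucc 0, Int.ofNat 1, Int.ofNat 1, Int.ofNat 1],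
  [Int.negSucc 0, Int.ofNat 1, Int.ofNat 1, Int.negSucc 0, Int.ofNat 1, Int.ofNat 1, Int.negSucc 0, Int.negSucc 0, Int.negSucc 0, Int.ofNat 1, Int.negSucc 0, Int.negSucc 0, Int.ofNat 1, Int.negSucc 0, Int.ofNat 1, Int.ofNat 3, Int.ofNat 1, Int.ofNat 1, Int.negSucc 0, Int.ofNat 1, Int.negSucc 0, Int.negSucc 0, Int.ofNat 1, Int.ofNat 1],
  [Int.ofNat 2, Int.ofNat 0, Int.ofNat 0, Int.negSucc 1, Int.ofNat 0, Int.ofNat 0, Int.ofNat 0, Int.ofNat 0, Int.ofNat 0, Int.ofNat 0, Int.negSucc 1, Int.ofNat 0, Int.ofNat 2, Int.negSucc 1, Int.ofNat 0, Int.ofNat 2, Int.ofNat 0, Int.ofNat 0, Int.ofNat 0, Int.ofNat 2, Int.negSucc 1, Int.ofNat 0, Int.ofNat 0, Int.ofNat 0],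
  [Int.negSucc 1, Int.ofNat 0, Int.ofNat 0, Int.ofNat 2, Int.ofNat 0, Int.ofNat 0, Int.negSucc 1, Int.ofNat 0, Int.ofNat 0, Int.ofNat 0, Int.ofNat 0, Int.ofNat 0, Int.ofNat 0, Int.negSucc 1, Int.ofNat 0, Int.ofNat 2, Int.negSucc 1, Int.ofNat 0, Int.ofNat 2, Int.ofNat 0, Int.ofNat 0, Int.ofNat 0, Int.ofNat 2, Int.ofNat 0],
  [Int.ofNat 1, Int.negSucc 0, Int.negSucc 0, Int.ofNat 1, Int.ofNat 1, Int.negSucc 0, Int.negSucc 0, Int.ofNat 1, Int.negSucc 0, Int.negSucc 0, Int.negSucc 0, Int.negSucc 0, Int.negSucc 0, Int.negSucc 0, Int.negSucc 0, Int.ofNat 1, Int.negSucc 0, Int.negSucc 0, Int.ofNat 1, Int.ofNat 1, Int.negSucc 0, Int.ofNat 1, Int.ofNat 3, Int.negSucc 0],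
  [Int.negSucc 0, Int.negSucc 0, Int.ofNat 1, Int.ofNat 1, Int.negSucc 0, Int.negSucc 0, Int.ofNat 1, Int.negSucc 0, Int.negSucc 0, Int.negSucc 0, Int.negSucc 0, Int.negSucc 0, Int.negSucc 0, Int.negSucc 0, Int.ofNat 1, Int.negSucc 0, Int.negSucc 0, Int.ofNat 1, Int.ofNat 1, Int.negSucc 0, Int.ofNat 1, Int.ofNat 3, Int.ofNat 1, Int.negSucc 0],
  [Int.ofNat 1, Int.negSucc 0, Int.negSucc 0, Int.ofNat 1, Int.negSucc 0, Int.negSucc 0, Int.ofNat 1, Int.ofNat 1, Int.negSucc 0, Int.ofNat 1, Int.ofNat 1, Int.ofNat 1, Int.negSucc 0, Int.negSucc 0, Int.ofNat 1, Int.negSucc 0, Int.negSucc 0, Int.ofNat 1, Int.negSucc 0, Int.negSucc 0, Int.ofNat 1, Int.negSucc 2, Int.ofNat 1, Int.negSucc 0],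
  [Int.ofNat 1, Int.negSucc 0, Int.negSucc 0, Int.ofNat 1, Int.negSucc 0, Int.ofNat 1, Int.negSucc 0, Int.ofNat 1, Int.ofNat 1, Int.negSucc 0, Int.negSucc 2, Int.ofNat 1, Int.negSucc 0, Int.negSucc 0, Int.negSucc 0, Int.negSucc 0, Int.negSucc 0, Int.ofNat 1, Int.ofNat 1, Int.ofNat 1, Int.negSucc 0, Int.ofNat 1, Int.ofNat 1, Int.negSucc 0],
  [Int.negSucc 0, Int.negSucc 0, Int.ofNat 1, Int.ofNat 1, Int.negSucc 0, Int.ofNat 1, Int.negSucc 0, Int.negSucc 0, Int.ofNat 1, Int.ofNat 1, Int.ofNat 3, Int.negSucc 0, Int.negSucc 0, Int.negSucc 0, Int.negSucc 0, Int.negSucc 0, Int.negSucc 0, Int.ofNat 1, Int.negSucc 0, Int.ofNat 1, Int.negSucc 0, Int.negSucc 0, Int.ofNat 1, Int.negSucc 0],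
  [Int.ofNat 1, Int.negSucc 0, Int.negSucc 0, Int.ofNat 1, Int.ofNat 1, Int.negSucc 0, Int.ofNat 1, Int.negSucc 0, Int.negSucc 0, Int.ofNat 1, Int.ofNat 1, Int.ofNat 3, Int.negSucc 0, Int.negSucc 0, Int.negSucc 0, Int.negSucc 0, Int.negSucc 0, Int.negSucc 0, Int.ofNat 1, Int.negSucc 0, Int.ofNat 1, Int.negSucc 0, Int.negSucc 0, Int.negSucc 0],
  [Int.negSucc 1, Int.ofNat 0, Int.ofNat 0, Int.ofNat 2, Int.ofNat 2, Int.ofNat 0, Int.ofNat 2, Int.ofNat 0, Int.negSucc 1, Int.ofNat 0, Int.ofNat 0, Int.ofNat 2, Int.negSucc 1, Int.ofNat 0, Int.ofNat 0, Int.negSucc 1, Int.ofNat 0, Int.ofNat 0, Int.ofNat 0, Int.ofNat 0, Int.ofNat 0, Int.ofNat 0, Int.ofNat 0, Int.ofNat 0],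
  [Int.ofNat 2, Int.ofNat 2, Int.ofNat 0, Int.ofNat 2, Int.ofNat 0, Int.negSucc 1, Int.ofNat 0, Int.ofNat 0, Int.ofNat 2, Int.negSucc 1, Int.ofNat 0, Int.ofNat 0, Int.negSucc 1, Int.ofNat 0, Int.ofNat 0, Int.ofNat 0, Int.ofNat 0, Int.ofNat 0, Int.ofNat 0, Int.ofNat 0, Int.negSucc 1, Int.ofNat 0, Int.ofNat 0, Int.ofNat 0],
  [Int.ofNat 0, Int.ofNat 0, Int.ofNat 2, Int.ofNat 2, Int.ofNat 0, Int.negSucc 1, Int.ofNat 0, Int.ofNat 0, Int.ofNat 2, Int.ofNat 0, Int.ofNat 2, Int.ofNat 0, Int.negSucc 1, Int.ofNat 0, Int.ofNat 0, Int.ofNat 2, Int.ofNat 0, Int.ofNat 0, Int.ofNat 0, Int.ofNat 0, Int.ofNat 0, Int.ofNat 0, Int.ofNat 0, Int.ofNat 2],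
  [Int.ofNat 0, Int.ofNat 0, Int.ofNat 0, Int.ofNat 2, Int.ofNat 0, Int.ofNat 0, Int.ofNat 2, Int.ofNat 2, Int.negSucc 1, Int.ofNat 0, Int.ofNat 0, Int.ofNat 0, Int.ofNat 0, Int.ofNat 0, Int.ofNat 0, Int.ofNat 2, Int.ofNat 2, Int.ofNat 0, Int.ofNat 0, Int.ofNat 0, Int.ofNat 0, Int.negSucc 1, Int.ofNat 0, Int.ofNat 2],
  [Int.ofNat 1, Int.ofNat 1, Int.ofNat 1, Int.ofNat 1, Int.negSucc 0, Int.negSucc 0, Int.ofNat 1, Int.ofNat 1, Int.negSucc 0, Int.negSucc 0, Int.negSucc 0, Int.ofNat 1, Int.ofNat 1, Int.negSucc 0, Int.negSucc 0, Int.ofNat 1, Int.ofNat 1, Int.negSucc 0, Int.ofNat 1, Int.negSucc 0, Int.negSucc 0, Int.negSucc 2, Int.negSucc 0, Int.negSucc 0],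
  [Int.ofNat 1, Int.ofNat 1, Int.negSucc 0, Int.ofNat 1, Int.negSucc 0, Int.ofNat 1, Int.negSucc 0, Int.ofNat 1, Int.negSucc 0, Int.ofNat 1, Int.ofNat 1, Int.ofNat 1, Int.ofNat 1, Int.negSucc 0, Int.negSucc 0, Int.negSucc 0, Int.ofNat 1, Int.negSucc 0, Int.negSucc 0, Int.negSucc 0, Int.negSucc 0, Int.negSucc 2, Int.ofNat 1, Int.negSucc 0],
  [Int.ofNat 1, Int.ofNat 1, Int.ofNat 1, Int.negSucc 0, Int.negSucc 0, Int.negSucc 0, Int.negSucc 2, Int.ofNat 1, Int.ofNat 1, Int.negSucc 0, Int.negSucc 0, Int.ofNat 1, Int.negSucc 0, Int.negSucc 0, Int.negSucc 0, Int.negSucc 0, Int.negSucc 0, Int.ofNat 1, Int.ofNat 1, Int.negSucc 0, Int.ofNat 1, Int.ofNat 1, Int.ofNat 1, Int.negSucc 0],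
  [Int.negSucc 0, Int.negSucc 0, Int.negSucc 0, Int.ofNat 1, Int.ofNat 1, Int.negSucc 0, Int.ofNat 3, Int.ofNat 1, Int.negSucc 0, Int.ofNat 1, Int.negSucc 0, Int.ofNat 1, Int.ofNat 1, Int.ofNat 1, Int.negSucc 0, Int.negSucc 0, Int.ofNat 1, Int.ofNat 1, Int.negSucc 0, Int.negSucc 0, Int.ofNat 1, Int.ofNat 1, Int.ofNat 1, Int.negSucc 0],
  [Int.negSucc 0, Int.ofNat 1, Int.ofNat 1, Int.negSucc 0, Int.ofNat 1, Int.ofNat 1, Int.negSucc 0, Int.ofNat 1, Int.ofNat 1, Int.negSucc 0, Int.ofNat 1, Int.negSucc 0, Int.ofNat 1, Int.ofNat 1, Int.negSucc 0, Int.ofNat 1, Int.negSucc 0, Int.ofNat 1, Int.negSucc 0, Int.ofNat 3, Int.negSucc 0, Int.ofNat 1, Int.negSucc 0, Int.negSucc 0],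
  [Int.ofNat 1, Int.ofNat 1, Int.negSucc 0, Int.negSucc 0, Int.ofNat 1, Int.ofNat 1, Int.negSucc 0, Int.negSucc 0, Int.ofNat 1, Int.ofNat 1, Int.negSucc 0, Int.ofNat 1, Int.ofNat 1, Int.ofNat 1, Int.negSucc 0, Int.ofNat 1, Int.negSucc 0, Int.ofNat 1, Int.ofNat 1, Int.ofNat 3, Int.negSucc 0, Int.negSucc 0, Int.negSucc 0, Int.negSucc 0],
  [Int.negSucc 0, Int.ofNat 1, Int.ofNat 1, Int.negSucc 0, Int.negSucc 0, Int.ofNat 1, Int.ofNat 1, Int.negSucc 0, Int.negSucc 0, Int.ofNat 1, Int.ofNat 1, Int.negSucc 0, Int.ofNat 1, Int.ofNat 1, Int.ofNat 1, Int.negSucc 0, Int.ofNat 1, Int.negSucc 0, Int.ofNat 1, Int.ofNat 1, Int.ofNat 3, Int.negSucc 0, Int.negSucc 0, Int.negSucc 0],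
  [Int.ofNat 1, Int.negSucc 0, Int.negSucc 0, Int.negSucc 0, Int.negSucc 0, Int.ofNat 1, Int.ofNat 1, Int.negSucc 0, Int.negSucc 0, Int.negSucc 0, Int.negSucc 0, Int.negSucc 0, Int.ofNat 1, Int.ofNat 1, Int.ofNat 1, Int.negSucc 2, Int.ofNat 1, Int.negSucc 0, Int.ofNat 1, Int.ofNat 1, Int.ofNat 1, Int.negSucc 0, Int.negSucc 0, Int.ofNat 1],
  [Int.negSucc 0, Int.negSucc 0, Int.ofNat 1, Int.ofNat 1, Int.negSucc 0, Int.negSucc 0, Int.negSucc 0, Int.negSucc 0, Int.negSucc 0, Int.ofNat 1, Int.ofNat 1, Int.ofNat 1, Int.negSucc 2, Int.ofNat 1, Int.negSucc 0, Int.ofNat 1, Int.ofNat 1, Int.ofNat 1, Int.negSucc 0, Int.negSucc 0, Int.ofNat 1, Int.negSucc 0, Int.negSucc 0, Int.ofNat 1],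
  [Int.ofNat 1, Int.ofNat 1, Int.negSucc 0, Int.ofNat 1, Int.negSucc 0, Int.negSucc 0, Int.ofNat 1, Int.ofNat 1, Int.ofNat 1, Int.negSucc 0, Int.negSucc 0, Int.ofNat 3, Int.negSucc 0, Int.ofNat 1, Int.negSucc 0, Int.negSucc 0, Int.ofNat 1, Int.ofNat 1, Int.ofNat 1, Int.ofNat 1, Int.negSucc 0, Int.ofNat 1, Int.negSucc 0, Int.negSucc 0],
  [Int.ofNat 1, Int.ofNat 1, Int.negSucc 0, Int.ofNat 1, Int.ofNat 1, Int.ofNat 1, Int.negSucc 0, Int.negSucc 0, Int.negSucc 0, Int.ofNat 1, Int.negSucc 0, Int.ofNat 1, Int.negSucc 0, Int.ofNat 1, Int.negSucc 0, Int.negSucc 0, Int.ofNat 1, Int.negSucc 0, Int.ofNat 1, Int.ofNat 3, Int.ofNat 1, Int.negSucc 0, Int.ofNat 1, Int.negSucc 0],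
  [Int.negSucc 0, Int.negSucc 0, Int.ofNat 1, Int.ofNat 1, Int.negSucc 0, Int.ofNat 1, Int.negSucc 0, Int.negSucc 0, Int.negSucc 0, Int.ofNat 1, Int.negSucc 0, Int.ofNat 1, Int.negSucc 0, Int.negSucc 0, Int.negSucc 0, Int.negSucc 0, Int.negSucc 0, Int.negSucc 0, Int.ofNat 1, Int.ofNat 3, Int.ofNat 1, Int.negSucc 0, Int.negSucc 0, Int.ofNat 1],
  [Int.negSucc 0, Int.negSucc 0, Int.negSucc 0, Int.ofNat 1, Int.negSucc 0, Int.negSucc 0, Int.ofNat 1, Int.negSucc 0, Int.negSucc 0, Int.negSucc 0, Int.ofNat 1, Int.ofNat 1, Int.negSucc 0, Int.negSucc 0, Int.negSucc 0, Int.ofNat 1, Int.negSucc 0, Int.negSucc 0, Int.negSucc 0, Int.ofNat 3, Int.ofNat 1, Int.negSucc 0, Int.ofNat 1, Int.ofNat 1],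
  [Int.negSucc 0, Int.ofNat 1, Int.negSucc 0, Int.negSucc 0, Int.negSucc 0, Int.negSucc 0, Int.ofNat 1, Int.negSucc 0, Int.negSucc 0, Int.ofNat 1, Int.ofNat 1, Int.ofNat 1, Int.negSucc 0, Int.negSucc 0, Int.negSucc 0, Int.negSucc 0, Int.negSucc 0, Int.negSucc 0, Int.ofNat 1, Int.ofNat 1, Int.ofNat 3, Int.negSucc 0, Int.negSucc 0, Int.ofNat 1],
  [Int.negSucc 0, Int.ofNat 1, Int.ofNat 1, Int.negSucc 0, Int.negSucc 0, Int.ofNat 1, Int.negSucc 0, Int.negSucc 0, Int.negSucc 0, Int.negSucc 0, Int.negSucc 0, Int.ofNat 1, Int.negSucc 0, Int.negSucc 0, Int.negSucc 0, Int.ofNat 1, Int.negSucc 0, Int.negSucc 0, Int.negSucc 0, Int.ofNat 1, Int.ofNat 3, Int.negSucc 0, Int.ofNat 1, Int.ofNat 1],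
  [Int.ofNat 2, Int.ofNat 0, Int.ofNat 0, Int.ofNat 0, Int.ofNat 0, Int.ofNat 2, Int.ofNat 0, Int.ofNat 0, Int.ofNat 0, Int.negSucc 1, Int.negSucc 1, Int.ofNat 2, Int.ofNat 0, Int.ofNat 0, Int.ofNat 0, Int.ofNat 0, Int.ofNat 0, Int.ofNat 0, Int.ofNat 0, Int.ofNat 2, Int.ofNat 2, Int.ofNat 0, Int.ofNat 2, Int.ofNat 0],
  [Int.ofNat 2, Int.ofNat 0, Int.ofNat 0, Int.ofNat 0, Int.ofNat 0, Int.ofNat 0, Int.ofNat 0, Int.ofNat 2, Int.ofNat 0, Int.ofNat 0, Int.ofNat 0, Int.ofNat 2, Int.ofNat 0, Int.negSucc 1, Int.ofNat 0, Int.ofNat 0, Int.ofNat 0, Int.ofNat 2, Int.ofNat 0, Int.ofNat 2, Int.negSucc 1, Int.ofNat 2, Int.ofNat 0, Int.ofNat 0],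
  [Int.negSucc 0, Int.ofNat 1, Int.ofNat 1, Int.negSucc 0, Int.ofNat 1, Int.negSucc 0, Int.negSucc 2, Int.negSucc 0, Int.negSucc 0, Int.ofNat 1, Int.ofNat 1, Int.ofNat 1, Int.negSucc 0, Int.negSucc 0, Int.negSucc 0, Int.ofNat 1, Int.ofNat 1, Int.ofNat 1, Int.negSucc 0, Int.negSucc 0, Int.negSucc 0, Int.negSucc 0, Int.ofNat 1, Int.ofNat 1],
  [Int.negSucc 0, Int.negSucc 0, Int.ofNat 1, Int.negSucc 0, Int.ofNat 1, Int.ofNat 1, Int.negSucc 0, Int.ofNat 1, Int.negSucc 0, Int.negSucc 2, Int.negSucc 0, Int.negSucc 0, Int.ofNat 1, Int.ofNat 1, Int.ofNat 1, Int.negSucc 0, Int.negSucc 0, Int.negSucc 0, Int.ofNat 1, Int.ofNat 1, Int.ofNat 1, Int.negSucc 0, Int.negSucc 0, Int.ofNat 1],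
  [Int.ofNat 1, Int.ofNat 1, Int.negSucc 0, Int.negSucc 0, Int.ofNat 1, Int.ofNat 1, Int.negSucc 0, Int.ofNat 1, Int.negSucc 0, Int.negSucc 0, Int.ofNat 1, Int.negSucc 0, Int.ofNat 1, Int.ofNat 1, Int.ofNat 1, Int.ofNat 1, Int.negSucc 0, Int.negSucc 0, Int.ofNat 1, Int.ofNat 1, Int.ofNat 3, Int.negSucc 0, Int.negSucc 0, Int.negSucc 0],
  [Int.ofNat 1, Int.negSucc 0, Int.negSucc 0, Int.ofNat 1, Int.ofNat 1, Int.negSucc 0, Int.ofNat 1, Int.negSucc 0, Int.negSucc 0, Int.ofNat 1, Int.negSucc 0, Int.ofNat 1, Int.ofNat 1, Int.ofNat 1, Int.ofNat 1, Int.negSucc 0, Int.negSucc 0, Int.ofNat 1, Int.ofNat 1, Int.ofNat 3, Int.negSucc 0, Int.negSucc 0, Int.ofNat 1, Int.negSucc 0],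
  [Int.negSucc 0, Int.negSucc 0, Int.ofNat 1, Int.ofNat 1, Int.ofNat 1, Int.negSucc 0, Int.ofNat 1, Int.ofNat 1, Int.negSucc 0, Int.negSucc 0, Int.ofNat 1, Int.negSucc 0, Int.ofNat 1, Int.ofNat 1, Int.ofNat 1, Int.negSucc 0, Int.negSucc 0, Int.ofNat 1, Int.negSucc 0, Int.ofNat 3, Int.negSucc 0, Int.ofNat 1, Int.ofNat 1, Int.negSucc 0],
  [Int.negSucc 0, Int.ofNat 1, Int.negSucc 0, Int.ofNat 1, Int.negSucc 0, Int.ofNat 1, Int.ofNat 1, Int.negSucc 0, Int.negSucc 0, Int.negSucc 0, Int.ofNat 1, Int.ofNat 1, Int.ofNat 1, Int.negSucc 0, Int.ofNat 3, Int.negSucc 0, Int.ofNat 1, Int.ofNat 1, Int.ofNat 1, Int.ofNat 1, Int.negSucc 0, Int.ofNat 1, Int.negSucc 0, Int.negSucc 0],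
  [Int.ofNat 1, Int.ofNat 1, Int.ofNat 1, Int.ofNat 1, Int.negSucc 0, Int.ofNat 1, Int.ofNat 1, Int.ofNat 1, Int.negSucc 0, Int.ofNat 1, Int.negSucc 0, Int.negSucc 0, Int.ofNat 1, Int.negSucc 0, Int.ofNat 3, Int.negSucc 0, Int.ofNat 1, Int.ofNat 1, Int.negSucc 0, Int.ofNat 1, Int.negSucc 0, Int.negSucc 0, Int.negSucc 0, Int.negSucc 0],
  [Int.negSucc 0, Int.ofNat 1, Int.ofNat 1, Int.ofNat 1, Int.ofNat 1, Int.negSucc 0, Int.ofNat 1, Int.ofNat 1, Int.ofNat 1, Int.negSucc 0, Int.ofNat 1, Int.negSucc 0, Int.negSucc 0, Int.ofNat 1, Int.negSucc 0, Int.ofNat 3, Int.negSucc 0, Int.ofNat 1, Int.ofNat 1, Int.negSucc 0, Int.ofNat 1, Int.negSucc 0, Int.negSucc 0, Int.negSucc 0],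
  [Int.ofNat 1, Int.negSucc 0, Int.negSucc 0, Int.ofNat 1, Int.ofNat 1, Int.negSucc 0, Int.ofNat 1, Int.ofNat 1, Int.ofNat 1, Int.negSucc 2, Int.negSucc 0, Int.negSucc 0, Int.negSucc 0, Int.ofNat 1, Int.negSucc 0, Int.ofNat 1, Int.negSucc 0, Int.ofNat 1, Int.ofNat 1, Int.negSucc 0, Int.negSucc 0, Int.negSucc 0, Int.negSucc 0, Int.ofNat 1],
  [Int.ofNat 1, Int.ofNat 1, Int.negSucc 0, Int.ofNat 1, Int.ofNat 1, Int.ofNat 1, Int.negSucc 2, Int.negSucc 0, Int.negSucc 0, Int.negSucc 0, Int.ofNat 1, Int.negSucc 0, Int.ofNat 1, Int.negSucc 0, Int.ofNat 1, Int.ofNat 1, Int.negSucc 0, Int.negSucc 0, Int.negSucc 0, Int.negSucc 0, Int.ofNat 1, Int.negSucc 0, Int.negSucc 0, Int.ofNat 1],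
  [Int.ofNat 0, Int.ofNat 0, Int.ofNat 2, Int.ofNat 0, Int.ofNat 2, Int.ofNat 0, Int.ofNat 0, Int.ofNat 2, Int.ofNat 0, Int.negSucc 1, Int.ofNat 0, Int.ofNat 0, Int.ofNat 2, Int.ofNat 0, Int.ofNat 0, Int.ofNat 0, Int.ofNat 0, Int.negSucc 1, Int.ofNat 0, Int.ofNat 2, Int.ofNat 0, Int.ofNat 2, Int.ofNat 0, Int.ofNat 0],
  [Int.ofNat 0, Int.ofNat 0, Int.ofNat 2, Int.ofNat 0, Int.ofNat 0, Int.ofNat 2, Int.ofNat 2, Int.ofNat 0, Int.ofNat 2, Int.ofNat 0, Int.ofNat 0, Int.negSucc 1, Int.negSucc 1, Int.ofNat 0, Int.ofNat 0, Int.ofNat 0, Int.ofNat 0, Int.ofNat 0, Int.ofNat 0, Int.ofNat 0, Int.ofNat 2, Int.ofNat 0, Int.ofNat 2, Int.ofNat 0],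
  [Int.ofNat 1, Int.ofNat 1, Int.negSucc 0, Int.negSucc 0, Int.negSucc 0, Int.ofNat 1, Int.ofNat 1, Int.negSucc 0, Int.ofNat 3, Int.negSucc 0, Int.negSucc 0, Int.negSucc 0, Int.negSucc 0, Int.negSucc 0, Int.negSucc 0, Int.negSucc 0, Int.negSucc 0, Int.negSucc 0, Int.ofNat 1, Int.negSucc 0, Int.ofNat 1, Int.negSucc 0, Int.ofNat 1, Int.ofNat 1],
  [Int.ofNat 1, Int.ofNat 1, Int.ofNat 1, Int.negSucc 0, Int.negSucc 0, Int.negSucc 0, Int.negSucc 0, Int.negSucc 0, Int.ofNat 3, Int.ofNat 1, Int.ofNat 1, Int.negSucc 0, Int.negSucc 0, Int.negSucc 0, Int.negSucc 0, Int.ofNat 1, Int.negSucc 0, Int.negSucc 0, Int.negSucc 0, Int.negSucc 0, Int.ofNat 1, Int.negSucc 0, Int.negSucc 0, Int.ofNat 1],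
  [Int.ofNat 1, Int.negSucc 0, Int.negSucc 0, Int.ofNat 3, Int.negSucc 0, Int.negSucc 0, Int.negSucc 0, Int.negSucc 0, Int.negSucc 0, Int.ofNat 1, Int.negSucc 0, Int.negSucc 0, Int.ofNat 1, Int.negSucc 0, Int.negSucc 0, Int.negSucc 0, Int.negSucc 0, Int.negSucc 0, Int.ofNat 1, Int.ofNat 1, Int.ofNat 1, Int.ofNat 1, Int.negSucc 0, Int.ofNat 1],
  [Int.negSucc 0, Int.ofNat 1, Int.ofNat 1, Int.negSucc 2, Int.ofNat 1, Int.negSucc 0, Int.ofNat 1, Int.negSucc 0, Int.ofNat 1, Int.negSucc 0, Int.negSucc 0, Int.negSucc 0, Int.negSucc 0, Int.ofNat 1, Int.negSucc 0, Int.negSucc 0, Int.ofNat 1, Int.negSucc 0, Int.negSucc 0, Int.ofNat 1, Int.ofNat 1, Int.ofNat 1, Int.negSucc 0, Int.ofNat 1],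
  [Int.ofNat 1, Int.negSucc 0, Int.negSucc 0, Int.negSucc 0, Int.negSucc 0, Int.negSucc 0, Int.ofNat 1, Int.ofNat 1, Int.ofNat 1, Int.negSucc 0, Int.ofNat 1, Int.ofNat 1, Int.ofNat 1, Int.negSucc 0, Int.negSucc 0, Int.negSucc 2, Int.negSucc 0, Int.ofNat 1, Int.negSucc 0, Int.ofNat 1, Int.ofNat 1, Int.negSucc 0, Int.ofNat 1, Int.negSucc 0],
  [Int.negSucc 0, Int.negSucc 0, Int.ofNat 1, Int.negSucc 0, Int.negSucc 0, Int.negSucc 0, Int.ofNat 1, Int.negSucc 0, Int.ofNat 1, Int.ofNat 1, Int.negSucc 0, Int.negSucc 0, Int.ofNat 1, Int.negSucc 0, Int.negSucc 0, Int.negSucc 2, Int.negSucc 0, Int.ofNat 1, Int.ofNat 1, Int.ofNat 1, Int.ofNat 1, Int.ofNat 1, Int.ofNat 1, Int.negSucc 0],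
  [Int.ofNat 1, Int.negSucc 0, Int.negSucc 0, Int.ofNat 1, Int.negSucc 0, Int.negSucc 0, Int.negSucc 0, Int.ofNat 1, Int.negSucc 0, Int.ofNat 1, Int.ofNat 1, Int.negSucc 0, Int.negSucc 0, Int.ofNat 1, Int.negSucc 0, Int.negSucc 0, Int.negSucc 2, Int.negSucc 0, Int.ofNat 1, Int.ofNat 1, Int.ofNat 1, Int.ofNat 1, Int.ofNat 1, Int.negSucc 0],
  [Int.negSucc 1, Int.ofNat 0, Int.ofNat 0, Int.ofNat 2, Int.ofNat 0, Int.ofNat 0, Int.negSucc 1, Int.ofNat 0, Int.ofNat 0, Int.ofNat 0, Int.ofNat 0, Int.ofNat 0, Int.ofNat 0, Int.ofNat 2, Int.ofNat 0, Int.negSucc 1, Int.negSucc 1, Int.ofNat 0, Int.ofNat 2, Int.ofNat 0, Int.ofNat 0, Int.ofNat 0, Int.ofNat 2, Int.ofNat 0],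
  [Int.ofNat 2, Int.ofNat 0, Int.ofNat 0, Int.negSucc 1, Int.ofNat 0, Int.ofNat 0, Int.ofNat 0, Int.ofNat 0, Int.ofNat 0, Int.ofNat 0, Int.ofNat 2, Int.ofNat 0, Int.negSucc 1, Int.negSucc 1, Int.ofNat 0, Int.ofNat 2, Int.ofNat 0, Int.ofNat 0, Int.ofNat 0, Int.ofNat 2, Int.negSucc 1, Int.ofNat 0, Int.ofNat 0, Int.ofNat 0],
  [Int.negSucc 0, Int.ofNat 1, Int.ofNat 1, Int.negSucc 0, Int.ofNat 1, Int.ofNat 1, Int.negSucc 0, Int.negSucc 0, Int.ofNat 1, Int.negSucc 0, Int.ofNat 1, Int.ofNat 1, Int.negSucc 0, Int.negSucc 0, Int.ofNat 1, Int.ofNat 1, Int.ofNat 1, Int.ofNat 1, Int.ofNat 1, Int.ofNat 1, Int.negSucc 2, Int.negSucc 0, Int.ofNat 1, Int.ofNat 1],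
  [Int.negSucc 0, Int.negSucc 0, Int.ofNat 1, Int.negSucc 0, Int.ofNat 1, Int.negSucc 0, Int.ofNat 1, Int.ofNat 1, Int.negSucc 0, Int.negSucc 0, Int.negSucc 2, Int.ofNat 1, Int.negSucc 0, Int.ofNat 1, Int.ofNat 1, Int.ofNat 1, Int.ofNat 1, Int.ofNat 1, Int.ofNat 1, Int.ofNat 1, Int.negSucc 0, Int.ofNat 1, Int.ofNat 1, Int.ofNat 1],
  [Int.ofNat 1, Int.ofNat 1, Int.negSucc 0, Int.negSucc 0, Int.negSucc 0, Int.negSucc 0, Int.negSucc 0, Int.negSucc 0, Int.negSucc 0, Int.ofNat 1, Int.negSucc 0, Int.ofNat 1, Int.negSucc 0, Int.negSucc 0, Int.ofNat 1, Int.ofNat 3, Int.negSucc 0, Int.ofNat 1, Int.ofNat 1, Int.negSucc 0, Int.ofNat 1, Int.negSucc 0, Int.negSucc 0, Int.negSucc 0],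
  [Int.ofNat 1, Int.ofNat 1, Int.ofNat 1, Int.negSucc 0, Int.negSucc 0, Int.ofNat 1, Int.ofNat 1, Int.negSucc 0, Int.negSucc 0, Int.negSucc 0, Int.ofNat 1, Int.ofNat 1, Int.negSucc 0, Int.negSucc 0, Int.ofNat 1, Int.negSucc 2, Int.negSucc 0, Int.ofNat 1, Int.negSucc 0, Int.negSucc 0, Int.ofNat 1, Int.negSucc 0, Int.ofNat 1, Int.negSucc 0],
  [Int.ofNat 1, Int.ofNat 1, Int.negSucc 0, Int.ofNat 1, Int.ofNat 1, Int.negSucc 0, Int.negSucc 2, Int.negSucc 0, Int.negSucc 0, Int.ofNat 1, Int.negSucc 0, Int.ofNat 1, Int.negSucc 0, Int.negSucc 0, Int.negSucc 0, Int.ofNat 1, Int.ofNat 1, Int.ofNat 1, Int.ofNat 1, Int.ofNat 1, Int.negSucc 0, Int.negSucc 0, Int.negSucc 0, Int.negSucc 0],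
  [Int.ofNat 1, Int.ofNat 1, Int.ofNat 1, Int.ofNat 1, Int.ofNat 1, Int.ofNat 1, Int.ofNat 3, Int.negSucc 0, Int.negSucc 0, Int.negSucc 0, Int.ofNat 1, Int.ofNat 1, Int.negSucc 0, Int.negSucc 0, Int.negSucc 0, Int.negSucc 0, Int.ofNat 1, Int.ofNat 1, Int.negSucc 0, Int.ofNat 1, Int.negSucc 0, Int.negSucc 0, Int.ofNat 1, Int.negSucc 0],
  [Int.ofNat 0, Int.ofNat 0, Int.ofNat 0, Int.ofNat 0, Int.ofNat 0, Int.ofNat 0, Int.ofNat 2, Int.negSucc 1, Int.ofNat 0, Int.ofNat 0, Int.ofNat 2, Int.ofNat 2, Int.ofNat 0, Int.negSucc 1, Int.negSucc 1, Int.ofNat 0, Int.ofNat 0, Int.ofNat 0, Int.ofNat 0, Int.ofNat 0, Int.ofNat 0, Int.negSucc 1, Int.ofNat 0, Int.ofNat 2],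
  [Int.ofNat 0, Int.ofNat 0, Int.ofNat 2, Int.ofNat 0, Int.ofNat 0, Int.negSucc 1, Int.ofNat 0, Int.ofNat 0, Int.ofNat 0, Int.ofNat 0, Int.negSucc 1, Int.ofNat 0, Int.ofNat 0, Int.ofNat 0, Int.ofNat 0, Int.ofNat 0, Int.negSucc 1, Int.ofNat 2, Int.ofNat 0, Int.ofNat 0, Int.ofNat 2, Int.ofNat 0, Int.negSucc 1, Int.ofNat 2],
  [Int.ofNat 2, Int.ofNat 2, Int.ofNat 0, Int.ofNat 0, Int.ofNat 2, Int.negSucc 1, Int.ofNat 0, Int.ofNat 0, Int.ofNat 0, Int.ofNat 0, Int.negSucc 1, Int.ofNat 0, Int.ofNat 0, Int.ofNat 2, Int.ofNat 0, Int.ofNat 0, Int.ofNat 0, Int.ofNat 2, Int.ofNat 0, Int.ofNat 0, Int.ofNat 2, Int.ofNat 0, Int.ofNat 0, Int.ofNat 0],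
  [Int.ofNat 2, Int.ofNat 0, Int.ofNat 0, Int.ofNat 2, Int.ofNat 2, Int.ofNat 0, Int.ofNat 0, Int.ofNat 2, Int.negSucc 1, Int.ofNat 0, Int.ofNat 0, Int.ofNat 0, Int.ofNat 0, Int.negSucc 1, Int.ofNat 0, Int.ofNat 0, Int.ofNat 2, Int.ofNat 0, Int.ofNat 0, Int.ofNat 0, Int.ofNat 2, Int.ofNat 0, Int.ofNat 0, Int.ofNat 0],
  [Int.negSucc 0, Int.ofNat 1, Int.ofNat 1, Int.ofNat 1, Int.ofNat 1, Int.negSucc 0, Int.negSucc 0, Int.ofNat 1, Int.negSucc 0, Int.negSucc 0, Int.negSucc 0, Int.ofNat 1, Int.ofNat 1, Int.negSucc 2, Int.negSucc 0, Int.negSucc 0, Int.ofNat 1, Int.negSucc 0, Int.ofNat 1, Int.negSucc 0, Int.ofNat 1, Int.negSucc 0, Int.negSucc 0, Int.ofNat 1],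
  [Int.ofNat 1, Int.ofNat 1, Int.ofNat 1, Int.ofNat 1, Int.negSucc 0, Int.negSucc 0, Int.ofNat 1, Int.negSucc 0, Int.negSucc 0, Int.negSucc 0, Int.ofNat 1, Int.ofNat 1, Int.negSucc 2, Int.negSucc 0, Int.negSucc 0, Int.ofNat 1, Int.negSucc 0, Int.ofNat 1, Int.negSucc 0, Int.ofNat 1, Int.negSucc 0, Int.negSucc 0, Int.negSucc 0, Int.ofNat 1],
  [Int.negSucc 0, Int.ofNat 1, Int.negSucc 0, Int.ofNat 1, Int.negSucc 0, Int.negSucc 0, Int.ofNat 1, Int.ofNat 1, Int.negSucc 0, Int.ofNat 1, Int.negSucc 0, Int.negSucc 0, Int.negSucc 2, Int.negSucc 0, Int.negSucc 0, Int.ofNat 1, Int.negSucc 0, Int.ofNat 1, Int.ofNat 1, Int.ofNat 1, Int.negSucc 0, Int.ofNat 1, Int.negSucc 0, Int.ofNat 1],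
  [Int.negSucc 0, Int.negSucc 0, Int.ofNat 1, Int.ofNat 1, Int.ofNat 1, Int.negSucc 0, Int.negSucc 0, Int.negSucc 0, Int.ofNat 1, Int.negSucc 0, Int.ofNat 1, Int.negSucc 0, Int.negSucc 0, Int.negSucc 0, Int.ofNat 1, Int.ofNat 1, Int.negSucc 2, Int.negSucc 0, Int.ofNat 1, Int.ofNat 1, Int.negSucc 0, Int.ofNat 1, Int.negSucc 0, Int.ofNat 1],
  [Int.ofNat 1, Int.negSucc 0, Int.negSucc 0, Int.ofNat 1, Int.ofNat 1, Int.negSucc 0, Int.negSucc 0, Int.ofNat 1, Int.ofNat 1, Int.ofNat 1, Int.negSucc 0, Int.ofNat 1, Int.negSucc 0, Int.negSucc 0, Int.ofNat 1, Int.ofNat 1, Int.negSucc 2, Int.negSucc 0, Int.negSucc 0, Int.ofNat 1, Int.negSucc 0, Int.negSucc 0, Int.negSucc 0, Int.ofNat 1],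
  [Int.negSucc 0, Int.ofNat 1, Int.negSucc 0, Int.negSucc 0, Int.ofNat 1, Int.ofNat 1, Int.negSucc 0, Int.negSucc 0, Int.ofNat 1, Int.ofNat 1, Int.ofNat 1, Int.negSucc 0, Int.ofNat 1, Int.negSucc 0, Int.negSucc 0, Int.ofNat 1, Int.ofNat 1, Int.negSucc 2, Int.negSucc 0, Int.negSucc 0, Int.ofNat 1, Int.negSucc 0, Int.negSucc 0, Int.ofNat 1],
  [Int.ofNat 1, Int.negSucc 0, Int.ofNat 1, Int.ofNat 1, Int.ofNat 1, Int.ofNat 3, Int.ofNat 1, Int.ofNat 1, Int.ofNat 1, Int.negSucc 0, Int.negSucc 0, Int.negSucc 0, Int.ofNat 1, Int.negSucc 0, Int.ofNat 1, Int.negSucc 0, Int.ofNat 1, Int.negSucc 0, Int.negSucc 0, Int.ofNat 1, Int.negSucc 0, Int.ofNat 1, Int.negSucc 0, Int.negSucc 0],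
  [Int.ofNat 1, Int.ofNat 1, Int.ofNat 3, Int.ofNat 1, Int.ofNat 1, Int.ofNat 1, Int.negSucc 0, Int.negSucc 0, Int.negSucc 0, Int.ofNat 1, Int.negSucc 0, Int.ofNat 1, Int.negSucc 0, Int.ofNat 1, Int.negSucc 0, Int.negSucc 0, Int.ofNat 1, Int.negSucc 0, Int.ofNat 1, Int.negSucc 0, Int.ofNat 1, Int.negSucc 0, Int.ofNat 1, Int.negSucc 0],
  [Int.ofNat 1, Int.ofNat 1, Int.negSucc 0, Int.ofNat 1, Int.negSucc 0, Int.ofNat 1, Int.ofNat 1, Int.ofNat 1, Int.negSucc 0, Int.ofNat 1, Int.negSucc 0, Int.ofNat 1, Int.negSucc 0, Int.negSucc 0, Int.negSucc 0, Int.negSucc 0, Int.negSucc 0, Int.negSucc 0, Int.ofNat 1, Int.ofNat 1, Int.ofNat 1, Int.ofNat 1, Int.negSucc 0, Int.ofNat 3],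
  [Int.ofNat 1, Int.ofNat 1, Int.negSucc 0, Int.ofNat 1, Int.ofNat 1, Int.ofNat 1, Int.negSucc 0, Int.negSucc 0, Int.negSucc 0, Int.negSucc 0, Int.ofNat 1, Int.negSucc 0, Int.ofNat 1, Int.negSucc 0, Int.negSucc 0, Int.negSucc 0, Int.negSucc 0, Int.negSucc 0, Int.ofNat 1, Int.ofNat 1, Int.ofNat 1, Int.ofNat 1, Int.ofNat 1, Int.ofNat 3],
  [Int.ofNat 1, Int.ofNat 1, Int.ofNat 3, Int.ofNat 1, Int.ofNat 1, Int.ofNat 1, Int.negSucc 0, Int.negSucc 0, Int.negSucc 0, Int.negSucc 0, Int.ofNat 1, Int.negSucc 0, Int.ofNat 1, Int.negSucc 0, Int.negSucc 0, Int.negSucc 0, Int.negSucc 0, Int.negSucc 0, Int.ofNat 1, Int.ofNat 1, Int.ofNat 1, Int.ofNat 1, Int.ofNat 1, Int.negSucc 0],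
  [Int.ofNat 1, Int.ofNat 1, Int.negSucc 2, Int.ofNat 1, Int.ofNat 1, Int.negSucc 0, Int.ofNat 1, Int.negSucc 0, Int.negSucc 0, Int.ofNat 1, Int.negSucc 0, Int.negSucc 0, Int.ofNat 1, Int.negSucc 0, Int.negSucc 0, Int.ofNat 1, Int.negSucc 0, Int.negSucc 0, Int.negSucc 0, Int.ofNat 1, Int.ofNat 1, Int.ofNat 1, Int.negSucc 0, Int.negSucc 0],
  [Int.negSucc 0, Int.negSucc 0, Int.negSucc 0, Int.negSucc 0, Int.negSucc 0, Int.ofNat 1, Int.ofNat 1, Int.ofNat 1, Int.negSucc 0, Int.ofNat 1, Int.negSucc 0, Int.negSucc 0, Int.ofNat 1, Int.ofNat 1, Int.negSucc 0, Int.negSucc 0, Int.ofNat 1, Int.ofNat 1, Int.ofNat 1, Int.negSucc 2, Int.ofNat 1, Int.ofNat 1, Int.negSucc 0, Int.negSucc 0],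
  [Int.ofNat 1, Int.ofNat 1, Int.ofNat 1, Int.ofNat 1, Int.ofNat 1, Int.ofNat 1, Int.negSucc 0, Int.ofNat 1, Int.ofNat 1, Int.negSucc 0, Int.negSucc 0, Int.negSucc 0, Int.negSucc 0, Int.negSucc 0, Int.negSucc 0, Int.negSucc 0, Int.negSucc 0, Int.ofNat 1, Int.negSucc 0, Int.negSucc 2, Int.ofNat 1, Int.ofNat 1, Int.negSucc 0, Int.negSucc 0],
  [Int.negSucc 0, Int.negSucc 0, Int.negSucc 0, Int.negSucc 0, Int.ofNat 1, Int.negSucc 0, Int.negSucc 2, Int.negSucc 0, Int.ofNat 1, Int.ofNat 1, Int.negSucc 0, Int.ofNat 1, Int.ofNat 1, Int.ofNat 1, Int.negSucc 0, Int.ofNat 1, Int.negSucc 0, Int.ofNat 1, Int.negSucc 0, Int.negSucc 0, Int.ofNat 1, Int.negSucc 0, Int.ofNat 1, Int.ofNat 1],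
  [Int.ofNat 1, Int.negSucc 0, Int.ofNat 1, Int.negSucc 0, Int.ofNat 1, Int.negSucc 0, Int.negSucc 2, Int.ofNat 1, Int.ofNat 1, Int.negSucc 0, Int.ofNat 1, Int.negSucc 0, Int.ofNat 1, Int.ofNat 1, Int.negSucc 0, Int.ofNat 1, Int.negSucc 0, Int.ofNat 1, Int.ofNat 1, Int.negSucc 0, Int.ofNat 1, Int.ofNat 1, Int.ofNat 1, Int.ofNat 1],
  [Int.ofNat 1, Int.ofNat 1, Int.negSucc 0, Int.ofNat 1, Int.negSucc 0, Int.ofNat 1, Int.negSucc 0, Int.negSucc 2, Int.ofNat 1, Int.ofNat 1, Int.negSucc 0, Int.ofNat 1, Int.negSucc 0, Int.ofNat 1, Int.ofNat 1, Int.negSucc 0, Int.ofNat 1, Int.negSucc 0, Int.ofNat 1, Int.ofNat 1, Int.negSucc 0, Int.ofNat 1, Int.ofNat 1, Int.ofNat 1],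
  [Int.ofNat 0, Int.ofNat 0, Int.ofNat 2, Int.ofNat 0, Int.negSucc 1, Int.ofNat 0, Int.ofNat 0, Int.negSucc 1, Int.ofNat 0, Int.ofNat 2, Int.ofNat 0, Int.ofNat 0, Int.negSucc 1, Int.ofNat 0, Int.ofNat 0, Int.ofNat 0, Int.ofNat 0, Int.negSucc 1, Int.ofNat 0, Int.ofNat 2, Int.ofNat 0, Int.ofNat 2, Int.ofNat 0, Int.ofNat 0],
  [Int.ofNat 0, Int.negSucc 1, Int.ofNat 0, Int.ofNat 0, Int.negSucc 1, Int.ofNat 0, Int.ofNat 2, Int.ofNat 0, Int.ofNat 0, Int.negSucc 1, Int.ofNat 0, Int.ofNat 0, Int.ofNat 0, Int.ofNat 0, Int.negSucc 1, Int.ofNat 0, Int.ofNat 2, Int.ofNat 0, Int.ofNat 2, Int.ofNat 0, Int.ofNat 0, Int.ofNat 0, Int.ofNat 2, Int.ofNat 0],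
  [Int.negSucc 0, Int.ofNat 1, Int.negSucc 0, Int.ofNat 1, Int.negSucc 2, Int.ofNat 1, Int.ofNat 1, Int.negSucc 0, Int.negSucc 0, Int.negSucc 0, Int.ofNat 1, Int.negSucc 0, Int.negSucc 0, Int.negSucc 0, Int.negSucc 0, Int.ofNat 1, Int.ofNat 1, Int.ofNat 1, Int.ofNat 1, Int.negSucc 0, Int.ofNat 1, Int.negSucc 0, Int.ofNat 1, Int.negSucc 0],
  [Int.negSucc 0, Int.ofNat 1, Int.negSucc 2, Int.ofNat 1, Int.ofNat 1, Int.negSucc 0, Int.negSucc 0, Int.ofNat 1, Int.negSucc 0, Int.negSucc 0, Int.ofNat 1, Int.ofNat 1, Int.negSucc 0, Int.ofNat 1, Int.ofNat 1, Int.ofNat 1, Int.negSucc 0, Int.negSucc 0, Int.ofNat 1, Int.negSucc 0, Int.negSucc 0, Int.ofNat 1, Int.negSucc 0, Int.negSucc 0],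
  [Int.negSucc 0, Int.negSucc 2, Int.ofNat 1, Int.ofNat 1, Int.ofNat 1, Int.negSucc 0, Int.negSucc 0, Int.ofNat 1, Int.negSucc 0, Int.negSucc 0, Int.ofNat 1, Int.ofNat 1, Int.negSucc 0, Int.ofNat 1, Int.ofNat 1, Int.ofNat 1, Int.negSucc 0, Int.negSucc 0, Int.ofNat 1, Int.negSucc 0, Int.negSucc 0, Int.ofNat 1, Int.negSucc 0, Int.negSucc 0],
  [Int.negSucc 0, Int.negSucc 2, Int.negSucc 0, Int.ofNat 1, Int.ofNat 1, Int.ofNat 1, Int.ofNat 1, Int.ofNat 1, Int.negSucc 0, Int.ofNat 1, Int.negSucc 0, Int.ofNat 1, Int.negSucc 0, Int.ofNat 1, Int.ofNat 1, Int.negSucc 0, Int.negSucc 0, Int.negSucc 0, Int.negSucc 0, Int.negSucc 0, Int.negSucc 0, Int.ofNat 1, Int.ofNat 1, Int.negSucc 0],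
  [Int.ofNat 1, Int.ofNat 1, Int.negSucc 0, Int.negSucc 0, Int.negSucc 0, Int.negSucc 0, Int.negSucc 0, Int.ofNat 1, Int.ofNat 1, Int.ofNat 1, Int.ofNat 1, Int.negSucc 0, Int.negSucc 0, Int.negSucc 0, Int.ofNat 1, Int.negSucc 0, Int.ofNat 1, Int.negSucc 2, Int.ofNat 1, Int.negSucc 0, Int.negSucc 0, Int.ofNat 1, Int.ofNat 1, Int.negSucc 0],
  [Int.ofNat 1, Int.ofNat 1, Int.ofNat 1, Int.negSucc 0, Int.negSucc 0, Int.ofNat 1, Int.ofNat 1, Int.ofNat 1, Int.ofNat 1, Int.negSucc 0, Int.negSucc 0, Int.negSucc 0, Int.negSucc 0, Int.negSucc 0, Int.ofNat 1, Int.ofNat 1, Int.ofNat 1, Int.negSucc 2, Int.negSucc 0, Int.negSucc 0, Int.negSucc 0, Int.ofNat 1, Int.negSucc 0, Int.negSucc 0],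
  [Int.ofNat 0, Int.ofNat 0, Int.ofNat 0, Int.ofNat 0, Int.ofNat 0, Int.ofNat 2, Int.ofNat 0, Int.ofNat 0, Int.ofNat 2, Int.ofNat 0, Int.ofNat 0, Int.ofNat 0, Int.ofNat 0, Int.ofNat 0, Int.ofNat 2, Int.ofNat 2, Int.ofNat 2, Int.negSucc 1, Int.ofNat 0, Int.negSucc 1, Int.ofNat 0, Int.ofNat 0, Int.ofNat 0, Int.ofNat 2],
  [Int.ofNat 0, Int.ofNat 0, Int.ofNat 0, Int.ofNat 0, Int.ofNat 0, Int.ofNat 0, Int.ofNat 0, Int.ofNat 2, Int.ofNat 2, Int.ofNat 0, Int.ofNat 0, Int.negSucc 1, Int.ofNat 2, Int.ofNat 0, Int.negSucc 1, Int.ofNat 2, Int.ofNat 0, Int.ofNat 0, Int.ofNat 0, Int.ofNat 0, Int.ofNat 0, Int.ofNat 0, Int.ofNat 2, Int.ofNat 2],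
  [Int.ofNat 1, Int.ofNat 1, Int.ofNat 1, Int.ofNat 1, Int.negSucc 0, Int.ofNat 1, Int.negSucc 0, Int.ofNat 1, Int.ofNat 1, Int.negSucc 0, Int.negSucc 0, Int.negSucc 2, Int.ofNat 1, Int.negSucc 0, Int.negSucc 0, Int.ofNat 1, Int.negSucc 0, Int.ofNat 1, Int.negSucc 0, Int.negSucc 0, Int.negSucc 0, Int.negSucc 0, Int.ofNat 1, Int.negSucc 0],
  [Int.negSucc 0, Int.negSucc 0, Int.ofNat 1, Int.ofNat 1, Int.ofNat 1, Int.ofNat 1, Int.ofNat 1, Int.negSucc 0, Int.ofNat 1, Int.negSucc 0, Int.ofNat 1, Int.ofNat 1, Int.negSucc 0, Int.negSucc 0, Int.negSucc 2, Int.ofNat 1, Int.negSucc 0, Int.negSucc 0, Int.ofNat 1, Int.negSucc 0, Int.ofNat 1, Int.negSucc 0, Int.negSucc 0, Int.negSucc 0],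
  [Int.ofNat 0, Int.ofNat 0, Int.negSucc 1, Int.ofNat 2, Int.ofNat 2, Int.ofNat 2, Int.ofNat 2, Int.ofNat 0, Int.ofNat 0, Int.negSucc 1, Int.ofNat 0, Int.ofNat 0, Int.negSucc 1, Int.ofNat 0, Int.negSucc 1, Int.ofNat 0, Int.ofNat 0, Int.ofNat 0, Int.ofNat 0, Int.ofNat 0, Int.ofNat 0, Int.ofNat 0, Int.ofNat 0, Int.ofNat 0],
  [Int.ofNat 0, Int.negSucc 1, Int.ofNat 2, Int.ofNat 2, Int.ofNat 2, Int.ofNat 2, Int.ofNat 0, Int.ofNat 0, Int.negSucc 1, Int.ofNat 0, Int.ofNat 0, Int.negSucc 1, Int.ofNat 0, Int.negSucc 1, Int.ofNat 0, Int.ofNat 0, Int.ofNat 0, Int.ofNat 0, Int.ofNat 0, Int.ofNat 0, Int.ofNat 0, Int.ofNat 0, Int.ofNat 0, Int.ofNat 0],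
  [Int.ofNat 0, Int.negSucc 1, Int.negSucc 1, Int.ofNat 2, Int.ofNat 2, Int.ofNat 2, Int.ofNat 0, Int.ofNat 0, Int.negSucc 1, Int.ofNat 0, Int.ofNat 0, Int.ofNat 2, Int.ofNat 0, Int.negSucc 1, Int.ofNat 0, Int.ofNat 0, Int.ofNat 0, Int.ofNat 0, Int.ofNat 0, Int.ofNat 0, Int.ofNat 0, Int.ofNat 0, Int.ofNat 0, Int.ofNat 0],
  [Int.ofNat 0, Int.negSucc 1, Int.ofNat 0, Int.ofNat 2, Int.negSucc 1, Int.ofNat 0, Int.ofNat 2, Int.ofNat 0, Int.ofNat 0, Int.ofNat 0, Int.ofNat 0, Int.ofNat 0, Int.negSucc 1, Int.negSucc 1, Int.ofNat 0, Int.ofNat 0, Int.ofNat 0, Int.ofNat 0, Int.ofNat 0, Int.ofNat 0, Int.ofNat 2, Int.ofNat 0, Int.ofNat 2, Int.ofNat 0],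
  [Int.ofNat 0, Int.negSucc 1, Int.ofNat 0, Int.ofNat 2, Int.negSucc 1, Int.ofNat 0, Int.ofNat 2, Int.ofNat 0, Int.ofNat 0, Int.ofNat 0, Int.ofNat 0, Int.ofNat 0, Int.negSucc 1, Int.negSucc 1, Int.ofNat 0, Int.ofNat 0, Int.ofNat 0, Int.ofNat 0, Int.ofNat 0, Int.ofNat 0, Int.ofNat 2, Int.ofNat 0, Int.ofNat 2, Int.ofNat 0],
  [Int.ofNat 2, Int.ofNat 0, Int.negSucc 1, Int.ofNat 0, Int.ofNat 2, Int.negSucc 1, Int.ofNat 0, Int.ofNat 2, Int.ofNat 0, Int.ofNat 0, Int.ofNat 0, Int.ofNat 0, Int.ofNat 0, Int.negSucc 1, Int.negSucc 1, Int.ofNat 0, Int.ofNat 0, Int.ofNat 0, Int.ofNat 0, Int.ofNat 0, Int.ofNat 0, Int.ofNat 2, Int.ofNat 0, Int.ofNat 0],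
  [Int.negSucc 1, Int.ofNat 0, Int.ofNat 2, Int.ofNat 2, Int.ofNat 2, Int.ofNat 0, Int.negSucc 1, Int.ofNat 0, Int.ofNat 0, Int.ofNat 0, Int.ofNat 0, Int.ofNat 0, Int.ofNat 0, Int.negSucc 1, Int.ofNat 0, Int.ofNat 0, Int.ofNat 0, Int.ofNat 2, Int.ofNat 0, Int.negSucc 1, Int.ofNat 0, Int.ofNat 0, Int.ofNat 0, Int.ofNat 0],
  [Int.ofNat 2, Int.ofNat 2, Int.ofNat 0, Int.negSucc 1, Int.ofNat 0, Int.ofNat 0, Int.ofNat 0, Int.ofNat 0, Int.ofNat 0, Int.ofNat 0, Int.negSucc 1, Int.ofNat 0, Int.ofNat 0, Int.ofNat 0, Int.ofNat 2, Int.ofNat 0, Int.negSucc 1, Int.ofNat 0, Int.ofNat 0, Int.ofNat 0, Int.negSucc 1, Int.ofNat 0, Int.ofNat 2, Int.ofNat 0],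
  [Int.ofNat 0, Int.ofNat 0, Int.ofNat 2, Int.negSucc 1, Int.ofNat 0, Int.ofNat 0, Int.ofNat 0, Int.ofNat 0, Int.ofNat 0, Int.ofNat 2, Int.ofNat 0, Int.ofNat 0, Int.ofNat 0, Int.ofNat 0, Int.ofNat 2, Int.ofNat 2, Int.negSucc 1, Int.ofNat 0, Int.ofNat 0, Int.ofNat 0, Int.ofNat 0, Int.ofNat 0, Int.ofNat 2, Int.ofNat 2],
  [Int.ofNat 0, Int.ofNat 0, Int.ofNat 0, Int.negSucc 1, Int.ofNat 0, Int.ofNat 0, Int.ofNat 2, Int.ofNat 0, Int.ofNat 0, Int.ofNat 0, Int.ofNat 0, Int.ofNat 0, Int.ofNat 2, Int.negSucc 1, Int.ofNat 2, Int.ofNat 2, Int.ofNat 0, Int.ofNat 2, Int.ofNat 0, Int.ofNat 0, Int.ofNat 0, Int.ofNat 0, Int.ofNat 0, Int.ofNat 2],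
  [Int.ofNat 1, Int.ofNat 1, Int.ofNat 1, Int.negSucc 2, Int.ofNat 1, Int.negSucc 0, Int.ofNat 1, Int.negSucc 0, Int.negSucc 0, Int.negSucc 0, Int.negSucc 0, Int.negSucc 0, Int.ofNat 1, Int.negSucc 0, Int.ofNat 1, Int.ofNat 1, Int.ofNat 1, Int.ofNat 1, Int.negSucc 0, Int.negSucc 0, Int.negSucc 0, Int.negSucc 0, Int.ofNat 1, Int.negSucc 0],
  [Int.ofNat 1, Int.ofNat 1, Int.negSucc 0, Int.negSucc 2, Int.ofNat 1, Int.ofNat 1, Int.negSucc 0, Int.negSucc 0, Int.negSucc 0, Int.ofNat 1, Int.ofNat 1, Int.negSucc 0, Int.ofNat 1, Int.negSucc 0, Int.ofNat 1, Int.negSucc 0, Int.ofNat 1, Int.ofNat 1, Int.ofNat 1, Int.negSucc 0, Int.negSucc 0, Int.negSucc 0, Int.negSucc 0, Int.negSucc 0],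
  [Int.ofNat 1, Int.ofNat 1, Int.negSucc 0, Int.negSucc 0, Int.ofNat 1, Int.negSucc 0, Int.negSucc 0, Int.negSucc 2, Int.ofNat 1, Int.negSucc 0, Int.negSucc 0, Int.negSucc 0, Int.negSucc 0, Int.ofNat 1, Int.ofNat 1, Int.ofNat 1, Int.negSucc 0, Int.ofNat 1, Int.ofNat 1, Int.negSucc 0, Int.ofNat 1, Int.ofNat 1, Int.negSucc 0, Int.negSucc 0],
  [Int.negSucc 0, Int.negSucc 0, Int.ofNat 1, Int.ofNat 1, Int.negSucc 0, Int.negSucc 0, Int.ofNat 1, Int.negSucc 2, Int.negSucc 0, Int.ofNat 1, Int.negSucc 0, Int.negSucc 0, Int.ofNat 1, Int.negSucc 0, Int.ofNat 1, Int.ofNat 1, Int.ofNat 1, Int.ofNat 1, Int.negSucc 0, Int.negSucc 0, Int.ofNat 1, Int.ofNat 1, Int.negSucc 0, Int.negSucc 0],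
  [Int.negSucc 0, Int.negSucc 0, Int.negSucc 0, Int.ofNat 1, Int.ofNat 1, Int.ofNat 1, Int.negSucc 0, Int.negSucc 0, Int.ofNat 1, Int.negSucc 0, Int.ofNat 1, Int.ofNat 1, Int.ofNat 1, Int.negSucc 2, Int.negSucc 0, Int.ofNat 1, Int.negSucc 0, Int.negSucc 0, Int.ofNat 1, Int.ofNat 1, Int.negSucc 0, Int.ofNat 1, Int.negSucc 0, Int.negSucc 0],
  [Int.ofNat 1, Int.negSucc 0, Int.ofNat 1, Int.ofNat 1, Int.ofNat 1, Int.ofNat 1, Int.negSucc 0, Int.ofNat 1, Int.ofNat 1, Int.ofNat 1, Int.negSucc 0, Int.negSucc 0, Int.ofNat 1, Int.negSucc 2, Int.negSucc 0, Int.ofNat 1, Int.negSucc 0, Int.negSucc 0, Int.negSucc 0, Int.ofNat 1, Int.negSucc 0, Int.negSucc 0, Int.negSucc 0, Int.negSucc 0],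
  [Int.negSucc 0, Int.ofNat 1, Int.negSucc 0, Int.ofNat 1, Int.ofNat 1, Int.ofNat 1, Int.ofNat 1, Int.negSucc 0, Int.ofNat 1, Int.ofNat 1, Int.ofNat 1, Int.negSucc 0, Int.negSucc 0, Int.ofNat 1, Int.negSucc 2, Int.negSucc 0, Int.ofNat 1, Int.negSucc 0, Int.negSucc 0, Int.negSucc 0, Int.ofNat 1, Int.negSucc 0, Int.negSucc 0, Int.negSucc 0],
  [Int.ofNat 0, Int.negSucc 1, Int.ofNat 0, Int.ofNat 2, Int.ofNat 0, Int.ofNat 2, Int.ofNat 2, Int.ofNat 0, Int.ofNat 2, Int.ofNat 0, Int.ofNat 0, Int.ofNat 0, Int.ofNat 0, Int.ofNat 0, Int.negSucc 1, Int.negSucc 1, Int.ofNat 0, Int.ofNat 0, Int.ofNat 0, Int.ofNat 0, Int.ofNat 0, Int.ofNat 0, Int.negSucc 1, Int.ofNat 0],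
  [Int.ofNat 2, Int.ofNat 0, Int.ofNat 2, Int.ofNat 2, Int.ofNat 0, Int.ofNat 2, Int.ofNat 0, Int.ofNat 0, Int.ofNat 0, Int.ofNat 0, Int.ofNat 0, Int.negSucc 1, Int.negSucc 1, Int.ofNat 0, Int.ofNat 0, Int.ofNat 0, Int.ofNat 0, Int.ofNat 0, Int.ofNat 0, Int.negSucc 1, Int.ofNat 0, Int.negSucc 1, Int.ofNat 0, Int.ofNat 0],
  [Int.ofNat 0, Int.ofNat 2, Int.ofNat 0, Int.ofNat 0, Int.ofNat 0, Int.ofNat 0, Int.ofNat 2, Int.ofNat 2, Int.ofNat 2, Int.ofNat 0, Int.ofNat 0, Int.ofNat 0, Int.ofNat 0, Int.ofNat 0, Int.negSucc 1, Int.ofNat 0, Int.ofNat 0, Int.negSucc 1, Int.ofNat 2, Int.ofNat 0, Int.ofNat 0, Int.ofNat 0, Int.ofNat 0, Int.ofNat 2],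
  [Int.ofNat 0, Int.ofNat 2, Int.ofNat 0, Int.ofNat 0, Int.ofNat 2, Int.ofNat 2, Int.ofNat 0, Int.ofNat 0, Int.ofNat 0, Int.ofNat 0, Int.ofNat 0, Int.negSucc 1, Int.ofNat 0, Int.ofNat 0, Int.ofNat 0, Int.ofNat 0, Int.ofNat 2, Int.negSucc 1, Int.ofNat 2, Int.ofNat 0, Int.ofNat 0, Int.ofNat 0, Int.ofNat 0, Int.ofNat 2],
  [Int.ofNat 2, Int.ofNat 0, Int.ofNat 2, Int.ofNat 0, Int.ofNat 0, Int.ofNat 2, Int.ofNat 0, Int.ofNat 0, Int.ofNat 0, Int.ofNat 0, Int.ofNat 0, Int.negSucc 1, Int.ofNat 0, Int.negSucc 1, Int.ofNat 0, Int.ofNat 0, Int.ofNat 0, Int.negSucc 1, Int.ofNat 2, Int.ofNat 0, Int.ofNat 0, Int.ofNat 0, Int.negSucc 1, Int.ofNat 0],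
  [Int.ofNat 2, Int.ofNat 0, Int.negSucc 1, Int.ofNat 0, Int.ofNat 0, Int.negSucc 1, Int.ofNat 0, Int.ofNat 0, Int.ofNat 0, Int.ofNat 0, Int.ofNat 0, Int.negSucc 1, Int.ofNat 0, Int.negSucc 1, Int.ofNat 0, Int.ofNat 0, Int.ofNat 0, Int.negSucc 1, Int.negSucc 1, Int.ofNat 0, Int.ofNat 0, Int.ofNat 0, Int.ofNat 2, Int.ofNat 0],
  [Int.ofNat 0, Int.ofNat 0, Int.ofNat 0, Int.negSucc 1, Int.ofNat 2, Int.negSucc 1, Int.ofNat 0, Int.ofNat 0, Int.negSucc 1, Int.negSucc 1, Int.ofNat 0, Int.ofNat 0, Int.ofNat 0, Int.ofNat 0, Int.ofNat 0, Int.negSucc 1, Int.negSucc 1, Int.ofNat 0, Int.ofNat 2, Int.ofNat 0, Int.ofNat 0, Int.ofNat 0, Int.ofNat 0, Int.ofNat 0],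
  [Int.ofNat 0, Int.ofNat 0, Int.ofNat 0, Int.negSucc 1, Int.ofNat 2, Int.ofNat 2, Int.ofNat 0, Int.ofNat 0, Int.negSucc 1, Int.ofNat 2, Int.ofNat 0, Int.ofNat 0, Int.ofNat 0, Int.ofNat 0, Int.ofNat 0, Int.ofNat 2, Int.negSucc 1, Int.ofNat 0, Int.negSucc 1, Int.ofNat 0, Int.ofNat 0, Int.ofNat 0, Int.ofNat 0, Int.ofNat 0],
  [Int.ofNat 0, Int.ofNat 0, Int.ofNat 0, Int.negSucc 1, Int.ofNat 2, Int.ofNat 2, Int.ofNat 0, Int.ofNat 0, Int.ofNat 0, Int.ofNat 0, Int.negSucc 1, Int.ofNat 2, Int.ofNat 2, Int.ofNat 0, Int.ofNat 0, Int.ofNat 0, Int.negSucc 1, Int.ofNat 0, Int.ofNat 0, Int.ofNat 0, Int.negSucc 1, Int.ofNat 0, Int.ofNat 0, Int.ofNat 0],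
  [Int.ofNat 0, Int.ofNat 0, Int.ofNat 0, Int.negSucc 1, Int.ofNat 0, Int.ofNat 0, Int.ofNat 0, Int.ofNat 2, Int.negSucc 1, Int.ofNat 2, Int.ofNat 0, Int.ofNat 0, Int.ofNat 0, Int.ofNat 0, Int.ofNat 0, Int.ofNat 0, Int.ofNat 0, Int.ofNat 2, Int.ofNat 2, Int.ofNat 0, Int.negSucc 1, Int.negSucc 1, Int.ofNat 0, Int.ofNat 0],
  [Int.ofNat 0, Int.ofNat 0, Int.ofNat 0, Int.negSucc 1, Int.ofNat 0, Int.ofNat 0, Int.ofNat 0, Int.ofNat 2, Int.negSucc 1, Int.ofNat 2, Int.ofNat 0, Int.ofNat 0, Int.ofNat 0, Int.ofNat 0, Int.ofNat 0, Int.ofNat 0, Int.ofNat 0, Int.ofNat 2, Int.ofNat 2, Int.ofNat 0, Int.negSucc 1, Int.negSucc 1, Int.ofNat 0, Int.ofNat 0],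
  [Int.negSucc 1, Int.negSucc 1, Int.ofNat 0, Int.ofNat 0, Int.ofNat 0, Int.ofNat 0, Int.negSucc 1, Int.ofNat 0, Int.ofNat 0, Int.ofNat 0, Int.ofNat 2, Int.negSucc 1, Int.ofNat 2, Int.ofNat 0, Int.ofNat 0, Int.ofNat 0, Int.ofNat 0, Int.ofNat 0, Int.ofNat 0, Int.ofNat 0, Int.ofNat 2, Int.ofNat 2, Int.ofNat 0, Int.ofNat 0],
  [Int.ofNat 0, Int.ofNat 0, Int.negSucc 1, Int.ofNat 0, Int.ofNat 0, Int.ofNat 0, Int.negSucc 1, Int.ofNat 0, Int.ofNat 0, Int.negSucc 1, Int.ofNat 0, Int.negSucc 1, Int.ofNat 2, Int.ofNat 0, Int.ofNat 0, Int.negSucc 1, Int.ofNat 0, Int.ofNat 0, Int.ofNat 0, Int.ofNat 0, Int.ofNat 0, Int.ofNat 2, Int.ofNat 0, Int.negSucc 1],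
  [Int.ofNat 0, Int.negSucc 1, Int.ofNat 0, Int.ofNat 0, Int.ofNat 0, Int.negSucc 1, Int.ofNat 0, Int.ofNat 0, Int.negSucc 1, Int.ofNat 0, Int.negSucc 1, Int.ofNat 2, Int.ofNat 0, Int.ofNat 0, Int.negSucc 1, Int.ofNat 0, Int.ofNat 0, Int.ofNat 0, Int.ofNat 0, Int.ofNat 0, Int.ofNat 2, Int.ofNat 0, Int.ofNat 0, Int.negSucc 1],
  [Int.ofNat 0, Int.negSucc 1, Int.ofNat 0, Int.ofNat 0, Int.ofNat 0, Int.negSucc 1, Int.ofNat 0, Int.ofNat 0, Int.negSucc 1, Int.ofNat 0, Int.ofNat 2, Int.negSucc 1, Int.ofNat 0, Int.ofNat 0, Int.negSucc 1, Int.ofNat 0, Int.ofNat 0, Int.ofNat 0, Int.ofNat 0, Int.ofNat 0, Int.ofNat 2, Int.ofNat 0, Int.ofNat 0, Int.negSucc 1],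
  [Int.ofNat 0, Int.ofNat 0, Int.ofNat 0, Int.ofNat 0, Int.negSucc 1, Int.ofNat 2, Int.ofNat 0, Int.ofNat 2, Int.ofNat 0, Int.ofNat 0, Int.ofNat 0, Int.negSucc 1, Int.ofNat 0, Int.negSucc 1, Int.ofNat 0, Int.ofNat 0, Int.ofNat 0, Int.ofNat 0, Int.ofNat 0, Int.ofNat 0, Int.negSucc 1, Int.ofNat 0, Int.negSucc 1, Int.negSucc 1],
  [Int.ofNat 0, Int.ofNat 0, Int.ofNat 0, Int.ofNat 0, Int.negSucc 1, Int.ofNat 2, Int.ofNat 0, Int.negSucc 1, Int.ofNat 0, Int.ofNat 0, Int.ofNat 0, Int.ofNat 2, Int.ofNat 0, Int.negSucc 1, Int.ofNat 0, Int.ofNat 0, Int.ofNat 0, Int.ofNat 0, Int.ofNat 0, Int.ofNat 0, Int.negSucc 1, Int.ofNat 0, Int.negSucc 1, Int.negSucc 1],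
  [Int.negSucc 1, Int.ofNat 0, Int.ofNat 0, Int.ofNat 0, Int.ofNat 0, Int.negSucc 1, Int.ofNat 2, Int.ofNat 0, Int.negSucc 1, Int.ofNat 0, Int.ofNat 0, Int.ofNat 0, Int.ofNat 2, Int.ofNat 0, Int.negSucc 1, Int.ofNat 0, Int.ofNat 0, Int.ofNat 0, Int.ofNat 0, Int.ofNat 0, Int.ofNat 0, Int.negSucc 1, Int.ofNat 0, Int.negSucc 1],
  [Int.ofNat 0, Int.negSucc 1, Int.negSucc 1, Int.ofNat 2, Int.ofNat 0, Int.ofNat 0, Int.ofNat 2, Int.ofNat 0, Int.negSucc 1, Int.ofNat 0, Int.ofNat 0, Int.ofNat 0, Int.ofNat 2, Int.ofNat 0, Int.ofNat 0, Int.ofNat 0, Int.ofNat 0, Int.ofNat 2, Int.ofNat 0, Int.ofNat 0, Int.ofNat 0, Int.negSucc 1, Int.ofNat 0, Int.ofNat 0],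
  [Int.ofNat 2, Int.ofNat 0, Int.ofNat 0, Int.ofNat 2, Int.ofNat 0, Int.negSucc 1, Int.ofNat 0, Int.ofNat 0, Int.ofNat 0, Int.ofNat 2, Int.ofNat 0, Int.ofNat 0, Int.ofNat 0, Int.ofNat 0, Int.ofNat 2, Int.ofNat 0, Int.ofNat 0, Int.ofNat 0, Int.negSucc 1, Int.ofNat 0, Int.ofNat 0, Int.negSucc 1, Int.negSucc 1, Int.ofNat 0],
  [Int.negSucc 0, Int.ofNat 1, Int.ofNat 1, Int.ofNat 1, Int.ofNat 1, Int.negSucc 2, Int.ofNat 1, Int.ofNat 1, Int.ofNat 1, Int.ofNat 1, Int.negSucc 0, Int.ofNat 1, Int.ofNat 1, Int.ofNat 1, Int.ofNat 1, Int.negSucc 0, Int.ofNat 1, Int.negSucc 0, Int.negSucc 0, Int.ofNat 1, Int.negSucc 0, Int.negSucc 0, Int.negSucc 0, Int.ofNat 1],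
  [Int.negSucc 0, Int.ofNat 1, Int.ofNat 1, Int.ofNat 1, Int.negSucc 0, Int.ofNat 1, Int.ofNat 1, Int.negSucc 0, Int.ofNat 1, Int.ofNat 1, Int.negSucc 0, Int.negSucc 0, Int.ofNat 1, Int.ofNat 1, Int.negSucc 0, Int.negSucc 0, Int.ofNat 1, Int.ofNat 1, Int.ofNat 1, Int.ofNat 1, Int.negSucc 0, Int.negSucc 2, Int.ofNat 1, Int.ofNat 1],
  [Int.ofNat 2, Int.ofNat 0, Int.ofNat 0, Int.ofNat 0, Int.negSucc 1, Int.ofNat 0, Int.ofNat 2, Int.ofNat 0, Int.ofNat 0, Int.ofNat 2, Int.ofNat 0, Int.negSucc 1, Int.ofNat 0, Int.ofNat 0, Int.negSucc 1, Int.ofNat 0, Int.ofNat 0, Int.ofNat 0, Int.ofNat 0, Int.ofNat 2, Int.ofNat 0, Int.negSucc 1, Int.ofNat 0, Int.ofNat 0],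
  [Int.ofNat 2, Int.ofNat 0, Int.ofNat 0, Int.ofNat 0, Int.negSucc 1, Int.ofNat 0, Int.negSucc 1, Int.ofNat 0, Int.ofNat 0, Int.negSucc 1, Int.ofNat 0, Int.negSucc 1, Int.ofNat 0, Int.ofNat 0, Int.negSucc 1, Int.ofNat 0, Int.ofNat 0, Int.ofNat 0, Int.ofNat 0, Int.ofNat 2, Int.ofNat 0, Int.negSucc 1, Int.ofNat 0, Int.ofNat 0],
  [Int.ofNat 0, Int.ofNat 0, Int.negSucc 1, Int.ofNat 0, Int.negSucc 1, Int.negSucc 1, Int.negSucc 1, Int.ofNat 0, Int.ofNat 0, Int.ofNat 0, Int.ofNat 0, Int.ofNat 0, Int.ofNat 0, Int.negSucc 1, Int.ofNat 0, Int.ofNat 0, Int.ofNat 2, Int.ofNat 0, Int.negSucc 1, Int.ofNat 0, Int.ofNat 2, Int.ofNat 0, Int.ofNat 0, Int.ofNat 0],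
  [Int.ofNat 0, Int.ofNat 0, Int.ofNat 2, Int.ofNat 0, Int.ofNat 2, Int.negSucc 1, Int.ofNat 2, Int.ofNat 0, Int.ofNat 0, Int.ofNat 0, Int.ofNat 0, Int.ofNat 0, Int.ofNat 0, Int.ofNat 2, Int.ofNat 0, Int.ofNat 0, Int.negSucc 1, Int.ofNat 0, Int.ofNat 2, Int.ofNat 0, Int.ofNat 2, Int.ofNat 0, Int.ofNat 0, Int.ofNat 0],
  [Int.ofNat 0, Int.ofNat 0, Int.ofNat 0, Int.ofNat 0, Int.ofNat 0, Int.ofNat 0, Int.ofNat 0, Int.ofNat 2, Int.ofNat 2, Int.negSucc 1, Int.negSucc 1, Int.ofNat 2, Int.ofNat 0, Int.ofNat 0, Int.ofNat 2, Int.ofNat 0, Int.ofNat 0, Int.ofNat 2, Int.ofNat 0, Int.ofNat 2, Int.ofNat 0, Int.ofNat 0, Int.ofNat 0, Int.ofNat 0],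
  [Int.ofNat 0, Int.ofNat 0, Int.ofNat 0, Int.ofNat 0, Int.ofNat 0, Int.ofNat 0, Int.ofNat 0, Int.negSucc 1, Int.ofNat 2, Int.ofNat 2, Int.ofNat 2, Int.negSucc 1, Int.ofNat 0, Int.ofNat 0, Int.ofNat 2, Int.ofNat 0, Int.ofNat 0, Int.ofNat 2, Int.ofNat 0, Int.ofNat 2, Int.ofNat 0, Int.ofNat 0, Int.ofNat 0, Int.ofNat 0],
  [Int.ofNat 0, Int.ofNat 0, Int.ofNat 0, Int.ofNat 0, Int.ofNat 0, Int.ofNat 0, Int.ofNat 0, Int.ofNat 0, Int.negSucc 1, Int.ofNat 2, Int.ofNat 2, Int.ofNat 2, Int.negSucc 1, Int.ofNat 0, Int.ofNat 0, Int.ofNat 2, Int.ofNat 0, Int.ofNat 0, Int.ofNat 2, Int.ofNat 0, Int.ofNat 2, Int.ofNat 0, Int.ofNat 0, Int.ofNat 0],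
  [Int.ofNat 0, Int.ofNat 0, Int.ofNat 0, Int.ofNat 0, Int.ofNat 0, Int.ofNat 0, Int.ofNat 0, Int.ofNat 0, Int.negSucc 1, Int.negSucc 1, Int.negSucc 1, Int.ofNat 2, Int.negSucc 1, Int.ofNat 0, Int.ofNat 0, Int.negSucc 1, Int.ofNat 0, Int.ofNat 0, Int.ofNat 2, Int.ofNat 0, Int.negSucc 1, Int.ofNat 0, Int.ofNat 0, Int.ofNat 0],
  [Int.ofNat 0, Int.ofNat 0, Int.ofNat 0, Int.ofNat 0, Int.ofNat 0, Int.negSucc 1, Int.negSucc 1, Int.negSucc 1, Int.ofNat 2, Int.negSucc 1, Int.ofNat 0, Int.ofNat 0, Int.negSucc 1, Int.ofNat 0, Int.ofNat 0, Int.ofNat 2, Int.ofNat 0, Int.negSucc 1, Int.ofNat 0, Int.ofNat 0, Int.ofNat 0, Int.ofNat 0, Int.ofNat 0, Int.ofNat 0],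
  [Int.ofNat 0, Int.ofNat 0, Int.ofNat 0, Int.ofNat 2, Int.ofNat 0, Int.ofNat 0, Int.ofNat 0, Int.ofNat 0, Int.ofNat 2, Int.negSucc 1, Int.ofNat 0, Int.ofNat 0, Int.negSucc 1, Int.ofNat 0, Int.ofNat 2, Int.ofNat 2, Int.ofNat 0, Int.ofNat 0, Int.ofNat 0, Int.ofNat 2, Int.ofNat 0, Int.ofNat 2, Int.ofNat 0, Int.ofNat 0],
  [Int.ofNat 0, Int.ofNat 0, Int.ofNat 0, Int.ofNat 2, Int.ofNat 0, Int.ofNat 0, Int.ofNat 0, Int.ofNat 0, Int.negSucc 1, Int.ofNat 0, Int.ofNat 0, Int.ofNat 0, Int.negSucc 1, Int.ofNat 0, Int.ofNat 0, Int.ofNat 2, Int.ofNat 2, Int.ofNat 2, Int.ofNat 0, Int.ofNat 0, Int.ofNat 2, Int.ofNat 0, Int.ofNat 2, Int.ofNat 0],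
  [Int.ofNat 0, Int.ofNat 0, Int.ofNat 0, Int.ofNat 0, Int.negSucc 1, Int.negSucc 1, Int.ofNat 0, Int.ofNat 0, Int.ofNat 0, Int.negSucc 1, Int.negSucc 1, Int.ofNat 2, Int.ofNat 0, Int.negSucc 1, Int.negSucc 1, Int.ofNat 0, Int.ofNat 0, Int.ofNat 0, Int.ofNat 2, Int.ofNat 0, Int.ofNat 0, Int.ofNat 0, Int.ofNat 0, Int.ofNat 0],
  [Int.ofNat 0, Int.ofNat 0, Int.ofNat 0, Int.ofNat 0, Int.negSucc 1, Int.ofNat 2, Int.ofNat 0, Int.ofNat 0, Int.ofNat 0, Int.ofNat 2, Int.ofNat 2, Int.ofNat 2, Int.ofNat 0, Int.negSucc 1, Int.negSucc 1, Int.ofNat 0, Int.ofNat 0, Int.ofNat 0, Int.negSucc 1, Int.ofNat 0, Int.ofNat 0, Int.ofNat 0, Int.ofNat 0, Int.ofNat 0],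
  [Int.negSucc 1, Int.ofNat 0, Int.ofNat 0, Int.ofNat 0, Int.ofNat 0, Int.negSucc 1, Int.ofNat 0, Int.ofNat 2, Int.negSucc 1, Int.ofNat 2, Int.ofNat 0, Int.ofNat 0, Int.ofNat 0, Int.ofNat 0, Int.ofNat 0, Int.ofNat 0, Int.ofNat 2, Int.ofNat 0, Int.ofNat 0, Int.ofNat 2, Int.ofNat 0, Int.negSucc 1, Int.ofNat 0, Int.ofNat 0],
  [Int.negSucc 1, Int.ofNat 0, Int.ofNat 0, Int.ofNat 0, Int.ofNat 0, Int.ofNat 2, Int.ofNat 0, Int.ofNat 2, Int.negSucc 1, Int.negSucc 1, Int.ofNat 0, Int.ofNat 0, Int.ofNat 0, Int.ofNat 0, Int.ofNat 0, Int.ofNat 0, Int.ofNat 2, Int.ofNat 0, Int.ofNat 0, Int.ofNat 2, Int.ofNat 0, Int.negSucc 1, Int.ofNat 0, Int.ofNat 0],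
  [Int.ofNat 1, Int.negSucc 0, Int.negSucc 0, Int.negSucc 0, Int.negSucc 0, Int.ofNat 1, Int.negSucc 0, Int.ofNat 1, Int.negSucc 0, Int.negSucc 0, Int.ofNat 1, Int.ofNat 1, Int.ofNat 1, Int.negSucc 0, Int.negSucc 0, Int.ofNat 1, Int.ofNat 1, Int.negSucc 0, Int.ofNat 1, Int.ofNat 1, Int.ofNat 1, Int.negSucc 2, Int.negSucc 0, Int.negSucc 0],
  [Int.ofNat 1, Int.ofNat 1, Int.negSucc 0, Int.negSucc 0, Int.negSucc 0, Int.negSucc 2, Int.negSucc 0, Int.ofNat 1, Int.ofNat 1, Int.ofNat 1, Int.ofNat 1, Int.ofNat 1, Int.negSucc 0, Int.negSucc 0, Int.negSucc 0, Int.ofNat 1, Int.negSucc 0, Int.ofNat 1, Int.negSucc 0, Int.negSucc 0, Int.ofNat 1, Int.ofNat 1, Int.negSucc 0, Int.negSucc 0],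
  [Int.negSucc 0, Int.negSucc 0, Int.ofNat 1, Int.ofNat 1, Int.ofNat 1, Int.negSucc 0, Int.negSucc 0, Int.ofNat 1, Int.ofNat 1, Int.negSucc 0, Int.negSucc 0, Int.ofNat 1, Int.negSucc 0, Int.ofNat 1, Int.ofNat 1, Int.negSucc 0, Int.ofNat 1, Int.ofNat 3, Int.negSucc 0, Int.negSucc 0, Int.negSucc 0, Int.ofNat 1, Int.ofNat 1, Int.ofNat 1],
  [Int.negSucc 0, Int.ofNat 1, Int.ofNat 1, Int.negSucc 0, Int.negSucc 0, Int.ofNat 1, Int.ofNat 1, Int.ofNat 1, Int.negSucc 0, Int.negSucc 0, Int.ofNat 1, Int.ofNat 1, Int.negSucc 0, Int.negSucc 0, Int.ofNat 1, Int.negSucc 0, Int.ofNat 1, Int.ofNat 1, Int.negSucc 0, Int.ofNat 1, Int.ofNat 3, Int.negSucc 0, Int.negSucc 0, Int.ofNat 1],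
  [Int.ofNat 2, Int.ofNat 0, Int.ofNat 0, Int.negSucc 1, Int.ofNat 0, Int.ofNat 0, Int.ofNat 0, Int.ofNat 0, Int.ofNat 0, Int.negSucc 1, Int.ofNat 0, Int.ofNat 2, Int.ofNat 0, Int.ofNat 0, Int.ofNat 0, Int.negSucc 1, Int.ofNat 2, Int.ofNat 0, Int.ofNat 0, Int.ofNat 0, Int.ofNat 2, Int.negSucc 1, Int.ofNat 0, Int.ofNat 0],
  [Int.ofNat 0, Int.ofNat 0, Int.negSucc 1, Int.ofNat 0, Int.ofNat 0, Int.ofNat 0, Int.ofNat 0, Int.ofNat 0, Int.negSucc 1, Int.ofNat 0, Int.ofNat 2, Int.ofNat 0, Int.ofNat 0, Int.ofNat 0, Int.negSucc 1, Int.ofNat 2, Int.ofNat 0, Int.ofNat 0, Int.ofNat 0, Int.ofNat 2, Int.negSucc 1, Int.ofNat 0, Int.ofNat 2, Int.ofNat 0],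
  [Int.ofNat 0, Int.ofNat 0, Int.ofNat 2, Int.ofNat 0, Int.ofNat 0, Int.ofNat 0, Int.ofNat 0, Int.ofNat 0, Int.negSucc 1, Int.ofNat 0, Int.negSucc 1, Int.ofNat 0, Int.ofNat 0, Int.ofNat 0, Int.negSucc 1, Int.ofNat 2, Int.ofNat 0, Int.ofNat 0, Int.ofNat 0, Int.ofNat 2, Int.negSucc 1, Int.ofNat 0, Int.ofNat 2, Int.ofNat 0],
  [Int.ofNat 0, Int.ofNat 2, Int.ofNat 0, Int.ofNat 0, Int.ofNat 0, Int.negSucc 1, Int.ofNat 0, Int.negSucc 1, Int.ofNat 0, Int.ofNat 0, Int.ofNat 0, Int.negSucc 1, Int.ofNat 0, Int.negSucc 1, Int.ofNat 2, Int.ofNat 2, Int.ofNat 0, Int.ofNat 2, Int.ofNat 0, Int.ofNat 0, Int.ofNat 0, Int.ofNat 0, Int.ofNat 0, Int.ofNat 0],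
  [Int.ofNat 0, Int.ofNat 2, Int.ofNat 0, Int.ofNat 0, Int.ofNat 0, Int.negSucc 1, Int.ofNat 0, Int.ofNat 2, Int.ofNat 0, Int.ofNat 0, Int.ofNat 0, Int.ofNat 2, Int.ofNat 0, Int.negSucc 1, Int.ofNat 2, Int.ofNat 2, Int.ofNat 0, Int.ofNat 2, Int.ofNat 0, Int.ofNat 0, Int.ofNat 0, Int.ofNat 0, Int.ofNat 0, Int.ofNat 0],
  [Int.ofNat 0, Int.ofNat 0, Int.ofNat 2, Int.ofNat 0, Int.ofNat 0, Int.ofNat 0, Int.negSucc 1, Int.ofNat 0, Int.ofNat 2, Int.ofNat 0, Int.ofNat 0, Int.ofNat 0, Int.ofNat 2, Int.ofNat 0, Int.negSucc 1, Int.ofNat 2, Int.ofNat 2, Int.ofNat 0, Int.ofNat 2, Int.ofNat 0, Int.ofNat 0, Int.ofNat 0, Int.ofNat 0, Int.ofNat 0],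
  [Int.ofNat 1, Int.ofNat 1, Int.negSucc 0, Int.ofNat 1, Int.negSucc 0, Int.ofNat 1, Int.negSucc 0, Int.ofNat 1, Int.negSucc 0, Int.negSucc 0, Int.negSucc 0, Int.negSucc 2, Int.negSucc 0, Int.negSucc 0, Int.negSucc 0, Int.ofNat 1, Int.ofNat 1, Int.ofNat 1, Int.negSucc 0, Int.ofNat 1, Int.negSucc 0, Int.ofNat 1, Int.negSucc 0, Int.ofNat 1],
  [Int.ofNat 1, Int.negSucc 0, Int.ofNat 1, Int.negSucc 0, Int.ofNat 1, Int.negSucc 0, Int.negSucc 0, Int.negSucc 0, Int.negSucc 2, Int.negSucc 0, Int.negSucc 0, Int.negSucc 0, Int.ofNat 1, Int.ofNat 1, Int.ofNat 1, Int.negSucc 0, Int.ofNat 1, Int.negSucc 0, Int.ofNat 1, Int.negSucc 0, Int.ofNat 1, Int.ofNat 1, Int.negSucc 0, Int.ofNat 1],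
  [Int.ofNat 0, Int.ofNat 2, Int.ofNat 0, Int.ofNat 0, Int.ofNat 0, Int.ofNat 0, Int.ofNat 0, Int.ofNat 0, Int.negSucc 1, Int.ofNat 0, Int.ofNat 0, Int.ofNat 0, Int.ofNat 2, Int.ofNat 0, Int.ofNat 2, Int.ofNat 0, Int.ofNat 0, Int.ofNat 0, Int.ofNat 2, Int.ofNat 0, Int.ofNat 2, Int.ofNat 2, Int.negSucc 1, Int.ofNat 0],
  [Int.ofNat 0, Int.ofNat 0, Int.ofNat 0, Int.ofNat 0, Int.ofNat 2, Int.ofNat 0, Int.ofNat 0, Int.ofNat 0, Int.ofNat 2, Int.ofNat 0, Int.ofNat 2, Int.ofNat 0, Int.ofNat 0, Int.ofNat 0, Int.negSucc 1, Int.ofNat 0, Int.negSucc 1, Int.ofNat 2, Int.ofNat 2, Int.ofNat 0, Int.ofNat 2, Int.ofNat 0, Int.ofNat 0, Int.ofNat 0],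
  [Int.ofNat 0, Int.ofNat 0, Int.ofNat 0, Int.ofNat 0, Int.ofNat 2, Int.ofNat 0, Int.ofNat 0, Int.ofNat 0, Int.ofNat 0, Int.negSucc 1, Int.ofNat 0, Int.negSucc 1, Int.negSucc 1, Int.ofNat 0, Int.negSucc 1, Int.negSucc 1, Int.negSucc 1, Int.ofNat 2, Int.ofNat 0, Int.ofNat 0, Int.ofNat 0, Int.ofNat 0, Int.ofNat 0, Int.ofNat 0],
  [Int.ofNat 0, Int.ofNat 0, Int.ofNat 0, Int.ofNat 0, Int.ofNat 2, Int.ofNat 0, Int.ofNat 0, Int.ofNat 0, Int.ofNat 0, Int.ofNat 2, Int.ofNat 0, Int.negSucc 1, Int.negSucc 1, Int.ofNat 0, Int.negSucc 1, Int.ofNat 2, Int.negSucc 1, Int.ofNat 2, Int.ofNat 0, Int.ofNat 0, Int.ofNat 0, Int.ofNat 0, Int.ofNat 0, Int.ofNat 0],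
  [Int.ofNat 0, Int.negSucc 1, Int.negSucc 1, Int.ofNat 0, Int.negSucc 1, Int.ofNat 0, Int.ofNat 0, Int.ofNat 0, Int.ofNat 0, Int.ofNat 0, Int.ofNat 0, Int.ofNat 0, Int.ofNat 2, Int.ofNat 2, Int.ofNat 2, Int.ofNat 0, Int.ofNat 0, Int.negSucc 1, Int.ofNat 2, Int.ofNat 0, Int.ofNat 0, Int.ofNat 0, Int.ofNat 0, Int.ofNat 0],
  [Int.ofNat 0, Int.ofNat 2, Int.ofNat 2, Int.ofNat 0, Int.ofNat 2, Int.ofNat 0, Int.ofNat 0, Int.ofNat 0, Int.ofNat 0, Int.ofNat 0, Int.ofNat 0, Int.ofNat 0, Int.negSucc 1, Int.negSucc 1, Int.ofNat 2, Int.ofNat 0, Int.ofNat 0, Int.negSucc 1, Int.negSucc 1, Int.ofNat 0, Int.ofNat 0, Int.ofNat 0, Int.ofNat 0, Int.ofNat 0],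
  [Int.ofNat 0, Int.ofNat 0, Int.ofNat 0, Int.ofNat 0, Int.negSucc 1, Int.ofNat 0, Int.ofNat 0, Int.negSucc 1, Int.ofNat 0, Int.ofNat 0, Int.ofNat 0, Int.ofNat 2, Int.ofNat 0, Int.ofNat 0, Int.negSucc 1, Int.ofNat 0, Int.ofNat 0, Int.ofNat 2, Int.ofNat 2, Int.ofNat 0, Int.ofNat 0, Int.negSucc 1, Int.ofNat 2, Int.ofNat 0],
  [Int.ofNat 0, Int.ofNat 0, Int.ofNat 0, Int.ofNat 0, Int.negSucc 1, Int.ofNat 0, Int.ofNat 0, Int.ofNat 2, Int.ofNat 0, Int.ofNat 0, Int.ofNat 0, Int.negSucc 1, Int.ofNat 0, Int.ofNat 0, Int.negSucc 1, Int.ofNat 0, Int.ofNat 0, Int.ofNat 2, Int.negSucc 1, Int.ofNat 0, Int.ofNat 0, Int.ofNat 2, Int.ofNat 2, Int.ofNat 0],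
  [Int.ofNat 2, Int.ofNat 0, Int.ofNat 0, Int.ofNat 0, Int.ofNat 0, Int.negSucc 1, Int.ofNat 0, Int.ofNat 0, Int.ofNat 2, Int.ofNat 0, Int.ofNat 0, Int.ofNat 0, Int.negSucc 1, Int.ofNat 0, Int.ofNat 0, Int.negSucc 1, Int.ofNat 0, Int.ofNat 0, Int.ofNat 2, Int.negSucc 1, Int.ofNat 0, Int.ofNat 0, Int.ofNat 2, Int.ofNat 0],
  [Int.negSucc 0, Int.ofNat 1, Int.ofNat 1, Int.ofNat 1, Int.negSucc 0, Int.negSucc 0, Int.ofNat 1, Int.ofNat 1, Int.ofNat 1, Int.ofNat 1, Int.ofNat 1, Int.negSucc 0, Int.negSucc 2, Int.negSucc 0, Int.ofNat 1, Int.negSucc 0, Int.negSucc 0, Int.ofNat 1, Int.ofNat 1, Int.negSucc 0, Int.ofNat 1, Int.ofNat 1, Int.ofNat 1, Int.ofNat 1],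
  [Int.ofNat 1, Int.negSucc 0, Int.negSucc 0, Int.ofNat 1, Int.ofNat 1, Int.ofNat 1, Int.ofNat 1, Int.ofNat 1, Int.negSucc 0, Int.negSucc 2, Int.negSucc 0, Int.ofNat 1, Int.negSucc 0, Int.negSucc 0, Int.ofNat 1, Int.ofNat 1, Int.negSucc 0, Int.ofNat 1, Int.ofNat 1, Int.ofNat 1, Int.negSucc 0, Int.ofNat 1, Int.ofNat 1, Int.ofNat 1],
  [Int.negSucc 0, Int.ofNat 1, Int.ofNat 1, Int.negSucc 0, Int.ofNat 1, Int.negSucc 0, Int.negSucc 0, Int.negSucc 0, Int.negSucc 0, Int.negSucc 0, Int.ofNat 1, Int.ofNat 1, Int.negSucc 0, Int.negSucc 0, Int.negSucc 0, Int.ofNat 3, Int.negSucc 0, Int.negSucc 0, Int.ofNat 1, Int.negSucc 0, Int.ofNat 1, Int.negSucc 0, Int.ofNat 1, Int.negSucc 0],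
  [Int.negSucc 0, Int.negSucc 0, Int.ofNat 1, Int.negSucc 0, Int.ofNat 1, Int.negSucc 0, Int.ofNat 1, Int.ofNat 1, Int.negSucc 0, Int.negSucc 0, Int.ofNat 1, Int.negSucc 0, Int.negSucc 0, Int.negSucc 0, Int.ofNat 1, Int.ofNat 3, Int.negSucc 0, Int.negSucc 0, Int.ofNat 1, Int.ofNat 1, Int.negSucc 0, Int.negSucc 0, Int.negSucc 0, Int.negSucc 0],
  [Int.ofNat 0, Int.ofNat 0, Int.negSucc 1, Int.ofNat 0, Int.ofNat 2, Int.ofNat 0, Int.ofNat 0, Int.ofNat 0, Int.ofNat 0, Int.negSucc 1, Int.ofNat 0, Int.ofNat 0, Int.ofNat 0, Int.ofNat 0, Int.ofNat 2, Int.ofNat 2, Int.ofNat 0, Int.ofNat 0, Int.ofNat 2, Int.ofNat 0, Int.negSucc 1, Int.negSucc 1, Int.ofNat 0, Int.ofNat 0],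
  [Int.ofNat 0, Int.ofNat 0, Int.ofNat 2, Int.ofNat 0, Int.ofNat 2, Int.ofNat 0, Int.ofNat 0, Int.ofNat 0, Int.ofNat 0, Int.ofNat 2, Int.ofNat 0, Int.ofNat 0, Int.ofNat 0, Int.ofNat 0, Int.ofNat 2, Int.negSucc 1, Int.ofNat 0, Int.ofNat 0, Int.negSucc 1, Int.ofNat 0, Int.negSucc 1, Int.negSucc 1, Int.ofNat 0, Int.ofNat 0],
  [Int.ofNat 2, Int.ofNat 0, Int.ofNat 0, Int.ofNat 0, Int.ofNat 0, Int.negSucc 1, Int.negSucc 1, Int.ofNat 2, Int.ofNat 0, Int.ofNat 0, Int.ofNat 0, Int.negSucc 1, Int.ofNat 0, Int.ofNat 0, Int.ofNat 0, Int.ofNat 2, Int.ofNat 0, Int.ofNat 0, Int.ofNat 0, Int.ofNat 0, Int.ofNat 0, Int.ofNat 2, Int.negSucc 1, Int.ofNat 0],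
  [Int.ofNat 2, Int.ofNat 0, Int.ofNat 0, Int.ofNat 0, Int.ofNat 0, Int.ofNat 2, Int.ofNat 2, Int.ofNat 2, Int.ofNat 0, Int.ofNat 0, Int.ofNat 0, Int.negSucc 1, Int.ofNat 0, Int.ofNat 0, Int.ofNat 0, Int.negSucc 1, Int.ofNat 0, Int.ofNat 0, Int.ofNat 0, Int.ofNat 0, Int.ofNat 0, Int.ofNat 2, Int.ofNat 2, Int.ofNat 0],
  [Int.negSucc 0, Int.ofNat 1, Int.ofNat 1, Int.negSucc 0, Int.negSucc 0, Int.ofNat 1, Int.negSucc 0, Int.negSucc 0, Int.ofNat 1, Int.ofNat 1, Int.ofNat 1, Int.negSucc 0, Int.ofNat 1, Int.negSucc 0, Int.negSucc 0, Int.negSucc 0, Int.negSucc 0, Int.negSucc 0, Int.ofNat 1, Int.negSucc 2, Int.ofNat 1, Int.negSucc 0, Int.ofNat 1, Int.ofNat 1],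
  [Int.negSucc 0, Int.ofNat 1, Int.negSucc 0, Int.negSucc 0, Int.ofNat 1, Int.negSucc 0, Int.ofNat 1, Int.ofNat 1, Int.negSucc 0, Int.ofNat 1, Int.negSucc 0, Int.negSucc 2, Int.ofNat 1, Int.ofNat 1, Int.negSucc 0, Int.negSucc 0, Int.negSucc 0, Int.negSucc 0, Int.negSucc 0, Int.ofNat 1, Int.ofNat 1, Int.ofNat 1, Int.negSucc 0, Int.ofNat 1],
  [Int.ofNat 1, Int.negSucc 0, Int.ofNat 1, Int.ofNat 1, Int.ofNat 1, Int.ofNat 1, Int.negSucc 0, Int.negSucc 0, Int.ofNat 1, Int.ofNat 1, Int.negSucc 0, Int.negSucc 0, Int.ofNat 3, Int.ofNat 1, Int.ofNat 1, Int.negSucc 0, Int.negSucc 0, Int.ofNat 1, Int.ofNat 1, Int.negSucc 0, Int.ofNat 1, Int.negSucc 0, Int.negSucc 0, Int.negSucc 0],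
  [Int.ofNat 1, Int.negSucc 0, Int.negSucc 0, Int.ofNat 1, Int.negSucc 0, Int.ofNat 1, Int.ofNat 1, Int.ofNat 1, Int.ofNat 1, Int.negSucc 0, Int.negSucc 0, Int.ofNat 1, Int.ofNat 1, Int.negSucc 0, Int.negSucc 0, Int.ofNat 3, Int.ofNat 1, Int.ofNat 1, Int.negSucc 0, Int.negSucc 0, Int.ofNat 1, Int.ofNat 1, Int.negSucc 0, Int.negSucc 0],
  [Int.negSucc 1, Int.ofNat 0, Int.ofNat 0, Int.ofNat 0, Int.ofNat 0, Int.ofNat 0, Int.ofNat 0, Int.ofNat 0, Int.ofNat 0, Int.negSucc 1, Int.negSucc 1, Int.ofNat 0, Int.ofNat 0, Int.ofNat 0, Int.negSucc 1, Int.ofNat 2, Int.ofNat 2, Int.ofNat 0, Int.negSucc 1, Int.negSucc 1, Int.ofNat 0, Int.ofNat 0, Int.ofNat 0, Int.ofNat 0],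
  [Int.ofNat 0, Int.ofNat 0, Int.ofNat 0, Int.ofNat 0, Int.ofNat 0, Int.ofNat 0, Int.ofNat 0, Int.ofNat 0, Int.negSucc 1, Int.negSucc 1, Int.ofNat 0, Int.ofNat 0, Int.ofNat 0, Int.negSucc 1, Int.ofNat 2, Int.ofNat 2, Int.ofNat 0, Int.negSucc 1, Int.negSucc 1, Int.ofNat 0, Int.ofNat 0, Int.ofNat 0, Int.negSucc 1, Int.ofNat 0],
  [Int.ofNat 0, Int.ofNat 0, Int.ofNat 0, Int.ofNat 0, Int.ofNat 0, Int.ofNat 0, Int.ofNat 0, Int.ofNat 0, Int.negSucc 1, Int.ofNat 2, Int.ofNat 0, Int.ofNat 0, Int.ofNat 0, Int.negSucc 1, Int.ofNat 2, Int.ofNat 2, Int.ofNat 0, Int.negSucc 1, Int.ofNat 2, Int.ofNat 0, Int.ofNat 0, Int.ofNat 0, Int.negSucc 1, Int.ofNat 0],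
  [Int.ofNat 0, Int.ofNat 0, Int.ofNat 2, Int.ofNat 0, Int.ofNat 0, Int.ofNat 0, Int.ofNat 0, Int.ofNat 0, Int.ofNat 2, Int.ofNat 0, Int.ofNat 0, Int.ofNat 2, Int.negSucc 1, Int.negSucc 1, Int.ofNat 0, Int.ofNat 2, Int.ofNat 0, Int.negSucc 1, Int.ofNat 0, Int.negSucc 1, Int.ofNat 0, Int.ofNat 0, Int.ofNat 0, Int.ofNat 0],
  [Int.ofNat 0, Int.ofNat 0, Int.negSucc 1, Int.ofNat 0, Int.ofNat 0, Int.ofNat 0, Int.ofNat 0, Int.ofNat 0, Int.ofNat 2, Int.ofNat 0, Int.ofNat 0, Int.negSucc 1, Int.negSucc 1, Int.negSucc 1, Int.ofNat 0, Int.ofNat 2, Int.ofNat 0, Int.negSucc 1, Int.ofNat 0, Int.negSucc 1, Int.ofNat 0, Int.ofNat 0, Int.ofNat 0, Int.ofNat 0],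
  [Int.ofNat 0, Int.ofNat 0, Int.ofNat 0, Int.negSucc 1, Int.ofNat 0, Int.ofNat 0, Int.ofNat 0, Int.ofNat 0, Int.ofNat 0, Int.ofNat 2, Int.ofNat 0, Int.ofNat 0, Int.negSucc 1, Int.negSucc 1, Int.negSucc 1, Int.ofNat 0, Int.ofNat 2, Int.ofNat 0, Int.negSucc 1, Int.ofNat 0, Int.negSucc 1, Int.ofNat 0, Int.ofNat 0, Int.ofNat 0],
  [Int.ofNat 0, Int.ofNat 0, Int.ofNat 0, Int.ofNat 0, Int.ofNat 0, Int.ofNat 2, Int.ofNat 0, Int.ofNat 0, Int.ofNat 2, Int.ofNat 2, Int.ofNat 0, Int.ofNat 2, Int.ofNat 0, Int.negSucc 1, Int.ofNat 0, Int.ofNat 0, Int.ofNat 2, Int.ofNat 2, Int.ofNat 0, Int.ofNat 0, Int.negSucc 1, Int.ofNat 0, Int.ofNat 0, Int.ofNat 0],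
  [Int.ofNat 0, Int.ofNat 0, Int.ofNat 2, Int.ofNat 0, Int.ofNat 0, Int.ofNat 2, Int.ofNat 2, Int.ofNat 0, Int.ofNat 2, Int.ofNat 0, Int.negSucc 1, Int.ofNat 0, Int.ofNat 0, Int.ofNat 2, Int.ofNat 2, Int.ofNat 0, Int.ofNat 0, Int.negSucc 1, Int.ofNat 0, Int.ofNat 0, Int.ofNat 0, Int.ofNat 0, Int.ofNat 0, Int.ofNat 0],
  [Int.ofNat 1, Int.ofNat 1, Int.negSucc 0, Int.negSucc 0, Int.negSucc 0, Int.ofNat 1, Int.ofNat 1, Int.negSucc 0, Int.ofNat 1, Int.ofNat 1, Int.negSucc 0, Int.negSucc 0, Int.negSucc 0, Int.ofNat 1, Int.ofNat 1, Int.ofNat 1, Int.negSucc 0, Int.negSucc 2, Int.negSucc 0, Int.negSucc 0, Int.ofNat 1, Int.negSucc 0, Int.negSucc 0, Int.ofNat 1],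
  [Int.ofNat 1, Int.ofNat 1, Int.negSucc 0, Int.negSucc 0, Int.negSucc 0, Int.negSucc 0, Int.negSucc 0, Int.negSucc 0, Int.negSucc 0, Int.ofNat 1, Int.ofNat 1, Int.negSucc 2, Int.ofNat 1, Int.negSucc 0, Int.negSucc 0, Int.ofNat 1, Int.ofNat 1, Int.ofNat 1, Int.ofNat 1, Int.negSucc 0, Int.negSucc 0, Int.ofNat 1, Int.negSucc 0, Int.ofNat 1],
  [Int.ofNat 0, Int.ofNat 0, Int.ofNat 2, Int.ofNat 0, Int.ofNat 0, Int.ofNat 0, Int.ofNat 0, Int.ofNat 0, Int.ofNat 0, Int.ofNat 0, Int.ofNat 0, Int.negSucc 1, Int.ofNat 2, Int.ofNat 0, Int.ofNat 0, Int.ofNat 0, Int.ofNat 2, Int.ofNat 2, Int.ofNat 2, Int.ofNat 0, Int.negSucc 1, Int.ofNat 2, Int.ofNat 0, Int.ofNat 0],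
  [Int.ofNat 0, Int.ofNat 0, Int.negSucc 1, Int.ofNat 0, Int.ofNat 0, Int.ofNat 0, Int.ofNat 0, Int.ofNat 0, Int.ofNat 0, Int.ofNat 0, Int.ofNat 0, Int.negSucc 1, Int.ofNat 2, Int.ofNat 0, Int.ofNat 0, Int.ofNat 0, Int.ofNat 2, Int.ofNat 2, Int.negSucc 1, Int.ofNat 0, Int.negSucc 1, Int.ofNat 2, Int.ofNat 0, Int.ofNat 0],
  [Int.ofNat 0, Int.ofNat 2, Int.negSucc 1, Int.ofNat 0, Int.ofNat 0, Int.ofNat 0, Int.ofNat 2, Int.ofNat 0, Int.ofNat 0, Int.negSucc 1, Int.ofNat 0, Int.ofNat 0, Int.ofNat 0, Int.ofNat 0, Int.ofNat 2, Int.negSucc 1, Int.ofNat 0, Int.ofNat 2, Int.ofNat 0, Int.negSucc 1, Int.ofNat 0, Int.ofNat 0, Int.ofNat 0, Int.ofNat 0],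
  [Int.ofNat 0, Int.negSucc 1, Int.ofNat 2, Int.ofNat 0, Int.ofNat 0, Int.ofNat 0, Int.negSucc 1, Int.ofNat 0, Int.ofNat 0, Int.ofNat 2, Int.ofNat 0, Int.ofNat 0, Int.ofNat 0, Int.ofNat 0, Int.ofNat 2, Int.negSucc 1, Int.ofNat 0, Int.ofNat 2, Int.ofNat 0, Int.negSucc 1, Int.ofNat 0, Int.ofNat 0, Int.ofNat 0, Int.ofNat 0],
  [Int.ofNat 0, Int.ofNat 0, Int.ofNat 0, Int.negSucc 1, Int.ofNat 2, Int.ofNat 2, Int.negSucc 1, Int.ofNat 0, Int.ofNat 0, Int.ofNat 0, Int.ofNat 0, Int.ofNat 2, Int.ofNat 0, Int.ofNat 0, Int.ofNat 0, Int.ofNat 0, Int.ofNat 0, Int.ofNat 0, Int.ofNat 2, Int.negSucc 1, Int.ofNat 0, Int.ofNat 0, Int.negSucc 1, Int.ofNat 0],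
  [Int.ofNat 0, Int.ofNat 0, Int.ofNat 0, Int.negSucc 1, Int.ofNat 2, Int.ofNat 2, Int.negSucc 1, Int.ofNat 0, Int.ofNat 0, Int.ofNat 0, Int.ofNat 0, Int.negSucc 1, Int.ofNat 0, Int.ofNat 0, Int.ofNat 0, Int.ofNat 0, Int.ofNat 0, Int.ofNat 0, Int.negSucc 1, Int.negSucc 1, Int.ofNat 0, Int.ofNat 0, Int.negSucc 1, Int.ofNat 0],
  [Int.negSucc 1, Int.ofNat 0, Int.ofNat 0, Int.ofNat 0, Int.negSucc 1, Int.ofNat 2, Int.ofNat 2, Int.negSucc 1, Int.ofNat 0, Int.ofNat 0, Int.ofNat 0, Int.ofNat 0, Int.negSucc 1, Int.ofNat 0, Int.ofNat 0, Int.ofNat 0, Int.ofNat 0, Int.ofNat 0, Int.ofNat 0, Int.negSucc 1, Int.negSucc 1, Int.ofNat 0, Int.ofNat 0, Int.ofNat 0],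
  [Int.ofNat 1, Int.negSucc 0, Int.negSucc 0, Int.negSucc 0, Int.negSucc 0, Int.ofNat 1, Int.ofNat 3, Int.negSucc 0, Int.ofNat 1, Int.ofNat 1, Int.ofNat 1, Int.ofNat 1, Int.negSucc 0, Int.ofNat 1, Int.negSucc 0, Int.ofNat 1, Int.ofNat 1, Int.negSucc 0, Int.ofNat 1, Int.negSucc 0, Int.negSucc 0, Int.ofNat 1, Int.ofNat 1, Int.negSucc 0],
  [Int.negSucc 0, Int.negSucc 0, Int.ofNat 1, Int.ofNat 3, Int.negSucc 0, Int.ofNat 1, Int.ofNat 1, Int.ofNat 1, Int.ofNat 1, Int.negSucc 0, Int.ofNat 1, Int.negSucc 0, Int.ofNat 1, Int.ofNat 1, Int.negSucc 0, Int.ofNat 1, Int.negSucc 0, Int.negSucc 0, Int.ofNat 1, Int.ofNat 1, Int.ofNat 1, Int.negSucc 0, Int.negSucc 0, Int.negSucc 0],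
  [Int.ofNat 0, Int.ofNat 0, Int.negSucc 1, Int.ofNat 2, Int.ofNat 0, Int.ofNat 0, Int.ofNat 0, Int.ofNat 0, Int.ofNat 0, Int.negSucc 1, Int.ofNat 0, Int.negSucc 1, Int.ofNat 0, Int.ofNat 2, Int.negSucc 1, Int.ofNat 0, Int.ofNat 0, Int.negSucc 1, Int.ofNat 0, Int.ofNat 0, Int.ofNat 0, Int.negSucc 1, Int.ofNat 0, Int.ofNat 0],
  [Int.ofNat 0, Int.ofNat 0, Int.ofNat 0, Int.ofNat 2, Int.ofNat 0, Int.ofNat 0, Int.negSucc 1, Int.ofNat 0, Int.ofNat 0, Int.ofNat 2, Int.ofNat 0, Int.negSucc 1, Int.negSucc 1, Int.ofNat 0, Int.ofNat 0, Int.ofNat 0, Int.ofNat 0, Int.negSucc 1, Int.ofNat 0, Int.negSucc 1, Int.negSucc 1, Int.ofNat 0, Int.ofNat 0, Int.ofNat 0],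
  [Int.ofNat 0, Int.ofNat 0, Int.ofNat 0, Int.ofNat 2, Int.ofNat 0, Int.ofNat 0, Int.ofNat 0, Int.ofNat 2, Int.ofNat 2, Int.ofNat 2, Int.ofNat 0, Int.ofNat 0, Int.ofNat 0, Int.ofNat 0, Int.ofNat 0, Int.ofNat 0, Int.ofNat 0, Int.negSucc 1, Int.ofNat 2, Int.ofNat 0, Int.negSucc 1, Int.ofNat 2, Int.ofNat 0, Int.ofNat 0],
  [Int.ofNat 0, Int.ofNat 0, Int.ofNat 0, Int.ofNat 2, Int.ofNat 0, Int.ofNat 0, Int.ofNat 0, Int.ofNat 2, Int.ofNat 2, Int.negSucc 1, Int.ofNat 0, Int.ofNat 0, Int.ofNat 0, Int.ofNat 0, Int.ofNat 0, Int.ofNat 0, Int.ofNat 0, Int.negSucc 1, Int.negSucc 1, Int.ofNat 0, Int.negSucc 1, Int.ofNat 2, Int.ofNat 0, Int.ofNat 0],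
  [Int.ofNat 0, Int.ofNat 0, Int.ofNat 2, Int.negSucc 1, Int.ofNat 0, Int.negSucc 1, Int.ofNat 0, Int.negSucc 1, Int.ofNat 0, Int.ofNat 0, Int.ofNat 2, Int.negSucc 1, Int.ofNat 0, Int.ofNat 0, Int.ofNat 2, Int.ofNat 0, Int.ofNat 0, Int.ofNat 0, Int.ofNat 0, Int.ofNat 0, Int.ofNat 0, Int.ofNat 0, Int.ofNat 2, Int.ofNat 0],
  [Int.ofNat 0, Int.ofNat 0, Int.negSucc 1, Int.negSucc 1, Int.ofNat 0, Int.ofNat 2, Int.ofNat 0, Int.negSucc 1, Int.ofNat 0, Int.ofNat 0, Int.negSucc 1, Int.negSucc 1, Int.ofNat 0, Int.ofNat 0, Int.ofNat 2, Int.ofNat 0, Int.ofNat 0, Int.ofNat 0, Int.ofNat 0, Int.ofNat 0, Int.ofNat 0, Int.ofNat 0, Int.negSucc 1, Int.ofNat 0],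
  [Int.negSucc 0, Int.negSucc 0, Int.ofNat 1, Int.negSucc 2, Int.ofNat 1, Int.ofNat 1, Int.ofNat 1, Int.negSucc 0, Int.ofNat 1, Int.ofNat 1, Int.negSucc 0, Int.negSucc 0, Int.ofNat 1, Int.ofNat 1, Int.ofNat 1, Int.ofNat 1, Int.ofNat 1, Int.negSucc 0, Int.ofNat 1, Int.ofNat 1, Int.ofNat 1, Int.ofNat 1, Int.negSucc 0, Int.negSucc 0],
  [Int.negSucc 0, Int.ofNat 1, Int.ofNat 1, Int.negSucc 2, Int.ofNat 1, Int.ofNat 1, Int.negSucc 0, Int.ofNat 1, Int.ofNat 1, Int.ofNat 1, Int.negSucc 0, Int.ofNat 1, Int.ofNat 1, Int.ofNat 1, Int.negSucc 0, Int.ofNat 1, Int.ofNat 1, Int.negSucc 0, Int.ofNat 1, Int.negSucc 0, Int.negSucc 0, Int.ofNat 1, Int.ofNat 1, Int.negSucc 0],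
  [Int.ofNat 1, Int.negSucc 0, Int.negSucc 0, Int.negSucc 0, Int.negSucc 0, Int.ofNat 3, Int.negSucc 0, Int.ofNat 1, Int.negSucc 0, Int.ofNat 1, Int.negSucc 0, Int.negSucc 0, Int.negSucc 0, Int.negSucc 0, Int.ofNat 1, Int.ofNat 1, Int.negSucc 0, Int.ofNat 1, Int.negSucc 0, Int.negSucc 0, Int.negSucc 0, Int.ofNat 1, Int.negSucc 0, Int.ofNat 1],
  [Int.negSucc 0, Int.ofNat 1, Int.negSucc 0, Int.ofNat 1, Int.negSucc 0, Int.negSucc 0, Int.negSucc 0, Int.negSucc 0, Int.ofNat 3, Int.negSucc 0, Int.ofNat 1, Int.negSucc 0, Int.ofNat 1, Int.negSucc 0, Int.negSucc 0, Int.negSucc 0, Int.negSucc 0, Int.ofNat 1, Int.ofNat 1, Int.negSucc 0, Int.ofNat 1, Int.negSucc 0, Int.negSucc 0, Int.ofNat 1],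
  [Int.ofNat 1, Int.negSucc 0, Int.ofNat 1, Int.ofNat 1, Int.ofNat 1, Int.negSucc 0, Int.ofNat 1, Int.ofNat 1, Int.ofNat 1, Int.negSucc 0, Int.ofNat 1, Int.negSucc 2, Int.negSucc 0, Int.ofNat 1, Int.negSucc 0, Int.negSucc 0, Int.ofNat 1, Int.ofNat 1, Int.negSucc 0, Int.ofNat 1, Int.ofNat 1, Int.ofNat 1, Int.ofNat 1, Int.negSucc 0],
  [Int.negSucc 0, Int.ofNat 1, Int.ofNat 1, Int.ofNat 1, Int.negSucc 0, Int.ofNat 1, Int.ofNat 1, Int.ofNat 1, Int.negSucc 0, Int.ofNat 1, Int.negSucc 2, Int.negSucc 0, Int.ofNat 1, Int.negSucc 0, Int.negSucc 0, Int.ofNat 1, Int.ofNat 1, Int.negSucc 0, Int.ofNat 1, Int.ofNat 1, Int.ofNat 1, Int.ofNat 1, Int.ofNat 1, Int.negSucc 0],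
  [Int.ofNat 1, Int.ofNat 1, Int.negSucc 0, Int.ofNat 1, Int.negSucc 0, Int.ofNat 1, Int.ofNat 1, Int.negSucc 0, Int.negSucc 0, Int.negSucc 0, Int.ofNat 3, Int.ofNat 1, Int.ofNat 1, Int.negSucc 0, Int.negSucc 0, Int.ofNat 1, Int.ofNat 1, Int.negSucc 0, Int.negSucc 0, Int.ofNat 1, Int.ofNat 1, Int.negSucc 0, Int.ofNat 1, Int.negSucc 0],
  [Int.ofNat 1, Int.negSucc 0, Int.negSucc 0, Int.ofNat 1, Int.ofNat 1, Int.ofNat 3, Int.negSucc 0, Int.ofNat 1, Int.negSucc 0, Int.ofNat 1, Int.negSucc 0, Int.negSucc 0, Int.negSucc 0, Int.negSucc 0, Int.ofNat 1, Int.ofNat 1, Int.ofNat 1, Int.ofNat 1, Int.ofNat 1, Int.negSucc 0, Int.ofNat 1, Int.negSucc 0, Int.ofNat 1, Int.negSucc 0],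
  [Int.negSucc 0, Int.negSucc 0, Int.ofNat 1, Int.ofNat 1, Int.ofNat 1, Int.ofNat 3, Int.negSucc 0, Int.negSucc 0, Int.negSucc 0, Int.negSucc 0, Int.ofNat 1, Int.ofNat 1, Int.negSucc 0, Int.negSucc 0, Int.ofNat 1, Int.ofNat 1, Int.ofNat 1, Int.ofNat 1, Int.negSucc 0, Int.negSucc 0, Int.ofNat 1, Int.ofNat 1, Int.ofNat 1, Int.negSucc 0],
  [Int.ofNat 1, Int.negSucc 0, Int.negSucc 0, Int.ofNat 1, Int.ofNat 1, Int.ofNat 1, Int.ofNat 3, Int.negSucc 0, Int.negSucc 0, Int.negSucc 0, Int.negSucc 0, Int.ofNat 1, Int.ofNat 1, Int.negSucc 0, Int.negSucc 0, Int.ofNat 1, Int.ofNat 1, Int.ofNat 1, Int.ofNat 1, Int.negSucc 0, Int.negSucc 0, Int.ofNat 1, Int.ofNat 1, Int.negSucc 0],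
  [Int.negSucc 1, Int.ofNat 0, Int.ofNat 0, Int.ofNat 0, Int.ofNat 0, Int.ofNat 0, Int.ofNat 2, Int.negSucc 1, Int.negSucc 1, Int.ofNat 0, Int.ofNat 0, Int.ofNat 0, Int.ofNat 0, Int.negSucc 1, Int.negSucc 1, Int.ofNat 2, Int.ofNat 0, Int.ofNat 0, Int.ofNat 0, Int.negSucc 1, Int.ofNat 0, Int.ofNat 0, Int.ofNat 0, Int.ofNat 0],
  [Int.ofNat 0, Int.ofNat 0, Int.ofNat 0, Int.ofNat 2, Int.negSucc 1, Int.negSucc 1, Int.ofNat 0, Int.ofNat 0, Int.ofNat 0, Int.ofNat 0, Int.negSucc 1, Int.negSucc 1, Int.ofNat 2, Int.ofNat 0, Int.ofNat 0, Int.ofNat 0, Int.negSucc 1, Int.ofNat 0, Int.ofNat 0, Int.ofNat 0, Int.negSucc 1, Int.ofNat 0, Int.ofNat 0, Int.ofNat 0],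
  [Int.ofNat 0, Int.ofNat 0, Int.ofNat 0, Int.ofNat 2, Int.ofNat 0, Int.negSucc 1, Int.ofNat 0, Int.ofNat 0, Int.ofNat 0, Int.ofNat 2, Int.ofNat 0, Int.negSucc 1, Int.ofNat 2, Int.ofNat 2, Int.ofNat 0, Int.ofNat 2, Int.ofNat 0, Int.ofNat 0, Int.ofNat 0, Int.ofNat 0, Int.ofNat 0, Int.ofNat 0, Int.ofNat 2, Int.ofNat 0],
  [Int.ofNat 0, Int.ofNat 0, Int.ofNat 0, Int.ofNat 2, Int.ofNat 0, Int.ofNat 0, Int.ofNat 0, Int.ofNat 0, Int.ofNat 2, Int.ofNat 2, Int.ofNat 0, Int.ofNat 0, Int.ofNat 2, Int.ofNat 0, Int.ofNat 2, Int.ofNat 2, Int.ofNat 0, Int.ofNat 0, Int.ofNat 0, Int.negSucc 1, Int.ofNat 0, Int.negSucc 1, Int.ofNat 0, Int.ofNat 0],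
  [Int.ofNat 0, Int.ofNat 0, Int.ofNat 0, Int.ofNat 0, Int.ofNat 0, Int.negSucc 1, Int.ofNat 2, Int.ofNat 2, Int.ofNat 0, Int.ofNat 0, Int.negSucc 1, Int.negSucc 1, Int.ofNat 0, Int.ofNat 0, Int.ofNat 0, Int.ofNat 0, Int.ofNat 0, Int.negSucc 1, Int.negSucc 1, Int.ofNat 0, Int.negSucc 1, Int.ofNat 0, Int.ofNat 0, Int.ofNat 0],
  [Int.ofNat 0, Int.ofNat 0, Int.ofNat 0, Int.ofNat 0, Int.ofNat 0, Int.ofNat 2, Int.negSucc 1, Int.ofNat 2, Int.ofNat 0, Int.ofNat 0, Int.ofNat 2, Int.negSucc 1, Int.ofNat 0, Int.ofNat 0, Int.ofNat 0, Int.ofNat 0, Int.ofNat 0, Int.negSucc 1, Int.ofNat 2, Int.ofNat 0, Int.negSucc 1, Int.ofNat 0, Int.ofNat 0, Int.ofNat 0],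
  [Int.ofNat 2, Int.ofNat 0, Int.negSucc 1, Int.ofNat 0, Int.ofNat 0, Int.negSucc 1, Int.ofNat 0, Int.ofNat 0, Int.ofNat 2, Int.negSucc 1, Int.ofNat 0, Int.ofNat 2, Int.ofNat 0, Int.ofNat 0, Int.negSucc 1, Int.ofNat 2, Int.ofNat 0, Int.ofNat 0, Int.ofNat 0, Int.ofNat 0, Int.ofNat 0, Int.ofNat 0, Int.ofNat 0, Int.ofNat 0],
  [Int.negSucc 1, Int.ofNat 0, Int.ofNat 2, Int.ofNat 0, Int.ofNat 0, Int.negSucc 1, Int.ofNat 0, Int.ofNat 0, Int.negSucc 1, Int.ofNat 2, Int.ofNat 0, Int.ofNat 2, Int.ofNat 0, Int.ofNat 0, Int.negSucc 1, Int.ofNat 2, Int.ofNat 0, Int.ofNat 0, Int.ofNat 0, Int.ofNat 0, Int.ofNat 0, Int.ofNat 0, Int.ofNat 0, Int.ofNat 0],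
  [Int.ofNat 0, Int.ofNat 0, Int.ofNat 2, Int.ofNat 2, Int.ofNat 0, Int.ofNat 2, Int.ofNat 0, Int.ofNat 0, Int.ofNat 0, Int.negSucc 1, Int.ofNat 0, Int.ofNat 2, Int.ofNat 0, Int.ofNat 0, Int.ofNat 0, Int.ofNat 0, Int.ofNat 0, Int.ofNat 0, Int.negSucc 1, Int.ofNat 0, Int.negSucc 1, Int.ofNat 0, Int.ofNat 0, Int.negSucc 1],
  [Int.ofNat 0, Int.ofNat 0, Int.negSucc 1, Int.ofNat 2, Int.ofNat 0, Int.ofNat 2, Int.ofNat 0, Int.ofNat 0, Int.ofNat 0, Int.ofNat 2, Int.ofNat 0, Int.negSucc 1, Int.ofNat 0, Int.ofNat 0, Int.ofNat 0, Int.ofNat 0, Int.ofNat 0, Int.ofNat 0, Int.ofNat 2, Int.ofNat 0, Int.negSucc 1, Int.ofNat 0, Int.ofNat 0, Int.negSucc 1],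
  [Int.ofNat 0, Int.ofNat 0, Int.ofNat 0, Int.negSucc 1, Int.ofNat 2, Int.ofNat 0, Int.ofNat 2, Int.ofNat 0, Int.ofNat 0, Int.ofNat 0, Int.ofNat 2, Int.ofNat 0, Int.negSucc 1, Int.ofNat 0, Int.ofNat 0, Int.ofNat 0, Int.ofNat 0, Int.ofNat 0, Int.ofNat 0, Int.ofNat 2, Int.ofNat 0, Int.negSucc 1, Int.ofNat 0, Int.negSucc 1],
  [Int.negSucc 0, Int.negSucc 0, Int.negSucc 0, Int.negSucc 0, Int.ofNat 1, Int.ofNat 1, Int.ofNat 1, Int.negSucc 0, Int.ofNat 1, Int.negSucc 0, Int.ofNat 1, Int.ofNat 1, Int.negSucc 0, Int.negSucc 0, Int.ofNat 1, Int.negSucc 0, Int.negSucc 0, Int.ofNat 1, Int.ofNat 1, Int.ofNat 1, Int.negSucc 0, Int.negSucc 2, Int.negSucc 0, Int.ofNat 1],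
  [Int.negSucc 0, Int.ofNat 1, Int.ofNat 1, Int.ofNat 1, Int.negSucc 0, Int.ofNat 1, Int.negSucc 0, Int.ofNat 1, Int.ofNat 1, Int.negSucc 0, Int.negSucc 0, Int.ofNat 1, Int.negSucc 0, Int.negSucc 0, Int.ofNat 1, Int.ofNat 1, Int.ofNat 1, Int.negSucc 0, Int.negSucc 2, Int.negSucc 0, Int.negSucc 0, Int.negSucc 0, Int.negSucc 0, Int.ofNat 1],
  [Int.ofNat 2, Int.ofNat 0, Int.ofNat 0, Int.ofNat 0, Int.ofNat 0, Int.ofNat 0, Int.ofNat 0, Int.ofNat 2, Int.ofNat 2, Int.ofNat 0, Int.ofNat 0, Int.ofNat 2, Int.ofNat 0, Int.ofNat 0, Int.ofNat 0, Int.ofNat 2, Int.ofNat 2, Int.negSucc 1, Int.negSucc 1, Int.ofNat 0, Int.ofNat 0, Int.ofNat 0, Int.ofNat 0, Int.ofNat 0],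
  [Int.ofNat 2, Int.ofNat 0, Int.ofNat 0, Int.ofNat 0, Int.negSucc 1, Int.ofNat 2, Int.ofNat 0, Int.ofNat 0, Int.ofNat 0, Int.ofNat 0, Int.ofNat 0, Int.negSucc 1, Int.ofNat 0, Int.ofNat 2, Int.ofNat 0, Int.ofNat 2, Int.ofNat 2, Int.ofNat 0, Int.ofNat 0, Int.ofNat 2, Int.ofNat 0, Int.ofNat 0, Int.ofNat 0, Int.ofNat 0],
  [Int.negSucc 0, Int.ofNat 1, Int.ofNat 1, Int.negSucc 0, Int.negSucc 2, Int.ofNat 1, Int.negSucc 0, Int.negSucc 0, Int.ofNat 1, Int.negSucc 0, Int.negSucc 0, Int.negSucc 0, Int.ofNat 1, Int.ofNat 1, Int.negSucc 0, Int.ofNat 1, Int.ofNat 1, Int.negSucc 0, Int.ofNat 1, Int.ofNat 1, Int.negSucc 0, Int.negSucc 0, Int.negSucc 0, Int.ofNat 1],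
  [Int.negSucc 0, Int.ofNat 1, Int.negSucc 0, Int.negSucc 0, Int.negSucc 2, Int.negSucc 0, Int.ofNat 1, Int.negSucc 0, Int.ofNat 1, Int.ofNat 1, Int.ofNat 1, Int.negSucc 0, Int.ofNat 1, Int.ofNat 1, Int.negSucc 0, Int.negSucc 0, Int.ofNat 1, Int.negSucc 0, Int.negSucc 0, Int.ofNat 1, Int.negSucc 0, Int.negSucc 0, Int.ofNat 1, Int.ofNat 1],
  [Int.negSucc 0, Int.ofNat 1, Int.ofNat 1, Int.negSucc 0, Int.negSucc 0, Int.negSucc 0, Int.negSucc 0, Int.ofNat 1, Int.ofNat 1, Int.negSucc 0, Int.negSucc 0, Int.negSucc 0, Int.ofNat 1, Int.ofNat 1, Int.negSucc 0, Int.negSucc 0, Int.negSucc 0, Int.ofNat 1, Int.ofNat 1, Int.ofNat 1, Int.ofNat 1, Int.negSucc 2, Int.negSucc 0, Int.ofNat 1],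
  [Int.negSucc 0, Int.ofNat 1, Int.negSucc 0, Int.negSucc 0, Int.negSucc 0, Int.ofNat 1, Int.ofNat 1, Int.ofNat 1, Int.ofNat 1, Int.ofNat 1, Int.ofNat 1, Int.negSucc 0, Int.ofNat 1, Int.ofNat 1, Int.negSucc 0, Int.ofNat 1, Int.negSucc 0, Int.ofNat 1, Int.negSucc 0, Int.ofNat 1, Int.ofNat 1, Int.negSucc 2, Int.ofNat 1, Int.ofNat 1],
  [Int.ofNat 1, Int.negSucc 0, Int.ofNat 1, Int.negSucc 0, Int.negSucc 0, Int.ofNat 1, Int.ofNat 1, Int.ofNat 1, Int.ofNat 1, Int.negSucc 0, Int.negSucc 0, Int.negSucc 0, Int.ofNat 1, Int.ofNat 1, Int.negSucc 0, Int.negSucc 0, Int.negSucc 0, Int.ofNat 1, Int.negSucc 0, Int.ofNat 1, Int.negSucc 0, Int.negSucc 2, Int.ofNat 1, Int.negSucc 0],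
  [Int.ofNat 1, Int.negSucc 0, Int.ofNat 1, Int.negSucc 0, Int.ofNat 1, Int.negSucc 2, Int.negSucc 0, Int.ofNat 1, Int.negSucc 0, Int.ofNat 1, Int.ofNat 1, Int.ofNat 1, Int.ofNat 1, Int.negSucc 0, Int.ofNat 1, Int.negSucc 0, Int.ofNat 1, Int.negSucc 0, Int.negSucc 0, Int.ofNat 1, Int.negSucc 0, Int.negSucc 0, Int.negSucc 0, Int.negSucc 0],
  [Int.negSucc 0, Int.ofNat 1, Int.negSucc 0, Int.ofNat 1, Int.ofNat 1, Int.negSucc 0, Int.negSucc 0, Int.ofNat 1, Int.negSucc 0, Int.ofNat 1, Int.ofNat 1, Int.ofNat 1, Int.ofNat 1, Int.negSucc 0, Int.ofNat 3, Int.negSucc 0, Int.ofNat 1, Int.ofNat 1, Int.negSucc 0, Int.ofNat 1, Int.negSucc 0, Int.negSucc 0, Int.negSucc 0, Int.ofNat 1],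
  [Int.negSucc 0, Int.negSucc 0, Int.negSucc 0, Int.negSucc 0, Int.ofNat 1, Int.negSucc 0, Int.ofNat 1, Int.ofNat 1, Int.negSucc 0, Int.negSucc 0, Int.ofNat 1, Int.negSucc 0, Int.ofNat 1, Int.ofNat 1, Int.ofNat 1, Int.ofNat 1, Int.negSucc 0, Int.ofNat 3, Int.negSucc 0, Int.ofNat 1, Int.ofNat 1, Int.negSucc 0, Int.ofNat 1, Int.ofNat 1],
  [Int.ofNat 0, Int.ofNat 0, Int.ofNat 0, Int.negSucc 1, Int.ofNat 0, Int.negSucc 1, Int.ofNat 0, Int.ofNat 0, Int.ofNat 0, Int.negSucc 1, Int.ofNat 0, Int.ofNat 0, Int.ofNat 2, Int.ofNat 0, Int.ofNat 0, Int.ofNat 0, Int.negSucc 1, Int.ofNat 2, Int.ofNat 0, Int.ofNat 0, Int.ofNat 0, Int.negSucc 1, Int.ofNat 0, Int.negSucc 1],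
  [Int.ofNat 0, Int.ofNat 0, Int.negSucc 1, Int.ofNat 0, Int.negSucc 1, Int.ofNat 0, Int.ofNat 0, Int.ofNat 0, Int.negSucc 1, Int.ofNat 0, Int.ofNat 0, Int.ofNat 2, Int.ofNat 0, Int.ofNat 0, Int.ofNat 0, Int.negSucc 1, Int.ofNat 2, Int.ofNat 0, Int.ofNat 0, Int.ofNat 0, Int.negSucc 1, Int.ofNat 0, Int.ofNat 0, Int.negSucc 1],
  [Int.ofNat 0, Int.ofNat 0, Int.ofNat 2, Int.ofNat 0, Int.negSucc 1, Int.ofNat 0, Int.ofNat 0, Int.ofNat 0, Int.negSucc 1, Int.ofNat 0, Int.ofNat 0, Int.negSucc 1, Int.ofNat 0, Int.ofNat 0, Int.ofNat 0, Int.negSucc 1, Int.ofNat 2, Int.ofNat 0, Int.ofNat 0, Int.ofNat 0, Int.negSucc 1, Int.ofNat 0, Int.ofNat 0, Int.negSucc 1],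
  [Int.ofNat 0, Int.ofNat 2, Int.ofNat 0, Int.ofNat 0, Int.ofNat 0, Int.ofNat 0, Int.negSucc 1, Int.negSucc 1, Int.ofNat 0, Int.ofNat 2, Int.ofNat 0, Int.ofNat 0, Int.ofNat 0, Int.negSucc 1, Int.ofNat 0, Int.negSucc 1, Int.ofNat 0, Int.ofNat 0, Int.ofNat 0, Int.ofNat 0, Int.ofNat 0, Int.ofNat 0, Int.negSucc 1, Int.negSucc 1],
  [Int.ofNat 0, Int.ofNat 2, Int.ofNat 0, Int.ofNat 0, Int.ofNat 0, Int.ofNat 0, Int.negSucc 1, Int.ofNat 2, Int.ofNat 0, Int.negSucc 1, Int.ofNat 0, Int.ofNat 0, Int.ofNat 0, Int.negSucc 1, Int.ofNat 0, Int.negSucc 1, Int.ofNat 0, Int.ofNat 0, Int.ofNat 0, Int.ofNat 0, Int.ofNat 0, Int.ofNat 0, Int.negSucc 1, Int.negSucc 1],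
  [Int.negSucc 1, Int.ofNat 0, Int.ofNat 2, Int.ofNat 0, Int.ofNat 0, Int.ofNat 0, Int.ofNat 0, Int.negSucc 1, Int.ofNat 2, Int.ofNat 0, Int.negSucc 1, Int.ofNat 0, Int.ofNat 0, Int.ofNat 0, Int.negSucc 1, Int.ofNat 0, Int.negSucc 1, Int.ofNat 0, Int.ofNat 0, Int.ofNat 0, Int.ofNat 0, Int.ofNat 0, Int.ofNat 0, Int.negSucc 1],
  [Int.ofNat 1, Int.negSucc 0, Int.negSucc 2, Int.ofNat 1, Int.ofNat 1, Int.ofNat 1, Int.ofNat 1, Int.negSucc 0, Int.ofNat 1, Int.ofNat 1, Int.negSucc 0, Int.negSucc 0, Int.negSucc 0, Int.ofNat 1, Int.negSucc 0, Int.ofNat 1, Int.negSucc 0, Int.ofNat 1, Int.negSucc 0, Int.ofNat 1, Int.ofNat 1, Int.ofNat 1, Int.ofNat 1, Int.ofNat 1],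
  [Int.ofNat 1, Int.ofNat 1, Int.ofNat 1, Int.ofNat 1, Int.negSucc 0, Int.ofNat 1, Int.ofNat 1, Int.negSucc 0, Int.negSucc 0, Int.negSucc 0, Int.ofNat 1, Int.negSucc 0, Int.ofNat 1, Int.negSucc 0, Int.ofNat 1, Int.negSucc 0, Int.ofNat 1, Int.ofNat 1, Int.ofNat 1, Int.ofNat 1, Int.ofNat 1, Int.negSucc 0, Int.negSucc 2, Int.ofNat 1],
  [Int.ofNat 1, Int.ofNat 1, Int.ofNat 1, Int.negSucc 0, Int.ofNat 1, Int.negSucc 0, Int.ofNat 1, Int.negSucc 0, Int.negSucc 0, Int.negSucc 0, Int.ofNat 1, Int.negSucc 0, Int.ofNat 1, Int.ofNat 1, Int.negSucc 0, Int.negSucc 0, Int.ofNat 3, Int.negSucc 0, Int.ofNat 1, Int.ofNat 1, Int.ofNat 1, Int.negSucc 0, Int.negSucc 0, Int.ofNat 1],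
  [Int.ofNat 1, Int.ofNat 1, Int.ofNat 1, Int.negSucc 0, Int.ofNat 1, Int.negSucc 0, Int.ofNat 1, Int.ofNat 1, Int.ofNat 1, Int.ofNat 1, Int.ofNat 1, Int.negSucc 0, Int.negSucc 0, Int.ofNat 3, Int.negSucc 0, Int.negSucc 0, Int.negSucc 0, Int.negSucc 0, Int.ofNat 1, Int.negSucc 0, Int.negSucc 0, Int.negSucc 0, Int.ofNat 1, Int.ofNat 1],
  [Int.ofNat 1, Int.ofNat 1, Int.ofNat 1, Int.ofNat 1, Int.negSucc 0, Int.ofNat 1, Int.ofNat 1, Int.ofNat 1, Int.ofNat 1, Int.ofNat 1, Int.ofNat 1, Int.negSucc 0, Int.negSucc 0, Int.ofNat 1, Int.ofNat 1, Int.negSucc 0, Int.negSucc 2, Int.ofNat 1, Int.ofNat 1, Int.negSucc 0, Int.negSucc 0, Int.negSucc 0, Int.negSucc 0, Int.ofNat 1],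
  [Int.ofNat 1, Int.ofNat 1, Int.negSucc 0, Int.ofNat 1, Int.negSucc 0, Int.negSucc 0, Int.negSucc 0, Int.ofNat 1, Int.ofNat 1, Int.negSucc 0, Int.negSucc 0, Int.negSucc 0, Int.negSucc 0, Int.ofNat 1, Int.ofNat 1, Int.ofNat 1, Int.negSucc 2, Int.ofNat 1, Int.negSucc 0, Int.negSucc 0, Int.negSucc 0, Int.negSucc 0, Int.ofNat 1, Int.ofNat 1],
  [Int.negSucc 0, Int.negSucc 2, Int.negSucc 0, Int.ofNat 1, Int.ofNat 1, Int.negSucc 0, Int.negSucc 0, Int.ofNat 1, Int.negSucc 0, Int.negSucc 0, Int.ofNat 1, Int.ofNat 1, Int.ofNat 1, Int.negSucc 0, Int.ofNat 1, Int.negSucc 0, Int.negSucc 0, Int.negSucc 0, Int.negSucc 0, Int.negSucc 0, Int.ofNat 1, Int.ofNat 1, Int.ofNat 1, Int.ofNat 1],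
  [Int.ofNat 1, Int.ofNat 3, Int.ofNat 1, Int.negSucc 0, Int.negSucc 0, Int.negSucc 0, Int.ofNat 1, Int.ofNat 1, Int.ofNat 1, Int.ofNat 1, Int.ofNat 1, Int.ofNat 1, Int.negSucc 0, Int.ofNat 1, Int.ofNat 1, Int.negSucc 0, Int.ofNat 1, Int.negSucc 0, Int.ofNat 1, Int.negSucc 0, Int.ofNat 1, Int.ofNat 1, Int.ofNat 1, Int.ofNat 1],
  [Int.ofNat 1, Int.ofNat 1, Int.ofNat 1, Int.negSucc 0, Int.negSucc 0, Int.ofNat 1, Int.negSucc 0, Int.ofNat 1, Int.ofNat 1, Int.negSucc 0, Int.ofNat 1, Int.ofNat 1, Int.ofNat 1, Int.ofNat 1, Int.ofNat 1, Int.negSucc 0, Int.ofNat 1, Int.negSucc 0, Int.ofNat 1, Int.ofNat 1, Int.ofNat 1, Int.negSucc 0, Int.ofNat 3, Int.ofNat 1],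
  [Int.negSucc 0, Int.ofNat 1, Int.negSucc 0, Int.negSucc 0, Int.negSucc 0, Int.ofNat 1, Int.negSucc 0, Int.negSucc 0, Int.ofNat 1, Int.ofNat 1, Int.negSucc 0, Int.negSucc 0, Int.ofNat 1, Int.ofNat 1, Int.ofNat 1, Int.negSucc 0, Int.ofNat 1, Int.negSucc 0, Int.negSucc 0, Int.ofNat 1, Int.ofNat 1, Int.ofNat 1, Int.ofNat 3, Int.ofNat 1],
  [Int.ofNat 3, Int.negSucc 0, Int.ofNat 1, Int.negSucc 0, Int.negSucc 0, Int.negSucc 0, Int.ofNat 1, Int.negSucc 0, Int.negSucc 0, Int.ofNat 1, Int.ofNat 1, Int.negSucc 0, Int.negSucc 0, Int.ofNat 1, Int.ofNat 1, Int.ofNat 1, Int.negSucc 0, Int.ofNat 1, Int.negSucc 0, Int.negSucc 0, Int.ofNat 1, Int.ofNat 1, Int.ofNat 1, Int.ofNat 1],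
  [Int.negSucc 0, Int.ofNat 3, Int.ofNat 1, Int.negSucc 0, Int.negSucc 0, Int.negSucc 0, Int.ofNat 1, Int.negSucc 0, Int.ofNat 1, Int.negSucc 0, Int.negSucc 0, Int.ofNat 1, Int.ofNat 1, Int.ofNat 1, Int.ofNat 1, Int.negSucc 0, Int.negSucc 0, Int.ofNat 1, Int.ofNat 1, Int.negSucc 0, Int.negSucc 0, Int.ofNat 1, Int.ofNat 1, Int.ofNat 1],
  [Int.negSucc 0, Int.negSucc 0, Int.negSucc 0, Int.ofNat 1, Int.negSucc 0, Int.ofNat 1, Int.negSucc 0, Int.negSucc 0, Int.ofNat 1, Int.ofNat 1, Int.ofNat 1, Int.ofNat 1, Int.negSucc 0, Int.negSucc 0, Int.ofNat 1, Int.ofNat 1, Int.negSucc 0, Int.negSucc 0, Int.ofNat 1, Int.ofNat 1, Int.negSucc 0, Int.ofNat 3, Int.ofNat 1, Int.ofNat 1],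
  [Int.ofNat 0, Int.ofNat 0, Int.ofNat 0, Int.ofNat 0, Int.ofNat 0, Int.ofNat 0, Int.negSucc 1, Int.negSucc 1, Int.ofNat 0, Int.ofNat 0, Int.ofNat 0, Int.ofNat 0, Int.negSucc 1, Int.ofNat 0, Int.ofNat 0, Int.ofNat 0, Int.ofNat 0, Int.negSucc 1, Int.ofNat 0, Int.ofNat 0, Int.negSucc 1, Int.ofNat 2, Int.ofNat 2, Int.negSucc 1],
  [Int.ofNat 0, Int.negSucc 1, Int.ofNat 0, Int.ofNat 0, Int.ofNat 0, Int.negSucc 1, Int.ofNat 0, Int.ofNat 0, Int.negSucc 1, Int.ofNat 0, Int.negSucc 1, Int.negSucc 1, Int.ofNat 0, Int.ofNat 0, Int.ofNat 2, Int.ofNat 0, Int.ofNat 0, Int.ofNat 0, Int.ofNat 0, Int.ofNat 0, Int.ofNat 2, Int.ofNat 0, Int.ofNat 0, Int.negSucc 1],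
  [Int.negSucc 1, Int.ofNat 0, Int.negSucc 1, Int.ofNat 0, Int.ofNat 0, Int.negSucc 1, Int.ofNat 0, Int.ofNat 0, Int.ofNat 0, Int.ofNat 0, Int.negSucc 1, Int.ofNat 0, Int.ofNat 2, Int.ofNat 0, Int.ofNat 2, Int.ofNat 0, Int.ofNat 0, Int.ofNat 0, Int.ofNat 2, Int.ofNat 0, Int.ofNat 2, Int.ofNat 0, Int.ofNat 0, Int.ofNat 0],
  [Int.negSucc 1, Int.ofNat 0, Int.ofNat 2, Int.ofNat 0, Int.ofNat 0, Int.ofNat 2, Int.ofNat 0, Int.ofNat 0, Int.ofNat 0, Int.ofNat 0, Int.ofNat 2, Int.ofNat 0, Int.ofNat 2, Int.ofNat 0, Int.ofNat 2, Int.ofNat 0, Int.ofNat 0, Int.ofNat 0, Int.negSucc 1, Int.ofNat 0, Int.ofNat 2, Int.ofNat 0, Int.ofNat 0, Int.ofNat 0],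
  [Int.ofNat 2, Int.ofNat 0, Int.ofNat 0, Int.ofNat 0, Int.negSucc 1, Int.negSucc 1, Int.ofNat 0, Int.ofNat 0, Int.ofNat 0, Int.ofNat 0, Int.ofNat 0, Int.ofNat 2, Int.ofNat 0, Int.ofNat 2, Int.ofNat 0, Int.ofNat 2, Int.ofNat 2, Int.ofNat 0, Int.ofNat 0, Int.ofNat 2, Int.ofNat 0, Int.ofNat 0, Int.ofNat 0, Int.ofNat 0],
  [Int.ofNat 2, Int.ofNat 0, Int.ofNat 0, Int.ofNat 0, Int.negSucc 1, Int.ofNat 2, Int.ofNat 0, Int.ofNat 0, Int.ofNat 0, Int.ofNat 0, Int.ofNat 0, Int.ofNat 2, Int.ofNat 0, Int.ofNat 2, Int.ofNat 0, Int.negSucc 1, Int.ofNat 2, Int.ofNat 0, Int.ofNat 0, Int.ofNat 2, Int.ofNat 0, Int.ofNat 0, Int.ofNat 0, Int.ofNat 0],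
  [Int.negSucc 0, Int.ofNat 1, Int.ofNat 1, Int.negSucc 0, Int.negSucc 2, Int.ofNat 1, Int.negSucc 0, Int.negSucc 0, Int.negSucc 0, Int.ofNat 1, Int.ofNat 1, Int.ofNat 1, Int.negSucc 0, Int.ofNat 1, Int.negSucc 0, Int.negSucc 0, Int.ofNat 1, Int.negSucc 0, Int.negSucc 0, Int.ofNat 1, Int.ofNat 1, Int.negSucc 0, Int.negSucc 0, Int.ofNat 1],
  [Int.negSucc 0, Int.negSucc 0, Int.negSucc 0, Int.negSucc 0, Int.ofNat 1, Int.negSucc 0, Int.ofNat 1, Int.ofNat 1, Int.ofNat 1, Int.negSucc 0, Int.negSucc 0, Int.ofNat 1, Int.negSucc 0, Int.ofNat 1, Int.negSucc 0, Int.negSucc 0, Int.ofNat 1, Int.ofNat 1, Int.negSucc 2, Int.negSucc 0, Int.ofNat 1, Int.ofNat 1, Int.negSucc 0, Int.ofNat 1],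
  [Int.ofNat 0, Int.ofNat 0, Int.ofNat 0, Int.ofNat 0, Int.ofNat 0, Int.ofNat 0, Int.ofNat 0, Int.ofNat 0, Int.ofNat 2, Int.ofNat 0, Int.ofNat 0, Int.ofNat 2, Int.ofNat 0, Int.ofNat 0, Int.ofNat 0, Int.ofNat 0, Int.ofNat 0, Int.ofNat 2, Int.negSucc 1, Int.negSucc 1, Int.ofNat 2, Int.ofNat 0, Int.negSucc 1, Int.negSucc 1],
  [Int.ofNat 2, Int.ofNat 0, Int.negSucc 1, Int.ofNat 0, Int.ofNat 0, Int.ofNat 0, Int.ofNat 0, Int.ofNat 0, Int.ofNat 0, Int.ofNat 0, Int.ofNat 0, Int.ofNat 2, Int.ofNat 0, Int.ofNat 0, Int.ofNat 2, Int.ofNat 0, Int.ofNat 0, Int.ofNat 0, Int.ofNat 0, Int.ofNat 0, Int.ofNat 2, Int.negSucc 1, Int.negSucc 1, Int.negSucc 1],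
  [Int.negSucc 2, Int.negSucc 0, Int.ofNat 1, Int.negSucc 0, Int.ofNat 1, Int.negSucc 0, Int.ofNat 1, Int.ofNat 1, Int.negSucc 0, Int.negSucc 0, Int.negSucc 0, Int.ofNat 1, Int.negSucc 0, Int.ofNat 1, Int.ofNat 1, Int.negSucc 0, Int.ofNat 1, Int.negSucc 0, Int.negSucc 0, Int.ofNat 1, Int.ofNat 1, Int.negSucc 0, Int.negSucc 0, Int.ofNat 1],
  [Int.negSucc 0, Int.ofNat 1, Int.negSucc 0, Int.ofNat 1, Int.negSucc 0, Int.ofNat 1, Int.ofNat 1, Int.negSucc 0, Int.negSucc 0, Int.negSucc 0, Int.ofNat 1, Int.negSucc 0, Int.ofNat 1, Int.ofNat 1, Int.negSucc 0, Int.ofNat 1, Int.negSucc 0, Int.negSucc 0, Int.ofNat 1, Int.ofNat 1, Int.negSucc 0, Int.negSucc 0, Int.negSucc 2, Int.ofNat 1],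
  [Int.ofNat 1, Int.ofNat 1, Int.ofNat 1, Int.ofNat 1, Int.negSucc 0, Int.ofNat 1, Int.ofNat 1, Int.ofNat 1, Int.negSucc 0, Int.ofNat 1, Int.negSucc 0, Int.ofNat 1, Int.ofNat 1, Int.ofNat 1, Int.negSucc 0, Int.ofNat 1, Int.negSucc 0, Int.negSucc 0, Int.negSucc 0, Int.ofNat 1, Int.negSucc 0, Int.ofNat 1, Int.negSucc 2, Int.ofNat 1]]

set_option maxRecDepth 100000 in
theorem c1et9_chk : pmChk (List.replicate 14 [9, 0, 25, 26]).flatten nxL c1et9M 0 0 = true := by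
  decide +kernel

theorem c1et9_ne : wE letE2 (List.replicate 14 [9, 0, 25, 26]).flatten ≠ 1 ∧ wE letE2 (List.replicate 14 [9, 0, 25, 26]).flatten ≠ negElt :=
  ne_pm_of_chk nxL_mem c1et9_chk

set_option maxRecDepth 100000 in
def c1et10M : List (List ℤ) :=
  [[Int.negSucc 3, Int.ofNat 0, Int.ofNat 0, Int.ofNat 0, Int.ofNat 0, Int.ofNat 0, Int.ofNat 0, Int.ofNat 0, Int.ofNat 0, Int.ofNat 0, Int.ofNat 0, Int.ofNat 0, Int.ofNat 0, Int.ofNat 0, Int.ofNat 0, Int.ofNat 0, Int.ofNat 0, Int.ofNat 0, Int.ofNat 0, Int.ofNat 0, Int.ofNat 0, Int.ofNat 0, Int.ofNat 0, Int.ofNat 4],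
  [Int.ofNat 4, Int.ofNat 0, Int.ofNat 0, Int.ofNat 0, Int.ofNat 0, Int.ofNat 0, Int.ofNat 0, Int.ofNat 0, Int.ofNat 0, Int.ofNat 0, Int.ofNat 0, Int.ofNat 0, Int.ofNat 0, Int.ofNat 0, Int.ofNat 0, Int.ofNat 0, Int.ofNat 0, Int.ofNat 0, Int.ofNat 0, Int.ofNat 0, Int.ofNat 0, Int.ofNat 0, Int.ofNat 0, Int.ofNat 4],
  [Int.ofNat 0, Int.ofNat 4, Int.ofNat 0, Int.ofNat 0, Int.ofNat 0, Int.ofNat 0, Int.ofNat 0, Int.ofNat 0, Int.ofNat 0, Int.ofNat 0, Int.ofNat 0, Int.ofNat 0, Int.ofNat 0, Int.ofNat 0, Int.ofNat 0, Int.ofNat 0, Int.ofNat 0, Int.ofNat 0, Int.ofNat 0, Int.ofNat 0, Int.ofNat 0, Int.ofNat 0, Int.ofNat 0, Int.ofNat 4],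
  [Int.ofNat 4, Int.ofNat 0, Int.ofNat 4, Int.ofNat 0, Int.ofNat 0, Int.ofNat 0, Int.ofNat 0, Int.ofNat 0, Int.ofNat 0, Int.ofNat 0, Int.ofNat 0, Int.ofNat 0, Int.ofNat 0, Int.ofNat 0, Int.ofNat 0, Int.ofNat 0, Int.ofNat 0, Int.ofNat 0, Int.ofNat 0, Int.ofNat 0, Int.ofNat 0, Int.ofNat 0, Int.ofNat 0, Int.ofNat 0],
  [Int.ofNat 0, Int.ofNat 0, Int.ofNat 0, Int.ofNat 0, Int.ofNat 0, Int.ofNat 0, Int.ofNat 0, Int.ofNat 0, Int.ofNat 0, Int.ofNat 0, Int.ofNat 0, Int.ofNat 0, Int.ofNat 0, Int.ofNat 0, Int.ofNat 0, Int.ofNat 0, Int.ofNat 0, Int.ofNat 0, Int.ofNat 0, Int.ofNat 0, Int.ofNat 4, Int.ofNat 0, Int.ofNat 4, Int.ofNat 0],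
  [Int.ofNat 0, Int.ofNat 0, Int.ofNat 0, Int.ofNat 0, Int.negSucc 1, Int.ofNat 0, Int.ofNat 0, Int.ofNat 0, Int.ofNat 0, Int.negSucc 1, Int.negSucc 1, Int.ofNat 0, Int.ofNat 0, Int.negSucc 1, Int.ofNat 0, Int.negSucc 1, Int.negSucc 1, Int.ofNat 0, Int.ofNat 0, Int.ofNat 0, Int.ofNat 2, Int.ofNat 0, Int.ofNat 2, Int.ofNat 0],
  [Int.ofNat 0, Int.ofNat 0, Int.negSucc 1, Int.ofNat 0, Int.ofNat 0, Int.ofNat 0, Int.ofNat 0, Int.negSucc 1, Int.ofNat 0, Int.negSucc 1, Int.ofNat 2, Int.ofNat 0, Int.negSucc 1, Int.negSucc 1, Int.ofNat 2, Int.negSucc 1, Int.ofNat 0, Int.ofNat 0, Int.ofNat 0, Int.ofNat 0, Int.ofNat 0, Int.ofNat 0, Int.ofNat 0, Int.ofNat 0],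
  [Int.negSucc 0, Int.negSucc 0, Int.ofNat 1, Int.negSucc 0, Int.ofNat 1, Int.negSucc 0, Int.ofNat 1, Int.negSucc 0, Int.ofNat 1, Int.negSucc 0, Int.ofNat 3, Int.ofNat 1, Int.negSucc 0, Int.negSucc 0, Int.ofNat 1, Int.negSucc 0, Int.ofNat 1, Int.negSucc 0, Int.ofNat 1, Int.ofNat 1, Int.ofNat 1, Int.ofNat 1, Int.ofNat 1, Int.negSucc 0],
  [Int.negSucc 0, Int.negSucc 0, Int.negSucc 0, Int.negSucc 0, Int.ofNat 1, Int.ofNat 1, Int.negSucc 0, Int.negSucc 0, Int.ofNat 1, Int.ofNat 1, Int.negSucc 2, Int.ofNat 1, Int.negSucc 0, Int.negSucc 0, Int.ofNat 1, Int.ofNat 1, Int.ofNat 1, Int.negSucc 0, Int.negSucc 0, Int.ofNat 1, Int.ofNat 1, Int.ofNat 1, Int.negSucc 0, Int.negSucc 0],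
  [Int.negSucc 2, Int.ofNat 1, Int.ofNat 1, Int.ofNat 1, Int.ofNat 1, Int.negSucc 0, Int.ofNat 1, Int.negSucc 0, Int.ofNat 1, Int.ofNat 1, Int.negSucc 0, Int.negSucc 0, Int.ofNat 1, Int.ofNat 1, Int.negSucc 0, Int.negSucc 0, Int.ofNat 1, Int.negSucc 0, Int.ofNat 1, Int.negSucc 0, Int.negSucc 0, Int.negSucc 0, Int.negSucc 0, Int.negSucc 0],
  [Int.ofNat 3, Int.negSucc 0, Int.negSucc 0, Int.negSucc 0, Int.negSucc 0, Int.negSucc 0, Int.negSucc 0, Int.negSucc 0, Int.negSucc 0, Int.negSucc 0, Int.negSucc 0, Int.negSucc 0, Int.negSucc 0, Int.negSucc 0, Int.negSucc 0, Int.negSucc 0, Int.negSucc 0, Int.negSucc 0, Int.negSucc 0, Int.negSucc 0, Int.negSucc 0, Int.negSucc 0, Int.negSucc 0, Int.negSucc 0],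
  [Int.negSucc 0, Int.negSucc 0, Int.negSucc 0, Int.negSucc 0, Int.negSucc 0, Int.negSucc 0, Int.negSucc 0, Int.negSucc 0, Int.negSucc 0, Int.negSucc 0, Int.negSucc 0, Int.negSucc 0, Int.negSucc 0, Int.negSucc 0, Int.negSucc 0, Int.negSucc 0, Int.negSucc 0, Int.negSucc 0, Int.negSucc 0, Int.negSucc 0, Int.negSucc 0, Int.negSucc 0, Int.negSucc 0, Int.ofNat 3],
  [Int.ofNat 1, Int.negSucc 0, Int.ofNat 1, Int.negSucc 0, Int.negSucc 0, Int.negSucc 0, Int.negSucc 0, Int.ofNat 1, Int.negSucc 0, Int.ofNat 1, Int.ofNat 1, Int.ofNat 1, Int.negSucc 0, Int.negSucc 0, Int.negSucc 0, Int.negSucc 0, Int.negSucc 0, Int.negSucc 0, Int.ofNat 1, Int.negSucc 0, Int.negSucc 0, Int.ofNat 1, Int.negSucc 0, Int.ofNat 3],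
  [Int.negSucc 0, Int.ofNat 1, Int.negSucc 0, Int.ofNat 1, Int.negSucc 0, Int.negSucc 0, Int.negSucc 0, Int.negSucc 0, Int.ofNat 1, Int.negSucc 0, Int.ofNat 1, Int.ofNat 1, Int.ofNat 1, Int.negSucc 0, Int.negSucc 0, Int.negSucc 0, Int.negSucc 0, Int.negSucc 0, Int.negSucc 0, Int.ofNat 1, Int.negSucc 0, Int.negSucc 0, Int.ofNat 1, Int.ofNat 3],
  [Int.ofNat 2, Int.ofNat 0, Int.ofNat 2, Int.ofNat 2, Int.ofNat 0, Int.ofNat 0, Int.ofNat 0, Int.ofNat 0, Int.ofNat 0, Int.ofNat 0, Int.ofNat 2, Int.ofNat 0, Int.ofNat 0, Int.ofNat 0, Int.ofNat 0, Int.ofNat 0, Int.ofNat 0, Int.ofNat 0, Int.negSucc 1, Int.ofNat 2, Int.ofNat 0, Int.ofNat 0, Int.ofNat 2, Int.negSucc 1],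
  [Int.ofNat 2, Int.ofNat 0, Int.ofNat 0, Int.ofNat 0, Int.ofNat 0, Int.ofNat 0, Int.ofNat 0, Int.ofNat 2, Int.ofNat 0, Int.ofNat 0, Int.ofNat 0, Int.ofNat 0, Int.ofNat 0, Int.ofNat 0, Int.ofNat 0, Int.negSucc 1, Int.ofNat 2, Int.ofNat 0, Int.ofNat 0, Int.ofNat 2, Int.ofNat 2, Int.ofNat 0, Int.ofNat 2, Int.negSucc 1],
  [Int.negSucc 1, Int.ofNat 0, Int.ofNat 0, Int.ofNat 0, Int.negSucc 1, Int.ofNat 0, Int.negSucc 1, Int.ofNat 0, Int.ofNat 0, Int.ofNat 0, Int.ofNat 0, Int.ofNat 0, Int.ofNat 0, Int.negSucc 1, Int.ofNat 0, Int.negSucc 1, Int.ofNat 0, Int.ofNat 0, Int.ofNat 0, Int.ofNat 0, Int.ofNat 2, Int.negSucc 1, Int.ofNat 0, Int.ofNat 2],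
  [Int.negSucc 1, Int.negSucc 1, Int.negSucc 1, Int.ofNat 0, Int.ofNat 0, Int.ofNat 0, Int.ofNat 0, Int.ofNat 0, Int.ofNat 0, Int.negSucc 1, Int.ofNat 2, Int.ofNat 0, Int.ofNat 0, Int.ofNat 0, Int.ofNat 0, Int.negSucc 1, Int.ofNat 0, Int.ofNat 0, Int.ofNat 0, Int.ofNat 0, Int.negSucc 1, Int.ofNat 0, Int.ofNat 0, Int.ofNat 2],
  [Int.ofNat 0, Int.ofNat 0, Int.ofNat 0, Int.ofNat 0, Int.ofNat 0, Int.ofNat 0, Int.ofNat 0, Int.ofNat 0, Int.ofNat 0, Int.ofNat 0, Int.ofNat 4, Int.ofNat 0, Int.ofNat 0, Int.ofNat 0, Int.ofNat 0, Int.ofNat 0, Int.ofNat 0, Int.ofNat 0, Int.ofNat 0, Int.ofNat 0, Int.ofNat 0, Int.ofNat 0, Int.ofNat 0, Int.negSucc 3],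
  [Int.ofNat 0, Int.ofNat 0, Int.ofNat 0, Int.ofNat 0, Int.ofNat 0, Int.ofNat 0, Int.ofNat 0, Int.ofNat 0, Int.ofNat 0, Int.ofNat 0, Int.negSucc 3, Int.ofNat 0, Int.ofNat 0, Int.ofNat 0, Int.ofNat 0, Int.ofNat 0, Int.ofNat 0, Int.ofNat 0, Int.ofNat 0, Int.ofNat 0, Int.ofNat 0, Int.ofNat 0, Int.ofNat 0, Int.negSucc 3],
  [Int.ofNat 0, Int.ofNat 0, Int.ofNat 0, Int.ofNat 0, Int.ofNat 0, Int.ofNat 0, Int.negSucc 3, Int.ofNat 0, Int.ofNat 0, Int.ofNat 0, Int.ofNat 0, Int.ofNat 0, Int.ofNat 0, Int.ofNat 0, Int.ofNat 0, Int.ofNat 0, Int.ofNat 0, Int.ofNat 0, Int.ofNat 0, Int.ofNat 0, Int.ofNat 0, Int.ofNat 0, Int.ofNat 0, Int.negSucc 3],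
  [Int.ofNat 0, Int.ofNat 0, Int.ofNat 0, Int.ofNat 0, Int.ofNat 0, Int.ofNat 0, Int.ofNat 4, Int.ofNat 0, Int.ofNat 0, Int.ofNat 0, Int.ofNat 0, Int.ofNat 0, Int.ofNat 0, Int.ofNat 0, Int.ofNat 0, Int.ofNat 0, Int.ofNat 0, Int.ofNat 0, Int.ofNat 0, Int.ofNat 0, Int.ofNat 0, Int.ofNat 0, Int.ofNat 0, Int.negSucc 3],
  [Int.negSucc 1, Int.negSucc 1, Int.negSucc 1, Int.ofNat 0, Int.ofNat 0, Int.ofNat 0, Int.ofNat 2, Int.negSucc 1, Int.ofNat 0, Int.ofNat 0, Int.ofNat 0, Int.ofNat 0, Int.ofNat 0, Int.ofNat 0, Int.ofNat 0, Int.ofNat 0, Int.ofNat 0, Int.ofNat 0, Int.ofNat 0, Int.negSucc 1, Int.ofNat 0, Int.negSucc 1, Int.ofNat 0, Int.ofNat 2],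
  [Int.negSucc 1, Int.ofNat 0, Int.ofNat 2, Int.ofNat 0, Int.negSucc 1, Int.negSucc 1, Int.negSucc 1, Int.ofNat 0, Int.ofNat 0, Int.ofNat 0, Int.negSucc 1, Int.negSucc 1, Int.ofNat 0, Int.ofNat 0, Int.ofNat 0, Int.ofNat 0, Int.ofNat 0, Int.ofNat 0, Int.ofNat 0, Int.ofNat 0, Int.ofNat 0, Int.ofNat 0, Int.ofNat 0, Int.ofNat 2],
  [Int.ofNat 3, Int.ofNat 1, Int.negSucc 0, Int.ofNat 1, Int.negSucc 0, Int.negSucc 0, Int.negSucc 0, Int.ofNat 1, Int.ofNat 1, Int.ofNat 1, Int.negSucc 0, Int.negSucc 0, Int.ofNat 1, Int.ofNat 1, Int.ofNat 1, Int.ofNat 1, Int.ofNat 1, Int.ofNat 1, Int.ofNat 1, Int.ofNat 1, Int.ofNat 1, Int.ofNat 1, Int.ofNat 1, Int.negSucc 0],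
  [Int.ofNat 1, Int.ofNat 1, Int.ofNat 1, Int.ofNat 3, Int.ofNat 1, Int.negSucc 0, Int.ofNat 1, Int.negSucc 0, Int.negSucc 0, Int.negSucc 0, Int.ofNat 1, Int.ofNat 1, Int.ofNat 1, Int.negSucc 0, Int.negSucc 0, Int.ofNat 1, Int.ofNat 1, Int.ofNat 1, Int.ofNat 1, Int.ofNat 1, Int.ofNat 1, Int.ofNat 1, Int.ofNat 1, Int.negSucc 0],
  [Int.ofNat 0, Int.ofNat 0, Int.ofNat 0, Int.ofNat 2, Int.ofNat 0, Int.negSucc 1, Int.ofNat 0, Int.negSucc 1, Int.negSucc 1, Int.negSucc 1, Int.ofNat 0, Int.ofNat 0, Int.ofNat 0, Int.negSucc 1, Int.negSucc 1, Int.ofNat 0, Int.ofNat 0, Int.ofNat 0, Int.ofNat 0, Int.ofNat 0, Int.ofNat 0, Int.ofNat 0, Int.ofNat 0, Int.ofNat 2],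
  [Int.ofNat 0, Int.ofNat 0, Int.ofNat 2, Int.ofNat 0, Int.negSucc 1, Int.ofNat 0, Int.negSucc 1, Int.negSucc 1, Int.negSucc 1, Int.ofNat 0, Int.ofNat 0, Int.ofNat 0, Int.negSucc 1, Int.negSucc 1, Int.ofNat 0, Int.ofNat 0, Int.ofNat 0, Int.ofNat 0, Int.ofNat 0, Int.ofNat 0, Int.ofNat 0, Int.ofNat 0, Int.ofNat 0, Int.ofNat 2],
  [Int.ofNat 0, Int.ofNat 0, Int.negSucc 1, Int.ofNat 0, Int.negSucc 1, Int.ofNat 0, Int.negSucc 1, Int.ofNat 2, Int.negSucc 1, Int.ofNat 0, Int.ofNat 0, Int.ofNat 0, Int.negSucc 1, Int.negSucc 1, Int.ofNat 0, Int.ofNat 0, Int.ofNat 0, Int.ofNat 0, Int.ofNat 0, Int.ofNat 0, Int.ofNat 0, Int.ofNat 0, Int.ofNat 0, Int.ofNat 2],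
  [Int.ofNat 0, Int.negSucc 1, Int.ofNat 0, Int.ofNat 0, Int.ofNat 0, Int.ofNat 0, Int.negSucc 1, Int.ofNat 0, Int.ofNat 0, Int.ofNat 0, Int.ofNat 0, Int.ofNat 0, Int.negSucc 1, Int.negSucc 1, Int.ofNat 0, Int.ofNat 0, Int.negSucc 1, Int.ofNat 0, Int.negSucc 1, Int.ofNat 0, Int.ofNat 0, Int.ofNat 2, Int.ofNat 0, Int.ofNat 2],
  [Int.ofNat 0, Int.negSucc 1, Int.ofNat 0, Int.ofNat 0, Int.ofNat 0, Int.ofNat 0, Int.negSucc 1, Int.ofNat 0, Int.ofNat 0, Int.ofNat 0, Int.ofNat 0, Int.ofNat 0, Int.negSucc 1, Int.negSucc 1, Int.ofNat 0, Int.ofNat 0, Int.negSucc 1, Int.ofNat 0, Int.ofNat 2, Int.ofNat 0, Int.ofNat 0, Int.negSucc 1, Int.ofNat 0, Int.ofNat 2],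
  [Int.ofNat 0, Int.ofNat 0, Int.negSucc 1, Int.ofNat 0, Int.ofNat 0, Int.ofNat 0, Int.ofNat 0, Int.negSucc 1, Int.ofNat 0, Int.ofNat 0, Int.ofNat 0, Int.ofNat 0, Int.ofNat 0, Int.negSucc 1, Int.negSucc 1, Int.ofNat 0, Int.ofNat 0, Int.negSucc 1, Int.ofNat 0, Int.ofNat 2, Int.ofNat 0, Int.ofNat 0, Int.negSucc 1, Int.ofNat 2],
  [Int.ofNat 0, Int.ofNat 0, Int.ofNat 2, Int.ofNat 2, Int.ofNat 2, Int.ofNat 2, Int.ofNat 0, Int.negSucc 1, Int.ofNat 0, Int.ofNat 0, Int.ofNat 0, Int.ofNat 0, Int.ofNat 0, Int.ofNat 0, Int.ofNat 0, Int.ofNat 0, Int.ofNat 2, Int.ofNat 0, Int.ofNat 0, Int.ofNat 2, Int.ofNat 0, Int.ofNat 0, Int.ofNat 0, Int.negSucc 1],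
  [Int.ofNat 2, Int.ofNat 2, Int.ofNat 2, Int.ofNat 0, Int.negSucc 1, Int.ofNat 0, Int.ofNat 0, Int.ofNat 0, Int.ofNat 0, Int.ofNat 0, Int.ofNat 0, Int.ofNat 0, Int.ofNat 0, Int.ofNat 2, Int.ofNat 0, Int.ofNat 0, Int.ofNat 2, Int.ofNat 0, Int.ofNat 0, Int.ofNat 0, Int.ofNat 0, Int.ofNat 0, Int.ofNat 2, Int.negSucc 1],
  [Int.ofNat 0, Int.ofNat 0, Int.ofNat 0, Int.ofNat 0, Int.negSucc 3, Int.ofNat 0, Int.ofNat 0, Int.ofNat 0, Int.ofNat 0, Int.ofNat 0, Int.ofNat 0, Int.ofNat 0, Int.ofNat 0, Int.ofNat 0, Int.ofNat 0, Int.ofNat 0, Int.ofNat 0, Int.ofNat 0, Int.ofNat 0, Int.ofNat 0, Int.ofNat 0, Int.ofNat 0, Int.ofNat 0, Int.ofNat 4],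
  [Int.ofNat 0, Int.ofNat 0, Int.negSucc 3, Int.ofNat 0, Int.ofNat 0, Int.ofNat 0, Int.ofNat 0, Int.ofNat 0, Int.ofNat 0, Int.ofNat 0, Int.ofNat 0, Int.ofNat 0, Int.ofNat 0, Int.ofNat 0, Int.ofNat 0, Int.ofNat 0, Int.ofNat 0, Int.ofNat 0, Int.ofNat 0, Int.ofNat 0, Int.ofNat 0, Int.ofNat 0, Int.ofNat 0, Int.ofNat 4],
  [Int.ofNat 0, Int.ofNat 0, Int.ofNat 4, Int.ofNat 0, Int.ofNat 0, Int.ofNat 0, Int.ofNat 0, Int.ofNat 0, Int.ofNat 0, Int.ofNat 0, Int.ofNat 0, Int.ofNat 0, Int.ofNat 0, Int.ofNat 0, Int.ofNat 0, Int.ofNat 0, Int.ofNat 0, Int.ofNat 0, Int.ofNat 0, Int.ofNat 0, Int.ofNat 0, Int.ofNat 0, Int.ofNat 0, Int.negSucc 3],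
  [Int.ofNat 0, Int.ofNat 0, Int.negSucc 3, Int.ofNat 0, Int.ofNat 0, Int.ofNat 0, Int.ofNat 0, Int.ofNat 0, Int.ofNat 0, Int.ofNat 0, Int.ofNat 0, Int.ofNat 0, Int.ofNat 0, Int.ofNat 0, Int.ofNat 0, Int.ofNat 0, Int.ofNat 0, Int.ofNat 0, Int.ofNat 0, Int.ofNat 0, Int.ofNat 0, Int.ofNat 0, Int.ofNat 0, Int.negSucc 3],
  [Int.ofNat 0, Int.ofNat 0, Int.ofNat 0, Int.ofNat 0, Int.ofNat 0, Int.ofNat 0, Int.ofNat 0, Int.ofNat 0, Int.ofNat 0, Int.ofNat 0, Int.ofNat 0, Int.ofNat 0, Int.ofNat 0, Int.ofNat 0, Int.ofNat 0, Int.ofNat 0, Int.ofNat 0, Int.ofNat 0, Int.ofNat 0, Int.negSucc 3, Int.ofNat 0, Int.ofNat 0, Int.ofNat 0, Int.negSucc 3],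
  [Int.ofNat 0, Int.ofNat 0, Int.ofNat 0, Int.ofNat 0, Int.ofNat 0, Int.ofNat 0, Int.ofNat 0, Int.ofNat 0, Int.ofNat 0, Int.ofNat 0, Int.ofNat 0, Int.ofNat 0, Int.ofNat 0, Int.ofNat 0, Int.ofNat 0, Int.ofNat 0, Int.ofNat 0, Int.ofNat 0, Int.ofNat 0, Int.negSucc 3, Int.ofNat 0, Int.ofNat 0, Int.ofNat 0, Int.negSucc 3],
  [Int.negSucc 3, Int.ofNat 0, Int.ofNat 0, Int.ofNat 0, Int.ofNat 0, Int.ofNat 0, Int.negSucc 3, Int.ofNat 0, Int.ofNat 0, Int.ofNat 0, Int.ofNat 0, Int.ofNat 0, Int.ofNat 0, Int.ofNat 0, Int.ofNat 0, Int.ofNat 0, Int.ofNat 0, Int.ofNat 0, Int.ofNat 0, Int.ofNat 0, Int.ofNat 0, Int.ofNat 0, Int.ofNat 0, Int.ofNat 0],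
  [Int.ofNat 4, Int.ofNat 0, Int.ofNat 0, Int.ofNat 0, Int.ofNat 0, Int.ofNat 0, Int.negSucc 3, Int.ofNat 0, Int.ofNat 0, Int.ofNat 0, Int.ofNat 0, Int.ofNat 0, Int.ofNat 0, Int.ofNat 0, Int.ofNat 0, Int.ofNat 0, Int.ofNat 0, Int.ofNat 0, Int.ofNat 0, Int.ofNat 0, Int.ofNat 0, Int.ofNat 0, Int.ofNat 0, Int.ofNat 0],
  [Int.ofNat 0, Int.ofNat 4, Int.ofNat 0, Int.ofNat 0, Int.ofNat 0, Int.ofNat 0, Int.ofNat 0, Int.negSucc 3, Int.ofNat 0, Int.ofNat 0, Int.ofNat 0, Int.ofNat 0, Int.ofNat 0, Int.ofNat 0, Int.ofNat 0, Int.ofNat 0, Int.ofNat 0, Int.ofNat 0, Int.ofNat 0, Int.ofNat 0, Int.ofNat 0, Int.ofNat 0, Int.ofNat 0, Int.ofNat 0],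
  [Int.ofNat 2, Int.negSucc 1, Int.ofNat 2, Int.ofNat 0, Int.ofNat 0, Int.ofNat 0, Int.ofNat 2, Int.negSucc 1, Int.ofNat 0, Int.ofNat 0, Int.ofNat 0, Int.ofNat 0, Int.ofNat 0, Int.ofNat 0, Int.ofNat 0, Int.ofNat 0, Int.ofNat 0, Int.ofNat 0, Int.ofNat 0, Int.ofNat 2, Int.ofNat 0, Int.ofNat 2, Int.ofNat 0, Int.ofNat 2],
  [Int.ofNat 0, Int.ofNat 0, Int.ofNat 0, Int.ofNat 2, Int.negSucc 1, Int.ofNat 0, Int.ofNat 0, Int.ofNat 0, Int.ofNat 0, Int.ofNat 0, Int.ofNat 0, Int.ofNat 0, Int.ofNat 0, Int.ofNat 0, Int.ofNat 0, Int.ofNat 0, Int.ofNat 2, Int.ofNat 0, Int.ofNat 2, Int.ofNat 0, Int.ofNat 2, Int.negSucc 1, Int.ofNat 2, Int.ofNat 2],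
  [Int.ofNat 1, Int.ofNat 1, Int.ofNat 1, Int.ofNat 1, Int.negSucc 2, Int.negSucc 0, Int.ofNat 1, Int.ofNat 1, Int.negSucc 0, Int.negSucc 0, Int.negSucc 0, Int.negSucc 0, Int.negSucc 0, Int.negSucc 0, Int.negSucc 0, Int.negSucc 0, Int.ofNat 1, Int.negSucc 0, Int.ofNat 1, Int.ofNat 1, Int.ofNat 1, Int.negSucc 0, Int.ofNat 1, Int.negSucc 0],
  [Int.ofNat 1, Int.ofNat 1, Int.negSucc 2, Int.ofNat 1, Int.ofNat 1, Int.ofNat 1, Int.ofNat 1, Int.negSucc 0, Int.negSucc 0, Int.negSucc 0, Int.ofNat 1, Int.negSucc 0, Int.negSucc 0, Int.ofNat 1, Int.ofNat 1, Int.negSucc 0, Int.negSucc 0, Int.negSucc 0, Int.ofNat 1, Int.negSucc 0, Int.negSucc 0, Int.negSucc 0, Int.ofNat 1, Int.negSucc 0],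
  [Int.negSucc 1, Int.negSucc 1, Int.ofNat 2, Int.ofNat 0, Int.ofNat 0, Int.ofNat 0, Int.ofNat 2, Int.ofNat 0, Int.ofNat 0, Int.ofNat 0, Int.ofNat 2, Int.ofNat 0, Int.ofNat 0, Int.ofNat 0, Int.ofNat 0, Int.ofNat 0, Int.negSucc 1, Int.negSucc 1, Int.ofNat 2, Int.ofNat 0, Int.ofNat 0, Int.ofNat 0, Int.ofNat 0, Int.ofNat 0],
  [Int.negSucc 1, Int.negSucc 1, Int.negSucc 1, Int.ofNat 0, Int.ofNat 0, Int.ofNat 0, Int.negSucc 1, Int.ofNat 0, Int.ofNat 0, Int.ofNat 0, Int.negSucc 1, Int.ofNat 0, Int.ofNat 0, Int.ofNat 0, Int.ofNat 0, Int.ofNat 0, Int.negSucc 1, Int.negSucc 1, Int.negSucc 1, Int.ofNat 0, Int.ofNat 0, Int.ofNat 0, Int.ofNat 0, Int.ofNat 0],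
  [Int.negSucc 1, Int.ofNat 0, Int.negSucc 1, Int.ofNat 0, Int.ofNat 0, Int.ofNat 0, Int.negSucc 1, Int.ofNat 0, Int.negSucc 1, Int.ofNat 0, Int.ofNat 0, Int.negSucc 1, Int.ofNat 0, Int.negSucc 1, Int.ofNat 0, Int.ofNat 0, Int.negSucc 1, Int.ofNat 0, Int.ofNat 0, Int.ofNat 0, Int.ofNat 0, Int.negSucc 1, Int.ofNat 0, Int.ofNat 0],
  [Int.negSucc 1, Int.ofNat 0, Int.ofNat 2, Int.ofNat 0, Int.ofNat 0, Int.ofNat 0, Int.ofNat 2, Int.ofNat 0, Int.negSucc 1, Int.ofNat 0, Int.ofNat 0, Int.negSucc 1, Int.ofNat 0, Int.negSucc 1, Int.ofNat 0, Int.ofNat 0, Int.negSucc 1, Int.ofNat 0, Int.ofNat 0, Int.ofNat 0, Int.ofNat 0, Int.negSucc 1, Int.ofNat 0, Int.ofNat 0],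
  [Int.ofNat 2, Int.ofNat 0, Int.negSucc 1, Int.ofNat 0, Int.ofNat 2, Int.ofNat 0, Int.ofNat 2, Int.ofNat 0, Int.ofNat 0, Int.ofNat 0, Int.ofNat 0, Int.ofNat 0, Int.ofNat 2, Int.ofNat 0, Int.ofNat 0, Int.ofNat 0, Int.ofNat 0, Int.ofNat 0, Int.ofNat 2, Int.ofNat 0, Int.ofNat 0, Int.negSucc 1, Int.ofNat 2, Int.ofNat 0],
  [Int.ofNat 2, Int.ofNat 2, Int.ofNat 2, Int.ofNat 0, Int.negSucc 1, Int.negSucc 1, Int.ofNat 0, Int.ofNat 0, Int.ofNat 0, Int.ofNat 2, Int.ofNat 0, Int.ofNat 0, Int.ofNat 0, Int.ofNat 0, Int.ofNat 0, Int.ofNat 0, Int.ofNat 0, Int.ofNat 0, Int.ofNat 2, Int.ofNat 2, Int.ofNat 0, Int.ofNat 0, Int.ofNat 0, Int.ofNat 0],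
  [Int.ofNat 1, Int.ofNat 1, Int.ofNat 1, Int.ofNat 1, Int.negSucc 0, Int.negSucc 0, Int.negSucc 0, Int.negSucc 0, Int.negSucc 0, Int.ofNat 1, Int.negSucc 0, Int.negSucc 0, Int.negSucc 0, Int.ofNat 1, Int.ofNat 1, Int.negSucc 0, Int.ofNat 1, Int.ofNat 1, Int.ofNat 1, Int.ofNat 1, Int.negSucc 0, Int.negSucc 0, Int.ofNat 1, Int.ofNat 3],
  [Int.negSucc 0, Int.negSucc 0, Int.ofNat 1, Int.ofNat 1, Int.ofNat 1, Int.ofNat 1, Int.ofNat 1, Int.negSucc 0, Int.negSucc 0, Int.negSucc 0, Int.negSucc 0, Int.negSucc 0, Int.ofNat 1, Int.negSucc 0, Int.negSucc 0, Int.negSucc 0, Int.ofNat 1, Int.ofNat 1, Int.negSucc 0, Int.ofNat 1, Int.ofNat 1, Int.ofNat 1, Int.ofNat 1, Int.ofNat 3],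
  [Int.ofNat 2, Int.ofNat 2, Int.ofNat 0, Int.ofNat 0, Int.ofNat 0, Int.ofNat 0, Int.ofNat 0, Int.negSucc 1, Int.ofNat 0, Int.ofNat 0, Int.ofNat 0, Int.ofNat 0, Int.ofNat 2, Int.negSucc 1, Int.negSucc 1, Int.ofNat 0, Int.ofNat 0, Int.ofNat 0, Int.ofNat 0, Int.ofNat 0, Int.ofNat 2, Int.ofNat 0, Int.ofNat 0, Int.negSucc 1],
  [Int.ofNat 2, Int.ofNat 0, Int.ofNat 0, Int.ofNat 0, Int.ofNat 0, Int.ofNat 0, Int.negSucc 1, Int.ofNat 0, Int.ofNat 0, Int.ofNat 0, Int.ofNat 0, Int.ofNat 2, Int.negSucc 1, Int.negSucc 1, Int.ofNat 0, Int.ofNat 0, Int.ofNat 0, Int.ofNat 0, Int.ofNat 0, Int.ofNat 2, Int.ofNat 0, Int.ofNat 0, Int.ofNat 2, Int.negSucc 1],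
  [Int.negSucc 1, Int.ofNat 0, Int.ofNat 0, Int.ofNat 0, Int.ofNat 0, Int.ofNat 0, Int.negSucc 1, Int.ofNat 0, Int.ofNat 0, Int.ofNat 0, Int.ofNat 0, Int.negSucc 1, Int.negSucc 1, Int.negSucc 1, Int.ofNat 0, Int.ofNat 0, Int.ofNat 0, Int.ofNat 0, Int.ofNat 0, Int.ofNat 2, Int.ofNat 0, Int.ofNat 0, Int.ofNat 2, Int.negSucc 1],
  [Int.negSucc 1, Int.ofNat 0, Int.ofNat 0, Int.ofNat 0, Int.ofNat 0, Int.ofNat 0, Int.ofNat 0, Int.ofNat 0, Int.ofNat 0, Int.ofNat 0, Int.ofNat 0, Int.ofNat 0, Int.negSucc 1, Int.ofNat 0, Int.ofNat 2, Int.ofNat 0, Int.negSucc 1, Int.ofNat 2, Int.negSucc 1, Int.ofNat 0, Int.ofNat 0, Int.ofNat 0, Int.negSucc 1, Int.negSucc 1],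
  [Int.ofNat 2, Int.ofNat 0, Int.ofNat 0, Int.ofNat 0, Int.ofNat 0, Int.ofNat 0, Int.ofNat 0, Int.ofNat 0, Int.ofNat 0, Int.ofNat 0, Int.ofNat 0, Int.ofNat 0, Int.negSucc 1, Int.ofNat 0, Int.ofNat 2, Int.ofNat 0, Int.negSucc 1, Int.ofNat 2, Int.ofNat 2, Int.ofNat 0, Int.ofNat 0, Int.ofNat 0, Int.negSucc 1, Int.negSucc 1],
  [Int.negSucc 1, Int.ofNat 2, Int.ofNat 0, Int.ofNat 0, Int.ofNat 0, Int.ofNat 0, Int.ofNat 0, Int.ofNat 0, Int.ofNat 0, Int.ofNat 0, Int.ofNat 0, Int.ofNat 0, Int.ofNat 0, Int.negSucc 1, Int.ofNat 0, Int.ofNat 2, Int.ofNat 0, Int.negSucc 1, Int.ofNat 2, Int.ofNat 2, Int.ofNat 0, Int.ofNat 0, Int.ofNat 0, Int.negSucc 1],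
  [Int.ofNat 1, Int.negSucc 2, Int.negSucc 0, Int.ofNat 1, Int.ofNat 1, Int.ofNat 1, Int.negSucc 0, Int.negSucc 0, Int.negSucc 0, Int.negSucc 0, Int.negSucc 0, Int.negSucc 0, Int.negSucc 0, Int.negSucc 0, Int.ofNat 1, Int.ofNat 1, Int.ofNat 1, Int.negSucc 0, Int.ofNat 1, Int.ofNat 1, Int.negSucc 0, Int.negSucc 0, Int.ofNat 1, Int.ofNat 1],
  [Int.ofNat 1, Int.ofNat 1, Int.ofNat 1, Int.negSucc 0, Int.negSucc 0, Int.negSucc 0, Int.negSucc 0, Int.negSucc 0, Int.negSucc 0, Int.negSucc 0, Int.negSucc 0, Int.ofNat 1, Int.ofNat 1, Int.ofNat 1, Int.negSucc 0, Int.ofNat 1, Int.ofNat 1, Int.negSucc 0, Int.negSucc 0, Int.ofNat 1, Int.ofNat 1, Int.negSucc 2, Int.negSucc 0, Int.ofNat 1],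
  [Int.ofNat 1, Int.ofNat 1, Int.ofNat 1, Int.ofNat 1, Int.negSucc 0, Int.ofNat 1, Int.ofNat 1, Int.ofNat 1, Int.negSucc 0, Int.negSucc 0, Int.negSucc 0, Int.ofNat 1, Int.ofNat 1, Int.ofNat 1, Int.ofNat 1, Int.ofNat 1, Int.ofNat 1, Int.ofNat 1, Int.negSucc 0, Int.ofNat 3, Int.ofNat 1, Int.negSucc 0, Int.negSucc 0, Int.ofNat 1],
  [Int.ofNat 1, Int.ofNat 1, Int.negSucc 0, Int.ofNat 1, Int.negSucc 0, Int.ofNat 1, Int.ofNat 1, Int.negSucc 0, Int.ofNat 1, Int.ofNat 1, Int.ofNat 1, Int.ofNat 1, Int.negSucc 0, Int.ofNat 1, Int.negSucc 0, Int.ofNat 1, Int.negSucc 0, Int.ofNat 1, Int.ofNat 1, Int.ofNat 1, Int.negSucc 0, Int.ofNat 1, Int.ofNat 3, Int.ofNat 1],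
  [Int.ofNat 0, Int.ofNat 0, Int.ofNat 2, Int.ofNat 0, Int.negSucc 1, Int.ofNat 0, Int.ofNat 0, Int.negSucc 1, Int.ofNat 0, Int.ofNat 0, Int.ofNat 0, Int.ofNat 0, Int.negSucc 1, Int.ofNat 0, Int.negSucc 1, Int.ofNat 0, Int.negSucc 1, Int.ofNat 0, Int.ofNat 0, Int.ofNat 0, Int.negSucc 1, Int.ofNat 0, Int.ofNat 2, Int.ofNat 0],
  [Int.ofNat 0, Int.ofNat 0, Int.negSucc 1, Int.ofNat 0, Int.negSucc 1, Int.ofNat 0, Int.ofNat 0, Int.negSucc 1, Int.ofNat 0, Int.ofNat 0, Int.ofNat 0, Int.ofNat 0, Int.negSucc 1, Int.ofNat 0, Int.negSucc 1, Int.ofNat 0, Int.negSucc 1, Int.ofNat 0, Int.ofNat 0, Int.ofNat 0, Int.negSucc 1, Int.ofNat 0, Int.negSucc 1, Int.ofNat 0],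
  [Int.ofNat 0, Int.negSucc 1, Int.ofNat 0, Int.ofNat 0, Int.negSucc 1, Int.ofNat 0, Int.ofNat 0, Int.ofNat 0, Int.ofNat 0, Int.negSucc 1, Int.ofNat 0, Int.negSucc 1, Int.ofNat 0, Int.negSucc 1, Int.ofNat 0, Int.ofNat 0, Int.ofNat 0, Int.negSucc 1, Int.ofNat 0, Int.negSucc 1, Int.ofNat 0, Int.ofNat 0, Int.negSucc 1, Int.ofNat 0],
  [Int.ofNat 0, Int.ofNat 2, Int.ofNat 0, Int.ofNat 0, Int.ofNat 2, Int.ofNat 0, Int.ofNat 0, Int.ofNat 0, Int.ofNat 0, Int.ofNat 2, Int.ofNat 0, Int.negSucc 1, Int.ofNat 0, Int.ofNat 2, Int.ofNat 0, Int.ofNat 0, Int.ofNat 0, Int.negSucc 1, Int.ofNat 0, Int.negSucc 1, Int.ofNat 0, Int.ofNat 0, Int.negSucc 1, Int.ofNat 0],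
  [Int.ofNat 0, Int.negSucc 1, Int.negSucc 1, Int.ofNat 0, Int.negSucc 1, Int.ofNat 2, Int.negSucc 1, Int.ofNat 2, Int.ofNat 0, Int.ofNat 0, Int.ofNat 0, Int.ofNat 0, Int.ofNat 0, Int.ofNat 0, Int.ofNat 0, Int.ofNat 0, Int.ofNat 0, Int.ofNat 2, Int.ofNat 0, Int.ofNat 0, Int.ofNat 0, Int.ofNat 0, Int.ofNat 2, Int.ofNat 0],
  [Int.ofNat 0, Int.negSucc 1, Int.ofNat 2, Int.ofNat 0, Int.negSucc 1, Int.ofNat 2, Int.negSucc 1, Int.negSucc 1, Int.ofNat 0, Int.ofNat 0, Int.ofNat 0, Int.ofNat 0, Int.ofNat 0, Int.ofNat 0, Int.ofNat 0, Int.ofNat 0, Int.ofNat 0, Int.ofNat 2, Int.ofNat 0, Int.ofNat 0, Int.ofNat 0, Int.ofNat 0, Int.ofNat 2, Int.ofNat 0],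
  [Int.ofNat 2, Int.ofNat 0, Int.negSucc 1, Int.ofNat 2, Int.ofNat 0, Int.negSucc 1, Int.ofNat 2, Int.negSucc 1, Int.negSucc 1, Int.ofNat 0, Int.ofNat 0, Int.ofNat 0, Int.ofNat 0, Int.ofNat 0, Int.ofNat 0, Int.ofNat 0, Int.ofNat 0, Int.ofNat 0, Int.ofNat 2, Int.ofNat 0, Int.ofNat 0, Int.ofNat 0, Int.ofNat 0, Int.ofNat 0],
  [Int.negSucc 1, Int.ofNat 0, Int.ofNat 2, Int.ofNat 2, Int.ofNat 0, Int.negSucc 1, Int.ofNat 2, Int.negSucc 1, Int.negSucc 1, Int.ofNat 0, Int.ofNat 0, Int.ofNat 0, Int.ofNat 0, Int.ofNat 0, Int.ofNat 0, Int.ofNat 0, Int.ofNat 0, Int.ofNat 0, Int.ofNat 2, Int.ofNat 0, Int.ofNat 0, Int.ofNat 0, Int.ofNat 0, Int.ofNat 0],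
  [Int.ofNat 2, Int.ofNat 0, Int.negSucc 1, Int.ofNat 2, Int.negSucc 1, Int.negSucc 1, Int.ofNat 0, Int.ofNat 0, Int.ofNat 0, Int.ofNat 0, Int.ofNat 0, Int.ofNat 0, Int.ofNat 0, Int.ofNat 0, Int.ofNat 0, Int.ofNat 2, Int.ofNat 0, Int.ofNat 0, Int.ofNat 0, Int.ofNat 0, Int.negSucc 1, Int.ofNat 0, Int.ofNat 2, Int.ofNat 0],
  [Int.negSucc 1, Int.ofNat 0, Int.ofNat 2, Int.ofNat 2, Int.negSucc 1, Int.negSucc 1, Int.ofNat 0, Int.ofNat 0, Int.ofNat 0, Int.ofNat 0, Int.ofNat 0, Int.ofNat 0, Int.ofNat 0, Int.ofNat 0, Int.ofNat 0, Int.ofNat 2, Int.ofNat 0, Int.ofNat 0, Int.ofNat 0, Int.ofNat 0, Int.negSucc 1, Int.ofNat 0, Int.ofNat 2, Int.ofNat 0],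
  [Int.negSucc 1, Int.ofNat 0, Int.negSucc 1, Int.ofNat 2, Int.ofNat 0, Int.ofNat 0, Int.ofNat 2, Int.ofNat 0, Int.ofNat 0, Int.ofNat 0, Int.negSucc 1, Int.ofNat 0, Int.ofNat 0, Int.ofNat 0, Int.ofNat 2, Int.ofNat 2, Int.ofNat 0, Int.ofNat 0, Int.ofNat 0, Int.ofNat 0, Int.ofNat 0, Int.negSucc 1, Int.ofNat 0, Int.ofNat 0],
  [Int.ofNat 0, Int.negSucc 1, Int.ofNat 0, Int.ofNat 0, Int.ofNat 0, Int.negSucc 1, Int.ofNat 2, Int.ofNat 0, Int.ofNat 0, Int.ofNat 0, Int.negSucc 1, Int.ofNat 0, Int.ofNat 0, Int.ofNat 0, Int.ofNat 0, Int.ofNat 2, Int.ofNat 0, Int.negSucc 1, Int.ofNat 0, Int.ofNat 0, Int.ofNat 0, Int.negSucc 1, Int.ofNat 0, Int.negSucc 1],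
  [Int.ofNat 0, Int.negSucc 1, Int.ofNat 0, Int.ofNat 0, Int.ofNat 0, Int.ofNat 2, Int.negSucc 1, Int.ofNat 0, Int.ofNat 0, Int.ofNat 0, Int.ofNat 2, Int.ofNat 0, Int.ofNat 0, Int.ofNat 0, Int.ofNat 0, Int.negSucc 1, Int.ofNat 0, Int.negSucc 1, Int.ofNat 0, Int.ofNat 0, Int.ofNat 0, Int.negSucc 1, Int.ofNat 0, Int.negSucc 1],
  [Int.ofNat 0, Int.ofNat 0, Int.negSucc 1, Int.ofNat 0, Int.ofNat 2, Int.ofNat 0, Int.ofNat 2, Int.negSucc 1, Int.negSucc 1, Int.ofNat 0, Int.ofNat 0, Int.ofNat 0, Int.negSucc 1, Int.negSucc 1, Int.ofNat 0, Int.ofNat 0, Int.ofNat 0, Int.ofNat 0, Int.ofNat 0, Int.ofNat 0, Int.ofNat 0, Int.ofNat 0, Int.ofNat 0, Int.negSucc 1],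
  [Int.ofNat 0, Int.ofNat 0, Int.ofNat 2, Int.ofNat 0, Int.ofNat 2, Int.ofNat 0, Int.negSucc 1, Int.negSucc 1, Int.negSucc 1, Int.ofNat 0, Int.ofNat 0, Int.ofNat 0, Int.negSucc 1, Int.negSucc 1, Int.ofNat 0, Int.ofNat 0, Int.ofNat 0, Int.ofNat 0, Int.ofNat 0, Int.ofNat 0, Int.ofNat 0, Int.ofNat 0, Int.ofNat 0, Int.negSucc 1],
  [Int.ofNat 0, Int.ofNat 0, Int.negSucc 1, Int.ofNat 0, Int.ofNat 2, Int.ofNat 0, Int.ofNat 0, Int.ofNat 0, Int.ofNat 0, Int.ofNat 0, Int.ofNat 0, Int.ofNat 2, Int.ofNat 0, Int.negSucc 1, Int.ofNat 0, Int.ofNat 0, Int.ofNat 0, Int.ofNat 0, Int.ofNat 2, Int.ofNat 2, Int.ofNat 0, Int.ofNat 2, Int.ofNat 0, Int.ofNat 2],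
  [Int.ofNat 0, Int.ofNat 2, Int.ofNat 0, Int.ofNat 0, Int.negSucc 1, Int.ofNat 2, Int.ofNat 0, Int.ofNat 0, Int.ofNat 0, Int.ofNat 0, Int.ofNat 0, Int.ofNat 2, Int.ofNat 0, Int.ofNat 0, Int.ofNat 0, Int.ofNat 0, Int.negSucc 1, Int.ofNat 2, Int.ofNat 2, Int.ofNat 0, Int.ofNat 0, Int.ofNat 0, Int.ofNat 0, Int.ofNat 2],
  [Int.ofNat 2, Int.ofNat 0, Int.ofNat 2, Int.negSucc 1, Int.ofNat 0, Int.ofNat 0, Int.ofNat 0, Int.ofNat 0, Int.negSucc 1, Int.ofNat 0, Int.ofNat 0, Int.ofNat 0, Int.negSucc 1, Int.ofNat 2, Int.negSucc 1, Int.ofNat 0, Int.ofNat 0, Int.ofNat 0, Int.ofNat 0, Int.ofNat 0, Int.ofNat 0, Int.ofNat 0, Int.ofNat 2, Int.ofNat 0],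
  [Int.ofNat 0, Int.ofNat 0, Int.ofNat 2, Int.ofNat 2, Int.ofNat 0, Int.ofNat 2, Int.negSucc 1, Int.ofNat 0, Int.ofNat 0, Int.ofNat 0, Int.ofNat 0, Int.negSucc 1, Int.ofNat 0, Int.ofNat 0, Int.ofNat 0, Int.negSucc 1, Int.ofNat 2, Int.negSucc 1, Int.ofNat 0, Int.ofNat 0, Int.ofNat 0, Int.ofNat 0, Int.ofNat 0, Int.ofNat 0],
  [Int.ofNat 1, Int.ofNat 1, Int.negSucc 0, Int.ofNat 1, Int.negSucc 0, Int.ofNat 1, Int.negSucc 0, Int.ofNat 1, Int.ofNat 1, Int.ofNat 1, Int.ofNat 1, Int.negSucc 0, Int.ofNat 1, Int.negSucc 0, Int.negSucc 0, Int.negSucc 0, Int.ofNat 1, Int.negSucc 2, Int.ofNat 1, Int.ofNat 1, Int.ofNat 1, Int.ofNat 1, Int.negSucc 0, Int.ofNat 1],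
  [Int.ofNat 1, Int.negSucc 0, Int.ofNat 1, Int.negSucc 0, Int.ofNat 1, Int.negSucc 0, Int.ofNat 1, Int.ofNat 1, Int.ofNat 1, Int.ofNat 1, Int.negSucc 0, Int.ofNat 1, Int.negSucc 0, Int.negSucc 0, Int.negSucc 0, Int.ofNat 1, Int.negSucc 2, Int.ofNat 1, Int.ofNat 1, Int.ofNat 1, Int.ofNat 1, Int.negSucc 0, Int.ofNat 1, Int.ofNat 1],
  [Int.negSucc 0, Int.negSucc 0, Int.negSucc 0, Int.negSucc 0, Int.ofNat 1, Int.negSucc 0, Int.ofNat 1, Int.negSucc 0, Int.ofNat 1, Int.negSucc 0, Int.ofNat 1, Int.negSucc 0, Int.negSucc 0, Int.negSucc 0, Int.negSucc 0, Int.ofNat 1, Int.negSucc 2, Int.ofNat 1, Int.negSucc 0, Int.ofNat 1, Int.ofNat 1, Int.ofNat 1, Int.ofNat 1, Int.ofNat 1],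
  [Int.negSucc 0, Int.negSucc 0, Int.negSucc 0, Int.negSucc 0, Int.negSucc 0, Int.ofNat 1, Int.ofNat 1, Int.ofNat 1, Int.negSucc 0, Int.negSucc 2, Int.ofNat 1, Int.negSucc 0, Int.negSucc 0, Int.ofNat 1, Int.ofNat 1, Int.ofNat 1, Int.negSucc 0, Int.ofNat 1, Int.ofNat 1, Int.ofNat 1, Int.negSucc 0, Int.negSucc 0, Int.negSucc 0, Int.ofNat 1],
  [Int.ofNat 1, Int.negSucc 0, Int.ofNat 1, Int.negSucc 0, Int.negSucc 0, Int.ofNat 1, Int.ofNat 1, Int.negSucc 0, Int.negSucc 0, Int.ofNat 3, Int.negSucc 0, Int.ofNat 1, Int.negSucc 0, Int.ofNat 1, Int.ofNat 1, Int.ofNat 1, Int.negSucc 0, Int.ofNat 1, Int.negSucc 0, Int.ofNat 1, Int.negSucc 0, Int.ofNat 1, Int.negSucc 0, Int.ofNat 1],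
  [Int.negSucc 0, Int.ofNat 1, Int.negSucc 0, Int.ofNat 1, Int.negSucc 0, Int.negSucc 0, Int.ofNat 1, Int.ofNat 1, Int.negSucc 0, Int.negSucc 0, Int.ofNat 3, Int.negSucc 0, Int.ofNat 1, Int.negSucc 0, Int.ofNat 1, Int.ofNat 1, Int.ofNat 1, Int.negSucc 0, Int.ofNat 1, Int.negSucc 0, Int.ofNat 1, Int.negSucc 0, Int.ofNat 1, Int.ofNat 1],
  [Int.ofNat 1, Int.negSucc 0, Int.ofNat 1, Int.ofNat 1, Int.negSucc 0, Int.negSucc 0, Int.ofNat 1, Int.ofNat 1, Int.negSucc 0, Int.negSucc 2, Int.ofNat 1, Int.negSucc 0, Int.ofNat 1, Int.negSucc 0, Int.ofNat 1, Int.negSucc 0, Int.ofNat 1, Int.negSucc 0, Int.ofNat 1, Int.negSucc 0, Int.negSucc 0, Int.negSucc 0, Int.ofNat 1, Int.negSucc 0],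
  [Int.ofNat 1, Int.negSucc 0, Int.negSucc 0, Int.ofNat 1, Int.ofNat 1, Int.negSucc 0, Int.negSucc 2, Int.ofNat 1, Int.negSucc 0, Int.ofNat 1, Int.negSucc 0, Int.ofNat 1, Int.negSucc 0, Int.ofNat 1, Int.negSucc 0, Int.ofNat 1, Int.negSucc 0, Int.negSucc 0, Int.negSucc 0, Int.ofNat 1, Int.ofNat 1, Int.negSucc 0, Int.ofNat 1, Int.negSucc 0],
  [Int.negSucc 1, Int.ofNat 0, Int.ofNat 0, Int.ofNat 2, Int.ofNat 0, Int.ofNat 0, Int.negSucc 1, Int.ofNat 2, Int.ofNat 0, Int.ofNat 0, Int.negSucc 1, Int.ofNat 2, Int.ofNat 0, Int.ofNat 0, Int.ofNat 0, Int.ofNat 0, Int.negSucc 1, Int.ofNat 0, Int.ofNat 0, Int.ofNat 2, Int.ofNat 0, Int.ofNat 0, Int.ofNat 0, Int.ofNat 0],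
  [Int.negSucc 1, Int.negSucc 1, Int.ofNat 0, Int.ofNat 2, Int.ofNat 0, Int.ofNat 2, Int.ofNat 0, Int.negSucc 1, Int.ofNat 0, Int.ofNat 0, Int.ofNat 0, Int.ofNat 0, Int.ofNat 0, Int.negSucc 1, Int.ofNat 0, Int.ofNat 0, Int.ofNat 0, Int.ofNat 0, Int.ofNat 0, Int.ofNat 2, Int.ofNat 0, Int.ofNat 0, Int.ofNat 2, Int.ofNat 0],
  [Int.ofNat 0, Int.ofNat 0, Int.negSucc 1, Int.ofNat 0, Int.ofNat 0, Int.ofNat 0, Int.ofNat 0, Int.negSucc 1, Int.ofNat 0, Int.ofNat 0, Int.ofNat 0, Int.ofNat 0, Int.ofNat 0, Int.negSucc 1, Int.negSucc 1, Int.ofNat 0, Int.ofNat 0, Int.negSucc 1, Int.ofNat 0, Int.ofNat 2, Int.ofNat 0, Int.ofNat 0, Int.ofNat 2, Int.negSucc 1],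
  [Int.ofNat 0, Int.ofNat 0, Int.ofNat 2, Int.ofNat 0, Int.ofNat 0, Int.ofNat 0, Int.ofNat 0, Int.negSucc 1, Int.ofNat 0, Int.ofNat 0, Int.ofNat 0, Int.ofNat 0, Int.ofNat 0, Int.negSucc 1, Int.negSucc 1, Int.ofNat 0, Int.ofNat 0, Int.negSucc 1, Int.ofNat 0, Int.ofNat 2, Int.ofNat 0, Int.ofNat 0, Int.negSucc 1, Int.negSucc 1],
  [Int.ofNat 0, Int.ofNat 0, Int.ofNat 0, Int.ofNat 0, Int.negSucc 1, Int.ofNat 0, Int.ofNat 0, Int.ofNat 0, Int.ofNat 0, Int.ofNat 0, Int.negSucc 1, Int.negSucc 1, Int.ofNat 0, Int.ofNat 0, Int.negSucc 1, Int.ofNat 0, Int.ofNat 2, Int.ofNat 0, Int.ofNat 0, Int.ofNat 2, Int.ofNat 0, Int.ofNat 0, Int.negSucc 1, Int.negSucc 1],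
  [Int.ofNat 0, Int.ofNat 0, Int.ofNat 0, Int.ofNat 0, Int.ofNat 2, Int.ofNat 0, Int.ofNat 0, Int.ofNat 0, Int.ofNat 0, Int.ofNat 0, Int.negSucc 1, Int.negSucc 1, Int.ofNat 0, Int.ofNat 0, Int.negSucc 1, Int.ofNat 0, Int.negSucc 1, Int.ofNat 0, Int.ofNat 0, Int.ofNat 2, Int.ofNat 0, Int.ofNat 0, Int.negSucc 1, Int.negSucc 1],
  [Int.negSucc 1, Int.negSucc 1, Int.negSucc 1, Int.ofNat 0, Int.ofNat 0, Int.ofNat 0, Int.ofNat 2, Int.ofNat 0, Int.ofNat 0, Int.ofNat 0, Int.negSucc 1, Int.ofNat 0, Int.ofNat 0, Int.ofNat 0, Int.ofNat 0, Int.ofNat 0, Int.negSucc 1, Int.ofNat 2, Int.negSucc 1, Int.ofNat 0, Int.ofNat 0, Int.ofNat 0, Int.ofNat 0, Int.ofNat 0],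
  [Int.ofNat 2, Int.negSucc 1, Int.ofNat 2, Int.ofNat 0, Int.ofNat 0, Int.ofNat 0, Int.ofNat 2, Int.ofNat 0, Int.ofNat 0, Int.ofNat 0, Int.ofNat 2, Int.ofNat 0, Int.ofNat 0, Int.ofNat 0, Int.ofNat 0, Int.ofNat 0, Int.negSucc 1, Int.ofNat 2, Int.ofNat 2, Int.ofNat 0, Int.ofNat 0, Int.ofNat 0, Int.ofNat 0, Int.ofNat 0],
  [Int.ofNat 0, Int.ofNat 2, Int.negSucc 1, Int.ofNat 2, Int.ofNat 0, Int.ofNat 0, Int.ofNat 0, Int.ofNat 2, Int.ofNat 0, Int.ofNat 0, Int.ofNat 0, Int.ofNat 2, Int.ofNat 0, Int.ofNat 0, Int.ofNat 0, Int.ofNat 0, Int.ofNat 0, Int.negSucc 1, Int.ofNat 2, Int.ofNat 2, Int.ofNat 0, Int.ofNat 0, Int.ofNat 0, Int.ofNat 0],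
  [Int.ofNat 0, Int.negSucc 1, Int.ofNat 2, Int.ofNat 2, Int.ofNat 0, Int.ofNat 0, Int.negSucc 1, Int.ofNat 0, Int.negSucc 1, Int.ofNat 0, Int.ofNat 0, Int.ofNat 0, Int.negSucc 1, Int.ofNat 0, Int.ofNat 0, Int.ofNat 0, Int.ofNat 0, Int.negSucc 1, Int.ofNat 0, Int.ofNat 0, Int.ofNat 0, Int.negSucc 1, Int.ofNat 0, Int.ofNat 0],
  [Int.ofNat 2, Int.ofNat 0, Int.ofNat 0, Int.negSucc 1, Int.ofNat 0, Int.negSucc 1, Int.ofNat 0, Int.ofNat 0, Int.ofNat 0, Int.negSucc 1, Int.ofNat 0, Int.ofNat 0, Int.ofNat 0, Int.ofNat 0, Int.negSucc 1, Int.ofNat 0, Int.ofNat 0, Int.ofNat 0, Int.negSucc 1, Int.ofNat 0, Int.ofNat 0, Int.negSucc 1, Int.ofNat 2, Int.ofNat 0],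
  [Int.negSucc 0, Int.ofNat 1, Int.ofNat 1, Int.ofNat 1, Int.negSucc 0, Int.ofNat 1, Int.ofNat 1, Int.ofNat 1, Int.ofNat 1, Int.negSucc 0, Int.ofNat 1, Int.ofNat 1, Int.ofNat 1, Int.negSucc 0, Int.ofNat 1, Int.ofNat 1, Int.negSucc 0, Int.ofNat 3, Int.negSucc 0, Int.ofNat 1, Int.ofNat 1, Int.negSucc 0, Int.ofNat 1, Int.ofNat 1],
  [Int.negSucc 0, Int.ofNat 1, Int.negSucc 0, Int.ofNat 1, Int.negSucc 0, Int.ofNat 1, Int.ofNat 1, Int.ofNat 1, Int.ofNat 1, Int.negSucc 0, Int.ofNat 1, Int.ofNat 3, Int.negSucc 0, Int.negSucc 0, Int.ofNat 1, Int.ofNat 1, Int.ofNat 1, Int.ofNat 1, Int.ofNat 1, Int.ofNat 1, Int.negSucc 0, Int.ofNat 1, Int.ofNat 1, Int.ofNat 1],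
  [Int.ofNat 1, Int.negSucc 0, Int.ofNat 1, Int.negSucc 0, Int.negSucc 0, Int.negSucc 0, Int.negSucc 0, Int.negSucc 0, Int.negSucc 0, Int.negSucc 0, Int.ofNat 1, Int.ofNat 1, Int.negSucc 2, Int.negSucc 0, Int.negSucc 0, Int.ofNat 1, Int.ofNat 1, Int.negSucc 0, Int.negSucc 0, Int.negSucc 0, Int.negSucc 0, Int.negSucc 0, Int.ofNat 1, Int.negSucc 0],
  [Int.ofNat 1, Int.negSucc 0, Int.negSucc 0, Int.negSucc 0, Int.negSucc 0, Int.ofNat 1, Int.ofNat 1, Int.negSucc 0, Int.negSucc 0, Int.ofNat 1, Int.negSucc 0, Int.ofNat 1, Int.negSucc 2, Int.negSucc 0, Int.negSucc 0, Int.negSucc 0, Int.ofNat 1, Int.negSucc 0, Int.ofNat 1, Int.negSucc 0, Int.negSucc 0, Int.negSucc 0, Int.negSucc 0, Int.negSucc 0],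
  [Int.ofNat 1, Int.negSucc 0, Int.negSucc 0, Int.ofNat 1, Int.ofNat 1, Int.negSucc 0, Int.negSucc 0, Int.negSucc 0, Int.negSucc 0, Int.negSucc 0, Int.ofNat 1, Int.ofNat 1, Int.negSucc 0, Int.ofNat 1, Int.negSucc 0, Int.negSucc 0, Int.negSucc 0, Int.negSucc 0, Int.negSucc 0, Int.negSucc 0, Int.negSucc 0, Int.ofNat 1, Int.negSucc 2, Int.negSucc 0],
  [Int.ofNat 1, Int.negSucc 0, Int.ofNat 1, Int.ofNat 1, Int.ofNat 1, Int.ofNat 1, Int.ofNat 1, Int.negSucc 0, Int.negSucc 0, Int.ofNat 1, Int.negSucc 0, Int.ofNat 1, Int.negSucc 0, Int.ofNat 1, Int.negSucc 0, Int.ofNat 1, Int.negSucc 0, Int.negSucc 0, Int.ofNat 1, Int.negSucc 0, Int.negSucc 0, Int.ofNat 1, Int.ofNat 3, Int.negSucc 0],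
  [Int.negSucc 0, Int.ofNat 1, Int.negSucc 0, Int.ofNat 1, Int.negSucc 0, Int.ofNat 1, Int.ofNat 1, Int.negSucc 0, Int.negSucc 0, Int.ofNat 1, Int.negSucc 0, Int.ofNat 1, Int.negSucc 0, Int.negSucc 0, Int.negSucc 0, Int.ofNat 1, Int.negSucc 2, Int.negSucc 0, Int.ofNat 1, Int.negSucc 0, Int.negSucc 0, Int.ofNat 1, Int.ofNat 1, Int.ofNat 1],
  [Int.negSucc 0, Int.ofNat 1, Int.ofNat 1, Int.ofNat 1, Int.negSucc 0, Int.ofNat 1, Int.ofNat 1, Int.ofNat 1, Int.negSucc 2, Int.negSucc 0, Int.negSucc 0, Int.negSucc 0, Int.negSucc 0, Int.ofNat 1, Int.negSucc 0, Int.ofNat 1, Int.negSucc 0, Int.ofNat 1, Int.negSucc 0, Int.ofNat 1, Int.negSucc 0, Int.negSucc 0, Int.negSucc 0, Int.ofNat 1],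
  [Int.ofNat 2, Int.ofNat 0, Int.ofNat 0, Int.ofNat 0, Int.ofNat 0, Int.ofNat 0, Int.ofNat 0, Int.ofNat 0, Int.ofNat 0, Int.ofNat 0, Int.ofNat 0, Int.ofNat 2, Int.ofNat 2, Int.ofNat 2, Int.negSucc 1, Int.ofNat 2, Int.ofNat 0, Int.ofNat 0, Int.ofNat 2, Int.ofNat 0, Int.ofNat 0, Int.negSucc 1, Int.ofNat 0, Int.ofNat 0],
  [Int.ofNat 0, Int.negSucc 1, Int.ofNat 0, Int.ofNat 2, Int.ofNat 0, Int.ofNat 0, Int.ofNat 0, Int.ofNat 0, Int.ofNat 0, Int.ofNat 0, Int.ofNat 0, Int.ofNat 0, Int.ofNat 0, Int.ofNat 0, Int.ofNat 2, Int.ofNat 2, Int.ofNat 2, Int.negSucc 1, Int.ofNat 2, Int.ofNat 0, Int.ofNat 0, Int.ofNat 2, Int.ofNat 0, Int.ofNat 0],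
  [Int.negSucc 0, Int.ofNat 1, Int.negSucc 0, Int.ofNat 1, Int.negSucc 0, Int.negSucc 0, Int.negSucc 0, Int.negSucc 0, Int.negSucc 0, Int.negSucc 0, Int.negSucc 0, Int.negSucc 0, Int.negSucc 0, Int.negSucc 0, Int.ofNat 1, Int.ofNat 1, Int.ofNat 1, Int.negSucc 2, Int.ofNat 1, Int.negSucc 0, Int.negSucc 0, Int.ofNat 1, Int.negSucc 0, Int.negSucc 0],
  [Int.ofNat 1, Int.negSucc 0, Int.ofNat 1, Int.negSucc 0, Int.negSucc 0, Int.negSucc 0, Int.negSucc 0, Int.negSucc 0, Int.negSucc 0, Int.negSucc 0, Int.negSucc 0, Int.negSucc 0, Int.negSucc 0, Int.ofNat 1, Int.ofNat 1, Int.ofNat 1, Int.negSucc 2, Int.ofNat 1, Int.negSucc 0, Int.negSucc 0, Int.ofNat 1, Int.negSucc 0, Int.negSucc 0, Int.negSucc 0],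
  [Int.negSucc 0, Int.negSucc 0, Int.negSucc 0, Int.negSucc 0, Int.negSucc 0, Int.negSucc 0, Int.negSucc 0, Int.ofNat 1, Int.negSucc 0, Int.ofNat 1, Int.ofNat 1, Int.ofNat 1, Int.negSucc 0, Int.ofNat 1, Int.ofNat 1, Int.ofNat 1, Int.negSucc 2, Int.ofNat 1, Int.ofNat 1, Int.negSucc 0, Int.ofNat 1, Int.ofNat 1, Int.negSucc 0, Int.negSucc 0],
  [Int.negSucc 0, Int.negSucc 0, Int.ofNat 1, Int.negSucc 0, Int.negSucc 0, Int.ofNat 1, Int.negSucc 0, Int.ofNat 1, Int.ofNat 1, Int.negSucc 2, Int.ofNat 1, Int.ofNat 1, Int.ofNat 1, Int.negSucc 0, Int.negSucc 0, Int.ofNat 1, Int.negSucc 0, Int.negSucc 0, Int.negSucc 0, Int.ofNat 1, Int.negSucc 0, Int.ofNat 1, Int.ofNat 1, Int.negSucc 0],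
  [Int.ofNat 1, Int.negSucc 0, Int.negSucc 0, Int.negSucc 0, Int.negSucc 0, Int.ofNat 1, Int.negSucc 0, Int.negSucc 0, Int.ofNat 1, Int.ofNat 3, Int.negSucc 0, Int.negSucc 0, Int.ofNat 1, Int.negSucc 0, Int.negSucc 0, Int.ofNat 1, Int.negSucc 0, Int.negSucc 0, Int.ofNat 1, Int.ofNat 1, Int.negSucc 0, Int.negSucc 0, Int.ofNat 1, Int.negSucc 0],
  [Int.ofNat 1, Int.ofNat 1, Int.negSucc 0, Int.negSucc 0, Int.negSucc 0, Int.negSucc 0, Int.ofNat 1, Int.negSucc 0, Int.negSucc 0, Int.ofNat 1, Int.ofNat 3, Int.negSucc 0, Int.negSucc 0, Int.ofNat 1, Int.negSucc 0, Int.negSucc 0, Int.ofNat 1, Int.negSucc 0, Int.negSucc 0, Int.ofNat 1, Int.ofNat 1, Int.negSucc 0, Int.negSucc 0, Int.negSucc 0],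
  [Int.negSucc 0, Int.negSucc 0, Int.ofNat 1, Int.ofNat 1, Int.negSucc 0, Int.ofNat 1, Int.ofNat 1, Int.negSucc 0, Int.ofNat 1, Int.negSucc 0, Int.ofNat 1, Int.ofNat 1, Int.ofNat 1, Int.ofNat 1, Int.ofNat 1, Int.negSucc 2, Int.ofNat 1, Int.ofNat 1, Int.ofNat 1, Int.ofNat 1, Int.negSucc 0, Int.negSucc 0, Int.negSucc 0, Int.ofNat 1],
  [Int.ofNat 1, Int.negSucc 0, Int.ofNat 1, Int.ofNat 1, Int.negSucc 0, Int.ofNat 1, Int.negSucc 0, Int.ofNat 1, Int.ofNat 1, Int.ofNat 1, Int.ofNat 1, Int.ofNat 1, Int.negSucc 2, Int.ofNat 1, Int.ofNat 1, Int.ofNat 1, Int.ofNat 1, Int.negSucc 0, Int.negSucc 0, Int.negSucc 0, Int.negSucc 0, Int.negSucc 0, Int.ofNat 1, Int.ofNat 1],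
  [Int.ofNat 0, Int.ofNat 2, Int.ofNat 0, Int.ofNat 0, Int.negSucc 1, Int.ofNat 0, Int.ofNat 0, Int.ofNat 2, Int.ofNat 2, Int.ofNat 0, Int.ofNat 0, Int.ofNat 2, Int.negSucc 1, Int.ofNat 0, Int.ofNat 0, Int.ofNat 0, Int.ofNat 0, Int.negSucc 1, Int.ofNat 0, Int.ofNat 0, Int.negSucc 1, Int.ofNat 0, Int.ofNat 0, Int.ofNat 0],
  [Int.ofNat 0, Int.ofNat 0, Int.negSucc 1, Int.ofNat 0, Int.ofNat 0, Int.ofNat 2, Int.ofNat 0, Int.ofNat 0, Int.negSucc 1, Int.ofNat 0, Int.negSucc 1, Int.negSucc 1, Int.ofNat 0, Int.ofNat 0, Int.ofNat 0, Int.ofNat 0, Int.ofNat 2, Int.ofNat 0, Int.ofNat 2, Int.ofNat 2, Int.ofNat 0, Int.ofNat 0, Int.ofNat 0, Int.ofNat 0],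
  [Int.negSucc 0, Int.negSucc 0, Int.ofNat 1, Int.negSucc 0, Int.negSucc 0, Int.ofNat 1, Int.negSucc 0, Int.negSucc 0, Int.negSucc 0, Int.ofNat 1, Int.negSucc 0, Int.negSucc 0, Int.ofNat 1, Int.negSucc 0, Int.negSucc 0, Int.ofNat 1, Int.ofNat 1, Int.negSucc 0, Int.ofNat 3, Int.ofNat 1, Int.ofNat 1, Int.negSucc 0, Int.negSucc 0, Int.negSucc 0],
  [Int.negSucc 0, Int.negSucc 0, Int.negSucc 0, Int.negSucc 0, Int.negSucc 0, Int.negSucc 0, Int.ofNat 1, Int.negSucc 0, Int.negSucc 0, Int.negSucc 0, Int.ofNat 1, Int.negSucc 0, Int.ofNat 1, Int.negSucc 0, Int.negSucc 0, Int.negSucc 0, Int.ofNat 1, Int.negSucc 0, Int.negSucc 2, Int.ofNat 1, Int.ofNat 1, Int.negSucc 0, Int.ofNat 1, Int.negSucc 0],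
  [Int.ofNat 1, Int.ofNat 1, Int.negSucc 0, Int.negSucc 0, Int.negSucc 0, Int.ofNat 1, Int.negSucc 0, Int.negSucc 0, Int.negSucc 0, Int.ofNat 1, Int.negSucc 0, Int.negSucc 0, Int.negSucc 0, Int.negSucc 0, Int.negSucc 0, Int.negSucc 2, Int.ofNat 1, Int.ofNat 1, Int.negSucc 0, Int.negSucc 0, Int.negSucc 0, Int.negSucc 0, Int.ofNat 1, Int.negSucc 0],
  [Int.negSucc 0, Int.negSucc 0, Int.ofNat 1, Int.ofNat 1, Int.ofNat 1, Int.ofNat 1, Int.ofNat 1, Int.negSucc 0, Int.ofNat 1, Int.negSucc 0, Int.negSucc 0, Int.negSucc 0, Int.ofNat 1, Int.ofNat 1, Int.negSucc 0, Int.negSucc 2, Int.negSucc 0, Int.ofNat 1, Int.ofNat 1, Int.negSucc 0, Int.negSucc 0, Int.negSucc 0, Int.ofNat 1, Int.negSucc 0],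
  [Int.negSucc 0, Int.ofNat 1, Int.negSucc 0, Int.negSucc 2, Int.ofNat 1, Int.negSucc 0, Int.negSucc 0, Int.ofNat 1, Int.negSucc 0, Int.ofNat 1, Int.negSucc 0, Int.ofNat 1, Int.negSucc 0, Int.negSucc 0, Int.ofNat 1, Int.ofNat 1, Int.negSucc 0, Int.ofNat 1, Int.negSucc 0, Int.ofNat 1, Int.ofNat 1, Int.ofNat 1, Int.negSucc 0, Int.negSucc 0],
  [Int.ofNat 1, Int.ofNat 1, Int.ofNat 1, Int.negSucc 2, Int.ofNat 1, Int.negSucc 0, Int.negSucc 0, Int.negSucc 0, Int.negSucc 0, Int.negSucc 0, Int.ofNat 1, Int.negSucc 0, Int.negSucc 0, Int.negSucc 0, Int.ofNat 1, Int.ofNat 1, Int.negSucc 0, Int.ofNat 1, Int.ofNat 1, Int.ofNat 1, Int.ofNat 1, Int.negSucc 0, Int.negSucc 0, Int.negSucc 0],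
  [Int.negSucc 0, Int.ofNat 1, Int.ofNat 1, Int.ofNat 1, Int.negSucc 2, Int.ofNat 1, Int.negSucc 0, Int.negSucc 0, Int.negSucc 0, Int.negSucc 0, Int.negSucc 0, Int.ofNat 1, Int.negSucc 0, Int.negSucc 0, Int.negSucc 0, Int.ofNat 1, Int.ofNat 1, Int.negSucc 0, Int.ofNat 1, Int.ofNat 1, Int.ofNat 1, Int.ofNat 1, Int.negSucc 0, Int.negSucc 0],
  [Int.ofNat 1, Int.negSucc 0, Int.negSucc 0, Int.ofNat 1, Int.negSucc 0, Int.ofNat 1, Int.negSucc 0, Int.negSucc 0, Int.negSucc 0, Int.negSucc 0, Int.negSucc 0, Int.ofNat 1, Int.negSucc 0, Int.ofNat 1, Int.negSucc 0, Int.ofNat 1, Int.ofNat 3, Int.negSucc 0, Int.ofNat 1, Int.ofNat 1, Int.ofNat 1, Int.ofNat 1, Int.ofNat 1, Int.ofNat 1],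
  [Int.ofNat 1, Int.negSucc 0, Int.ofNat 1, Int.negSucc 0, Int.negSucc 0, Int.negSucc 0, Int.negSucc 0, Int.negSucc 0, Int.ofNat 1, Int.negSucc 0, Int.ofNat 1, Int.negSucc 0, Int.ofNat 1, Int.ofNat 3, Int.negSucc 0, Int.ofNat 1, Int.ofNat 1, Int.ofNat 1, Int.ofNat 1, Int.ofNat 1, Int.ofNat 1, Int.negSucc 0, Int.negSucc 0, Int.ofNat 1],
  [Int.ofNat 0, Int.ofNat 2, Int.ofNat 0, Int.ofNat 0, Int.negSucc 1, Int.ofNat 0, Int.ofNat 0, Int.ofNat 0, Int.ofNat 0, Int.negSucc 1, Int.ofNat 0, Int.negSucc 1, Int.ofNat 0, Int.ofNat 2, Int.ofNat 0, Int.ofNat 0, Int.ofNat 0, Int.ofNat 2, Int.ofNat 0, Int.ofNat 2, Int.ofNat 0, Int.ofNat 0, Int.negSucc 1, Int.ofNat 0],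
  [Int.ofNat 0, Int.ofNat 0, Int.negSucc 1, Int.ofNat 0, Int.ofNat 0, Int.ofNat 0, Int.ofNat 0, Int.ofNat 0, Int.ofNat 0, Int.ofNat 2, Int.ofNat 0, Int.ofNat 2, Int.negSucc 1, Int.ofNat 0, Int.negSucc 1, Int.ofNat 0, Int.ofNat 0, Int.ofNat 0, Int.ofNat 2, Int.negSucc 1, Int.ofNat 0, Int.ofNat 0, Int.ofNat 2, Int.ofNat 0],
  [Int.negSucc 0, Int.negSucc 0, Int.ofNat 1, Int.ofNat 1, Int.negSucc 0, Int.ofNat 1, Int.ofNat 1, Int.ofNat 1, Int.negSucc 0, Int.ofNat 1, Int.negSucc 0, Int.ofNat 1, Int.negSucc 2, Int.negSucc 0, Int.negSucc 0, Int.negSucc 0, Int.negSucc 0, Int.ofNat 1, Int.ofNat 1, Int.negSucc 0, Int.negSucc 0, Int.ofNat 1, Int.ofNat 1, Int.negSucc 0],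
  [Int.negSucc 0, Int.negSucc 0, Int.negSucc 0, Int.ofNat 1, Int.negSucc 0, Int.negSucc 0, Int.negSucc 0, Int.ofNat 1, Int.negSucc 0, Int.negSucc 0, Int.ofNat 1, Int.ofNat 1, Int.negSucc 2, Int.negSucc 0, Int.negSucc 0, Int.ofNat 1, Int.negSucc 0, Int.ofNat 1, Int.negSucc 0, Int.negSucc 0, Int.negSucc 0, Int.ofNat 1, Int.negSucc 0, Int.negSucc 0],
  [Int.negSucc 0, Int.negSucc 0, Int.ofNat 1, Int.ofNat 1, Int.negSucc 0, Int.negSucc 0, Int.ofNat 1, Int.ofNat 1, Int.negSucc 0, Int.negSucc 0, Int.negSucc 0, Int.negSucc 0, Int.ofNat 1, Int.negSucc 0, Int.negSucc 0, Int.ofNat 1, Int.negSucc 0, Int.negSucc 0, Int.negSucc 0, Int.ofNat 1, Int.negSucc 0, Int.negSucc 0, Int.negSucc 2, Int.negSucc 0],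
  [Int.negSucc 0, Int.negSucc 0, Int.negSucc 0, Int.ofNat 1, Int.negSucc 0, Int.ofNat 1, Int.negSucc 0, Int.ofNat 1, Int.negSucc 0, Int.ofNat 1, Int.ofNat 1, Int.negSucc 0, Int.ofNat 1, Int.negSucc 0, Int.negSucc 0, Int.negSucc 0, Int.negSucc 0, Int.negSucc 0, Int.ofNat 1, Int.ofNat 1, Int.negSucc 0, Int.negSucc 0, Int.ofNat 3, Int.negSucc 0],
  [Int.negSucc 0, Int.negSucc 0, Int.negSucc 0, Int.ofNat 1, Int.negSucc 0, Int.ofNat 1, Int.negSucc 0, Int.ofNat 1, Int.negSucc 0, Int.ofNat 1, Int.ofNat 1, Int.negSucc 0, Int.ofNat 1, Int.negSucc 0, Int.negSucc 0, Int.negSucc 0, Int.negSucc 0, Int.negSucc 0, Int.ofNat 1, Int.ofNat 1, Int.negSucc 0, Int.negSucc 0, Int.ofNat 3, Int.negSucc 0],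
  [Int.negSucc 0, Int.ofNat 1, Int.negSucc 0, Int.ofNat 1, Int.negSucc 0, Int.negSucc 0, Int.negSucc 0, Int.ofNat 1, Int.negSucc 0, Int.ofNat 1, Int.ofNat 1, Int.ofNat 1, Int.negSucc 0, Int.ofNat 1, Int.negSucc 0, Int.negSucc 0, Int.negSucc 0, Int.negSucc 0, Int.negSucc 0, Int.ofNat 3, Int.ofNat 1, Int.negSucc 0, Int.negSucc 0, Int.negSucc 0],
  [Int.ofNat 0, Int.negSucc 1, Int.ofNat 0, Int.ofNat 2, Int.ofNat 0, Int.ofNat 0, Int.negSucc 1, Int.ofNat 0, Int.ofNat 0, Int.ofNat 0, Int.ofNat 0, Int.ofNat 2, Int.ofNat 0, Int.ofNat 2, Int.ofNat 0, Int.negSucc 1, Int.ofNat 0, Int.ofNat 0, Int.ofNat 0, Int.ofNat 2, Int.ofNat 0, Int.negSucc 1, Int.ofNat 0, Int.ofNat 0],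
  [Int.ofNat 0, Int.negSucc 1, Int.ofNat 0, Int.ofNat 0, Int.negSucc 1, Int.ofNat 0, Int.ofNat 2, Int.ofNat 0, Int.ofNat 0, Int.negSucc 1, Int.ofNat 0, Int.ofNat 0, Int.ofNat 0, Int.ofNat 0, Int.ofNat 2, Int.ofNat 0, Int.ofNat 2, Int.ofNat 0, Int.negSucc 1, Int.ofNat 0, Int.ofNat 0, Int.ofNat 0, Int.ofNat 2, Int.ofNat 0],
  [Int.negSucc 0, Int.ofNat 1, Int.negSucc 0, Int.negSucc 0, Int.negSucc 2, Int.negSucc 0, Int.ofNat 1, Int.negSucc 0, Int.ofNat 1, Int.negSucc 0, Int.ofNat 1, Int.ofNat 1, Int.ofNat 1, Int.negSucc 0, Int.ofNat 1, Int.ofNat 1, Int.ofNat 1, Int.negSucc 0, Int.negSucc 0, Int.negSucc 0, Int.ofNat 1, Int.negSucc 0, Int.ofNat 1, Int.negSucc 0],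
  [Int.ofNat 1, Int.negSucc 0, Int.negSucc 0, Int.negSucc 2, Int.negSucc 0, Int.ofNat 1, Int.negSucc 0, Int.ofNat 1, Int.negSucc 0, Int.ofNat 1, Int.ofNat 1, Int.ofNat 1, Int.negSucc 0, Int.ofNat 1, Int.ofNat 1, Int.ofNat 1, Int.negSucc 0, Int.negSucc 0, Int.negSucc 0, Int.ofNat 1, Int.negSucc 0, Int.ofNat 1, Int.negSucc 0, Int.negSucc 0],
  [Int.negSucc 0, Int.negSucc 0, Int.ofNat 1, Int.negSucc 2, Int.negSucc 0, Int.ofNat 1, Int.negSucc 0, Int.negSucc 0, Int.negSucc 0, Int.negSucc 0, Int.negSucc 0, Int.negSucc 0, Int.negSucc 0, Int.ofNat 1, Int.ofNat 1, Int.ofNat 1, Int.negSucc 0, Int.negSucc 0, Int.ofNat 1, Int.ofNat 1, Int.negSucc 0, Int.negSucc 0, Int.negSucc 0, Int.negSucc 0],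
  [Int.negSucc 0, Int.ofNat 1, Int.ofNat 1, Int.negSucc 2, Int.negSucc 0, Int.negSucc 0, Int.negSucc 0, Int.negSucc 0, Int.negSucc 0, Int.negSucc 0, Int.negSucc 0, Int.ofNat 1, Int.ofNat 1, Int.negSucc 0, Int.ofNat 1, Int.ofNat 1, Int.negSucc 0, Int.negSucc 0, Int.negSucc 0, Int.negSucc 0, Int.ofNat 1, Int.negSucc 0, Int.negSucc 0, Int.negSucc 0],
  [Int.ofNat 1, Int.ofNat 1, Int.negSucc 0, Int.negSucc 2, Int.negSucc 0, Int.negSucc 0, Int.negSucc 0, Int.ofNat 1, Int.negSucc 0, Int.ofNat 1, Int.ofNat 1, Int.negSucc 0, Int.ofNat 1, Int.negSucc 0, Int.ofNat 1, Int.ofNat 1, Int.negSucc 0, Int.negSucc 0, Int.ofNat 1, Int.negSucc 0, Int.ofNat 1, Int.ofNat 1, Int.negSucc 0, Int.negSucc 0],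
  [Int.negSucc 0, Int.ofNat 1, Int.ofNat 1, Int.negSucc 0, Int.negSucc 2, Int.negSucc 0, Int.negSucc 0, Int.negSucc 0, Int.ofNat 1, Int.negSucc 0, Int.ofNat 1, Int.ofNat 1, Int.negSucc 0, Int.ofNat 1, Int.negSucc 0, Int.ofNat 1, Int.ofNat 1, Int.negSucc 0, Int.negSucc 0, Int.ofNat 1, Int.negSucc 0, Int.ofNat 1, Int.ofNat 1, Int.negSucc 0],
  [Int.ofNat 1, Int.negSucc 0, Int.negSucc 0, Int.ofNat 1, Int.negSucc 2, Int.ofNat 1, Int.negSucc 0, Int.negSucc 0, Int.ofNat 1, Int.negSucc 0, Int.ofNat 1, Int.ofNat 1, Int.negSucc 0, Int.ofNat 1, Int.ofNat 1, Int.ofNat 1, Int.ofNat 1, Int.ofNat 1, Int.negSucc 0, Int.ofNat 1, Int.negSucc 0, Int.ofNat 1, Int.ofNat 1, Int.ofNat 1],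
  [Int.ofNat 1, Int.negSucc 2, Int.ofNat 1, Int.negSucc 0, Int.negSucc 0, Int.ofNat 1, Int.negSucc 0, Int.ofNat 1, Int.ofNat 1, Int.negSucc 0, Int.ofNat 1, Int.ofNat 1, Int.ofNat 1, Int.ofNat 1, Int.ofNat 1, Int.negSucc 0, Int.ofNat 1, Int.negSucc 0, Int.ofNat 1, Int.ofNat 1, Int.ofNat 1, Int.negSucc 0, Int.negSucc 0, Int.ofNat 1],
  [Int.negSucc 0, Int.ofNat 3, Int.negSucc 0, Int.negSucc 0, Int.negSucc 0, Int.ofNat 1, Int.negSucc 0, Int.ofNat 1, Int.negSucc 0, Int.negSucc 0, Int.ofNat 1, Int.negSucc 0, Int.negSucc 0, Int.ofNat 1, Int.ofNat 1, Int.negSucc 0, Int.ofNat 1, Int.negSucc 0, Int.negSucc 0, Int.ofNat 1, Int.ofNat 1, Int.negSucc 0, Int.negSucc 0, Int.negSucc 0],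
  [Int.negSucc 0, Int.negSucc 0, Int.negSucc 0, Int.negSucc 0, Int.negSucc 0, Int.ofNat 1, Int.negSucc 0, Int.ofNat 1, Int.negSucc 0, Int.ofNat 1, Int.ofNat 1, Int.negSucc 0, Int.negSucc 0, Int.ofNat 1, Int.negSucc 0, Int.negSucc 0, Int.negSucc 0, Int.ofNat 1, Int.ofNat 3, Int.negSucc 0, Int.negSucc 0, Int.ofNat 1, Int.ofNat 1, Int.negSucc 0],
  [Int.negSucc 0, Int.negSucc 0, Int.negSucc 0, Int.negSucc 0, Int.negSucc 0, Int.ofNat 1, Int.negSucc 0, Int.ofNat 1, Int.negSucc 0, Int.ofNat 1, Int.ofNat 1, Int.negSucc 0, Int.negSucc 0, Int.ofNat 1, Int.negSucc 0, Int.negSucc 0, Int.negSucc 0, Int.ofNat 1, Int.ofNat 3, Int.negSucc 0, Int.negSucc 0, Int.ofNat 1, Int.ofNat 1, Int.negSucc 0],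
  [Int.negSucc 0, Int.negSucc 0, Int.ofNat 1, Int.negSucc 0, Int.negSucc 0, Int.negSucc 0, Int.ofNat 1, Int.ofNat 1, Int.negSucc 0, Int.negSucc 0, Int.negSucc 0, Int.negSucc 0, Int.negSucc 0, Int.ofNat 1, Int.negSucc 0, Int.ofNat 1, Int.negSucc 0, Int.ofNat 1, Int.negSucc 2, Int.negSucc 0, Int.negSucc 0, Int.ofNat 1, Int.negSucc 0, Int.negSucc 0],
  [Int.negSucc 0, Int.negSucc 0, Int.negSucc 0, Int.negSucc 0, Int.negSucc 0, Int.ofNat 1, Int.ofNat 1, Int.negSucc 0, Int.negSucc 0, Int.negSucc 0, Int.ofNat 1, Int.ofNat 1, Int.ofNat 1, Int.negSucc 0, Int.ofNat 1, Int.negSucc 2, Int.negSucc 0, Int.negSucc 0, Int.negSucc 0, Int.ofNat 1, Int.negSucc 0, Int.negSucc 0, Int.negSucc 0, Int.negSucc 0],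
  [Int.ofNat 1, Int.ofNat 1, Int.ofNat 1, Int.ofNat 1, Int.ofNat 1, Int.ofNat 1, Int.negSucc 0, Int.negSucc 0, Int.ofNat 1, Int.ofNat 1, Int.ofNat 1, Int.ofNat 1, Int.negSucc 0, Int.ofNat 1, Int.ofNat 1, Int.negSucc 2, Int.ofNat 1, Int.negSucc 0, Int.ofNat 1, Int.ofNat 1, Int.negSucc 0, Int.negSucc 0, Int.negSucc 0, Int.negSucc 0],
  [Int.negSucc 0, Int.negSucc 0, Int.ofNat 1, Int.negSucc 2, Int.negSucc 0, Int.ofNat 1, Int.ofNat 1, Int.ofNat 1, Int.negSucc 0, Int.ofNat 1, Int.ofNat 1, Int.ofNat 1, Int.negSucc 0, Int.negSucc 0, Int.ofNat 1, Int.ofNat 1, Int.ofNat 1, Int.ofNat 1, Int.ofNat 1, Int.negSucc 0, Int.ofNat 1, Int.negSucc 0, Int.ofNat 1, Int.ofNat 1],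
  [Int.ofNat 1, Int.negSucc 0, Int.negSucc 0, Int.negSucc 2, Int.negSucc 0, Int.ofNat 1, Int.ofNat 1, Int.negSucc 0, Int.negSucc 0, Int.negSucc 0, Int.negSucc 0, Int.negSucc 0, Int.negSucc 0, Int.negSucc 0, Int.ofNat 1, Int.ofNat 1, Int.ofNat 1, Int.ofNat 1, Int.negSucc 0, Int.negSucc 0, Int.ofNat 1, Int.ofNat 1, Int.ofNat 1, Int.ofNat 1],
  [Int.ofNat 1, Int.ofNat 1, Int.negSucc 0, Int.negSucc 0, Int.negSucc 2, Int.negSucc 0, Int.ofNat 1, Int.ofNat 1, Int.negSucc 0, Int.negSucc 0, Int.negSucc 0, Int.negSucc 0, Int.negSucc 0, Int.negSucc 0, Int.negSucc 0, Int.ofNat 1, Int.ofNat 1, Int.ofNat 1, Int.ofNat 1, Int.negSucc 0, Int.negSucc 0, Int.ofNat 1, Int.ofNat 1, Int.ofNat 1],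
  [Int.ofNat 0, Int.ofNat 0, Int.ofNat 2, Int.ofNat 0, Int.negSucc 1, Int.ofNat 0, Int.ofNat 0, Int.ofNat 0, Int.ofNat 0, Int.ofNat 0, Int.ofNat 0, Int.ofNat 0, Int.ofNat 0, Int.ofNat 0, Int.ofNat 0, Int.ofNat 2, Int.ofNat 2, Int.ofNat 2, Int.ofNat 2, Int.negSucc 1, Int.ofNat 0, Int.ofNat 0, Int.ofNat 2, Int.ofNat 0],
  [Int.ofNat 0, Int.negSucc 1, Int.ofNat 0, Int.ofNat 0, Int.ofNat 0, Int.ofNat 0, Int.ofNat 0, Int.ofNat 0, Int.ofNat 0, Int.ofNat 0, Int.ofNat 0, Int.ofNat 0, Int.ofNat 2, Int.ofNat 2, Int.ofNat 2, Int.ofNat 2, Int.negSucc 1, Int.ofNat 0, Int.ofNat 0, Int.ofNat 2, Int.ofNat 0, Int.ofNat 0, Int.ofNat 2, Int.ofNat 0],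
  [Int.negSucc 0, Int.ofNat 1, Int.negSucc 0, Int.negSucc 0, Int.negSucc 0, Int.negSucc 0, Int.negSucc 0, Int.negSucc 0, Int.negSucc 0, Int.negSucc 0, Int.negSucc 0, Int.negSucc 0, Int.ofNat 1, Int.ofNat 1, Int.ofNat 1, Int.ofNat 1, Int.negSucc 2, Int.negSucc 0, Int.negSucc 0, Int.ofNat 1, Int.negSucc 0, Int.negSucc 0, Int.ofNat 1, Int.negSucc 0],
  [Int.negSucc 0, Int.negSucc 0, Int.negSucc 0, Int.negSucc 0, Int.negSucc 0, Int.negSucc 0, Int.negSucc 0, Int.negSucc 0, Int.ofNat 1, Int.ofNat 1, Int.negSucc 0, Int.negSucc 0, Int.negSucc 0, Int.negSucc 2, Int.ofNat 1, Int.ofNat 1, Int.negSucc 0, Int.ofNat 1, Int.ofNat 1, Int.negSucc 0, Int.negSucc 0, Int.negSucc 0, Int.ofNat 1, Int.negSucc 0],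
  [Int.negSucc 0, Int.negSucc 0, Int.negSucc 0, Int.negSucc 0, Int.ofNat 1, Int.negSucc 0, Int.ofNat 1, Int.ofNat 1, Int.ofNat 1, Int.ofNat 1, Int.negSucc 0, Int.negSucc 0, Int.negSucc 0, Int.negSucc 0, Int.ofNat 1, Int.ofNat 1, Int.ofNat 1, Int.ofNat 1, Int.ofNat 1, Int.ofNat 1, Int.negSucc 0, Int.ofNat 1, Int.ofNat 3, Int.negSucc 0],
  [Int.negSucc 0, Int.negSucc 0, Int.ofNat 1, Int.negSucc 0, Int.ofNat 1, Int.ofNat 1, Int.negSucc 0, Int.ofNat 1, Int.ofNat 1, Int.negSucc 0, Int.ofNat 1, Int.negSucc 0, Int.negSucc 0, Int.negSucc 0, Int.ofNat 1, Int.negSucc 0, Int.ofNat 1, Int.ofNat 1, Int.negSucc 0, Int.ofNat 1, Int.negSucc 0, Int.ofNat 1, Int.negSucc 2, Int.negSucc 0],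
  [Int.negSucc 0, Int.ofNat 1, Int.ofNat 1, Int.negSucc 0, Int.ofNat 1, Int.ofNat 1, Int.ofNat 1, Int.ofNat 1, Int.negSucc 0, Int.ofNat 1, Int.negSucc 0, Int.negSucc 0, Int.negSucc 0, Int.negSucc 0, Int.negSucc 2, Int.negSucc 0, Int.ofNat 1, Int.negSucc 0, Int.negSucc 0, Int.ofNat 1, Int.ofNat 1, Int.ofNat 1, Int.negSucc 0, Int.negSucc 0],
  [Int.negSucc 0, Int.ofNat 1, Int.negSucc 0, Int.negSucc 0, Int.ofNat 1, Int.negSucc 0, Int.negSucc 0, Int.ofNat 1, Int.negSucc 0, Int.negSucc 0, Int.ofNat 1, Int.negSucc 0, Int.negSucc 0, Int.negSucc 0, Int.negSucc 2, Int.ofNat 1, Int.ofNat 1, Int.negSucc 0, Int.ofNat 1, Int.ofNat 1, Int.ofNat 1, Int.ofNat 1, Int.ofNat 1, Int.negSucc 0],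
  [Int.ofNat 0, Int.negSucc 1, Int.ofNat 0, Int.ofNat 2, Int.ofNat 0, Int.ofNat 2, Int.negSucc 1, Int.ofNat 0, Int.ofNat 0, Int.negSucc 1, Int.ofNat 0, Int.ofNat 0, Int.ofNat 0, Int.negSucc 1, Int.ofNat 0, Int.ofNat 0, Int.ofNat 0, Int.ofNat 2, Int.ofNat 2, Int.ofNat 0, Int.ofNat 0, Int.ofNat 0, Int.ofNat 0, Int.ofNat 0],
  [Int.ofNat 0, Int.ofNat 2, Int.negSucc 1, Int.ofNat 2, Int.ofNat 0, Int.ofNat 0, Int.negSucc 1, Int.ofNat 2, Int.ofNat 0, Int.ofNat 0, Int.ofNat 0, Int.ofNat 0, Int.ofNat 0, Int.negSucc 1, Int.ofNat 2, Int.ofNat 0, Int.negSucc 1, Int.ofNat 0, Int.ofNat 0, Int.ofNat 0, Int.ofNat 0, Int.ofNat 0, Int.ofNat 0, Int.ofNat 0],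
  [Int.ofNat 0, Int.negSucc 1, Int.ofNat 2, Int.ofNat 0, Int.ofNat 2, Int.negSucc 1, Int.negSucc 1, Int.ofNat 2, Int.ofNat 0, Int.ofNat 0, Int.ofNat 0, Int.ofNat 0, Int.ofNat 0, Int.ofNat 0, Int.ofNat 0, Int.ofNat 0, Int.ofNat 0, Int.negSucc 1, Int.ofNat 0, Int.ofNat 0, Int.ofNat 0, Int.ofNat 0, Int.ofNat 2, Int.ofNat 0],
  [Int.ofNat 0, Int.ofNat 0, Int.ofNat 2, Int.ofNat 0, Int.negSucc 1, Int.ofNat 2, Int.ofNat 0, Int.ofNat 2, Int.negSucc 1, Int.negSucc 1, Int.ofNat 2, Int.ofNat 0, Int.ofNat 0, Int.ofNat 0, Int.ofNat 0, Int.ofNat 0, Int.ofNat 0, Int.ofNat 0, Int.ofNat 0, Int.ofNat 0, Int.negSucc 1, Int.ofNat 0, Int.ofNat 0, Int.ofNat 0],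
  [Int.ofNat 1, Int.ofNat 1, Int.negSucc 0, Int.negSucc 0, Int.negSucc 0, Int.ofNat 1, Int.negSucc 0, Int.ofNat 1, Int.negSucc 0, Int.negSucc 0, Int.ofNat 3, Int.ofNat 1, Int.ofNat 1, Int.ofNat 1, Int.negSucc 0, Int.ofNat 1, Int.ofNat 1, Int.negSucc 0, Int.ofNat 1, Int.negSucc 0, Int.negSucc 0, Int.negSucc 0, Int.ofNat 1, Int.ofNat 1],
  [Int.ofNat 1, Int.negSucc 0, Int.negSucc 0, Int.negSucc 0, Int.ofNat 1, Int.negSucc 0, Int.ofNat 1, Int.negSucc 0, Int.negSucc 0, Int.ofNat 3, Int.ofNat 1, Int.ofNat 1, Int.ofNat 1, Int.negSucc 0, Int.ofNat 1, Int.ofNat 1, Int.negSucc 0, Int.ofNat 1, Int.negSucc 0, Int.negSucc 0, Int.negSucc 0, Int.ofNat 1, Int.ofNat 1, Int.ofNat 1],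
  [Int.negSucc 0, Int.negSucc 0, Int.ofNat 1, Int.negSucc 0, Int.ofNat 1, Int.negSucc 0, Int.ofNat 1, Int.ofNat 1, Int.negSucc 0, Int.negSucc 2, Int.negSucc 0, Int.negSucc 0, Int.ofNat 1, Int.negSucc 0, Int.ofNat 1, Int.ofNat 1, Int.negSucc 0, Int.ofNat 1, Int.ofNat 1, Int.negSucc 0, Int.negSucc 0, Int.negSucc 0, Int.ofNat 1, Int.ofNat 1],
  [Int.negSucc 0, Int.ofNat 1, Int.ofNat 1, Int.negSucc 0, Int.negSucc 0, Int.negSucc 0, Int.ofNat 1, Int.negSucc 0, Int.negSucc 2, Int.negSucc 0, Int.negSucc 0, Int.ofNat 1, Int.negSucc 0, Int.negSucc 0, Int.negSucc 0, Int.ofNat 1, Int.ofNat 1, Int.ofNat 1, Int.ofNat 1, Int.ofNat 1, Int.negSucc 0, Int.ofNat 1, Int.negSucc 0, Int.ofNat 1],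
  [Int.ofNat 1, Int.ofNat 1, Int.negSucc 0, Int.negSucc 0, Int.negSucc 0, Int.negSucc 0, Int.ofNat 1, Int.ofNat 1, Int.negSucc 2, Int.ofNat 1, Int.ofNat 1, Int.negSucc 0, Int.negSucc 0, Int.negSucc 0, Int.negSucc 0, Int.ofNat 1, Int.ofNat 1, Int.ofNat 1, Int.negSucc 0, Int.ofNat 1, Int.negSucc 0, Int.negSucc 0, Int.negSucc 0, Int.ofNat 1],
  [Int.negSucc 0, Int.ofNat 1, Int.ofNat 1, Int.negSucc 0, Int.negSucc 0, Int.negSucc 0, Int.negSucc 0, Int.ofNat 1, Int.ofNat 1, Int.negSucc 2, Int.ofNat 1, Int.ofNat 1, Int.negSucc 0, Int.negSucc 0, Int.negSucc 0, Int.negSucc 0, Int.ofNat 1, Int.ofNat 1, Int.ofNat 1, Int.negSucc 0, Int.ofNat 1, Int.negSucc 0, Int.negSucc 0, Int.ofNat 1],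
  [Int.ofNat 2, Int.ofNat 0, Int.ofNat 0, Int.ofNat 0, Int.ofNat 0, Int.ofNat 0, Int.ofNat 0, Int.ofNat 2, Int.ofNat 0, Int.negSucc 1, Int.ofNat 2, Int.ofNat 0, Int.negSucc 1, Int.ofNat 0, Int.ofNat 0, Int.ofNat 0, Int.ofNat 2, Int.ofNat 2, Int.ofNat 0, Int.ofNat 0, Int.ofNat 2, Int.ofNat 0, Int.ofNat 0, Int.ofNat 0],
  [Int.ofNat 0, Int.ofNat 0, Int.ofNat 0, Int.ofNat 0, Int.ofNat 2, Int.ofNat 0, Int.negSucc 1, Int.ofNat 2, Int.ofNat 0, Int.negSucc 1, Int.ofNat 0, Int.ofNat 0, Int.ofNat 0, Int.ofNat 2, Int.ofNat 2, Int.ofNat 0, Int.ofNat 0, Int.ofNat 2, Int.ofNat 0, Int.ofNat 0, Int.ofNat 2, Int.ofNat 0, Int.ofNat 0, Int.ofNat 0],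
  [Int.ofNat 0, Int.ofNat 0, Int.ofNat 0, Int.negSucc 1, Int.ofNat 0, Int.negSucc 1, Int.negSucc 1, Int.ofNat 2, Int.ofNat 0, Int.negSucc 1, Int.ofNat 0, Int.ofNat 0, Int.ofNat 0, Int.ofNat 0, Int.ofNat 0, Int.ofNat 0, Int.negSucc 1, Int.ofNat 0, Int.ofNat 0, Int.ofNat 0, Int.ofNat 2, Int.ofNat 0, Int.negSucc 1, Int.ofNat 0],
  [Int.ofNat 0, Int.negSucc 1, Int.ofNat 0, Int.negSucc 1, Int.ofNat 0, Int.ofNat 2, Int.ofNat 0, Int.ofNat 0, Int.ofNat 0, Int.ofNat 0, Int.ofNat 2, Int.ofNat 0, Int.negSucc 1, Int.negSucc 1, Int.negSucc 1, Int.ofNat 0, Int.ofNat 0, Int.ofNat 0, Int.ofNat 0, Int.ofNat 0, Int.ofNat 0, Int.negSucc 1, Int.ofNat 0, Int.ofNat 0],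
  [Int.negSucc 0, Int.ofNat 1, Int.negSucc 0, Int.negSucc 0, Int.ofNat 1, Int.ofNat 3, Int.ofNat 1, Int.ofNat 1, Int.ofNat 1, Int.negSucc 0, Int.ofNat 1, Int.ofNat 1, Int.negSucc 0, Int.negSucc 0, Int.negSucc 0, Int.negSucc 0, Int.ofNat 1, Int.ofNat 1, Int.ofNat 1, Int.ofNat 1, Int.negSucc 0, Int.negSucc 0, Int.ofNat 1, Int.negSucc 0],
  [Int.negSucc 0, Int.ofNat 1, Int.ofNat 1, Int.negSucc 0, Int.ofNat 1, Int.negSucc 2, Int.negSucc 0, Int.ofNat 1, Int.ofNat 1, Int.ofNat 1, Int.negSucc 0, Int.ofNat 1, Int.negSucc 0, Int.negSucc 0, Int.negSucc 0, Int.ofNat 1, Int.ofNat 1, Int.ofNat 1, Int.negSucc 0, Int.ofNat 1, Int.negSucc 0, Int.negSucc 0, Int.negSucc 0, Int.negSucc 0],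
  [Int.negSucc 0, Int.ofNat 1, Int.ofNat 1, Int.ofNat 1, Int.negSucc 0, Int.negSucc 0, Int.negSucc 0, Int.negSucc 0, Int.negSucc 2, Int.negSucc 0, Int.negSucc 0, Int.ofNat 1, Int.ofNat 1, Int.ofNat 1, Int.ofNat 1, Int.negSucc 0, Int.ofNat 1, Int.negSucc 0, Int.ofNat 1, Int.ofNat 1, Int.negSucc 0, Int.ofNat 1, Int.negSucc 0, Int.negSucc 0],
  [Int.ofNat 1, Int.negSucc 0, Int.negSucc 0, Int.negSucc 0, Int.ofNat 1, Int.negSucc 0, Int.ofNat 1, Int.negSucc 0, Int.ofNat 3, Int.ofNat 1, Int.negSucc 0, Int.ofNat 1, Int.negSucc 0, Int.negSucc 0, Int.ofNat 1, Int.negSucc 0, Int.negSucc 0, Int.negSucc 0, Int.negSucc 0, Int.ofNat 1, Int.negSucc 0, Int.ofNat 1, Int.negSucc 0, Int.negSucc 0],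
  [Int.negSucc 0, Int.negSucc 0, Int.ofNat 1, Int.negSucc 0, Int.negSucc 0, Int.ofNat 1, Int.ofNat 1, Int.negSucc 0, Int.negSucc 0, Int.negSucc 0, Int.negSucc 0, Int.negSucc 0, Int.ofNat 1, Int.negSucc 0, Int.negSucc 0, Int.negSucc 0, Int.negSucc 0, Int.ofNat 1, Int.ofNat 1, Int.ofNat 1, Int.ofNat 3, Int.negSucc 0, Int.negSucc 0, Int.ofNat 1],
  [Int.ofNat 1, Int.negSucc 0, Int.negSucc 0, Int.negSucc 0, Int.negSucc 0, Int.ofNat 1, Int.ofNat 1, Int.ofNat 1, Int.negSucc 0, Int.ofNat 1, Int.ofNat 1, Int.ofNat 1, Int.ofNat 1, Int.negSucc 0, Int.negSucc 0, Int.negSucc 0, Int.negSucc 0, Int.ofNat 1, Int.negSucc 0, Int.ofNat 1, Int.ofNat 3, Int.ofNat 1, Int.negSucc 0, Int.ofNat 1],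
  [Int.negSucc 0, Int.ofNat 1, Int.negSucc 0, Int.negSucc 0, Int.negSucc 0, Int.negSucc 0, Int.ofNat 1, Int.ofNat 1, Int.ofNat 1, Int.negSucc 0, Int.ofNat 1, Int.ofNat 1, Int.ofNat 1, Int.ofNat 1, Int.negSucc 0, Int.negSucc 0, Int.negSucc 0, Int.negSucc 0, Int.ofNat 1, Int.negSucc 0, Int.ofNat 1, Int.ofNat 3, Int.ofNat 1, Int.ofNat 1],
  [Int.ofNat 1, Int.negSucc 0, Int.ofNat 1, Int.ofNat 1, Int.negSucc 0, Int.ofNat 1, Int.negSucc 0, Int.negSucc 0, Int.negSucc 0, Int.negSucc 0, Int.ofNat 1, Int.negSucc 0, Int.negSucc 0, Int.ofNat 1, Int.ofNat 1, Int.negSucc 0, Int.negSucc 0, Int.ofNat 1, Int.negSucc 0, Int.negSucc 2, Int.ofNat 1, Int.ofNat 1, Int.ofNat 1, Int.negSucc 0],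
  [Int.ofNat 1, Int.negSucc 0, Int.ofNat 1, Int.negSucc 0, Int.negSucc 0, Int.negSucc 0, Int.negSucc 0, Int.ofNat 1, Int.negSucc 0, Int.negSucc 0, Int.ofNat 1, Int.ofNat 1, Int.negSucc 0, Int.negSucc 0, Int.ofNat 1, Int.negSucc 0, Int.negSucc 2, Int.ofNat 1, Int.ofNat 1, Int.ofNat 1, Int.ofNat 1, Int.negSucc 0, Int.ofNat 1, Int.negSucc 0],
  [Int.negSucc 0, Int.ofNat 1, Int.negSucc 0, Int.negSucc 0, Int.ofNat 1, Int.negSucc 0, Int.negSucc 0, Int.ofNat 1, Int.negSucc 0, Int.negSucc 0, Int.ofNat 1, Int.ofNat 1, Int.negSucc 0, Int.ofNat 1, Int.ofNat 1, Int.negSucc 0, Int.negSucc 0, Int.ofNat 1, Int.ofNat 1, Int.ofNat 1, Int.ofNat 1, Int.negSucc 0, Int.ofNat 3, Int.ofNat 1],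
  [Int.negSucc 0, Int.negSucc 0, Int.ofNat 1, Int.negSucc 0, Int.ofNat 1, Int.ofNat 1, Int.negSucc 0, Int.ofNat 1, Int.negSucc 0, Int.ofNat 1, Int.ofNat 1, Int.ofNat 1, Int.negSucc 0, Int.negSucc 0, Int.ofNat 3, Int.negSucc 0, Int.negSucc 0, Int.ofNat 1, Int.ofNat 1, Int.ofNat 1, Int.negSucc 0, Int.negSucc 0, Int.ofNat 1, Int.ofNat 1],
  [Int.ofNat 1, Int.ofNat 1, Int.negSucc 0, Int.negSucc 2, Int.ofNat 1, Int.negSucc 0, Int.negSucc 0, Int.ofNat 1, Int.negSucc 0, Int.ofNat 1, Int.ofNat 1, Int.ofNat 1, Int.negSucc 0, Int.negSucc 0, Int.ofNat 1, Int.negSucc 0, Int.negSucc 0, Int.negSucc 0, Int.ofNat 1, Int.ofNat 1, Int.negSucc 0, Int.negSucc 0, Int.ofNat 1, Int.negSucc 0],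
  [Int.ofNat 1, Int.ofNat 1, Int.ofNat 1, Int.negSucc 2, Int.ofNat 1, Int.ofNat 1, Int.ofNat 1, Int.ofNat 1, Int.negSucc 0, Int.negSucc 0, Int.negSucc 0, Int.ofNat 1, Int.negSucc 0, Int.negSucc 0, Int.ofNat 1, Int.ofNat 1, Int.negSucc 0, Int.negSucc 0, Int.negSucc 0, Int.ofNat 1, Int.negSucc 0, Int.negSucc 0, Int.negSucc 0, Int.negSucc 0],
  [Int.negSucc 0, Int.ofNat 1, Int.negSucc 0, Int.ofNat 1, Int.ofNat 1, Int.negSucc 0, Int.negSucc 0, Int.negSucc 0, Int.ofNat 1, Int.ofNat 1, Int.negSucc 0, Int.ofNat 1, Int.ofNat 1, Int.ofNat 1, Int.negSucc 0, Int.negSucc 2, Int.ofNat 1, Int.negSucc 0, Int.negSucc 0, Int.ofNat 1, Int.ofNat 1, Int.negSucc 0, Int.negSucc 0, Int.negSucc 0],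
  [Int.negSucc 0, Int.ofNat 1, Int.ofNat 1, Int.ofNat 1, Int.ofNat 1, Int.ofNat 1, Int.ofNat 1, Int.negSucc 0, Int.ofNat 1, Int.negSucc 0, Int.ofNat 1, Int.ofNat 1, Int.ofNat 1, Int.ofNat 1, Int.negSucc 0, Int.ofNat 3, Int.ofNat 1, Int.negSucc 0, Int.ofNat 1, Int.ofNat 1, Int.ofNat 1, Int.negSucc 0, Int.ofNat 1, Int.negSucc 0],
  [Int.ofNat 1, Int.negSucc 0, Int.negSucc 0, Int.ofNat 1, Int.negSucc 0, Int.ofNat 1, Int.ofNat 1, Int.negSucc 0, Int.negSucc 0, Int.negSucc 2, Int.negSucc 0, Int.negSucc 0, Int.negSucc 0, Int.negSucc 0, Int.negSucc 0, Int.ofNat 1, Int.negSucc 0, Int.negSucc 0, Int.negSucc 0, Int.ofNat 1, Int.negSucc 0, Int.negSucc 0, Int.negSucc 0, Int.ofNat 1],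
  [Int.ofNat 1, Int.negSucc 0, Int.ofNat 1, Int.ofNat 1, Int.negSucc 0, Int.negSucc 0, Int.negSucc 0, Int.ofNat 1, Int.negSucc 0, Int.negSucc 0, Int.negSucc 0, Int.ofNat 1, Int.negSucc 0, Int.negSucc 2, Int.negSucc 0, Int.ofNat 1, Int.negSucc 0, Int.negSucc 0, Int.negSucc 0, Int.negSucc 0, Int.negSucc 0, Int.negSucc 0, Int.negSucc 0, Int.ofNat 1],
  [Int.ofNat 0, Int.ofNat 2, Int.ofNat 0, Int.ofNat 2, Int.ofNat 2, Int.ofNat 0, Int.ofNat 0, Int.ofNat 2, Int.ofNat 0, Int.ofNat 0, Int.ofNat 0, Int.ofNat 2, Int.ofNat 0, Int.ofNat 0, Int.ofNat 0, Int.ofNat 2, Int.ofNat 2, Int.ofNat 0, Int.ofNat 0, Int.ofNat 0, Int.ofNat 0, Int.ofNat 0, Int.ofNat 2, Int.ofNat 0],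
  [Int.ofNat 0, Int.ofNat 0, Int.ofNat 2, Int.ofNat 0, Int.ofNat 2, Int.ofNat 0, Int.ofNat 2, Int.ofNat 2, Int.ofNat 0, Int.ofNat 0, Int.ofNat 2, Int.ofNat 0, Int.ofNat 0, Int.ofNat 0, Int.ofNat 2, Int.ofNat 0, Int.ofNat 0, Int.ofNat 0, Int.ofNat 2, Int.ofNat 2, Int.ofNat 0, Int.ofNat 0, Int.ofNat 0, Int.ofNat 0],
  [Int.ofNat 1, Int.ofNat 1, Int.negSucc 0, Int.negSucc 0, Int.ofNat 1, Int.negSucc 0, Int.negSucc 0, Int.negSucc 0, Int.negSucc 0, Int.negSucc 0, Int.ofNat 1, Int.negSucc 0, Int.negSucc 0, Int.negSucc 0, Int.ofNat 1, Int.negSucc 0, Int.negSucc 0, Int.negSucc 0, Int.ofNat 1, Int.negSucc 0, Int.negSucc 0, Int.negSucc 2, Int.negSucc 0, Int.ofNat 1],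
  [Int.ofNat 1, Int.negSucc 0, Int.negSucc 0, Int.ofNat 1, Int.negSucc 0, Int.negSucc 0, Int.negSucc 0, Int.negSucc 0, Int.negSucc 0, Int.ofNat 1, Int.negSucc 0, Int.negSucc 0, Int.negSucc 0, Int.ofNat 1, Int.negSucc 0, Int.negSucc 0, Int.negSucc 0, Int.ofNat 1, Int.negSucc 0, Int.negSucc 0, Int.negSucc 2, Int.negSucc 0, Int.ofNat 1, Int.ofNat 1],
  [Int.negSucc 0, Int.negSucc 0, Int.ofNat 1, Int.ofNat 1, Int.negSucc 0, Int.negSucc 0, Int.negSucc 0, Int.ofNat 1, Int.negSucc 0, Int.negSucc 0, Int.ofNat 1, Int.ofNat 1, Int.negSucc 0, Int.ofNat 1, Int.negSucc 0, Int.negSucc 0, Int.negSucc 0, Int.ofNat 1, Int.ofNat 1, Int.negSucc 0, Int.negSucc 2, Int.ofNat 1, Int.ofNat 1, Int.ofNat 1],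
  [Int.negSucc 0, Int.ofNat 1, Int.ofNat 1, Int.ofNat 1, Int.negSucc 0, Int.ofNat 1, Int.negSucc 0, Int.negSucc 2, Int.negSucc 0, Int.negSucc 0, Int.ofNat 1, Int.negSucc 0, Int.ofNat 1, Int.negSucc 0, Int.negSucc 0, Int.negSucc 0, Int.negSucc 0, Int.ofNat 1, Int.negSucc 0, Int.ofNat 1, Int.negSucc 0, Int.ofNat 1, Int.ofNat 1, Int.ofNat 1],
  [Int.ofNat 1, Int.ofNat 1, Int.negSucc 0, Int.ofNat 1, Int.negSucc 0, Int.ofNat 1, Int.negSucc 0, Int.ofNat 3, Int.negSucc 0, Int.ofNat 1, Int.negSucc 0, Int.ofNat 1, Int.ofNat 1, Int.negSucc 0, Int.negSucc 0, Int.negSucc 0, Int.negSucc 0, Int.ofNat 1, Int.ofNat 1, Int.ofNat 1, Int.negSucc 0, Int.negSucc 0, Int.ofNat 1, Int.ofNat 1],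
  [Int.ofNat 1, Int.ofNat 1, Int.ofNat 1, Int.negSucc 0, Int.ofNat 1, Int.negSucc 0, Int.ofNat 1, Int.negSucc 0, Int.ofNat 3, Int.negSucc 0, Int.ofNat 1, Int.negSucc 0, Int.ofNat 1, Int.ofNat 1, Int.negSucc 0, Int.negSucc 0, Int.negSucc 0, Int.negSucc 0, Int.ofNat 1, Int.ofNat 1, Int.ofNat 1, Int.negSucc 0, Int.negSucc 0, Int.ofNat 1],
  [Int.ofNat 1, Int.ofNat 1, Int.ofNat 1, Int.ofNat 1, Int.ofNat 1, Int.ofNat 1, Int.ofNat 1, Int.negSucc 0, Int.ofNat 1, Int.negSucc 0, Int.ofNat 1, Int.negSucc 2, Int.negSucc 0, Int.ofNat 1, Int.ofNat 1, Int.negSucc 0, Int.negSucc 0, Int.ofNat 1, Int.negSucc 0, Int.ofNat 1, Int.ofNat 1, Int.negSucc 0, Int.negSucc 0, Int.ofNat 1],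
  [Int.ofNat 1, Int.ofNat 1, Int.ofNat 1, Int.ofNat 1, Int.negSucc 0, Int.ofNat 1, Int.negSucc 0, Int.ofNat 1, Int.negSucc 2, Int.negSucc 0, Int.ofNat 1, Int.ofNat 1, Int.negSucc 0, Int.negSucc 0, Int.ofNat 1, Int.negSucc 0, Int.ofNat 1, Int.ofNat 1, Int.negSucc 0, Int.negSucc 0, Int.ofNat 1, Int.ofNat 1, Int.ofNat 1, Int.ofNat 1],
  [Int.ofNat 1, Int.ofNat 1, Int.ofNat 1, Int.negSucc 0, Int.negSucc 0, Int.negSucc 0, Int.negSucc 0, Int.ofNat 1, Int.negSucc 0, Int.negSucc 0, Int.ofNat 1, Int.ofNat 3, Int.ofNat 1, Int.negSucc 0, Int.negSucc 0, Int.negSucc 0, Int.ofNat 1, Int.negSucc 0, Int.ofNat 1, Int.negSucc 0, Int.ofNat 1, Int.ofNat 1, Int.ofNat 1, Int.ofNat 1],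
  [Int.ofNat 1, Int.negSucc 0, Int.negSucc 0, Int.negSucc 0, Int.ofNat 1, Int.ofNat 1, Int.ofNat 1, Int.ofNat 1, Int.ofNat 1, Int.negSucc 0, Int.ofNat 1, Int.negSucc 0, Int.negSucc 0, Int.ofNat 1, Int.ofNat 1, Int.negSucc 0, Int.negSucc 0, Int.negSucc 0, Int.ofNat 1, Int.ofNat 3, Int.ofNat 1, Int.negSucc 0, Int.negSucc 0, Int.ofNat 1],
  [Int.negSucc 0, Int.ofNat 1, Int.ofNat 1, Int.negSucc 0, Int.ofNat 1, Int.ofNat 1, Int.negSucc 0, Int.negSucc 0, Int.ofNat 1, Int.negSucc 0, Int.ofNat 1, Int.negSucc 0, Int.negSucc 0, Int.ofNat 1, Int.ofNat 1, Int.negSucc 0, Int.negSucc 0, Int.negSucc 0, Int.ofNat 1, Int.ofNat 1, Int.ofNat 1, Int.negSucc 2, Int.negSucc 0, Int.negSucc 0],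
  [Int.negSucc 0, Int.ofNat 1, Int.negSucc 0, Int.negSucc 0, Int.ofNat 1, Int.negSucc 0, Int.ofNat 1, Int.negSucc 0, Int.ofNat 1, Int.ofNat 1, Int.negSucc 0, Int.negSucc 0, Int.negSucc 0, Int.ofNat 1, Int.ofNat 1, Int.ofNat 1, Int.negSucc 0, Int.negSucc 0, Int.negSucc 0, Int.ofNat 1, Int.ofNat 1, Int.negSucc 2, Int.ofNat 1, Int.negSucc 0],
  [Int.negSucc 0, Int.negSucc 0, Int.negSucc 0, Int.ofNat 1, Int.ofNat 1, Int.ofNat 1, Int.negSucc 2, Int.negSucc 0, Int.negSucc 0, Int.ofNat 1, Int.ofNat 1, Int.negSucc 0, Int.ofNat 1, Int.ofNat 1, Int.negSucc 0, Int.negSucc 0, Int.ofNat 1, Int.negSucc 0, Int.ofNat 1, Int.negSucc 0, Int.negSucc 0, Int.ofNat 1, Int.ofNat 1, Int.negSucc 0],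
  [Int.ofNat 1, Int.ofNat 1, Int.ofNat 1, Int.negSucc 0, Int.negSucc 0, Int.ofNat 1, Int.ofNat 3, Int.negSucc 0, Int.ofNat 1, Int.negSucc 0, Int.ofNat 1, Int.negSucc 0, Int.negSucc 0, Int.negSucc 0, Int.negSucc 0, Int.negSucc 0, Int.negSucc 0, Int.negSucc 0, Int.negSucc 0, Int.negSucc 0, Int.negSucc 0, Int.ofNat 1, Int.ofNat 1, Int.negSucc 0],
  [Int.negSucc 0, Int.ofNat 1, Int.negSucc 0, Int.negSucc 0, Int.negSucc 0, Int.negSucc 0, Int.negSucc 0, Int.negSucc 0, Int.negSucc 0, Int.ofNat 1, Int.negSucc 0, Int.ofNat 1, Int.ofNat 1, Int.negSucc 0, Int.negSucc 0, Int.negSucc 0, Int.ofNat 1, Int.negSucc 0, Int.negSucc 0, Int.ofNat 3, Int.ofNat 1, Int.negSucc 0, Int.ofNat 1, Int.ofNat 1],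
  [Int.ofNat 1, Int.ofNat 1, Int.ofNat 1, Int.negSucc 0, Int.negSucc 0, Int.negSucc 0, Int.negSucc 0, Int.ofNat 1, Int.negSucc 0, Int.negSucc 0, Int.ofNat 1, Int.negSucc 0, Int.ofNat 1, Int.negSucc 0, Int.negSucc 0, Int.negSucc 0, Int.ofNat 1, Int.negSucc 0, Int.ofNat 1, Int.ofNat 3, Int.ofNat 1, Int.ofNat 1, Int.ofNat 1, Int.ofNat 1],
  [Int.ofNat 1, Int.ofNat 1, Int.ofNat 1, Int.ofNat 1, Int.negSucc 0, Int.negSucc 0, Int.negSucc 0, Int.negSucc 0, Int.ofNat 1, Int.negSucc 0, Int.negSucc 0, Int.ofNat 1, Int.negSucc 0, Int.ofNat 1, Int.negSucc 0, Int.negSucc 0, Int.negSucc 0, Int.ofNat 1, Int.negSucc 0, Int.ofNat 1, Int.ofNat 3, Int.ofNat 1, Int.ofNat 1, Int.ofNat 1],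
  [Int.ofNat 1, Int.ofNat 1, Int.ofNat 1, Int.ofNat 1, Int.negSucc 0, Int.negSucc 0, Int.negSucc 0, Int.negSucc 0, Int.ofNat 1, Int.negSucc 0, Int.negSucc 0, Int.ofNat 1, Int.negSucc 0, Int.ofNat 1, Int.negSucc 0, Int.negSucc 0, Int.negSucc 0, Int.ofNat 1, Int.negSucc 0, Int.ofNat 1, Int.ofNat 3, Int.ofNat 1, Int.ofNat 1, Int.ofNat 1],
  [Int.ofNat 1, Int.negSucc 0, Int.negSucc 0, Int.negSucc 0, Int.negSucc 0, Int.ofNat 1, Int.negSucc 0, Int.negSucc 0, Int.ofNat 1, Int.negSucc 0, Int.ofNat 1, Int.negSucc 0, Int.negSucc 0, Int.negSucc 0, Int.ofNat 1, Int.negSucc 0, Int.ofNat 1, Int.ofNat 3, Int.ofNat 1, Int.ofNat 1, Int.ofNat 1, Int.ofNat 1, Int.ofNat 1, Int.ofNat 1],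
  [Int.negSucc 0, Int.ofNat 1, Int.ofNat 1, Int.negSucc 2, Int.negSucc 0, Int.negSucc 0, Int.negSucc 0, Int.negSucc 0, Int.ofNat 1, Int.negSucc 0, Int.ofNat 1, Int.negSucc 0, Int.negSucc 0, Int.negSucc 0, Int.negSucc 0, Int.negSucc 0, Int.ofNat 1, Int.ofNat 1, Int.ofNat 1, Int.ofNat 1, Int.ofNat 1, Int.ofNat 1, Int.ofNat 1, Int.negSucc 0],
  [Int.negSucc 0, Int.negSucc 0, Int.negSucc 0, Int.negSucc 2, Int.ofNat 1, Int.negSucc 0, Int.ofNat 1, Int.ofNat 1, Int.negSucc 0, Int.negSucc 0, Int.ofNat 1, Int.ofNat 1, Int.negSucc 0, Int.ofNat 1, Int.ofNat 1, Int.negSucc 0, Int.ofNat 1, Int.negSucc 0, Int.ofNat 1, Int.negSucc 0, Int.ofNat 1, Int.negSucc 0, Int.ofNat 1, Int.negSucc 0],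
  [Int.negSucc 0, Int.negSucc 0, Int.negSucc 0, Int.negSucc 0, Int.negSucc 0, Int.ofNat 1, Int.ofNat 1, Int.ofNat 1, Int.negSucc 0, Int.negSucc 0, Int.ofNat 1, Int.ofNat 1, Int.negSucc 0, Int.negSucc 0, Int.ofNat 3, Int.negSucc 0, Int.negSucc 0, Int.ofNat 1, Int.ofNat 1, Int.negSucc 0, Int.ofNat 1, Int.negSucc 0, Int.negSucc 0, Int.negSucc 0],
  [Int.negSucc 0, Int.negSucc 0, Int.ofNat 1, Int.negSucc 0, Int.negSucc 0, Int.negSucc 0, Int.negSucc 0, Int.ofNat 1, Int.negSucc 0, Int.ofNat 1, Int.negSucc 0, Int.ofNat 1, Int.negSucc 0, Int.negSucc 0, Int.ofNat 3, Int.ofNat 1, Int.negSucc 0, Int.ofNat 1, Int.negSucc 0, Int.negSucc 0, Int.ofNat 1, Int.negSucc 0, Int.ofNat 1, Int.negSucc 0],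
  [Int.negSucc 0, Int.negSucc 0, Int.ofNat 1, Int.ofNat 1, Int.negSucc 0, Int.negSucc 0, Int.negSucc 0, Int.negSucc 0, Int.negSucc 0, Int.negSucc 0, Int.ofNat 1, Int.negSucc 0, Int.ofNat 1, Int.negSucc 0, Int.ofNat 1, Int.negSucc 0, Int.ofNat 1, Int.ofNat 1, Int.negSucc 0, Int.ofNat 1, Int.ofNat 3, Int.negSucc 0, Int.negSucc 0, Int.negSucc 0],
  [Int.negSucc 0, Int.negSucc 0, Int.negSucc 0, Int.ofNat 1, Int.negSucc 0, Int.ofNat 1, Int.ofNat 1, Int.negSucc 0, Int.negSucc 0, Int.ofNat 1, Int.negSucc 0, Int.negSucc 0, Int.ofNat 1, Int.negSucc 0, Int.ofNat 1, Int.ofNat 1, Int.ofNat 1, Int.ofNat 1, Int.ofNat 1, Int.ofNat 1, Int.ofNat 3, Int.negSucc 0, Int.ofNat 1, Int.negSucc 0],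
  [Int.negSucc 0, Int.negSucc 0, Int.negSucc 0, Int.negSucc 0, Int.negSucc 0, Int.negSucc 0, Int.ofNat 1, Int.negSucc 0, Int.negSucc 0, Int.negSucc 0, Int.negSucc 2, Int.negSucc 0, Int.ofNat 1, Int.negSucc 0, Int.negSucc 0, Int.negSucc 0, Int.ofNat 1, Int.negSucc 0, Int.ofNat 1, Int.ofNat 1, Int.ofNat 1, Int.negSucc 0, Int.ofNat 1, Int.negSucc 0],
  [Int.negSucc 0, Int.ofNat 1, Int.ofNat 1, Int.negSucc 0, Int.negSucc 0, Int.negSucc 0, Int.negSucc 0, Int.negSucc 0, Int.ofNat 1, Int.ofNat 1, Int.negSucc 0, Int.ofNat 1, Int.negSucc 0, Int.negSucc 0, Int.negSucc 0, Int.negSucc 0, Int.negSucc 0, Int.negSucc 0, Int.negSucc 0, Int.ofNat 1, Int.negSucc 2, Int.ofNat 1, Int.negSucc 0, Int.negSucc 0],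
  [Int.ofNat 1, Int.negSucc 0, Int.negSucc 0, Int.ofNat 1, Int.ofNat 1, Int.ofNat 1, Int.negSucc 0, Int.negSucc 0, Int.ofNat 1, Int.ofNat 3, Int.ofNat 1, Int.ofNat 1, Int.negSucc 0, Int.ofNat 1, Int.ofNat 1, Int.ofNat 1, Int.ofNat 1, Int.ofNat 1, Int.negSucc 0, Int.ofNat 1, Int.negSucc 0, Int.ofNat 1, Int.ofNat 1, Int.ofNat 1],
  [Int.negSucc 0, Int.ofNat 1, Int.ofNat 1, Int.ofNat 1, Int.negSucc 0, Int.negSucc 0, Int.ofNat 1, Int.ofNat 1, Int.ofNat 1, Int.negSucc 0, Int.negSucc 0, Int.ofNat 1, Int.ofNat 3, Int.ofNat 1, Int.ofNat 1, Int.negSucc 0, Int.ofNat 1, Int.ofNat 1, Int.ofNat 1, Int.ofNat 1, Int.ofNat 1, Int.negSucc 0, Int.ofNat 1, Int.ofNat 1],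
  [Int.ofNat 2, Int.ofNat 0, Int.ofNat 0, Int.ofNat 0, Int.negSucc 1, Int.negSucc 1, Int.ofNat 0, Int.ofNat 0, Int.negSucc 1, Int.ofNat 0, Int.ofNat 0, Int.negSucc 1, Int.ofNat 0, Int.ofNat 0, Int.ofNat 0, Int.ofNat 0, Int.ofNat 0, Int.ofNat 0, Int.negSucc 1, Int.ofNat 0, Int.ofNat 2, Int.negSucc 1, Int.ofNat 0, Int.ofNat 0],
  [Int.ofNat 0, Int.ofNat 0, Int.ofNat 0, Int.negSucc 1, Int.negSucc 1, Int.ofNat 0, Int.ofNat 0, Int.negSucc 1, Int.ofNat 0, Int.ofNat 0, Int.negSucc 1, Int.ofNat 0, Int.ofNat 0, Int.ofNat 0, Int.ofNat 0, Int.ofNat 0, Int.ofNat 0, Int.negSucc 1, Int.ofNat 0, Int.ofNat 2, Int.negSucc 1, Int.ofNat 0, Int.ofNat 2, Int.ofNat 0],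
  [Int.ofNat 0, Int.ofNat 0, Int.ofNat 0, Int.negSucc 1, Int.negSucc 1, Int.ofNat 0, Int.ofNat 0, Int.ofNat 2, Int.ofNat 0, Int.ofNat 0, Int.ofNat 2, Int.ofNat 0, Int.ofNat 0, Int.ofNat 0, Int.ofNat 0, Int.ofNat 0, Int.ofNat 0, Int.negSucc 1, Int.ofNat 0, Int.ofNat 2, Int.negSucc 1, Int.ofNat 0, Int.ofNat 2, Int.ofNat 0],
  [Int.ofNat 0, Int.ofNat 0, Int.ofNat 0, Int.negSucc 1, Int.ofNat 0, Int.ofNat 2, Int.negSucc 1, Int.negSucc 1, Int.ofNat 0, Int.ofNat 0, Int.ofNat 0, Int.ofNat 0, Int.ofNat 0, Int.ofNat 0, Int.ofNat 2, Int.ofNat 0, Int.ofNat 0, Int.ofNat 2, Int.ofNat 0, Int.negSucc 1, Int.ofNat 0, Int.ofNat 2, Int.ofNat 0, Int.ofNat 0],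
  [Int.ofNat 0, Int.ofNat 0, Int.ofNat 0, Int.negSucc 1, Int.ofNat 0, Int.ofNat 2, Int.negSucc 1, Int.ofNat 2, Int.ofNat 0, Int.ofNat 0, Int.ofNat 0, Int.ofNat 0, Int.ofNat 0, Int.ofNat 0, Int.ofNat 2, Int.ofNat 0, Int.ofNat 0, Int.ofNat 2, Int.ofNat 0, Int.negSucc 1, Int.ofNat 0, Int.negSucc 1, Int.ofNat 0, Int.ofNat 0],
  [Int.ofNat 0, Int.ofNat 0, Int.ofNat 0, Int.ofNat 0, Int.negSucc 1, Int.ofNat 0, Int.ofNat 2, Int.negSucc 1, Int.ofNat 2, Int.ofNat 0, Int.ofNat 0, Int.ofNat 0, Int.ofNat 0, Int.ofNat 0, Int.ofNat 0, Int.ofNat 2, Int.ofNat 0, Int.ofNat 0, Int.ofNat 2, Int.ofNat 0, Int.negSucc 1, Int.ofNat 0, Int.negSucc 1, Int.ofNat 0],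
  [Int.ofNat 0, Int.ofNat 0, Int.ofNat 0, Int.ofNat 0, Int.ofNat 0, Int.ofNat 0, Int.ofNat 2, Int.negSucc 1, Int.ofNat 0, Int.ofNat 0, Int.ofNat 0, Int.negSucc 1, Int.negSucc 1, Int.ofNat 2, Int.ofNat 0, Int.ofNat 2, Int.ofNat 2, Int.ofNat 0, Int.ofNat 0, Int.ofNat 0, Int.negSucc 1, Int.ofNat 0, Int.ofNat 0, Int.ofNat 0],
  [Int.ofNat 0, Int.ofNat 0, Int.ofNat 0, Int.ofNat 2, Int.negSucc 1, Int.ofNat 0, Int.ofNat 0, Int.ofNat 0, Int.negSucc 1, Int.negSucc 1, Int.ofNat 2, Int.ofNat 0, Int.ofNat 2, Int.ofNat 2, Int.ofNat 0, Int.ofNat 0, Int.ofNat 0, Int.negSucc 1, Int.ofNat 0, Int.ofNat 0, Int.ofNat 0, Int.ofNat 0, Int.ofNat 0, Int.ofNat 0],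
  [Int.ofNat 0, Int.ofNat 0, Int.ofNat 0, Int.ofNat 2, Int.negSucc 1, Int.ofNat 0, Int.ofNat 0, Int.ofNat 0, Int.negSucc 1, Int.negSucc 1, Int.ofNat 2, Int.ofNat 0, Int.ofNat 2, Int.ofNat 2, Int.ofNat 0, Int.ofNat 0, Int.ofNat 0, Int.negSucc 1, Int.ofNat 0, Int.ofNat 0, Int.ofNat 0, Int.ofNat 0, Int.ofNat 0, Int.ofNat 0],
  [Int.ofNat 0, Int.ofNat 0, Int.negSucc 1, Int.ofNat 2, Int.ofNat 0, Int.ofNat 0, Int.ofNat 0, Int.ofNat 2, Int.ofNat 2, Int.ofNat 2, Int.ofNat 0, Int.negSucc 1, Int.negSucc 1, Int.ofNat 0, Int.ofNat 0, Int.ofNat 0, Int.negSucc 1, Int.ofNat 0, Int.ofNat 0, Int.ofNat 0, Int.ofNat 0, Int.ofNat 0, Int.ofNat 0, Int.ofNat 0],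
  [Int.negSucc 0, Int.negSucc 0, Int.ofNat 1, Int.ofNat 1, Int.ofNat 1, Int.negSucc 0, Int.negSucc 0, Int.ofNat 1, Int.ofNat 3, Int.ofNat 1, Int.negSucc 0, Int.negSucc 0, Int.negSucc 0, Int.ofNat 1, Int.negSucc 0, Int.negSucc 0, Int.negSucc 0, Int.negSucc 0, Int.ofNat 1, Int.negSucc 0, Int.negSucc 0, Int.negSucc 0, Int.ofNat 1, Int.negSucc 0],
  [Int.negSucc 0, Int.negSucc 0, Int.negSucc 0, Int.ofNat 1, Int.ofNat 1, Int.ofNat 1, Int.ofNat 1, Int.ofNat 1, Int.ofNat 3, Int.negSucc 0, Int.ofNat 1, Int.negSucc 0, Int.negSucc 0, Int.ofNat 1, Int.negSucc 0, Int.ofNat 1, Int.negSucc 0, Int.negSucc 0, Int.negSucc 0, Int.negSucc 0, Int.negSucc 0, Int.negSucc 0, Int.negSucc 0, Int.negSucc 0],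
  [Int.ofNat 1, Int.negSucc 0, Int.negSucc 0, Int.ofNat 3, Int.negSucc 0, Int.ofNat 1, Int.negSucc 0, Int.ofNat 1, Int.ofNat 1, Int.negSucc 0, Int.ofNat 1, Int.ofNat 1, Int.ofNat 1, Int.ofNat 1, Int.negSucc 0, Int.negSucc 0, Int.negSucc 0, Int.negSucc 0, Int.negSucc 0, Int.negSucc 0, Int.negSucc 0, Int.negSucc 0, Int.negSucc 0, Int.negSucc 0],
  [Int.negSucc 0, Int.ofNat 1, Int.ofNat 1, Int.negSucc 2, Int.ofNat 1, Int.ofNat 1, Int.ofNat 1, Int.ofNat 1, Int.negSucc 0, Int.ofNat 1, Int.ofNat 1, Int.ofNat 1, Int.negSucc 0, Int.negSucc 0, Int.negSucc 0, Int.negSucc 0, Int.ofNat 1, Int.negSucc 0, Int.ofNat 1, Int.negSucc 0, Int.negSucc 0, Int.negSucc 0, Int.negSucc 0, Int.negSucc 0],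
  [Int.negSucc 0, Int.negSucc 0, Int.ofNat 1, Int.negSucc 0, Int.negSucc 0, Int.ofNat 1, Int.negSucc 0, Int.negSucc 0, Int.negSucc 0, Int.ofNat 1, Int.ofNat 1, Int.ofNat 1, Int.negSucc 0, Int.ofNat 1, Int.ofNat 1, Int.negSucc 2, Int.ofNat 1, Int.ofNat 1, Int.negSucc 0, Int.ofNat 1, Int.negSucc 0, Int.negSucc 0, Int.ofNat 1, Int.negSucc 0],
  [Int.ofNat 1, Int.negSucc 0, Int.negSucc 0, Int.negSucc 0, Int.negSucc 0, Int.ofNat 1, Int.negSucc 0, Int.ofNat 1, Int.negSucc 0, Int.negSucc 0, Int.negSucc 0, Int.negSucc 0, Int.negSucc 0, Int.ofNat 1, Int.ofNat 1, Int.negSucc 2, Int.ofNat 1, Int.ofNat 1, Int.ofNat 1, Int.ofNat 1, Int.negSucc 0, Int.ofNat 1, Int.ofNat 1, Int.negSucc 0],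
  [Int.ofNat 1, Int.ofNat 1, Int.negSucc 0, Int.negSucc 0, Int.negSucc 0, Int.negSucc 0, Int.ofNat 1, Int.negSucc 0, Int.ofNat 1, Int.negSucc 0, Int.negSucc 0, Int.negSucc 0, Int.negSucc 0, Int.negSucc 0, Int.ofNat 1, Int.ofNat 1, Int.negSucc 2, Int.ofNat 1, Int.ofNat 1, Int.ofNat 1, Int.ofNat 1, Int.negSucc 0, Int.ofNat 1, Int.negSucc 0],
  [Int.negSucc 0, Int.negSucc 0, Int.ofNat 1, Int.negSucc 0, Int.ofNat 1, Int.negSucc 0, Int.ofNat 1, Int.negSucc 0, Int.ofNat 1, Int.negSucc 0, Int.negSucc 0, Int.negSucc 0, Int.negSucc 0, Int.ofNat 1, Int.ofNat 1, Int.ofNat 1, Int.negSucc 0, Int.ofNat 1, Int.ofNat 1, Int.ofNat 1, Int.ofNat 1, Int.negSucc 0, Int.ofNat 3, Int.ofNat 1],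
  [Int.negSucc 0, Int.ofNat 1, Int.negSucc 0, Int.ofNat 1, Int.negSucc 0, Int.ofNat 1, Int.negSucc 0, Int.negSucc 0, Int.negSucc 0, Int.negSucc 0, Int.ofNat 1, Int.ofNat 1, Int.ofNat 1, Int.negSucc 0, Int.ofNat 1, Int.ofNat 1, Int.ofNat 1, Int.ofNat 1, Int.negSucc 0, Int.ofNat 3, Int.negSucc 0, Int.negSucc 0, Int.ofNat 1, Int.ofNat 1],
  [Int.ofNat 1, Int.negSucc 0, Int.ofNat 1, Int.negSucc 0, Int.negSucc 0, Int.negSucc 0, Int.negSucc 0, Int.negSucc 0, Int.negSucc 0, Int.negSucc 0, Int.ofNat 1, Int.ofNat 1, Int.ofNat 1, Int.negSucc 0, Int.negSucc 0, Int.ofNat 1, Int.ofNat 1, Int.negSucc 0, Int.negSucc 0, Int.ofNat 3, Int.negSucc 0, Int.negSucc 0, Int.ofNat 1, Int.negSucc 0],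
  [Int.ofNat 1, Int.negSucc 0, Int.negSucc 0, Int.negSucc 0, Int.negSucc 0, Int.negSucc 0, Int.ofNat 1, Int.ofNat 1, Int.ofNat 1, Int.negSucc 0, Int.negSucc 0, Int.negSucc 0, Int.negSucc 0, Int.ofNat 1, Int.ofNat 1, Int.ofNat 1, Int.negSucc 0, Int.negSucc 0, Int.negSucc 0, Int.ofNat 1, Int.negSucc 0, Int.negSucc 0, Int.ofNat 3, Int.negSucc 0],
  [Int.negSucc 1, Int.ofNat 0, Int.ofNat 0, Int.ofNat 0, Int.negSucc 1, Int.ofNat 0, Int.ofNat 0, Int.ofNat 0, Int.ofNat 2, Int.ofNat 0, Int.ofNat 0, Int.ofNat 0, Int.ofNat 0, Int.ofNat 0, Int.ofNat 2, Int.ofNat 2, Int.negSucc 1, Int.ofNat 0, Int.ofNat 0, Int.ofNat 0, Int.ofNat 0, Int.negSucc 1, Int.ofNat 2, Int.ofNat 0],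
  [Int.negSucc 1, Int.ofNat 0, Int.ofNat 0, Int.ofNat 0, Int.negSucc 1, Int.ofNat 0, Int.ofNat 0, Int.ofNat 0, Int.ofNat 2, Int.ofNat 0, Int.ofNat 0, Int.ofNat 0, Int.ofNat 0, Int.ofNat 0, Int.ofNat 2, Int.negSucc 1, Int.negSucc 1, Int.ofNat 0, Int.ofNat 0, Int.ofNat 0, Int.ofNat 0, Int.negSucc 1, Int.negSucc 1, Int.ofNat 0],
  [Int.ofNat 0, Int.ofNat 0, Int.ofNat 0, Int.ofNat 0, Int.ofNat 0, Int.ofNat 2, Int.ofNat 0, Int.negSucc 1, Int.ofNat 0, Int.negSucc 1, Int.ofNat 0, Int.negSucc 1, Int.negSucc 1, Int.ofNat 0, Int.negSucc 1, Int.ofNat 0, Int.ofNat 0, Int.ofNat 0, Int.ofNat 0, Int.ofNat 0, Int.ofNat 2, Int.negSucc 1, Int.ofNat 0, Int.ofNat 0],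
  [Int.ofNat 0, Int.ofNat 0, Int.ofNat 0, Int.ofNat 0, Int.ofNat 0, Int.negSucc 1, Int.ofNat 0, Int.negSucc 1, Int.ofNat 0, Int.ofNat 2, Int.ofNat 0, Int.negSucc 1, Int.negSucc 1, Int.ofNat 0, Int.negSucc 1, Int.ofNat 0, Int.ofNat 0, Int.ofNat 0, Int.ofNat 0, Int.ofNat 0, Int.ofNat 2, Int.negSucc 1, Int.ofNat 0, Int.ofNat 0],
  [Int.ofNat 0, Int.ofNat 0, Int.ofNat 0, Int.ofNat 2, Int.ofNat 0, Int.ofNat 0, Int.ofNat 2, Int.ofNat 0, Int.ofNat 2, Int.ofNat 0, Int.negSucc 1, Int.ofNat 0, Int.ofNat 0, Int.ofNat 0, Int.ofNat 0, Int.negSucc 1, Int.ofNat 0, Int.ofNat 2, Int.ofNat 2, Int.ofNat 2, Int.ofNat 0, Int.ofNat 0, Int.ofNat 0, Int.ofNat 0],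
  [Int.ofNat 0, Int.ofNat 2, Int.ofNat 2, Int.ofNat 2, Int.ofNat 0, Int.ofNat 0, Int.ofNat 0, Int.ofNat 0, Int.ofNat 0, Int.ofNat 0, Int.ofNat 0, Int.ofNat 2, Int.ofNat 2, Int.ofNat 0, Int.ofNat 2, Int.negSucc 1, Int.ofNat 0, Int.ofNat 0, Int.ofNat 0, Int.ofNat 0, Int.negSucc 1, Int.ofNat 0, Int.ofNat 0, Int.ofNat 0],
  [Int.ofNat 2, Int.ofNat 0, Int.ofNat 0, Int.ofNat 0, Int.ofNat 0, Int.negSucc 1, Int.ofNat 0, Int.ofNat 0, Int.negSucc 1, Int.ofNat 2, Int.ofNat 2, Int.ofNat 0, Int.ofNat 0, Int.ofNat 0, Int.ofNat 0, Int.ofNat 0, Int.ofNat 0, Int.negSucc 1, Int.negSucc 1, Int.ofNat 0, Int.ofNat 0, Int.ofNat 0, Int.ofNat 0, Int.ofNat 2],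
  [Int.ofNat 0, Int.ofNat 0, Int.ofNat 0, Int.ofNat 2, Int.ofNat 0, Int.ofNat 0, Int.ofNat 0, Int.ofNat 0, Int.negSucc 1, Int.ofNat 0, Int.ofNat 0, Int.negSucc 1, Int.ofNat 2, Int.ofNat 2, Int.ofNat 0, Int.ofNat 0, Int.ofNat 0, Int.ofNat 0, Int.ofNat 0, Int.ofNat 0, Int.negSucc 1, Int.negSucc 1, Int.ofNat 0, Int.ofNat 2],
  [Int.ofNat 1, Int.ofNat 1, Int.ofNat 1, Int.ofNat 1, Int.negSucc 0, Int.negSucc 0, Int.ofNat 1, Int.ofNat 1, Int.negSucc 0, Int.ofNat 1, Int.ofNat 1, Int.negSucc 0, Int.ofNat 3, Int.ofNat 1, Int.negSucc 0, Int.ofNat 1, Int.negSucc 0, Int.negSucc 0, Int.ofNat 1, Int.ofNat 1, Int.negSucc 0, Int.negSucc 0, Int.negSucc 0, Int.negSucc 0],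
  [Int.ofNat 1, Int.ofNat 1, Int.ofNat 1, Int.negSucc 0, Int.negSucc 0, Int.ofNat 1, Int.ofNat 1, Int.negSucc 0, Int.ofNat 1, Int.ofNat 1, Int.negSucc 0, Int.ofNat 3, Int.ofNat 1, Int.negSucc 0, Int.ofNat 1, Int.negSucc 0, Int.negSucc 0, Int.ofNat 1, Int.ofNat 1, Int.negSucc 0, Int.negSucc 0, Int.negSucc 0, Int.ofNat 1, Int.negSucc 0],
  [Int.negSucc 0, Int.ofNat 1, Int.negSucc 0, Int.negSucc 0, Int.negSucc 0, Int.ofNat 1, Int.ofNat 1, Int.ofNat 1, Int.ofNat 1, Int.negSucc 0, Int.ofNat 1, Int.negSucc 2, Int.ofNat 1, Int.negSucc 0, Int.ofNat 1, Int.negSucc 0, Int.negSucc 0, Int.ofNat 1, Int.negSucc 0, Int.negSucc 0, Int.negSucc 0, Int.ofNat 1, Int.ofNat 1, Int.negSucc 0],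
  [Int.negSucc 0, Int.negSucc 0, Int.negSucc 0, Int.negSucc 0, Int.ofNat 1, Int.ofNat 1, Int.negSucc 0, Int.negSucc 0, Int.negSucc 0, Int.negSucc 0, Int.ofNat 1, Int.ofNat 1, Int.negSucc 0, Int.ofNat 1, Int.negSucc 0, Int.negSucc 0, Int.ofNat 1, Int.ofNat 1, Int.ofNat 1, Int.ofNat 1, Int.ofNat 1, Int.ofNat 1, Int.negSucc 2, Int.negSucc 0],
  [Int.ofNat 1, Int.negSucc 0, Int.ofNat 1, Int.negSucc 0, Int.ofNat 1, Int.ofNat 1, Int.negSucc 0, Int.ofNat 1, Int.negSucc 0, Int.ofNat 1, Int.negSucc 0, Int.negSucc 0, Int.negSucc 0, Int.ofNat 1, Int.negSucc 0, Int.negSucc 0, Int.ofNat 1, Int.ofNat 1, Int.negSucc 0, Int.ofNat 1, Int.ofNat 1, Int.negSucc 0, Int.negSucc 2, Int.negSucc 0],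
  [Int.negSucc 2, Int.ofNat 1, Int.negSucc 0, Int.ofNat 1, Int.negSucc 0, Int.ofNat 1, Int.ofNat 1, Int.negSucc 0, Int.ofNat 1, Int.negSucc 0, Int.ofNat 1, Int.negSucc 0, Int.negSucc 0, Int.negSucc 0, Int.ofNat 1, Int.negSucc 0, Int.negSucc 0, Int.ofNat 1, Int.ofNat 1, Int.negSucc 0, Int.ofNat 1, Int.ofNat 1, Int.negSucc 0, Int.negSucc 0],
  [Int.ofNat 1, Int.negSucc 2, Int.negSucc 0, Int.negSucc 0, Int.ofNat 1, Int.negSucc 0, Int.ofNat 1, Int.negSucc 0, Int.ofNat 1, Int.negSucc 0, Int.ofNat 1, Int.negSucc 0, Int.negSucc 0, Int.ofNat 1, Int.negSucc 0, Int.negSucc 0, Int.ofNat 1, Int.negSucc 0, Int.ofNat 1, Int.negSucc 0, Int.ofNat 1, Int.ofNat 1, Int.ofNat 1, Int.negSucc 0],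
  [Int.negSucc 0, Int.ofNat 1, Int.negSucc 0, Int.ofNat 1, Int.negSucc 0, Int.ofNat 1, Int.negSucc 0, Int.ofNat 1, Int.negSucc 0, Int.negSucc 0, Int.ofNat 1, Int.negSucc 0, Int.negSucc 0, Int.ofNat 1, Int.negSucc 0, Int.ofNat 1, Int.negSucc 0, Int.ofNat 1, Int.ofNat 1, Int.ofNat 1, Int.ofNat 1, Int.negSucc 2, Int.negSucc 0, Int.negSucc 0],
  [Int.ofNat 0, Int.negSucc 1, Int.ofNat 0, Int.ofNat 0, Int.ofNat 0, Int.ofNat 0, Int.ofNat 0, Int.ofNat 2, Int.ofNat 0, Int.negSucc 1, Int.ofNat 0, Int.ofNat 0, Int.ofNat 0, Int.ofNat 2, Int.negSucc 1, Int.ofNat 0, Int.ofNat 0, Int.ofNat 0, Int.ofNat 2, Int.ofNat 2, Int.ofNat 0, Int.negSucc 1, Int.ofNat 0, Int.ofNat 0],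
  [Int.ofNat 0, Int.ofNat 0, Int.ofNat 0, Int.ofNat 0, Int.ofNat 2, Int.ofNat 2, Int.ofNat 0, Int.ofNat 0, Int.ofNat 0, Int.ofNat 2, Int.ofNat 0, Int.ofNat 0, Int.negSucc 1, Int.ofNat 0, Int.ofNat 0, Int.ofNat 0, Int.ofNat 0, Int.negSucc 1, Int.negSucc 1, Int.ofNat 0, Int.negSucc 1, Int.ofNat 0, Int.ofNat 2, Int.ofNat 0],
  [Int.ofNat 0, Int.ofNat 0, Int.ofNat 0, Int.ofNat 0, Int.ofNat 0, Int.ofNat 2, Int.ofNat 0, Int.ofNat 0, Int.ofNat 2, Int.ofNat 2, Int.ofNat 0, Int.ofNat 2, Int.ofNat 0, Int.negSucc 1, Int.ofNat 0, Int.ofNat 0, Int.negSucc 1, Int.negSucc 1, Int.ofNat 0, Int.ofNat 0, Int.negSucc 1, Int.ofNat 0, Int.ofNat 0, Int.ofNat 0],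
  [Int.ofNat 0, Int.ofNat 0, Int.ofNat 0, Int.ofNat 0, Int.ofNat 0, Int.negSucc 1, Int.ofNat 0, Int.ofNat 0, Int.ofNat 2, Int.negSucc 1, Int.ofNat 0, Int.ofNat 2, Int.ofNat 0, Int.negSucc 1, Int.ofNat 0, Int.ofNat 0, Int.negSucc 1, Int.negSucc 1, Int.ofNat 0, Int.ofNat 0, Int.negSucc 1, Int.ofNat 0, Int.ofNat 0, Int.ofNat 0],
  [Int.ofNat 0, Int.negSucc 1, Int.ofNat 2, Int.ofNat 2, Int.ofNat 0, Int.ofNat 0, Int.ofNat 0, Int.ofNat 0, Int.negSucc 1, Int.negSucc 1, Int.negSucc 1, Int.ofNat 0, Int.ofNat 0, Int.ofNat 0, Int.negSucc 1, Int.ofNat 0, Int.ofNat 0, Int.ofNat 0, Int.negSucc 1, Int.ofNat 0, Int.ofNat 0, Int.ofNat 0, Int.ofNat 0, Int.ofNat 0],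
  [Int.ofNat 0, Int.ofNat 2, Int.negSucc 1, Int.negSucc 1, Int.ofNat 0, Int.ofNat 0, Int.ofNat 0, Int.ofNat 0, Int.ofNat 2, Int.ofNat 2, Int.negSucc 1, Int.ofNat 0, Int.ofNat 0, Int.ofNat 0, Int.negSucc 1, Int.ofNat 0, Int.ofNat 0, Int.ofNat 0, Int.ofNat 2, Int.ofNat 0, Int.ofNat 0, Int.ofNat 0, Int.ofNat 0, Int.ofNat 0],
  [Int.ofNat 0, Int.ofNat 0, Int.ofNat 0, Int.ofNat 0, Int.ofNat 0, Int.ofNat 2, Int.ofNat 0, Int.ofNat 0, Int.ofNat 0, Int.ofNat 0, Int.ofNat 0, Int.negSucc 1, Int.ofNat 0, Int.ofNat 0, Int.ofNat 2, Int.negSucc 1, Int.negSucc 1, Int.ofNat 0, Int.negSucc 1, Int.ofNat 0, Int.ofNat 2, Int.ofNat 0, Int.ofNat 2, Int.ofNat 0],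
  [Int.ofNat 0, Int.ofNat 0, Int.ofNat 0, Int.ofNat 0, Int.ofNat 0, Int.ofNat 2, Int.ofNat 0, Int.ofNat 0, Int.ofNat 0, Int.ofNat 0, Int.ofNat 0, Int.ofNat 2, Int.ofNat 0, Int.ofNat 0, Int.ofNat 2, Int.negSucc 1, Int.negSucc 1, Int.ofNat 0, Int.ofNat 2, Int.ofNat 0, Int.ofNat 2, Int.ofNat 0, Int.ofNat 2, Int.ofNat 0],
  [Int.ofNat 2, Int.ofNat 0, Int.ofNat 0, Int.ofNat 0, Int.ofNat 0, Int.ofNat 0, Int.ofNat 2, Int.ofNat 0, Int.ofNat 0, Int.ofNat 0, Int.ofNat 0, Int.ofNat 0, Int.ofNat 2, Int.ofNat 0, Int.ofNat 0, Int.ofNat 2, Int.negSucc 1, Int.negSucc 1, Int.ofNat 0, Int.ofNat 2, Int.ofNat 0, Int.ofNat 2, Int.ofNat 0, Int.ofNat 0],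
  [Int.negSucc 0, Int.ofNat 1, Int.ofNat 1, Int.ofNat 1, Int.ofNat 1, Int.ofNat 1, Int.negSucc 0, Int.negSucc 2, Int.negSucc 0, Int.negSucc 0, Int.negSucc 0, Int.negSucc 0, Int.ofNat 1, Int.ofNat 1, Int.ofNat 1, Int.ofNat 1, Int.negSucc 0, Int.negSucc 0, Int.negSucc 0, Int.negSucc 0, Int.negSucc 0, Int.negSucc 0, Int.ofNat 1, Int.ofNat 1],
  [Int.ofNat 1, Int.ofNat 1, Int.ofNat 1, Int.negSucc 0, Int.negSucc 2, Int.negSucc 0, Int.negSucc 0, Int.negSucc 0, Int.negSucc 0, Int.ofNat 1, Int.ofNat 1, Int.ofNat 1, Int.ofNat 1, Int.negSucc 0, Int.negSucc 0, Int.negSucc 0, Int.negSucc 0, Int.negSucc 0, Int.negSucc 0, Int.ofNat 1, Int.negSucc 0, Int.ofNat 1, Int.ofNat 1, Int.ofNat 1],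
  [Int.ofNat 1, Int.ofNat 1, Int.ofNat 1, Int.ofNat 1, Int.negSucc 0, Int.ofNat 1, Int.negSucc 0, Int.negSucc 0, Int.negSucc 0, Int.ofNat 1, Int.ofNat 1, Int.ofNat 1, Int.ofNat 1, Int.ofNat 1, Int.ofNat 1, Int.negSucc 0, Int.ofNat 1, Int.ofNat 1, Int.negSucc 0, Int.ofNat 1, Int.negSucc 0, Int.ofNat 1, Int.ofNat 3, Int.ofNat 1],
  [Int.ofNat 1, Int.negSucc 0, Int.negSucc 0, Int.ofNat 1, Int.negSucc 0, Int.negSucc 0, Int.ofNat 1, Int.ofNat 1, Int.ofNat 1, Int.ofNat 1, Int.negSucc 0, Int.ofNat 1, Int.ofNat 1, Int.ofNat 1, Int.ofNat 3, Int.negSucc 0, Int.negSucc 0, Int.ofNat 1, Int.ofNat 1, Int.ofNat 1, Int.ofNat 1, Int.ofNat 1, Int.ofNat 1, Int.ofNat 1],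
  [Int.negSucc 0, Int.ofNat 1, Int.ofNat 1, Int.negSucc 0, Int.negSucc 0, Int.negSucc 2, Int.negSucc 0, Int.negSucc 0, Int.negSucc 0, Int.ofNat 1, Int.negSucc 0, Int.negSucc 0, Int.negSucc 0, Int.ofNat 1, Int.ofNat 1, Int.negSucc 0, Int.negSucc 0, Int.negSucc 0, Int.negSucc 0, Int.negSucc 0, Int.ofNat 1, Int.negSucc 0, Int.ofNat 1, Int.negSucc 0],
  [Int.negSucc 0, Int.ofNat 1, Int.negSucc 0, Int.negSucc 0, Int.negSucc 0, Int.ofNat 3, Int.ofNat 1, Int.negSucc 0, Int.negSucc 0, Int.negSucc 0, Int.ofNat 1, Int.negSucc 0, Int.negSucc 0, Int.ofNat 1, Int.ofNat 1, Int.ofNat 1, Int.negSucc 0, Int.negSucc 0, Int.ofNat 1, Int.negSucc 0, Int.ofNat 1, Int.negSucc 0, Int.negSucc 0, Int.negSucc 0],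
  [Int.ofNat 1, Int.negSucc 0, Int.negSucc 0, Int.negSucc 0, Int.ofNat 3, Int.negSucc 0, Int.ofNat 1, Int.negSucc 0, Int.ofNat 1, Int.negSucc 0, Int.negSucc 0, Int.negSucc 0, Int.ofNat 1, Int.ofNat 1, Int.negSucc 0, Int.negSucc 0, Int.negSucc 0, Int.ofNat 1, Int.ofNat 1, Int.negSucc 0, Int.ofNat 1, Int.negSucc 0, Int.negSucc 0, Int.negSucc 0],
  [Int.ofNat 1, Int.negSucc 0, Int.ofNat 1, Int.negSucc 0, Int.ofNat 3, Int.ofNat 1, Int.negSucc 0, Int.negSucc 0, Int.ofNat 1, Int.ofNat 1, Int.ofNat 1, Int.negSucc 0, Int.ofNat 1, Int.ofNat 1, Int.negSucc 0, Int.ofNat 1, Int.negSucc 0, Int.ofNat 1, Int.negSucc 0, Int.negSucc 0, Int.ofNat 1, Int.negSucc 0, Int.ofNat 1, Int.negSucc 0],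
  [Int.negSucc 0, Int.ofNat 1, Int.negSucc 0, Int.negSucc 0, Int.ofNat 1, Int.ofNat 1, Int.ofNat 1, Int.ofNat 1, Int.ofNat 1, Int.negSucc 0, Int.negSucc 0, Int.negSucc 0, Int.ofNat 1, Int.negSucc 0, Int.negSucc 0, Int.negSucc 0, Int.negSucc 2, Int.ofNat 1, Int.negSucc 0, Int.ofNat 1, Int.negSucc 0, Int.ofNat 1, Int.negSucc 0, Int.ofNat 1],
  [Int.negSucc 0, Int.negSucc 0, Int.ofNat 1, Int.negSucc 0, Int.negSucc 0, Int.ofNat 1, Int.ofNat 1, Int.ofNat 1, Int.negSucc 2, Int.ofNat 1, Int.ofNat 1, Int.ofNat 1, Int.ofNat 1, Int.negSucc 0, Int.ofNat 1, Int.negSucc 0, Int.negSucc 0, Int.negSucc 0, Int.ofNat 1, Int.negSucc 0, Int.negSucc 0, Int.negSucc 0, Int.negSucc 0, Int.ofNat 1],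
  [Int.ofNat 1, Int.ofNat 1, Int.negSucc 0, Int.negSucc 0, Int.ofNat 1, Int.ofNat 1, Int.ofNat 1, Int.ofNat 1, Int.negSucc 2, Int.ofNat 1, Int.ofNat 1, Int.ofNat 1, Int.ofNat 1, Int.ofNat 1, Int.ofNat 1, Int.negSucc 0, Int.ofNat 1, Int.negSucc 0, Int.ofNat 1, Int.negSucc 0, Int.negSucc 0, Int.negSucc 0, Int.ofNat 1, Int.negSucc 0],
  [Int.negSucc 0, Int.negSucc 0, Int.ofNat 1, Int.ofNat 1, Int.ofNat 1, Int.negSucc 0, Int.negSucc 0, Int.ofNat 1, Int.ofNat 1, Int.ofNat 1, Int.ofNat 1, Int.negSucc 2, Int.ofNat 1, Int.ofNat 1, Int.ofNat 1, Int.ofNat 1, Int.ofNat 1, Int.ofNat 1, Int.negSucc 0, Int.ofNat 1, Int.negSucc 0, Int.ofNat 1, Int.negSucc 0, Int.negSucc 0],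
  [Int.ofNat 0, Int.ofNat 0, Int.negSucc 1, Int.ofNat 0, Int.ofNat 0, Int.negSucc 1, Int.negSucc 1, Int.ofNat 0, Int.ofNat 2, Int.ofNat 0, Int.ofNat 0, Int.negSucc 1, Int.ofNat 2, Int.ofNat 0, Int.ofNat 0, Int.ofNat 0, Int.ofNat 0, Int.ofNat 0, Int.ofNat 0, Int.ofNat 0, Int.negSucc 1, Int.ofNat 0, Int.negSucc 1, Int.ofNat 0],
  [Int.ofNat 0, Int.negSucc 1, Int.ofNat 0, Int.ofNat 0, Int.negSucc 1, Int.negSucc 1, Int.ofNat 0, Int.ofNat 2, Int.ofNat 0, Int.ofNat 0, Int.negSucc 1, Int.ofNat 2, Int.ofNat 0, Int.ofNat 0, Int.ofNat 0, Int.ofNat 0, Int.ofNat 0, Int.ofNat 0, Int.ofNat 0, Int.negSucc 1, Int.ofNat 0, Int.negSucc 1, Int.ofNat 0, Int.ofNat 0],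
  [Int.ofNat 0, Int.negSucc 1, Int.ofNat 0, Int.ofNat 0, Int.negSucc 1, Int.negSucc 1, Int.ofNat 0, Int.negSucc 1, Int.ofNat 0, Int.ofNat 0, Int.ofNat 2, Int.negSucc 1, Int.ofNat 0, Int.ofNat 0, Int.ofNat 0, Int.ofNat 0, Int.ofNat 0, Int.ofNat 0, Int.ofNat 0, Int.negSucc 1, Int.ofNat 0, Int.ofNat 2, Int.ofNat 0, Int.ofNat 0],
  [Int.ofNat 0, Int.ofNat 0, Int.ofNat 0, Int.ofNat 0, Int.negSucc 1, Int.ofNat 2, Int.negSucc 1, Int.ofNat 0, Int.ofNat 0, Int.ofNat 0, Int.ofNat 2, Int.ofNat 0, Int.ofNat 0, Int.ofNat 0, Int.negSucc 1, Int.ofNat 0, Int.ofNat 0, Int.ofNat 0, Int.ofNat 0, Int.ofNat 0, Int.negSucc 1, Int.negSucc 1, Int.negSucc 1, Int.ofNat 0],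
  [Int.ofNat 0, Int.ofNat 0, Int.ofNat 0, Int.ofNat 0, Int.negSucc 1, Int.ofNat 2, Int.negSucc 1, Int.ofNat 0, Int.ofNat 0, Int.ofNat 0, Int.negSucc 1, Int.ofNat 0, Int.ofNat 0, Int.ofNat 0, Int.negSucc 1, Int.ofNat 0, Int.ofNat 0, Int.ofNat 0, Int.ofNat 0, Int.ofNat 0, Int.negSucc 1, Int.ofNat 2, Int.negSucc 1, Int.ofNat 0],
  [Int.negSucc 1, Int.ofNat 0, Int.ofNat 0, Int.ofNat 0, Int.ofNat 0, Int.negSucc 1, Int.ofNat 2, Int.negSucc 1, Int.ofNat 0, Int.ofNat 0, Int.ofNat 0, Int.negSucc 1, Int.ofNat 0, Int.ofNat 0, Int.ofNat 0, Int.negSucc 1, Int.ofNat 0, Int.ofNat 0, Int.ofNat 0, Int.ofNat 0, Int.ofNat 0, Int.negSucc 1, Int.ofNat 2, Int.ofNat 0],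
  [Int.ofNat 1, Int.negSucc 0, Int.negSucc 0, Int.ofNat 1, Int.negSucc 0, Int.negSucc 0, Int.ofNat 3, Int.negSucc 0, Int.ofNat 1, Int.ofNat 1, Int.ofNat 1, Int.negSucc 0, Int.ofNat 1, Int.negSucc 0, Int.ofNat 1, Int.negSucc 0, Int.negSucc 0, Int.ofNat 1, Int.ofNat 1, Int.ofNat 1, Int.ofNat 1, Int.negSucc 0, Int.ofNat 1, Int.negSucc 0],
  [Int.ofNat 1, Int.negSucc 0, Int.negSucc 0, Int.ofNat 3, Int.negSucc 0, Int.ofNat 1, Int.ofNat 1, Int.ofNat 1, Int.negSucc 0, Int.ofNat 1, Int.negSucc 0, Int.ofNat 1, Int.negSucc 0, Int.negSucc 0, Int.ofNat 1, Int.ofNat 1, Int.ofNat 1, Int.ofNat 1, Int.negSucc 0, Int.ofNat 1, Int.ofNat 1, Int.negSucc 0, Int.negSucc 0, Int.negSucc 0],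
  [Int.negSucc 1, Int.ofNat 0, Int.ofNat 0, Int.ofNat 0, Int.ofNat 0, Int.negSucc 1, Int.ofNat 0, Int.ofNat 0, Int.ofNat 0, Int.ofNat 0, Int.negSucc 1, Int.ofNat 2, Int.ofNat 0, Int.ofNat 0, Int.negSucc 1, Int.ofNat 0, Int.ofNat 2, Int.negSucc 1, Int.ofNat 0, Int.ofNat 0, Int.ofNat 0, Int.negSucc 1, Int.ofNat 0, Int.ofNat 0],
  [Int.negSucc 1, Int.ofNat 0, Int.ofNat 0, Int.ofNat 0, Int.ofNat 0, Int.ofNat 0, Int.ofNat 0, Int.negSucc 1, Int.ofNat 0, Int.ofNat 0, Int.ofNat 0, Int.negSucc 1, Int.ofNat 0, Int.ofNat 2, Int.ofNat 0, Int.ofNat 0, Int.ofNat 0, Int.negSucc 1, Int.ofNat 0, Int.ofNat 2, Int.negSucc 1, Int.negSucc 1, Int.ofNat 0, Int.ofNat 0],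
  [Int.ofNat 1, Int.negSucc 0, Int.negSucc 0, Int.ofNat 1, Int.negSucc 0, Int.ofNat 1, Int.ofNat 1, Int.negSucc 0, Int.ofNat 1, Int.ofNat 1, Int.ofNat 1, Int.negSucc 0, Int.ofNat 1, Int.ofNat 1, Int.ofNat 1, Int.ofNat 1, Int.negSucc 0, Int.negSucc 0, Int.ofNat 1, Int.ofNat 3, Int.negSucc 0, Int.negSucc 0, Int.negSucc 0, Int.negSucc 0],
  [Int.ofNat 1, Int.negSucc 0, Int.ofNat 1, Int.ofNat 1, Int.negSucc 0, Int.negSucc 0, Int.negSucc 0, Int.negSucc 0, Int.ofNat 1, Int.negSucc 0, Int.negSucc 0, Int.negSucc 0, Int.ofNat 1, Int.ofNat 1, Int.ofNat 1, Int.negSucc 0, Int.negSucc 0, Int.negSucc 0, Int.negSucc 0, Int.ofNat 3, Int.negSucc 0, Int.negSucc 0, Int.ofNat 1, Int.negSucc 0],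
  [Int.negSucc 0, Int.negSucc 0, Int.negSucc 0, Int.ofNat 1, Int.ofNat 1, Int.negSucc 0, Int.negSucc 0, Int.ofNat 1, Int.negSucc 0, Int.negSucc 0, Int.ofNat 1, Int.negSucc 0, Int.negSucc 0, Int.negSucc 0, Int.negSucc 0, Int.negSucc 0, Int.ofNat 3, Int.ofNat 1, Int.negSucc 0, Int.ofNat 1, Int.ofNat 1, Int.negSucc 0, Int.ofNat 1, Int.negSucc 0],
  [Int.ofNat 1, Int.ofNat 1, Int.ofNat 1, Int.negSucc 0, Int.negSucc 0, Int.negSucc 0, Int.ofNat 1, Int.ofNat 1, Int.ofNat 1, Int.ofNat 1, Int.ofNat 1, Int.negSucc 0, Int.ofNat 1, Int.ofNat 1, Int.negSucc 0, Int.negSucc 0, Int.negSucc 2, Int.ofNat 1, Int.ofNat 1, Int.ofNat 1, Int.ofNat 1, Int.negSucc 0, Int.ofNat 1, Int.negSucc 0],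
  [Int.negSucc 0, Int.ofNat 1, Int.negSucc 0, Int.negSucc 0, Int.ofNat 1, Int.ofNat 1, Int.ofNat 1, Int.ofNat 1, Int.ofNat 1, Int.negSucc 0, Int.negSucc 2, Int.ofNat 1, Int.negSucc 0, Int.ofNat 1, Int.ofNat 1, Int.negSucc 0, Int.ofNat 1, Int.negSucc 0, Int.negSucc 0, Int.ofNat 1, Int.ofNat 1, Int.ofNat 1, Int.ofNat 1, Int.ofNat 1],
  [Int.ofNat 1, Int.ofNat 1, Int.ofNat 1, Int.negSucc 0, Int.ofNat 1, Int.ofNat 1, Int.ofNat 1, Int.negSucc 0, Int.ofNat 1, Int.ofNat 1, Int.ofNat 3, Int.negSucc 0, Int.negSucc 0, Int.ofNat 1, Int.ofNat 1, Int.negSucc 0, Int.ofNat 1, Int.negSucc 0, Int.ofNat 1, Int.ofNat 1, Int.ofNat 1, Int.negSucc 0, Int.ofNat 1, Int.ofNat 1],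
  [Int.ofNat 1, Int.ofNat 1, Int.ofNat 1, Int.ofNat 1, Int.negSucc 0, Int.ofNat 1, Int.ofNat 1, Int.ofNat 1, Int.negSucc 0, Int.ofNat 1, Int.ofNat 1, Int.ofNat 3, Int.negSucc 0, Int.negSucc 0, Int.ofNat 1, Int.ofNat 1, Int.negSucc 0, Int.ofNat 1, Int.negSucc 0, Int.ofNat 1, Int.ofNat 1, Int.ofNat 1, Int.negSucc 0, Int.ofNat 1],
  [Int.ofNat 1, Int.ofNat 1, Int.ofNat 1, Int.negSucc 0, Int.ofNat 1, Int.negSucc 0, Int.negSucc 0, Int.negSucc 0, Int.negSucc 0, Int.negSucc 0, Int.negSucc 0, Int.ofNat 3, Int.negSucc 0, Int.ofNat 1, Int.negSucc 0, Int.negSucc 0, Int.ofNat 1, Int.negSucc 0, Int.negSucc 0, Int.negSucc 0, Int.negSucc 0, Int.negSucc 0, Int.ofNat 1, Int.ofNat 1],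
  [Int.negSucc 0, Int.ofNat 1, Int.negSucc 0, Int.negSucc 0, Int.negSucc 0, Int.negSucc 0, Int.negSucc 0, Int.negSucc 0, Int.ofNat 3, Int.negSucc 0, Int.ofNat 1, Int.negSucc 0, Int.negSucc 0, Int.ofNat 1, Int.negSucc 0, Int.negSucc 0, Int.negSucc 0, Int.negSucc 0, Int.negSucc 0, Int.ofNat 1, Int.ofNat 1, Int.ofNat 1, Int.ofNat 1, Int.ofNat 1],
  [Int.ofNat 1, Int.negSucc 0, Int.ofNat 1, Int.ofNat 1, Int.negSucc 0, Int.ofNat 1, Int.negSucc 0, Int.negSucc 0, Int.ofNat 3, Int.negSucc 0, Int.ofNat 1, Int.negSucc 0, Int.negSucc 0, Int.ofNat 1, Int.ofNat 1, Int.negSucc 0, Int.negSucc 0, Int.ofNat 1, Int.negSucc 0, Int.ofNat 1, Int.ofNat 1, Int.ofNat 1, Int.ofNat 1, Int.negSucc 0],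
  [Int.ofNat 1, Int.negSucc 0, Int.negSucc 0, Int.ofNat 1, Int.negSucc 0, Int.negSucc 0, Int.ofNat 1, Int.ofNat 1, Int.negSucc 0, Int.ofNat 1, Int.ofNat 1, Int.ofNat 1, Int.negSucc 0, Int.negSucc 0, Int.ofNat 1, Int.negSucc 0, Int.ofNat 3, Int.ofNat 1, Int.negSucc 0, Int.negSucc 0, Int.ofNat 1, Int.ofNat 1, Int.ofNat 1, Int.negSucc 0],
  [Int.negSucc 1, Int.ofNat 0, Int.ofNat 0, Int.ofNat 0, Int.negSucc 1, Int.negSucc 1, Int.ofNat 0, Int.ofNat 0, Int.ofNat 0, Int.ofNat 0, Int.ofNat 0, Int.ofNat 2, Int.ofNat 0, Int.negSucc 1, Int.ofNat 0, Int.negSucc 1, Int.ofNat 2, Int.ofNat 0, Int.ofNat 0, Int.negSucc 1, Int.ofNat 0, Int.ofNat 0, Int.ofNat 0, Int.ofNat 0],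
  [Int.negSucc 1, Int.ofNat 0, Int.ofNat 0, Int.ofNat 0, Int.negSucc 1, Int.ofNat 2, Int.ofNat 0, Int.ofNat 0, Int.ofNat 0, Int.ofNat 0, Int.ofNat 0, Int.ofNat 2, Int.ofNat 0, Int.negSucc 1, Int.ofNat 0, Int.ofNat 2, Int.ofNat 2, Int.ofNat 0, Int.ofNat 0, Int.negSucc 1, Int.ofNat 0, Int.ofNat 0, Int.ofNat 0, Int.ofNat 0],
  [Int.ofNat 0, Int.negSucc 1, Int.ofNat 0, Int.ofNat 2, Int.ofNat 2, Int.ofNat 0, Int.ofNat 0, Int.ofNat 0, Int.ofNat 0, Int.negSucc 1, Int.ofNat 0, Int.negSucc 1, Int.ofNat 2, Int.ofNat 0, Int.ofNat 0, Int.ofNat 0, Int.ofNat 0, Int.ofNat 0, Int.negSucc 1, Int.ofNat 0, Int.ofNat 0, Int.ofNat 2, Int.ofNat 0, Int.ofNat 0],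
  [Int.ofNat 0, Int.negSucc 1, Int.ofNat 0, Int.ofNat 2, Int.ofNat 2, Int.ofNat 0, Int.ofNat 0, Int.ofNat 0, Int.ofNat 0, Int.ofNat 2, Int.ofNat 0, Int.negSucc 1, Int.ofNat 2, Int.ofNat 0, Int.ofNat 0, Int.ofNat 0, Int.ofNat 0, Int.ofNat 0, Int.ofNat 2, Int.ofNat 0, Int.ofNat 0, Int.ofNat 2, Int.ofNat 0, Int.ofNat 0],
  [Int.negSucc 0, Int.ofNat 1, Int.negSucc 0, Int.ofNat 1, Int.ofNat 1, Int.negSucc 0, Int.negSucc 0, Int.negSucc 0, Int.negSucc 0, Int.ofNat 1, Int.negSucc 0, Int.negSucc 2, Int.ofNat 1, Int.negSucc 0, Int.negSucc 0, Int.negSucc 0, Int.negSucc 0, Int.negSucc 0, Int.ofNat 1, Int.negSucc 0, Int.negSucc 0, Int.ofNat 1, Int.negSucc 0, Int.negSucc 0],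
  [Int.negSucc 0, Int.ofNat 1, Int.negSucc 0, Int.ofNat 1, Int.negSucc 0, Int.ofNat 1, Int.ofNat 1, Int.negSucc 0, Int.negSucc 0, Int.ofNat 1, Int.negSucc 0, Int.negSucc 0, Int.negSucc 0, Int.ofNat 1, Int.negSucc 0, Int.negSucc 0, Int.negSucc 0, Int.negSucc 2, Int.ofNat 1, Int.negSucc 0, Int.negSucc 0, Int.negSucc 0, Int.negSucc 0, Int.negSucc 0],
  [Int.ofNat 0, Int.negSucc 1, Int.ofNat 0, Int.ofNat 2, Int.ofNat 0, Int.ofNat 2, Int.ofNat 2, Int.ofNat 0, Int.ofNat 0, Int.ofNat 2, Int.ofNat 0, Int.ofNat 0, Int.ofNat 0, Int.ofNat 2, Int.ofNat 0, Int.ofNat 0, Int.ofNat 0, Int.negSucc 1, Int.ofNat 2, Int.ofNat 0, Int.ofNat 0, Int.ofNat 0, Int.ofNat 0, Int.ofNat 0],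
  [Int.ofNat 0, Int.ofNat 0, Int.ofNat 0, Int.ofNat 0, Int.negSucc 1, Int.ofNat 0, Int.ofNat 2, Int.ofNat 0, Int.ofNat 2, Int.ofNat 2, Int.ofNat 0, Int.ofNat 0, Int.ofNat 2, Int.ofNat 0, Int.ofNat 0, Int.ofNat 0, Int.ofNat 2, Int.ofNat 0, Int.ofNat 0, Int.ofNat 0, Int.negSucc 1, Int.ofNat 2, Int.ofNat 0, Int.ofNat 0],
  [Int.ofNat 0, Int.ofNat 0, Int.ofNat 0, Int.ofNat 0, Int.negSucc 1, Int.ofNat 0, Int.ofNat 0, Int.negSucc 1, Int.ofNat 0, Int.ofNat 2, Int.ofNat 0, Int.negSucc 1, Int.ofNat 0, Int.ofNat 0, Int.ofNat 0, Int.ofNat 0, Int.ofNat 2, Int.ofNat 0, Int.negSucc 1, Int.negSucc 1, Int.negSucc 1, Int.ofNat 0, Int.ofNat 0, Int.ofNat 0],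
  [Int.ofNat 0, Int.ofNat 0, Int.ofNat 0, Int.negSucc 1, Int.ofNat 0, Int.ofNat 0, Int.negSucc 1, Int.ofNat 0, Int.ofNat 2, Int.ofNat 0, Int.negSucc 1, Int.ofNat 0, Int.ofNat 0, Int.ofNat 0, Int.ofNat 0, Int.ofNat 2, Int.ofNat 0, Int.negSucc 1, Int.negSucc 1, Int.negSucc 1, Int.ofNat 0, Int.ofNat 0, Int.ofNat 0, Int.ofNat 0],
  [Int.ofNat 0, Int.ofNat 0, Int.ofNat 0, Int.negSucc 1, Int.ofNat 0, Int.ofNat 0, Int.negSucc 1, Int.ofNat 0, Int.ofNat 2, Int.ofNat 0, Int.ofNat 2, Int.ofNat 0, Int.ofNat 0, Int.ofNat 0, Int.ofNat 0, Int.ofNat 2, Int.ofNat 0, Int.negSucc 1, Int.ofNat 2, Int.negSucc 1, Int.ofNat 0, Int.ofNat 0, Int.ofNat 0, Int.ofNat 0],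
  [Int.ofNat 0, Int.ofNat 0, Int.ofNat 2, Int.negSucc 1, Int.ofNat 0, Int.ofNat 2, Int.ofNat 0, Int.ofNat 0, Int.ofNat 0, Int.ofNat 0, Int.ofNat 0, Int.ofNat 0, Int.ofNat 0, Int.ofNat 2, Int.negSucc 1, Int.ofNat 2, Int.ofNat 0, Int.ofNat 0, Int.negSucc 1, Int.negSucc 1, Int.ofNat 0, Int.ofNat 0, Int.ofNat 0, Int.ofNat 0],
  [Int.ofNat 0, Int.ofNat 0, Int.negSucc 1, Int.negSucc 1, Int.ofNat 0, Int.ofNat 2, Int.ofNat 0, Int.ofNat 0, Int.ofNat 0, Int.ofNat 0, Int.ofNat 0, Int.ofNat 0, Int.ofNat 0, Int.ofNat 2, Int.negSucc 1, Int.ofNat 2, Int.ofNat 0, Int.ofNat 0, Int.ofNat 2, Int.negSucc 1, Int.ofNat 0, Int.ofNat 0, Int.ofNat 0, Int.ofNat 0],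
  [Int.ofNat 0, Int.ofNat 0, Int.ofNat 0, Int.negSucc 1, Int.negSucc 1, Int.ofNat 0, Int.ofNat 2, Int.ofNat 0, Int.ofNat 0, Int.ofNat 0, Int.ofNat 0, Int.ofNat 0, Int.ofNat 0, Int.ofNat 0, Int.ofNat 2, Int.negSucc 1, Int.ofNat 2, Int.ofNat 0, Int.ofNat 0, Int.ofNat 2, Int.negSucc 1, Int.ofNat 0, Int.ofNat 0, Int.ofNat 0],
  [Int.ofNat 0, Int.ofNat 0, Int.ofNat 0, Int.negSucc 1, Int.negSucc 1, Int.ofNat 0, Int.ofNat 0, Int.negSucc 1, Int.ofNat 0, Int.ofNat 2, Int.ofNat 2, Int.ofNat 0, Int.ofNat 0, Int.ofNat 0, Int.ofNat 2, Int.ofNat 0, Int.ofNat 2, Int.ofNat 0, Int.ofNat 0, Int.ofNat 0, Int.ofNat 0, Int.negSucc 1, Int.ofNat 0, Int.ofNat 0],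
  [Int.negSucc 1, Int.negSucc 1, Int.ofNat 0, Int.ofNat 0, Int.negSucc 1, Int.ofNat 0, Int.ofNat 2, Int.ofNat 2, Int.ofNat 0, Int.ofNat 0, Int.ofNat 0, Int.ofNat 2, Int.ofNat 0, Int.ofNat 2, Int.ofNat 0, Int.ofNat 0, Int.ofNat 0, Int.ofNat 0, Int.negSucc 1, Int.ofNat 0, Int.ofNat 0, Int.ofNat 0, Int.ofNat 0, Int.ofNat 0],
  [Int.ofNat 0, Int.ofNat 0, Int.negSucc 1, Int.ofNat 0, Int.negSucc 1, Int.ofNat 0, Int.ofNat 0, Int.ofNat 0, Int.ofNat 0, Int.ofNat 0, Int.ofNat 0, Int.ofNat 2, Int.ofNat 0, Int.ofNat 2, Int.ofNat 0, Int.ofNat 0, Int.ofNat 0, Int.ofNat 0, Int.negSucc 1, Int.negSucc 1, Int.ofNat 0, Int.negSucc 1, Int.ofNat 0, Int.negSucc 1],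
  [Int.ofNat 0, Int.ofNat 0, Int.negSucc 1, Int.ofNat 0, Int.negSucc 1, Int.ofNat 0, Int.negSucc 1, Int.ofNat 0, Int.ofNat 0, Int.ofNat 2, Int.ofNat 0, Int.ofNat 0, Int.ofNat 0, Int.ofNat 0, Int.ofNat 0, Int.ofNat 0, Int.ofNat 0, Int.ofNat 0, Int.ofNat 0, Int.ofNat 2, Int.negSucc 1, Int.ofNat 0, Int.negSucc 1, Int.negSucc 1],
  [Int.negSucc 1, Int.negSucc 1, Int.ofNat 0, Int.ofNat 0, Int.ofNat 0, Int.ofNat 0, Int.negSucc 1, Int.ofNat 0, Int.ofNat 0, Int.ofNat 2, Int.ofNat 0, Int.ofNat 0, Int.ofNat 0, Int.ofNat 2, Int.ofNat 0, Int.ofNat 0, Int.ofNat 2, Int.ofNat 0, Int.ofNat 0, Int.ofNat 2, Int.negSucc 1, Int.ofNat 0, Int.ofNat 0, Int.ofNat 0],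
  [Int.negSucc 1, Int.negSucc 1, Int.ofNat 0, Int.ofNat 0, Int.ofNat 0, Int.ofNat 0, Int.ofNat 2, Int.ofNat 0, Int.ofNat 0, Int.negSucc 1, Int.ofNat 0, Int.ofNat 0, Int.ofNat 0, Int.ofNat 2, Int.ofNat 0, Int.ofNat 0, Int.ofNat 2, Int.ofNat 0, Int.ofNat 0, Int.ofNat 2, Int.negSucc 1, Int.ofNat 0, Int.ofNat 0, Int.ofNat 0],
  [Int.ofNat 0, Int.ofNat 2, Int.ofNat 0, Int.ofNat 0, Int.ofNat 0, Int.ofNat 2, Int.ofNat 0, Int.ofNat 0, Int.ofNat 0, Int.negSucc 1, Int.ofNat 2, Int.ofNat 0, Int.ofNat 0, Int.ofNat 0, Int.ofNat 0, Int.ofNat 0, Int.ofNat 2, Int.ofNat 0, Int.negSucc 1, Int.ofNat 0, Int.negSucc 1, Int.negSucc 1, Int.ofNat 0, Int.ofNat 0],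
  [Int.ofNat 0, Int.negSucc 1, Int.ofNat 0, Int.ofNat 0, Int.ofNat 0, Int.ofNat 2, Int.ofNat 0, Int.ofNat 0, Int.ofNat 0, Int.ofNat 2, Int.ofNat 2, Int.ofNat 0, Int.ofNat 0, Int.ofNat 0, Int.ofNat 0, Int.ofNat 0, Int.negSucc 1, Int.ofNat 0, Int.ofNat 2, Int.ofNat 0, Int.negSucc 1, Int.negSucc 1, Int.ofNat 0, Int.ofNat 0],
  [Int.ofNat 0, Int.ofNat 0, Int.ofNat 0, Int.ofNat 0, Int.ofNat 0, Int.ofNat 2, Int.ofNat 0, Int.ofNat 0, Int.negSucc 1, Int.ofNat 2, Int.negSucc 1, Int.ofNat 0, Int.negSucc 1, Int.ofNat 0, Int.ofNat 2, Int.ofNat 0, Int.ofNat 2, Int.ofNat 0, Int.ofNat 0, Int.ofNat 0, Int.ofNat 0, Int.ofNat 0, Int.negSucc 1, Int.ofNat 0],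
  [Int.ofNat 0, Int.ofNat 0, Int.ofNat 0, Int.ofNat 0, Int.ofNat 0, Int.ofNat 2, Int.ofNat 0, Int.ofNat 0, Int.negSucc 1, Int.negSucc 1, Int.ofNat 2, Int.ofNat 0, Int.negSucc 1, Int.ofNat 0, Int.ofNat 2, Int.ofNat 0, Int.ofNat 2, Int.ofNat 0, Int.ofNat 0, Int.ofNat 0, Int.ofNat 0, Int.ofNat 0, Int.negSucc 1, Int.ofNat 0],
  [Int.negSucc 1, Int.ofNat 0, Int.ofNat 0, Int.ofNat 0, Int.ofNat 0, Int.ofNat 0, Int.ofNat 2, Int.ofNat 0, Int.ofNat 0, Int.negSucc 1, Int.negSucc 1, Int.ofNat 2, Int.ofNat 0, Int.negSucc 1, Int.ofNat 0, Int.ofNat 2, Int.ofNat 0, Int.ofNat 2, Int.ofNat 0, Int.ofNat 0, Int.ofNat 0, Int.ofNat 0, Int.ofNat 0, Int.ofNat 0],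
  [Int.ofNat 1, Int.negSucc 0, Int.negSucc 0, Int.negSucc 0, Int.ofNat 1, Int.negSucc 0, Int.ofNat 1, Int.negSucc 0, Int.negSucc 0, Int.negSucc 0, Int.negSucc 0, Int.ofNat 1, Int.negSucc 0, Int.negSucc 0, Int.negSucc 0, Int.ofNat 3, Int.ofNat 1, Int.ofNat 1, Int.negSucc 0, Int.negSucc 0, Int.ofNat 1, Int.negSucc 0, Int.ofNat 1, Int.negSucc 0],
  [Int.negSucc 0, Int.ofNat 1, Int.negSucc 0, Int.ofNat 1, Int.negSucc 0, Int.negSucc 0, Int.negSucc 0, Int.negSucc 0, Int.ofNat 1, Int.negSucc 0, Int.negSucc 0, Int.negSucc 0, Int.ofNat 3, Int.ofNat 1, Int.ofNat 1, Int.negSucc 0, Int.negSucc 0, Int.ofNat 1, Int.negSucc 0, Int.ofNat 1, Int.ofNat 1, Int.negSucc 0, Int.negSucc 0, Int.negSucc 0],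
  [Int.ofNat 0, Int.negSucc 1, Int.ofNat 0, Int.ofNat 0, Int.ofNat 0, Int.negSucc 1, Int.ofNat 0, Int.ofNat 0, Int.ofNat 0, Int.ofNat 0, Int.ofNat 0, Int.negSucc 1, Int.ofNat 2, Int.ofNat 2, Int.ofNat 0, Int.ofNat 0, Int.ofNat 0, Int.ofNat 0, Int.negSucc 1, Int.ofNat 2, Int.ofNat 2, Int.ofNat 0, Int.ofNat 0, Int.ofNat 0],
  [Int.ofNat 0, Int.ofNat 0, Int.ofNat 0, Int.ofNat 0, Int.negSucc 1, Int.ofNat 0, Int.ofNat 0, Int.ofNat 0, Int.ofNat 2, Int.ofNat 2, Int.ofNat 2, Int.ofNat 0, Int.ofNat 0, Int.ofNat 0, Int.ofNat 0, Int.ofNat 0, Int.ofNat 0, Int.ofNat 0, Int.negSucc 1, Int.negSucc 1, Int.ofNat 0, Int.negSucc 1, Int.ofNat 2, Int.ofNat 0],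
  [Int.ofNat 0, Int.ofNat 0, Int.ofNat 0, Int.ofNat 0, Int.negSucc 1, Int.ofNat 0, Int.ofNat 2, Int.ofNat 2, Int.ofNat 2, Int.ofNat 0, Int.ofNat 0, Int.ofNat 0, Int.ofNat 0, Int.ofNat 0, Int.ofNat 0, Int.negSucc 1, Int.ofNat 0, Int.ofNat 0, Int.negSucc 1, Int.ofNat 0, Int.negSucc 1, Int.ofNat 0, Int.ofNat 2, Int.ofNat 0],
  [Int.ofNat 0, Int.ofNat 0, Int.ofNat 0, Int.ofNat 0, Int.negSucc 1, Int.ofNat 0, Int.negSucc 1, Int.ofNat 2, Int.ofNat 2, Int.ofNat 0, Int.ofNat 0, Int.ofNat 0, Int.ofNat 0, Int.ofNat 0, Int.ofNat 0, Int.ofNat 2, Int.ofNat 0, Int.ofNat 0, Int.ofNat 2, Int.ofNat 0, Int.negSucc 1, Int.ofNat 0, Int.negSucc 1, Int.ofNat 0],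
  [Int.ofNat 2, Int.ofNat 0, Int.ofNat 0, Int.ofNat 0, Int.ofNat 0, Int.ofNat 2, Int.ofNat 0, Int.ofNat 0, Int.ofNat 0, Int.negSucc 1, Int.ofNat 0, Int.ofNat 0, Int.ofNat 2, Int.negSucc 1, Int.negSucc 1, Int.ofNat 0, Int.ofNat 0, Int.negSucc 1, Int.ofNat 0, Int.ofNat 2, Int.ofNat 0, Int.ofNat 0, Int.ofNat 0, Int.ofNat 0],
  [Int.ofNat 2, Int.ofNat 0, Int.ofNat 0, Int.ofNat 0, Int.ofNat 0, Int.negSucc 1, Int.ofNat 0, Int.ofNat 0, Int.ofNat 0, Int.ofNat 2, Int.ofNat 0, Int.ofNat 0, Int.ofNat 2, Int.negSucc 1, Int.negSucc 1, Int.ofNat 0, Int.ofNat 0, Int.negSucc 1, Int.ofNat 0, Int.ofNat 2, Int.ofNat 0, Int.ofNat 0, Int.ofNat 0, Int.ofNat 0],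
  [Int.negSucc 0, Int.ofNat 1, Int.ofNat 1, Int.ofNat 3, Int.ofNat 1, Int.ofNat 1, Int.negSucc 0, Int.negSucc 0, Int.negSucc 0, Int.ofNat 1, Int.negSucc 0, Int.negSucc 0, Int.ofNat 1, Int.negSucc 0, Int.ofNat 1, Int.negSucc 0, Int.ofNat 1, Int.ofNat 1, Int.negSucc 0, Int.ofNat 1, Int.negSucc 0, Int.negSucc 0, Int.ofNat 1, Int.ofNat 1],
  [Int.negSucc 0, Int.negSucc 0, Int.negSucc 0, Int.ofNat 3, Int.ofNat 1, Int.negSucc 0, Int.ofNat 1, Int.ofNat 1, Int.ofNat 1, Int.ofNat 1, Int.negSucc 0, Int.ofNat 1, Int.negSucc 0, Int.ofNat 1, Int.ofNat 1, Int.negSucc 0, Int.negSucc 0, Int.negSucc 0, Int.ofNat 1, Int.ofNat 1, Int.negSucc 0, Int.negSucc 0, Int.ofNat 1, Int.ofNat 1],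
  [Int.ofNat 0, Int.ofNat 0, Int.ofNat 0, Int.ofNat 2, Int.ofNat 0, Int.negSucc 1, Int.ofNat 0, Int.ofNat 0, Int.ofNat 0, Int.ofNat 2, Int.ofNat 0, Int.ofNat 0, Int.negSucc 1, Int.ofNat 0, Int.ofNat 0, Int.ofNat 0, Int.negSucc 1, Int.negSucc 1, Int.ofNat 0, Int.ofNat 0, Int.ofNat 0, Int.negSucc 1, Int.ofNat 0, Int.negSucc 1],
  [Int.ofNat 0, Int.negSucc 1, Int.ofNat 0, Int.ofNat 0, Int.ofNat 0, Int.ofNat 0, Int.ofNat 2, Int.ofNat 0, Int.negSucc 1, Int.ofNat 0, Int.ofNat 0, Int.ofNat 0, Int.ofNat 2, Int.ofNat 0, Int.ofNat 0, Int.negSucc 1, Int.ofNat 0, Int.ofNat 0, Int.ofNat 0, Int.negSucc 1, Int.negSucc 1, Int.ofNat 0, Int.ofNat 0, Int.negSucc 1],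
  [Int.negSucc 1, Int.ofNat 0, Int.negSucc 1, Int.ofNat 0, Int.ofNat 0, Int.ofNat 0, Int.ofNat 2, Int.ofNat 0, Int.negSucc 1, Int.ofNat 2, Int.ofNat 2, Int.ofNat 0, Int.ofNat 2, Int.ofNat 0, Int.ofNat 0, Int.ofNat 0, Int.ofNat 0, Int.ofNat 0, Int.ofNat 0, Int.negSucc 1, Int.ofNat 0, Int.ofNat 0, Int.ofNat 0, Int.ofNat 0],
  [Int.ofNat 0, Int.negSucc 1, Int.ofNat 0, Int.ofNat 0, Int.ofNat 0, Int.ofNat 2, Int.ofNat 0, Int.negSucc 1, Int.ofNat 2, Int.ofNat 2, Int.ofNat 0, Int.ofNat 2, Int.ofNat 0, Int.ofNat 0, Int.ofNat 0, Int.ofNat 0, Int.ofNat 0, Int.ofNat 0, Int.negSucc 1, Int.ofNat 0, Int.ofNat 0, Int.ofNat 0, Int.negSucc 1, Int.ofNat 0],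
  [Int.ofNat 0, Int.negSucc 1, Int.ofNat 0, Int.ofNat 0, Int.ofNat 0, Int.ofNat 2, Int.ofNat 0, Int.ofNat 2, Int.ofNat 2, Int.negSucc 1, Int.ofNat 0, Int.negSucc 1, Int.ofNat 0, Int.ofNat 0, Int.ofNat 0, Int.ofNat 0, Int.ofNat 0, Int.ofNat 0, Int.ofNat 2, Int.ofNat 0, Int.ofNat 0, Int.ofNat 0, Int.negSucc 1, Int.ofNat 0],
  [Int.ofNat 0, Int.ofNat 0, Int.ofNat 2, Int.ofNat 0, Int.negSucc 1, Int.ofNat 0, Int.ofNat 0, Int.ofNat 0, Int.negSucc 1, Int.ofNat 0, Int.ofNat 0, Int.ofNat 0, Int.ofNat 0, Int.ofNat 2, Int.ofNat 0, Int.ofNat 0, Int.ofNat 0, Int.negSucc 1, Int.ofNat 0, Int.ofNat 0, Int.ofNat 2, Int.ofNat 2, Int.negSucc 1, Int.ofNat 0],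
  [Int.ofNat 0, Int.ofNat 0, Int.negSucc 1, Int.ofNat 0, Int.negSucc 1, Int.ofNat 0, Int.ofNat 0, Int.ofNat 0, Int.negSucc 1, Int.ofNat 0, Int.ofNat 0, Int.ofNat 0, Int.ofNat 0, Int.ofNat 2, Int.ofNat 0, Int.ofNat 0, Int.ofNat 0, Int.negSucc 1, Int.ofNat 0, Int.ofNat 0, Int.ofNat 2, Int.negSucc 1, Int.negSucc 1, Int.ofNat 0],
  [Int.negSucc 1, Int.ofNat 0, Int.ofNat 0, Int.negSucc 1, Int.ofNat 0, Int.negSucc 1, Int.ofNat 0, Int.ofNat 0, Int.ofNat 0, Int.negSucc 1, Int.ofNat 0, Int.ofNat 0, Int.ofNat 0, Int.ofNat 0, Int.ofNat 2, Int.ofNat 0, Int.ofNat 0, Int.ofNat 0, Int.negSucc 1, Int.ofNat 0, Int.ofNat 0, Int.ofNat 2, Int.negSucc 1, Int.ofNat 0],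
  [Int.ofNat 1, Int.negSucc 0, Int.negSucc 0, Int.negSucc 0, Int.ofNat 1, Int.negSucc 0, Int.negSucc 0, Int.negSucc 0, Int.ofNat 1, Int.negSucc 0, Int.ofNat 1, Int.ofNat 1, Int.ofNat 1, Int.ofNat 1, Int.ofNat 3, Int.ofNat 1, Int.ofNat 1, Int.ofNat 1, Int.negSucc 0, Int.negSucc 0, Int.ofNat 1, Int.ofNat 1, Int.negSucc 0, Int.negSucc 0],
  [Int.negSucc 0, Int.ofNat 1, Int.negSucc 0, Int.negSucc 0, Int.negSucc 0, Int.ofNat 1, Int.negSucc 0, Int.ofNat 1, Int.ofNat 1, Int.ofNat 1, Int.ofNat 1, Int.ofNat 3, Int.ofNat 1, Int.ofNat 1, Int.ofNat 1, Int.negSucc 0, Int.negSucc 0, Int.ofNat 1, Int.ofNat 1, Int.negSucc 0, Int.ofNat 1, Int.negSucc 0, Int.negSucc 0, Int.negSucc 0],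
  [Int.ofNat 0, Int.negSucc 1, Int.ofNat 0, Int.negSucc 1, Int.ofNat 0, Int.ofNat 0, Int.ofNat 0, Int.ofNat 2, Int.negSucc 1, Int.ofNat 0, Int.ofNat 0, Int.ofNat 0, Int.negSucc 1, Int.ofNat 2, Int.ofNat 0, Int.negSucc 1, Int.ofNat 0, Int.ofNat 0, Int.negSucc 1, Int.ofNat 0, Int.ofNat 0, Int.ofNat 0, Int.ofNat 0, Int.ofNat 0],
  [Int.ofNat 0, Int.ofNat 0, Int.ofNat 0, Int.negSucc 1, Int.negSucc 1, Int.ofNat 2, Int.ofNat 0, Int.ofNat 0, Int.negSucc 1, Int.ofNat 2, Int.ofNat 0, Int.ofNat 0, Int.ofNat 0, Int.ofNat 0, Int.ofNat 0, Int.negSucc 1, Int.negSucc 1, Int.ofNat 0, Int.negSucc 1, Int.ofNat 0, Int.ofNat 0, Int.ofNat 0, Int.ofNat 0, Int.ofNat 0],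
  [Int.ofNat 0, Int.ofNat 0, Int.ofNat 0, Int.negSucc 1, Int.ofNat 0, Int.ofNat 2, Int.ofNat 0, Int.ofNat 0, Int.ofNat 0, Int.ofNat 2, Int.ofNat 0, Int.ofNat 2, Int.ofNat 2, Int.ofNat 2, Int.ofNat 0, Int.negSucc 1, Int.ofNat 0, Int.ofNat 0, Int.ofNat 0, Int.ofNat 0, Int.ofNat 0, Int.ofNat 0, Int.ofNat 2, Int.ofNat 0],
  [Int.ofNat 0, Int.ofNat 0, Int.ofNat 0, Int.negSucc 1, Int.ofNat 0, Int.negSucc 1, Int.ofNat 0, Int.ofNat 0, Int.ofNat 0, Int.negSucc 1, Int.ofNat 0, Int.ofNat 2, Int.ofNat 2, Int.ofNat 2, Int.ofNat 0, Int.ofNat 2, Int.ofNat 0, Int.ofNat 0, Int.ofNat 0, Int.ofNat 0, Int.ofNat 0, Int.ofNat 0, Int.negSucc 1, Int.ofNat 0],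
  [Int.ofNat 0, Int.ofNat 0, Int.ofNat 2, Int.ofNat 0, Int.ofNat 0, Int.ofNat 0, Int.ofNat 0, Int.negSucc 1, Int.negSucc 1, Int.ofNat 0, Int.ofNat 2, Int.ofNat 0, Int.ofNat 2, Int.ofNat 0, Int.ofNat 0, Int.ofNat 0, Int.ofNat 0, Int.ofNat 2, Int.negSucc 1, Int.ofNat 0, Int.ofNat 0, Int.ofNat 0, Int.negSucc 1, Int.ofNat 0],
  [Int.ofNat 0, Int.ofNat 0, Int.negSucc 1, Int.ofNat 0, Int.ofNat 0, Int.ofNat 0, Int.ofNat 0, Int.negSucc 1, Int.ofNat 2, Int.ofNat 0, Int.ofNat 2, Int.ofNat 0, Int.negSucc 1, Int.ofNat 0, Int.ofNat 0, Int.ofNat 0, Int.ofNat 0, Int.ofNat 2, Int.ofNat 2, Int.ofNat 0, Int.ofNat 0, Int.ofNat 0, Int.negSucc 1, Int.ofNat 0],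
  [Int.ofNat 0, Int.negSucc 1, Int.ofNat 0, Int.ofNat 0, Int.ofNat 2, Int.ofNat 0, Int.ofNat 0, Int.ofNat 0, Int.ofNat 0, Int.ofNat 0, Int.ofNat 0, Int.negSucc 1, Int.ofNat 0, Int.negSucc 1, Int.ofNat 2, Int.ofNat 0, Int.ofNat 2, Int.ofNat 0, Int.ofNat 0, Int.ofNat 0, Int.ofNat 2, Int.negSucc 1, Int.ofNat 0, Int.ofNat 0],
  [Int.ofNat 0, Int.negSucc 1, Int.ofNat 0, Int.ofNat 0, Int.ofNat 2, Int.ofNat 0, Int.ofNat 0, Int.ofNat 0, Int.ofNat 0, Int.ofNat 0, Int.ofNat 0, Int.ofNat 2, Int.ofNat 0, Int.negSucc 1, Int.ofNat 2, Int.ofNat 0, Int.ofNat 2, Int.ofNat 0, Int.ofNat 0, Int.ofNat 0, Int.ofNat 2, Int.ofNat 2, Int.ofNat 0, Int.ofNat 0],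
  [Int.ofNat 0, Int.ofNat 0, Int.negSucc 1, Int.ofNat 0, Int.ofNat 0, Int.ofNat 2, Int.ofNat 0, Int.ofNat 0, Int.ofNat 0, Int.ofNat 0, Int.ofNat 0, Int.ofNat 0, Int.ofNat 2, Int.ofNat 0, Int.negSucc 1, Int.ofNat 2, Int.ofNat 0, Int.ofNat 2, Int.ofNat 0, Int.ofNat 0, Int.ofNat 0, Int.ofNat 2, Int.ofNat 2, Int.ofNat 0],
  [Int.negSucc 0, Int.negSucc 0, Int.ofNat 1, Int.negSucc 0, Int.negSucc 0, Int.ofNat 1, Int.negSucc 0, Int.negSucc 0, Int.negSucc 0, Int.negSucc 0, Int.negSucc 0, Int.negSucc 0, Int.ofNat 1, Int.negSucc 0, Int.negSucc 2, Int.ofNat 1, Int.negSucc 0, Int.ofNat 1, Int.negSucc 0, Int.negSucc 0, Int.negSucc 0, Int.ofNat 1, Int.ofNat 1, Int.negSucc 0],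
  [Int.negSucc 0, Int.negSucc 0, Int.ofNat 1, Int.negSucc 0, Int.negSucc 0, Int.negSucc 0, Int.negSucc 0, Int.negSucc 0, Int.negSucc 0, Int.ofNat 1, Int.negSucc 0, Int.negSucc 2, Int.ofNat 1, Int.negSucc 0, Int.ofNat 1, Int.negSucc 0, Int.negSucc 0, Int.negSucc 0, Int.ofNat 1, Int.ofNat 1, Int.negSucc 0, Int.negSucc 0, Int.ofNat 1, Int.negSucc 0],
  [Int.ofNat 0, Int.ofNat 0, Int.negSucc 1, Int.ofNat 0, Int.ofNat 0, Int.ofNat 0, Int.ofNat 0, Int.ofNat 0, Int.ofNat 0, Int.ofNat 2, Int.ofNat 0, Int.negSucc 1, Int.ofNat 2, Int.ofNat 0, Int.ofNat 2, Int.ofNat 0, Int.ofNat 0, Int.ofNat 0, Int.ofNat 2, Int.ofNat 2, Int.ofNat 0, Int.ofNat 0, Int.ofNat 2, Int.ofNat 0],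
  [Int.ofNat 0, Int.ofNat 0, Int.ofNat 0, Int.ofNat 0, Int.ofNat 2, Int.ofNat 0, Int.negSucc 1, Int.ofNat 0, Int.ofNat 2, Int.ofNat 0, Int.ofNat 0, Int.ofNat 0, Int.ofNat 2, Int.ofNat 0, Int.ofNat 2, Int.ofNat 0, Int.ofNat 0, Int.ofNat 2, Int.ofNat 0, Int.negSucc 1, Int.ofNat 0, Int.ofNat 0, Int.ofNat 2, Int.ofNat 0],
  [Int.ofNat 0, Int.ofNat 0, Int.ofNat 0, Int.negSucc 1, Int.ofNat 0, Int.negSucc 1, Int.ofNat 0, Int.ofNat 2, Int.ofNat 0, Int.ofNat 0, Int.ofNat 0, Int.negSucc 1, Int.ofNat 0, Int.negSucc 1, Int.ofNat 0, Int.ofNat 0, Int.negSucc 1, Int.ofNat 0, Int.negSucc 1, Int.ofNat 0, Int.ofNat 0, Int.ofNat 2, Int.ofNat 0, Int.ofNat 0],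
  [Int.ofNat 0, Int.ofNat 0, Int.ofNat 0, Int.negSucc 1, Int.ofNat 0, Int.ofNat 2, Int.ofNat 0, Int.ofNat 2, Int.ofNat 0, Int.ofNat 0, Int.ofNat 0, Int.negSucc 1, Int.ofNat 0, Int.negSucc 1, Int.ofNat 0, Int.ofNat 0, Int.negSucc 1, Int.ofNat 0, Int.ofNat 2, Int.ofNat 0, Int.ofNat 0, Int.ofNat 2, Int.ofNat 0, Int.ofNat 0],
  [Int.ofNat 2, Int.ofNat 0, Int.ofNat 0, Int.negSucc 1, Int.ofNat 2, Int.ofNat 0, Int.ofNat 0, Int.ofNat 2, Int.ofNat 0, Int.ofNat 0, Int.ofNat 0, Int.ofNat 0, Int.ofNat 0, Int.ofNat 0, Int.ofNat 0, Int.negSucc 1, Int.ofNat 0, Int.ofNat 0, Int.negSucc 1, Int.ofNat 2, Int.ofNat 0, Int.negSucc 1, Int.ofNat 0, Int.ofNat 0],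
  [Int.ofNat 2, Int.ofNat 0, Int.ofNat 0, Int.negSucc 1, Int.ofNat 2, Int.ofNat 0, Int.ofNat 0, Int.ofNat 2, Int.ofNat 0, Int.ofNat 0, Int.ofNat 0, Int.ofNat 0, Int.ofNat 0, Int.ofNat 0, Int.ofNat 0, Int.ofNat 2, Int.ofNat 0, Int.ofNat 0, Int.ofNat 2, Int.ofNat 2, Int.ofNat 0, Int.negSucc 1, Int.ofNat 0, Int.ofNat 0],
  [Int.negSucc 0, Int.ofNat 1, Int.ofNat 1, Int.negSucc 0, Int.ofNat 1, Int.ofNat 1, Int.negSucc 0, Int.ofNat 1, Int.negSucc 0, Int.negSucc 0, Int.negSucc 0, Int.negSucc 0, Int.negSucc 0, Int.negSucc 0, Int.ofNat 1, Int.ofNat 1, Int.negSucc 0, Int.ofNat 1, Int.ofNat 1, Int.ofNat 1, Int.negSucc 0, Int.negSucc 2, Int.negSucc 0, Int.ofNat 1],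
  [Int.negSucc 0, Int.ofNat 1, Int.negSucc 0, Int.negSucc 0, Int.ofNat 1, Int.negSucc 2, Int.ofNat 1, Int.ofNat 1, Int.negSucc 0, Int.negSucc 0, Int.ofNat 1, Int.ofNat 1, Int.negSucc 0, Int.negSucc 0, Int.ofNat 1, Int.ofNat 1, Int.negSucc 0, Int.negSucc 0, Int.ofNat 1, Int.negSucc 0, Int.negSucc 0, Int.negSucc 0, Int.ofNat 1, Int.ofNat 1],
  [Int.ofNat 1, Int.negSucc 0, Int.ofNat 1, Int.ofNat 1, Int.ofNat 1, Int.negSucc 0, Int.ofNat 1, Int.ofNat 1, Int.negSucc 0, Int.negSucc 0, Int.ofNat 1, Int.ofNat 1, Int.negSucc 0, Int.negSucc 0, Int.ofNat 3, Int.ofNat 1, Int.negSucc 0, Int.ofNat 1, Int.ofNat 1, Int.negSucc 0, Int.negSucc 0, Int.negSucc 0, Int.ofNat 1, Int.negSucc 0],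
  [Int.negSucc 0, Int.negSucc 0, Int.ofNat 1, Int.ofNat 1, Int.negSucc 0, Int.ofNat 1, Int.ofNat 1, Int.ofNat 1, Int.negSucc 0, Int.ofNat 1, Int.ofNat 1, Int.negSucc 0, Int.negSucc 0, Int.ofNat 1, Int.ofNat 1, Int.negSucc 0, Int.negSucc 0, Int.ofNat 3, Int.ofNat 1, Int.negSucc 0, Int.ofNat 1, Int.ofNat 1, Int.negSucc 0, Int.negSucc 0],
  [Int.ofNat 0, Int.ofNat 0, Int.negSucc 1, Int.negSucc 1, Int.ofNat 0, Int.negSucc 1, Int.ofNat 0, Int.ofNat 0, Int.ofNat 0, Int.ofNat 0, Int.ofNat 0, Int.ofNat 0, Int.ofNat 0, Int.ofNat 2, Int.negSucc 1, Int.negSucc 1, Int.ofNat 0, Int.ofNat 0, Int.ofNat 2, Int.negSucc 1, Int.ofNat 0, Int.ofNat 0, Int.ofNat 0, Int.ofNat 0],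
  [Int.ofNat 0, Int.negSucc 1, Int.negSucc 1, Int.ofNat 0, Int.negSucc 1, Int.ofNat 0, Int.ofNat 0, Int.ofNat 0, Int.ofNat 0, Int.ofNat 0, Int.ofNat 0, Int.ofNat 0, Int.ofNat 2, Int.negSucc 1, Int.negSucc 1, Int.ofNat 0, Int.ofNat 0, Int.ofNat 2, Int.negSucc 1, Int.ofNat 0, Int.ofNat 0, Int.ofNat 0, Int.ofNat 0, Int.ofNat 0],
  [Int.ofNat 0, Int.negSucc 1, Int.ofNat 2, Int.ofNat 0, Int.negSucc 1, Int.ofNat 0, Int.ofNat 0, Int.ofNat 0, Int.ofNat 0, Int.ofNat 0, Int.ofNat 0, Int.ofNat 0, Int.ofNat 2, Int.negSucc 1, Int.negSucc 1, Int.ofNat 0, Int.ofNat 0, Int.ofNat 2, Int.ofNat 2, Int.ofNat 0, Int.ofNat 0, Int.ofNat 0, Int.ofNat 0, Int.ofNat 0],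
  [Int.ofNat 0, Int.ofNat 2, Int.ofNat 2, Int.ofNat 0, Int.negSucc 1, Int.ofNat 0, Int.negSucc 1, Int.ofNat 0, Int.ofNat 0, Int.ofNat 0, Int.ofNat 0, Int.negSucc 1, Int.negSucc 1, Int.ofNat 0, Int.ofNat 0, Int.ofNat 0, Int.ofNat 2, Int.ofNat 0, Int.ofNat 0, Int.ofNat 2, Int.ofNat 0, Int.ofNat 0, Int.ofNat 0, Int.ofNat 0],
  [Int.ofNat 0, Int.ofNat 2, Int.negSucc 1, Int.ofNat 0, Int.negSucc 1, Int.ofNat 0, Int.negSucc 1, Int.ofNat 0, Int.ofNat 0, Int.ofNat 0, Int.ofNat 0, Int.ofNat 2, Int.negSucc 1, Int.ofNat 0, Int.ofNat 0, Int.ofNat 0, Int.ofNat 2, Int.ofNat 0, Int.ofNat 0, Int.ofNat 2, Int.ofNat 0, Int.ofNat 0, Int.ofNat 0, Int.ofNat 0],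
  [Int.ofNat 0, Int.ofNat 0, Int.ofNat 2, Int.negSucc 1, Int.ofNat 0, Int.negSucc 1, Int.ofNat 0, Int.negSucc 1, Int.ofNat 0, Int.ofNat 0, Int.ofNat 0, Int.ofNat 0, Int.ofNat 2, Int.negSucc 1, Int.ofNat 0, Int.ofNat 0, Int.ofNat 0, Int.ofNat 2, Int.ofNat 0, Int.ofNat 0, Int.ofNat 2, Int.ofNat 0, Int.ofNat 0, Int.ofNat 0],
  [Int.ofNat 1, Int.ofNat 1, Int.negSucc 0, Int.negSucc 0, Int.ofNat 1, Int.negSucc 0, Int.ofNat 1, Int.negSucc 0, Int.negSucc 0, Int.negSucc 0, Int.negSucc 0, Int.negSucc 0, Int.ofNat 1, Int.negSucc 0, Int.ofNat 1, Int.negSucc 0, Int.ofNat 1, Int.ofNat 3, Int.negSucc 0, Int.ofNat 1, Int.ofNat 1, Int.ofNat 1, Int.ofNat 1, Int.ofNat 1],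
  [Int.negSucc 0, Int.ofNat 1, Int.negSucc 0, Int.ofNat 1, Int.negSucc 0, Int.negSucc 0, Int.negSucc 0, Int.negSucc 0, Int.negSucc 0, Int.ofNat 1, Int.negSucc 0, Int.ofNat 1, Int.negSucc 0, Int.ofNat 1, Int.ofNat 3, Int.negSucc 0, Int.ofNat 1, Int.ofNat 1, Int.ofNat 1, Int.ofNat 1, Int.ofNat 1, Int.ofNat 1, Int.negSucc 0, Int.ofNat 1],
  [Int.ofNat 1, Int.negSucc 0, Int.ofNat 1, Int.negSucc 0, Int.negSucc 0, Int.negSucc 2, Int.negSucc 0, Int.negSucc 0, Int.negSucc 0, Int.ofNat 1, Int.negSucc 0, Int.ofNat 1, Int.negSucc 0, Int.ofNat 1, Int.ofNat 1, Int.negSucc 0, Int.ofNat 1, Int.negSucc 0, Int.ofNat 1, Int.ofNat 1, Int.ofNat 1, Int.ofNat 1, Int.negSucc 0, Int.negSucc 0],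
  [Int.ofNat 1, Int.negSucc 0, Int.negSucc 0, Int.negSucc 0, Int.ofNat 1, Int.negSucc 0, Int.ofNat 1, Int.negSucc 0, Int.negSucc 0, Int.ofNat 1, Int.ofNat 1, Int.negSucc 0, Int.ofNat 1, Int.ofNat 1, Int.negSucc 0, Int.negSucc 0, Int.negSucc 0, Int.ofNat 1, Int.negSucc 0, Int.ofNat 1, Int.ofNat 1, Int.negSucc 2, Int.ofNat 1, Int.negSucc 0],
  [Int.negSucc 1, Int.ofNat 0, Int.ofNat 0, Int.ofNat 0, Int.ofNat 0, Int.ofNat 0, Int.ofNat 2, Int.ofNat 0, Int.ofNat 0, Int.ofNat 0, Int.ofNat 0, Int.ofNat 0, Int.ofNat 2, Int.ofNat 0, Int.ofNat 0, Int.negSucc 1, Int.negSucc 1, Int.ofNat 2, Int.ofNat 0, Int.ofNat 2, Int.ofNat 0, Int.negSucc 1, Int.ofNat 0, Int.ofNat 0],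
  [Int.negSucc 1, Int.ofNat 0, Int.ofNat 0, Int.ofNat 0, Int.ofNat 0, Int.ofNat 0, Int.negSucc 1, Int.ofNat 0, Int.ofNat 0, Int.ofNat 0, Int.ofNat 0, Int.ofNat 0, Int.ofNat 2, Int.ofNat 0, Int.ofNat 0, Int.ofNat 2, Int.negSucc 1, Int.ofNat 2, Int.ofNat 0, Int.ofNat 2, Int.ofNat 0, Int.negSucc 1, Int.ofNat 0, Int.ofNat 0],
  [Int.ofNat 0, Int.negSucc 1, Int.ofNat 0, Int.ofNat 0, Int.ofNat 0, Int.negSucc 1, Int.negSucc 1, Int.ofNat 0, Int.ofNat 0, Int.ofNat 0, Int.ofNat 0, Int.ofNat 0, Int.ofNat 2, Int.ofNat 0, Int.ofNat 2, Int.ofNat 0, Int.ofNat 2, Int.ofNat 2, Int.ofNat 0, Int.ofNat 0, Int.negSucc 1, Int.ofNat 0, Int.ofNat 0, Int.ofNat 0],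
  [Int.ofNat 0, Int.ofNat 2, Int.ofNat 0, Int.ofNat 0, Int.ofNat 0, Int.negSucc 1, Int.ofNat 2, Int.ofNat 0, Int.ofNat 0, Int.ofNat 0, Int.ofNat 0, Int.ofNat 0, Int.negSucc 1, Int.ofNat 0, Int.ofNat 2, Int.ofNat 0, Int.negSucc 1, Int.ofNat 2, Int.ofNat 0, Int.ofNat 0, Int.negSucc 1, Int.ofNat 0, Int.ofNat 0, Int.ofNat 0],
  [Int.ofNat 0, Int.ofNat 0, Int.ofNat 0, Int.ofNat 0, Int.ofNat 2, Int.ofNat 0, Int.ofNat 0, Int.ofNat 0, Int.negSucc 1, Int.negSucc 1, Int.negSucc 1, Int.ofNat 0, Int.ofNat 0, Int.ofNat 0, Int.ofNat 0, Int.ofNat 0, Int.ofNat 0, Int.ofNat 0, Int.ofNat 2, Int.ofNat 2, Int.ofNat 0, Int.negSucc 1, Int.ofNat 2, Int.ofNat 0],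
  [Int.ofNat 0, Int.ofNat 0, Int.ofNat 0, Int.ofNat 0, Int.ofNat 2, Int.ofNat 0, Int.ofNat 0, Int.ofNat 0, Int.negSucc 1, Int.ofNat 2, Int.ofNat 2, Int.ofNat 0, Int.ofNat 0, Int.ofNat 0, Int.ofNat 0, Int.ofNat 0, Int.ofNat 0, Int.ofNat 0, Int.negSucc 1, Int.ofNat 2, Int.ofNat 0, Int.ofNat 2, Int.ofNat 2, Int.ofNat 0],
  [Int.ofNat 2, Int.ofNat 0, Int.ofNat 0, Int.ofNat 0, Int.ofNat 0, Int.ofNat 2, Int.ofNat 0, Int.ofNat 0, Int.ofNat 0, Int.negSucc 1, Int.ofNat 2, Int.ofNat 2, Int.ofNat 0, Int.ofNat 0, Int.ofNat 0, Int.ofNat 0, Int.ofNat 0, Int.ofNat 0, Int.ofNat 0, Int.negSucc 1, Int.ofNat 2, Int.ofNat 0, Int.ofNat 2, Int.ofNat 0],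
  [Int.negSucc 0, Int.ofNat 1, Int.ofNat 1, Int.negSucc 0, Int.negSucc 0, Int.ofNat 1, Int.ofNat 1, Int.ofNat 1, Int.negSucc 0, Int.negSucc 2, Int.ofNat 1, Int.ofNat 1, Int.negSucc 0, Int.negSucc 0, Int.negSucc 0, Int.negSucc 0, Int.negSucc 0, Int.negSucc 0, Int.negSucc 0, Int.negSucc 0, Int.ofNat 1, Int.ofNat 1, Int.ofNat 1, Int.ofNat 1],
  [Int.negSucc 0, Int.negSucc 0, Int.ofNat 1, Int.ofNat 1, Int.ofNat 1, Int.negSucc 0, Int.negSucc 2, Int.ofNat 1, Int.ofNat 1, Int.negSucc 0, Int.negSucc 0, Int.negSucc 0, Int.negSucc 0, Int.negSucc 0, Int.negSucc 0, Int.negSucc 0, Int.negSucc 0, Int.ofNat 1, Int.ofNat 1, Int.ofNat 1, Int.negSucc 0, Int.ofNat 1, Int.ofNat 1, Int.ofNat 1],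
  [Int.ofNat 1, Int.ofNat 1, Int.negSucc 0, Int.ofNat 1, Int.ofNat 1, Int.negSucc 0, Int.negSucc 2, Int.ofNat 1, Int.ofNat 1, Int.ofNat 1, Int.ofNat 1, Int.negSucc 0, Int.negSucc 0, Int.negSucc 0, Int.negSucc 0, Int.ofNat 1, Int.negSucc 0, Int.ofNat 1, Int.ofNat 1, Int.ofNat 1, Int.ofNat 1, Int.ofNat 1, Int.ofNat 1, Int.negSucc 0],
  [Int.ofNat 1, Int.negSucc 2, Int.ofNat 1, Int.ofNat 1, Int.ofNat 1, Int.ofNat 1, Int.negSucc 0, Int.ofNat 1, Int.negSucc 0, Int.negSucc 0, Int.ofNat 1, Int.ofNat 1, Int.ofNat 1, Int.negSucc 0, Int.ofNat 1, Int.ofNat 1, Int.ofNat 1, Int.negSucc 0, Int.ofNat 1, Int.negSucc 0, Int.ofNat 1, Int.negSucc 0, Int.ofNat 1, Int.negSucc 0],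
  [Int.negSucc 1, Int.ofNat 2, Int.negSucc 1, Int.ofNat 0, Int.ofNat 0, Int.ofNat 0, Int.ofNat 0, Int.ofNat 2, Int.negSucc 1, Int.negSucc 1, Int.ofNat 0, Int.ofNat 0, Int.ofNat 0, Int.negSucc 1, Int.ofNat 0, Int.ofNat 0, Int.ofNat 0, Int.negSucc 1, Int.ofNat 0, Int.ofNat 0, Int.ofNat 0, Int.ofNat 0, Int.ofNat 0, Int.ofNat 0],
  [Int.negSucc 1, Int.ofNat 2, Int.ofNat 2, Int.ofNat 0, Int.ofNat 0, Int.ofNat 0, Int.ofNat 0, Int.ofNat 2, Int.negSucc 1, Int.ofNat 2, Int.ofNat 0, Int.ofNat 0, Int.ofNat 0, Int.negSucc 1, Int.ofNat 0, Int.ofNat 0, Int.ofNat 0, Int.negSucc 1, Int.ofNat 0, Int.ofNat 0, Int.ofNat 0, Int.ofNat 0, Int.ofNat 0, Int.ofNat 0],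
  [Int.ofNat 0, Int.ofNat 0, Int.negSucc 1, Int.ofNat 0, Int.ofNat 0, Int.negSucc 1, Int.ofNat 0, Int.ofNat 0, Int.ofNat 2, Int.ofNat 0, Int.ofNat 2, Int.negSucc 1, Int.ofNat 0, Int.ofNat 0, Int.ofNat 0, Int.ofNat 0, Int.ofNat 2, Int.ofNat 0, Int.negSucc 1, Int.ofNat 2, Int.ofNat 0, Int.ofNat 0, Int.ofNat 0, Int.ofNat 0],
  [Int.ofNat 0, Int.ofNat 0, Int.ofNat 2, Int.ofNat 0, Int.ofNat 0, Int.ofNat 2, Int.ofNat 0, Int.ofNat 0, Int.ofNat 2, Int.ofNat 0, Int.negSucc 1, Int.negSucc 1, Int.ofNat 0, Int.ofNat 0, Int.ofNat 0, Int.ofNat 0, Int.ofNat 2, Int.ofNat 0, Int.ofNat 2, Int.ofNat 2, Int.ofNat 0, Int.ofNat 0, Int.ofNat 0, Int.ofNat 0],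
  [Int.ofNat 1, Int.ofNat 1, Int.negSucc 0, Int.negSucc 0, Int.negSucc 0, Int.ofNat 1, Int.negSucc 0, Int.negSucc 0, Int.ofNat 1, Int.ofNat 1, Int.negSucc 0, Int.negSucc 2, Int.negSucc 0, Int.negSucc 0, Int.negSucc 0, Int.ofNat 1, Int.ofNat 1, Int.negSucc 0, Int.ofNat 1, Int.ofNat 1, Int.ofNat 1, Int.negSucc 0, Int.negSucc 0, Int.ofNat 1],
  [Int.ofNat 1, Int.ofNat 1, Int.negSucc 0, Int.negSucc 0, Int.negSucc 0, Int.negSucc 0, Int.ofNat 1, Int.ofNat 1, Int.ofNat 1, Int.negSucc 0, Int.negSucc 0, Int.ofNat 1, Int.ofNat 1, Int.ofNat 1, Int.negSucc 0, Int.ofNat 1, Int.negSucc 0, Int.negSucc 2, Int.negSucc 0, Int.negSucc 0, Int.negSucc 0, Int.ofNat 1, Int.negSucc 0, Int.ofNat 1],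
  [Int.ofNat 0, Int.ofNat 0, Int.ofNat 2, Int.ofNat 2, Int.ofNat 0, Int.ofNat 2, Int.ofNat 0, Int.ofNat 0, Int.ofNat 0, Int.ofNat 0, Int.ofNat 0, Int.ofNat 0, Int.ofNat 0, Int.ofNat 2, Int.ofNat 2, Int.ofNat 2, Int.ofNat 0, Int.ofNat 0, Int.negSucc 1, Int.negSucc 1, Int.ofNat 0, Int.ofNat 0, Int.ofNat 0, Int.ofNat 0],
  [Int.ofNat 0, Int.ofNat 0, Int.ofNat 0, Int.ofNat 0, Int.ofNat 0, Int.ofNat 2, Int.ofNat 2, Int.ofNat 0, Int.ofNat 2, Int.ofNat 0, Int.ofNat 0, Int.ofNat 0, Int.ofNat 0, Int.ofNat 0, Int.ofNat 0, Int.ofNat 0, Int.ofNat 2, Int.ofNat 2, Int.ofNat 2, Int.ofNat 0, Int.ofNat 0, Int.negSucc 1, Int.negSucc 1, Int.ofNat 0],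
  [Int.ofNat 0, Int.ofNat 0, Int.ofNat 0, Int.negSucc 1, Int.ofNat 0, Int.ofNat 0, Int.ofNat 2, Int.ofNat 0, Int.ofNat 0, Int.ofNat 0, Int.ofNat 0, Int.negSucc 1, Int.negSucc 1, Int.ofNat 0, Int.negSucc 1, Int.ofNat 0, Int.ofNat 2, Int.ofNat 0, Int.ofNat 0, Int.ofNat 0, Int.ofNat 0, Int.negSucc 1, Int.negSucc 1, Int.ofNat 0],
  [Int.ofNat 0, Int.ofNat 0, Int.negSucc 1, Int.ofNat 0, Int.ofNat 0, Int.ofNat 2, Int.ofNat 0, Int.ofNat 0, Int.ofNat 0, Int.ofNat 0, Int.negSucc 1, Int.negSucc 1, Int.ofNat 0, Int.negSucc 1, Int.ofNat 0, Int.ofNat 2, Int.ofNat 0, Int.ofNat 0, Int.ofNat 0, Int.ofNat 0, Int.negSucc 1, Int.negSucc 1, Int.ofNat 0, Int.ofNat 0],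
  [Int.ofNat 0, Int.ofNat 0, Int.ofNat 2, Int.ofNat 0, Int.ofNat 0, Int.ofNat 2, Int.ofNat 0, Int.ofNat 0, Int.ofNat 0, Int.ofNat 0, Int.ofNat 2, Int.ofNat 2, Int.ofNat 0, Int.negSucc 1, Int.ofNat 0, Int.ofNat 2, Int.ofNat 0, Int.ofNat 0, Int.ofNat 0, Int.ofNat 0, Int.negSucc 1, Int.ofNat 2, Int.ofNat 0, Int.ofNat 0]]

set_option maxRecDepth 100000 in
theorem c1et10_chk : pmChk (List.replicate 14 [10, 0, 25, 26]).flatten nxL c1et10M 0 0 = true := by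
  decide +kernel

theorem c1et10_ne : wE letE2 (List.replicate 14 [10, 0, 25, 26]).flatten ≠ 1 ∧ wE letE2 (List.replicate 14 [10, 0, 25, 26]).flatten ≠ negElt :=
  ne_pm_of_chk nxL_mem c1et10_chk

set_option maxRecDepth 100000 in
def c1et11M : List (List ℤ) :=
  [[Int.negSucc 3, Int.ofNat 0, Int.ofNat 0, Int.ofNat 0, Int.ofNat 0, Int.ofNat 0, Int.ofNat 0, Int.ofNat 0, Int.ofNat 0, Int.ofNat 0, Int.ofNat 0, Int.ofNat 0, Int.ofNat 0, Int.ofNat 0, Int.ofNat 0, Int.ofNat 0, Int.ofNat 0, Int.ofNat 0, Int.ofNat 0, Int.ofNat 0, Int.ofNat 0, Int.ofNat 0, Int.ofNat 0, Int.ofNat 4],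
  [Int.ofNat 4, Int.ofNat 0, Int.ofNat 0, Int.ofNat 0, Int.ofNat 0, Int.ofNat 0, Int.ofNat 0, Int.ofNat 0, Int.ofNat 0, Int.ofNat 0, Int.ofNat 0, Int.ofNat 0, Int.ofNat 0, Int.ofNat 0, Int.ofNat 0, Int.ofNat 0, Int.ofNat 0, Int.ofNat 0, Int.ofNat 0, Int.ofNat 0, Int.ofNat 0, Int.ofNat 0, Int.ofNat 0, Int.ofNat 4],
  [Int.ofNat 0, Int.ofNat 4, Int.ofNat 0, Int.ofNat 0, Int.ofNat 0, Int.ofNat 0, Int.ofNat 0, Int.ofNat 0, Int.ofNat 0, Int.ofNat 0, Int.ofNat 0, Int.ofNat 0, Int.ofNat 0, Int.ofNat 0, Int.ofNat 0, Int.ofNat 0, Int.ofNat 0, Int.ofNat 0, Int.ofNat 0, Int.ofNat 0, Int.ofNat 0, Int.ofNat 0, Int.ofNat 0, Int.ofNat 4],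
  [Int.ofNat 4, Int.ofNat 0, Int.ofNat 4, Int.ofNat 0, Int.ofNat 0, Int.ofNat 0, Int.ofNat 0, Int.ofNat 0, Int.ofNat 0, Int.ofNat 0, Int.ofNat 0, Int.ofNat 0, Int.ofNat 0, Int.ofNat 0, Int.ofNat 0, Int.ofNat 0, Int.ofNat 0, Int.ofNat 0, Int.ofNat 0, Int.ofNat 0, Int.ofNat 0, Int.ofNat 0, Int.ofNat 0, Int.ofNat 0],
  [Int.ofNat 0, Int.ofNat 0, Int.ofNat 0, Int.ofNat 0, Int.ofNat 0, Int.ofNat 0, Int.ofNat 0, Int.ofNat 0, Int.ofNat 0, Int.ofNat 0, Int.ofNat 0, Int.ofNat 0, Int.ofNat 0, Int.ofNat 0, Int.ofNat 0, Int.ofNat 0, Int.ofNat 0, Int.ofNat 0, Int.ofNat 0, Int.ofNat 0, Int.ofNat 4, Int.ofNat 0, Int.ofNat 4, Int.ofNat 0],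
  [Int.ofNat 0, Int.ofNat 0, Int.ofNat 0, Int.ofNat 0, Int.negSucc 1, Int.ofNat 0, Int.ofNat 0, Int.ofNat 0, Int.ofNat 0, Int.negSucc 1, Int.negSucc 1, Int.ofNat 0, Int.ofNat 0, Int.negSucc 1, Int.ofNat 0, Int.negSucc 1, Int.negSucc 1, Int.ofNat 0, Int.ofNat 0, Int.ofNat 0, Int.ofNat 2, Int.ofNat 0, Int.ofNat 2, Int.ofNat 0],
  [Int.ofNat 0, Int.ofNat 0, Int.negSucc 1, Int.ofNat 0, Int.ofNat 0, Int.ofNat 0, Int.ofNat 0, Int.negSucc 1, Int.ofNat 0, Int.negSucc 1, Int.ofNat 2, Int.ofNat 0, Int.negSucc 1, Int.negSucc 1, Int.ofNat 2, Int.negSucc 1, Int.ofNat 0, Int.ofNat 0, Int.ofNat 0, Int.ofNat 0, Int.ofNat 0, Int.ofNat 0, Int.ofNat 0, Int.ofNat 0],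
  [Int.negSucc 0, Int.negSucc 0, Int.ofNat 1, Int.negSucc 0, Int.ofNat 1, Int.negSucc 0, Int.ofNat 1, Int.negSucc 0, Int.ofNat 1, Int.negSucc 0, Int.ofNat 3, Int.ofNat 1, Int.negSucc 0, Int.negSucc 0, Int.ofNat 1, Int.negSucc 0, Int.ofNat 1, Int.negSucc 0, Int.ofNat 1, Int.ofNat 1, Int.ofNat 1, Int.ofNat 1, Int.ofNat 1, Int.negSucc 0],
  [Int.negSucc 0, Int.negSucc 0, Int.negSucc 0, Int.negSucc 0, Int.ofNat 1, Int.ofNat 1, Int.negSucc 0, Int.negSucc 0, Int.ofNat 1, Int.ofNat 1, Int.negSucc 2, Int.ofNat 1, Int.negSucc 0, Int.negSucc 0, Int.ofNat 1, Int.ofNat 1, Int.ofNat 1, Int.negSucc 0, Int.negSucc 0, Int.ofNat 1, Int.ofNat 1, Int.ofNat 1, Int.negSucc 0, Int.negSucc 0],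
  [Int.negSucc 2, Int.ofNat 1, Int.ofNat 1, Int.ofNat 1, Int.ofNat 1, Int.negSucc 0, Int.ofNat 1, Int.negSucc 0, Int.ofNat 1, Int.ofNat 1, Int.negSucc 0, Int.negSucc 0, Int.ofNat 1, Int.ofNat 1, Int.negSucc 0, Int.negSucc 0, Int.ofNat 1, Int.negSucc 0, Int.ofNat 1, Int.negSucc 0, Int.negSucc 0, Int.negSucc 0, Int.negSucc 0, Int.negSucc 0],
  [Int.ofNat 3, Int.negSucc 0, Int.negSucc 0, Int.negSucc 0, Int.negSucc 0, Int.negSucc 0, Int.negSucc 0, Int.negSucc 0, Int.negSucc 0, Int.negSucc 0, Int.negSucc 0, Int.negSucc 0, Int.negSucc 0, Int.negSucc 0, Int.negSucc 0, Int.negSucc 0, Int.negSucc 0, Int.negSucc 0, Int.negSucc 0, Int.negSucc 0, Int.negSucc 0, Int.negSucc 0, Int.negSucc 0, Int.negSucc 0],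
  [Int.negSucc 0, Int.negSucc 0, Int.negSucc 0, Int.negSucc 0, Int.negSucc 0, Int.negSucc 0, Int.negSucc 0, Int.negSucc 0, Int.negSucc 0, Int.negSucc 0, Int.negSucc 0, Int.negSucc 0, Int.negSucc 0, Int.negSucc 0, Int.negSucc 0, Int.negSucc 0, Int.negSucc 0, Int.negSucc 0, Int.negSucc 0, Int.negSucc 0, Int.negSucc 0, Int.negSucc 0, Int.negSucc 0, Int.ofNat 3],
  [Int.ofNat 1, Int.negSucc 0, Int.ofNat 1, Int.negSucc 0, Int.negSucc 0, Int.negSucc 0, Int.negSucc 0, Int.ofNat 1, Int.negSucc 0, Int.ofNat 1, Int.ofNat 1, Int.ofNat 1, Int.negSucc 0, Int.negSucc 0, Int.negSucc 0, Int.negSucc 0, Int.negSucc 0, Int.negSucc 0, Int.ofNat 1, Int.negSucc 0, Int.negSucc 0, Int.ofNat 1, Int.negSucc 0, Int.ofNat 3],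
  [Int.negSucc 0, Int.ofNat 1, Int.negSucc 0, Int.ofNat 1, Int.negSucc 0, Int.negSucc 0, Int.negSucc 0, Int.negSucc 0, Int.ofNat 1, Int.negSucc 0, Int.ofNat 1, Int.ofNat 1, Int.ofNat 1, Int.negSucc 0, Int.negSucc 0, Int.negSucc 0, Int.negSucc 0, Int.negSucc 0, Int.negSucc 0, Int.ofNat 1, Int.negSucc 0, Int.negSucc 0, Int.ofNat 1, Int.ofNat 3],
  [Int.ofNat 2, Int.ofNat 0, Int.ofNat 2, Int.ofNat 2, Int.ofNat 0, Int.ofNat 0, Int.ofNat 0, Int.ofNat 0, Int.ofNat 0, Int.ofNat 0, Int.ofNat 2, Int.ofNat 0, Int.ofNat 0, Int.ofNat 0, Int.ofNat 0, Int.ofNat 0, Int.ofNat 0, Int.ofNat 0, Int.negSucc 1, Int.ofNat 2, Int.ofNat 0, Int.ofNat 0, Int.ofNat 2, Int.negSucc 1],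
  [Int.ofNat 2, Int.ofNat 0, Int.ofNat 0, Int.ofNat 0, Int.ofNat 0, Int.ofNat 0, Int.ofNat 0, Int.ofNat 2, Int.ofNat 0, Int.ofNat 0, Int.ofNat 0, Int.ofNat 0, Int.ofNat 0, Int.ofNat 0, Int.ofNat 0, Int.negSucc 1, Int.ofNat 2, Int.ofNat 0, Int.ofNat 0, Int.ofNat 2, Int.ofNat 2, Int.ofNat 0, Int.ofNat 2, Int.negSucc 1],
  [Int.negSucc 1, Int.ofNat 0, Int.ofNat 0, Int.ofNat 0, Int.negSucc 1, Int.ofNat 0, Int.negSucc 1, Int.ofNat 0, Int.ofNat 0, Int.ofNat 0, Int.ofNat 0, Int.ofNat 0, Int.ofNat 0, Int.negSucc 1, Int.ofNat 0, Int.negSucc 1, Int.ofNat 0, Int.ofNat 0, Int.ofNat 0, Int.ofNat 0, Int.ofNat 2, Int.negSucc 1, Int.ofNat 0, Int.ofNat 2],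
  [Int.negSucc 1, Int.negSucc 1, Int.negSucc 1, Int.ofNat 0, Int.ofNat 0, Int.ofNat 0, Int.ofNat 0, Int.ofNat 0, Int.ofNat 0, Int.negSucc 1, Int.ofNat 2, Int.ofNat 0, Int.ofNat 0, Int.ofNat 0, Int.ofNat 0, Int.negSucc 1, Int.ofNat 0, Int.ofNat 0, Int.ofNat 0, Int.ofNat 0, Int.negSucc 1, Int.ofNat 0, Int.ofNat 0, Int.ofNat 2],
  [Int.ofNat 0, Int.ofNat 0, Int.ofNat 0, Int.ofNat 0, Int.ofNat 0, Int.ofNat 0, Int.ofNat 0, Int.ofNat 0, Int.ofNat 0, Int.ofNat 0, Int.ofNat 4, Int.ofNat 0, Int.ofNat 0, Int.ofNat 0, Int.ofNat 0, Int.ofNat 0, Int.ofNat 0, Int.ofNat 0, Int.ofNat 0, Int.ofNat 0, Int.ofNat 0, Int.ofNat 0, Int.ofNat 0, Int.negSucc 3],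
  [Int.ofNat 0, Int.ofNat 0, Int.ofNat 0, Int.ofNat 0, Int.ofNat 0, Int.ofNat 0, Int.ofNat 0, Int.ofNat 0, Int.ofNat 0, Int.ofNat 0, Int.negSucc 3, Int.ofNat 0, Int.ofNat 0, Int.ofNat 0, Int.ofNat 0, Int.ofNat 0, Int.ofNat 0, Int.ofNat 0, Int.ofNat 0, Int.ofNat 0, Int.ofNat 0, Int.ofNat 0, Int.ofNat 0, Int.negSucc 3],
  [Int.ofNat 0, Int.ofNat 0, Int.ofNat 0, Int.ofNat 0, Int.ofNat 0, Int.ofNat 0, Int.ofNat 0, Int.ofNat 0, Int.ofNat 0, Int.ofNat 0, Int.ofNat 0, Int.ofNat 0, Int.negSucc 3, Int.ofNat 0, Int.ofNat 0, Int.ofNat 0, Int.ofNat 0, Int.ofNat 0, Int.ofNat 0, Int.ofNat 0, Int.ofNat 0, Int.ofNat 0, Int.ofNat 0, Int.negSucc 3],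
  [Int.ofNat 0, Int.ofNat 0, Int.ofNat 0, Int.ofNat 0, Int.ofNat 0, Int.ofNat 0, Int.ofNat 0, Int.ofNat 0, Int.ofNat 0, Int.ofNat 0, Int.ofNat 0, Int.ofNat 0, Int.negSucc 3, Int.ofNat 0, Int.ofNat 0, Int.ofNat 0, Int.ofNat 0, Int.ofNat 0, Int.ofNat 0, Int.ofNat 0, Int.ofNat 0, Int.ofNat 0, Int.ofNat 0, Int.negSucc 3],
  [Int.negSucc 1, Int.negSucc 1, Int.negSucc 1, Int.ofNat 0, Int.ofNat 0, Int.ofNat 0, Int.ofNat 0, Int.ofNat 0, Int.ofNat 2, Int.ofNat 0, Int.ofNat 0, Int.ofNat 2, Int.negSucc 1, Int.ofNat 0, Int.ofNat 0, Int.ofNat 0, Int.ofNat 0, Int.ofNat 0, Int.ofNat 2, Int.ofNat 0, Int.ofNat 0, Int.ofNat 0, Int.ofNat 0, Int.ofNat 2],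
  [Int.negSucc 1, Int.ofNat 2, Int.ofNat 0, Int.ofNat 0, Int.negSucc 1, Int.ofNat 0, Int.negSucc 1, Int.ofNat 0, Int.ofNat 0, Int.negSucc 1, Int.ofNat 0, Int.ofNat 0, Int.ofNat 2, Int.ofNat 0, Int.ofNat 0, Int.ofNat 0, Int.ofNat 0, Int.ofNat 2, Int.ofNat 0, Int.ofNat 0, Int.ofNat 0, Int.ofNat 0, Int.ofNat 0, Int.ofNat 2],
  [Int.ofNat 3, Int.negSucc 0, Int.ofNat 1, Int.negSucc 0, Int.negSucc 0, Int.negSucc 0, Int.negSucc 0, Int.ofNat 1, Int.negSucc 0, Int.negSucc 0, Int.ofNat 1, Int.negSucc 0, Int.ofNat 1, Int.ofNat 1, Int.negSucc 0, Int.ofNat 1, Int.ofNat 1, Int.ofNat 1, Int.negSucc 0, Int.ofNat 1, Int.ofNat 1, Int.ofNat 1, Int.ofNat 1, Int.negSucc 0],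
  [Int.ofNat 1, Int.ofNat 1, Int.ofNat 1, Int.ofNat 3, Int.negSucc 0, Int.ofNat 1, Int.negSucc 0, Int.negSucc 0, Int.negSucc 0, Int.negSucc 0, Int.ofNat 1, Int.negSucc 0, Int.negSucc 0, Int.ofNat 1, Int.negSucc 0, Int.ofNat 1, Int.ofNat 1, Int.negSucc 0, Int.ofNat 1, Int.ofNat 1, Int.ofNat 1, Int.negSucc 0, Int.ofNat 1, Int.negSucc 0],
  [Int.ofNat 0, Int.ofNat 0, Int.ofNat 0, Int.ofNat 2, Int.negSucc 1, Int.ofNat 0, Int.ofNat 0, Int.ofNat 0, Int.ofNat 0, Int.negSucc 1, Int.ofNat 0, Int.ofNat 0, Int.ofNat 0, Int.ofNat 0, Int.negSucc 1, Int.ofNat 0, Int.ofNat 0, Int.negSucc 1, Int.ofNat 2, Int.ofNat 2, Int.ofNat 0, Int.ofNat 0, Int.ofNat 0, Int.ofNat 2],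
  [Int.ofNat 0, Int.ofNat 0, Int.ofNat 2, Int.negSucc 1, Int.ofNat 0, Int.ofNat 0, Int.ofNat 0, Int.ofNat 0, Int.negSucc 1, Int.ofNat 0, Int.ofNat 0, Int.ofNat 0, Int.ofNat 0, Int.negSucc 1, Int.ofNat 0, Int.ofNat 0, Int.negSucc 1, Int.ofNat 2, Int.ofNat 2, Int.ofNat 0, Int.ofNat 0, Int.ofNat 0, Int.ofNat 0, Int.ofNat 2],
  [Int.ofNat 0, Int.ofNat 0, Int.negSucc 1, Int.negSucc 1, Int.ofNat 0, Int.ofNat 0, Int.ofNat 0, Int.ofNat 0, Int.negSucc 1, Int.ofNat 0, Int.ofNat 0, Int.ofNat 0, Int.ofNat 0, Int.negSucc 1, Int.ofNat 0, Int.ofNat 0, Int.negSucc 1, Int.ofNat 2, Int.negSucc 1, Int.ofNat 0, Int.ofNat 0, Int.ofNat 0, Int.ofNat 0, Int.ofNat 2],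
  [Int.ofNat 0, Int.negSucc 1, Int.negSucc 1, Int.negSucc 1, Int.ofNat 0, Int.ofNat 0, Int.ofNat 0, Int.ofNat 0, Int.ofNat 0, Int.negSucc 1, Int.ofNat 0, Int.ofNat 0, Int.negSucc 1, Int.negSucc 1, Int.ofNat 0, Int.ofNat 0, Int.ofNat 0, Int.ofNat 0, Int.ofNat 0, Int.ofNat 2, Int.ofNat 0, Int.ofNat 0, Int.ofNat 0, Int.ofNat 2],
  [Int.ofNat 0, Int.negSucc 1, Int.ofNat 2, Int.negSucc 1, Int.ofNat 0, Int.ofNat 0, Int.ofNat 0, Int.ofNat 0, Int.ofNat 0, Int.ofNat 2, Int.ofNat 0, Int.ofNat 0, Int.negSucc 1, Int.negSucc 1, Int.ofNat 0, Int.ofNat 0, Int.ofNat 0, Int.ofNat 0, Int.ofNat 0, Int.ofNat 2, Int.ofNat 0, Int.ofNat 0, Int.ofNat 0, Int.ofNat 2],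
  [Int.ofNat 0, Int.ofNat 0, Int.negSucc 1, Int.ofNat 2, Int.negSucc 1, Int.ofNat 0, Int.ofNat 0, Int.ofNat 0, Int.ofNat 0, Int.ofNat 0, Int.ofNat 2, Int.ofNat 0, Int.ofNat 0, Int.negSucc 1, Int.negSucc 1, Int.ofNat 0, Int.ofNat 0, Int.ofNat 0, Int.ofNat 0, Int.ofNat 0, Int.ofNat 2, Int.ofNat 0, Int.ofNat 0, Int.ofNat 2],
  [Int.ofNat 0, Int.ofNat 0, Int.ofNat 2, Int.ofNat 2, Int.ofNat 0, Int.ofNat 0, Int.ofNat 0, Int.ofNat 0, Int.ofNat 0, Int.negSucc 1, Int.ofNat 0, Int.ofNat 0, Int.ofNat 0, Int.ofNat 0, Int.negSucc 1, Int.negSucc 1, Int.ofNat 2, Int.ofNat 0, Int.ofNat 0, Int.ofNat 0, Int.ofNat 0, Int.ofNat 0, Int.ofNat 2, Int.negSucc 1],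
  [Int.ofNat 2, Int.ofNat 0, Int.ofNat 0, Int.ofNat 0, Int.ofNat 0, Int.ofNat 0, Int.negSucc 1, Int.ofNat 0, Int.ofNat 0, Int.ofNat 0, Int.ofNat 0, Int.negSucc 1, Int.negSucc 1, Int.ofNat 2, Int.ofNat 0, Int.ofNat 0, Int.ofNat 0, Int.ofNat 0, Int.ofNat 0, Int.ofNat 2, Int.ofNat 0, Int.ofNat 0, Int.ofNat 2, Int.negSucc 1],
  [Int.negSucc 1, Int.ofNat 0, Int.ofNat 0, Int.ofNat 0, Int.negSucc 1, Int.ofNat 0, Int.negSucc 1, Int.ofNat 0, Int.ofNat 2, Int.ofNat 0, Int.ofNat 0, Int.ofNat 0, Int.ofNat 0, Int.ofNat 0, Int.ofNat 0, Int.ofNat 0, Int.negSucc 1, Int.ofNat 0, Int.ofNat 2, Int.ofNat 2, Int.ofNat 0, Int.ofNat 0, Int.ofNat 0, Int.ofNat 2],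
  [Int.negSucc 1, Int.negSucc 1, Int.negSucc 1, Int.ofNat 0, Int.ofNat 2, Int.ofNat 0, Int.ofNat 0, Int.ofNat 0, Int.ofNat 0, Int.ofNat 0, Int.ofNat 0, Int.ofNat 0, Int.ofNat 0, Int.negSucc 1, Int.ofNat 0, Int.ofNat 0, Int.ofNat 2, Int.ofNat 0, Int.ofNat 0, Int.ofNat 0, Int.ofNat 0, Int.ofNat 0, Int.ofNat 2, Int.ofNat 2],
  [Int.ofNat 0, Int.ofNat 0, Int.ofNat 0, Int.ofNat 0, Int.ofNat 0, Int.ofNat 0, Int.ofNat 0, Int.ofNat 0, Int.ofNat 0, Int.ofNat 0, Int.ofNat 0, Int.ofNat 0, Int.ofNat 0, Int.negSucc 3, Int.ofNat 0, Int.ofNat 0, Int.ofNat 0, Int.ofNat 0, Int.ofNat 0, Int.ofNat 0, Int.ofNat 0, Int.ofNat 0, Int.ofNat 0, Int.negSucc 3],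
  [Int.ofNat 0, Int.ofNat 0, Int.ofNat 0, Int.ofNat 0, Int.ofNat 0, Int.ofNat 0, Int.ofNat 0, Int.ofNat 0, Int.ofNat 0, Int.ofNat 0, Int.ofNat 0, Int.ofNat 0, Int.ofNat 0, Int.negSucc 3, Int.ofNat 0, Int.ofNat 0, Int.ofNat 0, Int.ofNat 0, Int.ofNat 0, Int.ofNat 0, Int.ofNat 0, Int.ofNat 0, Int.ofNat 0, Int.negSucc 3],
  [Int.ofNat 0, Int.ofNat 0, Int.ofNat 0, Int.ofNat 0, Int.ofNat 0, Int.ofNat 0, Int.ofNat 0, Int.ofNat 0, Int.ofNat 0, Int.ofNat 0, Int.negSucc 3, Int.ofNat 0, Int.ofNat 0, Int.ofNat 0, Int.ofNat 0, Int.ofNat 0, Int.ofNat 0, Int.ofNat 0, Int.ofNat 0, Int.ofNat 0, Int.ofNat 0, Int.ofNat 0, Int.ofNat 0, Int.negSucc 3],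
  [Int.ofNat 0, Int.ofNat 0, Int.ofNat 0, Int.ofNat 0, Int.ofNat 0, Int.ofNat 0, Int.ofNat 0, Int.ofNat 0, Int.ofNat 0, Int.ofNat 0, Int.negSucc 3, Int.ofNat 0, Int.ofNat 0, Int.ofNat 0, Int.ofNat 0, Int.ofNat 0, Int.ofNat 0, Int.ofNat 0, Int.ofNat 0, Int.ofNat 0, Int.ofNat 0, Int.ofNat 0, Int.ofNat 0, Int.negSucc 3],
  [Int.negSucc 3, Int.ofNat 0, Int.ofNat 0, Int.ofNat 0, Int.ofNat 0, Int.ofNat 0, Int.ofNat 0, Int.ofNat 0, Int.ofNat 0, Int.ofNat 0, Int.ofNat 0, Int.ofNat 0, Int.ofNat 0, Int.ofNat 0, Int.ofNat 0, Int.ofNat 0, Int.negSucc 3, Int.ofNat 0, Int.ofNat 0, Int.ofNat 0, Int.ofNat 0, Int.ofNat 0, Int.ofNat 0, Int.ofNat 0],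
  [Int.ofNat 4, Int.ofNat 0, Int.ofNat 0, Int.ofNat 0, Int.ofNat 0, Int.ofNat 0, Int.ofNat 0, Int.ofNat 0, Int.ofNat 0, Int.ofNat 0, Int.ofNat 0, Int.ofNat 0, Int.ofNat 0, Int.ofNat 0, Int.ofNat 0, Int.ofNat 0, Int.negSucc 3, Int.ofNat 0, Int.ofNat 0, Int.ofNat 0, Int.ofNat 0, Int.ofNat 0, Int.ofNat 0, Int.ofNat 0],
  [Int.ofNat 0, Int.ofNat 4, Int.ofNat 0, Int.ofNat 0, Int.ofNat 0, Int.ofNat 0, Int.ofNat 0, Int.ofNat 0, Int.ofNat 0, Int.ofNat 0, Int.ofNat 0, Int.ofNat 0, Int.ofNat 0, Int.ofNat 0, Int.ofNat 0, Int.ofNat 0, Int.ofNat 0, Int.negSucc 3, Int.ofNat 0, Int.ofNat 0, Int.ofNat 0, Int.ofNat 0, Int.ofNat 0, Int.ofNat 0],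
  [Int.ofNat 2, Int.negSucc 1, Int.ofNat 2, Int.ofNat 2, Int.ofNat 0, Int.ofNat 2, Int.ofNat 0, Int.ofNat 0, Int.ofNat 0, Int.ofNat 0, Int.ofNat 0, Int.ofNat 0, Int.ofNat 0, Int.ofNat 0, Int.ofNat 2, Int.ofNat 0, Int.ofNat 0, Int.negSucc 1, Int.ofNat 0, Int.ofNat 0, Int.ofNat 0, Int.ofNat 0, Int.ofNat 0, Int.ofNat 2],
  [Int.ofNat 2, Int.ofNat 0, Int.ofNat 2, Int.ofNat 0, Int.ofNat 0, Int.ofNat 0, Int.ofNat 0, Int.ofNat 0, Int.ofNat 0, Int.ofNat 0, Int.ofNat 0, Int.ofNat 2, Int.ofNat 0, Int.ofNat 0, Int.negSucc 1, Int.ofNat 0, Int.ofNat 0, Int.ofNat 0, Int.ofNat 0, Int.ofNat 0, Int.ofNat 2, Int.negSucc 1, Int.ofNat 2, Int.ofNat 2],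
  [Int.ofNat 1, Int.ofNat 3, Int.ofNat 1, Int.ofNat 1, Int.negSucc 0, Int.ofNat 1, Int.ofNat 1, Int.ofNat 1, Int.negSucc 0, Int.negSucc 0, Int.negSucc 0, Int.ofNat 1, Int.negSucc 0, Int.negSucc 0, Int.negSucc 0, Int.negSucc 0, Int.negSucc 0, Int.ofNat 1, Int.negSucc 0, Int.ofNat 1, Int.ofNat 1, Int.negSucc 0, Int.ofNat 1, Int.ofNat 1],
  [Int.ofNat 1, Int.ofNat 1, Int.negSucc 0, Int.ofNat 1, Int.negSucc 0, Int.ofNat 1, Int.ofNat 1, Int.negSucc 0, Int.negSucc 0, Int.negSucc 0, Int.ofNat 1, Int.ofNat 1, Int.negSucc 0, Int.negSucc 0, Int.ofNat 1, Int.negSucc 0, Int.negSucc 0, Int.negSucc 0, Int.ofNat 3, Int.ofNat 1, Int.negSucc 0, Int.ofNat 1, Int.ofNat 1, Int.ofNat 1],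
  [Int.ofNat 0, Int.ofNat 0, Int.ofNat 2, Int.ofNat 0, Int.ofNat 0, Int.ofNat 0, Int.ofNat 0, Int.negSucc 1, Int.negSucc 1, Int.ofNat 0, Int.ofNat 2, Int.ofNat 0, Int.negSucc 1, Int.ofNat 0, Int.ofNat 0, Int.ofNat 0, Int.ofNat 0, Int.negSucc 1, Int.ofNat 2, Int.ofNat 0, Int.ofNat 0, Int.ofNat 0, Int.ofNat 2, Int.ofNat 0],
  [Int.ofNat 0, Int.ofNat 0, Int.negSucc 1, Int.ofNat 0, Int.ofNat 0, Int.ofNat 0, Int.ofNat 0, Int.negSucc 1, Int.negSucc 1, Int.ofNat 0, Int.negSucc 1, Int.ofNat 0, Int.negSucc 1, Int.ofNat 0, Int.ofNat 0, Int.ofNat 0, Int.ofNat 0, Int.negSucc 1, Int.negSucc 1, Int.ofNat 0, Int.ofNat 0, Int.ofNat 0, Int.negSucc 1, Int.ofNat 0],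
  [Int.negSucc 1, Int.ofNat 0, Int.ofNat 0, Int.ofNat 0, Int.negSucc 1, Int.negSucc 1, Int.negSucc 1, Int.negSucc 1, Int.ofNat 0, Int.ofNat 0, Int.ofNat 0, Int.ofNat 0, Int.negSucc 1, Int.ofNat 0, Int.ofNat 0, Int.ofNat 0, Int.ofNat 0, Int.ofNat 0, Int.ofNat 0, Int.negSucc 1, Int.negSucc 1, Int.ofNat 0, Int.ofNat 0, Int.ofNat 0],
  [Int.negSucc 1, Int.ofNat 0, Int.ofNat 0, Int.ofNat 0, Int.negSucc 1, Int.ofNat 2, Int.ofNat 2, Int.negSucc 1, Int.ofNat 0, Int.ofNat 0, Int.ofNat 0, Int.ofNat 0, Int.negSucc 1, Int.ofNat 0, Int.ofNat 0, Int.ofNat 0, Int.ofNat 0, Int.ofNat 0, Int.ofNat 0, Int.negSucc 1, Int.negSucc 1, Int.ofNat 0, Int.ofNat 0, Int.ofNat 0],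
  [Int.ofNat 1, Int.negSucc 0, Int.negSucc 0, Int.negSucc 0, Int.negSucc 0, Int.ofNat 1, Int.ofNat 3, Int.negSucc 0, Int.ofNat 1, Int.ofNat 1, Int.ofNat 1, Int.ofNat 1, Int.negSucc 0, Int.ofNat 1, Int.negSucc 0, Int.ofNat 1, Int.ofNat 1, Int.negSucc 0, Int.ofNat 1, Int.negSucc 0, Int.negSucc 0, Int.ofNat 1, Int.ofNat 1, Int.negSucc 0],
  [Int.ofNat 1, Int.ofNat 1, Int.ofNat 3, Int.negSucc 0, Int.negSucc 0, Int.ofNat 1, Int.negSucc 0, Int.ofNat 1, Int.ofNat 1, Int.negSucc 0, Int.negSucc 0, Int.negSucc 0, Int.ofNat 1, Int.ofNat 1, Int.negSucc 0, Int.ofNat 1, Int.ofNat 1, Int.ofNat 1, Int.negSucc 0, Int.ofNat 1, Int.ofNat 1, Int.negSucc 0, Int.negSucc 0, Int.negSucc 0],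
  [Int.ofNat 1, Int.ofNat 1, Int.negSucc 0, Int.negSucc 0, Int.negSucc 0, Int.ofNat 1, Int.negSucc 0, Int.ofNat 1, Int.ofNat 1, Int.negSucc 0, Int.negSucc 0, Int.negSucc 0, Int.ofNat 1, Int.ofNat 1, Int.negSucc 0, Int.ofNat 1, Int.ofNat 1, Int.ofNat 1, Int.negSucc 0, Int.ofNat 1, Int.ofNat 1, Int.negSucc 0, Int.negSucc 0, Int.ofNat 3],
  [Int.ofNat 1, Int.negSucc 0, Int.negSucc 0, Int.ofNat 1, Int.ofNat 1, Int.negSucc 0, Int.negSucc 0, Int.negSucc 0, Int.ofNat 1, Int.negSucc 0, Int.ofNat 1, Int.ofNat 1, Int.negSucc 0, Int.negSucc 0, Int.negSucc 0, Int.ofNat 1, Int.ofNat 1, Int.negSucc 0, Int.ofNat 1, Int.ofNat 1, Int.ofNat 1, Int.negSucc 0, Int.ofNat 1, Int.ofNat 3],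
  [Int.ofNat 0, Int.ofNat 2, Int.ofNat 2, Int.ofNat 2, Int.ofNat 0, Int.ofNat 0, Int.ofNat 0, Int.ofNat 0, Int.ofNat 0, Int.negSucc 1, Int.ofNat 0, Int.ofNat 0, Int.negSucc 1, Int.negSucc 1, Int.ofNat 0, Int.ofNat 0, Int.ofNat 0, Int.ofNat 0, Int.ofNat 0, Int.ofNat 2, Int.ofNat 0, Int.ofNat 0, Int.ofNat 0, Int.negSucc 1],
  [Int.ofNat 2, Int.ofNat 2, Int.ofNat 2, Int.ofNat 0, Int.ofNat 0, Int.ofNat 0, Int.ofNat 0, Int.ofNat 0, Int.negSucc 1, Int.ofNat 0, Int.ofNat 0, Int.negSucc 1, Int.negSucc 1, Int.ofNat 0, Int.ofNat 0, Int.ofNat 0, Int.ofNat 0, Int.ofNat 0, Int.ofNat 2, Int.ofNat 0, Int.ofNat 0, Int.ofNat 0, Int.ofNat 0, Int.negSucc 1],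
  [Int.negSucc 1, Int.ofNat 2, Int.negSucc 1, Int.ofNat 0, Int.ofNat 0, Int.ofNat 0, Int.ofNat 0, Int.ofNat 0, Int.negSucc 1, Int.ofNat 0, Int.ofNat 0, Int.ofNat 2, Int.negSucc 1, Int.ofNat 0, Int.ofNat 0, Int.ofNat 0, Int.ofNat 0, Int.ofNat 0, Int.negSucc 1, Int.ofNat 0, Int.ofNat 0, Int.ofNat 0, Int.ofNat 0, Int.negSucc 1],
  [Int.negSucc 1, Int.negSucc 1, Int.negSucc 1, Int.ofNat 0, Int.ofNat 2, Int.ofNat 0, Int.ofNat 0, Int.ofNat 0, Int.ofNat 0, Int.ofNat 0, Int.ofNat 0, Int.ofNat 0, Int.ofNat 0, Int.negSucc 1, Int.ofNat 0, Int.ofNat 0, Int.negSucc 1, Int.ofNat 0, Int.ofNat 0, Int.ofNat 0, Int.ofNat 0, Int.ofNat 0, Int.ofNat 2, Int.negSucc 1],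
  [Int.ofNat 2, Int.negSucc 1, Int.ofNat 2, Int.ofNat 0, Int.ofNat 2, Int.ofNat 0, Int.ofNat 0, Int.ofNat 0, Int.ofNat 0, Int.ofNat 0, Int.ofNat 0, Int.ofNat 0, Int.ofNat 0, Int.negSucc 1, Int.ofNat 0, Int.ofNat 0, Int.negSucc 1, Int.ofNat 0, Int.ofNat 0, Int.ofNat 0, Int.ofNat 0, Int.ofNat 0, Int.ofNat 2, Int.negSucc 1],
  [Int.ofNat 2, Int.ofNat 2, Int.negSucc 1, Int.ofNat 2, Int.ofNat 0, Int.ofNat 2, Int.ofNat 0, Int.ofNat 0, Int.ofNat 0, Int.ofNat 0, Int.ofNat 0, Int.ofNat 0, Int.ofNat 0, Int.ofNat 0, Int.negSucc 1, Int.ofNat 0, Int.ofNat 0, Int.negSucc 1, Int.ofNat 0, Int.ofNat 0, Int.ofNat 0, Int.ofNat 0, Int.ofNat 0, Int.negSucc 1],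
  [Int.negSucc 1, Int.negSucc 1, Int.ofNat 2, Int.ofNat 2, Int.ofNat 0, Int.ofNat 2, Int.ofNat 0, Int.ofNat 0, Int.ofNat 0, Int.ofNat 0, Int.ofNat 0, Int.ofNat 0, Int.ofNat 0, Int.ofNat 0, Int.negSucc 1, Int.ofNat 0, Int.ofNat 0, Int.negSucc 1, Int.ofNat 0, Int.ofNat 0, Int.ofNat 0, Int.ofNat 0, Int.ofNat 0, Int.ofNat 2],
  [Int.ofNat 2, Int.ofNat 0, Int.ofNat 2, Int.ofNat 0, Int.ofNat 0, Int.ofNat 0, Int.ofNat 0, Int.ofNat 0, Int.ofNat 0, Int.ofNat 0, Int.ofNat 0, Int.negSucc 1, Int.ofNat 0, Int.ofNat 0, Int.negSucc 1, Int.ofNat 0, Int.ofNat 0, Int.ofNat 0, Int.ofNat 0, Int.ofNat 0, Int.negSucc 1, Int.negSucc 1, Int.ofNat 2, Int.ofNat 2],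
  [Int.ofNat 1, Int.ofNat 3, Int.ofNat 1, Int.ofNat 1, Int.negSucc 0, Int.ofNat 1, Int.ofNat 1, Int.ofNat 1, Int.ofNat 1, Int.ofNat 1, Int.ofNat 1, Int.negSucc 0, Int.ofNat 1, Int.negSucc 0, Int.negSucc 0, Int.ofNat 1, Int.negSucc 0, Int.ofNat 1, Int.ofNat 1, Int.ofNat 1, Int.negSucc 0, Int.negSucc 0, Int.ofNat 1, Int.ofNat 1],
  [Int.ofNat 1, Int.ofNat 1, Int.negSucc 0, Int.ofNat 1, Int.ofNat 1, Int.ofNat 1, Int.ofNat 1, Int.ofNat 1, Int.ofNat 1, Int.negSucc 0, Int.negSucc 0, Int.ofNat 1, Int.ofNat 1, Int.negSucc 0, Int.ofNat 1, Int.ofNat 1, Int.ofNat 1, Int.negSucc 0, Int.ofNat 3, Int.negSucc 0, Int.negSucc 0, Int.ofNat 1, Int.ofNat 1, Int.ofNat 1],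
  [Int.ofNat 0, Int.ofNat 0, Int.ofNat 2, Int.ofNat 0, Int.ofNat 0, Int.ofNat 0, Int.ofNat 0, Int.ofNat 0, Int.negSucc 1, Int.ofNat 0, Int.ofNat 0, Int.negSucc 1, Int.negSucc 1, Int.negSucc 1, Int.ofNat 0, Int.ofNat 2, Int.ofNat 0, Int.negSucc 1, Int.ofNat 0, Int.negSucc 1, Int.ofNat 0, Int.ofNat 0, Int.ofNat 0, Int.ofNat 0],
  [Int.ofNat 0, Int.ofNat 0, Int.negSucc 1, Int.ofNat 0, Int.ofNat 0, Int.ofNat 0, Int.ofNat 0, Int.ofNat 0, Int.negSucc 1, Int.ofNat 0, Int.ofNat 0, Int.negSucc 1, Int.negSucc 1, Int.negSucc 1, Int.ofNat 0, Int.negSucc 1, Int.ofNat 0, Int.negSucc 1, Int.ofNat 0, Int.negSucc 1, Int.ofNat 0, Int.ofNat 0, Int.ofNat 0, Int.ofNat 0],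
  [Int.ofNat 0, Int.ofNat 0, Int.negSucc 1, Int.negSucc 1, Int.ofNat 0, Int.ofNat 0, Int.ofNat 0, Int.ofNat 0, Int.ofNat 0, Int.ofNat 0, Int.negSucc 1, Int.ofNat 0, Int.negSucc 1, Int.ofNat 0, Int.negSucc 1, Int.ofNat 0, Int.negSucc 1, Int.negSucc 1, Int.ofNat 0, Int.negSucc 1, Int.ofNat 0, Int.ofNat 0, Int.ofNat 0, Int.ofNat 0],
  [Int.ofNat 0, Int.ofNat 0, Int.ofNat 2, Int.ofNat 2, Int.ofNat 0, Int.ofNat 0, Int.ofNat 0, Int.ofNat 0, Int.ofNat 0, Int.ofNat 0, Int.negSucc 1, Int.ofNat 0, Int.ofNat 2, Int.ofNat 0, Int.negSucc 1, Int.ofNat 0, Int.ofNat 2, Int.negSucc 1, Int.ofNat 0, Int.negSucc 1, Int.ofNat 0, Int.ofNat 0, Int.ofNat 0, Int.ofNat 0],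
  [Int.ofNat 0, Int.ofNat 0, Int.ofNat 0, Int.ofNat 0, Int.negSucc 1, Int.ofNat 0, Int.negSucc 1, Int.ofNat 0, Int.ofNat 0, Int.ofNat 0, Int.ofNat 2, Int.ofNat 2, Int.ofNat 0, Int.ofNat 0, Int.ofNat 0, Int.ofNat 2, Int.negSucc 1, Int.ofNat 0, Int.negSucc 1, Int.ofNat 0, Int.ofNat 0, Int.ofNat 2, Int.ofNat 0, Int.ofNat 0],
  [Int.ofNat 0, Int.ofNat 0, Int.ofNat 0, Int.ofNat 0, Int.negSucc 1, Int.ofNat 0, Int.negSucc 1, Int.ofNat 0, Int.ofNat 0, Int.ofNat 0, Int.negSucc 1, Int.negSucc 1, Int.ofNat 0, Int.ofNat 0, Int.ofNat 0, Int.ofNat 2, Int.negSucc 1, Int.ofNat 0, Int.ofNat 2, Int.ofNat 0, Int.ofNat 0, Int.negSucc 1, Int.ofNat 0, Int.ofNat 0],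
  [Int.ofNat 0, Int.ofNat 0, Int.ofNat 0, Int.ofNat 0, Int.ofNat 0, Int.negSucc 1, Int.ofNat 0, Int.negSucc 1, Int.ofNat 0, Int.ofNat 0, Int.ofNat 0, Int.negSucc 1, Int.negSucc 1, Int.ofNat 0, Int.ofNat 0, Int.ofNat 0, Int.ofNat 2, Int.negSucc 1, Int.ofNat 0, Int.ofNat 2, Int.ofNat 0, Int.ofNat 0, Int.negSucc 1, Int.ofNat 0],
  [Int.ofNat 0, Int.ofNat 0, Int.ofNat 0, Int.ofNat 2, Int.ofNat 0, Int.ofNat 0, Int.ofNat 0, Int.negSucc 1, Int.ofNat 2, Int.ofNat 0, Int.ofNat 0, Int.ofNat 0, Int.ofNat 0, Int.ofNat 0, Int.ofNat 2, Int.ofNat 0, Int.ofNat 2, Int.ofNat 0, Int.ofNat 2, Int.ofNat 2, Int.ofNat 0, Int.ofNat 0, Int.negSucc 1, Int.ofNat 0],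
  [Int.ofNat 2, Int.ofNat 0, Int.ofNat 0, Int.ofNat 0, Int.negSucc 1, Int.ofNat 2, Int.ofNat 0, Int.ofNat 0, Int.ofNat 0, Int.ofNat 0, Int.ofNat 0, Int.ofNat 2, Int.ofNat 0, Int.ofNat 2, Int.ofNat 0, Int.ofNat 2, Int.ofNat 2, Int.ofNat 0, Int.ofNat 0, Int.negSucc 1, Int.ofNat 0, Int.ofNat 0, Int.ofNat 0, Int.ofNat 0],
  [Int.negSucc 0, Int.ofNat 1, Int.ofNat 1, Int.negSucc 0, Int.negSucc 2, Int.ofNat 1, Int.ofNat 1, Int.ofNat 1, Int.negSucc 0, Int.negSucc 0, Int.negSucc 0, Int.ofNat 1, Int.negSucc 0, Int.ofNat 1, Int.negSucc 0, Int.ofNat 1, Int.ofNat 1, Int.negSucc 0, Int.negSucc 0, Int.negSucc 0, Int.negSucc 0, Int.ofNat 1, Int.negSucc 0, Int.ofNat 1],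
  [Int.negSucc 0, Int.ofNat 1, Int.negSucc 2, Int.negSucc 0, Int.negSucc 0, Int.ofNat 1, Int.ofNat 1, Int.negSucc 0, Int.negSucc 0, Int.ofNat 1, Int.negSucc 0, Int.negSucc 0, Int.negSucc 0, Int.ofNat 1, Int.negSucc 0, Int.ofNat 1, Int.negSucc 0, Int.negSucc 0, Int.ofNat 1, Int.ofNat 1, Int.ofNat 1, Int.ofNat 1, Int.negSucc 0, Int.ofNat 1],
  [Int.ofNat 0, Int.negSucc 1, Int.ofNat 2, Int.ofNat 0, Int.ofNat 0, Int.ofNat 2, Int.ofNat 0, Int.negSucc 1, Int.ofNat 0, Int.ofNat 0, Int.negSucc 1, Int.ofNat 0, Int.ofNat 0, Int.ofNat 2, Int.ofNat 0, Int.ofNat 0, Int.ofNat 0, Int.ofNat 0, Int.ofNat 2, Int.ofNat 0, Int.ofNat 0, Int.ofNat 0, Int.ofNat 0, Int.negSucc 1],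
  [Int.ofNat 0, Int.negSucc 1, Int.negSucc 1, Int.ofNat 0, Int.ofNat 0, Int.negSucc 1, Int.ofNat 0, Int.negSucc 1, Int.ofNat 0, Int.ofNat 0, Int.ofNat 2, Int.ofNat 0, Int.ofNat 0, Int.ofNat 2, Int.ofNat 0, Int.ofNat 0, Int.ofNat 0, Int.ofNat 0, Int.negSucc 1, Int.ofNat 0, Int.ofNat 0, Int.ofNat 0, Int.ofNat 0, Int.negSucc 1],
  [Int.ofNat 0, Int.ofNat 0, Int.ofNat 0, Int.ofNat 0, Int.negSucc 1, Int.ofNat 0, Int.negSucc 1, Int.ofNat 0, Int.ofNat 0, Int.ofNat 0, Int.ofNat 0, Int.negSucc 1, Int.ofNat 2, Int.ofNat 0, Int.ofNat 2, Int.ofNat 0, Int.ofNat 0, Int.ofNat 0, Int.negSucc 1, Int.ofNat 0, Int.negSucc 1, Int.ofNat 0, Int.ofNat 0, Int.negSucc 1],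
  [Int.ofNat 0, Int.ofNat 0, Int.ofNat 0, Int.ofNat 0, Int.negSucc 1, Int.ofNat 0, Int.ofNat 2, Int.ofNat 0, Int.ofNat 0, Int.ofNat 0, Int.ofNat 0, Int.negSucc 1, Int.ofNat 2, Int.ofNat 0, Int.ofNat 2, Int.ofNat 0, Int.ofNat 0, Int.ofNat 0, Int.ofNat 2, Int.ofNat 0, Int.negSucc 1, Int.ofNat 0, Int.ofNat 0, Int.negSucc 1],
  [Int.negSucc 0, Int.negSucc 0, Int.negSucc 0, Int.negSucc 0, Int.negSucc 0, Int.negSucc 0, Int.ofNat 1, Int.negSucc 0, Int.negSucc 0, Int.ofNat 1, Int.ofNat 1, Int.negSucc 2, Int.ofNat 1, Int.ofNat 1, Int.ofNat 1, Int.ofNat 1, Int.ofNat 1, Int.negSucc 0, Int.ofNat 1, Int.negSucc 0, Int.negSucc 0, Int.negSucc 0, Int.ofNat 1, Int.ofNat 1],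
  [Int.negSucc 0, Int.ofNat 1, Int.ofNat 1, Int.negSucc 0, Int.negSucc 0, Int.negSucc 0, Int.negSucc 0, Int.negSucc 0, Int.ofNat 1, Int.ofNat 1, Int.negSucc 0, Int.negSucc 0, Int.negSucc 0, Int.ofNat 1, Int.negSucc 0, Int.ofNat 1, Int.ofNat 1, Int.negSucc 2, Int.negSucc 0, Int.ofNat 1, Int.ofNat 1, Int.negSucc 0, Int.ofNat 1, Int.ofNat 1],
  [Int.ofNat 2, Int.ofNat 0, Int.ofNat 0, Int.ofNat 2, Int.negSucc 1, Int.ofNat 2, Int.ofNat 0, Int.ofNat 0, Int.ofNat 2, Int.ofNat 0, Int.negSucc 1, Int.ofNat 0, Int.ofNat 0, Int.ofNat 0, Int.ofNat 2, Int.ofNat 0, Int.ofNat 0, Int.ofNat 0, Int.ofNat 0, Int.ofNat 2, Int.ofNat 0, Int.ofNat 0, Int.ofNat 0, Int.ofNat 0],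
  [Int.ofNat 0, Int.ofNat 0, Int.ofNat 0, Int.ofNat 2, Int.ofNat 0, Int.ofNat 0, Int.ofNat 2, Int.negSucc 1, Int.ofNat 2, Int.ofNat 0, Int.ofNat 0, Int.ofNat 2, Int.ofNat 0, Int.negSucc 1, Int.ofNat 0, Int.ofNat 0, Int.ofNat 0, Int.ofNat 2, Int.ofNat 0, Int.ofNat 0, Int.ofNat 0, Int.ofNat 0, Int.ofNat 2, Int.ofNat 0],
  [Int.ofNat 0, Int.ofNat 0, Int.ofNat 0, Int.ofNat 0, Int.ofNat 0, Int.negSucc 1, Int.ofNat 2, Int.negSucc 1, Int.ofNat 0, Int.ofNat 0, Int.ofNat 0, Int.ofNat 0, Int.negSucc 1, Int.negSucc 1, Int.negSucc 1, Int.ofNat 0, Int.ofNat 0, Int.ofNat 0, Int.negSucc 1, Int.ofNat 0, Int.ofNat 0, Int.ofNat 0, Int.ofNat 2, Int.ofNat 0],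
  [Int.ofNat 0, Int.ofNat 0, Int.ofNat 0, Int.ofNat 0, Int.negSucc 1, Int.ofNat 2, Int.negSucc 1, Int.ofNat 0, Int.ofNat 0, Int.ofNat 0, Int.ofNat 0, Int.negSucc 1, Int.negSucc 1, Int.negSucc 1, Int.ofNat 0, Int.ofNat 0, Int.ofNat 0, Int.negSucc 1, Int.ofNat 0, Int.ofNat 0, Int.ofNat 0, Int.ofNat 2, Int.ofNat 0, Int.ofNat 0],
  [Int.ofNat 0, Int.ofNat 0, Int.ofNat 0, Int.ofNat 0, Int.negSucc 1, Int.ofNat 2, Int.negSucc 1, Int.ofNat 0, Int.ofNat 0, Int.ofNat 0, Int.ofNat 0, Int.ofNat 2, Int.negSucc 1, Int.negSucc 1, Int.ofNat 0, Int.ofNat 0, Int.ofNat 0, Int.negSucc 1, Int.ofNat 0, Int.ofNat 0, Int.ofNat 0, Int.negSucc 1, Int.ofNat 0, Int.ofNat 0],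
  [Int.ofNat 0, Int.ofNat 0, Int.ofNat 0, Int.ofNat 0, Int.ofNat 0, Int.ofNat 0, Int.negSucc 1, Int.ofNat 0, Int.ofNat 0, Int.ofNat 0, Int.negSucc 1, Int.ofNat 0, Int.negSucc 1, Int.ofNat 0, Int.ofNat 0, Int.ofNat 0, Int.negSucc 1, Int.ofNat 0, Int.negSucc 1, Int.negSucc 1, Int.ofNat 2, Int.ofNat 0, Int.ofNat 2, Int.ofNat 0],
  [Int.ofNat 0, Int.ofNat 0, Int.ofNat 0, Int.ofNat 0, Int.ofNat 0, Int.ofNat 0, Int.negSucc 1, Int.ofNat 0, Int.ofNat 0, Int.ofNat 0, Int.ofNat 2, Int.ofNat 0, Int.negSucc 1, Int.ofNat 0, Int.ofNat 0, Int.ofNat 0, Int.negSucc 1, Int.ofNat 0, Int.ofNat 2, Int.negSucc 1, Int.ofNat 2, Int.ofNat 0, Int.ofNat 2, Int.ofNat 0],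
  [Int.ofNat 2, Int.ofNat 0, Int.ofNat 0, Int.ofNat 0, Int.ofNat 0, Int.ofNat 0, Int.ofNat 0, Int.negSucc 1, Int.ofNat 0, Int.ofNat 0, Int.ofNat 0, Int.ofNat 2, Int.ofNat 0, Int.negSucc 1, Int.ofNat 0, Int.ofNat 0, Int.ofNat 0, Int.negSucc 1, Int.ofNat 0, Int.ofNat 2, Int.negSucc 1, Int.ofNat 2, Int.ofNat 0, Int.ofNat 0],
  [Int.negSucc 0, Int.ofNat 1, Int.ofNat 1, Int.ofNat 1, Int.ofNat 1, Int.ofNat 1, Int.negSucc 0, Int.negSucc 2, Int.negSucc 0, Int.ofNat 1, Int.ofNat 1, Int.ofNat 1, Int.negSucc 0, Int.negSucc 0, Int.ofNat 1, Int.ofNat 1, Int.ofNat 1, Int.negSucc 0, Int.negSucc 0, Int.ofNat 1, Int.negSucc 0, Int.ofNat 1, Int.ofNat 1, Int.ofNat 1],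
  [Int.ofNat 1, Int.ofNat 1, Int.ofNat 1, Int.negSucc 0, Int.negSucc 2, Int.negSucc 0, Int.ofNat 1, Int.ofNat 1, Int.ofNat 1, Int.negSucc 0, Int.negSucc 0, Int.ofNat 1, Int.ofNat 1, Int.ofNat 1, Int.negSucc 0, Int.negSucc 0, Int.ofNat 1, Int.negSucc 0, Int.ofNat 1, Int.ofNat 1, Int.negSucc 0, Int.ofNat 1, Int.ofNat 1, Int.ofNat 1],
  [Int.ofNat 1, Int.ofNat 1, Int.ofNat 1, Int.ofNat 1, Int.negSucc 2, Int.ofNat 1, Int.negSucc 0, Int.negSucc 0, Int.negSucc 0, Int.ofNat 1, Int.ofNat 1, Int.negSucc 0, Int.negSucc 0, Int.ofNat 1, Int.ofNat 1, Int.ofNat 1, Int.ofNat 1, Int.ofNat 1, Int.negSucc 0, Int.negSucc 0, Int.ofNat 1, Int.negSucc 0, Int.ofNat 1, Int.ofNat 1],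
  [Int.ofNat 1, Int.negSucc 0, Int.negSucc 2, Int.ofNat 1, Int.negSucc 0, Int.negSucc 0, Int.ofNat 1, Int.ofNat 1, Int.negSucc 0, Int.ofNat 1, Int.ofNat 1, Int.ofNat 1, Int.ofNat 1, Int.ofNat 1, Int.ofNat 1, Int.ofNat 1, Int.negSucc 0, Int.ofNat 1, Int.ofNat 1, Int.negSucc 0, Int.negSucc 0, Int.ofNat 1, Int.negSucc 0, Int.ofNat 1],
  [Int.negSucc 1, Int.ofNat 0, Int.ofNat 2, Int.ofNat 0, Int.ofNat 0, Int.negSucc 1, Int.ofNat 0, Int.ofNat 0, Int.negSucc 1, Int.ofNat 0, Int.ofNat 0, Int.ofNat 0, Int.ofNat 0, Int.ofNat 2, Int.ofNat 0, Int.ofNat 0, Int.ofNat 0, Int.ofNat 0, Int.ofNat 0, Int.negSucc 1, Int.negSucc 1, Int.ofNat 0, Int.ofNat 0, Int.negSucc 1],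
  [Int.negSucc 1, Int.ofNat 0, Int.negSucc 1, Int.ofNat 0, Int.ofNat 0, Int.ofNat 2, Int.ofNat 0, Int.ofNat 0, Int.negSucc 1, Int.ofNat 0, Int.ofNat 0, Int.ofNat 0, Int.ofNat 0, Int.ofNat 2, Int.ofNat 0, Int.ofNat 0, Int.ofNat 0, Int.ofNat 0, Int.ofNat 0, Int.negSucc 1, Int.negSucc 1, Int.ofNat 0, Int.ofNat 0, Int.negSucc 1],
  [Int.ofNat 0, Int.ofNat 0, Int.ofNat 0, Int.negSucc 1, Int.ofNat 0, Int.ofNat 0, Int.ofNat 0, Int.ofNat 0, Int.ofNat 2, Int.negSucc 1, Int.ofNat 2, Int.ofNat 0, Int.ofNat 0, Int.ofNat 0, Int.ofNat 0, Int.ofNat 0, Int.negSucc 1, Int.ofNat 0, Int.ofNat 0, Int.negSucc 1, Int.negSucc 1, Int.ofNat 0, Int.ofNat 0, Int.negSucc 1],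
  [Int.ofNat 0, Int.ofNat 0, Int.ofNat 0, Int.ofNat 2, Int.ofNat 0, Int.ofNat 0, Int.ofNat 0, Int.ofNat 0, Int.negSucc 1, Int.ofNat 2, Int.ofNat 2, Int.ofNat 0, Int.ofNat 0, Int.ofNat 0, Int.ofNat 0, Int.ofNat 0, Int.ofNat 2, Int.ofNat 0, Int.ofNat 0, Int.negSucc 1, Int.negSucc 1, Int.ofNat 0, Int.ofNat 0, Int.negSucc 1],
  [Int.negSucc 1, Int.ofNat 0, Int.ofNat 0, Int.ofNat 0, Int.ofNat 0, Int.ofNat 2, Int.negSucc 1, Int.ofNat 0, Int.negSucc 1, Int.ofNat 0, Int.ofNat 2, Int.ofNat 0, Int.ofNat 0, Int.ofNat 0, Int.ofNat 0, Int.ofNat 2, Int.ofNat 2, Int.ofNat 0, Int.ofNat 0, Int.ofNat 0, Int.negSucc 1, Int.ofNat 0, Int.ofNat 0, Int.ofNat 0],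
  [Int.ofNat 2, Int.ofNat 0, Int.ofNat 0, Int.ofNat 0, Int.ofNat 0, Int.ofNat 2, Int.negSucc 1, Int.ofNat 0, Int.negSucc 1, Int.ofNat 0, Int.negSucc 1, Int.ofNat 0, Int.ofNat 0, Int.ofNat 0, Int.ofNat 0, Int.ofNat 2, Int.ofNat 2, Int.ofNat 0, Int.ofNat 0, Int.ofNat 0, Int.negSucc 1, Int.ofNat 0, Int.ofNat 0, Int.ofNat 0],
  [Int.ofNat 0, Int.ofNat 2, Int.ofNat 0, Int.ofNat 0, Int.ofNat 0, Int.ofNat 0, Int.ofNat 2, Int.negSucc 1, Int.ofNat 0, Int.negSucc 1, Int.ofNat 0, Int.negSucc 1, Int.ofNat 0, Int.ofNat 0, Int.ofNat 0, Int.ofNat 0, Int.ofNat 2, Int.ofNat 2, Int.ofNat 0, Int.ofNat 0, Int.ofNat 0, Int.negSucc 1, Int.ofNat 0, Int.ofNat 0],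
  [Int.ofNat 1, Int.negSucc 0, Int.ofNat 1, Int.negSucc 0, Int.negSucc 0, Int.negSucc 0, Int.ofNat 3, Int.negSucc 0, Int.ofNat 1, Int.negSucc 0, Int.ofNat 1, Int.negSucc 0, Int.ofNat 1, Int.negSucc 0, Int.negSucc 0, Int.ofNat 1, Int.ofNat 1, Int.ofNat 1, Int.ofNat 1, Int.ofNat 1, Int.ofNat 1, Int.negSucc 0, Int.negSucc 0, Int.ofNat 1],
  [Int.negSucc 0, Int.negSucc 0, Int.negSucc 0, Int.ofNat 3, Int.negSucc 0, Int.ofNat 1, Int.negSucc 0, Int.ofNat 1, Int.negSucc 0, Int.ofNat 1, Int.negSucc 0, Int.negSucc 0, Int.ofNat 1, Int.ofNat 1, Int.ofNat 1, Int.ofNat 1, Int.ofNat 1, Int.ofNat 1, Int.negSucc 0, Int.negSucc 0, Int.ofNat 1, Int.negSucc 0, Int.ofNat 1, Int.ofNat 1],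
  [Int.ofNat 0, Int.ofNat 0, Int.ofNat 0, Int.ofNat 0, Int.negSucc 1, Int.negSucc 1, Int.ofNat 0, Int.ofNat 2, Int.ofNat 0, Int.ofNat 0, Int.negSucc 1, Int.ofNat 0, Int.ofNat 2, Int.ofNat 0, Int.negSucc 1, Int.ofNat 0, Int.ofNat 0, Int.negSucc 1, Int.ofNat 0, Int.ofNat 0, Int.ofNat 0, Int.ofNat 0, Int.ofNat 0, Int.negSucc 1],
  [Int.ofNat 0, Int.ofNat 0, Int.negSucc 1, Int.ofNat 0, Int.ofNat 0, Int.ofNat 2, Int.ofNat 0, Int.negSucc 1, Int.ofNat 2, Int.ofNat 0, Int.ofNat 0, Int.negSucc 1, Int.ofNat 0, Int.ofNat 0, Int.ofNat 0, Int.ofNat 0, Int.ofNat 0, Int.negSucc 1, Int.ofNat 0, Int.ofNat 0, Int.ofNat 0, Int.negSucc 1, Int.ofNat 0, Int.negSucc 1],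
  [Int.negSucc 1, Int.negSucc 1, Int.ofNat 0, Int.ofNat 0, Int.ofNat 0, Int.ofNat 2, Int.ofNat 2, Int.ofNat 0, Int.ofNat 2, Int.ofNat 0, Int.ofNat 0, Int.negSucc 1, Int.ofNat 0, Int.ofNat 0, Int.ofNat 0, Int.ofNat 0, Int.ofNat 0, Int.negSucc 1, Int.ofNat 0, Int.ofNat 2, Int.ofNat 0, Int.ofNat 0, Int.ofNat 0, Int.ofNat 0],
  [Int.negSucc 1, Int.negSucc 1, Int.ofNat 0, Int.ofNat 0, Int.ofNat 0, Int.negSucc 1, Int.negSucc 1, Int.ofNat 0, Int.ofNat 2, Int.ofNat 0, Int.ofNat 0, Int.negSucc 1, Int.ofNat 0, Int.ofNat 0, Int.ofNat 0, Int.ofNat 0, Int.ofNat 0, Int.negSucc 1, Int.ofNat 0, Int.ofNat 2, Int.ofNat 0, Int.ofNat 0, Int.ofNat 0, Int.ofNat 0],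
  [Int.ofNat 2, Int.ofNat 0, Int.negSucc 1, Int.ofNat 0, Int.ofNat 0, Int.negSucc 1, Int.ofNat 0, Int.ofNat 0, Int.ofNat 0, Int.ofNat 0, Int.ofNat 0, Int.negSucc 1, Int.ofNat 0, Int.ofNat 2, Int.ofNat 0, Int.ofNat 0, Int.ofNat 0, Int.negSucc 1, Int.negSucc 1, Int.ofNat 0, Int.ofNat 0, Int.ofNat 0, Int.negSucc 1, Int.ofNat 0],
  [Int.ofNat 2, Int.ofNat 0, Int.ofNat 2, Int.ofNat 0, Int.ofNat 0, Int.ofNat 2, Int.ofNat 0, Int.ofNat 0, Int.ofNat 0, Int.ofNat 0, Int.ofNat 0, Int.negSucc 1, Int.ofNat 0, Int.ofNat 2, Int.ofNat 0, Int.ofNat 0, Int.ofNat 0, Int.negSucc 1, Int.ofNat 2, Int.ofNat 0, Int.ofNat 0, Int.ofNat 0, Int.ofNat 2, Int.ofNat 0],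
  [Int.ofNat 0, Int.ofNat 2, Int.ofNat 0, Int.ofNat 0, Int.negSucc 1, Int.ofNat 2, Int.ofNat 0, Int.ofNat 0, Int.ofNat 0, Int.ofNat 0, Int.ofNat 0, Int.negSucc 1, Int.ofNat 0, Int.ofNat 0, Int.ofNat 0, Int.ofNat 0, Int.negSucc 1, Int.negSucc 1, Int.ofNat 2, Int.ofNat 0, Int.ofNat 0, Int.ofNat 0, Int.ofNat 0, Int.ofNat 2],
  [Int.ofNat 0, Int.ofNat 2, Int.ofNat 0, Int.ofNat 0, Int.ofNat 0, Int.ofNat 0, Int.ofNat 2, Int.ofNat 2, Int.negSucc 1, Int.ofNat 0, Int.ofNat 0, Int.ofNat 0, Int.ofNat 0, Int.ofNat 0, Int.negSucc 1, Int.ofNat 0, Int.ofNat 0, Int.negSucc 1, Int.negSucc 1, Int.ofNat 0, Int.ofNat 0, Int.ofNat 0, Int.ofNat 0, Int.ofNat 2],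
  [Int.ofNat 2, Int.ofNat 0, Int.ofNat 2, Int.ofNat 2, Int.ofNat 0, Int.ofNat 2, Int.ofNat 0, Int.ofNat 0, Int.ofNat 0, Int.ofNat 0, Int.ofNat 0, Int.ofNat 2, Int.ofNat 2, Int.ofNat 0, Int.ofNat 0, Int.ofNat 0, Int.ofNat 0, Int.ofNat 0, Int.ofNat 0, Int.negSucc 1, Int.ofNat 0, Int.negSucc 1, Int.ofNat 0, Int.ofNat 0],
  [Int.ofNat 0, Int.negSucc 1, Int.ofNat 0, Int.ofNat 2, Int.ofNat 0, Int.ofNat 2, Int.ofNat 2, Int.ofNat 0, Int.ofNat 2, Int.ofNat 0, Int.ofNat 0, Int.ofNat 0, Int.ofNat 0, Int.ofNat 0, Int.ofNat 2, Int.ofNat 2, Int.ofNat 0, Int.ofNat 0, Int.ofNat 0, Int.ofNat 0, Int.ofNat 0, Int.ofNat 0, Int.negSucc 1, Int.ofNat 0],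
  [Int.negSucc 0, Int.ofNat 1, Int.negSucc 0, Int.negSucc 0, Int.ofNat 1, Int.negSucc 0, Int.ofNat 1, Int.negSucc 0, Int.ofNat 1, Int.negSucc 0, Int.negSucc 0, Int.negSucc 0, Int.negSucc 0, Int.ofNat 1, Int.negSucc 0, Int.ofNat 1, Int.ofNat 1, Int.negSucc 2, Int.negSucc 0, Int.negSucc 0, Int.negSucc 0, Int.negSucc 0, Int.negSucc 0, Int.negSucc 0],
  [Int.ofNat 1, Int.negSucc 0, Int.negSucc 0, Int.ofNat 1, Int.negSucc 0, Int.ofNat 1, Int.negSucc 0, Int.ofNat 1, Int.negSucc 0, Int.negSucc 0, Int.negSucc 0, Int.negSucc 0, Int.ofNat 1, Int.negSucc 0, Int.ofNat 1, Int.ofNat 1, Int.negSucc 2, Int.negSucc 0, Int.negSucc 0, Int.negSucc 0, Int.negSucc 0, Int.negSucc 0, Int.negSucc 0, Int.negSucc 0],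
  [Int.negSucc 0, Int.negSucc 0, Int.ofNat 1, Int.ofNat 1, Int.negSucc 0, Int.ofNat 1, Int.negSucc 0, Int.negSucc 0, Int.negSucc 0, Int.ofNat 1, Int.ofNat 1, Int.ofNat 1, Int.ofNat 1, Int.negSucc 0, Int.ofNat 1, Int.ofNat 1, Int.negSucc 2, Int.negSucc 0, Int.ofNat 1, Int.negSucc 0, Int.negSucc 0, Int.ofNat 1, Int.negSucc 0, Int.negSucc 0],
  [Int.negSucc 0, Int.ofNat 1, Int.ofNat 1, Int.ofNat 1, Int.negSucc 0, Int.ofNat 1, Int.negSucc 0, Int.negSucc 0, Int.ofNat 1, Int.negSucc 2, Int.ofNat 1, Int.ofNat 1, Int.negSucc 0, Int.negSucc 0, Int.negSucc 0, Int.ofNat 1, Int.ofNat 1, Int.negSucc 0, Int.negSucc 0, Int.negSucc 0, Int.ofNat 1, Int.negSucc 0, Int.ofNat 1, Int.negSucc 0],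
  [Int.ofNat 1, Int.ofNat 1, Int.negSucc 0, Int.ofNat 1, Int.negSucc 0, Int.ofNat 1, Int.negSucc 0, Int.ofNat 1, Int.ofNat 1, Int.ofNat 3, Int.negSucc 0, Int.negSucc 0, Int.negSucc 0, Int.negSucc 0, Int.negSucc 0, Int.ofNat 1, Int.ofNat 1, Int.negSucc 0, Int.ofNat 1, Int.negSucc 0, Int.ofNat 1, Int.ofNat 1, Int.ofNat 1, Int.negSucc 0],
  [Int.ofNat 1, Int.ofNat 1, Int.ofNat 1, Int.negSucc 0, Int.ofNat 1, Int.negSucc 0, Int.ofNat 1, Int.negSucc 0, Int.ofNat 1, Int.ofNat 1, Int.ofNat 3, Int.negSucc 0, Int.negSucc 0, Int.negSucc 0, Int.negSucc 0, Int.negSucc 0, Int.ofNat 1, Int.ofNat 1, Int.negSucc 0, Int.ofNat 1, Int.negSucc 0, Int.ofNat 1, Int.ofNat 1, Int.negSucc 0],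
  [Int.ofNat 0, Int.ofNat 0, Int.ofNat 0, Int.ofNat 0, Int.ofNat 0, Int.ofNat 0, Int.ofNat 0, Int.negSucc 1, Int.ofNat 2, Int.ofNat 0, Int.ofNat 2, Int.ofNat 0, Int.ofNat 0, Int.negSucc 1, Int.ofNat 0, Int.negSucc 1, Int.ofNat 0, Int.ofNat 2, Int.ofNat 0, Int.ofNat 0, Int.negSucc 1, Int.ofNat 0, Int.ofNat 0, Int.ofNat 2],
  [Int.ofNat 0, Int.ofNat 0, Int.ofNat 0, Int.ofNat 0, Int.negSucc 1, Int.ofNat 2, Int.ofNat 0, Int.ofNat 2, Int.ofNat 0, Int.ofNat 0, Int.negSucc 1, Int.ofNat 0, Int.negSucc 1, Int.ofNat 0, Int.ofNat 2, Int.ofNat 0, Int.ofNat 0, Int.negSucc 1, Int.ofNat 0, Int.ofNat 0, Int.ofNat 0, Int.ofNat 0, Int.ofNat 0, Int.ofNat 2],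
  [Int.ofNat 1, Int.ofNat 1, Int.ofNat 1, Int.negSucc 0, Int.negSucc 0, Int.ofNat 1, Int.negSucc 0, Int.ofNat 1, Int.ofNat 1, Int.ofNat 1, Int.negSucc 0, Int.ofNat 1, Int.negSucc 0, Int.ofNat 1, Int.ofNat 1, Int.ofNat 1, Int.ofNat 1, Int.negSucc 2, Int.ofNat 1, Int.negSucc 0, Int.ofNat 1, Int.negSucc 0, Int.ofNat 1, Int.negSucc 0],
  [Int.ofNat 1, Int.negSucc 0, Int.negSucc 0, Int.negSucc 0, Int.ofNat 1, Int.ofNat 1, Int.ofNat 1, Int.negSucc 0, Int.negSucc 0, Int.ofNat 1, Int.ofNat 1, Int.negSucc 2, Int.ofNat 1, Int.ofNat 1, Int.ofNat 1, Int.ofNat 1, Int.ofNat 1, Int.ofNat 1, Int.ofNat 1, Int.ofNat 1, Int.negSucc 0, Int.ofNat 1, Int.negSucc 0, Int.negSucc 0],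
  [Int.negSucc 1, Int.ofNat 0, Int.ofNat 0, Int.negSucc 1, Int.ofNat 0, Int.ofNat 0, Int.ofNat 0, Int.negSucc 1, Int.ofNat 0, Int.ofNat 0, Int.ofNat 0, Int.negSucc 1, Int.ofNat 2, Int.ofNat 0, Int.ofNat 0, Int.ofNat 0, Int.ofNat 0, Int.ofNat 0, Int.ofNat 2, Int.ofNat 0, Int.negSucc 1, Int.ofNat 0, Int.negSucc 1, Int.ofNat 0],
  [Int.negSucc 1, Int.ofNat 0, Int.ofNat 0, Int.negSucc 1, Int.ofNat 0, Int.ofNat 0, Int.ofNat 0, Int.negSucc 1, Int.ofNat 0, Int.ofNat 0, Int.ofNat 0, Int.negSucc 1, Int.ofNat 2, Int.ofNat 0, Int.ofNat 0, Int.ofNat 0, Int.ofNat 0, Int.ofNat 0, Int.negSucc 1, Int.ofNat 0, Int.negSucc 1, Int.ofNat 0, Int.ofNat 2, Int.ofNat 0],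
  [Int.ofNat 0, Int.ofNat 0, Int.negSucc 1, Int.ofNat 0, Int.ofNat 0, Int.ofNat 0, Int.ofNat 0, Int.negSucc 1, Int.ofNat 0, Int.negSucc 1, Int.ofNat 0, Int.negSucc 1, Int.ofNat 0, Int.ofNat 0, Int.ofNat 0, Int.negSucc 1, Int.ofNat 0, Int.ofNat 2, Int.ofNat 0, Int.ofNat 0, Int.negSucc 1, Int.ofNat 0, Int.ofNat 2, Int.ofNat 0],
  [Int.ofNat 0, Int.ofNat 0, Int.ofNat 2, Int.ofNat 0, Int.ofNat 0, Int.ofNat 0, Int.ofNat 0, Int.negSucc 1, Int.ofNat 0, Int.ofNat 2, Int.ofNat 0, Int.negSucc 1, Int.ofNat 0, Int.ofNat 0, Int.ofNat 0, Int.negSucc 1, Int.ofNat 0, Int.ofNat 2, Int.ofNat 0, Int.ofNat 0, Int.negSucc 1, Int.ofNat 0, Int.ofNat 2, Int.ofNat 0],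
  [Int.ofNat 0, Int.ofNat 2, Int.negSucc 1, Int.negSucc 1, Int.ofNat 2, Int.ofNat 2, Int.ofNat 0, Int.ofNat 0, Int.negSucc 1, Int.ofNat 0, Int.ofNat 0, Int.ofNat 2, Int.ofNat 0, Int.negSucc 1, Int.ofNat 0, Int.ofNat 0, Int.ofNat 0, Int.ofNat 0, Int.ofNat 0, Int.ofNat 0, Int.ofNat 0, Int.ofNat 0, Int.ofNat 0, Int.ofNat 0],
  [Int.ofNat 0, Int.ofNat 2, Int.ofNat 2, Int.negSucc 1, Int.ofNat 2, Int.ofNat 2, Int.ofNat 0, Int.ofNat 0, Int.negSucc 1, Int.ofNat 0, Int.ofNat 0, Int.negSucc 1, Int.ofNat 0, Int.negSucc 1, Int.ofNat 0, Int.ofNat 0, Int.ofNat 0, Int.ofNat 0, Int.ofNat 0, Int.ofNat 0, Int.ofNat 0, Int.ofNat 0, Int.ofNat 0, Int.ofNat 0],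
  [Int.ofNat 0, Int.ofNat 0, Int.ofNat 2, Int.ofNat 2, Int.negSucc 1, Int.ofNat 2, Int.ofNat 2, Int.ofNat 0, Int.ofNat 0, Int.negSucc 1, Int.ofNat 0, Int.ofNat 0, Int.negSucc 1, Int.ofNat 0, Int.negSucc 1, Int.ofNat 0, Int.ofNat 0, Int.ofNat 0, Int.ofNat 0, Int.ofNat 0, Int.ofNat 0, Int.ofNat 0, Int.ofNat 0, Int.ofNat 0],
  [Int.ofNat 1, Int.ofNat 1, Int.negSucc 0, Int.ofNat 1, Int.negSucc 0, Int.ofNat 1, Int.ofNat 1, Int.negSucc 0, Int.ofNat 1, Int.negSucc 0, Int.ofNat 1, Int.ofNat 1, Int.negSucc 0, Int.ofNat 1, Int.negSucc 2, Int.ofNat 1, Int.ofNat 1, Int.negSucc 0, Int.ofNat 1, Int.negSucc 0, Int.ofNat 1, Int.negSucc 0, Int.ofNat 1, Int.ofNat 1],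
  [Int.ofNat 1, Int.negSucc 0, Int.ofNat 1, Int.ofNat 1, Int.negSucc 0, Int.ofNat 1, Int.negSucc 0, Int.ofNat 1, Int.ofNat 1, Int.negSucc 0, Int.ofNat 1, Int.negSucc 2, Int.ofNat 1, Int.ofNat 1, Int.negSucc 0, Int.ofNat 1, Int.negSucc 0, Int.ofNat 1, Int.negSucc 0, Int.ofNat 1, Int.ofNat 1, Int.ofNat 1, Int.negSucc 0, Int.ofNat 1],
  [Int.ofNat 0, Int.ofNat 2, Int.ofNat 0, Int.ofNat 0, Int.ofNat 0, Int.ofNat 0, Int.negSucc 1, Int.ofNat 0, Int.ofNat 2, Int.negSucc 1, Int.ofNat 0, Int.negSucc 1, Int.ofNat 2, Int.ofNat 2, Int.negSucc 1, Int.ofNat 0, Int.ofNat 0, Int.ofNat 0, Int.ofNat 0, Int.ofNat 0, Int.ofNat 0, Int.ofNat 0, Int.ofNat 0, Int.ofNat 0],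
  [Int.ofNat 0, Int.negSucc 1, Int.ofNat 0, Int.ofNat 0, Int.ofNat 0, Int.ofNat 0, Int.ofNat 0, Int.ofNat 0, Int.ofNat 2, Int.ofNat 2, Int.ofNat 0, Int.ofNat 0, Int.negSucc 1, Int.ofNat 0, Int.ofNat 0, Int.ofNat 0, Int.ofNat 2, Int.negSucc 1, Int.ofNat 2, Int.negSucc 1, Int.ofNat 0, Int.ofNat 0, Int.ofNat 0, Int.ofNat 0],
  [Int.negSucc 0, Int.ofNat 1, Int.negSucc 0, Int.ofNat 1, Int.negSucc 0, Int.ofNat 1, Int.ofNat 1, Int.ofNat 1, Int.ofNat 1, Int.ofNat 1, Int.negSucc 0, Int.negSucc 0, Int.negSucc 2, Int.negSucc 0, Int.ofNat 1, Int.negSucc 0, Int.ofNat 1, Int.negSucc 0, Int.ofNat 1, Int.negSucc 0, Int.negSucc 0, Int.ofNat 1, Int.negSucc 0, Int.negSucc 0],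
  [Int.negSucc 0, Int.ofNat 1, Int.ofNat 1, Int.ofNat 1, Int.negSucc 0, Int.negSucc 0, Int.negSucc 0, Int.ofNat 1, Int.ofNat 1, Int.negSucc 0, Int.ofNat 1, Int.negSucc 0, Int.negSucc 2, Int.negSucc 0, Int.ofNat 1, Int.ofNat 1, Int.ofNat 1, Int.negSucc 0, Int.negSucc 0, Int.negSucc 0, Int.negSucc 0, Int.ofNat 1, Int.ofNat 1, Int.negSucc 0],
  [Int.ofNat 1, Int.ofNat 1, Int.negSucc 0, Int.negSucc 0, Int.ofNat 1, Int.negSucc 0, Int.ofNat 1, Int.negSucc 2, Int.negSucc 0, Int.ofNat 1, Int.ofNat 1, Int.negSucc 0, Int.ofNat 1, Int.negSucc 0, Int.negSucc 0, Int.negSucc 0, Int.ofNat 1, Int.negSucc 0, Int.ofNat 1, Int.ofNat 1, Int.negSucc 0, Int.ofNat 1, Int.negSucc 0, Int.negSucc 0],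
  [Int.ofNat 1, Int.ofNat 1, Int.ofNat 1, Int.negSucc 0, Int.ofNat 1, Int.ofNat 1, Int.negSucc 0, Int.negSucc 2, Int.negSucc 0, Int.negSucc 0, Int.negSucc 0, Int.negSucc 0, Int.ofNat 1, Int.negSucc 0, Int.negSucc 0, Int.ofNat 1, Int.ofNat 1, Int.negSucc 0, Int.negSucc 0, Int.ofNat 1, Int.negSucc 0, Int.ofNat 1, Int.ofNat 1, Int.negSucc 0],
  [Int.ofNat 0, Int.ofNat 0, Int.ofNat 0, Int.ofNat 0, Int.ofNat 0, Int.ofNat 2, Int.ofNat 0, Int.negSucc 1, Int.ofNat 0, Int.ofNat 0, Int.ofNat 0, Int.ofNat 0, Int.ofNat 2, Int.negSucc 1, Int.ofNat 0, Int.ofNat 2, Int.ofNat 0, Int.ofNat 0, Int.ofNat 0, Int.ofNat 2, Int.ofNat 0, Int.ofNat 2, Int.ofNat 0, Int.ofNat 2],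
  [Int.ofNat 0, Int.ofNat 0, Int.ofNat 0, Int.ofNat 0, Int.ofNat 0, Int.ofNat 2, Int.ofNat 0, Int.ofNat 2, Int.ofNat 0, Int.ofNat 2, Int.negSucc 1, Int.ofNat 2, Int.ofNat 0, Int.ofNat 0, Int.ofNat 0, Int.ofNat 2, Int.negSucc 1, Int.ofNat 0, Int.ofNat 0, Int.ofNat 0, Int.ofNat 0, Int.ofNat 0, Int.ofNat 0, Int.ofNat 2],
  [Int.ofNat 1, Int.ofNat 1, Int.ofNat 1, Int.negSucc 0, Int.ofNat 1, Int.ofNat 1, Int.negSucc 0, Int.ofNat 1, Int.negSucc 0, Int.ofNat 1, Int.negSucc 2, Int.ofNat 1, Int.negSucc 0, Int.ofNat 1, Int.negSucc 0, Int.ofNat 1, Int.negSucc 0, Int.negSucc 0, Int.negSucc 0, Int.negSucc 0, Int.negSucc 0, Int.negSucc 0, Int.ofNat 1, Int.negSucc 0],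
  [Int.negSucc 0, Int.negSucc 0, Int.ofNat 1, Int.ofNat 1, Int.ofNat 1, Int.ofNat 1, Int.negSucc 0, Int.ofNat 1, Int.ofNat 1, Int.negSucc 0, Int.ofNat 1, Int.negSucc 0, Int.ofNat 1, Int.negSucc 2, Int.ofNat 1, Int.negSucc 0, Int.ofNat 1, Int.negSucc 0, Int.ofNat 1, Int.negSucc 0, Int.negSucc 0, Int.negSucc 0, Int.negSucc 0, Int.negSucc 0],
  [Int.ofNat 0, Int.ofNat 0, Int.negSucc 1, Int.ofNat 0, Int.ofNat 2, Int.ofNat 0, Int.ofNat 0, Int.ofNat 2, Int.ofNat 0, Int.ofNat 0, Int.ofNat 2, Int.negSucc 1, Int.ofNat 0, Int.negSucc 1, Int.ofNat 0, Int.ofNat 0, Int.ofNat 2, Int.negSucc 1, Int.ofNat 0, Int.ofNat 0, Int.ofNat 0, Int.ofNat 0, Int.ofNat 0, Int.ofNat 0],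
  [Int.ofNat 0, Int.negSucc 1, Int.ofNat 0, Int.ofNat 2, Int.ofNat 0, Int.ofNat 0, Int.ofNat 2, Int.ofNat 0, Int.ofNat 0, Int.ofNat 2, Int.negSucc 1, Int.ofNat 0, Int.negSucc 1, Int.ofNat 0, Int.ofNat 0, Int.ofNat 2, Int.negSucc 1, Int.ofNat 0, Int.ofNat 0, Int.ofNat 0, Int.ofNat 0, Int.ofNat 0, Int.ofNat 0, Int.ofNat 0],
  [Int.ofNat 0, Int.negSucc 1, Int.ofNat 0, Int.ofNat 2, Int.ofNat 0, Int.ofNat 0, Int.ofNat 2, Int.ofNat 0, Int.ofNat 0, Int.negSucc 1, Int.ofNat 2, Int.ofNat 0, Int.negSucc 1, Int.ofNat 0, Int.ofNat 0, Int.ofNat 2, Int.negSucc 1, Int.ofNat 0, Int.ofNat 0, Int.ofNat 0, Int.ofNat 0, Int.ofNat 0, Int.ofNat 0, Int.ofNat 0],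
  [Int.ofNat 0, Int.ofNat 0, Int.ofNat 0, Int.ofNat 2, Int.negSucc 1, Int.ofNat 2, Int.ofNat 0, Int.ofNat 0, Int.negSucc 1, Int.negSucc 1, Int.ofNat 0, Int.ofNat 0, Int.ofNat 0, Int.ofNat 0, Int.ofNat 0, Int.ofNat 2, Int.negSucc 1, Int.ofNat 0, Int.ofNat 2, Int.ofNat 0, Int.ofNat 0, Int.ofNat 0, Int.ofNat 0, Int.ofNat 0],
  [Int.ofNat 0, Int.ofNat 0, Int.ofNat 0, Int.ofNat 2, Int.negSucc 1, Int.ofNat 2, Int.ofNat 0, Int.ofNat 0, Int.negSucc 1, Int.ofNat 2, Int.ofNat 0, Int.ofNat 0, Int.ofNat 0, Int.ofNat 0, Int.ofNat 0, Int.ofNat 2, Int.negSucc 1, Int.ofNat 0, Int.negSucc 1, Int.ofNat 0, Int.ofNat 0, Int.ofNat 0, Int.ofNat 0, Int.ofNat 0],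
  [Int.ofNat 0, Int.ofNat 0, Int.ofNat 0, Int.ofNat 0, Int.ofNat 2, Int.negSucc 1, Int.ofNat 2, Int.ofNat 0, Int.ofNat 0, Int.negSucc 1, Int.ofNat 2, Int.ofNat 0, Int.ofNat 0, Int.ofNat 0, Int.ofNat 0, Int.ofNat 0, Int.ofNat 2, Int.negSucc 1, Int.ofNat 0, Int.negSucc 1, Int.ofNat 0, Int.ofNat 0, Int.ofNat 0, Int.ofNat 0],
  [Int.ofNat 0, Int.ofNat 0, Int.ofNat 0, Int.ofNat 2, Int.ofNat 0, Int.ofNat 0, Int.ofNat 2, Int.ofNat 0, Int.ofNat 0, Int.negSucc 1, Int.ofNat 2, Int.ofNat 0, Int.ofNat 0, Int.negSucc 1, Int.ofNat 2, Int.ofNat 0, Int.ofNat 0, Int.ofNat 0, Int.ofNat 0, Int.negSucc 1, Int.ofNat 0, Int.ofNat 0, Int.negSucc 1, Int.ofNat 0],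
  [Int.ofNat 2, Int.ofNat 0, Int.ofNat 0, Int.ofNat 2, Int.ofNat 0, Int.ofNat 0, Int.negSucc 1, Int.ofNat 2, Int.ofNat 0, Int.ofNat 0, Int.negSucc 1, Int.ofNat 2, Int.ofNat 0, Int.ofNat 0, Int.ofNat 0, Int.ofNat 0, Int.negSucc 1, Int.ofNat 0, Int.ofNat 0, Int.negSucc 1, Int.ofNat 0, Int.ofNat 0, Int.ofNat 0, Int.ofNat 0],
  [Int.negSucc 0, Int.ofNat 1, Int.ofNat 1, Int.ofNat 1, Int.ofNat 1, Int.negSucc 0, Int.negSucc 0, Int.ofNat 3, Int.negSucc 0, Int.ofNat 1, Int.negSucc 0, Int.ofNat 1, Int.negSucc 0, Int.ofNat 1, Int.negSucc 0, Int.ofNat 1, Int.negSucc 0, Int.negSucc 0, Int.negSucc 0, Int.negSucc 0, Int.ofNat 1, Int.ofNat 1, Int.ofNat 1, Int.ofNat 1],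
  [Int.negSucc 0, Int.negSucc 0, Int.ofNat 1, Int.ofNat 1, Int.negSucc 0, Int.ofNat 3, Int.ofNat 1, Int.negSucc 0, Int.negSucc 0, Int.ofNat 1, Int.ofNat 1, Int.negSucc 0, Int.ofNat 1, Int.negSucc 0, Int.ofNat 1, Int.ofNat 1, Int.negSucc 0, Int.negSucc 0, Int.ofNat 1, Int.ofNat 1, Int.ofNat 1, Int.negSucc 0, Int.negSucc 0, Int.ofNat 1],
  [Int.ofNat 1, Int.ofNat 1, Int.negSucc 0, Int.negSucc 0, Int.ofNat 1, Int.ofNat 1, Int.ofNat 1, Int.negSucc 0, Int.negSucc 0, Int.negSucc 0, Int.negSucc 0, Int.negSucc 0, Int.ofNat 1, Int.ofNat 1, Int.negSucc 0, Int.negSucc 0, Int.ofNat 1, Int.negSucc 2, Int.ofNat 1, Int.ofNat 1, Int.negSucc 0, Int.negSucc 0, Int.ofNat 1, Int.negSucc 0],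
  [Int.ofNat 1, Int.ofNat 1, Int.ofNat 1, Int.negSucc 0, Int.ofNat 1, Int.negSucc 0, Int.negSucc 0, Int.negSucc 0, Int.negSucc 0, Int.ofNat 1, Int.ofNat 1, Int.negSucc 0, Int.ofNat 1, Int.ofNat 1, Int.negSucc 0, Int.ofNat 1, Int.ofNat 1, Int.negSucc 2, Int.negSucc 0, Int.ofNat 1, Int.negSucc 0, Int.negSucc 0, Int.negSucc 0, Int.negSucc 0],
  [Int.ofNat 1, Int.ofNat 1, Int.negSucc 0, Int.negSucc 0, Int.negSucc 0, Int.negSucc 0, Int.negSucc 0, Int.negSucc 0, Int.negSucc 0, Int.negSucc 0, Int.ofNat 1, Int.negSucc 0, Int.ofNat 1, Int.ofNat 1, Int.negSucc 2, Int.negSucc 0, Int.ofNat 1, Int.ofNat 1, Int.ofNat 1, Int.ofNat 1, Int.ofNat 1, Int.ofNat 1, Int.negSucc 0, Int.negSucc 0],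
  [Int.negSucc 0, Int.negSucc 0, Int.ofNat 1, Int.ofNat 1, Int.ofNat 1, Int.negSucc 0, Int.ofNat 1, Int.negSucc 0, Int.ofNat 1, Int.ofNat 1, Int.ofNat 1, Int.negSucc 0, Int.negSucc 0, Int.negSucc 0, Int.negSucc 2, Int.negSucc 0, Int.negSucc 0, Int.ofNat 1, Int.negSucc 0, Int.ofNat 1, Int.ofNat 1, Int.ofNat 1, Int.negSucc 0, Int.negSucc 0],
  [Int.negSucc 0, Int.negSucc 0, Int.negSucc 0, Int.negSucc 0, Int.ofNat 1, Int.ofNat 1, Int.ofNat 1, Int.negSucc 0, Int.ofNat 1, Int.negSucc 0, Int.negSucc 0, Int.ofNat 1, Int.ofNat 1, Int.negSucc 0, Int.negSucc 0, Int.ofNat 1, Int.ofNat 1, Int.ofNat 1, Int.negSucc 2, Int.ofNat 1, Int.ofNat 1, Int.negSucc 0, Int.negSucc 0, Int.negSucc 0],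
  [Int.ofNat 1, Int.negSucc 0, Int.ofNat 1, Int.negSucc 0, Int.ofNat 1, Int.ofNat 1, Int.ofNat 1, Int.ofNat 1, Int.ofNat 1, Int.ofNat 1, Int.ofNat 1, Int.negSucc 0, Int.ofNat 1, Int.negSucc 0, Int.negSucc 0, Int.ofNat 1, Int.ofNat 1, Int.ofNat 1, Int.ofNat 3, Int.ofNat 1, Int.ofNat 1, Int.ofNat 1, Int.negSucc 0, Int.negSucc 0],
  [Int.negSucc 0, Int.ofNat 1, Int.negSucc 0, Int.ofNat 1, Int.negSucc 0, Int.ofNat 1, Int.ofNat 1, Int.ofNat 1, Int.ofNat 1, Int.ofNat 1, Int.ofNat 1, Int.ofNat 1, Int.negSucc 0, Int.ofNat 1, Int.negSucc 0, Int.negSucc 0, Int.ofNat 1, Int.ofNat 1, Int.ofNat 1, Int.ofNat 3, Int.ofNat 1, Int.ofNat 1, Int.ofNat 1, Int.negSucc 0],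
  [Int.ofNat 0, Int.negSucc 1, Int.ofNat 0, Int.ofNat 0, Int.negSucc 1, Int.ofNat 0, Int.negSucc 1, Int.negSucc 1, Int.ofNat 0, Int.ofNat 0, Int.ofNat 0, Int.ofNat 0, Int.negSucc 1, Int.ofNat 0, Int.negSucc 1, Int.negSucc 1, Int.ofNat 0, Int.ofNat 0, Int.ofNat 0, Int.ofNat 0, Int.ofNat 0, Int.negSucc 1, Int.ofNat 0, Int.ofNat 0],
  [Int.ofNat 0, Int.negSucc 1, Int.ofNat 0, Int.negSucc 1, Int.negSucc 1, Int.ofNat 0, Int.ofNat 0, Int.ofNat 0, Int.ofNat 0, Int.negSucc 1, Int.ofNat 0, Int.negSucc 1, Int.negSucc 1, Int.ofNat 0, Int.ofNat 0, Int.ofNat 0, Int.ofNat 0, Int.ofNat 0, Int.negSucc 1, Int.ofNat 0, Int.ofNat 0, Int.negSucc 1, Int.ofNat 0, Int.ofNat 0],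
  [Int.negSucc 0, Int.ofNat 1, Int.negSucc 0, Int.negSucc 0, Int.negSucc 0, Int.ofNat 1, Int.ofNat 1, Int.ofNat 1, Int.ofNat 3, Int.negSucc 0, Int.ofNat 1, Int.ofNat 1, Int.ofNat 1, Int.ofNat 1, Int.ofNat 1, Int.ofNat 1, Int.ofNat 1, Int.ofNat 1, Int.ofNat 1, Int.ofNat 1, Int.ofNat 1, Int.negSucc 0, Int.ofNat 1, Int.negSucc 0],
  [Int.negSucc 0, Int.ofNat 1, Int.negSucc 0, Int.negSucc 0, Int.ofNat 1, Int.ofNat 1, Int.negSucc 0, Int.ofNat 1, Int.ofNat 1, Int.ofNat 1, Int.ofNat 1, Int.ofNat 1, Int.negSucc 0, Int.ofNat 1, Int.ofNat 1, Int.ofNat 1, Int.ofNat 3, Int.ofNat 1, Int.ofNat 1, Int.ofNat 1, Int.negSucc 0, Int.ofNat 1, Int.ofNat 1, Int.negSucc 0],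
  [Int.ofNat 0, Int.negSucc 1, Int.ofNat 0, Int.negSucc 1, Int.negSucc 1, Int.ofNat 0, Int.negSucc 1, Int.ofNat 0, Int.ofNat 0, Int.ofNat 0, Int.ofNat 0, Int.ofNat 0, Int.negSucc 1, Int.negSucc 1, Int.ofNat 0, Int.ofNat 0, Int.ofNat 0, Int.ofNat 0, Int.ofNat 0, Int.ofNat 0, Int.negSucc 1, Int.ofNat 0, Int.negSucc 1, Int.ofNat 0],
  [Int.ofNat 0, Int.negSucc 1, Int.ofNat 0, Int.negSucc 1, Int.negSucc 1, Int.ofNat 0, Int.ofNat 2, Int.ofNat 0, Int.ofNat 0, Int.ofNat 0, Int.ofNat 0, Int.ofNat 0, Int.negSucc 1, Int.negSucc 1, Int.ofNat 0, Int.ofNat 0, Int.ofNat 0, Int.ofNat 0, Int.ofNat 0, Int.ofNat 0, Int.negSucc 1, Int.ofNat 0, Int.ofNat 2, Int.ofNat 0],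
  [Int.ofNat 0, Int.ofNat 0, Int.ofNat 0, Int.negSucc 1, Int.ofNat 0, Int.ofNat 0, Int.ofNat 0, Int.negSucc 1, Int.negSucc 1, Int.ofNat 0, Int.ofNat 0, Int.ofNat 0, Int.ofNat 0, Int.ofNat 0, Int.negSucc 1, Int.ofNat 0, Int.negSucc 1, Int.ofNat 0, Int.negSucc 1, Int.ofNat 2, Int.ofNat 0, Int.ofNat 0, Int.ofNat 2, Int.ofNat 0],
  [Int.ofNat 0, Int.ofNat 0, Int.ofNat 0, Int.negSucc 1, Int.ofNat 0, Int.ofNat 0, Int.ofNat 0, Int.negSucc 1, Int.negSucc 1, Int.ofNat 0, Int.ofNat 0, Int.ofNat 0, Int.ofNat 0, Int.ofNat 0, Int.negSucc 1, Int.ofNat 0, Int.negSucc 1, Int.ofNat 0, Int.ofNat 2, Int.ofNat 2, Int.ofNat 0, Int.ofNat 0, Int.negSucc 1, Int.ofNat 0],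
  [Int.ofNat 0, Int.ofNat 0, Int.ofNat 0, Int.ofNat 0, Int.ofNat 2, Int.ofNat 2, Int.ofNat 0, Int.negSucc 1, Int.negSucc 1, Int.ofNat 0, Int.ofNat 0, Int.ofNat 0, Int.ofNat 0, Int.ofNat 2, Int.ofNat 0, Int.ofNat 0, Int.ofNat 0, Int.ofNat 2, Int.ofNat 2, Int.ofNat 2, Int.ofNat 0, Int.ofNat 0, Int.ofNat 0, Int.ofNat 0],
  [Int.ofNat 0, Int.ofNat 2, Int.ofNat 0, Int.ofNat 0, Int.ofNat 0, Int.ofNat 0, Int.ofNat 0, Int.ofNat 2, Int.ofNat 0, Int.ofNat 0, Int.negSucc 1, Int.ofNat 2, Int.negSucc 1, Int.ofNat 0, Int.ofNat 2, Int.ofNat 0, Int.ofNat 2, Int.ofNat 0, Int.ofNat 2, Int.ofNat 0, Int.ofNat 0, Int.ofNat 0, Int.ofNat 0, Int.ofNat 0],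
  [Int.ofNat 1, Int.negSucc 0, Int.ofNat 1, Int.negSucc 0, Int.negSucc 0, Int.negSucc 0, Int.negSucc 0, Int.ofNat 1, Int.negSucc 0, Int.ofNat 1, Int.negSucc 0, Int.ofNat 1, Int.negSucc 2, Int.negSucc 0, Int.ofNat 1, Int.ofNat 1, Int.ofNat 1, Int.negSucc 0, Int.ofNat 1, Int.negSucc 0, Int.ofNat 1, Int.negSucc 0, Int.negSucc 0, Int.ofNat 1],
  [Int.ofNat 1, Int.negSucc 0, Int.negSucc 0, Int.ofNat 1, Int.negSucc 0, Int.ofNat 1, Int.negSucc 0, Int.negSucc 0, Int.negSucc 0, Int.negSucc 0, Int.ofNat 1, Int.negSucc 0, Int.ofNat 1, Int.negSucc 0, Int.ofNat 1, Int.negSucc 2, Int.negSucc 0, Int.ofNat 1, Int.ofNat 1, Int.ofNat 1, Int.negSucc 0, Int.ofNat 1, Int.negSucc 0, Int.ofNat 1],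
  [Int.negSucc 0, Int.ofNat 1, Int.ofNat 1, Int.negSucc 0, Int.ofNat 1, Int.negSucc 0, Int.negSucc 0, Int.negSucc 0, Int.negSucc 0, Int.ofNat 1, Int.ofNat 3, Int.negSucc 0, Int.ofNat 1, Int.ofNat 1, Int.negSucc 0, Int.negSucc 0, Int.ofNat 1, Int.negSucc 0, Int.ofNat 1, Int.ofNat 1, Int.ofNat 1, Int.ofNat 1, Int.ofNat 1, Int.negSucc 0],
  [Int.ofNat 1, Int.ofNat 1, Int.negSucc 0, Int.ofNat 1, Int.negSucc 0, Int.negSucc 0, Int.negSucc 0, Int.negSucc 0, Int.ofNat 1, Int.ofNat 3, Int.negSucc 0, Int.ofNat 1, Int.ofNat 1, Int.negSucc 0, Int.negSucc 0, Int.ofNat 1, Int.negSucc 0, Int.ofNat 1, Int.ofNat 1, Int.ofNat 1, Int.ofNat 1, Int.ofNat 1, Int.negSucc 0, Int.negSucc 0],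
  [Int.negSucc 0, Int.ofNat 1, Int.ofNat 1, Int.ofNat 1, Int.negSucc 0, Int.negSucc 0, Int.negSucc 0, Int.ofNat 1, Int.ofNat 1, Int.negSucc 2, Int.ofNat 1, Int.negSucc 0, Int.ofNat 1, Int.negSucc 0, Int.negSucc 0, Int.ofNat 1, Int.negSucc 0, Int.ofNat 1, Int.negSucc 0, Int.ofNat 1, Int.ofNat 1, Int.negSucc 0, Int.negSucc 0, Int.negSucc 0],
  [Int.negSucc 0, Int.ofNat 1, Int.negSucc 0, Int.ofNat 1, Int.ofNat 1, Int.ofNat 1, Int.negSucc 0, Int.ofNat 1, Int.negSucc 2, Int.negSucc 0, Int.negSucc 0, Int.negSucc 0, Int.negSucc 0, Int.ofNat 1, Int.ofNat 1, Int.ofNat 1, Int.ofNat 1, Int.negSucc 0, Int.negSucc 0, Int.ofNat 1, Int.negSucc 0, Int.ofNat 1, Int.negSucc 0, Int.negSucc 0],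
  [Int.ofNat 1, Int.ofNat 1, Int.ofNat 1, Int.ofNat 1, Int.ofNat 1, Int.ofNat 1, Int.negSucc 0, Int.negSucc 0, Int.negSucc 2, Int.ofNat 1, Int.ofNat 1, Int.ofNat 1, Int.negSucc 0, Int.ofNat 1, Int.ofNat 1, Int.ofNat 1, Int.ofNat 1, Int.negSucc 0, Int.ofNat 1, Int.ofNat 1, Int.negSucc 0, Int.negSucc 0, Int.negSucc 0, Int.negSucc 0],
  [Int.negSucc 0, Int.ofNat 1, Int.ofNat 1, Int.ofNat 1, Int.ofNat 1, Int.ofNat 1, Int.ofNat 1, Int.negSucc 0, Int.negSucc 0, Int.negSucc 2, Int.ofNat 1, Int.ofNat 1, Int.ofNat 1, Int.negSucc 0, Int.ofNat 1, Int.ofNat 1, Int.ofNat 1, Int.ofNat 1, Int.negSucc 0, Int.ofNat 1, Int.ofNat 1, Int.negSucc 0, Int.negSucc 0, Int.negSucc 0],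
  [Int.ofNat 1, Int.negSucc 0, Int.negSucc 0, Int.negSucc 0, Int.ofNat 1, Int.negSucc 0, Int.ofNat 1, Int.negSucc 0, Int.negSucc 0, Int.negSucc 2, Int.ofNat 1, Int.ofNat 1, Int.ofNat 1, Int.negSucc 0, Int.negSucc 0, Int.ofNat 1, Int.ofNat 1, Int.negSucc 0, Int.negSucc 0, Int.ofNat 1, Int.ofNat 1, Int.negSucc 0, Int.negSucc 0, Int.ofNat 1],
  [Int.negSucc 0, Int.ofNat 1, Int.negSucc 0, Int.ofNat 1, Int.negSucc 0, Int.negSucc 0, Int.negSucc 2, Int.ofNat 1, Int.ofNat 1, Int.ofNat 1, Int.negSucc 0, Int.negSucc 0, Int.ofNat 1, Int.ofNat 1, Int.negSucc 0, Int.negSucc 0, Int.ofNat 1, Int.ofNat 1, Int.negSucc 0, Int.negSucc 0, Int.ofNat 1, Int.negSucc 0, Int.negSucc 0, Int.ofNat 1],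
  [Int.ofNat 1, Int.negSucc 0, Int.ofNat 1, Int.ofNat 1, Int.negSucc 0, Int.negSucc 0, Int.negSucc 0, Int.ofNat 3, Int.ofNat 1, Int.ofNat 1, Int.negSucc 0, Int.negSucc 0, Int.ofNat 1, Int.ofNat 1, Int.negSucc 0, Int.negSucc 0, Int.ofNat 1, Int.ofNat 1, Int.negSucc 0, Int.ofNat 1, Int.ofNat 1, Int.ofNat 1, Int.negSucc 0, Int.negSucc 0],
  [Int.ofNat 1, Int.negSucc 0, Int.negSucc 0, Int.ofNat 1, Int.negSucc 0, Int.ofNat 3, Int.ofNat 1, Int.negSucc 0, Int.ofNat 1, Int.ofNat 1, Int.ofNat 1, Int.ofNat 1, Int.ofNat 1, Int.ofNat 1, Int.negSucc 0, Int.negSucc 0, Int.ofNat 1, Int.negSucc 0, Int.negSucc 0, Int.negSucc 0, Int.ofNat 1, Int.negSucc 0, Int.ofNat 1, Int.negSucc 0],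
  [Int.negSucc 1, Int.ofNat 0, Int.ofNat 0, Int.ofNat 0, Int.negSucc 1, Int.ofNat 2, Int.ofNat 2, Int.ofNat 0, Int.ofNat 0, Int.ofNat 0, Int.ofNat 0, Int.ofNat 0, Int.ofNat 0, Int.ofNat 0, Int.negSucc 1, Int.negSucc 1, Int.ofNat 0, Int.negSucc 1, Int.negSucc 1, Int.ofNat 0, Int.ofNat 0, Int.ofNat 0, Int.ofNat 0, Int.ofNat 0],
  [Int.negSucc 1, Int.ofNat 0, Int.ofNat 0, Int.ofNat 0, Int.negSucc 1, Int.negSucc 1, Int.negSucc 1, Int.ofNat 0, Int.ofNat 0, Int.ofNat 0, Int.ofNat 0, Int.ofNat 0, Int.ofNat 0, Int.ofNat 0, Int.negSucc 1, Int.ofNat 2, Int.ofNat 0, Int.negSucc 1, Int.ofNat 2, Int.ofNat 0, Int.ofNat 0, Int.ofNat 0, Int.ofNat 0, Int.ofNat 0],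
  [Int.ofNat 0, Int.ofNat 0, Int.ofNat 0, Int.ofNat 0, Int.negSucc 1, Int.negSucc 1, Int.ofNat 0, Int.ofNat 0, Int.negSucc 1, Int.ofNat 0, Int.ofNat 0, Int.ofNat 0, Int.ofNat 2, Int.negSucc 1, Int.negSucc 1, Int.ofNat 2, Int.ofNat 0, Int.ofNat 0, Int.ofNat 0, Int.ofNat 0, Int.negSucc 1, Int.ofNat 0, Int.ofNat 0, Int.ofNat 0],
  [Int.ofNat 0, Int.ofNat 0, Int.ofNat 0, Int.ofNat 0, Int.ofNat 2, Int.negSucc 1, Int.ofNat 0, Int.ofNat 0, Int.ofNat 2, Int.ofNat 0, Int.ofNat 0, Int.ofNat 0, Int.negSucc 1, Int.ofNat 2, Int.negSucc 1, Int.ofNat 2, Int.ofNat 0, Int.ofNat 0, Int.ofNat 0, Int.ofNat 0, Int.negSucc 1, Int.ofNat 0, Int.ofNat 0, Int.ofNat 0],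
  [Int.ofNat 0, Int.ofNat 0, Int.ofNat 0, Int.ofNat 2, Int.ofNat 0, Int.ofNat 0, Int.ofNat 0, Int.ofNat 2, Int.negSucc 1, Int.negSucc 1, Int.ofNat 0, Int.ofNat 0, Int.ofNat 0, Int.ofNat 0, Int.ofNat 0, Int.ofNat 0, Int.ofNat 0, Int.ofNat 2, Int.negSucc 1, Int.ofNat 0, Int.ofNat 2, Int.negSucc 1, Int.ofNat 0, Int.ofNat 0],
  [Int.ofNat 0, Int.ofNat 0, Int.ofNat 0, Int.ofNat 2, Int.ofNat 0, Int.ofNat 0, Int.ofNat 0, Int.negSucc 1, Int.negSucc 1, Int.ofNat 2, Int.ofNat 0, Int.ofNat 0, Int.ofNat 0, Int.ofNat 0, Int.ofNat 0, Int.ofNat 0, Int.ofNat 0, Int.ofNat 2, Int.ofNat 2, Int.ofNat 0, Int.ofNat 2, Int.ofNat 2, Int.ofNat 0, Int.ofNat 0],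
  [Int.ofNat 0, Int.ofNat 0, Int.ofNat 0, Int.ofNat 0, Int.ofNat 2, Int.ofNat 0, Int.ofNat 0, Int.ofNat 0, Int.negSucc 1, Int.negSucc 1, Int.ofNat 2, Int.ofNat 0, Int.ofNat 0, Int.ofNat 0, Int.ofNat 0, Int.ofNat 0, Int.ofNat 0, Int.ofNat 0, Int.ofNat 2, Int.ofNat 2, Int.ofNat 0, Int.ofNat 2, Int.ofNat 2, Int.ofNat 0],
  [Int.ofNat 0, Int.ofNat 0, Int.ofNat 0, Int.ofNat 0, Int.ofNat 0, Int.ofNat 0, Int.negSucc 1, Int.negSucc 1, Int.negSucc 1, Int.negSucc 1, Int.ofNat 2, Int.ofNat 0, Int.ofNat 0, Int.negSucc 1, Int.ofNat 0, Int.ofNat 0, Int.negSucc 1, Int.ofNat 0, Int.ofNat 2, Int.ofNat 0, Int.ofNat 0, Int.ofNat 0, Int.ofNat 0, Int.ofNat 0],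
  [Int.ofNat 0, Int.ofNat 0, Int.ofNat 0, Int.negSucc 1, Int.negSucc 1, Int.negSucc 1, Int.negSucc 1, Int.ofNat 2, Int.ofNat 0, Int.ofNat 0, Int.negSucc 1, Int.ofNat 0, Int.ofNat 0, Int.negSucc 1, Int.ofNat 0, Int.ofNat 2, Int.ofNat 0, Int.ofNat 0, Int.ofNat 0, Int.ofNat 0, Int.ofNat 0, Int.ofNat 0, Int.ofNat 0, Int.ofNat 0],
  [Int.ofNat 0, Int.ofNat 0, Int.ofNat 0, Int.ofNat 0, Int.ofNat 0, Int.ofNat 0, Int.negSucc 1, Int.ofNat 2, Int.ofNat 0, Int.ofNat 0, Int.negSucc 1, Int.ofNat 0, Int.ofNat 0, Int.ofNat 0, Int.ofNat 2, Int.ofNat 2, Int.ofNat 2, Int.ofNat 2, Int.ofNat 0, Int.ofNat 0, Int.ofNat 0, Int.ofNat 0, Int.ofNat 2, Int.ofNat 0],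
  [Int.ofNat 0, Int.negSucc 1, Int.ofNat 0, Int.ofNat 0, Int.ofNat 0, Int.ofNat 2, Int.ofNat 0, Int.negSucc 1, Int.ofNat 0, Int.ofNat 0, Int.ofNat 0, Int.ofNat 2, Int.ofNat 0, Int.ofNat 2, Int.ofNat 2, Int.ofNat 2, Int.ofNat 0, Int.ofNat 2, Int.ofNat 0, Int.ofNat 0, Int.ofNat 0, Int.ofNat 0, Int.ofNat 0, Int.ofNat 0],
  [Int.negSucc 0, Int.ofNat 1, Int.negSucc 0, Int.negSucc 2, Int.negSucc 0, Int.negSucc 0, Int.ofNat 1, Int.negSucc 0, Int.negSucc 0, Int.negSucc 0, Int.negSucc 0, Int.ofNat 1, Int.negSucc 0, Int.ofNat 1, Int.negSucc 0, Int.ofNat 1, Int.negSucc 0, Int.negSucc 0, Int.negSucc 0, Int.ofNat 1, Int.negSucc 0, Int.ofNat 1, Int.negSucc 0, Int.negSucc 0],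
  [Int.negSucc 0, Int.ofNat 1, Int.ofNat 1, Int.negSucc 2, Int.negSucc 0, Int.ofNat 1, Int.negSucc 0, Int.negSucc 0, Int.negSucc 0, Int.ofNat 1, Int.ofNat 1, Int.ofNat 1, Int.negSucc 0, Int.ofNat 1, Int.negSucc 0, Int.negSucc 0, Int.negSucc 0, Int.negSucc 0, Int.ofNat 1, Int.ofNat 1, Int.negSucc 0, Int.ofNat 1, Int.ofNat 1, Int.negSucc 0],
  [Int.negSucc 0, Int.negSucc 0, Int.ofNat 1, Int.negSucc 0, Int.ofNat 1, Int.negSucc 0, Int.negSucc 0, Int.negSucc 0, Int.negSucc 0, Int.negSucc 0, Int.ofNat 1, Int.ofNat 1, Int.ofNat 1, Int.ofNat 1, Int.ofNat 1, Int.ofNat 1, Int.negSucc 2, Int.negSucc 0, Int.ofNat 1, Int.ofNat 1, Int.ofNat 1, Int.negSucc 0, Int.negSucc 0, Int.negSucc 0],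
  [Int.negSucc 0, Int.negSucc 0, Int.negSucc 0, Int.negSucc 0, Int.ofNat 1, Int.ofNat 1, Int.ofNat 1, Int.negSucc 0, Int.negSucc 0, Int.ofNat 1, Int.negSucc 0, Int.ofNat 1, Int.ofNat 1, Int.ofNat 1, Int.ofNat 1, Int.negSucc 0, Int.negSucc 2, Int.negSucc 0, Int.negSucc 0, Int.ofNat 1, Int.ofNat 1, Int.negSucc 0, Int.ofNat 1, Int.negSucc 0],
  [Int.negSucc 0, Int.negSucc 0, Int.negSucc 0, Int.negSucc 0, Int.ofNat 1, Int.ofNat 1, Int.ofNat 1, Int.negSucc 0, Int.negSucc 0, Int.ofNat 1, Int.negSucc 0, Int.ofNat 1, Int.ofNat 1, Int.ofNat 1, Int.ofNat 1, Int.negSucc 0, Int.negSucc 2, Int.negSucc 0, Int.negSucc 0, Int.ofNat 1, Int.ofNat 1, Int.negSucc 0, Int.ofNat 1, Int.negSucc 0],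
  [Int.negSucc 0, Int.negSucc 0, Int.ofNat 1, Int.negSucc 0, Int.negSucc 0, Int.negSucc 0, Int.negSucc 0, Int.ofNat 1, Int.negSucc 2, Int.ofNat 1, Int.negSucc 0, Int.ofNat 1, Int.negSucc 0, Int.ofNat 1, Int.negSucc 0, Int.negSucc 0, Int.ofNat 1, Int.ofNat 1, Int.ofNat 1, Int.ofNat 1, Int.negSucc 0, Int.ofNat 1, Int.ofNat 1, Int.negSucc 0],
  [Int.ofNat 0, Int.ofNat 0, Int.negSucc 1, Int.ofNat 0, Int.negSucc 1, Int.ofNat 0, Int.negSucc 1, Int.ofNat 0, Int.negSucc 1, Int.ofNat 2, Int.ofNat 0, Int.ofNat 2, Int.ofNat 0, Int.ofNat 0, Int.ofNat 0, Int.ofNat 0, Int.ofNat 0, Int.ofNat 2, Int.ofNat 2, Int.ofNat 0, Int.ofNat 0, Int.ofNat 0, Int.ofNat 0, Int.ofNat 0],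
  [Int.ofNat 0, Int.ofNat 0, Int.ofNat 0, Int.ofNat 0, Int.ofNat 0, Int.negSucc 1, Int.ofNat 0, Int.negSucc 1, Int.ofNat 0, Int.negSucc 1, Int.ofNat 0, Int.negSucc 1, Int.ofNat 2, Int.ofNat 0, Int.ofNat 2, Int.ofNat 0, Int.ofNat 0, Int.ofNat 0, Int.ofNat 0, Int.ofNat 0, Int.ofNat 2, Int.ofNat 2, Int.ofNat 0, Int.ofNat 0],
  [Int.ofNat 0, Int.ofNat 0, Int.ofNat 0, Int.ofNat 0, Int.ofNat 0, Int.negSucc 1, Int.ofNat 0, Int.negSucc 1, Int.ofNat 0, Int.negSucc 1, Int.ofNat 0, Int.negSucc 1, Int.ofNat 2, Int.ofNat 0, Int.ofNat 2, Int.ofNat 0, Int.ofNat 0, Int.ofNat 0, Int.ofNat 0, Int.ofNat 0, Int.ofNat 2, Int.ofNat 2, Int.ofNat 0, Int.ofNat 0],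
  [Int.ofNat 0, Int.ofNat 0, Int.ofNat 0, Int.ofNat 0, Int.negSucc 1, Int.ofNat 0, Int.negSucc 1, Int.ofNat 0, Int.negSucc 1, Int.ofNat 0, Int.negSucc 1, Int.ofNat 2, Int.ofNat 0, Int.ofNat 2, Int.ofNat 0, Int.ofNat 0, Int.ofNat 0, Int.ofNat 0, Int.ofNat 0, Int.ofNat 2, Int.ofNat 2, Int.ofNat 0, Int.ofNat 0, Int.ofNat 0],
  [Int.ofNat 0, Int.ofNat 0, Int.ofNat 0, Int.ofNat 0, Int.negSucc 1, Int.ofNat 0, Int.negSucc 1, Int.ofNat 0, Int.negSucc 1, Int.ofNat 0, Int.ofNat 2, Int.negSucc 1, Int.ofNat 0, Int.ofNat 2, Int.ofNat 0, Int.ofNat 0, Int.ofNat 0, Int.ofNat 0, Int.ofNat 0, Int.ofNat 2, Int.ofNat 2, Int.ofNat 0, Int.ofNat 0, Int.ofNat 0],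
  [Int.ofNat 0, Int.ofNat 0, Int.ofNat 0, Int.ofNat 0, Int.ofNat 0, Int.ofNat 2, Int.negSucc 1, Int.ofNat 2, Int.ofNat 0, Int.ofNat 0, Int.ofNat 0, Int.ofNat 0, Int.ofNat 2, Int.negSucc 1, Int.ofNat 2, Int.ofNat 0, Int.ofNat 0, Int.ofNat 0, Int.negSucc 1, Int.ofNat 0, Int.ofNat 0, Int.ofNat 0, Int.negSucc 1, Int.ofNat 0],
  [Int.ofNat 0, Int.ofNat 0, Int.ofNat 0, Int.ofNat 0, Int.ofNat 0, Int.ofNat 2, Int.negSucc 1, Int.negSucc 1, Int.ofNat 0, Int.ofNat 0, Int.ofNat 0, Int.ofNat 0, Int.ofNat 2, Int.negSucc 1, Int.ofNat 2, Int.ofNat 0, Int.ofNat 0, Int.ofNat 0, Int.ofNat 2, Int.ofNat 0, Int.ofNat 0, Int.ofNat 0, Int.negSucc 1, Int.ofNat 0],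
  [Int.negSucc 1, Int.ofNat 0, Int.ofNat 0, Int.ofNat 0, Int.ofNat 0, Int.ofNat 0, Int.ofNat 2, Int.negSucc 1, Int.negSucc 1, Int.ofNat 0, Int.ofNat 0, Int.ofNat 0, Int.ofNat 0, Int.ofNat 2, Int.negSucc 1, Int.ofNat 2, Int.ofNat 0, Int.ofNat 0, Int.ofNat 0, Int.ofNat 2, Int.ofNat 0, Int.ofNat 0, Int.ofNat 0, Int.ofNat 0],
  [Int.ofNat 1, Int.negSucc 0, Int.negSucc 0, Int.ofNat 1, Int.negSucc 0, Int.ofNat 1, Int.ofNat 1, Int.negSucc 2, Int.negSucc 0, Int.negSucc 0, Int.negSucc 0, Int.ofNat 1, Int.ofNat 1, Int.ofNat 1, Int.negSucc 0, Int.ofNat 1, Int.negSucc 0, Int.ofNat 1, Int.ofNat 1, Int.ofNat 1, Int.negSucc 0, Int.negSucc 0, Int.negSucc 0, Int.negSucc 0],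
  [Int.ofNat 1, Int.negSucc 0, Int.ofNat 1, Int.ofNat 1, Int.negSucc 2, Int.negSucc 0, Int.negSucc 0, Int.negSucc 0, Int.ofNat 1, Int.ofNat 1, Int.ofNat 1, Int.negSucc 0, Int.ofNat 1, Int.negSucc 0, Int.ofNat 1, Int.ofNat 1, Int.ofNat 1, Int.negSucc 0, Int.negSucc 0, Int.negSucc 0, Int.ofNat 1, Int.negSucc 0, Int.negSucc 0, Int.negSucc 0],
  [Int.negSucc 0, Int.ofNat 1, Int.negSucc 0, Int.ofNat 1, Int.negSucc 0, Int.negSucc 0, Int.ofNat 1, Int.ofNat 1, Int.ofNat 1, Int.negSucc 0, Int.negSucc 0, Int.negSucc 0, Int.ofNat 1, Int.ofNat 1, Int.ofNat 1, Int.negSucc 0, Int.ofNat 3, Int.negSucc 0, Int.negSucc 0, Int.ofNat 1, Int.negSucc 0, Int.ofNat 1, Int.ofNat 1, Int.ofNat 1],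
  [Int.negSucc 0, Int.ofNat 1, Int.negSucc 0, Int.ofNat 1, Int.negSucc 0, Int.ofNat 1, Int.negSucc 0, Int.negSucc 0, Int.ofNat 1, Int.ofNat 1, Int.negSucc 0, Int.negSucc 0, Int.negSucc 0, Int.ofNat 3, Int.ofNat 1, Int.negSucc 0, Int.ofNat 1, Int.ofNat 1, Int.ofNat 1, Int.negSucc 0, Int.ofNat 1, Int.negSucc 0, Int.ofNat 1, Int.ofNat 1],
  [Int.ofNat 1, Int.negSucc 0, Int.ofNat 1, Int.negSucc 0, Int.negSucc 2, Int.negSucc 0, Int.ofNat 1, Int.ofNat 1, Int.ofNat 1, Int.ofNat 1, Int.negSucc 0, Int.negSucc 0, Int.negSucc 0, Int.ofNat 1, Int.negSucc 0, Int.negSucc 0, Int.negSucc 0, Int.negSucc 0, Int.ofNat 1, Int.ofNat 1, Int.ofNat 1, Int.ofNat 1, Int.negSucc 0, Int.negSucc 0],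
  [Int.ofNat 1, Int.negSucc 0, Int.negSucc 0, Int.negSucc 0, Int.negSucc 2, Int.ofNat 1, Int.negSucc 0, Int.ofNat 1, Int.ofNat 1, Int.negSucc 0, Int.ofNat 1, Int.negSucc 0, Int.negSucc 0, Int.ofNat 1, Int.negSucc 0, Int.ofNat 1, Int.negSucc 0, Int.negSucc 0, Int.negSucc 0, Int.ofNat 1, Int.ofNat 1, Int.ofNat 1, Int.ofNat 1, Int.negSucc 0],
  [Int.ofNat 1, Int.negSucc 0, Int.negSucc 0, Int.ofNat 1, Int.negSucc 0, Int.negSucc 0, Int.ofNat 1, Int.negSucc 0, Int.ofNat 1, Int.ofNat 1, Int.ofNat 1, Int.ofNat 1, Int.ofNat 1, Int.negSucc 2, Int.negSucc 0, Int.negSucc 0, Int.ofNat 1, Int.negSucc 0, Int.negSucc 0, Int.negSucc 0, Int.ofNat 1, Int.negSucc 0, Int.ofNat 1, Int.negSucc 0],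
  [Int.negSucc 0, Int.ofNat 1, Int.ofNat 1, Int.negSucc 0, Int.ofNat 1, Int.negSucc 0, Int.negSucc 0, Int.negSucc 0, Int.negSucc 0, Int.negSucc 0, Int.ofNat 1, Int.ofNat 1, Int.negSucc 0, Int.ofNat 3, Int.negSucc 0, Int.negSucc 0, Int.negSucc 0, Int.negSucc 0, Int.ofNat 1, Int.negSucc 0, Int.ofNat 1, Int.negSucc 0, Int.ofNat 1, Int.negSucc 0],
  [Int.negSucc 0, Int.ofNat 1, Int.ofNat 1, Int.negSucc 0, Int.negSucc 0, Int.negSucc 0, Int.negSucc 0, Int.ofNat 3, Int.ofNat 1, Int.negSucc 0, Int.negSucc 0, Int.ofNat 1, Int.negSucc 0, Int.negSucc 0, Int.ofNat 1, Int.negSucc 0, Int.ofNat 1, Int.ofNat 1, Int.negSucc 0, Int.negSucc 0, Int.negSucc 0, Int.negSucc 0, Int.ofNat 1, Int.negSucc 0],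
  [Int.ofNat 1, Int.ofNat 1, Int.negSucc 0, Int.negSucc 0, Int.negSucc 0, Int.negSucc 0, Int.negSucc 0, Int.negSucc 2, Int.ofNat 1, Int.ofNat 1, Int.ofNat 1, Int.negSucc 0, Int.negSucc 0, Int.negSucc 0, Int.ofNat 1, Int.negSucc 0, Int.ofNat 1, Int.ofNat 1, Int.ofNat 1, Int.negSucc 0, Int.negSucc 0, Int.ofNat 1, Int.ofNat 1, Int.negSucc 0],
  [Int.ofNat 1, Int.ofNat 1, Int.ofNat 1, Int.negSucc 0, Int.negSucc 0, Int.negSucc 0, Int.negSucc 0, Int.negSucc 0, Int.negSucc 2, Int.ofNat 1, Int.ofNat 1, Int.ofNat 1, Int.negSucc 0, Int.negSucc 0, Int.negSucc 0, Int.ofNat 1, Int.negSucc 0, Int.ofNat 1, Int.ofNat 1, Int.ofNat 1, Int.negSucc 0, Int.negSucc 0, Int.ofNat 1, Int.negSucc 0],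
  [Int.ofNat 0, Int.ofNat 0, Int.ofNat 0, Int.ofNat 0, Int.ofNat 0, Int.ofNat 0, Int.ofNat 0, Int.ofNat 0, Int.negSucc 1, Int.ofNat 0, Int.ofNat 0, Int.ofNat 2, Int.ofNat 0, Int.ofNat 0, Int.ofNat 0, Int.ofNat 0, Int.ofNat 0, Int.ofNat 2, Int.ofNat 2, Int.ofNat 2, Int.negSucc 1, Int.ofNat 0, Int.ofNat 2, Int.ofNat 2],
  [Int.ofNat 0, Int.ofNat 0, Int.ofNat 0, Int.ofNat 0, Int.ofNat 0, Int.negSucc 1, Int.ofNat 0, Int.ofNat 0, Int.ofNat 2, Int.ofNat 0, Int.ofNat 0, Int.ofNat 0, Int.ofNat 0, Int.ofNat 0, Int.ofNat 2, Int.ofNat 2, Int.ofNat 2, Int.negSucc 1, Int.ofNat 0, Int.ofNat 2, Int.ofNat 0, Int.ofNat 0, Int.ofNat 0, Int.ofNat 2],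
  [Int.ofNat 1, Int.ofNat 1, Int.ofNat 1, Int.ofNat 1, Int.negSucc 0, Int.negSucc 0, Int.negSucc 0, Int.negSucc 0, Int.ofNat 1, Int.negSucc 0, Int.negSucc 0, Int.negSucc 0, Int.negSucc 0, Int.negSucc 0, Int.ofNat 3, Int.ofNat 1, Int.ofNat 1, Int.negSucc 0, Int.negSucc 0, Int.ofNat 1, Int.negSucc 0, Int.negSucc 0, Int.negSucc 0, Int.negSucc 0],
  [Int.ofNat 1, Int.negSucc 0, Int.negSucc 0, Int.ofNat 1, Int.negSucc 0, Int.negSucc 0, Int.ofNat 1, Int.negSucc 0, Int.negSucc 0, Int.negSucc 0, Int.negSucc 0, Int.negSucc 0, Int.negSucc 0, Int.ofNat 1, Int.negSucc 0, Int.ofNat 1, Int.ofNat 1, Int.ofNat 3, Int.ofNat 1, Int.negSucc 0, Int.negSucc 0, Int.negSucc 0, Int.ofNat 1, Int.negSucc 0],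
  [Int.negSucc 1, Int.ofNat 0, Int.ofNat 0, Int.ofNat 0, Int.negSucc 1, Int.negSucc 1, Int.ofNat 2, Int.ofNat 0, Int.ofNat 0, Int.ofNat 0, Int.ofNat 0, Int.ofNat 0, Int.ofNat 0, Int.ofNat 0, Int.negSucc 1, Int.ofNat 2, Int.ofNat 0, Int.ofNat 2, Int.ofNat 2, Int.ofNat 0, Int.ofNat 0, Int.ofNat 0, Int.ofNat 0, Int.ofNat 0],
  [Int.negSucc 1, Int.ofNat 0, Int.ofNat 0, Int.ofNat 0, Int.negSucc 1, Int.ofNat 2, Int.negSucc 1, Int.ofNat 0, Int.ofNat 0, Int.ofNat 0, Int.ofNat 0, Int.ofNat 0, Int.ofNat 0, Int.ofNat 0, Int.negSucc 1, Int.negSucc 1, Int.ofNat 0, Int.ofNat 2, Int.negSucc 1, Int.ofNat 0, Int.ofNat 0, Int.ofNat 0, Int.ofNat 0, Int.ofNat 0],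
  [Int.ofNat 0, Int.negSucc 1, Int.ofNat 0, Int.negSucc 1, Int.ofNat 0, Int.ofNat 2, Int.ofNat 0, Int.ofNat 0, Int.ofNat 0, Int.ofNat 0, Int.ofNat 0, Int.ofNat 2, Int.ofNat 0, Int.ofNat 0, Int.ofNat 0, Int.ofNat 0, Int.ofNat 0, Int.negSucc 1, Int.ofNat 0, Int.ofNat 0, Int.negSucc 1, Int.negSucc 1, Int.negSucc 1, Int.ofNat 0],
  [Int.ofNat 0, Int.negSucc 1, Int.ofNat 0, Int.negSucc 1, Int.ofNat 0, Int.negSucc 1, Int.ofNat 0, Int.ofNat 0, Int.ofNat 0, Int.ofNat 0, Int.ofNat 0, Int.ofNat 2, Int.ofNat 0, Int.ofNat 0, Int.ofNat 0, Int.ofNat 0, Int.ofNat 0, Int.negSucc 1, Int.ofNat 0, Int.ofNat 0, Int.negSucc 1, Int.negSucc 1, Int.ofNat 2, Int.ofNat 0],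
  [Int.negSucc 0, Int.ofNat 1, Int.negSucc 0, Int.ofNat 1, Int.negSucc 0, Int.ofNat 1, Int.ofNat 1, Int.ofNat 1, Int.negSucc 0, Int.ofNat 1, Int.ofNat 1, Int.ofNat 1, Int.negSucc 0, Int.negSucc 0, Int.ofNat 3, Int.ofNat 1, Int.negSucc 0, Int.ofNat 1, Int.negSucc 0, Int.ofNat 1, Int.negSucc 0, Int.negSucc 0, Int.ofNat 1, Int.negSucc 0],
  [Int.negSucc 0, Int.negSucc 0, Int.ofNat 1, Int.ofNat 1, Int.negSucc 0, Int.negSucc 0, Int.ofNat 1, Int.ofNat 1, Int.negSucc 0, Int.negSucc 0, Int.ofNat 1, Int.ofNat 1, Int.negSucc 0, Int.ofNat 1, Int.ofNat 1, Int.ofNat 1, Int.negSucc 0, Int.ofNat 1, Int.negSucc 0, Int.ofNat 1, Int.ofNat 1, Int.negSucc 0, Int.ofNat 3, Int.negSucc 0],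
  [Int.ofNat 0, Int.ofNat 0, Int.negSucc 1, Int.ofNat 0, Int.negSucc 1, Int.negSucc 1, Int.ofNat 0, Int.ofNat 0, Int.ofNat 0, Int.negSucc 1, Int.ofNat 0, Int.ofNat 2, Int.ofNat 0, Int.ofNat 0, Int.ofNat 0, Int.ofNat 0, Int.negSucc 1, Int.ofNat 0, Int.ofNat 0, Int.ofNat 0, Int.ofNat 0, Int.negSucc 1, Int.ofNat 2, Int.ofNat 0],
  [Int.ofNat 0, Int.negSucc 1, Int.ofNat 2, Int.ofNat 0, Int.ofNat 0, Int.negSucc 1, Int.ofNat 0, Int.negSucc 1, Int.negSucc 1, Int.ofNat 0, Int.ofNat 0, Int.ofNat 0, Int.negSucc 1, Int.ofNat 0, Int.ofNat 2, Int.ofNat 0, Int.ofNat 0, Int.ofNat 0, Int.ofNat 0, Int.negSucc 1, Int.ofNat 0, Int.ofNat 0, Int.ofNat 0, Int.ofNat 0],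
  [Int.ofNat 0, Int.ofNat 2, Int.negSucc 1, Int.ofNat 0, Int.ofNat 0, Int.negSucc 1, Int.ofNat 2, Int.ofNat 0, Int.ofNat 0, Int.ofNat 0, Int.ofNat 0, Int.ofNat 2, Int.ofNat 0, Int.ofNat 0, Int.ofNat 2, Int.ofNat 0, Int.ofNat 0, Int.ofNat 0, Int.ofNat 2, Int.ofNat 0, Int.ofNat 0, Int.ofNat 2, Int.ofNat 0, Int.ofNat 0],
  [Int.ofNat 2, Int.negSucc 1, Int.ofNat 0, Int.ofNat 0, Int.negSucc 1, Int.ofNat 2, Int.ofNat 0, Int.ofNat 0, Int.ofNat 0, Int.ofNat 0, Int.ofNat 2, Int.ofNat 0, Int.ofNat 0, Int.ofNat 2, Int.ofNat 0, Int.ofNat 0, Int.ofNat 0, Int.ofNat 2, Int.ofNat 0, Int.ofNat 0, Int.ofNat 2, Int.ofNat 0, Int.ofNat 0, Int.ofNat 0],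
  [Int.negSucc 1, Int.negSucc 1, Int.ofNat 0, Int.ofNat 0, Int.negSucc 1, Int.ofNat 2, Int.ofNat 0, Int.ofNat 0, Int.ofNat 0, Int.ofNat 0, Int.negSucc 1, Int.ofNat 0, Int.ofNat 0, Int.ofNat 2, Int.ofNat 0, Int.ofNat 0, Int.ofNat 0, Int.ofNat 2, Int.ofNat 0, Int.ofNat 0, Int.ofNat 2, Int.ofNat 0, Int.ofNat 0, Int.ofNat 0],
  [Int.negSucc 1, Int.ofNat 0, Int.ofNat 0, Int.ofNat 0, Int.negSucc 1, Int.negSucc 1, Int.negSucc 1, Int.ofNat 2, Int.ofNat 0, Int.ofNat 0, Int.ofNat 0, Int.ofNat 0, Int.ofNat 2, Int.ofNat 0, Int.ofNat 0, Int.ofNat 0, Int.ofNat 0, Int.ofNat 0, Int.ofNat 0, Int.ofNat 2, Int.ofNat 2, Int.ofNat 0, Int.ofNat 0, Int.ofNat 0],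
  [Int.ofNat 2, Int.ofNat 0, Int.ofNat 0, Int.ofNat 0, Int.negSucc 1, Int.negSucc 1, Int.negSucc 1, Int.negSucc 1, Int.ofNat 0, Int.ofNat 0, Int.ofNat 0, Int.ofNat 0, Int.ofNat 2, Int.ofNat 0, Int.ofNat 0, Int.ofNat 0, Int.ofNat 0, Int.ofNat 0, Int.ofNat 0, Int.ofNat 2, Int.ofNat 2, Int.ofNat 0, Int.ofNat 0, Int.ofNat 0],
  [Int.ofNat 0, Int.ofNat 2, Int.ofNat 0, Int.ofNat 0, Int.ofNat 0, Int.negSucc 1, Int.negSucc 1, Int.negSucc 1, Int.negSucc 1, Int.ofNat 0, Int.ofNat 0, Int.ofNat 0, Int.ofNat 0, Int.ofNat 2, Int.ofNat 0, Int.ofNat 0, Int.ofNat 0, Int.ofNat 0, Int.ofNat 0, Int.ofNat 0, Int.ofNat 2, Int.ofNat 2, Int.ofNat 0, Int.ofNat 0],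
  [Int.ofNat 1, Int.negSucc 0, Int.ofNat 1, Int.ofNat 1, Int.negSucc 0, Int.negSucc 0, Int.negSucc 0, Int.negSucc 0, Int.negSucc 0, Int.negSucc 0, Int.negSucc 0, Int.ofNat 1, Int.ofNat 1, Int.ofNat 1, Int.ofNat 1, Int.negSucc 0, Int.negSucc 0, Int.ofNat 1, Int.ofNat 1, Int.ofNat 1, Int.ofNat 1, Int.ofNat 3, Int.negSucc 0, Int.ofNat 1],
  [Int.ofNat 1, Int.negSucc 0, Int.negSucc 0, Int.negSucc 0, Int.negSucc 0, Int.negSucc 0, Int.negSucc 0, Int.negSucc 0, Int.ofNat 1, Int.ofNat 1, Int.ofNat 1, Int.ofNat 1, Int.negSucc 0, Int.negSucc 0, Int.ofNat 1, Int.ofNat 1, Int.ofNat 1, Int.ofNat 1, Int.ofNat 3, Int.negSucc 0, Int.ofNat 1, Int.negSucc 0, Int.ofNat 1, Int.ofNat 1],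
  [Int.negSucc 0, Int.ofNat 1, Int.ofNat 1, Int.negSucc 0, Int.negSucc 0, Int.negSucc 0, Int.ofNat 1, Int.ofNat 1, Int.negSucc 0, Int.negSucc 0, Int.negSucc 0, Int.negSucc 0, Int.negSucc 2, Int.negSucc 0, Int.ofNat 1, Int.negSucc 0, Int.ofNat 1, Int.ofNat 1, Int.ofNat 1, Int.ofNat 1, Int.negSucc 0, Int.ofNat 1, Int.ofNat 1, Int.negSucc 0],
  [Int.negSucc 0, Int.ofNat 1, Int.negSucc 0, Int.negSucc 0, Int.ofNat 1, Int.ofNat 1, Int.ofNat 1, Int.negSucc 0, Int.negSucc 2, Int.negSucc 0, Int.negSucc 0, Int.ofNat 1, Int.negSucc 0, Int.ofNat 1, Int.ofNat 1, Int.negSucc 0, Int.negSucc 0, Int.ofNat 1, Int.ofNat 1, Int.negSucc 0, Int.ofNat 1, Int.negSucc 0, Int.ofNat 1, Int.negSucc 0],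
  [Int.ofNat 0, Int.negSucc 1, Int.ofNat 0, Int.negSucc 1, Int.ofNat 0, Int.ofNat 0, Int.ofNat 2, Int.ofNat 0, Int.negSucc 1, Int.ofNat 0, Int.ofNat 0, Int.ofNat 2, Int.ofNat 0, Int.ofNat 0, Int.ofNat 0, Int.ofNat 0, Int.negSucc 1, Int.ofNat 0, Int.ofNat 2, Int.ofNat 0, Int.ofNat 2, Int.ofNat 0, Int.ofNat 0, Int.ofNat 0],
  [Int.ofNat 0, Int.negSucc 1, Int.ofNat 0, Int.negSucc 1, Int.ofNat 0, Int.ofNat 0, Int.negSucc 1, Int.ofNat 0, Int.negSucc 1, Int.ofNat 0, Int.ofNat 0, Int.ofNat 2, Int.ofNat 0, Int.ofNat 0, Int.ofNat 0, Int.ofNat 0, Int.negSucc 1, Int.ofNat 0, Int.negSucc 1, Int.ofNat 0, Int.ofNat 2, Int.ofNat 0, Int.ofNat 0, Int.ofNat 0],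
  [Int.ofNat 0, Int.negSucc 1, Int.ofNat 2, Int.negSucc 1, Int.ofNat 0, Int.negSucc 1, Int.ofNat 0, Int.negSucc 1, Int.ofNat 0, Int.ofNat 2, Int.ofNat 0, Int.ofNat 0, Int.ofNat 0, Int.ofNat 0, Int.ofNat 0, Int.negSucc 1, Int.ofNat 0, Int.ofNat 0, Int.ofNat 0, Int.ofNat 0, Int.ofNat 0, Int.negSucc 1, Int.ofNat 0, Int.ofNat 0],
  [Int.ofNat 0, Int.ofNat 2, Int.negSucc 1, Int.ofNat 2, Int.ofNat 0, Int.negSucc 1, Int.ofNat 0, Int.negSucc 1, Int.ofNat 0, Int.negSucc 1, Int.ofNat 0, Int.ofNat 0, Int.ofNat 0, Int.ofNat 0, Int.ofNat 0, Int.negSucc 1, Int.ofNat 0, Int.ofNat 0, Int.ofNat 0, Int.ofNat 0, Int.ofNat 0, Int.negSucc 1, Int.ofNat 0, Int.ofNat 0],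
  [Int.ofNat 0, Int.ofNat 0, Int.ofNat 0, Int.negSucc 1, Int.ofNat 0, Int.negSucc 1, Int.ofNat 0, Int.ofNat 0, Int.ofNat 0, Int.negSucc 1, Int.ofNat 0, Int.negSucc 1, Int.negSucc 1, Int.negSucc 1, Int.ofNat 0, Int.ofNat 2, Int.ofNat 0, Int.ofNat 0, Int.ofNat 0, Int.ofNat 0, Int.ofNat 0, Int.ofNat 0, Int.ofNat 2, Int.ofNat 0],
  [Int.ofNat 0, Int.ofNat 0, Int.ofNat 0, Int.negSucc 1, Int.ofNat 0, Int.negSucc 1, Int.ofNat 0, Int.ofNat 0, Int.ofNat 0, Int.ofNat 2, Int.ofNat 0, Int.ofNat 2, Int.negSucc 1, Int.negSucc 1, Int.ofNat 0, Int.ofNat 2, Int.ofNat 0, Int.ofNat 0, Int.ofNat 0, Int.ofNat 0, Int.ofNat 0, Int.ofNat 0, Int.ofNat 2, Int.ofNat 0],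
  [Int.ofNat 2, Int.ofNat 0, Int.ofNat 0, Int.ofNat 0, Int.negSucc 1, Int.ofNat 0, Int.negSucc 1, Int.ofNat 0, Int.ofNat 0, Int.ofNat 0, Int.ofNat 2, Int.ofNat 0, Int.ofNat 2, Int.negSucc 1, Int.negSucc 1, Int.ofNat 0, Int.ofNat 2, Int.ofNat 0, Int.ofNat 0, Int.ofNat 0, Int.ofNat 0, Int.ofNat 0, Int.ofNat 0, Int.ofNat 0],
  [Int.negSucc 0, Int.ofNat 1, Int.ofNat 1, Int.ofNat 1, Int.negSucc 0, Int.ofNat 1, Int.negSucc 0, Int.ofNat 1, Int.negSucc 0, Int.negSucc 0, Int.ofNat 1, Int.negSucc 0, Int.ofNat 1, Int.negSucc 0, Int.negSucc 0, Int.negSucc 0, Int.ofNat 3, Int.ofNat 1, Int.negSucc 0, Int.ofNat 1, Int.negSucc 0, Int.ofNat 1, Int.ofNat 1, Int.ofNat 1],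
  [Int.ofNat 1, Int.negSucc 0, Int.ofNat 1, Int.negSucc 0, Int.ofNat 1, Int.negSucc 0, Int.negSucc 0, Int.ofNat 1, Int.negSucc 0, Int.ofNat 1, Int.negSucc 0, Int.negSucc 0, Int.negSucc 0, Int.ofNat 3, Int.ofNat 1, Int.negSucc 0, Int.ofNat 1, Int.negSucc 0, Int.ofNat 1, Int.ofNat 1, Int.negSucc 0, Int.ofNat 1, Int.ofNat 1, Int.ofNat 1],
  [Int.ofNat 0, Int.ofNat 2, Int.ofNat 0, Int.ofNat 0, Int.negSucc 1, Int.ofNat 0, Int.negSucc 1, Int.ofNat 0, Int.ofNat 0, Int.ofNat 2, Int.ofNat 0, Int.ofNat 0, Int.ofNat 0, Int.ofNat 0, Int.ofNat 2, Int.ofNat 0, Int.negSucc 1, Int.ofNat 0, Int.ofNat 2, Int.ofNat 0, Int.ofNat 0, Int.ofNat 0, Int.negSucc 1, Int.ofNat 0],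
  [Int.ofNat 0, Int.negSucc 1, Int.negSucc 1, Int.ofNat 0, Int.ofNat 2, Int.ofNat 0, Int.ofNat 0, Int.ofNat 0, Int.ofNat 0, Int.ofNat 0, Int.ofNat 0, Int.ofNat 0, Int.ofNat 2, Int.negSucc 1, Int.negSucc 1, Int.ofNat 0, Int.ofNat 0, Int.ofNat 2, Int.ofNat 2, Int.ofNat 0, Int.ofNat 0, Int.ofNat 0, Int.ofNat 0, Int.ofNat 0],
  [Int.negSucc 1, Int.ofNat 0, Int.ofNat 0, Int.ofNat 0, Int.ofNat 2, Int.ofNat 0, Int.ofNat 0, Int.ofNat 0, Int.negSucc 1, Int.ofNat 0, Int.ofNat 0, Int.negSucc 1, Int.ofNat 0, Int.negSucc 1, Int.negSucc 1, Int.ofNat 0, Int.ofNat 0, Int.ofNat 2, Int.ofNat 0, Int.ofNat 0, Int.ofNat 0, Int.ofNat 0, Int.ofNat 0, Int.negSucc 1],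
  [Int.negSucc 1, Int.ofNat 0, Int.ofNat 0, Int.ofNat 0, Int.ofNat 2, Int.ofNat 0, Int.ofNat 0, Int.ofNat 0, Int.negSucc 1, Int.ofNat 0, Int.ofNat 0, Int.negSucc 1, Int.ofNat 0, Int.negSucc 1, Int.negSucc 1, Int.ofNat 0, Int.ofNat 0, Int.ofNat 2, Int.ofNat 0, Int.ofNat 0, Int.ofNat 0, Int.ofNat 0, Int.ofNat 0, Int.negSucc 1],
  [Int.negSucc 1, Int.negSucc 1, Int.negSucc 1, Int.ofNat 2, Int.ofNat 0, Int.ofNat 2, Int.ofNat 0, Int.ofNat 0, Int.ofNat 0, Int.ofNat 0, Int.ofNat 0, Int.ofNat 0, Int.ofNat 0, Int.ofNat 0, Int.negSucc 1, Int.ofNat 0, Int.ofNat 0, Int.negSucc 1, Int.ofNat 0, Int.ofNat 0, Int.ofNat 0, Int.ofNat 0, Int.ofNat 0, Int.negSucc 1],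
  [Int.negSucc 1, Int.negSucc 1, Int.ofNat 2, Int.ofNat 2, Int.ofNat 0, Int.negSucc 1, Int.ofNat 0, Int.ofNat 0, Int.ofNat 0, Int.ofNat 0, Int.ofNat 0, Int.ofNat 0, Int.ofNat 0, Int.ofNat 0, Int.negSucc 1, Int.ofNat 0, Int.ofNat 0, Int.negSucc 1, Int.ofNat 0, Int.ofNat 0, Int.ofNat 0, Int.ofNat 0, Int.ofNat 0, Int.negSucc 1],
  [Int.ofNat 0, Int.ofNat 0, Int.negSucc 3, Int.ofNat 4, Int.ofNat 0, Int.ofNat 0, Int.ofNat 0, Int.ofNat 0, Int.ofNat 0, Int.ofNat 0, Int.ofNat 0, Int.ofNat 0, Int.ofNat 0, Int.ofNat 0, Int.ofNat 0, Int.ofNat 0, Int.ofNat 0, Int.ofNat 0, Int.ofNat 0, Int.ofNat 0, Int.ofNat 0, Int.ofNat 0, Int.ofNat 0, Int.ofNat 0],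
  [Int.ofNat 0, Int.ofNat 0, Int.ofNat 0, Int.ofNat 4, Int.negSucc 3, Int.ofNat 0, Int.ofNat 0, Int.ofNat 0, Int.ofNat 0, Int.ofNat 0, Int.ofNat 0, Int.ofNat 0, Int.ofNat 0, Int.ofNat 0, Int.ofNat 0, Int.ofNat 0, Int.ofNat 0, Int.ofNat 0, Int.ofNat 0, Int.ofNat 0, Int.ofNat 0, Int.ofNat 0, Int.ofNat 0, Int.ofNat 0],
  [Int.ofNat 0, Int.ofNat 0, Int.ofNat 0, Int.ofNat 2, Int.negSucc 1, Int.negSucc 1, Int.ofNat 0, Int.ofNat 0, Int.ofNat 0, Int.ofNat 0, Int.ofNat 0, Int.ofNat 0, Int.ofNat 0, Int.ofNat 2, Int.negSucc 1, Int.ofNat 0, Int.ofNat 2, Int.negSucc 1, Int.ofNat 0, Int.ofNat 0, Int.ofNat 0, Int.ofNat 0, Int.ofNat 2, Int.ofNat 0],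
  [Int.ofNat 0, Int.ofNat 0, Int.ofNat 2, Int.ofNat 0, Int.ofNat 0, Int.ofNat 0, Int.ofNat 2, Int.negSucc 1, Int.negSucc 1, Int.ofNat 0, Int.ofNat 0, Int.ofNat 0, Int.ofNat 0, Int.ofNat 0, Int.ofNat 0, Int.ofNat 0, Int.ofNat 2, Int.negSucc 1, Int.ofNat 0, Int.ofNat 2, Int.negSucc 1, Int.ofNat 0, Int.ofNat 0, Int.ofNat 0],
  [Int.ofNat 1, Int.ofNat 1, Int.negSucc 0, Int.ofNat 1, Int.negSucc 0, Int.ofNat 1, Int.ofNat 1, Int.negSucc 2, Int.negSucc 0, Int.ofNat 1, Int.ofNat 1, Int.ofNat 1, Int.ofNat 1, Int.negSucc 0, Int.ofNat 1, Int.ofNat 1, Int.ofNat 1, Int.negSucc 0, Int.ofNat 1, Int.ofNat 1, Int.negSucc 0, Int.negSucc 0, Int.negSucc 0, Int.ofNat 1],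
  [Int.ofNat 1, Int.negSucc 0, Int.ofNat 1, Int.negSucc 0, Int.ofNat 1, Int.ofNat 1, Int.negSucc 2, Int.negSucc 0, Int.ofNat 1, Int.ofNat 1, Int.ofNat 1, Int.ofNat 1, Int.negSucc 0, Int.ofNat 1, Int.ofNat 1, Int.ofNat 1, Int.negSucc 0, Int.ofNat 1, Int.ofNat 1, Int.negSucc 0, Int.negSucc 0, Int.negSucc 0, Int.ofNat 1, Int.ofNat 1],
  [Int.negSucc 0, Int.negSucc 0, Int.negSucc 0, Int.negSucc 0, Int.ofNat 1, Int.ofNat 1, Int.negSucc 2, Int.ofNat 1, Int.ofNat 1, Int.negSucc 0, Int.negSucc 0, Int.negSucc 0, Int.negSucc 0, Int.ofNat 1, Int.ofNat 1, Int.ofNat 1, Int.negSucc 0, Int.ofNat 1, Int.negSucc 0, Int.negSucc 0, Int.negSucc 0, Int.ofNat 1, Int.ofNat 1, Int.ofNat 1],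
  [Int.negSucc 0, Int.negSucc 0, Int.negSucc 0, Int.negSucc 0, Int.negSucc 0, Int.negSucc 0, Int.ofNat 1, Int.negSucc 0, Int.negSucc 0, Int.negSucc 0, Int.ofNat 1, Int.ofNat 1, Int.ofNat 1, Int.ofNat 1, Int.negSucc 0, Int.ofNat 1, Int.negSucc 0, Int.ofNat 1, Int.negSucc 2, Int.ofNat 1, Int.ofNat 1, Int.ofNat 1, Int.negSucc 0, Int.ofNat 1],
  [Int.ofNat 1, Int.negSucc 0, Int.ofNat 1, Int.negSucc 0, Int.negSucc 0, Int.negSucc 0, Int.ofNat 1, Int.ofNat 1, Int.negSucc 0, Int.ofNat 1, Int.negSucc 0, Int.negSucc 0, Int.ofNat 1, Int.ofNat 1, Int.negSucc 0, Int.ofNat 1, Int.negSucc 0, Int.ofNat 1, Int.ofNat 3, Int.ofNat 1, Int.ofNat 1, Int.negSucc 0, Int.negSucc 0, Int.ofNat 1],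
  [Int.negSucc 0, Int.ofNat 1, Int.negSucc 0, Int.ofNat 1, Int.negSucc 0, Int.negSucc 0, Int.negSucc 0, Int.ofNat 1, Int.ofNat 1, Int.negSucc 0, Int.ofNat 1, Int.negSucc 0, Int.negSucc 0, Int.ofNat 1, Int.ofNat 1, Int.negSucc 0, Int.ofNat 1, Int.negSucc 0, Int.ofNat 1, Int.ofNat 3, Int.ofNat 1, Int.ofNat 1, Int.negSucc 0, Int.ofNat 1],
  [Int.ofNat 1, Int.negSucc 0, Int.ofNat 1, Int.ofNat 1, Int.negSucc 0, Int.negSucc 0, Int.negSucc 2, Int.negSucc 0, Int.ofNat 1, Int.negSucc 0, Int.ofNat 1, Int.negSucc 0, Int.negSucc 0, Int.ofNat 1, Int.ofNat 1, Int.negSucc 0, Int.ofNat 1, Int.negSucc 0, Int.ofNat 1, Int.ofNat 1, Int.ofNat 1, Int.negSucc 0, Int.negSucc 0, Int.negSucc 0],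
  [Int.ofNat 1, Int.negSucc 0, Int.negSucc 0, Int.negSucc 2, Int.negSucc 0, Int.ofNat 1, Int.negSucc 0, Int.ofNat 1, Int.negSucc 0, Int.negSucc 0, Int.ofNat 1, Int.ofNat 1, Int.negSucc 0, Int.ofNat 1, Int.negSucc 0, Int.ofNat 1, Int.ofNat 1, Int.ofNat 1, Int.negSucc 0, Int.negSucc 0, Int.ofNat 1, Int.negSucc 0, Int.ofNat 1, Int.negSucc 0],
  [Int.negSucc 1, Int.ofNat 0, Int.ofNat 0, Int.negSucc 1, Int.negSucc 1, Int.ofNat 2, Int.ofNat 0, Int.ofNat 2, Int.ofNat 0, Int.negSucc 1, Int.ofNat 0, Int.ofNat 2, Int.ofNat 0, Int.ofNat 0, Int.ofNat 0, Int.ofNat 0, Int.ofNat 0, Int.ofNat 2, Int.ofNat 0, Int.ofNat 0, Int.ofNat 0, Int.ofNat 0, Int.ofNat 0, Int.ofNat 0],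
  [Int.negSucc 1, Int.ofNat 0, Int.negSucc 1, Int.negSucc 1, Int.ofNat 0, Int.ofNat 2, Int.ofNat 0, Int.ofNat 0, Int.ofNat 0, Int.ofNat 0, Int.ofNat 0, Int.ofNat 2, Int.negSucc 1, Int.ofNat 0, Int.ofNat 0, Int.ofNat 0, Int.ofNat 0, Int.ofNat 0, Int.ofNat 0, Int.ofNat 2, Int.ofNat 0, Int.ofNat 2, Int.ofNat 0, Int.ofNat 0],
  [Int.ofNat 0, Int.negSucc 1, Int.ofNat 0, Int.negSucc 1, Int.ofNat 0, Int.ofNat 2, Int.negSucc 1, Int.negSucc 1, Int.ofNat 0, Int.ofNat 0, Int.ofNat 0, Int.ofNat 2, Int.negSucc 1, Int.ofNat 0, Int.ofNat 0, Int.ofNat 0, Int.ofNat 0, Int.ofNat 0, Int.ofNat 0, Int.ofNat 0, Int.ofNat 0, Int.ofNat 0, Int.ofNat 0, Int.negSucc 1],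
  [Int.ofNat 0, Int.negSucc 1, Int.ofNat 0, Int.negSucc 1, Int.ofNat 0, Int.negSucc 1, Int.ofNat 2, Int.negSucc 1, Int.ofNat 0, Int.ofNat 0, Int.ofNat 0, Int.ofNat 2, Int.negSucc 1, Int.ofNat 0, Int.ofNat 0, Int.ofNat 0, Int.ofNat 0, Int.ofNat 0, Int.ofNat 0, Int.ofNat 0, Int.ofNat 0, Int.ofNat 0, Int.ofNat 0, Int.negSucc 1],
  [Int.ofNat 0, Int.ofNat 0, Int.ofNat 2, Int.ofNat 0, Int.ofNat 0, Int.ofNat 2, Int.ofNat 0, Int.negSucc 1, Int.negSucc 1, Int.ofNat 0, Int.ofNat 0, Int.negSucc 1, Int.ofNat 0, Int.ofNat 0, Int.ofNat 0, Int.ofNat 0, Int.ofNat 0, Int.negSucc 1, Int.ofNat 0, Int.ofNat 0, Int.ofNat 0, Int.negSucc 1, Int.ofNat 0, Int.negSucc 1],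
  [Int.ofNat 0, Int.ofNat 0, Int.negSucc 1, Int.ofNat 0, Int.ofNat 0, Int.ofNat 2, Int.ofNat 0, Int.negSucc 1, Int.ofNat 2, Int.ofNat 0, Int.ofNat 0, Int.negSucc 1, Int.ofNat 0, Int.ofNat 0, Int.ofNat 0, Int.ofNat 0, Int.ofNat 0, Int.negSucc 1, Int.ofNat 0, Int.ofNat 0, Int.ofNat 0, Int.negSucc 1, Int.ofNat 0, Int.negSucc 1],
  [Int.negSucc 1, Int.ofNat 0, Int.negSucc 1, Int.ofNat 0, Int.negSucc 1, Int.ofNat 0, Int.ofNat 0, Int.ofNat 0, Int.ofNat 0, Int.ofNat 2, Int.ofNat 0, Int.negSucc 1, Int.negSucc 1, Int.negSucc 1, Int.ofNat 0, Int.ofNat 0, Int.ofNat 0, Int.ofNat 0, Int.ofNat 0, Int.ofNat 0, Int.ofNat 2, Int.ofNat 0, Int.ofNat 0, Int.ofNat 0],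
  [Int.ofNat 2, Int.ofNat 0, Int.ofNat 2, Int.ofNat 0, Int.negSucc 1, Int.ofNat 0, Int.ofNat 0, Int.ofNat 0, Int.ofNat 0, Int.negSucc 1, Int.ofNat 0, Int.ofNat 2, Int.negSucc 1, Int.negSucc 1, Int.ofNat 0, Int.ofNat 0, Int.ofNat 0, Int.ofNat 0, Int.ofNat 0, Int.ofNat 0, Int.ofNat 2, Int.ofNat 0, Int.ofNat 0, Int.ofNat 0],
  [Int.ofNat 0, Int.ofNat 2, Int.ofNat 0, Int.ofNat 2, Int.ofNat 0, Int.negSucc 1, Int.ofNat 0, Int.ofNat 0, Int.ofNat 0, Int.ofNat 0, Int.negSucc 1, Int.ofNat 0, Int.ofNat 2, Int.negSucc 1, Int.negSucc 1, Int.ofNat 0, Int.ofNat 0, Int.ofNat 0, Int.ofNat 0, Int.ofNat 0, Int.ofNat 0, Int.ofNat 2, Int.ofNat 0, Int.ofNat 0],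
  [Int.ofNat 1, Int.negSucc 0, Int.ofNat 1, Int.ofNat 3, Int.ofNat 1, Int.negSucc 0, Int.negSucc 0, Int.negSucc 0, Int.negSucc 0, Int.ofNat 1, Int.negSucc 0, Int.negSucc 0, Int.ofNat 1, Int.negSucc 0, Int.negSucc 0, Int.ofNat 1, Int.ofNat 1, Int.ofNat 1, Int.negSucc 0, Int.negSucc 0, Int.ofNat 1, Int.ofNat 1, Int.ofNat 1, Int.ofNat 1],
  [Int.ofNat 3, Int.ofNat 1, Int.negSucc 0, Int.negSucc 0, Int.negSucc 0, Int.negSucc 0, Int.ofNat 1, Int.negSucc 0, Int.negSucc 0, Int.ofNat 1, Int.negSucc 0, Int.negSucc 0, Int.ofNat 1, Int.ofNat 1, Int.ofNat 1, Int.negSucc 0, Int.negSucc 0, Int.ofNat 1, Int.ofNat 1, Int.ofNat 1, Int.ofNat 1, Int.negSucc 0, Int.ofNat 1, Int.ofNat 1],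
  [Int.negSucc 0, Int.ofNat 1, Int.ofNat 3, Int.negSucc 0, Int.negSucc 0, Int.negSucc 0, Int.ofNat 1, Int.negSucc 0, Int.negSucc 0, Int.ofNat 1, Int.negSucc 0, Int.negSucc 0, Int.ofNat 1, Int.ofNat 1, Int.ofNat 1, Int.negSucc 0, Int.negSucc 0, Int.ofNat 1, Int.ofNat 1, Int.ofNat 1, Int.ofNat 1, Int.negSucc 0, Int.ofNat 1, Int.ofNat 1],
  [Int.negSucc 0, Int.ofNat 1, Int.negSucc 0, Int.negSucc 0, Int.ofNat 1, Int.negSucc 0, Int.ofNat 3, Int.negSucc 0, Int.ofNat 1, Int.ofNat 1, Int.ofNat 1, Int.ofNat 1, Int.ofNat 1, Int.negSucc 0, Int.ofNat 1, Int.negSucc 0, Int.negSucc 0, Int.ofNat 1, Int.ofNat 1, Int.negSucc 0, Int.negSucc 0, Int.negSucc 0, Int.ofNat 1, Int.ofNat 1],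
  [Int.ofNat 1, Int.negSucc 0, Int.ofNat 1, Int.negSucc 0, Int.ofNat 1, Int.negSucc 0, Int.ofNat 3, Int.negSucc 0, Int.negSucc 0, Int.ofNat 1, Int.ofNat 1, Int.negSucc 0, Int.negSucc 0, Int.negSucc 0, Int.ofNat 1, Int.negSucc 0, Int.negSucc 0, Int.ofNat 1, Int.negSucc 0, Int.negSucc 0, Int.negSucc 0, Int.negSucc 0, Int.ofNat 1, Int.negSucc 0],
  [Int.ofNat 1, Int.negSucc 0, Int.negSucc 0, Int.negSucc 0, Int.ofNat 1, Int.ofNat 1, Int.negSucc 2, Int.negSucc 0, Int.negSucc 0, Int.negSucc 0, Int.negSucc 0, Int.negSucc 0, Int.negSucc 0, Int.negSucc 0, Int.ofNat 1, Int.ofNat 1, Int.negSucc 0, Int.ofNat 1, Int.ofNat 1, Int.negSucc 0, Int.negSucc 0, Int.negSucc 0, Int.negSucc 0, Int.negSucc 0],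
  [Int.negSucc 0, Int.ofNat 1, Int.negSucc 0, Int.ofNat 1, Int.negSucc 0, Int.ofNat 1, Int.negSucc 0, Int.negSucc 0, Int.negSucc 0, Int.negSucc 0, Int.negSucc 0, Int.ofNat 1, Int.negSucc 0, Int.negSucc 0, Int.negSucc 0, Int.negSucc 0, Int.negSucc 0, Int.ofNat 1, Int.negSucc 0, Int.negSucc 0, Int.ofNat 1, Int.ofNat 1, Int.negSucc 2, Int.negSucc 0],
  [Int.negSucc 0, Int.ofNat 1, Int.ofNat 1, Int.ofNat 1, Int.negSucc 0, Int.negSucc 0, Int.ofNat 1, Int.negSucc 0, Int.negSucc 0, Int.ofNat 1, Int.ofNat 1, Int.ofNat 1, Int.negSucc 0, Int.negSucc 0, Int.negSucc 0, Int.ofNat 1, Int.negSucc 0, Int.ofNat 1, Int.ofNat 1, Int.negSucc 0, Int.ofNat 1, Int.ofNat 1, Int.ofNat 3, Int.negSucc 0],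
  [Int.ofNat 1, Int.negSucc 0, Int.negSucc 0, Int.ofNat 1, Int.negSucc 0, Int.negSucc 0, Int.ofNat 1, Int.negSucc 0, Int.negSucc 0, Int.negSucc 0, Int.negSucc 0, Int.ofNat 1, Int.negSucc 0, Int.negSucc 0, Int.negSucc 0, Int.negSucc 0, Int.negSucc 0, Int.ofNat 1, Int.ofNat 1, Int.negSucc 0, Int.negSucc 0, Int.ofNat 1, Int.ofNat 3, Int.ofNat 1],
  [Int.ofNat 1, Int.ofNat 1, Int.ofNat 1, Int.ofNat 1, Int.negSucc 0, Int.ofNat 1, Int.negSucc 0, Int.negSucc 0, Int.negSucc 0, Int.negSucc 0, Int.negSucc 0, Int.negSucc 0, Int.negSucc 0, Int.negSucc 0, Int.ofNat 1, Int.negSucc 0, Int.negSucc 0, Int.ofNat 1, Int.negSucc 0, Int.ofNat 3, Int.negSucc 0, Int.negSucc 0, Int.negSucc 0, Int.ofNat 1],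
  [Int.ofNat 1, Int.ofNat 1, Int.ofNat 1, Int.negSucc 0, Int.ofNat 1, Int.negSucc 0, Int.negSucc 0, Int.negSucc 0, Int.ofNat 1, Int.ofNat 1, Int.ofNat 1, Int.ofNat 1, Int.ofNat 1, Int.ofNat 1, Int.negSucc 0, Int.ofNat 1, Int.ofNat 1, Int.negSucc 0, Int.ofNat 1, Int.ofNat 3, Int.ofNat 1, Int.negSucc 0, Int.ofNat 1, Int.ofNat 1],
  [Int.ofNat 1, Int.negSucc 0, Int.ofNat 1, Int.ofNat 1, Int.ofNat 1, Int.ofNat 1, Int.negSucc 0, Int.ofNat 1, Int.negSucc 0, Int.negSucc 0, Int.negSucc 0, Int.ofNat 1, Int.ofNat 1, Int.ofNat 1, Int.ofNat 1, Int.ofNat 1, Int.ofNat 1, Int.negSucc 0, Int.ofNat 1, Int.ofNat 1, Int.negSucc 0, Int.ofNat 1, Int.ofNat 3, Int.ofNat 1],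
  [Int.ofNat 0, Int.ofNat 2, Int.ofNat 0, Int.ofNat 0, Int.negSucc 1, Int.ofNat 0, Int.negSucc 1, Int.ofNat 0, Int.negSucc 1, Int.ofNat 0, Int.ofNat 0, Int.ofNat 0, Int.ofNat 0, Int.negSucc 1, Int.ofNat 0, Int.ofNat 2, Int.negSucc 1, Int.negSucc 1, Int.ofNat 0, Int.ofNat 0, Int.ofNat 0, Int.ofNat 0, Int.ofNat 0, Int.ofNat 0],
  [Int.ofNat 2, Int.ofNat 0, Int.ofNat 0, Int.negSucc 1, Int.ofNat 0, Int.negSucc 1, Int.ofNat 0, Int.negSucc 1, Int.ofNat 0, Int.ofNat 0, Int.ofNat 0, Int.ofNat 0, Int.negSucc 1, Int.ofNat 0, Int.ofNat 2, Int.negSucc 1, Int.negSucc 1, Int.ofNat 0, Int.ofNat 0, Int.ofNat 0, Int.ofNat 0, Int.ofNat 0, Int.ofNat 0, Int.ofNat 0],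
  [Int.negSucc 1, Int.ofNat 0, Int.ofNat 0, Int.negSucc 1, Int.ofNat 0, Int.negSucc 1, Int.ofNat 0, Int.ofNat 2, Int.ofNat 0, Int.ofNat 0, Int.ofNat 0, Int.ofNat 0, Int.negSucc 1, Int.ofNat 0, Int.ofNat 2, Int.negSucc 1, Int.negSucc 1, Int.ofNat 0, Int.ofNat 0, Int.ofNat 0, Int.ofNat 0, Int.ofNat 0, Int.ofNat 0, Int.ofNat 0],
  [Int.negSucc 1, Int.ofNat 0, Int.ofNat 0, Int.negSucc 1, Int.ofNat 0, Int.ofNat 0, Int.ofNat 0, Int.ofNat 0, Int.ofNat 0, Int.negSucc 1, Int.ofNat 0, Int.ofNat 2, Int.ofNat 0, Int.ofNat 0, Int.ofNat 0, Int.negSucc 1, Int.negSucc 1, Int.ofNat 0, Int.ofNat 0, Int.ofNat 0, Int.negSucc 1, Int.ofNat 2, Int.ofNat 0, Int.ofNat 0],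
  [Int.ofNat 2, Int.ofNat 0, Int.ofNat 0, Int.negSucc 1, Int.ofNat 0, Int.ofNat 0, Int.ofNat 0, Int.ofNat 0, Int.ofNat 0, Int.ofNat 2, Int.ofNat 0, Int.negSucc 1, Int.ofNat 0, Int.ofNat 0, Int.ofNat 0, Int.negSucc 1, Int.negSucc 1, Int.ofNat 0, Int.ofNat 0, Int.ofNat 0, Int.negSucc 1, Int.negSucc 1, Int.ofNat 0, Int.ofNat 0],
  [Int.ofNat 0, Int.ofNat 2, Int.ofNat 0, Int.ofNat 0, Int.negSucc 1, Int.ofNat 0, Int.ofNat 0, Int.ofNat 0, Int.ofNat 0, Int.ofNat 0, Int.ofNat 2, Int.ofNat 0, Int.negSucc 1, Int.ofNat 0, Int.ofNat 0, Int.ofNat 0, Int.negSucc 1, Int.negSucc 1, Int.ofNat 0, Int.ofNat 0, Int.ofNat 0, Int.negSucc 1, Int.negSucc 1, Int.ofNat 0],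
  [Int.ofNat 1, Int.negSucc 0, Int.ofNat 1, Int.ofNat 1, Int.ofNat 1, Int.ofNat 1, Int.ofNat 1, Int.ofNat 1, Int.ofNat 1, Int.negSucc 0, Int.ofNat 1, Int.ofNat 1, Int.negSucc 0, Int.ofNat 3, Int.ofNat 1, Int.negSucc 0, Int.ofNat 1, Int.negSucc 0, Int.ofNat 1, Int.ofNat 1, Int.negSucc 0, Int.negSucc 0, Int.ofNat 1, Int.ofNat 1],
  [Int.ofNat 1, Int.ofNat 1, Int.ofNat 1, Int.ofNat 1, Int.ofNat 1, Int.ofNat 1, Int.negSucc 0, Int.ofNat 1, Int.ofNat 1, Int.negSucc 0, Int.ofNat 3, Int.ofNat 1, Int.negSucc 0, Int.ofNat 1, Int.negSucc 0, Int.ofNat 1, Int.ofNat 1, Int.negSucc 0, Int.negSucc 0, Int.ofNat 1, Int.ofNat 1, Int.negSucc 0, Int.ofNat 1, Int.ofNat 1],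
  [Int.ofNat 1, Int.ofNat 1, Int.ofNat 1, Int.ofNat 1, Int.negSucc 0, Int.ofNat 1, Int.negSucc 0, Int.ofNat 1, Int.ofNat 1, Int.negSucc 2, Int.ofNat 1, Int.ofNat 1, Int.negSucc 0, Int.negSucc 0, Int.negSucc 0, Int.negSucc 0, Int.negSucc 0, Int.negSucc 0, Int.negSucc 0, Int.ofNat 1, Int.negSucc 0, Int.negSucc 0, Int.negSucc 0, Int.ofNat 1],
  [Int.ofNat 1, Int.negSucc 0, Int.negSucc 0, Int.ofNat 1, Int.negSucc 0, Int.ofNat 1, Int.ofNat 1, Int.ofNat 1, Int.negSucc 0, Int.negSucc 0, Int.negSucc 0, Int.negSucc 0, Int.negSucc 2, Int.negSucc 0, Int.negSucc 0, Int.negSucc 0, Int.ofNat 1, Int.negSucc 0, Int.ofNat 1, Int.ofNat 1, Int.negSucc 0, Int.ofNat 1, Int.ofNat 1, Int.ofNat 1],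
  [Int.negSucc 0, Int.ofNat 1, Int.ofNat 1, Int.ofNat 1, Int.negSucc 0, Int.ofNat 1, Int.negSucc 0, Int.negSucc 0, Int.ofNat 1, Int.ofNat 1, Int.ofNat 1, Int.ofNat 1, Int.negSucc 0, Int.negSucc 0, Int.negSucc 0, Int.ofNat 1, Int.ofNat 1, Int.negSucc 0, Int.ofNat 3, Int.negSucc 0, Int.ofNat 1, Int.negSucc 0, Int.ofNat 1, Int.negSucc 0],
  [Int.negSucc 0, Int.ofNat 1, Int.negSucc 0, Int.ofNat 1, Int.negSucc 0, Int.negSucc 0, Int.ofNat 1, Int.negSucc 0, Int.ofNat 1, Int.negSucc 0, Int.negSucc 0, Int.ofNat 1, Int.negSucc 0, Int.negSucc 0, Int.negSucc 0, Int.negSucc 0, Int.ofNat 1, Int.negSucc 0, Int.negSucc 2, Int.negSucc 0, Int.ofNat 1, Int.negSucc 0, Int.negSucc 0, Int.negSucc 0],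
  [Int.negSucc 0, Int.ofNat 1, Int.ofNat 1, Int.ofNat 1, Int.negSucc 0, Int.ofNat 1, Int.negSucc 0, Int.ofNat 1, Int.negSucc 0, Int.ofNat 1, Int.negSucc 0, Int.negSucc 0, Int.negSucc 0, Int.negSucc 0, Int.negSucc 0, Int.negSucc 2, Int.negSucc 0, Int.negSucc 0, Int.negSucc 0, Int.negSucc 0, Int.negSucc 0, Int.ofNat 1, Int.negSucc 0, Int.negSucc 0],
  [Int.ofNat 1, Int.negSucc 0, Int.negSucc 0, Int.negSucc 0, Int.ofNat 1, Int.ofNat 1, Int.ofNat 1, Int.ofNat 1, Int.ofNat 1, Int.negSucc 0, Int.negSucc 0, Int.negSucc 0, Int.ofNat 1, Int.ofNat 1, Int.negSucc 0, Int.negSucc 2, Int.ofNat 1, Int.negSucc 0, Int.ofNat 1, Int.negSucc 0, Int.negSucc 0, Int.ofNat 1, Int.negSucc 0, Int.negSucc 0],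
  [Int.negSucc 0, Int.negSucc 0, Int.negSucc 0, Int.negSucc 2, Int.negSucc 0, Int.negSucc 0, Int.negSucc 0, Int.ofNat 1, Int.negSucc 0, Int.ofNat 1, Int.ofNat 1, Int.negSucc 0, Int.ofNat 1, Int.ofNat 1, Int.ofNat 1, Int.negSucc 0, Int.negSucc 0, Int.ofNat 1, Int.negSucc 0, Int.ofNat 1, Int.ofNat 1, Int.ofNat 1, Int.negSucc 0, Int.ofNat 1],
  [Int.ofNat 1, Int.negSucc 0, Int.ofNat 1, Int.negSucc 2, Int.negSucc 0, Int.negSucc 0, Int.negSucc 0, Int.negSucc 0, Int.negSucc 0, Int.negSucc 0, Int.negSucc 0, Int.ofNat 1, Int.ofNat 1, Int.ofNat 1, Int.ofNat 1, Int.negSucc 0, Int.negSucc 0, Int.ofNat 1, Int.ofNat 1, Int.ofNat 1, Int.ofNat 1, Int.negSucc 0, Int.negSucc 0, Int.ofNat 1],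
  [Int.negSucc 0, Int.ofNat 1, Int.negSucc 0, Int.ofNat 1, Int.negSucc 2, Int.negSucc 0, Int.negSucc 0, Int.negSucc 0, Int.negSucc 0, Int.negSucc 0, Int.negSucc 0, Int.negSucc 0, Int.ofNat 1, Int.ofNat 1, Int.ofNat 1, Int.ofNat 1, Int.negSucc 0, Int.negSucc 0, Int.ofNat 1, Int.ofNat 1, Int.ofNat 1, Int.ofNat 1, Int.negSucc 0, Int.ofNat 1],
  [Int.ofNat 1, Int.negSucc 0, Int.ofNat 1, Int.ofNat 1, Int.negSucc 0, Int.negSucc 0, Int.negSucc 0, Int.negSucc 0, Int.negSucc 0, Int.negSucc 0, Int.negSucc 0, Int.negSucc 0, Int.ofNat 1, Int.ofNat 3, Int.ofNat 1, Int.ofNat 1, Int.ofNat 1, Int.negSucc 0, Int.ofNat 1, Int.ofNat 1, Int.ofNat 1, Int.ofNat 1, Int.ofNat 1, Int.negSucc 0],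
  [Int.ofNat 1, Int.negSucc 0, Int.negSucc 0, Int.negSucc 0, Int.negSucc 0, Int.negSucc 0, Int.negSucc 0, Int.negSucc 0, Int.negSucc 0, Int.ofNat 1, Int.ofNat 3, Int.ofNat 1, Int.ofNat 1, Int.ofNat 1, Int.negSucc 0, Int.ofNat 1, Int.ofNat 1, Int.ofNat 1, Int.ofNat 1, Int.ofNat 1, Int.ofNat 1, Int.negSucc 0, Int.ofNat 1, Int.negSucc 0],
  [Int.negSucc 1, Int.ofNat 0, Int.ofNat 0, Int.ofNat 0, Int.negSucc 1, Int.ofNat 0, Int.ofNat 0, Int.ofNat 0, Int.negSucc 1, Int.negSucc 1, Int.ofNat 0, Int.ofNat 0, Int.ofNat 0, Int.ofNat 0, Int.ofNat 0, Int.negSucc 1, Int.ofNat 0, Int.ofNat 2, Int.ofNat 0, Int.ofNat 2, Int.negSucc 1, Int.ofNat 0, Int.ofNat 0, Int.ofNat 0],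
  [Int.negSucc 1, Int.ofNat 0, Int.negSucc 1, Int.ofNat 0, Int.ofNat 0, Int.ofNat 0, Int.ofNat 0, Int.ofNat 0, Int.ofNat 0, Int.ofNat 0, Int.negSucc 1, Int.ofNat 2, Int.negSucc 1, Int.ofNat 0, Int.ofNat 0, Int.negSucc 1, Int.negSucc 1, Int.ofNat 0, Int.ofNat 0, Int.ofNat 0, Int.ofNat 0, Int.ofNat 0, Int.ofNat 2, Int.ofNat 0],
  [Int.ofNat 0, Int.negSucc 1, Int.ofNat 0, Int.ofNat 0, Int.ofNat 0, Int.ofNat 0, Int.ofNat 0, Int.ofNat 0, Int.ofNat 0, Int.ofNat 2, Int.ofNat 0, Int.ofNat 2, Int.negSucc 1, Int.ofNat 0, Int.ofNat 0, Int.ofNat 0, Int.negSucc 1, Int.ofNat 0, Int.ofNat 0, Int.ofNat 0, Int.ofNat 2, Int.ofNat 0, Int.ofNat 2, Int.negSucc 1],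
  [Int.ofNat 0, Int.negSucc 1, Int.ofNat 0, Int.ofNat 0, Int.ofNat 0, Int.ofNat 0, Int.ofNat 0, Int.ofNat 0, Int.ofNat 0, Int.negSucc 1, Int.ofNat 0, Int.ofNat 2, Int.negSucc 1, Int.ofNat 0, Int.ofNat 0, Int.ofNat 0, Int.negSucc 1, Int.ofNat 0, Int.ofNat 0, Int.ofNat 0, Int.ofNat 2, Int.ofNat 0, Int.negSucc 1, Int.negSucc 1],
  [Int.ofNat 0, Int.ofNat 0, Int.ofNat 2, Int.ofNat 0, Int.ofNat 0, Int.ofNat 0, Int.ofNat 0, Int.negSucc 1, Int.ofNat 2, Int.negSucc 1, Int.ofNat 0, Int.ofNat 0, Int.ofNat 0, Int.ofNat 0, Int.ofNat 0, Int.negSucc 1, Int.ofNat 0, Int.ofNat 0, Int.negSucc 1, Int.negSucc 1, Int.ofNat 0, Int.ofNat 0, Int.ofNat 0, Int.negSucc 1],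
  [Int.ofNat 0, Int.ofNat 0, Int.negSucc 1, Int.ofNat 0, Int.ofNat 0, Int.ofNat 0, Int.ofNat 0, Int.negSucc 1, Int.ofNat 2, Int.ofNat 2, Int.ofNat 0, Int.ofNat 0, Int.ofNat 0, Int.ofNat 0, Int.ofNat 0, Int.ofNat 2, Int.ofNat 0, Int.ofNat 0, Int.ofNat 2, Int.negSucc 1, Int.ofNat 0, Int.ofNat 0, Int.ofNat 0, Int.negSucc 1],
  [Int.negSucc 1, Int.negSucc 1, Int.ofNat 0, Int.ofNat 0, Int.ofNat 0, Int.ofNat 0, Int.ofNat 2, Int.ofNat 0, Int.ofNat 0, Int.ofNat 0, Int.negSucc 1, Int.negSucc 1, Int.negSucc 1, Int.ofNat 0, Int.ofNat 0, Int.ofNat 0, Int.ofNat 0, Int.ofNat 0, Int.ofNat 0, Int.ofNat 0, Int.negSucc 1, Int.ofNat 2, Int.ofNat 0, Int.ofNat 0],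
  [Int.negSucc 1, Int.ofNat 0, Int.ofNat 2, Int.ofNat 0, Int.ofNat 0, Int.ofNat 2, Int.negSucc 1, Int.ofNat 0, Int.ofNat 0, Int.negSucc 1, Int.ofNat 0, Int.ofNat 0, Int.ofNat 0, Int.ofNat 0, Int.ofNat 0, Int.ofNat 0, Int.ofNat 0, Int.negSucc 1, Int.ofNat 0, Int.ofNat 0, Int.negSucc 1, Int.negSucc 1, Int.ofNat 0, Int.ofNat 0],
  [Int.ofNat 2, Int.ofNat 0, Int.negSucc 1, Int.ofNat 0, Int.ofNat 0, Int.ofNat 2, Int.ofNat 0, Int.ofNat 2, Int.ofNat 0, Int.ofNat 0, Int.ofNat 2, Int.ofNat 0, Int.ofNat 0, Int.ofNat 0, Int.ofNat 0, Int.ofNat 2, Int.ofNat 0, Int.negSucc 1, Int.ofNat 0, Int.ofNat 2, Int.ofNat 0, Int.ofNat 0, Int.ofNat 0, Int.ofNat 0],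
  [Int.ofNat 0, Int.ofNat 0, Int.ofNat 0, Int.ofNat 2, Int.ofNat 0, Int.negSucc 1, Int.ofNat 0, Int.ofNat 0, Int.ofNat 2, Int.ofNat 0, Int.ofNat 2, Int.ofNat 0, Int.ofNat 0, Int.ofNat 2, Int.ofNat 0, Int.ofNat 0, Int.ofNat 0, Int.ofNat 0, Int.ofNat 2, Int.ofNat 0, Int.negSucc 1, Int.ofNat 0, Int.ofNat 2, Int.ofNat 0],
  [Int.ofNat 0, Int.ofNat 0, Int.ofNat 0, Int.ofNat 2, Int.negSucc 1, Int.negSucc 1, Int.ofNat 0, Int.ofNat 0, Int.ofNat 0, Int.ofNat 0, Int.ofNat 2, Int.negSucc 1, Int.negSucc 1, Int.ofNat 0, Int.ofNat 0, Int.ofNat 0, Int.negSucc 1, Int.ofNat 0, Int.ofNat 0, Int.ofNat 0, Int.negSucc 1, Int.ofNat 0, Int.ofNat 0, Int.ofNat 0],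
  [Int.ofNat 0, Int.ofNat 0, Int.ofNat 2, Int.negSucc 1, Int.negSucc 1, Int.ofNat 0, Int.ofNat 0, Int.ofNat 0, Int.ofNat 0, Int.ofNat 2, Int.negSucc 1, Int.negSucc 1, Int.ofNat 0, Int.ofNat 0, Int.ofNat 0, Int.negSucc 1, Int.ofNat 0, Int.ofNat 0, Int.ofNat 0, Int.negSucc 1, Int.ofNat 0, Int.ofNat 0, Int.ofNat 0, Int.ofNat 0],
  [Int.ofNat 0, Int.ofNat 0, Int.negSucc 1, Int.negSucc 1, Int.negSucc 1, Int.ofNat 0, Int.ofNat 0, Int.ofNat 0, Int.ofNat 0, Int.negSucc 1, Int.ofNat 2, Int.ofNat 2, Int.ofNat 0, Int.ofNat 0, Int.ofNat 0, Int.negSucc 1, Int.ofNat 0, Int.ofNat 0, Int.ofNat 0, Int.negSucc 1, Int.ofNat 0, Int.ofNat 0, Int.ofNat 0, Int.ofNat 0],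
  [Int.ofNat 0, Int.negSucc 1, Int.ofNat 0, Int.negSucc 1, Int.ofNat 0, Int.ofNat 2, Int.negSucc 1, Int.ofNat 0, Int.negSucc 1, Int.ofNat 0, Int.ofNat 0, Int.ofNat 0, Int.ofNat 0, Int.ofNat 0, Int.negSucc 1, Int.negSucc 1, Int.ofNat 0, Int.ofNat 0, Int.ofNat 0, Int.ofNat 0, Int.ofNat 0, Int.ofNat 0, Int.ofNat 2, Int.ofNat 0],
  [Int.ofNat 0, Int.negSucc 1, Int.ofNat 0, Int.negSucc 1, Int.ofNat 0, Int.ofNat 2, Int.negSucc 1, Int.ofNat 0, Int.negSucc 1, Int.ofNat 0, Int.ofNat 0, Int.ofNat 0, Int.ofNat 0, Int.ofNat 0, Int.negSucc 1, Int.negSucc 1, Int.ofNat 0, Int.ofNat 0, Int.ofNat 0, Int.ofNat 0, Int.ofNat 0, Int.ofNat 0, Int.ofNat 2, Int.ofNat 0],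
  [Int.ofNat 2, Int.ofNat 0, Int.negSucc 1, Int.ofNat 0, Int.negSucc 1, Int.ofNat 0, Int.ofNat 2, Int.negSucc 1, Int.ofNat 0, Int.negSucc 1, Int.ofNat 0, Int.ofNat 0, Int.ofNat 0, Int.ofNat 0, Int.ofNat 0, Int.negSucc 1, Int.negSucc 1, Int.ofNat 0, Int.ofNat 0, Int.ofNat 0, Int.ofNat 0, Int.ofNat 0, Int.ofNat 0, Int.ofNat 0],
  [Int.negSucc 1, Int.ofNat 0, Int.ofNat 2, Int.ofNat 0, Int.ofNat 0, Int.ofNat 0, Int.ofNat 2, Int.negSucc 1, Int.ofNat 0, Int.ofNat 0, Int.ofNat 2, Int.ofNat 0, Int.ofNat 0, Int.ofNat 2, Int.ofNat 0, Int.ofNat 0, Int.ofNat 0, Int.ofNat 0, Int.ofNat 0, Int.ofNat 0, Int.ofNat 2, Int.ofNat 0, Int.ofNat 2, Int.ofNat 0],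
  [Int.ofNat 0, Int.ofNat 0, Int.ofNat 0, Int.ofNat 2, Int.negSucc 1, Int.ofNat 0, Int.ofNat 0, Int.ofNat 2, Int.ofNat 0, Int.ofNat 0, Int.ofNat 2, Int.ofNat 0, Int.ofNat 0, Int.ofNat 0, Int.ofNat 0, Int.ofNat 0, Int.ofNat 0, Int.ofNat 2, Int.ofNat 0, Int.ofNat 2, Int.negSucc 1, Int.ofNat 0, Int.ofNat 2, Int.ofNat 0],
  [Int.ofNat 0, Int.ofNat 0, Int.ofNat 0, Int.ofNat 0, Int.negSucc 1, Int.negSucc 1, Int.negSucc 1, Int.ofNat 0, Int.ofNat 0, Int.ofNat 0, Int.ofNat 2, Int.ofNat 0, Int.ofNat 0, Int.ofNat 0, Int.negSucc 1, Int.ofNat 0, Int.ofNat 0, Int.ofNat 0, Int.ofNat 0, Int.ofNat 0, Int.negSucc 1, Int.negSucc 1, Int.ofNat 2, Int.ofNat 0],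
  [Int.ofNat 0, Int.negSucc 1, Int.negSucc 1, Int.ofNat 0, Int.ofNat 0, Int.ofNat 0, Int.ofNat 0, Int.ofNat 2, Int.ofNat 0, Int.ofNat 0, Int.negSucc 1, Int.ofNat 0, Int.ofNat 0, Int.ofNat 0, Int.ofNat 2, Int.ofNat 0, Int.ofNat 0, Int.negSucc 1, Int.ofNat 0, Int.ofNat 0, Int.negSucc 1, Int.negSucc 1, Int.ofNat 0, Int.ofNat 0],
  [Int.negSucc 1, Int.ofNat 0, Int.ofNat 0, Int.ofNat 0, Int.ofNat 0, Int.ofNat 0, Int.ofNat 0, Int.ofNat 2, Int.ofNat 0, Int.ofNat 2, Int.ofNat 0, Int.ofNat 0, Int.ofNat 0, Int.ofNat 0, Int.ofNat 2, Int.ofNat 2, Int.ofNat 0, Int.negSucc 1, Int.ofNat 0, Int.ofNat 0, Int.ofNat 0, Int.negSucc 1, Int.ofNat 0, Int.negSucc 1],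
  [Int.negSucc 1, Int.ofNat 0, Int.ofNat 0, Int.ofNat 0, Int.ofNat 0, Int.ofNat 0, Int.ofNat 0, Int.ofNat 2, Int.ofNat 0, Int.negSucc 1, Int.ofNat 0, Int.ofNat 0, Int.ofNat 0, Int.ofNat 0, Int.ofNat 2, Int.negSucc 1, Int.ofNat 0, Int.negSucc 1, Int.ofNat 0, Int.ofNat 0, Int.ofNat 0, Int.negSucc 1, Int.ofNat 0, Int.negSucc 1],
  [Int.ofNat 0, Int.ofNat 0, Int.ofNat 0, Int.ofNat 0, Int.ofNat 2, Int.ofNat 0, Int.negSucc 1, Int.ofNat 0, Int.ofNat 0, Int.ofNat 0, Int.ofNat 0, Int.ofNat 2, Int.negSucc 1, Int.ofNat 0, Int.negSucc 1, Int.ofNat 0, Int.ofNat 0, Int.ofNat 0, Int.negSucc 1, Int.ofNat 0, Int.negSucc 1, Int.ofNat 0, Int.ofNat 0, Int.negSucc 1],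
  [Int.ofNat 0, Int.ofNat 0, Int.ofNat 0, Int.ofNat 0, Int.negSucc 1, Int.ofNat 0, Int.ofNat 2, Int.ofNat 0, Int.ofNat 0, Int.ofNat 0, Int.ofNat 0, Int.ofNat 2, Int.ofNat 2, Int.ofNat 0, Int.negSucc 1, Int.ofNat 0, Int.ofNat 0, Int.ofNat 0, Int.ofNat 2, Int.ofNat 0, Int.negSucc 1, Int.ofNat 0, Int.ofNat 0, Int.negSucc 1],
  [Int.negSucc 1, Int.ofNat 0, Int.ofNat 2, Int.ofNat 0, Int.ofNat 0, Int.ofNat 0, Int.ofNat 0, Int.ofNat 0, Int.negSucc 1, Int.ofNat 0, Int.ofNat 0, Int.ofNat 0, Int.ofNat 0, Int.ofNat 0, Int.ofNat 2, Int.ofNat 0, Int.ofNat 0, Int.negSucc 1, Int.negSucc 1, Int.ofNat 2, Int.ofNat 0, Int.ofNat 2, Int.ofNat 0, Int.ofNat 0],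
  [Int.ofNat 2, Int.ofNat 0, Int.negSucc 1, Int.ofNat 0, Int.ofNat 0, Int.ofNat 0, Int.ofNat 0, Int.ofNat 0, Int.negSucc 1, Int.ofNat 0, Int.ofNat 0, Int.ofNat 0, Int.ofNat 0, Int.ofNat 0, Int.ofNat 2, Int.ofNat 0, Int.ofNat 0, Int.negSucc 1, Int.ofNat 2, Int.ofNat 2, Int.ofNat 0, Int.negSucc 1, Int.ofNat 0, Int.ofNat 0],
  [Int.ofNat 0, Int.ofNat 2, Int.ofNat 0, Int.negSucc 1, Int.ofNat 0, Int.ofNat 0, Int.ofNat 0, Int.ofNat 0, Int.ofNat 0, Int.negSucc 1, Int.ofNat 0, Int.ofNat 0, Int.ofNat 0, Int.ofNat 0, Int.ofNat 0, Int.ofNat 2, Int.ofNat 0, Int.ofNat 0, Int.negSucc 1, Int.ofNat 2, Int.ofNat 2, Int.ofNat 0, Int.negSucc 1, Int.ofNat 0],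
  [Int.ofNat 1, Int.negSucc 0, Int.ofNat 1, Int.negSucc 0, Int.ofNat 1, Int.ofNat 1, Int.negSucc 0, Int.negSucc 0, Int.ofNat 1, Int.negSucc 2, Int.negSucc 0, Int.ofNat 1, Int.ofNat 1, Int.ofNat 1, Int.ofNat 1, Int.ofNat 1, Int.ofNat 1, Int.ofNat 1, Int.negSucc 0, Int.ofNat 1, Int.ofNat 1, Int.negSucc 0, Int.negSucc 0, Int.ofNat 1],
  [Int.negSucc 0, Int.ofNat 1, Int.ofNat 1, Int.negSucc 0, Int.negSucc 0, Int.ofNat 1, Int.negSucc 2, Int.negSucc 0, Int.ofNat 1, Int.ofNat 1, Int.ofNat 1, Int.ofNat 1, Int.ofNat 1, Int.ofNat 1, Int.ofNat 1, Int.negSucc 0, Int.ofNat 1, Int.ofNat 1, Int.negSucc 0, Int.negSucc 0, Int.ofNat 1, Int.negSucc 0, Int.ofNat 1, Int.ofNat 1],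
  [Int.ofNat 2, Int.ofNat 0, Int.ofNat 0, Int.negSucc 1, Int.negSucc 1, Int.ofNat 0, Int.ofNat 0, Int.ofNat 2, Int.ofNat 0, Int.ofNat 0, Int.ofNat 0, Int.ofNat 0, Int.ofNat 0, Int.ofNat 0, Int.ofNat 0, Int.negSucc 1, Int.ofNat 0, Int.ofNat 0, Int.negSucc 1, Int.ofNat 2, Int.ofNat 0, Int.ofNat 2, Int.ofNat 0, Int.ofNat 0],
  [Int.ofNat 2, Int.ofNat 0, Int.negSucc 1, Int.negSucc 1, Int.negSucc 1, Int.ofNat 2, Int.ofNat 0, Int.ofNat 0, Int.ofNat 0, Int.ofNat 0, Int.ofNat 0, Int.ofNat 0, Int.ofNat 0, Int.ofNat 0, Int.ofNat 0, Int.negSucc 1, Int.ofNat 0, Int.ofNat 0, Int.ofNat 0, Int.ofNat 0, Int.ofNat 2, Int.ofNat 0, Int.ofNat 2, Int.ofNat 0],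
  [Int.negSucc 1, Int.ofNat 0, Int.ofNat 2, Int.negSucc 1, Int.negSucc 1, Int.ofNat 2, Int.ofNat 0, Int.ofNat 0, Int.ofNat 0, Int.ofNat 0, Int.ofNat 0, Int.ofNat 0, Int.ofNat 0, Int.ofNat 0, Int.ofNat 0, Int.negSucc 1, Int.ofNat 0, Int.ofNat 0, Int.ofNat 0, Int.ofNat 0, Int.ofNat 2, Int.ofNat 0, Int.ofNat 2, Int.ofNat 0],
  [Int.negSucc 1, Int.ofNat 0, Int.negSucc 1, Int.negSucc 1, Int.negSucc 1, Int.negSucc 1, Int.ofNat 0, Int.ofNat 0, Int.ofNat 0, Int.ofNat 0, Int.ofNat 0, Int.ofNat 0, Int.ofNat 0, Int.ofNat 0, Int.ofNat 0, Int.ofNat 2, Int.ofNat 0, Int.ofNat 0, Int.ofNat 0, Int.ofNat 0, Int.ofNat 2, Int.ofNat 0, Int.negSucc 1, Int.ofNat 0],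
  [Int.ofNat 0, Int.ofNat 0, Int.ofNat 0, Int.negSucc 1, Int.negSucc 1, Int.ofNat 0, Int.ofNat 0, Int.ofNat 0, Int.ofNat 2, Int.ofNat 0, Int.ofNat 0, Int.negSucc 1, Int.ofNat 0, Int.ofNat 0, Int.ofNat 0, Int.ofNat 0, Int.negSucc 1, Int.negSucc 1, Int.ofNat 0, Int.negSucc 1, Int.ofNat 0, Int.ofNat 2, Int.ofNat 0, Int.ofNat 0],
  [Int.ofNat 0, Int.ofNat 0, Int.ofNat 0, Int.negSucc 1, Int.negSucc 1, Int.ofNat 0, Int.ofNat 0, Int.ofNat 0, Int.ofNat 2, Int.ofNat 0, Int.ofNat 0, Int.negSucc 1, Int.ofNat 0, Int.ofNat 0, Int.ofNat 0, Int.ofNat 0, Int.negSucc 1, Int.negSucc 1, Int.ofNat 0, Int.negSucc 1, Int.ofNat 0, Int.ofNat 2, Int.ofNat 0, Int.ofNat 0],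
  [Int.ofNat 0, Int.ofNat 0, Int.ofNat 0, Int.ofNat 0, Int.ofNat 0, Int.ofNat 2, Int.ofNat 0, Int.ofNat 0, Int.ofNat 2, Int.ofNat 0, Int.ofNat 0, Int.negSucc 1, Int.ofNat 0, Int.ofNat 2, Int.ofNat 2, Int.ofNat 0, Int.ofNat 0, Int.ofNat 0, Int.ofNat 0, Int.negSucc 1, Int.ofNat 0, Int.ofNat 2, Int.ofNat 2, Int.ofNat 0],
  [Int.ofNat 0, Int.ofNat 0, Int.ofNat 0, Int.ofNat 0, Int.ofNat 0, Int.ofNat 2, Int.ofNat 0, Int.ofNat 2, Int.ofNat 0, Int.ofNat 0, Int.ofNat 0, Int.negSucc 1, Int.ofNat 2, Int.ofNat 0, Int.ofNat 0, Int.ofNat 0, Int.ofNat 2, Int.negSucc 1, Int.ofNat 0, Int.ofNat 2, Int.ofNat 0, Int.ofNat 0, Int.ofNat 2, Int.ofNat 0],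
  [Int.ofNat 0, Int.ofNat 0, Int.ofNat 0, Int.ofNat 0, Int.negSucc 1, Int.ofNat 2, Int.negSucc 1, Int.ofNat 0, Int.ofNat 0, Int.ofNat 0, Int.ofNat 0, Int.negSucc 1, Int.ofNat 2, Int.negSucc 1, Int.ofNat 0, Int.ofNat 0, Int.ofNat 0, Int.negSucc 1, Int.ofNat 0, Int.ofNat 0, Int.ofNat 0, Int.negSucc 1, Int.ofNat 0, Int.ofNat 0],
  [Int.ofNat 0, Int.negSucc 1, Int.ofNat 0, Int.ofNat 0, Int.ofNat 0, Int.ofNat 0, Int.ofNat 0, Int.negSucc 1, Int.ofNat 2, Int.negSucc 1, Int.ofNat 0, Int.ofNat 0, Int.ofNat 0, Int.ofNat 0, Int.negSucc 1, Int.ofNat 2, Int.negSucc 1, Int.ofNat 0, Int.ofNat 0, Int.ofNat 0, Int.negSucc 1, Int.ofNat 0, Int.ofNat 0, Int.ofNat 0],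
  [Int.negSucc 0, Int.ofNat 1, Int.negSucc 0, Int.ofNat 1, Int.ofNat 1, Int.ofNat 1, Int.ofNat 1, Int.negSucc 0, Int.ofNat 1, Int.negSucc 0, Int.ofNat 1, Int.negSucc 0, Int.negSucc 0, Int.ofNat 1, Int.negSucc 0, Int.ofNat 3, Int.negSucc 0, Int.ofNat 1, Int.negSucc 0, Int.ofNat 1, Int.negSucc 0, Int.ofNat 1, Int.ofNat 1, Int.negSucc 0],
  [Int.ofNat 1, Int.negSucc 0, Int.ofNat 1, Int.ofNat 1, Int.ofNat 1, Int.ofNat 1, Int.negSucc 0, Int.ofNat 1, Int.negSucc 0, Int.ofNat 1, Int.negSucc 0, Int.negSucc 0, Int.ofNat 1, Int.negSucc 0, Int.ofNat 3, Int.negSucc 0, Int.ofNat 1, Int.negSucc 0, Int.ofNat 1, Int.negSucc 0, Int.ofNat 1, Int.ofNat 1, Int.negSucc 0, Int.negSucc 0],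
  [Int.negSucc 0, Int.negSucc 0, Int.negSucc 0, Int.ofNat 1, Int.ofNat 1, Int.ofNat 1, Int.negSucc 0, Int.negSucc 0, Int.negSucc 0, Int.negSucc 0, Int.ofNat 1, Int.ofNat 1, Int.ofNat 1, Int.negSucc 0, Int.ofNat 3, Int.negSucc 0, Int.ofNat 1, Int.negSucc 0, Int.negSucc 0, Int.negSucc 0, Int.ofNat 1, Int.negSucc 0, Int.negSucc 0, Int.negSucc 0],
  [Int.negSucc 0, Int.negSucc 0, Int.negSucc 0, Int.ofNat 1, Int.negSucc 0, Int.ofNat 1, Int.ofNat 1, Int.ofNat 1, Int.negSucc 0, Int.ofNat 1, Int.negSucc 0, Int.ofNat 3, Int.negSucc 0, Int.negSucc 0, Int.negSucc 0, Int.negSucc 0, Int.ofNat 1, Int.negSucc 0, Int.negSucc 0, Int.negSucc 0, Int.ofNat 1, Int.negSucc 0, Int.ofNat 1, Int.negSucc 0],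
  [Int.ofNat 1, Int.negSucc 0, Int.ofNat 1, Int.ofNat 1, Int.negSucc 0, Int.ofNat 1, Int.ofNat 1, Int.negSucc 0, Int.negSucc 0, Int.negSucc 0, Int.ofNat 1, Int.negSucc 2, Int.negSucc 0, Int.negSucc 0, Int.negSucc 0, Int.negSucc 0, Int.ofNat 1, Int.negSucc 0, Int.ofNat 1, Int.negSucc 0, Int.ofNat 1, Int.ofNat 1, Int.ofNat 1, Int.negSucc 0],
  [Int.ofNat 1, Int.ofNat 1, Int.negSucc 0, Int.ofNat 1, Int.ofNat 1, Int.negSucc 0, Int.ofNat 1, Int.ofNat 1, Int.negSucc 0, Int.negSucc 0, Int.negSucc 0, Int.ofNat 1, Int.negSucc 2, Int.negSucc 0, Int.negSucc 0, Int.negSucc 0, Int.negSucc 0, Int.ofNat 1, Int.negSucc 0, Int.ofNat 1, Int.negSucc 0, Int.ofNat 1, Int.ofNat 1, Int.negSucc 0],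
  [Int.negSucc 0, Int.negSucc 0, Int.ofNat 1, Int.ofNat 1, Int.ofNat 1, Int.negSucc 0, Int.negSucc 0, Int.negSucc 0, Int.ofNat 1, Int.ofNat 1, Int.ofNat 1, Int.ofNat 3, Int.negSucc 0, Int.negSucc 0, Int.negSucc 0, Int.ofNat 1, Int.negSucc 0, Int.ofNat 1, Int.ofNat 1, Int.negSucc 0, Int.ofNat 1, Int.negSucc 0, Int.ofNat 1, Int.ofNat 1],
  [Int.ofNat 1, Int.ofNat 1, Int.negSucc 0, Int.negSucc 0, Int.negSucc 0, Int.ofNat 1, Int.ofNat 1, Int.ofNat 1, Int.ofNat 3, Int.negSucc 0, Int.negSucc 0, Int.negSucc 0, Int.ofNat 1, Int.negSucc 0, Int.ofNat 1, Int.ofNat 1, Int.negSucc 0, Int.ofNat 1, Int.negSucc 0, Int.ofNat 1, Int.negSucc 0, Int.negSucc 0, Int.ofNat 1, Int.ofNat 1],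
  [Int.ofNat 0, Int.ofNat 0, Int.ofNat 2, Int.negSucc 1, Int.ofNat 0, Int.ofNat 0, Int.ofNat 0, Int.ofNat 0, Int.ofNat 2, Int.ofNat 0, Int.ofNat 0, Int.negSucc 1, Int.ofNat 0, Int.ofNat 0, Int.ofNat 0, Int.ofNat 2, Int.ofNat 0, Int.ofNat 0, Int.negSucc 1, Int.ofNat 0, Int.ofNat 0, Int.negSucc 1, Int.ofNat 2, Int.ofNat 0],
  [Int.ofNat 0, Int.ofNat 0, Int.ofNat 0, Int.negSucc 1, Int.negSucc 1, Int.ofNat 0, Int.ofNat 2, Int.ofNat 0, Int.ofNat 0, Int.ofNat 0, Int.ofNat 0, Int.ofNat 0, Int.ofNat 0, Int.ofNat 0, Int.ofNat 2, Int.ofNat 2, Int.ofNat 2, Int.ofNat 0, Int.ofNat 0, Int.negSucc 1, Int.negSucc 1, Int.ofNat 0, Int.ofNat 0, Int.ofNat 0],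
  [Int.ofNat 0, Int.ofNat 0, Int.ofNat 0, Int.negSucc 1, Int.negSucc 1, Int.ofNat 0, Int.ofNat 2, Int.ofNat 0, Int.ofNat 0, Int.ofNat 0, Int.ofNat 0, Int.ofNat 0, Int.ofNat 0, Int.ofNat 0, Int.ofNat 2, Int.ofNat 2, Int.ofNat 2, Int.ofNat 0, Int.ofNat 0, Int.negSucc 1, Int.negSucc 1, Int.ofNat 0, Int.ofNat 0, Int.ofNat 0],
  [Int.ofNat 0, Int.ofNat 0, Int.ofNat 0, Int.negSucc 1, Int.negSucc 1, Int.ofNat 0, Int.negSucc 1, Int.ofNat 0, Int.ofNat 0, Int.ofNat 0, Int.ofNat 0, Int.ofNat 0, Int.ofNat 0, Int.ofNat 0, Int.ofNat 2, Int.negSucc 1, Int.ofNat 2, Int.ofNat 0, Int.ofNat 0, Int.negSucc 1, Int.negSucc 1, Int.ofNat 0, Int.ofNat 0, Int.ofNat 0],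
  [Int.ofNat 0, Int.ofNat 2, Int.ofNat 0, Int.ofNat 0, Int.ofNat 2, Int.negSucc 1, Int.ofNat 0, Int.negSucc 1, Int.ofNat 0, Int.negSucc 1, Int.ofNat 0, Int.ofNat 0, Int.negSucc 1, Int.negSucc 1, Int.ofNat 0, Int.ofNat 0, Int.negSucc 1, Int.ofNat 0, Int.ofNat 0, Int.ofNat 0, Int.ofNat 0, Int.ofNat 0, Int.ofNat 0, Int.ofNat 0],
  [Int.ofNat 0, Int.negSucc 1, Int.ofNat 0, Int.ofNat 0, Int.negSucc 1, Int.negSucc 1, Int.ofNat 0, Int.negSucc 1, Int.ofNat 0, Int.ofNat 2, Int.ofNat 0, Int.ofNat 0, Int.ofNat 2, Int.ofNat 2, Int.ofNat 0, Int.ofNat 0, Int.ofNat 2, Int.ofNat 0, Int.ofNat 0, Int.ofNat 0, Int.ofNat 0, Int.ofNat 0, Int.ofNat 0, Int.ofNat 0],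
  [Int.ofNat 0, Int.ofNat 0, Int.ofNat 0, Int.ofNat 0, Int.ofNat 0, Int.ofNat 2, Int.ofNat 0, Int.ofNat 2, Int.ofNat 0, Int.negSucc 1, Int.ofNat 2, Int.ofNat 0, Int.ofNat 0, Int.negSucc 1, Int.ofNat 0, Int.ofNat 0, Int.ofNat 0, Int.negSucc 1, Int.ofNat 0, Int.ofNat 0, Int.ofNat 0, Int.ofNat 2, Int.negSucc 1, Int.ofNat 0],
  [Int.ofNat 0, Int.ofNat 0, Int.ofNat 0, Int.ofNat 0, Int.ofNat 0, Int.ofNat 2, Int.ofNat 0, Int.negSucc 1, Int.ofNat 0, Int.ofNat 2, Int.negSucc 1, Int.ofNat 0, Int.ofNat 0, Int.negSucc 1, Int.ofNat 0, Int.ofNat 0, Int.ofNat 0, Int.negSucc 1, Int.ofNat 0, Int.ofNat 0, Int.ofNat 0, Int.negSucc 1, Int.negSucc 1, Int.ofNat 0],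
  [Int.negSucc 1, Int.ofNat 0, Int.ofNat 0, Int.ofNat 0, Int.ofNat 0, Int.ofNat 0, Int.ofNat 2, Int.ofNat 0, Int.negSucc 1, Int.ofNat 0, Int.ofNat 2, Int.negSucc 1, Int.ofNat 0, Int.ofNat 0, Int.negSucc 1, Int.ofNat 0, Int.ofNat 0, Int.ofNat 0, Int.negSucc 1, Int.ofNat 0, Int.ofNat 0, Int.ofNat 0, Int.negSucc 1, Int.ofNat 0],
  [Int.ofNat 1, Int.negSucc 0, Int.negSucc 0, Int.ofNat 1, Int.ofNat 1, Int.ofNat 1, Int.ofNat 1, Int.negSucc 0, Int.ofNat 1, Int.negSucc 0, Int.ofNat 1, Int.ofNat 1, Int.ofNat 3, Int.ofNat 1, Int.negSucc 0, Int.negSucc 0, Int.ofNat 1, Int.ofNat 1, Int.ofNat 1, Int.negSucc 0, Int.negSucc 0, Int.negSucc 0, Int.negSucc 0, Int.negSucc 0],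
  [Int.ofNat 1, Int.ofNat 1, Int.ofNat 1, Int.ofNat 1, Int.negSucc 0, Int.ofNat 1, Int.negSucc 0, Int.ofNat 1, Int.ofNat 1, Int.ofNat 3, Int.ofNat 1, Int.negSucc 0, Int.negSucc 0, Int.ofNat 1, Int.ofNat 1, Int.ofNat 1, Int.negSucc 0, Int.negSucc 0, Int.negSucc 0, Int.negSucc 0, Int.ofNat 1, Int.negSucc 0, Int.negSucc 0, Int.negSucc 0],
  [Int.ofNat 0, Int.ofNat 0, Int.ofNat 0, Int.ofNat 0, Int.ofNat 0, Int.ofNat 0, Int.ofNat 0, Int.ofNat 2, Int.ofNat 2, Int.ofNat 0, Int.negSucc 1, Int.ofNat 0, Int.ofNat 0, Int.ofNat 2, Int.ofNat 0, Int.negSucc 1, Int.ofNat 0, Int.negSucc 1, Int.ofNat 0, Int.ofNat 0, Int.negSucc 1, Int.ofNat 0, Int.ofNat 0, Int.ofNat 2],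
  [Int.ofNat 0, Int.ofNat 0, Int.ofNat 0, Int.ofNat 0, Int.ofNat 0, Int.ofNat 2, Int.ofNat 0, Int.negSucc 1, Int.ofNat 0, Int.ofNat 2, Int.negSucc 1, Int.negSucc 1, Int.ofNat 0, Int.ofNat 0, Int.ofNat 0, Int.negSucc 1, Int.ofNat 2, Int.ofNat 0, Int.ofNat 0, Int.ofNat 0, Int.ofNat 0, Int.ofNat 0, Int.ofNat 0, Int.ofNat 2],
  [Int.ofNat 1, Int.ofNat 1, Int.ofNat 1, Int.negSucc 0, Int.negSucc 0, Int.ofNat 1, Int.ofNat 1, Int.negSucc 0, Int.ofNat 1, Int.ofNat 3, Int.negSucc 0, Int.negSucc 0, Int.ofNat 1, Int.negSucc 0, Int.negSucc 0, Int.negSucc 0, Int.ofNat 1, Int.negSucc 0, Int.ofNat 1, Int.ofNat 1, Int.ofNat 1, Int.ofNat 1, Int.negSucc 0, Int.negSucc 0],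
  [Int.ofNat 1, Int.ofNat 1, Int.negSucc 0, Int.negSucc 0, Int.negSucc 0, Int.negSucc 0, Int.negSucc 0, Int.negSucc 0, Int.ofNat 1, Int.negSucc 2, Int.ofNat 1, Int.negSucc 0, Int.ofNat 1, Int.negSucc 0, Int.negSucc 0, Int.ofNat 1, Int.ofNat 1, Int.negSucc 0, Int.negSucc 0, Int.ofNat 1, Int.ofNat 1, Int.ofNat 1, Int.ofNat 1, Int.negSucc 0],
  [Int.ofNat 1, Int.negSucc 0, Int.negSucc 0, Int.negSucc 0, Int.negSucc 0, Int.negSucc 0, Int.negSucc 0, Int.ofNat 1, Int.ofNat 1, Int.ofNat 1, Int.ofNat 1, Int.negSucc 0, Int.ofNat 1, Int.ofNat 1, Int.negSucc 0, Int.negSucc 2, Int.negSucc 0, Int.ofNat 1, Int.ofNat 1, Int.ofNat 1, Int.negSucc 0, Int.ofNat 1, Int.negSucc 0, Int.negSucc 0],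
  [Int.ofNat 1, Int.negSucc 0, Int.ofNat 1, Int.negSucc 0, Int.negSucc 0, Int.ofNat 1, Int.ofNat 1, Int.ofNat 1, Int.ofNat 1, Int.negSucc 0, Int.negSucc 0, Int.negSucc 0, Int.ofNat 1, Int.ofNat 1, Int.negSucc 0, Int.ofNat 3, Int.negSucc 0, Int.ofNat 1, Int.negSucc 0, Int.ofNat 1, Int.negSucc 0, Int.ofNat 1, Int.ofNat 1, Int.negSucc 0],
  [Int.negSucc 0, Int.ofNat 1, Int.negSucc 0, Int.negSucc 0, Int.negSucc 0, Int.ofNat 1, Int.negSucc 0, Int.negSucc 0, Int.ofNat 1, Int.negSucc 0, Int.negSucc 0, Int.negSucc 0, Int.ofNat 1, Int.ofNat 1, Int.negSucc 0, Int.ofNat 3, Int.negSucc 0, Int.ofNat 1, Int.negSucc 0, Int.negSucc 0, Int.negSucc 0, Int.negSucc 0, Int.ofNat 1, Int.ofNat 1],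
  [Int.negSucc 0, Int.negSucc 0, Int.negSucc 0, Int.negSucc 0, Int.negSucc 0, Int.negSucc 0, Int.ofNat 1, Int.ofNat 1, Int.negSucc 0, Int.ofNat 1, Int.negSucc 0, Int.negSucc 0, Int.ofNat 1, Int.negSucc 0, Int.ofNat 1, Int.ofNat 3, Int.ofNat 1, Int.negSucc 0, Int.negSucc 0, Int.ofNat 1, Int.negSucc 0, Int.negSucc 0, Int.negSucc 0, Int.ofNat 1],
  [Int.ofNat 0, Int.ofNat 0, Int.ofNat 0, Int.ofNat 0, Int.ofNat 0, Int.ofNat 0, Int.ofNat 0, Int.ofNat 0, Int.ofNat 0, Int.ofNat 0, Int.negSucc 1, Int.ofNat 0, Int.ofNat 2, Int.ofNat 0, Int.ofNat 2, Int.ofNat 2, Int.ofNat 2, Int.ofNat 0, Int.ofNat 0, Int.ofNat 0, Int.negSucc 1, Int.negSucc 1, Int.ofNat 0, Int.negSucc 1],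
  [Int.negSucc 1, Int.negSucc 1, Int.ofNat 0, Int.ofNat 0, Int.ofNat 0, Int.ofNat 0, Int.ofNat 0, Int.ofNat 0, Int.ofNat 0, Int.ofNat 0, Int.ofNat 0, Int.ofNat 0, Int.ofNat 0, Int.negSucc 1, Int.ofNat 0, Int.ofNat 2, Int.ofNat 0, Int.ofNat 2, Int.ofNat 2, Int.ofNat 2, Int.ofNat 0, Int.ofNat 0, Int.ofNat 0, Int.negSucc 1],
  [Int.negSucc 0, Int.negSucc 0, Int.negSucc 2, Int.negSucc 0, Int.ofNat 1, Int.negSucc 0, Int.negSucc 0, Int.negSucc 0, Int.negSucc 0, Int.negSucc 0, Int.negSucc 0, Int.negSucc 0, Int.negSucc 0, Int.negSucc 0, Int.negSucc 0, Int.ofNat 1, Int.ofNat 1, Int.ofNat 1, Int.ofNat 1, Int.ofNat 1, Int.negSucc 0, Int.negSucc 0, Int.ofNat 1, Int.negSucc 0],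
  [Int.negSucc 0, Int.negSucc 2, Int.negSucc 0, Int.ofNat 1, Int.negSucc 0, Int.negSucc 0, Int.negSucc 0, Int.negSucc 0, Int.negSucc 0, Int.negSucc 0, Int.negSucc 0, Int.negSucc 0, Int.negSucc 0, Int.negSucc 0, Int.ofNat 1, Int.ofNat 1, Int.ofNat 1, Int.ofNat 1, Int.ofNat 1, Int.negSucc 0, Int.negSucc 0, Int.ofNat 1, Int.negSucc 0, Int.negSucc 0],
  [Int.ofNat 1, Int.negSucc 2, Int.ofNat 1, Int.ofNat 1, Int.negSucc 0, Int.negSucc 0, Int.negSucc 0, Int.ofNat 1, Int.negSucc 0, Int.ofNat 1, Int.ofNat 1, Int.ofNat 1, Int.negSucc 0, Int.negSucc 0, Int.ofNat 1, Int.ofNat 1, Int.ofNat 1, Int.ofNat 1, Int.negSucc 0, Int.negSucc 0, Int.negSucc 0, Int.negSucc 0, Int.negSucc 0, Int.negSucc 0],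
  [Int.ofNat 1, Int.ofNat 1, Int.negSucc 0, Int.ofNat 1, Int.negSucc 2, Int.ofNat 1, Int.negSucc 0, Int.negSucc 0, Int.ofNat 1, Int.ofNat 1, Int.negSucc 0, Int.ofNat 1, Int.negSucc 0, Int.negSucc 0, Int.negSucc 0, Int.ofNat 1, Int.negSucc 0, Int.negSucc 0, Int.negSucc 0, Int.ofNat 1, Int.negSucc 0, Int.ofNat 1, Int.ofNat 1, Int.negSucc 0],
  [Int.negSucc 0, Int.ofNat 1, Int.ofNat 1, Int.ofNat 1, Int.negSucc 2, Int.ofNat 1, Int.negSucc 0, Int.ofNat 1, Int.ofNat 1, Int.negSucc 0, Int.ofNat 1, Int.negSucc 0, Int.negSucc 0, Int.negSucc 0, Int.negSucc 0, Int.ofNat 1, Int.negSucc 0, Int.negSucc 0, Int.ofNat 1, Int.ofNat 1, Int.negSucc 0, Int.negSucc 0, Int.ofNat 1, Int.negSucc 0],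
  [Int.ofNat 1, Int.negSucc 0, Int.ofNat 1, Int.ofNat 1, Int.ofNat 1, Int.negSucc 2, Int.ofNat 1, Int.negSucc 0, Int.ofNat 1, Int.ofNat 1, Int.negSucc 0, Int.ofNat 1, Int.negSucc 0, Int.negSucc 0, Int.negSucc 0, Int.negSucc 0, Int.ofNat 1, Int.negSucc 0, Int.negSucc 0, Int.ofNat 1, Int.ofNat 1, Int.negSucc 0, Int.negSucc 0, Int.negSucc 0],
  [Int.negSucc 0, Int.ofNat 1, Int.negSucc 0, Int.ofNat 3, Int.ofNat 1, Int.negSucc 0, Int.ofNat 1, Int.negSucc 0, Int.ofNat 1, Int.ofNat 1, Int.negSucc 0, Int.ofNat 1, Int.negSucc 0, Int.negSucc 0, Int.ofNat 1, Int.negSucc 0, Int.ofNat 1, Int.ofNat 1, Int.negSucc 0, Int.ofNat 1, Int.ofNat 1, Int.negSucc 0, Int.negSucc 0, Int.ofNat 1],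
  [Int.ofNat 3, Int.ofNat 1, Int.negSucc 0, Int.ofNat 1, Int.negSucc 0, Int.ofNat 1, Int.ofNat 1, Int.negSucc 0, Int.ofNat 1, Int.negSucc 0, Int.negSucc 0, Int.ofNat 1, Int.negSucc 0, Int.ofNat 1, Int.ofNat 1, Int.negSucc 0, Int.ofNat 1, Int.ofNat 1, Int.negSucc 0, Int.negSucc 0, Int.negSucc 0, Int.ofNat 1, Int.negSucc 0, Int.ofNat 1],
  [Int.negSucc 0, Int.ofNat 1, Int.ofNat 3, Int.negSucc 0, Int.negSucc 0, Int.negSucc 0, Int.ofNat 1, Int.negSucc 0, Int.ofNat 1, Int.ofNat 1, Int.ofNat 1, Int.ofNat 1, Int.negSucc 0, Int.ofNat 1, Int.negSucc 0, Int.ofNat 1, Int.ofNat 1, Int.negSucc 0, Int.negSucc 0, Int.negSucc 0, Int.ofNat 1, Int.ofNat 1, Int.negSucc 0, Int.ofNat 1],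
  [Int.negSucc 0, Int.ofNat 1, Int.negSucc 0, Int.negSucc 0, Int.negSucc 0, Int.negSucc 0, Int.ofNat 3, Int.ofNat 1, Int.negSucc 0, Int.ofNat 1, Int.ofNat 1, Int.negSucc 0, Int.ofNat 1, Int.ofNat 1, Int.negSucc 0, Int.ofNat 1, Int.ofNat 1, Int.negSucc 0, Int.ofNat 1, Int.ofNat 1, Int.ofNat 1, Int.negSucc 0, Int.negSucc 0, Int.ofNat 1],
  [Int.ofNat 1, Int.negSucc 0, Int.ofNat 1, Int.ofNat 1, Int.negSucc 0, Int.ofNat 1, Int.ofNat 1, Int.negSucc 0, Int.negSucc 0, Int.negSucc 0, Int.negSucc 0, Int.negSucc 0, Int.ofNat 1, Int.ofNat 1, Int.ofNat 1, Int.negSucc 0, Int.ofNat 1, Int.ofNat 1, Int.ofNat 1, Int.negSucc 0, Int.negSucc 0, Int.negSucc 2, Int.negSucc 0, Int.negSucc 0],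
  [Int.ofNat 1, Int.negSucc 0, Int.negSucc 0, Int.ofNat 1, Int.negSucc 0, Int.negSucc 0, Int.negSucc 0, Int.negSucc 0, Int.negSucc 0, Int.ofNat 1, Int.ofNat 1, Int.negSucc 0, Int.ofNat 1, Int.ofNat 1, Int.ofNat 1, Int.ofNat 1, Int.ofNat 1, Int.ofNat 1, Int.negSucc 0, Int.negSucc 0, Int.negSucc 0, Int.negSucc 2, Int.ofNat 1, Int.negSucc 0],
  [Int.ofNat 1, Int.ofNat 1, Int.negSucc 0, Int.negSucc 0, Int.ofNat 1, Int.negSucc 0, Int.negSucc 2, Int.ofNat 1, Int.negSucc 0, Int.negSucc 0, Int.ofNat 1, Int.negSucc 0, Int.ofNat 1, Int.negSucc 0, Int.ofNat 1, Int.negSucc 0, Int.negSucc 0, Int.ofNat 1, Int.ofNat 1, Int.negSucc 0, Int.ofNat 1, Int.negSucc 0, Int.ofNat 1, Int.negSucc 0],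
  [Int.negSucc 0, Int.negSucc 0, Int.ofNat 1, Int.ofNat 1, Int.negSucc 0, Int.negSucc 0, Int.ofNat 3, Int.ofNat 1, Int.ofNat 1, Int.ofNat 1, Int.ofNat 1, Int.negSucc 0, Int.negSucc 0, Int.ofNat 1, Int.ofNat 1, Int.negSucc 0, Int.ofNat 1, Int.ofNat 1, Int.negSucc 0, Int.negSucc 0, Int.ofNat 1, Int.negSucc 0, Int.ofNat 1, Int.negSucc 0],
  [Int.negSucc 0, Int.ofNat 1, Int.negSucc 0, Int.negSucc 0, Int.ofNat 1, Int.ofNat 1, Int.negSucc 0, Int.ofNat 1, Int.ofNat 1, Int.negSucc 0, Int.ofNat 1, Int.ofNat 1, Int.negSucc 0, Int.ofNat 1, Int.negSucc 0, Int.ofNat 1, Int.ofNat 1, Int.negSucc 0, Int.ofNat 1, Int.ofNat 3, Int.ofNat 1, Int.negSucc 0, Int.negSucc 0, Int.negSucc 0],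
  [Int.ofNat 1, Int.ofNat 1, Int.ofNat 1, Int.negSucc 0, Int.ofNat 1, Int.ofNat 1, Int.negSucc 0, Int.negSucc 0, Int.ofNat 1, Int.ofNat 1, Int.negSucc 0, Int.negSucc 0, Int.negSucc 0, Int.ofNat 1, Int.negSucc 0, Int.ofNat 1, Int.ofNat 1, Int.negSucc 0, Int.negSucc 0, Int.ofNat 3, Int.ofNat 1, Int.ofNat 1, Int.negSucc 0, Int.negSucc 0],
  [Int.negSucc 0, Int.ofNat 1, Int.ofNat 1, Int.ofNat 1, Int.negSucc 0, Int.ofNat 1, Int.ofNat 1, Int.negSucc 0, Int.negSucc 0, Int.ofNat 1, Int.ofNat 1, Int.negSucc 0, Int.negSucc 0, Int.negSucc 0, Int.ofNat 1, Int.negSucc 0, Int.ofNat 1, Int.ofNat 1, Int.negSucc 0, Int.negSucc 0, Int.ofNat 3, Int.ofNat 1, Int.ofNat 1, Int.negSucc 0],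
  [Int.ofNat 1, Int.negSucc 0, Int.negSucc 0, Int.negSucc 0, Int.negSucc 0, Int.negSucc 0, Int.ofNat 1, Int.negSucc 0, Int.ofNat 1, Int.negSucc 0, Int.negSucc 0, Int.ofNat 1, Int.ofNat 1, Int.negSucc 0, Int.negSucc 0, Int.negSucc 2, Int.ofNat 1, Int.negSucc 0, Int.ofNat 1, Int.negSucc 0, Int.ofNat 1, Int.ofNat 1, Int.ofNat 1, Int.ofNat 1],
  [Int.negSucc 0, Int.negSucc 0, Int.negSucc 0, Int.ofNat 1, Int.negSucc 0, Int.ofNat 1, Int.negSucc 0, Int.negSucc 0, Int.ofNat 1, Int.ofNat 1, Int.negSucc 0, Int.negSucc 0, Int.negSucc 2, Int.ofNat 1, Int.negSucc 0, Int.ofNat 1, Int.negSucc 0, Int.ofNat 1, Int.ofNat 1, Int.ofNat 1, Int.ofNat 1, Int.negSucc 0, Int.negSucc 0, Int.ofNat 1],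
  [Int.ofNat 0, Int.ofNat 0, Int.ofNat 0, Int.ofNat 0, Int.ofNat 0, Int.ofNat 0, Int.ofNat 0, Int.ofNat 0, Int.ofNat 2, Int.ofNat 0, Int.negSucc 1, Int.ofNat 0, Int.negSucc 1, Int.ofNat 2, Int.negSucc 1, Int.ofNat 0, Int.ofNat 0, Int.ofNat 0, Int.ofNat 2, Int.ofNat 2, Int.ofNat 0, Int.ofNat 0, Int.ofNat 0, Int.negSucc 1],
  [Int.ofNat 0, Int.ofNat 0, Int.ofNat 0, Int.ofNat 0, Int.ofNat 2, Int.ofNat 0, Int.ofNat 0, Int.negSucc 1, Int.negSucc 1, Int.ofNat 2, Int.ofNat 0, Int.ofNat 0, Int.ofNat 0, Int.ofNat 0, Int.ofNat 0, Int.ofNat 0, Int.ofNat 2, Int.negSucc 1, Int.ofNat 0, Int.ofNat 0, Int.ofNat 0, Int.ofNat 0, Int.ofNat 2, Int.negSucc 1],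
  [Int.negSucc 0, Int.negSucc 0, Int.negSucc 0, Int.ofNat 1, Int.negSucc 0, Int.ofNat 1, Int.ofNat 1, Int.negSucc 0, Int.negSucc 0, Int.ofNat 1, Int.negSucc 0, Int.ofNat 1, Int.ofNat 1, Int.negSucc 2, Int.ofNat 1, Int.negSucc 0, Int.negSucc 0, Int.negSucc 0, Int.ofNat 1, Int.ofNat 1, Int.negSucc 0, Int.ofNat 1, Int.negSucc 0, Int.ofNat 1],
  [Int.negSucc 0, Int.negSucc 0, Int.ofNat 1, Int.ofNat 1, Int.negSucc 0, Int.negSucc 0, Int.negSucc 0, Int.negSucc 0, Int.negSucc 0, Int.negSucc 0, Int.ofNat 1, Int.ofNat 1, Int.ofNat 1, Int.negSucc 2, Int.ofNat 1, Int.ofNat 1, Int.negSucc 0, Int.negSucc 0, Int.negSucc 0, Int.ofNat 1, Int.negSucc 0, Int.ofNat 1, Int.ofNat 1, Int.ofNat 1],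
  [Int.negSucc 0, Int.ofNat 1, Int.ofNat 1, Int.negSucc 0, Int.ofNat 1, Int.negSucc 0, Int.negSucc 0, Int.ofNat 1, Int.negSucc 0, Int.negSucc 0, Int.ofNat 1, Int.negSucc 0, Int.ofNat 1, Int.ofNat 1, Int.negSucc 2, Int.negSucc 0, Int.ofNat 1, Int.negSucc 0, Int.negSucc 0, Int.ofNat 1, Int.negSucc 0, Int.ofNat 1, Int.negSucc 0, Int.ofNat 1],
  [Int.negSucc 0, Int.ofNat 1, Int.negSucc 0, Int.negSucc 0, Int.ofNat 1, Int.ofNat 1, Int.ofNat 1, Int.ofNat 1, Int.negSucc 0, Int.ofNat 1, Int.negSucc 0, Int.negSucc 0, Int.ofNat 1, Int.ofNat 1, Int.negSucc 2, Int.ofNat 1, Int.ofNat 1, Int.negSucc 0, Int.ofNat 1, Int.ofNat 1, Int.negSucc 0, Int.ofNat 1, Int.ofNat 1, Int.ofNat 1],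
  [Int.ofNat 1, Int.negSucc 0, Int.ofNat 1, Int.ofNat 1, Int.negSucc 0, Int.ofNat 3, Int.negSucc 0, Int.negSucc 0, Int.negSucc 0, Int.ofNat 1, Int.negSucc 0, Int.negSucc 0, Int.ofNat 1, Int.negSucc 0, Int.negSucc 0, Int.ofNat 1, Int.negSucc 0, Int.ofNat 1, Int.ofNat 1, Int.negSucc 0, Int.negSucc 0, Int.negSucc 0, Int.negSucc 0, Int.negSucc 0],
  [Int.ofNat 1, Int.ofNat 1, Int.negSucc 0, Int.ofNat 1, Int.ofNat 1, Int.negSucc 0, Int.negSucc 0, Int.ofNat 3, Int.negSucc 0, Int.ofNat 1, Int.negSucc 0, Int.negSucc 0, Int.negSucc 0, Int.ofNat 1, Int.ofNat 1, Int.ofNat 1, Int.negSucc 0, Int.negSucc 0, Int.negSucc 0, Int.negSucc 0, Int.negSucc 0, Int.negSucc 0, Int.negSucc 0, Int.negSucc 0],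
  [Int.negSucc 0, Int.negSucc 0, Int.ofNat 1, Int.ofNat 1, Int.ofNat 1, Int.negSucc 0, Int.negSucc 0, Int.ofNat 3, Int.ofNat 1, Int.ofNat 1, Int.negSucc 0, Int.ofNat 1, Int.ofNat 1, Int.ofNat 1, Int.ofNat 1, Int.ofNat 1, Int.negSucc 0, Int.negSucc 0, Int.ofNat 1, Int.negSucc 0, Int.negSucc 0, Int.negSucc 0, Int.negSucc 0, Int.ofNat 1],
  [Int.negSucc 0, Int.negSucc 0, Int.negSucc 0, Int.negSucc 0, Int.negSucc 0, Int.ofNat 1, Int.ofNat 1, Int.ofNat 1, Int.negSucc 0, Int.negSucc 0, Int.ofNat 3, Int.ofNat 1, Int.ofNat 1, Int.negSucc 0, Int.ofNat 1, Int.ofNat 1, Int.ofNat 1, Int.ofNat 1, Int.ofNat 1, Int.negSucc 0, Int.negSucc 0, Int.ofNat 1, Int.negSucc 0, Int.ofNat 1],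
  [Int.ofNat 0, Int.ofNat 0, Int.ofNat 0, Int.negSucc 1, Int.ofNat 0, Int.ofNat 0, Int.ofNat 0, Int.ofNat 0, Int.negSucc 1, Int.negSucc 1, Int.ofNat 2, Int.ofNat 0, Int.ofNat 0, Int.ofNat 0, Int.ofNat 0, Int.ofNat 0, Int.ofNat 2, Int.ofNat 0, Int.ofNat 0, Int.negSucc 1, Int.negSucc 1, Int.ofNat 0, Int.ofNat 0, Int.negSucc 1],
  [Int.ofNat 0, Int.ofNat 0, Int.negSucc 1, Int.ofNat 0, Int.ofNat 0, Int.ofNat 0, Int.ofNat 0, Int.negSucc 1, Int.negSucc 1, Int.ofNat 2, Int.ofNat 0, Int.ofNat 0, Int.ofNat 0, Int.ofNat 0, Int.ofNat 0, Int.ofNat 2, Int.ofNat 0, Int.ofNat 0, Int.negSucc 1, Int.negSucc 1, Int.ofNat 0, Int.ofNat 0, Int.ofNat 0, Int.negSucc 1],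
  [Int.ofNat 0, Int.ofNat 0, Int.ofNat 2, Int.ofNat 0, Int.ofNat 0, Int.ofNat 0, Int.ofNat 0, Int.ofNat 2, Int.negSucc 1, Int.negSucc 1, Int.ofNat 0, Int.ofNat 0, Int.ofNat 0, Int.ofNat 0, Int.ofNat 0, Int.ofNat 2, Int.ofNat 0, Int.ofNat 0, Int.ofNat 2, Int.negSucc 1, Int.ofNat 0, Int.ofNat 0, Int.ofNat 0, Int.negSucc 1]]

set_option maxRecDepth 100000 in
theorem c1et11_chk : pmChk (List.replicate 14 [11, 0, 25, 26]).flatten nxL c1et11M 0 0 = true := by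
  decide +kernel

theorem c1et11_ne : wE letE2 (List.replicate 14 [11, 0, 25, 26]).flatten ≠ 1 ∧ wE letE2 (List.replicate 14 [11, 0, 25, 26]).flatten ≠ negElt :=
  ne_pm_of_chk nxL_mem c1et11_chk

set_option maxRecDepth 100000 in
def c1et12M : List (List ℤ) :=
  [[Int.negSucc 3, Int.ofNat 0, Int.ofNat 0, Int.ofNat 0, Int.ofNat 0, Int.ofNat 0, Int.ofNat 0, Int.ofNat 0, Int.ofNat 0, Int.ofNat 0, Int.ofNat 0, Int.ofNat 0, Int.ofNat 0, Int.ofNat 0, Int.ofNat 0, Int.ofNat 0, Int.ofNat 0, Int.ofNat 0, Int.ofNat 0, Int.ofNat 0, Int.ofNat 0, Int.ofNat 0, Int.ofNat 0, Int.ofNat 4],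
  [Int.ofNat 4, Int.ofNat 0, Int.ofNat 0, Int.ofNat 0, Int.ofNat 0, Int.ofNat 0, Int.ofNat 0, Int.ofNat 0, Int.ofNat 0, Int.ofNat 0, Int.ofNat 0, Int.ofNat 0, Int.ofNat 0, Int.ofNat 0, Int.ofNat 0, Int.ofNat 0, Int.ofNat 0, Int.ofNat 0, Int.ofNat 0, Int.ofNat 0, Int.ofNat 0, Int.ofNat 0, Int.ofNat 0, Int.ofNat 4],
  [Int.ofNat 0, Int.ofNat 4, Int.ofNat 0, Int.ofNat 0, Int.ofNat 0, Int.ofNat 0, Int.ofNat 0, Int.ofNat 0, Int.ofNat 0, Int.ofNat 0, Int.ofNat 0, Int.ofNat 0, Int.ofNat 0, Int.ofNat 0, Int.ofNat 0, Int.ofNat 0, Int.ofNat 0, Int.ofNat 0, Int.ofNat 0, Int.ofNat 0, Int.ofNat 0, Int.ofNat 0, Int.ofNat 0, Int.ofNat 4],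
  [Int.ofNat 4, Int.ofNat 0, Int.ofNat 4, Int.ofNat 0, Int.ofNat 0, Int.ofNat 0, Int.ofNat 0, Int.ofNat 0, Int.ofNat 0, Int.ofNat 0, Int.ofNat 0, Int.ofNat 0, Int.ofNat 0, Int.ofNat 0, Int.ofNat 0, Int.ofNat 0, Int.ofNat 0, Int.ofNat 0, Int.ofNat 0, Int.ofNat 0, Int.ofNat 0, Int.ofNat 0, Int.ofNat 0, Int.ofNat 0],
  [Int.ofNat 0, Int.ofNat 0, Int.ofNat 0, Int.ofNat 0, Int.ofNat 0, Int.ofNat 0, Int.ofNat 0, Int.ofNat 0, Int.ofNat 0, Int.ofNat 0, Int.ofNat 0, Int.ofNat 0, Int.ofNat 0, Int.ofNat 0, Int.ofNat 0, Int.ofNat 0, Int.ofNat 0, Int.ofNat 0, Int.ofNat 0, Int.ofNat 0, Int.ofNat 4, Int.ofNat 0, Int.ofNat 4, Int.ofNat 0],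
  [Int.ofNat 0, Int.ofNat 0, Int.ofNat 0, Int.ofNat 0, Int.negSucc 1, Int.ofNat 0, Int.ofNat 0, Int.ofNat 0, Int.ofNat 0, Int.negSucc 1, Int.negSucc 1, Int.ofNat 0, Int.ofNat 0, Int.negSucc 1, Int.ofNat 0, Int.negSucc 1, Int.negSucc 1, Int.ofNat 0, Int.ofNat 0, Int.ofNat 0, Int.ofNat 2, Int.ofNat 0, Int.ofNat 2, Int.ofNat 0],
  [Int.ofNat 0, Int.ofNat 0, Int.negSucc 1, Int.ofNat 0, Int.ofNat 0, Int.ofNat 0, Int.ofNat 0, Int.negSucc 1, Int.ofNat 0, Int.negSucc 1, Int.ofNat 2, Int.ofNat 0, Int.negSucc 1, Int.negSucc 1, Int.ofNat 2, Int.negSucc 1, Int.ofNat 0, Int.ofNat 0, Int.ofNat 0, Int.ofNat 0, Int.ofNat 0, Int.ofNat 0, Int.ofNat 0, Int.ofNat 0],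
  [Int.negSucc 0, Int.negSucc 0, Int.ofNat 1, Int.negSucc 0, Int.ofNat 1, Int.negSucc 0, Int.ofNat 1, Int.negSucc 0, Int.ofNat 1, Int.negSucc 0, Int.ofNat 3, Int.ofNat 1, Int.negSucc 0, Int.negSucc 0, Int.ofNat 1, Int.negSucc 0, Int.ofNat 1, Int.negSucc 0, Int.ofNat 1, Int.ofNat 1, Int.ofNat 1, Int.ofNat 1, Int.ofNat 1, Int.negSucc 0],
  [Int.negSucc 0, Int.negSucc 0, Int.negSucc 0, Int.negSucc 0, Int.ofNat 1, Int.ofNat 1, Int.negSucc 0, Int.negSucc 0, Int.ofNat 1, Int.ofNat 1, Int.negSucc 2, Int.ofNat 1, Int.negSucc 0, Int.negSucc 0, Int.ofNat 1, Int.ofNat 1, Int.ofNat 1, Int.negSucc 0, Int.negSucc 0, Int.ofNat 1, Int.ofNat 1, Int.ofNat 1, Int.negSucc 0, Int.negSucc 0],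
  [Int.negSucc 2, Int.ofNat 1, Int.ofNat 1, Int.ofNat 1, Int.ofNat 1, Int.negSucc 0, Int.ofNat 1, Int.negSucc 0, Int.ofNat 1, Int.ofNat 1, Int.negSucc 0, Int.negSucc 0, Int.ofNat 1, Int.ofNat 1, Int.negSucc 0, Int.negSucc 0, Int.ofNat 1, Int.negSucc 0, Int.ofNat 1, Int.negSucc 0, Int.negSucc 0, Int.negSucc 0, Int.negSucc 0, Int.negSucc 0],
  [Int.ofNat 3, Int.negSucc 0, Int.negSucc 0, Int.negSucc 0, Int.negSucc 0, Int.negSucc 0, Int.negSucc 0, Int.negSucc 0, Int.negSucc 0, Int.negSucc 0, Int.negSucc 0, Int.negSucc 0, Int.negSucc 0, Int.negSucc 0, Int.negSucc 0, Int.negSucc 0, Int.negSucc 0, Int.negSucc 0, Int.negSucc 0, Int.negSucc 0, Int.negSucc 0, Int.negSucc 0, Int.negSucc 0, Int.negSucc 0],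
  [Int.negSucc 0, Int.negSucc 0, Int.negSucc 0, Int.negSucc 0, Int.negSucc 0, Int.negSucc 0, Int.negSucc 0, Int.negSucc 0, Int.negSucc 0, Int.negSucc 0, Int.negSucc 0, Int.negSucc 0, Int.negSucc 0, Int.negSucc 0, Int.negSucc 0, Int.negSucc 0, Int.negSucc 0, Int.negSucc 0, Int.negSucc 0, Int.negSucc 0, Int.negSucc 0, Int.negSucc 0, Int.negSucc 0, Int.ofNat 3],
  [Int.ofNat 1, Int.negSucc 0, Int.ofNat 1, Int.negSucc 0, Int.negSucc 0, Int.negSucc 0, Int.negSucc 0, Int.ofNat 1, Int.negSucc 0, Int.ofNat 1, Int.ofNat 1, Int.ofNat 1, Int.negSucc 0, Int.negSucc 0, Int.negSucc 0, Int.negSucc 0, Int.negSucc 0, Int.negSucc 0, Int.ofNat 1, Int.negSucc 0, Int.negSucc 0, Int.ofNat 1, Int.negSucc 0, Int.ofNat 3],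
  [Int.negSucc 0, Int.ofNat 1, Int.negSucc 0, Int.ofNat 1, Int.negSucc 0, Int.negSucc 0, Int.negSucc 0, Int.negSucc 0, Int.ofNat 1, Int.negSucc 0, Int.ofNat 1, Int.ofNat 1, Int.ofNat 1, Int.negSucc 0, Int.negSucc 0, Int.negSucc 0, Int.negSucc 0, Int.negSucc 0, Int.negSucc 0, Int.ofNat 1, Int.negSucc 0, Int.negSucc 0, Int.ofNat 1, Int.ofNat 3],
  [Int.ofNat 2, Int.ofNat 0, Int.ofNat 2, Int.ofNat 2, Int.ofNat 0, Int.ofNat 0, Int.ofNat 0, Int.ofNat 0, Int.ofNat 0, Int.ofNat 0, Int.ofNat 2, Int.ofNat 0, Int.ofNat 0, Int.ofNat 0, Int.ofNat 0, Int.ofNat 0, Int.ofNat 0, Int.ofNat 0, Int.negSucc 1, Int.ofNat 2, Int.ofNat 0, Int.ofNat 0, Int.ofNat 2, Int.negSucc 1],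
  [Int.ofNat 2, Int.ofNat 0, Int.ofNat 0, Int.ofNat 0, Int.ofNat 0, Int.ofNat 0, Int.ofNat 0, Int.ofNat 2, Int.ofNat 0, Int.ofNat 0, Int.ofNat 0, Int.ofNat 0, Int.ofNat 0, Int.ofNat 0, Int.ofNat 0, Int.negSucc 1, Int.ofNat 2, Int.ofNat 0, Int.ofNat 0, Int.ofNat 2, Int.ofNat 2, Int.ofNat 0, Int.ofNat 2, Int.negSucc 1],
  [Int.negSucc 1, Int.ofNat 0, Int.ofNat 0, Int.ofNat 0, Int.negSucc 1, Int.ofNat 0, Int.negSucc 1, Int.ofNat 0, Int.ofNat 0, Int.ofNat 0, Int.ofNat 0, Int.ofNat 0, Int.ofNat 0, Int.negSucc 1, Int.ofNat 0, Int.negSucc 1, Int.ofNat 0, Int.ofNat 0, Int.ofNat 0, Int.ofNat 0, Int.ofNat 2, Int.negSucc 1, Int.ofNat 0, Int.ofNat 2],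
  [Int.negSucc 1, Int.negSucc 1, Int.negSucc 1, Int.ofNat 0, Int.ofNat 0, Int.ofNat 0, Int.ofNat 0, Int.ofNat 0, Int.ofNat 0, Int.negSucc 1, Int.ofNat 2, Int.ofNat 0, Int.ofNat 0, Int.ofNat 0, Int.ofNat 0, Int.negSucc 1, Int.ofNat 0, Int.ofNat 0, Int.ofNat 0, Int.ofNat 0, Int.negSucc 1, Int.ofNat 0, Int.ofNat 0, Int.ofNat 2],
  [Int.ofNat 0, Int.ofNat 0, Int.ofNat 0, Int.ofNat 0, Int.ofNat 0, Int.ofNat 0, Int.ofNat 0, Int.ofNat 0, Int.ofNat 0, Int.ofNat 0, Int.ofNat 4, Int.ofNat 0, Int.ofNat 0, Int.ofNat 0, Int.ofNat 0, Int.ofNat 0, Int.ofNat 0, Int.ofNat 0, Int.ofNat 0, Int.ofNat 0, Int.ofNat 0, Int.ofNat 0, Int.ofNat 0, Int.negSucc 3],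
  [Int.ofNat 0, Int.ofNat 0, Int.ofNat 0, Int.ofNat 0, Int.ofNat 0, Int.ofNat 0, Int.ofNat 0, Int.ofNat 0, Int.ofNat 0, Int.ofNat 0, Int.negSucc 3, Int.ofNat 0, Int.ofNat 0, Int.ofNat 0, Int.ofNat 0, Int.ofNat 0, Int.ofNat 0, Int.ofNat 0, Int.ofNat 0, Int.ofNat 0, Int.ofNat 0, Int.ofNat 0, Int.ofNat 0, Int.negSucc 3],
  [Int.ofNat 0, Int.ofNat 0, Int.ofNat 0, Int.ofNat 0, Int.ofNat 0, Int.ofNat 0, Int.ofNat 0, Int.ofNat 0, Int.ofNat 0, Int.ofNat 0, Int.ofNat 0, Int.ofNat 0, Int.ofNat 0, Int.ofNat 0, Int.ofNat 0, Int.ofNat 0, Int.ofNat 0, Int.ofNat 0, Int.ofNat 0, Int.ofNat 0, Int.ofNat 0, Int.negSucc 3, Int.ofNat 0, Int.negSucc 3],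
  [Int.ofNat 0, Int.ofNat 0, Int.ofNat 0, Int.ofNat 0, Int.ofNat 0, Int.ofNat 0, Int.ofNat 0, Int.ofNat 0, Int.ofNat 0, Int.ofNat 0, Int.ofNat 0, Int.ofNat 0, Int.ofNat 0, Int.ofNat 0, Int.ofNat 0, Int.ofNat 0, Int.ofNat 0, Int.ofNat 0, Int.ofNat 0, Int.ofNat 0, Int.ofNat 0, Int.negSucc 3, Int.ofNat 0, Int.negSucc 3],
  [Int.negSucc 1, Int.negSucc 1, Int.negSucc 1, Int.ofNat 0, Int.ofNat 0, Int.ofNat 0, Int.ofNat 2, Int.ofNat 2, Int.ofNat 0, Int.ofNat 0, Int.ofNat 0, Int.ofNat 0, Int.ofNat 0, Int.ofNat 0, Int.ofNat 0, Int.ofNat 0, Int.ofNat 0, Int.ofNat 0, Int.ofNat 0, Int.ofNat 2, Int.ofNat 0, Int.negSucc 1, Int.ofNat 0, Int.ofNat 2],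
  [Int.negSucc 1, Int.ofNat 0, Int.ofNat 2, Int.ofNat 0, Int.negSucc 1, Int.negSucc 1, Int.negSucc 1, Int.ofNat 0, Int.ofNat 0, Int.ofNat 0, Int.ofNat 2, Int.ofNat 2, Int.ofNat 0, Int.ofNat 0, Int.ofNat 0, Int.ofNat 0, Int.ofNat 0, Int.ofNat 0, Int.ofNat 0, Int.ofNat 0, Int.ofNat 0, Int.ofNat 0, Int.ofNat 0, Int.ofNat 2],
  [Int.ofNat 3, Int.ofNat 1, Int.negSucc 0, Int.ofNat 1, Int.negSucc 0, Int.negSucc 0, Int.negSucc 0, Int.ofNat 1, Int.negSucc 0, Int.negSucc 0, Int.ofNat 1, Int.ofNat 1, Int.negSucc 0, Int.ofNat 1, Int.ofNat 1, Int.negSucc 0, Int.ofNat 1, Int.ofNat 1, Int.negSucc 0, Int.ofNat 1, Int.negSucc 0, Int.ofNat 1, Int.ofNat 1, Int.negSucc 0],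
  [Int.negSucc 0, Int.ofNat 1, Int.ofNat 1, Int.ofNat 3, Int.ofNat 1, Int.negSucc 0, Int.ofNat 1, Int.negSucc 0, Int.negSucc 0, Int.negSucc 0, Int.ofNat 1, Int.negSucc 0, Int.negSucc 0, Int.ofNat 1, Int.ofNat 1, Int.negSucc 0, Int.ofNat 1, Int.ofNat 1, Int.negSucc 0, Int.ofNat 1, Int.ofNat 1, Int.negSucc 0, Int.ofNat 1, Int.negSucc 0],
  [Int.ofNat 1, Int.negSucc 0, Int.negSucc 0, Int.ofNat 1, Int.negSucc 0, Int.negSucc 2, Int.ofNat 1, Int.negSucc 0, Int.ofNat 1, Int.negSucc 0, Int.ofNat 1, Int.ofNat 1, Int.ofNat 1, Int.negSucc 0, Int.negSucc 0, Int.negSucc 0, Int.negSucc 0, Int.negSucc 0, Int.ofNat 1, Int.ofNat 1, Int.ofNat 1, Int.negSucc 0, Int.negSucc 0, Int.ofNat 1],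
  [Int.negSucc 0, Int.negSucc 0, Int.ofNat 1, Int.negSucc 0, Int.negSucc 2, Int.ofNat 1, Int.negSucc 0, Int.ofNat 1, Int.negSucc 0, Int.ofNat 1, Int.ofNat 1, Int.ofNat 1, Int.negSucc 0, Int.negSucc 0, Int.negSucc 0, Int.negSucc 0, Int.negSucc 0, Int.ofNat 1, Int.ofNat 1, Int.ofNat 1, Int.negSucc 0, Int.negSucc 0, Int.ofNat 1, Int.ofNat 1],
  [Int.ofNat 1, Int.negSucc 0, Int.negSucc 0, Int.negSucc 0, Int.negSucc 2, Int.ofNat 1, Int.negSucc 0, Int.negSucc 0, Int.negSucc 0, Int.negSucc 0, Int.negSucc 0, Int.negSucc 0, Int.negSucc 0, Int.negSucc 0, Int.negSucc 0, Int.negSucc 0, Int.negSucc 0, Int.ofNat 1, Int.negSucc 0, Int.ofNat 1, Int.negSucc 0, Int.ofNat 1, Int.ofNat 1, Int.ofNat 1],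
  [Int.ofNat 1, Int.negSucc 0, Int.negSucc 0, Int.negSucc 0, Int.negSucc 0, Int.negSucc 0, Int.negSucc 2, Int.negSucc 0, Int.negSucc 0, Int.negSucc 0, Int.ofNat 1, Int.negSucc 0, Int.negSucc 0, Int.negSucc 0, Int.ofNat 1, Int.negSucc 0, Int.negSucc 0, Int.ofNat 1, Int.negSucc 0, Int.ofNat 1, Int.ofNat 1, Int.negSucc 0, Int.negSucc 0, Int.ofNat 1],
  [Int.negSucc 0, Int.negSucc 0, Int.ofNat 1, Int.negSucc 0, Int.negSucc 0, Int.negSucc 0, Int.negSucc 2, Int.ofNat 1, Int.negSucc 0, Int.ofNat 1, Int.negSucc 0, Int.ofNat 1, Int.negSucc 0, Int.negSucc 0, Int.ofNat 1, Int.negSucc 0, Int.negSucc 0, Int.ofNat 1, Int.ofNat 1, Int.ofNat 1, Int.ofNat 1, Int.ofNat 1, Int.negSucc 0, Int.ofNat 1],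
  [Int.negSucc 0, Int.negSucc 0, Int.negSucc 0, Int.ofNat 1, Int.negSucc 0, Int.negSucc 0, Int.negSucc 0, Int.negSucc 2, Int.ofNat 1, Int.negSucc 0, Int.ofNat 1, Int.negSucc 0, Int.ofNat 1, Int.negSucc 0, Int.negSucc 0, Int.ofNat 1, Int.negSucc 0, Int.negSucc 0, Int.ofNat 1, Int.ofNat 1, Int.ofNat 1, Int.ofNat 1, Int.ofNat 1, Int.ofNat 1],
  [Int.ofNat 0, Int.ofNat 0, Int.ofNat 0, Int.ofNat 2, Int.ofNat 0, Int.ofNat 0, Int.ofNat 0, Int.negSucc 1, Int.ofNat 0, Int.negSucc 1, Int.ofNat 0, Int.negSucc 1, Int.ofNat 0, Int.ofNat 0, Int.ofNat 0, Int.ofNat 0, Int.ofNat 0, Int.ofNat 0, Int.ofNat 0, Int.ofNat 2, Int.ofNat 0, Int.ofNat 2, Int.ofNat 2, Int.negSucc 1],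
  [Int.ofNat 2, Int.ofNat 0, Int.ofNat 0, Int.ofNat 0, Int.negSucc 1, Int.ofNat 0, Int.negSucc 1, Int.ofNat 0, Int.negSucc 1, Int.ofNat 0, Int.ofNat 0, Int.ofNat 0, Int.ofNat 0, Int.ofNat 0, Int.ofNat 0, Int.ofNat 0, Int.ofNat 2, Int.ofNat 0, Int.ofNat 2, Int.ofNat 2, Int.ofNat 0, Int.ofNat 0, Int.ofNat 0, Int.negSucc 1],
  [Int.negSucc 1, Int.ofNat 0, Int.ofNat 0, Int.ofNat 0, Int.negSucc 1, Int.ofNat 0, Int.negSucc 1, Int.ofNat 0, Int.negSucc 1, Int.ofNat 0, Int.ofNat 0, Int.ofNat 0, Int.ofNat 0, Int.ofNat 0, Int.ofNat 0, Int.ofNat 0, Int.ofNat 2, Int.ofNat 0, Int.ofNat 2, Int.ofNat 2, Int.ofNat 0, Int.ofNat 0, Int.ofNat 0, Int.ofNat 2],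
  [Int.negSucc 1, Int.negSucc 1, Int.negSucc 1, Int.ofNat 0, Int.ofNat 2, Int.ofNat 0, Int.ofNat 0, Int.ofNat 0, Int.ofNat 0, Int.ofNat 0, Int.ofNat 0, Int.ofNat 0, Int.ofNat 0, Int.ofNat 2, Int.ofNat 0, Int.ofNat 0, Int.negSucc 1, Int.ofNat 0, Int.ofNat 0, Int.ofNat 0, Int.ofNat 0, Int.ofNat 0, Int.ofNat 2, Int.ofNat 2],
  [Int.ofNat 0, Int.ofNat 0, Int.ofNat 0, Int.ofNat 0, Int.ofNat 0, Int.ofNat 0, Int.ofNat 0, Int.ofNat 0, Int.ofNat 0, Int.ofNat 0, Int.ofNat 0, Int.ofNat 0, Int.ofNat 0, Int.ofNat 0, Int.ofNat 0, Int.ofNat 0, Int.negSucc 3, Int.ofNat 0, Int.ofNat 0, Int.ofNat 0, Int.ofNat 0, Int.ofNat 0, Int.ofNat 0, Int.negSucc 3],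
  [Int.ofNat 0, Int.ofNat 0, Int.ofNat 0, Int.ofNat 0, Int.ofNat 0, Int.ofNat 0, Int.ofNat 0, Int.ofNat 0, Int.ofNat 0, Int.ofNat 0, Int.ofNat 0, Int.ofNat 0, Int.ofNat 0, Int.ofNat 0, Int.ofNat 0, Int.ofNat 0, Int.negSucc 3, Int.ofNat 0, Int.ofNat 0, Int.ofNat 0, Int.ofNat 0, Int.ofNat 0, Int.ofNat 0, Int.negSucc 3],
  [Int.ofNat 0, Int.negSucc 3, Int.ofNat 0, Int.ofNat 0, Int.ofNat 0, Int.ofNat 0, Int.ofNat 0, Int.ofNat 0, Int.ofNat 0, Int.ofNat 0, Int.ofNat 0, Int.ofNat 0, Int.ofNat 0, Int.ofNat 0, Int.ofNat 0, Int.ofNat 0, Int.ofNat 0, Int.ofNat 0, Int.ofNat 0, Int.ofNat 0, Int.ofNat 0, Int.ofNat 0, Int.ofNat 0, Int.negSucc 3],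
  [Int.ofNat 0, Int.ofNat 4, Int.ofNat 0, Int.ofNat 0, Int.ofNat 0, Int.ofNat 0, Int.ofNat 0, Int.ofNat 0, Int.ofNat 0, Int.ofNat 0, Int.ofNat 0, Int.ofNat 0, Int.ofNat 0, Int.ofNat 0, Int.ofNat 0, Int.ofNat 0, Int.ofNat 0, Int.ofNat 0, Int.ofNat 0, Int.ofNat 0, Int.ofNat 0, Int.ofNat 0, Int.ofNat 0, Int.negSucc 3],
  [Int.negSucc 3, Int.ofNat 0, Int.ofNat 0, Int.ofNat 0, Int.ofNat 0, Int.ofNat 0, Int.ofNat 0, Int.ofNat 0, Int.ofNat 0, Int.ofNat 0, Int.ofNat 0, Int.ofNat 0, Int.ofNat 0, Int.ofNat 0, Int.ofNat 0, Int.ofNat 0, Int.ofNat 0, Int.ofNat 0, Int.ofNat 0, Int.ofNat 0, Int.ofNat 0, Int.ofNat 0, Int.ofNat 4, Int.ofNat 0],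
  [Int.ofNat 4, Int.ofNat 0, Int.ofNat 0, Int.ofNat 0, Int.ofNat 0, Int.ofNat 0, Int.ofNat 0, Int.ofNat 0, Int.ofNat 0, Int.ofNat 0, Int.ofNat 0, Int.ofNat 0, Int.ofNat 0, Int.ofNat 0, Int.ofNat 0, Int.ofNat 0, Int.ofNat 0, Int.ofNat 0, Int.ofNat 0, Int.ofNat 0, Int.ofNat 0, Int.ofNat 0, Int.ofNat 4, Int.ofNat 0],
  [Int.ofNat 4, Int.ofNat 4, Int.ofNat 0, Int.ofNat 0, Int.ofNat 0, Int.ofNat 0, Int.ofNat 0, Int.ofNat 0, Int.ofNat 0, Int.ofNat 0, Int.ofNat 0, Int.ofNat 0, Int.ofNat 0, Int.ofNat 0, Int.ofNat 0, Int.ofNat 0, Int.ofNat 0, Int.ofNat 0, Int.ofNat 0, Int.ofNat 0, Int.ofNat 0, Int.ofNat 0, Int.ofNat 0, Int.ofNat 0],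
  [Int.ofNat 0, Int.ofNat 0, Int.ofNat 4, Int.ofNat 0, Int.ofNat 0, Int.ofNat 0, Int.ofNat 0, Int.ofNat 0, Int.ofNat 0, Int.ofNat 0, Int.ofNat 0, Int.ofNat 0, Int.ofNat 0, Int.ofNat 0, Int.ofNat 0, Int.ofNat 0, Int.ofNat 0, Int.ofNat 0, Int.ofNat 0, Int.ofNat 0, Int.ofNat 0, Int.ofNat 0, Int.ofNat 0, Int.ofNat 4],
  [Int.ofNat 0, Int.ofNat 0, Int.ofNat 0, Int.ofNat 0, Int.ofNat 0, Int.ofNat 0, Int.ofNat 0, Int.ofNat 0, Int.ofNat 0, Int.ofNat 0, Int.ofNat 0, Int.ofNat 0, Int.ofNat 0, Int.ofNat 0, Int.ofNat 0, Int.ofNat 0, Int.ofNat 0, Int.ofNat 0, Int.ofNat 0, Int.ofNat 0, Int.ofNat 0, Int.ofNat 0, Int.ofNat 4, Int.ofNat 4],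
  [Int.ofNat 2, Int.ofNat 2, Int.ofNat 2, Int.ofNat 0, Int.negSucc 1, Int.ofNat 0, Int.ofNat 0, Int.ofNat 0, Int.ofNat 0, Int.ofNat 0, Int.ofNat 0, Int.ofNat 0, Int.ofNat 0, Int.negSucc 1, Int.ofNat 0, Int.ofNat 0, Int.negSucc 1, Int.ofNat 0, Int.ofNat 0, Int.ofNat 0, Int.ofNat 0, Int.ofNat 0, Int.ofNat 2, Int.negSucc 1],
  [Int.ofNat 2, Int.ofNat 0, Int.negSucc 1, Int.ofNat 0, Int.ofNat 0, Int.ofNat 0, Int.ofNat 2, Int.ofNat 0, Int.ofNat 0, Int.negSucc 1, Int.ofNat 0, Int.ofNat 0, Int.ofNat 0, Int.negSucc 1, Int.ofNat 2, Int.ofNat 0, Int.ofNat 0, Int.ofNat 0, Int.ofNat 2, Int.ofNat 0, Int.ofNat 0, Int.ofNat 0, Int.ofNat 0, Int.negSucc 1],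
  [Int.negSucc 2, Int.negSucc 0, Int.ofNat 1, Int.negSucc 0, Int.ofNat 1, Int.negSucc 0, Int.ofNat 1, Int.negSucc 0, Int.negSucc 0, Int.negSucc 0, Int.ofNat 1, Int.negSucc 0, Int.negSucc 0, Int.negSucc 0, Int.ofNat 1, Int.ofNat 1, Int.ofNat 1, Int.negSucc 0, Int.ofNat 1, Int.negSucc 0, Int.ofNat 1, Int.negSucc 0, Int.ofNat 1, Int.ofNat 1],
  [Int.negSucc 2, Int.negSucc 0, Int.negSucc 0, Int.negSucc 0, Int.ofNat 1, Int.ofNat 1, Int.negSucc 0, Int.negSucc 0, Int.negSucc 0, Int.ofNat 1, Int.negSucc 0, Int.negSucc 0, Int.negSucc 0, Int.negSucc 0, Int.ofNat 1, Int.negSucc 0, Int.ofNat 1, Int.negSucc 0, Int.negSucc 0, Int.negSucc 0, Int.ofNat 1, Int.negSucc 0, Int.negSucc 0, Int.ofNat 1],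
  [Int.negSucc 0, Int.negSucc 0, Int.ofNat 1, Int.ofNat 1, Int.negSucc 0, Int.negSucc 0, Int.negSucc 0, Int.negSucc 0, Int.negSucc 2, Int.negSucc 0, Int.negSucc 0, Int.negSucc 0, Int.negSucc 0, Int.ofNat 1, Int.negSucc 0, Int.negSucc 0, Int.ofNat 1, Int.ofNat 1, Int.ofNat 1, Int.negSucc 0, Int.negSucc 0, Int.negSucc 0, Int.negSucc 0, Int.ofNat 1],
  [Int.negSucc 0, Int.negSucc 0, Int.negSucc 0, Int.ofNat 1, Int.negSucc 0, Int.ofNat 1, Int.ofNat 1, Int.negSucc 0, Int.negSucc 2, Int.ofNat 1, Int.ofNat 1, Int.negSucc 0, Int.negSucc 0, Int.ofNat 1, Int.negSucc 0, Int.ofNat 1, Int.ofNat 1, Int.ofNat 1, Int.negSucc 0, Int.negSucc 0, Int.negSucc 0, Int.negSucc 0, Int.ofNat 1, Int.ofNat 1],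
  [Int.ofNat 0, Int.ofNat 0, Int.ofNat 0, Int.ofNat 0, Int.negSucc 1, Int.ofNat 0, Int.ofNat 2, Int.ofNat 0, Int.ofNat 0, Int.ofNat 0, Int.ofNat 0, Int.ofNat 2, Int.ofNat 2, Int.ofNat 0, Int.negSucc 1, Int.ofNat 0, Int.ofNat 0, Int.ofNat 0, Int.ofNat 2, Int.ofNat 0, Int.negSucc 1, Int.ofNat 0, Int.ofNat 0, Int.negSucc 1],
  [Int.ofNat 0, Int.ofNat 2, Int.ofNat 2, Int.ofNat 0, Int.ofNat 0, Int.ofNat 0, Int.ofNat 0, Int.ofNat 0, Int.ofNat 0, Int.ofNat 2, Int.ofNat 0, Int.ofNat 0, Int.ofNat 0, Int.ofNat 0, Int.ofNat 0, Int.ofNat 0, Int.ofNat 0, Int.ofNat 2, Int.negSucc 1, Int.ofNat 0, Int.ofNat 0, Int.negSucc 1, Int.negSucc 1, Int.negSucc 1],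
  [Int.ofNat 1, Int.negSucc 0, Int.negSucc 0, Int.negSucc 0, Int.ofNat 1, Int.negSucc 0, Int.ofNat 1, Int.ofNat 1, Int.ofNat 1, Int.ofNat 1, Int.negSucc 0, Int.ofNat 1, Int.ofNat 1, Int.ofNat 1, Int.negSucc 0, Int.negSucc 0, Int.ofNat 1, Int.ofNat 1, Int.negSucc 0, Int.ofNat 1, Int.negSucc 0, Int.negSucc 0, Int.negSucc 0, Int.ofNat 3],
  [Int.negSucc 0, Int.negSucc 0, Int.negSucc 0, Int.ofNat 1, Int.negSucc 0, Int.negSucc 0, Int.negSucc 0, Int.ofNat 1, Int.negSucc 0, Int.ofNat 1, Int.ofNat 1, Int.ofNat 1, Int.ofNat 1, Int.negSucc 0, Int.ofNat 1, Int.ofNat 1, Int.ofNat 1, Int.negSucc 0, Int.negSucc 0, Int.ofNat 1, Int.ofNat 1, Int.negSucc 0, Int.ofNat 1, Int.ofNat 3],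
  [Int.ofNat 1, Int.ofNat 1, Int.ofNat 1, Int.ofNat 1, Int.negSucc 0, Int.negSucc 0, Int.negSucc 0, Int.ofNat 1, Int.negSucc 0, Int.negSucc 0, Int.negSucc 0, Int.ofNat 1, Int.ofNat 1, Int.negSucc 0, Int.ofNat 1, Int.negSucc 0, Int.ofNat 1, Int.negSucc 0, Int.negSucc 0, Int.ofNat 1, Int.negSucc 0, Int.negSucc 0, Int.ofNat 1, Int.negSucc 2],
  [Int.ofNat 1, Int.ofNat 1, Int.ofNat 1, Int.negSucc 0, Int.negSucc 0, Int.negSucc 0, Int.ofNat 1, Int.negSucc 0, Int.negSucc 0, Int.negSucc 0, Int.ofNat 1, Int.ofNat 1, Int.negSucc 0, Int.ofNat 1, Int.negSucc 0, Int.ofNat 1, Int.negSucc 0, Int.negSucc 0, Int.ofNat 1, Int.negSucc 0, Int.negSucc 0, Int.ofNat 1, Int.ofNat 1, Int.negSucc 2],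
  [Int.negSucc 0, Int.ofNat 1, Int.negSucc 0, Int.negSucc 0, Int.negSucc 0, Int.negSucc 0, Int.ofNat 1, Int.ofNat 1, Int.negSucc 0, Int.ofNat 1, Int.negSucc 0, Int.negSucc 0, Int.negSucc 0, Int.ofNat 1, Int.negSucc 0, Int.ofNat 1, Int.negSucc 0, Int.negSucc 0, Int.negSucc 0, Int.negSucc 0, Int.negSucc 0, Int.negSucc 0, Int.ofNat 1, Int.negSucc 2],
  [Int.negSucc 0, Int.negSucc 0, Int.negSucc 0, Int.negSucc 0, Int.ofNat 1, Int.negSucc 0, Int.negSucc 0, Int.negSucc 0, Int.ofNat 1, Int.negSucc 0, Int.negSucc 0, Int.negSucc 0, Int.ofNat 1, Int.negSucc 0, Int.negSucc 0, Int.ofNat 1, Int.negSucc 0, Int.ofNat 1, Int.ofNat 1, Int.negSucc 0, Int.negSucc 0, Int.ofNat 1, Int.negSucc 0, Int.negSucc 2],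
  [Int.ofNat 1, Int.negSucc 0, Int.ofNat 1, Int.negSucc 0, Int.ofNat 1, Int.negSucc 0, Int.negSucc 0, Int.ofNat 1, Int.ofNat 1, Int.ofNat 1, Int.ofNat 1, Int.ofNat 1, Int.ofNat 1, Int.negSucc 0, Int.negSucc 0, Int.ofNat 1, Int.negSucc 0, Int.ofNat 1, Int.negSucc 0, Int.negSucc 0, Int.negSucc 0, Int.negSucc 0, Int.negSucc 0, Int.negSucc 2],
  [Int.negSucc 0, Int.ofNat 1, Int.negSucc 0, Int.ofNat 1, Int.negSucc 0, Int.ofNat 1, Int.negSucc 0, Int.negSucc 0, Int.ofNat 1, Int.ofNat 1, Int.ofNat 1, Int.ofNat 1, Int.ofNat 1, Int.ofNat 1, Int.negSucc 0, Int.negSucc 0, Int.ofNat 1, Int.negSucc 0, Int.ofNat 1, Int.negSucc 0, Int.negSucc 0, Int.negSucc 0, Int.negSucc 0, Int.negSucc 2],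
  [Int.negSucc 0, Int.negSucc 2, Int.negSucc 0, Int.ofNat 1, Int.negSucc 0, Int.ofNat 1, Int.ofNat 1, Int.ofNat 1, Int.negSucc 0, Int.ofNat 1, Int.ofNat 1, Int.negSucc 0, Int.negSucc 0, Int.ofNat 1, Int.negSucc 0, Int.negSucc 0, Int.ofNat 1, Int.negSucc 0, Int.negSucc 0, Int.ofNat 1, Int.negSucc 0, Int.ofNat 1, Int.negSucc 0, Int.ofNat 1],
  [Int.ofNat 1, Int.negSucc 0, Int.ofNat 1, Int.ofNat 1, Int.ofNat 1, Int.negSucc 0, Int.ofNat 1, Int.ofNat 1, Int.negSucc 0, Int.negSucc 0, Int.ofNat 1, Int.negSucc 0, Int.negSucc 0, Int.ofNat 1, Int.negSucc 0, Int.negSucc 0, Int.ofNat 1, Int.negSucc 0, Int.ofNat 1, Int.negSucc 0, Int.negSucc 0, Int.negSucc 2, Int.negSucc 0, Int.ofNat 1],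
  [Int.ofNat 0, Int.ofNat 2, Int.ofNat 0, Int.ofNat 2, Int.ofNat 0, Int.ofNat 0, Int.ofNat 2, Int.ofNat 2, Int.ofNat 0, Int.ofNat 0, Int.ofNat 2, Int.ofNat 0, Int.ofNat 0, Int.ofNat 0, Int.ofNat 0, Int.ofNat 0, Int.ofNat 0, Int.ofNat 0, Int.ofNat 2, Int.ofNat 0, Int.ofNat 0, Int.negSucc 1, Int.negSucc 1, Int.ofNat 0],
  [Int.ofNat 0, Int.ofNat 2, Int.ofNat 0, Int.ofNat 2, Int.ofNat 2, Int.ofNat 2, Int.ofNat 0, Int.ofNat 2, Int.ofNat 0, Int.ofNat 0, Int.ofNat 0, Int.ofNat 0, Int.ofNat 0, Int.ofNat 0, Int.negSucc 1, Int.ofNat 0, Int.ofNat 0, Int.ofNat 0, Int.ofNat 2, Int.ofNat 0, Int.negSucc 1, Int.ofNat 0, Int.ofNat 0, Int.ofNat 0],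
  [Int.ofNat 1, Int.negSucc 0, Int.ofNat 1, Int.ofNat 1, Int.ofNat 1, Int.ofNat 1, Int.negSucc 0, Int.ofNat 1, Int.negSucc 0, Int.ofNat 1, Int.ofNat 1, Int.negSucc 0, Int.negSucc 0, Int.negSucc 0, Int.negSucc 2, Int.ofNat 1, Int.negSucc 0, Int.negSucc 0, Int.ofNat 1, Int.negSucc 0, Int.negSucc 0, Int.negSucc 0, Int.negSucc 0, Int.ofNat 1],
  [Int.ofNat 1, Int.negSucc 0, Int.negSucc 0, Int.ofNat 1, Int.ofNat 1, Int.negSucc 0, Int.ofNat 1, Int.ofNat 1, Int.negSucc 0, Int.negSucc 0, Int.negSucc 0, Int.negSucc 0, Int.negSucc 0, Int.negSucc 0, Int.negSucc 2, Int.negSucc 0, Int.negSucc 0, Int.negSucc 0, Int.negSucc 0, Int.negSucc 0, Int.negSucc 0, Int.negSucc 0, Int.ofNat 1, Int.ofNat 1],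
  [Int.negSucc 0, Int.negSucc 0, Int.negSucc 0, Int.negSucc 0, Int.negSucc 2, Int.ofNat 1, Int.negSucc 0, Int.ofNat 1, Int.negSucc 0, Int.negSucc 0, Int.negSucc 0, Int.ofNat 1, Int.negSucc 0, Int.ofNat 1, Int.negSucc 0, Int.negSucc 0, Int.negSucc 0, Int.negSucc 0, Int.negSucc 0, Int.negSucc 0, Int.ofNat 1, Int.negSucc 0, Int.ofNat 1, Int.ofNat 1],
  [Int.ofNat 1, Int.ofNat 1, Int.ofNat 1, Int.ofNat 1, Int.ofNat 3, Int.ofNat 1, Int.ofNat 1, Int.ofNat 1, Int.ofNat 1, Int.ofNat 1, Int.negSucc 0, Int.ofNat 1, Int.ofNat 1, Int.negSucc 0, Int.negSucc 0, Int.negSucc 0, Int.ofNat 1, Int.negSucc 0, Int.ofNat 1, Int.negSucc 0, Int.ofNat 1, Int.negSucc 0, Int.ofNat 1, Int.ofNat 1],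
  [Int.ofNat 1, Int.ofNat 1, Int.ofNat 1, Int.negSucc 0, Int.negSucc 0, Int.ofNat 1, Int.negSucc 0, Int.negSucc 0, Int.ofNat 1, Int.ofNat 1, Int.ofNat 1, Int.ofNat 1, Int.negSucc 0, Int.ofNat 1, Int.ofNat 1, Int.ofNat 1, Int.negSucc 0, Int.ofNat 3, Int.negSucc 0, Int.ofNat 1, Int.ofNat 1, Int.ofNat 1, Int.ofNat 1, Int.ofNat 1],
  [Int.negSucc 0, Int.ofNat 1, Int.negSucc 0, Int.negSucc 0, Int.negSucc 0, Int.ofNat 1, Int.negSucc 0, Int.ofNat 1, Int.ofNat 1, Int.negSucc 0, Int.negSucc 0, Int.negSucc 0, Int.negSucc 0, Int.ofNat 1, Int.ofNat 1, Int.ofNat 1, Int.negSucc 0, Int.ofNat 3, Int.ofNat 1, Int.ofNat 1, Int.ofNat 1, Int.negSucc 0, Int.ofNat 1, Int.ofNat 1],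
  [Int.ofNat 1, Int.negSucc 0, Int.ofNat 1, Int.negSucc 0, Int.negSucc 0, Int.negSucc 0, Int.ofNat 1, Int.negSucc 0, Int.ofNat 1, Int.ofNat 1, Int.negSucc 0, Int.negSucc 0, Int.negSucc 0, Int.negSucc 0, Int.ofNat 1, Int.ofNat 1, Int.ofNat 1, Int.negSucc 0, Int.ofNat 3, Int.ofNat 1, Int.ofNat 1, Int.ofNat 1, Int.negSucc 0, Int.ofNat 1],
  [Int.ofNat 0, Int.ofNat 2, Int.ofNat 0, Int.ofNat 0, Int.ofNat 0, Int.ofNat 0, Int.ofNat 0, Int.negSucc 1, Int.ofNat 0, Int.ofNat 0, Int.negSucc 1, Int.negSucc 1, Int.negSucc 1, Int.ofNat 0, Int.ofNat 2, Int.ofNat 0, Int.ofNat 2, Int.ofNat 0, Int.ofNat 2, Int.ofNat 0, Int.ofNat 0, Int.ofNat 0, Int.ofNat 0, Int.ofNat 0],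
  [Int.ofNat 0, Int.ofNat 0, Int.ofNat 0, Int.ofNat 0, Int.negSucc 1, Int.ofNat 0, Int.ofNat 0, Int.negSucc 1, Int.negSucc 1, Int.negSucc 1, Int.ofNat 0, Int.ofNat 2, Int.ofNat 0, Int.ofNat 2, Int.ofNat 0, Int.ofNat 2, Int.ofNat 0, Int.ofNat 0, Int.ofNat 0, Int.ofNat 0, Int.ofNat 0, Int.ofNat 2, Int.ofNat 0, Int.ofNat 0],
  [Int.ofNat 0, Int.ofNat 0, Int.ofNat 0, Int.ofNat 0, Int.negSucc 1, Int.ofNat 0, Int.ofNat 0, Int.negSucc 1, Int.negSucc 1, Int.negSucc 1, Int.ofNat 0, Int.ofNat 2, Int.ofNat 0, Int.ofNat 2, Int.ofNat 0, Int.ofNat 2, Int.ofNat 0, Int.ofNat 0, Int.ofNat 0, Int.ofNat 0, Int.ofNat 0, Int.ofNat 2, Int.ofNat 0, Int.ofNat 0],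
  [Int.ofNat 0, Int.ofNat 0, Int.negSucc 1, Int.ofNat 0, Int.ofNat 0, Int.negSucc 1, Int.ofNat 0, Int.ofNat 0, Int.ofNat 0, Int.ofNat 2, Int.ofNat 0, Int.ofNat 0, Int.negSucc 1, Int.ofNat 0, Int.ofNat 0, Int.ofNat 2, Int.negSucc 1, Int.ofNat 0, Int.ofNat 0, Int.ofNat 2, Int.ofNat 2, Int.ofNat 0, Int.ofNat 0, Int.ofNat 0],
  [Int.negSucc 0, Int.negSucc 0, Int.ofNat 1, Int.ofNat 1, Int.ofNat 1, Int.negSucc 0, Int.negSucc 0, Int.negSucc 0, Int.ofNat 1, Int.negSucc 0, Int.negSucc 2, Int.ofNat 1, Int.negSucc 0, Int.ofNat 1, Int.ofNat 1, Int.negSucc 0, Int.negSucc 0, Int.ofNat 1, Int.ofNat 1, Int.ofNat 1, Int.negSucc 0, Int.negSucc 0, Int.ofNat 1, Int.negSucc 0],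
  [Int.negSucc 0, Int.negSucc 0, Int.negSucc 0, Int.ofNat 1, Int.ofNat 1, Int.ofNat 1, Int.ofNat 1, Int.negSucc 0, Int.ofNat 1, Int.ofNat 1, Int.ofNat 3, Int.ofNat 1, Int.negSucc 0, Int.ofNat 1, Int.ofNat 1, Int.ofNat 1, Int.negSucc 0, Int.ofNat 1, Int.negSucc 0, Int.ofNat 1, Int.negSucc 0, Int.negSucc 0, Int.negSucc 0, Int.negSucc 0],
  [Int.ofNat 1, Int.negSucc 0, Int.ofNat 1, Int.negSucc 0, Int.ofNat 1, Int.ofNat 1, Int.negSucc 0, Int.ofNat 1, Int.negSucc 0, Int.ofNat 1, Int.negSucc 0, Int.negSucc 0, Int.negSucc 0, Int.ofNat 1, Int.negSucc 0, Int.negSucc 0, Int.ofNat 1, Int.ofNat 1, Int.negSucc 0, Int.ofNat 1, Int.ofNat 1, Int.ofNat 3, Int.ofNat 1, Int.negSucc 0],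
  [Int.ofNat 1, Int.negSucc 0, Int.negSucc 0, Int.negSucc 0, Int.ofNat 1, Int.negSucc 0, Int.ofNat 1, Int.ofNat 1, Int.negSucc 0, Int.negSucc 0, Int.ofNat 1, Int.negSucc 0, Int.negSucc 0, Int.ofNat 1, Int.negSucc 0, Int.ofNat 1, Int.ofNat 1, Int.ofNat 1, Int.ofNat 1, Int.ofNat 1, Int.ofNat 1, Int.ofNat 3, Int.negSucc 0, Int.negSucc 0],
  [Int.negSucc 1, Int.ofNat 0, Int.ofNat 0, Int.ofNat 0, Int.ofNat 0, Int.ofNat 0, Int.negSucc 1, Int.negSucc 1, Int.ofNat 0, Int.negSucc 1, Int.ofNat 0, Int.ofNat 0, Int.ofNat 0, Int.ofNat 0, Int.ofNat 0, Int.ofNat 0, Int.ofNat 0, Int.ofNat 2, Int.ofNat 2, Int.negSucc 1, Int.ofNat 0, Int.ofNat 0, Int.negSucc 1, Int.ofNat 0],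
  [Int.negSucc 1, Int.ofNat 2, Int.negSucc 1, Int.ofNat 0, Int.ofNat 0, Int.ofNat 0, Int.ofNat 0, Int.ofNat 0, Int.ofNat 0, Int.ofNat 0, Int.negSucc 1, Int.negSucc 1, Int.ofNat 0, Int.negSucc 1, Int.ofNat 2, Int.ofNat 0, Int.ofNat 0, Int.ofNat 0, Int.ofNat 0, Int.negSucc 1, Int.ofNat 0, Int.ofNat 0, Int.ofNat 0, Int.ofNat 0],
  [Int.ofNat 1, Int.negSucc 2, Int.ofNat 1, Int.negSucc 0, Int.ofNat 1, Int.negSucc 0, Int.ofNat 1, Int.ofNat 1, Int.ofNat 1, Int.ofNat 1, Int.negSucc 0, Int.negSucc 0, Int.ofNat 1, Int.negSucc 0, Int.ofNat 1, Int.ofNat 1, Int.ofNat 1, Int.negSucc 0, Int.ofNat 1, Int.negSucc 0, Int.ofNat 1, Int.ofNat 1, Int.ofNat 1, Int.negSucc 0],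
  [Int.ofNat 1, Int.ofNat 1, Int.ofNat 1, Int.ofNat 1, Int.negSucc 2, Int.ofNat 1, Int.negSucc 0, Int.ofNat 1, Int.negSucc 0, Int.ofNat 1, Int.ofNat 1, Int.ofNat 1, Int.ofNat 1, Int.negSucc 0, Int.negSucc 0, Int.ofNat 1, Int.negSucc 0, Int.ofNat 1, Int.ofNat 1, Int.ofNat 1, Int.negSucc 0, Int.ofNat 1, Int.negSucc 0, Int.negSucc 0],
  [Int.ofNat 0, Int.ofNat 0, Int.ofNat 0, Int.ofNat 0, Int.ofNat 0, Int.ofNat 0, Int.negSucc 1, Int.ofNat 0, Int.negSucc 1, Int.ofNat 0, Int.ofNat 0, Int.ofNat 0, Int.ofNat 0, Int.ofNat 2, Int.negSucc 1, Int.ofNat 0, Int.ofNat 2, Int.ofNat 0, Int.ofNat 0, Int.ofNat 0, Int.negSucc 1, Int.ofNat 0, Int.ofNat 2, Int.ofNat 2],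
  [Int.ofNat 0, Int.ofNat 0, Int.ofNat 0, Int.ofNat 0, Int.ofNat 0, Int.negSucc 1, Int.ofNat 0, Int.negSucc 1, Int.ofNat 0, Int.ofNat 0, Int.ofNat 0, Int.ofNat 0, Int.ofNat 2, Int.negSucc 1, Int.ofNat 0, Int.ofNat 2, Int.ofNat 0, Int.ofNat 0, Int.ofNat 0, Int.negSucc 1, Int.ofNat 0, Int.ofNat 2, Int.ofNat 0, Int.ofNat 2],
  [Int.ofNat 0, Int.ofNat 0, Int.ofNat 0, Int.ofNat 0, Int.ofNat 0, Int.negSucc 1, Int.ofNat 0, Int.ofNat 2, Int.ofNat 0, Int.ofNat 0, Int.ofNat 0, Int.ofNat 0, Int.ofNat 2, Int.negSucc 1, Int.ofNat 0, Int.ofNat 2, Int.ofNat 0, Int.ofNat 0, Int.ofNat 0, Int.negSucc 1, Int.ofNat 0, Int.negSucc 1, Int.ofNat 0, Int.ofNat 2],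
  [Int.ofNat 0, Int.ofNat 0, Int.ofNat 0, Int.ofNat 0, Int.ofNat 0, Int.ofNat 0, Int.ofNat 0, Int.ofNat 0, Int.ofNat 0, Int.ofNat 0, Int.negSucc 1, Int.ofNat 0, Int.negSucc 1, Int.ofNat 0, Int.negSucc 1, Int.ofNat 2, Int.ofNat 2, Int.ofNat 0, Int.ofNat 0, Int.ofNat 0, Int.negSucc 1, Int.ofNat 2, Int.ofNat 0, Int.ofNat 2],
  [Int.ofNat 0, Int.ofNat 0, Int.ofNat 0, Int.ofNat 0, Int.ofNat 0, Int.ofNat 0, Int.ofNat 0, Int.ofNat 0, Int.ofNat 0, Int.ofNat 0, Int.ofNat 2, Int.ofNat 0, Int.negSucc 1, Int.ofNat 0, Int.negSucc 1, Int.ofNat 2, Int.ofNat 2, Int.ofNat 0, Int.ofNat 0, Int.ofNat 0, Int.negSucc 1, Int.negSucc 1, Int.ofNat 0, Int.ofNat 2],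
  [Int.ofNat 0, Int.ofNat 0, Int.ofNat 0, Int.ofNat 0, Int.ofNat 0, Int.ofNat 0, Int.ofNat 0, Int.ofNat 0, Int.ofNat 0, Int.ofNat 0, Int.ofNat 0, Int.ofNat 2, Int.ofNat 0, Int.negSucc 1, Int.ofNat 0, Int.negSucc 1, Int.ofNat 2, Int.ofNat 2, Int.ofNat 0, Int.ofNat 0, Int.ofNat 0, Int.negSucc 1, Int.negSucc 1, Int.ofNat 2],
  [Int.ofNat 1, Int.ofNat 1, Int.ofNat 1, Int.negSucc 0, Int.ofNat 1, Int.negSucc 0, Int.ofNat 1, Int.ofNat 1, Int.negSucc 0, Int.ofNat 1, Int.ofNat 1, Int.ofNat 1, Int.negSucc 0, Int.negSucc 0, Int.negSucc 0, Int.negSucc 0, Int.ofNat 3, Int.ofNat 1, Int.negSucc 0, Int.ofNat 1, Int.ofNat 1, Int.negSucc 0, Int.negSucc 0, Int.negSucc 0],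
  [Int.negSucc 0, Int.ofNat 1, Int.negSucc 0, Int.ofNat 1, Int.ofNat 1, Int.negSucc 0, Int.ofNat 1, Int.ofNat 1, Int.ofNat 1, Int.negSucc 0, Int.negSucc 0, Int.negSucc 0, Int.negSucc 0, Int.ofNat 3, Int.ofNat 1, Int.negSucc 0, Int.ofNat 1, Int.ofNat 1, Int.negSucc 0, Int.negSucc 0, Int.ofNat 1, Int.ofNat 1, Int.ofNat 1, Int.negSucc 0],
  [Int.ofNat 0, Int.negSucc 1, Int.ofNat 0, Int.ofNat 0, Int.negSucc 1, Int.negSucc 1, Int.ofNat 0, Int.ofNat 0, Int.ofNat 2, Int.ofNat 0, Int.ofNat 0, Int.ofNat 0, Int.ofNat 0, Int.ofNat 0, Int.ofNat 0, Int.ofNat 0, Int.negSucc 1, Int.ofNat 0, Int.ofNat 0, Int.negSucc 1, Int.ofNat 2, Int.ofNat 0, Int.negSucc 1, Int.ofNat 0],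
  [Int.ofNat 0, Int.ofNat 0, Int.negSucc 1, Int.ofNat 0, Int.ofNat 0, Int.ofNat 0, Int.ofNat 0, Int.ofNat 0, Int.ofNat 0, Int.ofNat 0, Int.ofNat 2, Int.ofNat 0, Int.ofNat 0, Int.negSucc 1, Int.negSucc 1, Int.ofNat 0, Int.ofNat 2, Int.ofNat 0, Int.negSucc 1, Int.ofNat 0, Int.ofNat 0, Int.negSucc 1, Int.negSucc 1, Int.ofNat 0],
  [Int.negSucc 0, Int.negSucc 0, Int.ofNat 1, Int.ofNat 1, Int.ofNat 1, Int.ofNat 1, Int.ofNat 1, Int.ofNat 1, Int.ofNat 1, Int.negSucc 0, Int.ofNat 1, Int.ofNat 1, Int.ofNat 1, Int.negSucc 0, Int.negSucc 0, Int.negSucc 0, Int.ofNat 3, Int.ofNat 1, Int.negSucc 0, Int.ofNat 1, Int.negSucc 0, Int.negSucc 0, Int.negSucc 0, Int.negSucc 0],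
  [Int.negSucc 0, Int.negSucc 0, Int.negSucc 0, Int.ofNat 1, Int.ofNat 1, Int.negSucc 0, Int.negSucc 0, Int.ofNat 1, Int.ofNat 1, Int.ofNat 1, Int.negSucc 0, Int.ofNat 1, Int.ofNat 1, Int.negSucc 0, Int.negSucc 0, Int.ofNat 1, Int.ofNat 3, Int.ofNat 1, Int.ofNat 1, Int.ofNat 1, Int.negSucc 0, Int.negSucc 0, Int.ofNat 1, Int.negSucc 0],
  [Int.negSucc 0, Int.ofNat 3, Int.ofNat 1, Int.ofNat 1, Int.negSucc 0, Int.negSucc 0, Int.negSucc 0, Int.ofNat 1, Int.negSucc 0, Int.negSucc 0, Int.negSucc 0, Int.ofNat 1, Int.ofNat 1, Int.ofNat 1, Int.ofNat 1, Int.ofNat 1, Int.ofNat 1, Int.ofNat 1, Int.ofNat 1, Int.negSucc 0, Int.negSucc 0, Int.negSucc 0, Int.ofNat 1, Int.negSucc 0],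
  [Int.ofNat 1, Int.negSucc 2, Int.negSucc 0, Int.negSucc 0, Int.ofNat 1, Int.negSucc 0, Int.ofNat 1, Int.ofNat 1, Int.ofNat 1, Int.ofNat 1, Int.negSucc 0, Int.ofNat 1, Int.negSucc 0, Int.negSucc 0, Int.ofNat 1, Int.ofNat 1, Int.negSucc 0, Int.ofNat 1, Int.negSucc 0, Int.negSucc 0, Int.negSucc 0, Int.negSucc 0, Int.ofNat 1, Int.negSucc 0],
  [Int.negSucc 0, Int.ofNat 1, Int.ofNat 1, Int.ofNat 1, Int.ofNat 1, Int.ofNat 1, Int.negSucc 0, Int.negSucc 0, Int.negSucc 0, Int.negSucc 0, Int.negSucc 0, Int.negSucc 0, Int.negSucc 0, Int.ofNat 1, Int.negSucc 0, Int.negSucc 0, Int.negSucc 0, Int.ofNat 1, Int.ofNat 1, Int.ofNat 1, Int.ofNat 1, Int.negSucc 0, Int.negSucc 2, Int.ofNat 1],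
  [Int.ofNat 1, Int.ofNat 1, Int.negSucc 0, Int.ofNat 1, Int.ofNat 1, Int.ofNat 1, Int.negSucc 0, Int.ofNat 1, Int.negSucc 0, Int.ofNat 1, Int.ofNat 1, Int.ofNat 1, Int.negSucc 0, Int.ofNat 1, Int.negSucc 0, Int.negSucc 0, Int.negSucc 0, Int.ofNat 1, Int.negSucc 0, Int.ofNat 1, Int.ofNat 1, Int.ofNat 1, Int.negSucc 2, Int.ofNat 1],
  [Int.negSucc 2, Int.ofNat 1, Int.ofNat 1, Int.negSucc 0, Int.ofNat 1, Int.ofNat 1, Int.ofNat 1, Int.negSucc 0, Int.ofNat 1, Int.negSucc 0, Int.ofNat 1, Int.ofNat 1, Int.ofNat 1, Int.negSucc 0, Int.ofNat 1, Int.negSucc 0, Int.negSucc 0, Int.negSucc 0, Int.ofNat 1, Int.negSucc 0, Int.ofNat 1, Int.ofNat 1, Int.ofNat 1, Int.ofNat 1],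
  [Int.ofNat 3, Int.negSucc 0, Int.negSucc 0, Int.negSucc 0, Int.ofNat 1, Int.ofNat 1, Int.ofNat 1, Int.negSucc 0, Int.negSucc 0, Int.negSucc 0, Int.ofNat 1, Int.negSucc 0, Int.negSucc 0, Int.negSucc 0, Int.ofNat 1, Int.negSucc 0, Int.negSucc 0, Int.negSucc 0, Int.negSucc 0, Int.negSucc 0, Int.ofNat 1, Int.ofNat 1, Int.ofNat 1, Int.negSucc 0],
  [Int.negSucc 0, Int.ofNat 1, Int.ofNat 1, Int.ofNat 1, Int.negSucc 0, Int.negSucc 0, Int.negSucc 0, Int.ofNat 1, Int.negSucc 0, Int.negSucc 0, Int.negSucc 0, Int.ofNat 1, Int.negSucc 0, Int.negSucc 0, Int.negSucc 0, Int.negSucc 0, Int.negSucc 0, Int.ofNat 1, Int.ofNat 1, Int.ofNat 1, Int.ofNat 3, Int.negSucc 0, Int.negSucc 0, Int.negSucc 0],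
  [Int.ofNat 1, Int.negSucc 0, Int.negSucc 0, Int.ofNat 1, Int.ofNat 1, Int.negSucc 0, Int.negSucc 0, Int.ofNat 1, Int.negSucc 0, Int.negSucc 0, Int.negSucc 0, Int.ofNat 1, Int.negSucc 0, Int.ofNat 1, Int.negSucc 0, Int.negSucc 0, Int.ofNat 1, Int.ofNat 1, Int.ofNat 1, Int.ofNat 1, Int.ofNat 3, Int.negSucc 0, Int.ofNat 1, Int.ofNat 1],
  [Int.ofNat 1, Int.negSucc 0, Int.ofNat 1, Int.ofNat 1, Int.ofNat 1, Int.ofNat 1, Int.negSucc 0, Int.negSucc 0, Int.negSucc 0, Int.ofNat 1, Int.ofNat 3, Int.ofNat 1, Int.negSucc 0, Int.ofNat 1, Int.ofNat 1, Int.negSucc 0, Int.negSucc 0, Int.negSucc 0, Int.negSucc 0, Int.ofNat 1, Int.negSucc 0, Int.negSucc 0, Int.ofNat 1, Int.ofNat 1],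
  [Int.ofNat 0, Int.ofNat 2, Int.ofNat 0, Int.ofNat 0, Int.ofNat 0, Int.ofNat 0, Int.ofNat 0, Int.ofNat 0, Int.ofNat 0, Int.ofNat 0, Int.ofNat 2, Int.ofNat 2, Int.ofNat 0, Int.ofNat 0, Int.ofNat 0, Int.negSucc 1, Int.negSucc 1, Int.negSucc 1, Int.ofNat 0, Int.ofNat 2, Int.negSucc 1, Int.ofNat 0, Int.ofNat 0, Int.ofNat 0],
  [Int.ofNat 0, Int.ofNat 2, Int.ofNat 0, Int.ofNat 0, Int.ofNat 0, Int.ofNat 0, Int.ofNat 0, Int.ofNat 0, Int.ofNat 0, Int.ofNat 0, Int.negSucc 1, Int.ofNat 2, Int.ofNat 0, Int.ofNat 0, Int.ofNat 0, Int.ofNat 2, Int.negSucc 1, Int.negSucc 1, Int.ofNat 0, Int.ofNat 2, Int.negSucc 1, Int.ofNat 0, Int.ofNat 0, Int.ofNat 0],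
  [Int.negSucc 1, Int.ofNat 0, Int.ofNat 0, Int.negSucc 1, Int.ofNat 0, Int.ofNat 2, Int.ofNat 0, Int.ofNat 0, Int.ofNat 0, Int.ofNat 2, Int.ofNat 0, Int.ofNat 0, Int.ofNat 0, Int.ofNat 0, Int.ofNat 2, Int.ofNat 0, Int.ofNat 0, Int.ofNat 0, Int.negSucc 1, Int.ofNat 0, Int.ofNat 0, Int.negSucc 1, Int.ofNat 2, Int.ofNat 0],
  [Int.negSucc 1, Int.ofNat 0, Int.ofNat 0, Int.negSucc 1, Int.ofNat 0, Int.negSucc 1, Int.ofNat 0, Int.ofNat 0, Int.ofNat 0, Int.negSucc 1, Int.ofNat 0, Int.ofNat 0, Int.ofNat 0, Int.ofNat 0, Int.ofNat 2, Int.ofNat 0, Int.ofNat 0, Int.ofNat 0, Int.ofNat 2, Int.ofNat 0, Int.ofNat 0, Int.negSucc 1, Int.negSucc 1, Int.ofNat 0],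
  [Int.ofNat 1, Int.negSucc 0, Int.negSucc 0, Int.negSucc 0, Int.ofNat 1, Int.negSucc 0, Int.ofNat 1, Int.ofNat 1, Int.negSucc 0, Int.negSucc 0, Int.ofNat 1, Int.negSucc 0, Int.negSucc 0, Int.ofNat 1, Int.ofNat 3, Int.ofNat 1, Int.ofNat 1, Int.ofNat 1, Int.ofNat 1, Int.ofNat 1, Int.ofNat 1, Int.negSucc 0, Int.negSucc 0, Int.negSucc 0],
  [Int.ofNat 1, Int.ofNat 1, Int.ofNat 1, Int.negSucc 0, Int.negSucc 0, Int.negSucc 0, Int.negSucc 0, Int.negSucc 0, Int.ofNat 1, Int.negSucc 0, Int.ofNat 1, Int.ofNat 1, Int.negSucc 0, Int.negSucc 0, Int.ofNat 1, Int.ofNat 1, Int.ofNat 1, Int.negSucc 0, Int.ofNat 1, Int.negSucc 0, Int.ofNat 1, Int.ofNat 1, Int.ofNat 3, Int.negSucc 0],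
  [Int.ofNat 0, Int.ofNat 0, Int.ofNat 0, Int.ofNat 0, Int.negSucc 1, Int.ofNat 0, Int.ofNat 0, Int.ofNat 0, Int.ofNat 0, Int.negSucc 1, Int.ofNat 0, Int.ofNat 0, Int.negSucc 1, Int.negSucc 1, Int.ofNat 2, Int.ofNat 0, Int.ofNat 0, Int.ofNat 0, Int.ofNat 0, Int.ofNat 0, Int.ofNat 0, Int.ofNat 2, Int.ofNat 2, Int.ofNat 2],
  [Int.ofNat 0, Int.ofNat 2, Int.ofNat 2, Int.ofNat 0, Int.ofNat 0, Int.ofNat 0, Int.ofNat 0, Int.negSucc 1, Int.ofNat 0, Int.ofNat 0, Int.ofNat 0, Int.ofNat 0, Int.negSucc 1, Int.ofNat 0, Int.ofNat 0, Int.negSucc 1, Int.negSucc 1, Int.ofNat 2, Int.ofNat 0, Int.ofNat 0, Int.ofNat 0, Int.ofNat 0, Int.ofNat 0, Int.ofNat 2],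
  [Int.ofNat 3, Int.ofNat 1, Int.ofNat 1, Int.negSucc 0, Int.ofNat 1, Int.negSucc 0, Int.ofNat 1, Int.negSucc 0, Int.ofNat 1, Int.ofNat 1, Int.ofNat 1, Int.ofNat 1, Int.negSucc 0, Int.ofNat 1, Int.negSucc 0, Int.negSucc 0, Int.negSucc 0, Int.ofNat 1, Int.ofNat 1, Int.ofNat 1, Int.ofNat 1, Int.ofNat 1, Int.ofNat 1, Int.ofNat 1],
  [Int.ofNat 1, Int.ofNat 1, Int.negSucc 0, Int.ofNat 1, Int.negSucc 0, Int.ofNat 1, Int.negSucc 0, Int.ofNat 1, Int.ofNat 1, Int.ofNat 1, Int.ofNat 1, Int.negSucc 0, Int.ofNat 1, Int.negSucc 0, Int.negSucc 0, Int.negSucc 0, Int.ofNat 1, Int.ofNat 1, Int.ofNat 1, Int.ofNat 1, Int.ofNat 1, Int.ofNat 1, Int.ofNat 3, Int.ofNat 1],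
  [Int.negSucc 0, Int.ofNat 1, Int.ofNat 1, Int.ofNat 1, Int.negSucc 0, Int.ofNat 1, Int.negSucc 0, Int.negSucc 0, Int.ofNat 1, Int.negSucc 0, Int.negSucc 0, Int.ofNat 1, Int.ofNat 1, Int.negSucc 0, Int.negSucc 0, Int.negSucc 0, Int.ofNat 1, Int.ofNat 1, Int.negSucc 0, Int.ofNat 1, Int.ofNat 1, Int.negSucc 0, Int.ofNat 3, Int.ofNat 1],
  [Int.negSucc 0, Int.ofNat 1, Int.negSucc 0, Int.ofNat 1, Int.ofNat 1, Int.negSucc 0, Int.negSucc 0, Int.ofNat 1, Int.negSucc 0, Int.ofNat 1, Int.negSucc 0, Int.negSucc 0, Int.negSucc 0, Int.ofNat 1, Int.ofNat 1, Int.negSucc 0, Int.ofNat 1, Int.ofNat 3, Int.negSucc 0, Int.ofNat 1, Int.ofNat 1, Int.negSucc 0, Int.ofNat 1, Int.ofNat 1],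
  [Int.ofNat 1, Int.ofNat 1, Int.ofNat 1, Int.ofNat 1, Int.ofNat 1, Int.negSucc 0, Int.negSucc 0, Int.negSucc 0, Int.negSucc 0, Int.negSucc 0, Int.ofNat 1, Int.ofNat 1, Int.negSucc 0, Int.ofNat 1, Int.ofNat 1, Int.negSucc 0, Int.ofNat 1, Int.ofNat 3, Int.ofNat 1, Int.ofNat 1, Int.ofNat 1, Int.ofNat 1, Int.ofNat 1, Int.ofNat 1],
  [Int.ofNat 1, Int.ofNat 1, Int.ofNat 1, Int.ofNat 1, Int.ofNat 1, Int.ofNat 1, Int.negSucc 0, Int.negSucc 0, Int.negSucc 0, Int.negSucc 0, Int.negSucc 0, Int.ofNat 1, Int.ofNat 1, Int.negSucc 0, Int.ofNat 1, Int.ofNat 1, Int.negSucc 0, Int.ofNat 1, Int.ofNat 3, Int.ofNat 1, Int.ofNat 1, Int.ofNat 1, Int.ofNat 1, Int.ofNat 1],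
  [Int.ofNat 1, Int.ofNat 1, Int.ofNat 1, Int.negSucc 0, Int.ofNat 1, Int.negSucc 0, Int.negSucc 0, Int.negSucc 0, Int.negSucc 2, Int.negSucc 0, Int.negSucc 0, Int.negSucc 0, Int.negSucc 0, Int.negSucc 0, Int.negSucc 0, Int.ofNat 1, Int.negSucc 0, Int.negSucc 0, Int.ofNat 1, Int.ofNat 1, Int.ofNat 1, Int.ofNat 1, Int.ofNat 1, Int.ofNat 1],
  [Int.negSucc 0, Int.ofNat 1, Int.negSucc 0, Int.negSucc 0, Int.negSucc 0, Int.negSucc 2, Int.negSucc 0, Int.negSucc 0, Int.negSucc 0, Int.negSucc 0, Int.negSucc 0, Int.negSucc 0, Int.ofNat 1, Int.negSucc 0, Int.negSucc 0, Int.ofNat 1, Int.ofNat 1, Int.ofNat 1, Int.ofNat 1, Int.ofNat 1, Int.ofNat 1, Int.ofNat 1, Int.ofNat 1, Int.ofNat 1],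
  [Int.ofNat 1, Int.negSucc 0, Int.ofNat 1, Int.ofNat 1, Int.negSucc 0, Int.negSucc 0, Int.negSucc 0, Int.negSucc 0, Int.negSucc 0, Int.negSucc 0, Int.negSucc 0, Int.negSucc 0, Int.ofNat 1, Int.negSucc 0, Int.ofNat 1, Int.ofNat 1, Int.ofNat 1, Int.ofNat 3, Int.ofNat 1, Int.ofNat 1, Int.ofNat 1, Int.ofNat 1, Int.ofNat 1, Int.negSucc 0],
  [Int.ofNat 1, Int.negSucc 0, Int.negSucc 0, Int.ofNat 1, Int.ofNat 1, Int.negSucc 0, Int.ofNat 1, Int.negSucc 0, Int.ofNat 1, Int.negSucc 0, Int.ofNat 1, Int.ofNat 3, Int.negSucc 0, Int.ofNat 1, Int.ofNat 1, Int.ofNat 1, Int.negSucc 0, Int.ofNat 1, Int.negSucc 0, Int.negSucc 0, Int.ofNat 1, Int.negSucc 0, Int.ofNat 1, Int.negSucc 0],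
  [Int.negSucc 1, Int.ofNat 0, Int.ofNat 0, Int.ofNat 0, Int.ofNat 0, Int.negSucc 1, Int.ofNat 2, Int.ofNat 0, Int.ofNat 0, Int.negSucc 1, Int.ofNat 0, Int.ofNat 2, Int.negSucc 1, Int.ofNat 0, Int.ofNat 0, Int.ofNat 0, Int.negSucc 1, Int.ofNat 0, Int.negSucc 1, Int.ofNat 0, Int.ofNat 0, Int.ofNat 0, Int.ofNat 0, Int.ofNat 0],
  [Int.negSucc 1, Int.ofNat 0, Int.ofNat 0, Int.ofNat 0, Int.ofNat 0, Int.ofNat 2, Int.negSucc 1, Int.ofNat 0, Int.ofNat 0, Int.ofNat 2, Int.ofNat 0, Int.ofNat 2, Int.negSucc 1, Int.ofNat 0, Int.ofNat 0, Int.ofNat 0, Int.negSucc 1, Int.ofNat 0, Int.ofNat 2, Int.ofNat 0, Int.ofNat 0, Int.ofNat 0, Int.ofNat 0, Int.ofNat 0],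
  [Int.ofNat 0, Int.negSucc 1, Int.ofNat 2, Int.ofNat 0, Int.ofNat 0, Int.negSucc 1, Int.ofNat 0, Int.ofNat 0, Int.ofNat 2, Int.ofNat 0, Int.ofNat 0, Int.ofNat 0, Int.ofNat 0, Int.ofNat 0, Int.ofNat 0, Int.ofNat 2, Int.ofNat 0, Int.negSucc 1, Int.ofNat 2, Int.ofNat 0, Int.negSucc 1, Int.ofNat 0, Int.ofNat 0, Int.ofNat 0],
  [Int.ofNat 0, Int.ofNat 2, Int.negSucc 1, Int.ofNat 0, Int.ofNat 0, Int.negSucc 1, Int.ofNat 0, Int.ofNat 0, Int.negSucc 1, Int.ofNat 0, Int.ofNat 0, Int.ofNat 0, Int.ofNat 0, Int.ofNat 0, Int.ofNat 0, Int.ofNat 2, Int.ofNat 0, Int.negSucc 1, Int.negSucc 1, Int.ofNat 0, Int.negSucc 1, Int.ofNat 0, Int.ofNat 0, Int.ofNat 0],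
  [Int.ofNat 0, Int.ofNat 0, Int.ofNat 0, Int.ofNat 2, Int.negSucc 1, Int.ofNat 0, Int.ofNat 0, Int.ofNat 0, Int.negSucc 1, Int.negSucc 1, Int.ofNat 0, Int.negSucc 1, Int.ofNat 0, Int.ofNat 0, Int.negSucc 1, Int.ofNat 0, Int.ofNat 0, Int.ofNat 0, Int.ofNat 0, Int.ofNat 0, Int.negSucc 1, Int.ofNat 0, Int.ofNat 2, Int.ofNat 0],
  [Int.ofNat 0, Int.ofNat 0, Int.ofNat 0, Int.ofNat 2, Int.negSucc 1, Int.ofNat 0, Int.ofNat 0, Int.ofNat 0, Int.negSucc 1, Int.ofNat 2, Int.ofNat 0, Int.ofNat 2, Int.ofNat 0, Int.ofNat 0, Int.negSucc 1, Int.ofNat 0, Int.ofNat 0, Int.ofNat 0, Int.ofNat 0, Int.ofNat 0, Int.negSucc 1, Int.ofNat 0, Int.ofNat 2, Int.ofNat 0],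
  [Int.ofNat 2, Int.ofNat 0, Int.ofNat 0, Int.ofNat 0, Int.ofNat 2, Int.negSucc 1, Int.ofNat 0, Int.ofNat 0, Int.ofNat 0, Int.negSucc 1, Int.ofNat 2, Int.ofNat 0, Int.ofNat 2, Int.ofNat 0, Int.ofNat 0, Int.negSucc 1, Int.ofNat 0, Int.ofNat 0, Int.ofNat 0, Int.ofNat 0, Int.ofNat 0, Int.negSucc 1, Int.ofNat 0, Int.ofNat 0],
  [Int.negSucc 0, Int.ofNat 1, Int.ofNat 1, Int.ofNat 1, Int.ofNat 1, Int.negSucc 0, Int.ofNat 1, Int.ofNat 1, Int.negSucc 0, Int.negSucc 0, Int.ofNat 3, Int.negSucc 0, Int.ofNat 1, Int.negSucc 0, Int.ofNat 1, Int.negSucc 0, Int.negSucc 0, Int.ofNat 1, Int.negSucc 0, Int.ofNat 1, Int.ofNat 1, Int.negSucc 0, Int.negSucc 0, Int.ofNat 1],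
  [Int.ofNat 1, Int.ofNat 1, Int.negSucc 0, Int.ofNat 1, Int.ofNat 1, Int.negSucc 0, Int.negSucc 0, Int.ofNat 3, Int.negSucc 0, Int.ofNat 1, Int.negSucc 0, Int.ofNat 1, Int.negSucc 0, Int.negSucc 0, Int.ofNat 1, Int.negSucc 0, Int.ofNat 1, Int.ofNat 1, Int.negSucc 0, Int.negSucc 0, Int.negSucc 0, Int.ofNat 1, Int.ofNat 1, Int.ofNat 1],
  [Int.ofNat 0, Int.ofNat 0, Int.ofNat 2, Int.ofNat 0, Int.ofNat 0, Int.negSucc 1, Int.negSucc 1, Int.ofNat 2, Int.ofNat 0, Int.ofNat 2, Int.ofNat 0, Int.ofNat 2, Int.ofNat 0, Int.negSucc 1, Int.ofNat 0, Int.ofNat 0, Int.ofNat 0, Int.ofNat 0, Int.ofNat 0, Int.negSucc 1, Int.ofNat 0, Int.ofNat 0, Int.ofNat 0, Int.ofNat 0],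
  [Int.ofNat 0, Int.negSucc 1, Int.ofNat 0, Int.ofNat 0, Int.ofNat 0, Int.ofNat 2, Int.ofNat 2, Int.ofNat 0, Int.ofNat 0, Int.negSucc 1, Int.ofNat 0, Int.ofNat 0, Int.ofNat 2, Int.ofNat 0, Int.ofNat 0, Int.ofNat 0, Int.ofNat 0, Int.ofNat 0, Int.ofNat 0, Int.ofNat 2, Int.ofNat 0, Int.negSucc 1, Int.negSucc 1, Int.ofNat 0],
  [Int.negSucc 0, Int.ofNat 1, Int.negSucc 0, Int.negSucc 0, Int.ofNat 1, Int.ofNat 1, Int.ofNat 1, Int.negSucc 0, Int.negSucc 0, Int.negSucc 0, Int.ofNat 1, Int.negSucc 0, Int.ofNat 1, Int.ofNat 1, Int.negSucc 0, Int.ofNat 1, Int.ofNat 1, Int.negSucc 0, Int.negSucc 0, Int.ofNat 1, Int.ofNat 1, Int.negSucc 2, Int.negSucc 0, Int.negSucc 0],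
  [Int.negSucc 0, Int.ofNat 1, Int.ofNat 1, Int.negSucc 0, Int.ofNat 1, Int.negSucc 0, Int.negSucc 0, Int.negSucc 0, Int.negSucc 0, Int.ofNat 1, Int.negSucc 0, Int.negSucc 0, Int.ofNat 1, Int.ofNat 1, Int.negSucc 0, Int.negSucc 0, Int.ofNat 1, Int.negSucc 0, Int.ofNat 1, Int.ofNat 1, Int.ofNat 1, Int.negSucc 2, Int.ofNat 1, Int.negSucc 0],
  [Int.negSucc 0, Int.ofNat 1, Int.ofNat 1, Int.ofNat 1, Int.negSucc 0, Int.negSucc 0, Int.ofNat 1, Int.negSucc 0, Int.negSucc 0, Int.negSucc 0, Int.ofNat 1, Int.ofNat 1, Int.negSucc 0, Int.negSucc 0, Int.ofNat 1, Int.negSucc 2, Int.ofNat 1, Int.negSucc 0, Int.ofNat 1, Int.ofNat 1, Int.negSucc 0, Int.negSucc 0, Int.ofNat 1, Int.negSucc 0],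
  [Int.negSucc 0, Int.ofNat 1, Int.negSucc 0, Int.ofNat 1, Int.negSucc 0, Int.ofNat 1, Int.negSucc 0, Int.negSucc 0, Int.negSucc 0, Int.ofNat 1, Int.negSucc 0, Int.ofNat 1, Int.negSucc 0, Int.negSucc 0, Int.ofNat 1, Int.ofNat 3, Int.ofNat 1, Int.negSucc 0, Int.negSucc 0, Int.ofNat 1, Int.negSucc 0, Int.negSucc 0, Int.negSucc 0, Int.negSucc 0],
  [Int.ofNat 0, Int.negSucc 1, Int.ofNat 0, Int.ofNat 0, Int.ofNat 0, Int.ofNat 0, Int.ofNat 0, Int.ofNat 0, Int.ofNat 0, Int.ofNat 0, Int.negSucc 1, Int.ofNat 2, Int.ofNat 0, Int.ofNat 0, Int.ofNat 0, Int.ofNat 2, Int.ofNat 2, Int.negSucc 1, Int.ofNat 0, Int.ofNat 2, Int.negSucc 1, Int.ofNat 0, Int.ofNat 0, Int.ofNat 0],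
  [Int.ofNat 0, Int.ofNat 0, Int.ofNat 0, Int.ofNat 0, Int.ofNat 0, Int.ofNat 0, Int.negSucc 1, Int.ofNat 0, Int.ofNat 2, Int.ofNat 0, Int.ofNat 0, Int.ofNat 2, Int.ofNat 0, Int.ofNat 0, Int.negSucc 1, Int.ofNat 2, Int.ofNat 0, Int.ofNat 2, Int.ofNat 0, Int.ofNat 0, Int.negSucc 1, Int.negSucc 1, Int.ofNat 0, Int.ofNat 0],
  [Int.ofNat 0, Int.ofNat 0, Int.ofNat 0, Int.ofNat 0, Int.ofNat 0, Int.ofNat 0, Int.ofNat 0, Int.ofNat 2, Int.ofNat 0, Int.ofNat 0, Int.ofNat 0, Int.ofNat 0, Int.negSucc 1, Int.ofNat 0, Int.negSucc 1, Int.ofNat 2, Int.ofNat 0, Int.ofNat 2, Int.negSucc 1, Int.ofNat 2, Int.negSucc 1, Int.ofNat 0, Int.ofNat 0, Int.ofNat 0],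
  [Int.negSucc 1, Int.ofNat 0, Int.ofNat 0, Int.ofNat 0, Int.ofNat 0, Int.ofNat 0, Int.ofNat 0, Int.ofNat 0, Int.ofNat 0, Int.ofNat 0, Int.ofNat 2, Int.ofNat 0, Int.ofNat 0, Int.ofNat 0, Int.ofNat 0, Int.negSucc 1, Int.ofNat 0, Int.negSucc 1, Int.ofNat 2, Int.ofNat 0, Int.ofNat 2, Int.negSucc 1, Int.ofNat 2, Int.ofNat 0],
  [Int.ofNat 1, Int.negSucc 0, Int.negSucc 0, Int.ofNat 1, Int.negSucc 0, Int.ofNat 1, Int.ofNat 1, Int.ofNat 1, Int.negSucc 0, Int.negSucc 0, Int.ofNat 1, Int.negSucc 0, Int.negSucc 0, Int.negSucc 0, Int.ofNat 1, Int.negSucc 2, Int.negSucc 0, Int.negSucc 0, Int.ofNat 1, Int.ofNat 1, Int.ofNat 1, Int.negSucc 0, Int.ofNat 1, Int.negSucc 0],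
  [Int.negSucc 0, Int.negSucc 0, Int.ofNat 1, Int.negSucc 0, Int.ofNat 1, Int.ofNat 1, Int.ofNat 1, Int.negSucc 0, Int.negSucc 0, Int.ofNat 1, Int.negSucc 0, Int.negSucc 0, Int.negSucc 0, Int.ofNat 1, Int.negSucc 2, Int.negSucc 0, Int.negSucc 0, Int.ofNat 1, Int.ofNat 1, Int.ofNat 1, Int.negSucc 0, Int.ofNat 1, Int.ofNat 1, Int.negSucc 0],
  [Int.ofNat 1, Int.negSucc 0, Int.negSucc 0, Int.negSucc 0, Int.ofNat 1, Int.ofNat 1, Int.ofNat 1, Int.ofNat 1, Int.negSucc 0, Int.negSucc 0, Int.ofNat 1, Int.ofNat 1, Int.negSucc 0, Int.ofNat 1, Int.negSucc 2, Int.negSucc 0, Int.negSucc 0, Int.ofNat 1, Int.negSucc 0, Int.ofNat 1, Int.negSucc 0, Int.negSucc 0, Int.ofNat 1, Int.negSucc 0],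
  [Int.ofNat 1, Int.negSucc 0, Int.negSucc 0, Int.negSucc 0, Int.negSucc 0, Int.ofNat 1, Int.ofNat 1, Int.negSucc 0, Int.negSucc 0, Int.negSucc 0, Int.negSucc 0, Int.negSucc 2, Int.ofNat 1, Int.negSucc 0, Int.ofNat 1, Int.negSucc 0, Int.negSucc 0, Int.ofNat 1, Int.ofNat 1, Int.ofNat 1, Int.ofNat 1, Int.ofNat 1, Int.ofNat 1, Int.negSucc 0],
  [Int.negSucc 0, Int.negSucc 0, Int.ofNat 1, Int.negSucc 0, Int.negSucc 0, Int.ofNat 1, Int.ofNat 1, Int.ofNat 1, Int.negSucc 0, Int.ofNat 1, Int.ofNat 1, Int.ofNat 3, Int.ofNat 1, Int.negSucc 0, Int.ofNat 1, Int.negSucc 0, Int.negSucc 0, Int.ofNat 1, Int.negSucc 0, Int.ofNat 1, Int.ofNat 1, Int.negSucc 0, Int.ofNat 1, Int.negSucc 0],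
  [Int.ofNat 1, Int.negSucc 0, Int.negSucc 0, Int.ofNat 1, Int.negSucc 0, Int.negSucc 0, Int.ofNat 1, Int.ofNat 1, Int.ofNat 1, Int.negSucc 0, Int.ofNat 1, Int.ofNat 1, Int.ofNat 3, Int.ofNat 1, Int.negSucc 0, Int.ofNat 1, Int.negSucc 0, Int.negSucc 0, Int.ofNat 1, Int.negSucc 0, Int.ofNat 1, Int.ofNat 1, Int.negSucc 0, Int.negSucc 0],
  [Int.negSucc 1, Int.ofNat 0, Int.ofNat 0, Int.ofNat 2, Int.ofNat 0, Int.ofNat 0, Int.ofNat 0, Int.ofNat 0, Int.negSucc 1, Int.negSucc 1, Int.ofNat 0, Int.negSucc 1, Int.ofNat 0, Int.ofNat 2, Int.ofNat 0, Int.ofNat 0, Int.ofNat 0, Int.ofNat 0, Int.negSucc 1, Int.negSucc 1, Int.ofNat 0, Int.ofNat 0, Int.ofNat 0, Int.ofNat 0],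
  [Int.ofNat 2, Int.ofNat 0, Int.ofNat 0, Int.ofNat 0, Int.ofNat 0, Int.negSucc 1, Int.negSucc 1, Int.ofNat 0, Int.negSucc 1, Int.ofNat 0, Int.ofNat 2, Int.ofNat 0, Int.ofNat 0, Int.ofNat 0, Int.ofNat 0, Int.negSucc 1, Int.negSucc 1, Int.ofNat 0, Int.ofNat 0, Int.ofNat 0, Int.negSucc 1, Int.ofNat 0, Int.ofNat 0, Int.ofNat 0],
  [Int.negSucc 0, Int.ofNat 1, Int.ofNat 1, Int.ofNat 1, Int.ofNat 1, Int.negSucc 0, Int.negSucc 0, Int.ofNat 1, Int.negSucc 0, Int.ofNat 1, Int.ofNat 3, Int.ofNat 1, Int.ofNat 1, Int.ofNat 1, Int.ofNat 1, Int.negSucc 0, Int.negSucc 0, Int.ofNat 1, Int.ofNat 1, Int.ofNat 1, Int.negSucc 0, Int.ofNat 1, Int.ofNat 1, Int.ofNat 1],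
  [Int.negSucc 0, Int.negSucc 0, Int.ofNat 1, Int.ofNat 1, Int.ofNat 1, Int.ofNat 1, Int.ofNat 1, Int.ofNat 3, Int.ofNat 1, Int.ofNat 1, Int.negSucc 0, Int.ofNat 1, Int.ofNat 1, Int.negSucc 0, Int.ofNat 1, Int.negSucc 0, Int.negSucc 0, Int.ofNat 1, Int.ofNat 1, Int.ofNat 1, Int.ofNat 1, Int.negSucc 0, Int.ofNat 1, Int.ofNat 1],
  [Int.ofNat 1, Int.ofNat 1, Int.negSucc 0, Int.negSucc 0, Int.ofNat 1, Int.negSucc 0, Int.negSucc 0, Int.ofNat 1, Int.negSucc 0, Int.ofNat 1, Int.negSucc 0, Int.negSucc 0, Int.negSucc 0, Int.negSucc 0, Int.negSucc 0, Int.negSucc 0, Int.negSucc 0, Int.negSucc 0, Int.negSucc 0, Int.negSucc 0, Int.ofNat 1, Int.negSucc 2, Int.ofNat 1, Int.negSucc 0],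
  [Int.ofNat 1, Int.ofNat 1, Int.ofNat 1, Int.negSucc 0, Int.ofNat 1, Int.ofNat 1, Int.ofNat 1, Int.ofNat 1, Int.negSucc 0, Int.negSucc 0, Int.ofNat 1, Int.negSucc 0, Int.negSucc 0, Int.negSucc 0, Int.negSucc 0, Int.ofNat 1, Int.negSucc 0, Int.negSucc 0, Int.ofNat 1, Int.negSucc 0, Int.ofNat 1, Int.negSucc 2, Int.negSucc 0, Int.negSucc 0],
  [Int.ofNat 1, Int.negSucc 0, Int.negSucc 0, Int.negSucc 0, Int.negSucc 0, Int.ofNat 1, Int.negSucc 2, Int.negSucc 0, Int.ofNat 1, Int.ofNat 1, Int.negSucc 0, Int.ofNat 1, Int.ofNat 1, Int.ofNat 1, Int.negSucc 0, Int.ofNat 1, Int.negSucc 0, Int.negSucc 0, Int.negSucc 0, Int.ofNat 1, Int.ofNat 1, Int.ofNat 1, Int.negSucc 0, Int.negSucc 0],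
  [Int.negSucc 0, Int.ofNat 1, Int.ofNat 1, Int.ofNat 1, Int.ofNat 1, Int.ofNat 1, Int.ofNat 3, Int.negSucc 0, Int.negSucc 0, Int.negSucc 0, Int.negSucc 0, Int.ofNat 1, Int.negSucc 0, Int.negSucc 0, Int.negSucc 0, Int.ofNat 1, Int.ofNat 1, Int.negSucc 0, Int.ofNat 1, Int.ofNat 1, Int.ofNat 1, Int.ofNat 1, Int.negSucc 0, Int.negSucc 0],
  [Int.negSucc 0, Int.negSucc 0, Int.ofNat 1, Int.ofNat 1, Int.negSucc 0, Int.negSucc 0, Int.ofNat 1, Int.negSucc 0, Int.ofNat 1, Int.ofNat 1, Int.ofNat 1, Int.ofNat 1, Int.ofNat 1, Int.negSucc 0, Int.ofNat 1, Int.ofNat 1, Int.negSucc 0, Int.ofNat 1, Int.negSucc 0, Int.ofNat 3, Int.negSucc 0, Int.negSucc 0, Int.ofNat 1, Int.negSucc 0],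
  [Int.ofNat 1, Int.negSucc 0, Int.negSucc 0, Int.ofNat 1, Int.negSucc 0, Int.negSucc 0, Int.ofNat 1, Int.ofNat 1, Int.ofNat 1, Int.negSucc 0, Int.negSucc 0, Int.negSucc 0, Int.ofNat 1, Int.negSucc 0, Int.ofNat 1, Int.ofNat 1, Int.negSucc 0, Int.ofNat 1, Int.ofNat 1, Int.ofNat 3, Int.negSucc 0, Int.ofNat 1, Int.ofNat 1, Int.negSucc 0],
  [Int.ofNat 1, Int.ofNat 1, Int.negSucc 0, Int.negSucc 0, Int.ofNat 1, Int.negSucc 0, Int.negSucc 0, Int.ofNat 1, Int.ofNat 1, Int.ofNat 1, Int.negSucc 0, Int.negSucc 0, Int.negSucc 0, Int.ofNat 1, Int.negSucc 0, Int.ofNat 1, Int.ofNat 1, Int.negSucc 0, Int.ofNat 1, Int.ofNat 1, Int.ofNat 3, Int.negSucc 0, Int.ofNat 1, Int.negSucc 0],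
  [Int.negSucc 0, Int.negSucc 0, Int.ofNat 1, Int.ofNat 1, Int.negSucc 0, Int.ofNat 1, Int.negSucc 0, Int.ofNat 1, Int.ofNat 1, Int.negSucc 0, Int.negSucc 2, Int.negSucc 0, Int.negSucc 0, Int.negSucc 0, Int.ofNat 1, Int.negSucc 0, Int.negSucc 0, Int.ofNat 1, Int.ofNat 1, Int.ofNat 1, Int.ofNat 1, Int.negSucc 0, Int.negSucc 0, Int.ofNat 1],
  [Int.ofNat 1, Int.negSucc 0, Int.ofNat 1, Int.negSucc 0, Int.ofNat 1, Int.ofNat 1, Int.negSucc 0, Int.negSucc 2, Int.negSucc 0, Int.negSucc 0, Int.negSucc 0, Int.ofNat 1, Int.negSucc 0, Int.negSucc 0, Int.ofNat 1, Int.ofNat 1, Int.ofNat 1, Int.ofNat 1, Int.negSucc 0, Int.negSucc 0, Int.negSucc 0, Int.negSucc 0, Int.ofNat 1, Int.ofNat 1],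
  [Int.ofNat 0, Int.ofNat 2, Int.ofNat 0, Int.negSucc 1, Int.ofNat 0, Int.ofNat 0, Int.ofNat 2, Int.ofNat 0, Int.ofNat 0, Int.ofNat 0, Int.ofNat 0, Int.ofNat 2, Int.ofNat 0, Int.negSucc 1, Int.ofNat 0, Int.ofNat 2, Int.ofNat 0, Int.ofNat 0, Int.ofNat 0, Int.ofNat 2, Int.ofNat 0, Int.ofNat 2, Int.ofNat 0, Int.ofNat 0],
  [Int.ofNat 0, Int.ofNat 2, Int.ofNat 0, Int.negSucc 1, Int.ofNat 0, Int.ofNat 0, Int.ofNat 0, Int.ofNat 0, Int.ofNat 0, Int.negSucc 1, Int.ofNat 0, Int.ofNat 0, Int.ofNat 0, Int.ofNat 0, Int.ofNat 0, Int.ofNat 2, Int.ofNat 0, Int.ofNat 0, Int.ofNat 2, Int.ofNat 2, Int.ofNat 2, Int.ofNat 0, Int.ofNat 2, Int.ofNat 0],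
  [Int.ofNat 1, Int.negSucc 0, Int.ofNat 1, Int.negSucc 0, Int.negSucc 0, Int.ofNat 1, Int.negSucc 0, Int.negSucc 0, Int.negSucc 0, Int.negSucc 2, Int.negSucc 0, Int.negSucc 0, Int.negSucc 0, Int.negSucc 0, Int.ofNat 1, Int.ofNat 1, Int.negSucc 0, Int.ofNat 1, Int.ofNat 1, Int.ofNat 1, Int.ofNat 1, Int.negSucc 0, Int.ofNat 1, Int.ofNat 1],
  [Int.ofNat 1, Int.negSucc 0, Int.negSucc 0, Int.negSucc 0, Int.negSucc 0, Int.negSucc 0, Int.ofNat 1, Int.negSucc 0, Int.negSucc 0, Int.ofNat 3, Int.ofNat 1, Int.negSucc 0, Int.negSucc 0, Int.negSucc 0, Int.ofNat 1, Int.negSucc 0, Int.negSucc 0, Int.ofNat 1, Int.negSucc 0, Int.ofNat 1, Int.ofNat 1, Int.negSucc 0, Int.negSucc 0, Int.ofNat 1],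
  [Int.ofNat 1, Int.negSucc 0, Int.negSucc 0, Int.negSucc 0, Int.negSucc 0, Int.negSucc 0, Int.negSucc 0, Int.ofNat 1, Int.ofNat 1, Int.negSucc 0, Int.negSucc 0, Int.negSucc 0, Int.negSucc 0, Int.ofNat 1, Int.negSucc 0, Int.negSucc 0, Int.ofNat 3, Int.negSucc 0, Int.ofNat 1, Int.negSucc 0, Int.negSucc 0, Int.ofNat 1, Int.ofNat 1, Int.ofNat 1],
  [Int.ofNat 1, Int.negSucc 0, Int.ofNat 1, Int.negSucc 0, Int.negSucc 0, Int.ofNat 1, Int.ofNat 1, Int.ofNat 1, Int.ofNat 1, Int.ofNat 1, Int.ofNat 1, Int.negSucc 0, Int.negSucc 0, Int.ofNat 1, Int.negSucc 0, Int.ofNat 1, Int.ofNat 3, Int.negSucc 0, Int.negSucc 0, Int.negSucc 0, Int.negSucc 0, Int.ofNat 1, Int.negSucc 0, Int.ofNat 1],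
  [Int.ofNat 0, Int.ofNat 2, Int.ofNat 0, Int.ofNat 0, Int.negSucc 1, Int.ofNat 2, Int.ofNat 0, Int.ofNat 0, Int.ofNat 2, Int.ofNat 0, Int.ofNat 0, Int.ofNat 0, Int.ofNat 0, Int.ofNat 0, Int.ofNat 0, Int.ofNat 0, Int.ofNat 2, Int.ofNat 0, Int.ofNat 0, Int.negSucc 1, Int.negSucc 1, Int.ofNat 0, Int.negSucc 1, Int.ofNat 0],
  [Int.ofNat 0, Int.ofNat 0, Int.ofNat 0, Int.ofNat 0, Int.ofNat 0, Int.ofNat 0, Int.ofNat 2, Int.ofNat 2, Int.ofNat 2, Int.ofNat 0, Int.ofNat 0, Int.negSucc 1, Int.ofNat 2, Int.ofNat 0, Int.ofNat 0, Int.ofNat 0, Int.ofNat 0, Int.ofNat 0, Int.negSucc 1, Int.negSucc 1, Int.ofNat 0, Int.negSucc 1, Int.ofNat 0, Int.ofNat 0],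
  [Int.ofNat 0, Int.ofNat 0, Int.ofNat 0, Int.ofNat 0, Int.ofNat 0, Int.ofNat 0, Int.ofNat 2, Int.ofNat 2, Int.ofNat 2, Int.ofNat 0, Int.ofNat 0, Int.negSucc 1, Int.ofNat 2, Int.ofNat 0, Int.ofNat 0, Int.ofNat 0, Int.ofNat 0, Int.ofNat 0, Int.negSucc 1, Int.negSucc 1, Int.ofNat 0, Int.negSucc 1, Int.ofNat 0, Int.ofNat 0],
  [Int.ofNat 0, Int.negSucc 1, Int.ofNat 0, Int.ofNat 0, Int.ofNat 0, Int.ofNat 0, Int.ofNat 0, Int.ofNat 0, Int.ofNat 0, Int.ofNat 2, Int.ofNat 2, Int.ofNat 2, Int.ofNat 0, Int.ofNat 0, Int.negSucc 1, Int.ofNat 2, Int.ofNat 0, Int.ofNat 0, Int.ofNat 0, Int.ofNat 0, Int.ofNat 0, Int.negSucc 1, Int.negSucc 1, Int.ofNat 0],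
  [Int.negSucc 0, Int.ofNat 1, Int.negSucc 0, Int.ofNat 1, Int.ofNat 1, Int.ofNat 1, Int.ofNat 1, Int.ofNat 1, Int.negSucc 0, Int.negSucc 0, Int.negSucc 0, Int.ofNat 1, Int.negSucc 0, Int.ofNat 1, Int.negSucc 0, Int.negSucc 0, Int.ofNat 1, Int.ofNat 1, Int.negSucc 0, Int.ofNat 1, Int.negSucc 2, Int.negSucc 0, Int.negSucc 0, Int.negSucc 0],
  [Int.ofNat 1, Int.negSucc 0, Int.ofNat 1, Int.ofNat 1, Int.ofNat 1, Int.ofNat 1, Int.ofNat 1, Int.negSucc 0, Int.negSucc 0, Int.negSucc 0, Int.ofNat 1, Int.negSucc 0, Int.ofNat 1, Int.negSucc 0, Int.negSucc 0, Int.ofNat 1, Int.ofNat 1, Int.negSucc 0, Int.ofNat 1, Int.negSucc 2, Int.negSucc 0, Int.negSucc 0, Int.negSucc 0, Int.negSucc 0],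
  [Int.negSucc 0, Int.negSucc 0, Int.negSucc 0, Int.ofNat 1, Int.ofNat 1, Int.ofNat 1, Int.ofNat 1, Int.ofNat 1, Int.negSucc 0, Int.ofNat 1, Int.negSucc 0, Int.ofNat 1, Int.ofNat 1, Int.negSucc 0, Int.negSucc 0, Int.ofNat 1, Int.ofNat 1, Int.negSucc 0, Int.negSucc 0, Int.negSucc 2, Int.negSucc 0, Int.ofNat 1, Int.negSucc 0, Int.negSucc 0],
  [Int.negSucc 0, Int.negSucc 0, Int.negSucc 0, Int.ofNat 1, Int.negSucc 0, Int.negSucc 0, Int.ofNat 1, Int.negSucc 0, Int.ofNat 1, Int.ofNat 1, Int.ofNat 1, Int.negSucc 0, Int.negSucc 0, Int.negSucc 0, Int.negSucc 2, Int.ofNat 1, Int.ofNat 1, Int.negSucc 0, Int.ofNat 1, Int.negSucc 0, Int.ofNat 1, Int.ofNat 1, Int.ofNat 1, Int.negSucc 0],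
  [Int.ofNat 1, Int.negSucc 0, Int.ofNat 1, Int.ofNat 1, Int.negSucc 0, Int.negSucc 0, Int.ofNat 1, Int.ofNat 1, Int.ofNat 1, Int.negSucc 0, Int.negSucc 0, Int.ofNat 1, Int.negSucc 0, Int.negSucc 0, Int.negSucc 2, Int.ofNat 1, Int.ofNat 1, Int.negSucc 0, Int.negSucc 0, Int.negSucc 0, Int.ofNat 1, Int.negSucc 0, Int.ofNat 1, Int.negSucc 0],
  [Int.ofNat 1, Int.ofNat 1, Int.negSucc 0, Int.ofNat 1, Int.ofNat 1, Int.negSucc 0, Int.negSucc 0, Int.ofNat 1, Int.ofNat 1, Int.ofNat 1, Int.negSucc 0, Int.negSucc 0, Int.ofNat 1, Int.negSucc 0, Int.negSucc 0, Int.negSucc 2, Int.ofNat 1, Int.ofNat 1, Int.negSucc 0, Int.negSucc 0, Int.negSucc 0, Int.ofNat 1, Int.negSucc 0, Int.negSucc 0],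
  [Int.negSucc 0, Int.negSucc 0, Int.ofNat 1, Int.ofNat 1, Int.ofNat 1, Int.negSucc 0, Int.negSucc 0, Int.ofNat 1, Int.ofNat 1, Int.ofNat 3, Int.ofNat 1, Int.negSucc 0, Int.ofNat 1, Int.negSucc 0, Int.negSucc 0, Int.negSucc 0, Int.ofNat 1, Int.ofNat 1, Int.negSucc 0, Int.negSucc 0, Int.ofNat 1, Int.ofNat 1, Int.negSucc 0, Int.ofNat 1],
  [Int.ofNat 1, Int.ofNat 1, Int.negSucc 0, Int.negSucc 0, Int.ofNat 1, Int.ofNat 1, Int.ofNat 3, Int.ofNat 1, Int.negSucc 0, Int.ofNat 1, Int.negSucc 0, Int.negSucc 0, Int.negSucc 0, Int.ofNat 1, Int.ofNat 1, Int.negSucc 0, Int.negSucc 0, Int.ofNat 1, Int.ofNat 1, Int.negSucc 0, Int.negSucc 0, Int.negSucc 0, Int.ofNat 1, Int.ofNat 1],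
  [Int.ofNat 0, Int.ofNat 0, Int.ofNat 2, Int.negSucc 1, Int.ofNat 0, Int.ofNat 0, Int.ofNat 2, Int.ofNat 0, Int.ofNat 0, Int.ofNat 2, Int.ofNat 0, Int.ofNat 0, Int.ofNat 0, Int.ofNat 0, Int.ofNat 0, Int.ofNat 0, Int.negSucc 1, Int.ofNat 0, Int.ofNat 2, Int.negSucc 1, Int.ofNat 0, Int.negSucc 1, Int.ofNat 0, Int.ofNat 0],
  [Int.ofNat 0, Int.ofNat 2, Int.ofNat 0, Int.negSucc 1, Int.ofNat 2, Int.ofNat 0, Int.ofNat 2, Int.ofNat 0, Int.ofNat 0, Int.ofNat 0, Int.ofNat 0, Int.ofNat 0, Int.ofNat 2, Int.negSucc 1, Int.ofNat 0, Int.ofNat 0, Int.ofNat 0, Int.ofNat 0, Int.ofNat 0, Int.ofNat 0, Int.negSucc 1, Int.ofNat 0, Int.negSucc 1, Int.ofNat 0],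
  [Int.ofNat 1, Int.negSucc 0, Int.ofNat 1, Int.negSucc 0, Int.ofNat 3, Int.ofNat 1, Int.ofNat 1, Int.negSucc 0, Int.negSucc 0, Int.ofNat 1, Int.ofNat 1, Int.negSucc 0, Int.ofNat 1, Int.negSucc 0, Int.ofNat 1, Int.ofNat 1, Int.ofNat 1, Int.ofNat 1, Int.negSucc 0, Int.negSucc 0, Int.negSucc 0, Int.negSucc 0, Int.negSucc 0, Int.ofNat 1],
  [Int.ofNat 1, Int.negSucc 0, Int.negSucc 0, Int.negSucc 0, Int.ofNat 3, Int.negSucc 0, Int.negSucc 0, Int.negSucc 0, Int.negSucc 0, Int.negSucc 0, Int.negSucc 0, Int.negSucc 0, Int.ofNat 1, Int.negSucc 0, Int.ofNat 1, Int.negSucc 0, Int.ofNat 1, Int.ofNat 1, Int.ofNat 1, Int.negSucc 0, Int.negSucc 0, Int.negSucc 0, Int.ofNat 1, Int.ofNat 1],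
  [Int.negSucc 0, Int.ofNat 1, Int.negSucc 0, Int.negSucc 0, Int.ofNat 1, Int.negSucc 0, Int.negSucc 0, Int.negSucc 0, Int.negSucc 0, Int.negSucc 0, Int.negSucc 0, Int.negSucc 0, Int.negSucc 0, Int.ofNat 3, Int.ofNat 1, Int.ofNat 1, Int.negSucc 0, Int.ofNat 1, Int.negSucc 0, Int.negSucc 0, Int.ofNat 1, Int.negSucc 0, Int.ofNat 1, Int.ofNat 1],
  [Int.ofNat 1, Int.negSucc 0, Int.ofNat 1, Int.ofNat 1, Int.negSucc 0, Int.negSucc 0, Int.ofNat 1, Int.negSucc 0, Int.ofNat 1, Int.ofNat 1, Int.negSucc 0, Int.negSucc 0, Int.ofNat 1, Int.negSucc 2, Int.ofNat 1, Int.ofNat 1, Int.ofNat 1, Int.ofNat 1, Int.ofNat 1, Int.negSucc 0, Int.ofNat 1, Int.negSucc 0, Int.ofNat 1, Int.ofNat 1],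
  [Int.ofNat 1, Int.ofNat 1, Int.negSucc 0, Int.ofNat 1, Int.ofNat 1, Int.ofNat 1, Int.negSucc 0, Int.negSucc 2, Int.ofNat 1, Int.negSucc 0, Int.ofNat 1, Int.ofNat 1, Int.negSucc 0, Int.negSucc 0, Int.ofNat 1, Int.ofNat 1, Int.negSucc 0, Int.negSucc 0, Int.ofNat 1, Int.ofNat 1, Int.ofNat 1, Int.ofNat 1, Int.negSucc 0, Int.ofNat 1],
  [Int.negSucc 0, Int.ofNat 1, Int.ofNat 1, Int.ofNat 1, Int.ofNat 1, Int.ofNat 1, Int.negSucc 0, Int.ofNat 3, Int.ofNat 1, Int.ofNat 1, Int.negSucc 0, Int.negSucc 0, Int.negSucc 0, Int.negSucc 0, Int.ofNat 1, Int.ofNat 1, Int.negSucc 0, Int.negSucc 0, Int.negSucc 0, Int.ofNat 1, Int.ofNat 1, Int.negSucc 0, Int.negSucc 0, Int.ofNat 1],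
  [Int.negSucc 0, Int.negSucc 0, Int.ofNat 1, Int.ofNat 1, Int.ofNat 1, Int.ofNat 1, Int.ofNat 1, Int.negSucc 0, Int.ofNat 3, Int.ofNat 1, Int.ofNat 1, Int.negSucc 0, Int.negSucc 0, Int.negSucc 0, Int.negSucc 0, Int.ofNat 1, Int.ofNat 1, Int.negSucc 0, Int.negSucc 0, Int.negSucc 0, Int.ofNat 1, Int.ofNat 1, Int.negSucc 0, Int.ofNat 1],
  [Int.ofNat 1, Int.ofNat 1, Int.negSucc 0, Int.ofNat 1, Int.ofNat 1, Int.ofNat 1, Int.ofNat 1, Int.negSucc 0, Int.ofNat 3, Int.negSucc 0, Int.negSucc 0, Int.negSucc 0, Int.negSucc 0, Int.negSucc 0, Int.negSucc 0, Int.negSucc 0, Int.ofNat 1, Int.negSucc 0, Int.negSucc 0, Int.negSucc 0, Int.negSucc 0, Int.ofNat 1, Int.negSucc 0, Int.negSucc 0],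
  [Int.ofNat 1, Int.ofNat 1, Int.ofNat 1, Int.ofNat 1, Int.negSucc 0, Int.ofNat 3, Int.negSucc 0, Int.negSucc 0, Int.negSucc 0, Int.negSucc 0, Int.negSucc 0, Int.negSucc 0, Int.negSucc 0, Int.ofNat 1, Int.negSucc 0, Int.negSucc 0, Int.negSucc 0, Int.negSucc 0, Int.ofNat 1, Int.negSucc 0, Int.ofNat 1, Int.ofNat 1, Int.negSucc 0, Int.negSucc 0],
  [Int.ofNat 0, Int.ofNat 0, Int.ofNat 0, Int.ofNat 0, Int.ofNat 0, Int.ofNat 2, Int.ofNat 0, Int.ofNat 0, Int.ofNat 0, Int.ofNat 0, Int.ofNat 0, Int.ofNat 0, Int.ofNat 0, Int.ofNat 2, Int.negSucc 1, Int.ofNat 0, Int.ofNat 0, Int.negSucc 1, Int.ofNat 2, Int.ofNat 0, Int.ofNat 2, Int.ofNat 2, Int.ofNat 0, Int.ofNat 2],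
  [Int.ofNat 0, Int.ofNat 0, Int.ofNat 0, Int.ofNat 0, Int.ofNat 2, Int.ofNat 0, Int.ofNat 0, Int.ofNat 0, Int.ofNat 0, Int.ofNat 2, Int.ofNat 2, Int.negSucc 1, Int.ofNat 0, Int.ofNat 0, Int.ofNat 0, Int.ofNat 0, Int.ofNat 0, Int.negSucc 1, Int.ofNat 0, Int.ofNat 0, Int.ofNat 2, Int.ofNat 2, Int.ofNat 0, Int.ofNat 2],
  [Int.ofNat 1, Int.ofNat 1, Int.ofNat 1, Int.ofNat 1, Int.ofNat 1, Int.ofNat 1, Int.negSucc 0, Int.negSucc 0, Int.ofNat 1, Int.negSucc 0, Int.negSucc 0, Int.negSucc 0, Int.ofNat 1, Int.negSucc 0, Int.ofNat 1, Int.negSucc 2, Int.negSucc 0, Int.negSucc 0, Int.ofNat 1, Int.negSucc 0, Int.negSucc 0, Int.ofNat 1, Int.negSucc 0, Int.negSucc 0],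
  [Int.ofNat 1, Int.ofNat 1, Int.negSucc 0, Int.ofNat 1, Int.ofNat 1, Int.negSucc 0, Int.ofNat 1, Int.negSucc 0, Int.ofNat 1, Int.ofNat 1, Int.ofNat 1, Int.negSucc 0, Int.ofNat 1, Int.negSucc 0, Int.ofNat 1, Int.ofNat 3, Int.negSucc 0, Int.negSucc 0, Int.negSucc 0, Int.negSucc 0, Int.negSucc 0, Int.ofNat 1, Int.ofNat 1, Int.negSucc 0],
  [Int.negSucc 0, Int.negSucc 0, Int.ofNat 1, Int.negSucc 0, Int.ofNat 1, Int.negSucc 0, Int.ofNat 1, Int.ofNat 1, Int.ofNat 1, Int.ofNat 3, Int.ofNat 1, Int.negSucc 0, Int.negSucc 0, Int.ofNat 1, Int.ofNat 1, Int.ofNat 1, Int.ofNat 1, Int.negSucc 0, Int.negSucc 0, Int.negSucc 0, Int.ofNat 1, Int.ofNat 1, Int.negSucc 0, Int.negSucc 0],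
  [Int.negSucc 0, Int.negSucc 0, Int.negSucc 0, Int.negSucc 0, Int.ofNat 1, Int.ofNat 1, Int.negSucc 0, Int.ofNat 1, Int.ofNat 1, Int.negSucc 2, Int.negSucc 0, Int.negSucc 0, Int.negSucc 0, Int.ofNat 1, Int.ofNat 1, Int.negSucc 0, Int.ofNat 1, Int.negSucc 0, Int.ofNat 1, Int.negSucc 0, Int.ofNat 1, Int.ofNat 1, Int.ofNat 1, Int.negSucc 0],
  [Int.negSucc 0, Int.negSucc 0, Int.negSucc 0, Int.negSucc 0, Int.negSucc 0, Int.ofNat 1, Int.negSucc 0, Int.ofNat 1, Int.ofNat 1, Int.negSucc 0, Int.ofNat 1, Int.negSucc 0, Int.negSucc 0, Int.negSucc 0, Int.ofNat 1, Int.ofNat 1, Int.negSucc 0, Int.negSucc 0, Int.ofNat 1, Int.negSucc 0, Int.ofNat 3, Int.ofNat 1, Int.negSucc 0, Int.negSucc 0],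
  [Int.negSucc 0, Int.ofNat 1, Int.negSucc 0, Int.negSucc 0, Int.negSucc 0, Int.ofNat 1, Int.negSucc 0, Int.ofNat 1, Int.negSucc 0, Int.negSucc 0, Int.ofNat 1, Int.negSucc 0, Int.ofNat 1, Int.negSucc 0, Int.negSucc 0, Int.ofNat 1, Int.negSucc 0, Int.negSucc 0, Int.negSucc 0, Int.negSucc 0, Int.ofNat 1, Int.ofNat 3, Int.ofNat 1, Int.negSucc 0],
  [Int.ofNat 0, Int.negSucc 1, Int.ofNat 0, Int.ofNat 0, Int.ofNat 0, Int.ofNat 2, Int.negSucc 1, Int.ofNat 0, Int.ofNat 0, Int.negSucc 1, Int.ofNat 0, Int.ofNat 0, Int.ofNat 2, Int.ofNat 0, Int.ofNat 0, Int.ofNat 0, Int.ofNat 0, Int.ofNat 0, Int.ofNat 0, Int.negSucc 1, Int.ofNat 0, Int.ofNat 2, Int.ofNat 2, Int.ofNat 0],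
  [Int.ofNat 0, Int.ofNat 2, Int.ofNat 2, Int.ofNat 0, Int.negSucc 1, Int.ofNat 0, Int.ofNat 0, Int.ofNat 0, Int.ofNat 2, Int.negSucc 1, Int.ofNat 0, Int.ofNat 0, Int.negSucc 1, Int.ofNat 0, Int.ofNat 0, Int.ofNat 2, Int.ofNat 0, Int.ofNat 0, Int.ofNat 0, Int.ofNat 0, Int.ofNat 0, Int.ofNat 0, Int.negSucc 1, Int.ofNat 0],
  [Int.ofNat 2, Int.ofNat 0, Int.ofNat 0, Int.ofNat 0, Int.ofNat 0, Int.ofNat 0, Int.ofNat 0, Int.ofNat 0, Int.ofNat 2, Int.negSucc 1, Int.ofNat 0, Int.ofNat 0, Int.negSucc 1, Int.ofNat 2, Int.ofNat 0, Int.ofNat 2, Int.ofNat 2, Int.ofNat 0, Int.ofNat 0, Int.ofNat 0, Int.ofNat 0, Int.ofNat 0, Int.ofNat 0, Int.ofNat 2],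
  [Int.ofNat 0, Int.ofNat 0, Int.ofNat 0, Int.ofNat 0, Int.ofNat 0, Int.ofNat 0, Int.ofNat 0, Int.ofNat 2, Int.negSucc 1, Int.ofNat 0, Int.ofNat 0, Int.negSucc 1, Int.ofNat 2, Int.ofNat 0, Int.ofNat 2, Int.ofNat 2, Int.ofNat 0, Int.ofNat 0, Int.ofNat 0, Int.ofNat 0, Int.ofNat 0, Int.ofNat 0, Int.ofNat 2, Int.ofNat 2],
  [Int.ofNat 0, Int.ofNat 0, Int.ofNat 0, Int.ofNat 0, Int.ofNat 0, Int.ofNat 0, Int.ofNat 0, Int.negSucc 1, Int.negSucc 1, Int.ofNat 0, Int.ofNat 0, Int.ofNat 2, Int.ofNat 2, Int.ofNat 0, Int.ofNat 2, Int.ofNat 2, Int.ofNat 0, Int.ofNat 0, Int.ofNat 0, Int.ofNat 0, Int.ofNat 0, Int.ofNat 0, Int.ofNat 2, Int.ofNat 2],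
  [Int.ofNat 0, Int.ofNat 0, Int.ofNat 0, Int.ofNat 0, Int.ofNat 0, Int.ofNat 0, Int.ofNat 0, Int.ofNat 0, Int.ofNat 0, Int.ofNat 0, Int.ofNat 0, Int.ofNat 2, Int.ofNat 0, Int.negSucc 1, Int.ofNat 0, Int.ofNat 2, Int.ofNat 2, Int.ofNat 2, Int.ofNat 0, Int.ofNat 0, Int.ofNat 0, Int.negSucc 1, Int.ofNat 2, Int.ofNat 2],
  [Int.ofNat 0, Int.ofNat 0, Int.ofNat 0, Int.ofNat 0, Int.ofNat 0, Int.ofNat 0, Int.ofNat 0, Int.ofNat 0, Int.ofNat 0, Int.ofNat 0, Int.ofNat 0, Int.negSucc 1, Int.ofNat 0, Int.negSucc 1, Int.ofNat 0, Int.ofNat 2, Int.ofNat 2, Int.ofNat 2, Int.ofNat 0, Int.ofNat 0, Int.ofNat 0, Int.ofNat 2, Int.ofNat 2, Int.ofNat 2],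
  [Int.ofNat 2, Int.ofNat 0, Int.ofNat 0, Int.ofNat 0, Int.ofNat 0, Int.ofNat 0, Int.ofNat 0, Int.ofNat 0, Int.ofNat 0, Int.ofNat 0, Int.ofNat 0, Int.ofNat 0, Int.negSucc 1, Int.ofNat 0, Int.negSucc 1, Int.ofNat 0, Int.ofNat 2, Int.ofNat 2, Int.ofNat 2, Int.ofNat 0, Int.ofNat 0, Int.ofNat 0, Int.ofNat 2, Int.ofNat 2],
  [Int.ofNat 0, Int.ofNat 2, Int.ofNat 2, Int.ofNat 0, Int.negSucc 1, Int.ofNat 0, Int.ofNat 0, Int.ofNat 0, Int.ofNat 0, Int.ofNat 0, Int.ofNat 0, Int.ofNat 0, Int.negSucc 1, Int.negSucc 1, Int.negSucc 1, Int.ofNat 0, Int.ofNat 0, Int.ofNat 2, Int.ofNat 2, Int.ofNat 0, Int.ofNat 0, Int.ofNat 0, Int.ofNat 0, Int.ofNat 0],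
  [Int.ofNat 0, Int.negSucc 1, Int.ofNat 0, Int.ofNat 0, Int.ofNat 0, Int.ofNat 0, Int.ofNat 0, Int.ofNat 0, Int.ofNat 0, Int.negSucc 1, Int.negSucc 1, Int.negSucc 1, Int.ofNat 0, Int.ofNat 0, Int.ofNat 2, Int.ofNat 2, Int.ofNat 0, Int.ofNat 0, Int.ofNat 0, Int.ofNat 0, Int.ofNat 0, Int.ofNat 2, Int.ofNat 2, Int.ofNat 0],
  [Int.negSucc 0, Int.ofNat 1, Int.negSucc 0, Int.negSucc 0, Int.negSucc 0, Int.negSucc 0, Int.negSucc 0, Int.negSucc 0, Int.ofNat 1, Int.negSucc 0, Int.negSucc 0, Int.negSucc 0, Int.ofNat 1, Int.negSucc 0, Int.ofNat 1, Int.ofNat 3, Int.negSucc 0, Int.negSucc 0, Int.ofNat 1, Int.negSucc 0, Int.ofNat 1, Int.ofNat 1, Int.ofNat 1, Int.negSucc 0],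
  [Int.negSucc 0, Int.negSucc 0, Int.negSucc 0, Int.negSucc 0, Int.ofNat 1, Int.negSucc 0, Int.negSucc 0, Int.negSucc 0, Int.ofNat 1, Int.negSucc 0, Int.ofNat 1, Int.negSucc 0, Int.negSucc 0, Int.negSucc 0, Int.ofNat 1, Int.ofNat 3, Int.ofNat 1, Int.ofNat 1, Int.ofNat 1, Int.negSucc 0, Int.ofNat 1, Int.negSucc 0, Int.negSucc 0, Int.negSucc 0],
  [Int.negSucc 0, Int.negSucc 0, Int.negSucc 0, Int.negSucc 0, Int.ofNat 1, Int.negSucc 0, Int.ofNat 1, Int.ofNat 1, Int.ofNat 1, Int.negSucc 2, Int.negSucc 0, Int.negSucc 0, Int.negSucc 0, Int.negSucc 0, Int.ofNat 1, Int.ofNat 1, Int.ofNat 1, Int.ofNat 1, Int.ofNat 1, Int.ofNat 1, Int.negSucc 0, Int.ofNat 1, Int.negSucc 0, Int.negSucc 0],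
  [Int.negSucc 0, Int.negSucc 0, Int.ofNat 1, Int.negSucc 0, Int.ofNat 1, Int.ofNat 1, Int.negSucc 0, Int.ofNat 1, Int.ofNat 1, Int.ofNat 3, Int.ofNat 1, Int.negSucc 0, Int.negSucc 0, Int.negSucc 0, Int.ofNat 1, Int.negSucc 0, Int.ofNat 1, Int.ofNat 1, Int.negSucc 0, Int.ofNat 1, Int.negSucc 0, Int.ofNat 1, Int.ofNat 1, Int.negSucc 0],
  [Int.ofNat 1, Int.ofNat 1, Int.negSucc 0, Int.ofNat 1, Int.ofNat 1, Int.negSucc 0, Int.ofNat 1, Int.negSucc 0, Int.ofNat 1, Int.negSucc 0, Int.negSucc 0, Int.ofNat 1, Int.negSucc 0, Int.ofNat 1, Int.ofNat 1, Int.negSucc 0, Int.ofNat 1, Int.negSucc 0, Int.ofNat 3, Int.ofNat 1, Int.negSucc 0, Int.negSucc 0, Int.ofNat 1, Int.negSucc 0],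
  [Int.negSucc 0, Int.negSucc 0, Int.ofNat 1, Int.negSucc 0, Int.negSucc 0, Int.negSucc 0, Int.negSucc 0, Int.negSucc 0, Int.negSucc 0, Int.ofNat 1, Int.negSucc 0, Int.ofNat 1, Int.ofNat 1, Int.negSucc 0, Int.ofNat 1, Int.negSucc 0, Int.negSucc 0, Int.negSucc 0, Int.negSucc 2, Int.ofNat 1, Int.negSucc 0, Int.negSucc 0, Int.ofNat 1, Int.negSucc 0],
  [Int.negSucc 0, Int.ofNat 1, Int.ofNat 1, Int.negSucc 0, Int.negSucc 0, Int.ofNat 1, Int.ofNat 1, Int.negSucc 0, Int.negSucc 0, Int.negSucc 0, Int.negSucc 0, Int.ofNat 1, Int.negSucc 0, Int.negSucc 0, Int.negSucc 2, Int.negSucc 0, Int.negSucc 0, Int.negSucc 0, Int.ofNat 1, Int.negSucc 0, Int.negSucc 0, Int.ofNat 1, Int.negSucc 0, Int.negSucc 0],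
  [Int.ofNat 1, Int.ofNat 1, Int.negSucc 0, Int.negSucc 0, Int.negSucc 0, Int.ofNat 1, Int.ofNat 1, Int.ofNat 1, Int.negSucc 0, Int.ofNat 1, Int.ofNat 1, Int.negSucc 0, Int.negSucc 0, Int.negSucc 0, Int.negSucc 2, Int.negSucc 0, Int.negSucc 0, Int.negSucc 0, Int.negSucc 0, Int.negSucc 0, Int.negSucc 0, Int.negSucc 0, Int.negSucc 0, Int.negSucc 0],
  [Int.negSucc 0, Int.ofNat 1, Int.ofNat 1, Int.negSucc 0, Int.negSucc 0, Int.negSucc 0, Int.ofNat 1, Int.ofNat 1, Int.ofNat 1, Int.negSucc 0, Int.ofNat 1, Int.ofNat 1, Int.negSucc 0, Int.negSucc 0, Int.negSucc 0, Int.negSucc 2, Int.negSucc 0, Int.negSucc 0, Int.negSucc 0, Int.negSucc 0, Int.negSucc 0, Int.negSucc 0, Int.negSucc 0, Int.negSucc 0],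
  [Int.ofNat 1, Int.negSucc 0, Int.negSucc 0, Int.ofNat 1, Int.ofNat 1, Int.ofNat 1, Int.ofNat 1, Int.ofNat 1, Int.ofNat 1, Int.ofNat 1, Int.ofNat 3, Int.ofNat 1, Int.negSucc 0, Int.ofNat 1, Int.ofNat 1, Int.negSucc 0, Int.ofNat 1, Int.ofNat 1, Int.negSucc 0, Int.negSucc 0, Int.ofNat 1, Int.negSucc 0, Int.ofNat 1, Int.ofNat 1],
  [Int.ofNat 1, Int.ofNat 1, Int.ofNat 1, Int.ofNat 1, Int.ofNat 1, Int.ofNat 1, Int.ofNat 1, Int.ofNat 3, Int.ofNat 1, Int.negSucc 0, Int.ofNat 1, Int.ofNat 1, Int.negSucc 0, Int.ofNat 1, Int.ofNat 1, Int.negSucc 0, Int.negSucc 0, Int.ofNat 1, Int.negSucc 0, Int.ofNat 1, Int.ofNat 1, Int.negSucc 0, Int.negSucc 0, Int.ofNat 1],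
  [Int.ofNat 1, Int.ofNat 1, Int.ofNat 1, Int.negSucc 0, Int.ofNat 1, Int.negSucc 0, Int.negSucc 0, Int.ofNat 1, Int.ofNat 1, Int.negSucc 0, Int.ofNat 1, Int.ofNat 1, Int.negSucc 0, Int.ofNat 1, Int.negSucc 0, Int.negSucc 0, Int.negSucc 0, Int.negSucc 0, Int.negSucc 0, Int.negSucc 0, Int.ofNat 1, Int.negSucc 2, Int.negSucc 0, Int.ofNat 1],
  [Int.ofNat 1, Int.negSucc 0, Int.ofNat 1, Int.negSucc 0, Int.negSucc 0, Int.ofNat 1, Int.ofNat 1, Int.ofNat 1, Int.negSucc 0, Int.ofNat 1, Int.ofNat 1, Int.negSucc 0, Int.negSucc 0, Int.negSucc 0, Int.negSucc 0, Int.negSucc 0, Int.ofNat 1, Int.negSucc 0, Int.ofNat 1, Int.ofNat 1, Int.negSucc 2, Int.negSucc 0, Int.negSucc 0, Int.ofNat 1],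
  [Int.ofNat 0, Int.ofNat 2, Int.ofNat 0, Int.ofNat 0, Int.ofNat 0, Int.ofNat 2, Int.ofNat 0, Int.ofNat 0, Int.ofNat 0, Int.ofNat 2, Int.ofNat 2, Int.ofNat 0, Int.ofNat 0, Int.ofNat 0, Int.ofNat 0, Int.ofNat 0, Int.ofNat 2, Int.ofNat 0, Int.ofNat 2, Int.ofNat 0, Int.negSucc 1, Int.negSucc 1, Int.ofNat 0, Int.ofNat 0],
  [Int.ofNat 0, Int.ofNat 2, Int.ofNat 0, Int.ofNat 0, Int.ofNat 0, Int.negSucc 1, Int.ofNat 0, Int.ofNat 0, Int.ofNat 0, Int.negSucc 1, Int.negSucc 1, Int.ofNat 0, Int.ofNat 0, Int.ofNat 0, Int.ofNat 0, Int.ofNat 0, Int.ofNat 2, Int.ofNat 0, Int.negSucc 1, Int.ofNat 0, Int.negSucc 1, Int.negSucc 1, Int.ofNat 0, Int.ofNat 0],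
  [Int.ofNat 0, Int.negSucc 1, Int.ofNat 0, Int.ofNat 2, Int.ofNat 0, Int.ofNat 0, Int.ofNat 0, Int.ofNat 0, Int.ofNat 0, Int.ofNat 0, Int.ofNat 0, Int.ofNat 0, Int.ofNat 0, Int.ofNat 0, Int.ofNat 2, Int.negSucc 1, Int.negSucc 1, Int.negSucc 1, Int.negSucc 1, Int.ofNat 0, Int.ofNat 0, Int.negSucc 1, Int.ofNat 0, Int.ofNat 0],
  [Int.ofNat 0, Int.negSucc 1, Int.ofNat 0, Int.ofNat 2, Int.ofNat 0, Int.ofNat 0, Int.ofNat 0, Int.ofNat 0, Int.ofNat 0, Int.ofNat 0, Int.ofNat 0, Int.ofNat 0, Int.ofNat 0, Int.ofNat 0, Int.ofNat 2, Int.ofNat 2, Int.negSucc 1, Int.negSucc 1, Int.ofNat 2, Int.ofNat 0, Int.ofNat 0, Int.negSucc 1, Int.ofNat 0, Int.ofNat 0],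
  [Int.negSucc 0, Int.ofNat 1, Int.negSucc 0, Int.ofNat 1, Int.ofNat 1, Int.negSucc 0, Int.ofNat 1, Int.ofNat 1, Int.negSucc 0, Int.negSucc 0, Int.negSucc 0, Int.negSucc 0, Int.negSucc 0, Int.ofNat 1, Int.ofNat 1, Int.ofNat 1, Int.negSucc 0, Int.negSucc 2, Int.ofNat 1, Int.ofNat 1, Int.negSucc 0, Int.negSucc 0, Int.ofNat 1, Int.negSucc 0],
  [Int.negSucc 0, Int.ofNat 1, Int.ofNat 1, Int.ofNat 1, Int.negSucc 0, Int.negSucc 0, Int.ofNat 1, Int.negSucc 0, Int.negSucc 0, Int.negSucc 0, Int.ofNat 1, Int.ofNat 1, Int.negSucc 0, Int.negSucc 0, Int.negSucc 2, Int.ofNat 1, Int.ofNat 1, Int.negSucc 0, Int.ofNat 1, Int.ofNat 1, Int.negSucc 0, Int.negSucc 0, Int.ofNat 1, Int.negSucc 0],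
  [Int.ofNat 1, Int.negSucc 0, Int.negSucc 0, Int.ofNat 3, Int.negSucc 0, Int.ofNat 1, Int.ofNat 1, Int.negSucc 0, Int.negSucc 0, Int.negSucc 0, Int.ofNat 1, Int.ofNat 1, Int.negSucc 0, Int.negSucc 0, Int.negSucc 0, Int.ofNat 1, Int.ofNat 1, Int.ofNat 1, Int.ofNat 1, Int.ofNat 1, Int.negSucc 0, Int.negSucc 0, Int.ofNat 1, Int.ofNat 1],
  [Int.negSucc 0, Int.negSucc 0, Int.ofNat 1, Int.ofNat 1, Int.negSucc 0, Int.negSucc 0, Int.ofNat 3, Int.negSucc 0, Int.ofNat 1, Int.ofNat 1, Int.negSucc 0, Int.negSucc 0, Int.negSucc 0, Int.ofNat 1, Int.ofNat 1, Int.negSucc 0, Int.negSucc 0, Int.negSucc 0, Int.ofNat 1, Int.ofNat 1, Int.ofNat 1, Int.ofNat 1, Int.ofNat 1, Int.ofNat 1],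
  [Int.ofNat 1, Int.ofNat 1, Int.negSucc 0, Int.ofNat 1, Int.negSucc 0, Int.negSucc 0, Int.ofNat 1, Int.negSucc 2, Int.ofNat 1, Int.ofNat 1, Int.negSucc 0, Int.negSucc 0, Int.negSucc 0, Int.ofNat 1, Int.ofNat 1, Int.negSucc 0, Int.negSucc 0, Int.negSucc 0, Int.ofNat 1, Int.negSucc 0, Int.ofNat 1, Int.negSucc 0, Int.ofNat 1, Int.negSucc 0],
  [Int.ofNat 1, Int.negSucc 0, Int.ofNat 1, Int.negSucc 0, Int.negSucc 0, Int.ofNat 1, Int.negSucc 2, Int.ofNat 1, Int.ofNat 1, Int.negSucc 0, Int.negSucc 0, Int.negSucc 0, Int.ofNat 1, Int.ofNat 1, Int.negSucc 0, Int.negSucc 0, Int.negSucc 0, Int.ofNat 1, Int.negSucc 0, Int.ofNat 1, Int.negSucc 0, Int.ofNat 1, Int.ofNat 1, Int.negSucc 0],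
  [Int.negSucc 0, Int.negSucc 0, Int.negSucc 0, Int.negSucc 0, Int.negSucc 0, Int.ofNat 1, Int.negSucc 2, Int.negSucc 0, Int.ofNat 1, Int.ofNat 1, Int.ofNat 1, Int.ofNat 1, Int.ofNat 1, Int.ofNat 1, Int.negSucc 0, Int.negSucc 0, Int.negSucc 0, Int.ofNat 1, Int.ofNat 1, Int.ofNat 1, Int.negSucc 0, Int.negSucc 0, Int.ofNat 1, Int.negSucc 0],
  [Int.negSucc 0, Int.negSucc 0, Int.ofNat 1, Int.negSucc 0, Int.negSucc 0, Int.ofNat 1, Int.negSucc 0, Int.negSucc 0, Int.ofNat 1, Int.negSucc 0, Int.negSucc 0, Int.negSucc 0, Int.ofNat 1, Int.ofNat 1, Int.ofNat 1, Int.negSucc 0, Int.ofNat 1, Int.ofNat 1, Int.negSucc 2, Int.ofNat 1, Int.ofNat 1, Int.negSucc 0, Int.ofNat 1, Int.negSucc 0],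
  [Int.ofNat 1, Int.negSucc 0, Int.negSucc 0, Int.negSucc 0, Int.negSucc 0, Int.ofNat 1, Int.negSucc 0, Int.ofNat 1, Int.ofNat 1, Int.ofNat 1, Int.ofNat 1, Int.ofNat 1, Int.ofNat 1, Int.ofNat 1, Int.ofNat 1, Int.negSucc 0, Int.ofNat 1, Int.ofNat 1, Int.ofNat 3, Int.ofNat 1, Int.ofNat 1, Int.ofNat 1, Int.ofNat 1, Int.negSucc 0],
  [Int.ofNat 1, Int.ofNat 1, Int.negSucc 0, Int.negSucc 0, Int.negSucc 0, Int.negSucc 0, Int.ofNat 1, Int.negSucc 0, Int.ofNat 1, Int.ofNat 1, Int.ofNat 1, Int.ofNat 1, Int.ofNat 1, Int.ofNat 1, Int.ofNat 1, Int.ofNat 1, Int.negSucc 0, Int.ofNat 1, Int.ofNat 1, Int.ofNat 3, Int.ofNat 1, Int.ofNat 1, Int.ofNat 1, Int.negSucc 0],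
  [Int.negSucc 0, Int.negSucc 0, Int.ofNat 1, Int.negSucc 0, Int.negSucc 0, Int.negSucc 0, Int.negSucc 0, Int.negSucc 2, Int.negSucc 0, Int.negSucc 0, Int.negSucc 0, Int.negSucc 0, Int.negSucc 0, Int.ofNat 1, Int.ofNat 1, Int.negSucc 0, Int.negSucc 0, Int.ofNat 1, Int.negSucc 0, Int.ofNat 1, Int.negSucc 0, Int.negSucc 0, Int.ofNat 1, Int.ofNat 1],
  [Int.negSucc 0, Int.negSucc 0, Int.negSucc 0, Int.negSucc 0, Int.negSucc 2, Int.negSucc 0, Int.negSucc 0, Int.negSucc 0, Int.negSucc 0, Int.negSucc 0, Int.ofNat 1, Int.ofNat 1, Int.negSucc 0, Int.negSucc 0, Int.ofNat 1, Int.negSucc 0, Int.ofNat 1, Int.negSucc 0, Int.negSucc 0, Int.ofNat 1, Int.negSucc 0, Int.negSucc 0, Int.ofNat 1, Int.ofNat 1],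
  [Int.ofNat 0, Int.ofNat 0, Int.ofNat 0, Int.ofNat 0, Int.negSucc 1, Int.ofNat 0, Int.ofNat 0, Int.ofNat 0, Int.ofNat 0, Int.ofNat 0, Int.ofNat 2, Int.ofNat 2, Int.ofNat 0, Int.ofNat 0, Int.ofNat 2, Int.ofNat 0, Int.ofNat 2, Int.ofNat 0, Int.ofNat 0, Int.ofNat 2, Int.ofNat 0, Int.ofNat 0, Int.ofNat 2, Int.negSucc 1],
  [Int.ofNat 0, Int.ofNat 0, Int.negSucc 1, Int.ofNat 0, Int.ofNat 0, Int.ofNat 0, Int.ofNat 0, Int.ofNat 2, Int.ofNat 0, Int.ofNat 0, Int.ofNat 0, Int.ofNat 0, Int.ofNat 0, Int.ofNat 2, Int.ofNat 2, Int.ofNat 0, Int.ofNat 0, Int.ofNat 2, Int.ofNat 0, Int.ofNat 2, Int.ofNat 0, Int.ofNat 0, Int.ofNat 2, Int.negSucc 1],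
  [Int.negSucc 1, Int.negSucc 1, Int.ofNat 0, Int.negSucc 1, Int.negSucc 1, Int.negSucc 1, Int.negSucc 1, Int.ofNat 0, Int.ofNat 0, Int.ofNat 0, Int.ofNat 0, Int.ofNat 0, Int.ofNat 0, Int.ofNat 0, Int.ofNat 0, Int.ofNat 0, Int.negSucc 1, Int.ofNat 0, Int.ofNat 0, Int.ofNat 0, Int.ofNat 0, Int.negSucc 1, Int.ofNat 0, Int.ofNat 0],
  [Int.negSucc 1, Int.negSucc 1, Int.ofNat 0, Int.negSucc 1, Int.negSucc 1, Int.ofNat 2, Int.ofNat 2, Int.ofNat 0, Int.ofNat 0, Int.ofNat 0, Int.ofNat 0, Int.ofNat 0, Int.ofNat 0, Int.ofNat 0, Int.ofNat 0, Int.ofNat 0, Int.negSucc 1, Int.ofNat 0, Int.ofNat 0, Int.ofNat 0, Int.ofNat 0, Int.negSucc 1, Int.ofNat 0, Int.ofNat 0],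
  [Int.ofNat 0, Int.negSucc 1, Int.ofNat 0, Int.ofNat 0, Int.ofNat 0, Int.ofNat 2, Int.negSucc 1, Int.negSucc 1, Int.ofNat 2, Int.ofNat 0, Int.ofNat 0, Int.ofNat 0, Int.ofNat 0, Int.negSucc 1, Int.ofNat 0, Int.ofNat 0, Int.ofNat 0, Int.ofNat 0, Int.ofNat 0, Int.ofNat 0, Int.negSucc 1, Int.negSucc 1, Int.ofNat 0, Int.ofNat 0],
  [Int.ofNat 0, Int.ofNat 2, Int.ofNat 0, Int.ofNat 0, Int.ofNat 0, Int.ofNat 2, Int.ofNat 2, Int.negSucc 1, Int.negSucc 1, Int.ofNat 0, Int.ofNat 0, Int.ofNat 0, Int.ofNat 0, Int.ofNat 2, Int.ofNat 0, Int.ofNat 0, Int.ofNat 0, Int.ofNat 0, Int.ofNat 0, Int.ofNat 0, Int.negSucc 1, Int.negSucc 1, Int.ofNat 0, Int.ofNat 0],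
  [Int.ofNat 0, Int.ofNat 0, Int.ofNat 0, Int.ofNat 0, Int.ofNat 0, Int.ofNat 0, Int.ofNat 0, Int.ofNat 2, Int.negSucc 1, Int.ofNat 2, Int.ofNat 0, Int.ofNat 0, Int.negSucc 1, Int.negSucc 1, Int.ofNat 0, Int.ofNat 0, Int.ofNat 0, Int.ofNat 0, Int.ofNat 0, Int.ofNat 2, Int.negSucc 1, Int.ofNat 0, Int.ofNat 2, Int.ofNat 0],
  [Int.ofNat 0, Int.ofNat 0, Int.ofNat 0, Int.ofNat 0, Int.ofNat 0, Int.ofNat 0, Int.ofNat 0, Int.negSucc 1, Int.negSucc 1, Int.negSucc 1, Int.ofNat 0, Int.ofNat 0, Int.negSucc 1, Int.negSucc 1, Int.ofNat 0, Int.ofNat 0, Int.ofNat 0, Int.ofNat 0, Int.ofNat 0, Int.ofNat 2, Int.negSucc 1, Int.ofNat 0, Int.ofNat 2, Int.ofNat 0],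
  [Int.ofNat 2, Int.ofNat 0, Int.ofNat 0, Int.ofNat 0, Int.ofNat 0, Int.ofNat 0, Int.ofNat 0, Int.ofNat 0, Int.negSucc 1, Int.negSucc 1, Int.negSucc 1, Int.ofNat 0, Int.ofNat 0, Int.negSucc 1, Int.negSucc 1, Int.ofNat 0, Int.ofNat 0, Int.ofNat 0, Int.ofNat 0, Int.ofNat 0, Int.ofNat 2, Int.negSucc 1, Int.ofNat 0, Int.ofNat 0],
  [Int.negSucc 0, Int.ofNat 1, Int.ofNat 1, Int.ofNat 1, Int.ofNat 1, Int.ofNat 1, Int.ofNat 1, Int.ofNat 1, Int.negSucc 0, Int.negSucc 0, Int.negSucc 0, Int.ofNat 1, Int.ofNat 1, Int.negSucc 0, Int.negSucc 0, Int.ofNat 1, Int.ofNat 1, Int.ofNat 1, Int.ofNat 1, Int.ofNat 1, Int.ofNat 3, Int.negSucc 0, Int.ofNat 1, Int.ofNat 1],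
  [Int.ofNat 1, Int.ofNat 1, Int.ofNat 1, Int.ofNat 1, Int.ofNat 1, Int.negSucc 0, Int.negSucc 0, Int.negSucc 0, Int.ofNat 1, Int.ofNat 1, Int.negSucc 0, Int.negSucc 0, Int.ofNat 1, Int.ofNat 1, Int.ofNat 1, Int.ofNat 1, Int.ofNat 1, Int.ofNat 3, Int.negSucc 0, Int.ofNat 1, Int.negSucc 0, Int.ofNat 1, Int.ofNat 1, Int.ofNat 1],
  [Int.ofNat 1, Int.ofNat 1, Int.ofNat 1, Int.negSucc 0, Int.negSucc 0, Int.negSucc 2, Int.negSucc 0, Int.negSucc 0, Int.ofNat 1, Int.ofNat 1, Int.negSucc 0, Int.negSucc 0, Int.ofNat 1, Int.negSucc 0, Int.negSucc 0, Int.ofNat 1, Int.negSucc 0, Int.ofNat 1, Int.negSucc 0, Int.ofNat 1, Int.negSucc 0, Int.ofNat 1, Int.negSucc 0, Int.ofNat 1],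
  [Int.ofNat 1, Int.negSucc 0, Int.negSucc 0, Int.negSucc 0, Int.negSucc 0, Int.negSucc 0, Int.ofNat 1, Int.negSucc 0, Int.ofNat 1, Int.negSucc 0, Int.negSucc 0, Int.ofNat 1, Int.ofNat 1, Int.negSucc 0, Int.negSucc 0, Int.ofNat 1, Int.ofNat 1, Int.negSucc 0, Int.ofNat 1, Int.negSucc 0, Int.ofNat 1, Int.negSucc 2, Int.ofNat 1, Int.ofNat 1],
  [Int.negSucc 0, Int.ofNat 1, Int.ofNat 1, Int.ofNat 1, Int.negSucc 0, Int.ofNat 1, Int.ofNat 3, Int.ofNat 1, Int.negSucc 0, Int.negSucc 0, Int.negSucc 0, Int.negSucc 0, Int.negSucc 0, Int.negSucc 0, Int.ofNat 1, Int.ofNat 1, Int.ofNat 1, Int.ofNat 1, Int.negSucc 0, Int.ofNat 1, Int.ofNat 1, Int.negSucc 0, Int.ofNat 1, Int.negSucc 0],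
  [Int.negSucc 0, Int.ofNat 1, Int.negSucc 0, Int.ofNat 1, Int.negSucc 0, Int.negSucc 0, Int.negSucc 2, Int.ofNat 1, Int.negSucc 0, Int.ofNat 1, Int.ofNat 1, Int.negSucc 0, Int.negSucc 0, Int.negSucc 0, Int.ofNat 1, Int.negSucc 0, Int.ofNat 1, Int.ofNat 1, Int.ofNat 1, Int.ofNat 1, Int.ofNat 1, Int.negSucc 0, Int.negSucc 0, Int.negSucc 0],
  [Int.ofNat 1, Int.ofNat 1, Int.negSucc 0, Int.ofNat 1, Int.ofNat 1, Int.negSucc 0, Int.negSucc 0, Int.negSucc 2, Int.negSucc 0, Int.negSucc 0, Int.negSucc 0, Int.negSucc 0, Int.ofNat 1, Int.ofNat 1, Int.ofNat 1, Int.negSucc 0, Int.ofNat 1, Int.negSucc 0, Int.ofNat 1, Int.negSucc 0, Int.negSucc 0, Int.ofNat 1, Int.ofNat 1, Int.negSucc 0],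
  [Int.ofNat 1, Int.ofNat 1, Int.ofNat 1, Int.ofNat 1, Int.ofNat 1, Int.ofNat 1, Int.ofNat 1, Int.negSucc 2, Int.negSucc 0, Int.ofNat 1, Int.ofNat 1, Int.negSucc 0, Int.ofNat 1, Int.ofNat 1, Int.ofNat 1, Int.ofNat 1, Int.ofNat 1, Int.negSucc 0, Int.negSucc 0, Int.negSucc 0, Int.negSucc 0, Int.ofNat 1, Int.negSucc 0, Int.negSucc 0],
  [Int.ofNat 0, Int.ofNat 0, Int.ofNat 0, Int.ofNat 0, Int.ofNat 0, Int.ofNat 0, Int.ofNat 2, Int.negSucc 1, Int.ofNat 0, Int.ofNat 0, Int.ofNat 0, Int.ofNat 0, Int.ofNat 2, Int.ofNat 0, Int.ofNat 0, Int.ofNat 0, Int.ofNat 0, Int.negSucc 1, Int.ofNat 0, Int.ofNat 0, Int.negSucc 1, Int.ofNat 2, Int.negSucc 1, Int.ofNat 2],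
  [Int.ofNat 0, Int.ofNat 0, Int.ofNat 2, Int.ofNat 0, Int.ofNat 0, Int.ofNat 2, Int.ofNat 0, Int.ofNat 0, Int.ofNat 0, Int.ofNat 2, Int.negSucc 1, Int.ofNat 0, Int.ofNat 0, Int.ofNat 0, Int.negSucc 1, Int.ofNat 0, Int.ofNat 0, Int.ofNat 0, Int.ofNat 0, Int.negSucc 1, Int.ofNat 0, Int.negSucc 1, Int.ofNat 0, Int.ofNat 2],
  [Int.ofNat 2, Int.ofNat 2, Int.ofNat 0, Int.ofNat 0, Int.ofNat 0, Int.ofNat 2, Int.ofNat 2, Int.ofNat 2, Int.ofNat 0, Int.ofNat 2, Int.negSucc 1, Int.ofNat 0, Int.ofNat 0, Int.ofNat 0, Int.negSucc 1, Int.ofNat 0, Int.ofNat 0, Int.ofNat 0, Int.ofNat 0, Int.ofNat 0, Int.ofNat 0, Int.ofNat 0, Int.ofNat 0, Int.ofNat 0],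
  [Int.ofNat 0, Int.ofNat 0, Int.ofNat 0, Int.ofNat 2, Int.ofNat 2, Int.ofNat 0, Int.ofNat 0, Int.ofNat 0, Int.ofNat 2, Int.ofNat 2, Int.ofNat 2, Int.ofNat 0, Int.ofNat 2, Int.negSucc 1, Int.ofNat 0, Int.ofNat 0, Int.ofNat 0, Int.negSucc 1, Int.ofNat 0, Int.ofNat 0, Int.ofNat 0, Int.ofNat 0, Int.ofNat 0, Int.ofNat 0],
  [Int.ofNat 0, Int.ofNat 0, Int.ofNat 0, Int.ofNat 2, Int.ofNat 2, Int.ofNat 0, Int.ofNat 0, Int.ofNat 0, Int.ofNat 0, Int.ofNat 0, Int.ofNat 0, Int.negSucc 1, Int.ofNat 0, Int.negSucc 1, Int.ofNat 0, Int.negSucc 1, Int.ofNat 0, Int.negSucc 1, Int.negSucc 1, Int.ofNat 0, Int.negSucc 1, Int.ofNat 0, Int.ofNat 0, Int.ofNat 0],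
  [Int.ofNat 0, Int.ofNat 0, Int.ofNat 2, Int.ofNat 2, Int.ofNat 0, Int.ofNat 0, Int.ofNat 0, Int.ofNat 0, Int.ofNat 0, Int.ofNat 0, Int.negSucc 1, Int.ofNat 0, Int.negSucc 1, Int.ofNat 0, Int.negSucc 1, Int.ofNat 0, Int.negSucc 1, Int.negSucc 1, Int.ofNat 0, Int.negSucc 1, Int.ofNat 0, Int.ofNat 0, Int.ofNat 0, Int.ofNat 0],
  [Int.ofNat 0, Int.ofNat 0, Int.negSucc 1, Int.ofNat 2, Int.ofNat 0, Int.ofNat 0, Int.ofNat 0, Int.ofNat 0, Int.ofNat 0, Int.ofNat 0, Int.ofNat 2, Int.ofNat 0, Int.negSucc 1, Int.ofNat 0, Int.negSucc 1, Int.ofNat 0, Int.negSucc 1, Int.negSucc 1, Int.ofNat 0, Int.negSucc 1, Int.ofNat 0, Int.ofNat 0, Int.ofNat 0, Int.ofNat 0],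
  [Int.ofNat 0, Int.negSucc 1, Int.ofNat 0, Int.ofNat 2, Int.ofNat 0, Int.ofNat 2, Int.ofNat 0, Int.ofNat 0, Int.ofNat 0, Int.negSucc 1, Int.ofNat 0, Int.negSucc 1, Int.ofNat 0, Int.ofNat 0, Int.negSucc 1, Int.ofNat 0, Int.negSucc 1, Int.ofNat 0, Int.ofNat 0, Int.negSucc 1, Int.ofNat 0, Int.ofNat 0, Int.ofNat 0, Int.ofNat 0],
  [Int.ofNat 0, Int.negSucc 1, Int.ofNat 0, Int.ofNat 2, Int.ofNat 0, Int.ofNat 2, Int.ofNat 0, Int.ofNat 0, Int.ofNat 0, Int.ofNat 2, Int.ofNat 0, Int.ofNat 2, Int.ofNat 0, Int.ofNat 0, Int.negSucc 1, Int.ofNat 0, Int.negSucc 1, Int.ofNat 0, Int.ofNat 0, Int.negSucc 1, Int.ofNat 0, Int.ofNat 0, Int.ofNat 0, Int.ofNat 0],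
  [Int.ofNat 0, Int.ofNat 0, Int.negSucc 1, Int.ofNat 0, Int.ofNat 2, Int.ofNat 0, Int.ofNat 2, Int.ofNat 0, Int.ofNat 0, Int.ofNat 0, Int.ofNat 2, Int.ofNat 0, Int.ofNat 2, Int.ofNat 0, Int.ofNat 0, Int.negSucc 1, Int.ofNat 0, Int.negSucc 1, Int.ofNat 0, Int.ofNat 0, Int.negSucc 1, Int.ofNat 0, Int.ofNat 0, Int.ofNat 0],
  [Int.negSucc 0, Int.negSucc 0, Int.ofNat 1, Int.ofNat 1, Int.ofNat 1, Int.ofNat 1, Int.ofNat 1, Int.negSucc 0, Int.negSucc 0, Int.ofNat 1, Int.ofNat 3, Int.negSucc 0, Int.ofNat 1, Int.negSucc 0, Int.ofNat 1, Int.negSucc 0, Int.negSucc 0, Int.negSucc 0, Int.negSucc 0, Int.negSucc 0, Int.negSucc 0, Int.negSucc 0, Int.negSucc 0, Int.negSucc 0],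
  [Int.ofNat 1, Int.ofNat 1, Int.ofNat 1, Int.ofNat 1, Int.negSucc 0, Int.negSucc 0, Int.ofNat 1, Int.ofNat 3, Int.negSucc 0, Int.ofNat 1, Int.negSucc 0, Int.ofNat 1, Int.negSucc 0, Int.negSucc 0, Int.negSucc 0, Int.negSucc 0, Int.negSucc 0, Int.negSucc 0, Int.negSucc 0, Int.negSucc 0, Int.negSucc 0, Int.negSucc 0, Int.ofNat 1, Int.negSucc 0],
  [Int.ofNat 0, Int.ofNat 0, Int.ofNat 0, Int.ofNat 2, Int.ofNat 0, Int.ofNat 0, Int.ofNat 0, Int.ofNat 2, Int.ofNat 0, Int.ofNat 2, Int.ofNat 0, Int.ofNat 2, Int.ofNat 0, Int.ofNat 0, Int.ofNat 0, Int.ofNat 0, Int.ofNat 0, Int.ofNat 0, Int.ofNat 0, Int.negSucc 1, Int.ofNat 0, Int.negSucc 1, Int.ofNat 2, Int.ofNat 2],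
  [Int.ofNat 0, Int.ofNat 0, Int.ofNat 0, Int.ofNat 2, Int.ofNat 0, Int.ofNat 2, Int.ofNat 0, Int.ofNat 0, Int.ofNat 0, Int.ofNat 0, Int.ofNat 0, Int.ofNat 0, Int.ofNat 2, Int.ofNat 0, Int.ofNat 2, Int.ofNat 0, Int.ofNat 0, Int.ofNat 0, Int.ofNat 0, Int.ofNat 2, Int.negSucc 1, Int.ofNat 0, Int.negSucc 1, Int.ofNat 2],
  [Int.ofNat 1, Int.ofNat 1, Int.ofNat 1, Int.negSucc 0, Int.ofNat 1, Int.negSucc 0, Int.negSucc 0, Int.negSucc 0, Int.negSucc 0, Int.ofNat 1, Int.ofNat 1, Int.negSucc 0, Int.ofNat 1, Int.ofNat 1, Int.negSucc 0, Int.ofNat 1, Int.ofNat 1, Int.negSucc 2, Int.negSucc 0, Int.ofNat 1, Int.negSucc 0, Int.negSucc 0, Int.negSucc 0, Int.negSucc 0],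
  [Int.ofNat 1, Int.ofNat 1, Int.negSucc 0, Int.negSucc 0, Int.ofNat 1, Int.ofNat 1, Int.ofNat 1, Int.negSucc 0, Int.negSucc 0, Int.negSucc 0, Int.negSucc 0, Int.negSucc 0, Int.ofNat 1, Int.ofNat 1, Int.negSucc 0, Int.negSucc 0, Int.ofNat 1, Int.negSucc 2, Int.ofNat 1, Int.ofNat 1, Int.negSucc 0, Int.negSucc 0, Int.ofNat 1, Int.negSucc 0],
  [Int.negSucc 0, Int.ofNat 1, Int.negSucc 0, Int.negSucc 0, Int.negSucc 0, Int.ofNat 1, Int.negSucc 0, Int.negSucc 0, Int.ofNat 1, Int.negSucc 0, Int.ofNat 1, Int.negSucc 0, Int.negSucc 0, Int.ofNat 1, Int.negSucc 2, Int.ofNat 1, Int.ofNat 1, Int.ofNat 1, Int.negSucc 0, Int.negSucc 0, Int.ofNat 1, Int.ofNat 1, Int.ofNat 1, Int.negSucc 0],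
  [Int.ofNat 1, Int.negSucc 0, Int.ofNat 1, Int.ofNat 1, Int.ofNat 1, Int.ofNat 1, Int.ofNat 1, Int.negSucc 0, Int.negSucc 0, Int.ofNat 1, Int.ofNat 1, Int.negSucc 0, Int.ofNat 1, Int.negSucc 0, Int.negSucc 2, Int.ofNat 1, Int.negSucc 0, Int.ofNat 1, Int.ofNat 1, Int.negSucc 0, Int.ofNat 1, Int.ofNat 1, Int.ofNat 1, Int.negSucc 0],
  [Int.negSucc 0, Int.ofNat 1, Int.negSucc 0, Int.ofNat 1, Int.ofNat 1, Int.ofNat 1, Int.negSucc 0, Int.negSucc 0, Int.ofNat 1, Int.ofNat 1, Int.negSucc 0, Int.ofNat 1, Int.ofNat 1, Int.negSucc 0, Int.ofNat 1, Int.ofNat 1, Int.ofNat 1, Int.ofNat 1, Int.negSucc 2, Int.ofNat 1, Int.negSucc 0, Int.ofNat 1, Int.negSucc 0, Int.ofNat 1],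
  [Int.ofNat 1, Int.ofNat 1, Int.ofNat 1, Int.ofNat 1, Int.ofNat 1, Int.ofNat 1, Int.negSucc 0, Int.ofNat 1, Int.ofNat 1, Int.negSucc 0, Int.ofNat 1, Int.negSucc 0, Int.ofNat 1, Int.negSucc 0, Int.ofNat 1, Int.ofNat 1, Int.ofNat 1, Int.ofNat 1, Int.ofNat 3, Int.ofNat 1, Int.negSucc 0, Int.negSucc 0, Int.negSucc 0, Int.ofNat 1],
  [Int.negSucc 0, Int.ofNat 1, Int.ofNat 1, Int.ofNat 1, Int.ofNat 1, Int.ofNat 1, Int.ofNat 1, Int.negSucc 0, Int.ofNat 1, Int.ofNat 1, Int.negSucc 0, Int.ofNat 1, Int.negSucc 0, Int.ofNat 1, Int.negSucc 0, Int.ofNat 1, Int.ofNat 1, Int.ofNat 1, Int.ofNat 1, Int.ofNat 3, Int.ofNat 1, Int.negSucc 0, Int.negSucc 0, Int.ofNat 1],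
  [Int.ofNat 2, Int.ofNat 0, Int.ofNat 0, Int.ofNat 0, Int.ofNat 0, Int.ofNat 0, Int.ofNat 0, Int.negSucc 1, Int.ofNat 0, Int.ofNat 0, Int.negSucc 1, Int.ofNat 0, Int.negSucc 1, Int.ofNat 0, Int.negSucc 1, Int.ofNat 0, Int.ofNat 0, Int.ofNat 0, Int.ofNat 0, Int.ofNat 2, Int.ofNat 0, Int.negSucc 1, Int.negSucc 1, Int.ofNat 0],
  [Int.ofNat 0, Int.ofNat 0, Int.ofNat 0, Int.ofNat 0, Int.negSucc 1, Int.ofNat 0, Int.ofNat 0, Int.negSucc 1, Int.ofNat 0, Int.negSucc 1, Int.ofNat 0, Int.negSucc 1, Int.ofNat 0, Int.ofNat 0, Int.ofNat 0, Int.ofNat 0, Int.ofNat 2, Int.ofNat 0, Int.negSucc 1, Int.negSucc 1, Int.ofNat 2, Int.ofNat 0, Int.ofNat 0, Int.ofNat 0],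
  [Int.ofNat 0, Int.ofNat 0, Int.ofNat 0, Int.ofNat 0, Int.negSucc 1, Int.ofNat 0, Int.ofNat 2, Int.ofNat 0, Int.ofNat 2, Int.negSucc 1, Int.ofNat 0, Int.ofNat 0, Int.ofNat 2, Int.ofNat 0, Int.ofNat 0, Int.ofNat 0, Int.ofNat 2, Int.ofNat 0, Int.ofNat 0, Int.ofNat 0, Int.ofNat 2, Int.ofNat 2, Int.ofNat 0, Int.ofNat 0],
  [Int.ofNat 0, Int.ofNat 2, Int.negSucc 1, Int.ofNat 0, Int.ofNat 0, Int.ofNat 0, Int.ofNat 0, Int.ofNat 0, Int.ofNat 2, Int.ofNat 0, Int.ofNat 2, Int.ofNat 0, Int.negSucc 1, Int.ofNat 2, Int.ofNat 0, Int.ofNat 0, Int.ofNat 2, Int.ofNat 0, Int.ofNat 0, Int.ofNat 0, Int.ofNat 2, Int.ofNat 0, Int.ofNat 0, Int.ofNat 0],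
  [Int.ofNat 0, Int.negSucc 1, Int.ofNat 2, Int.ofNat 0, Int.negSucc 1, Int.ofNat 0, Int.ofNat 0, Int.ofNat 0, Int.ofNat 2, Int.negSucc 1, Int.ofNat 0, Int.ofNat 0, Int.negSucc 1, Int.ofNat 0, Int.ofNat 0, Int.negSucc 1, Int.ofNat 0, Int.ofNat 0, Int.ofNat 0, Int.ofNat 0, Int.ofNat 0, Int.ofNat 0, Int.negSucc 1, Int.ofNat 0],
  [Int.ofNat 0, Int.negSucc 1, Int.negSucc 1, Int.ofNat 0, Int.negSucc 1, Int.ofNat 0, Int.ofNat 0, Int.ofNat 0, Int.ofNat 2, Int.ofNat 2, Int.ofNat 0, Int.ofNat 0, Int.negSucc 1, Int.ofNat 0, Int.ofNat 0, Int.ofNat 2, Int.ofNat 0, Int.ofNat 0, Int.ofNat 0, Int.ofNat 0, Int.ofNat 0, Int.ofNat 0, Int.ofNat 2, Int.ofNat 0],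
  [Int.ofNat 0, Int.ofNat 0, Int.negSucc 1, Int.ofNat 0, Int.ofNat 0, Int.ofNat 0, Int.ofNat 2, Int.ofNat 0, Int.ofNat 0, Int.ofNat 2, Int.negSucc 1, Int.negSucc 1, Int.ofNat 0, Int.ofNat 0, Int.negSucc 1, Int.ofNat 0, Int.ofNat 2, Int.ofNat 0, Int.ofNat 0, Int.ofNat 0, Int.ofNat 2, Int.ofNat 0, Int.ofNat 0, Int.ofNat 0],
  [Int.ofNat 0, Int.ofNat 0, Int.ofNat 2, Int.ofNat 0, Int.ofNat 0, Int.ofNat 0, Int.negSucc 1, Int.ofNat 0, Int.ofNat 0, Int.negSucc 1, Int.ofNat 2, Int.negSucc 1, Int.ofNat 0, Int.ofNat 0, Int.negSucc 1, Int.ofNat 0, Int.ofNat 2, Int.ofNat 0, Int.ofNat 0, Int.ofNat 0, Int.ofNat 2, Int.ofNat 0, Int.ofNat 0, Int.ofNat 0],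
  [Int.ofNat 1, Int.ofNat 1, Int.negSucc 0, Int.ofNat 1, Int.negSucc 0, Int.ofNat 1, Int.negSucc 0, Int.ofNat 1, Int.ofNat 1, Int.negSucc 2, Int.ofNat 1, Int.negSucc 0, Int.ofNat 1, Int.negSucc 0, Int.negSucc 0, Int.negSucc 0, Int.ofNat 1, Int.ofNat 1, Int.ofNat 1, Int.ofNat 1, Int.ofNat 1, Int.ofNat 1, Int.negSucc 0, Int.ofNat 1],
  [Int.ofNat 1, Int.ofNat 1, Int.negSucc 0, Int.ofNat 1, Int.negSucc 0, Int.ofNat 1, Int.ofNat 1, Int.ofNat 1, Int.ofNat 1, Int.ofNat 1, Int.ofNat 1, Int.ofNat 1, Int.ofNat 1, Int.negSucc 2, Int.ofNat 1, Int.negSucc 0, Int.negSucc 0, Int.negSucc 0, Int.negSucc 0, Int.negSucc 0, Int.ofNat 1, Int.ofNat 1, Int.negSucc 0, Int.ofNat 1],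
  [Int.ofNat 0, Int.ofNat 0, Int.ofNat 2, Int.ofNat 0, Int.ofNat 2, Int.ofNat 0, Int.ofNat 0, Int.ofNat 0, Int.ofNat 0, Int.ofNat 0, Int.ofNat 0, Int.ofNat 0, Int.ofNat 0, Int.ofNat 0, Int.ofNat 0, Int.negSucc 1, Int.ofNat 2, Int.negSucc 1, Int.negSucc 1, Int.negSucc 1, Int.ofNat 0, Int.ofNat 0, Int.ofNat 2, Int.ofNat 0],
  [Int.ofNat 0, Int.ofNat 0, Int.ofNat 2, Int.ofNat 0, Int.ofNat 0, Int.ofNat 2, Int.ofNat 0, Int.ofNat 2, Int.ofNat 0, Int.ofNat 0, Int.ofNat 0, Int.ofNat 0, Int.ofNat 0, Int.ofNat 0, Int.ofNat 0, Int.ofNat 0, Int.ofNat 0, Int.ofNat 0, Int.negSucc 1, Int.ofNat 2, Int.negSucc 1, Int.negSucc 1, Int.negSucc 1, Int.ofNat 0],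
  [Int.ofNat 1, Int.ofNat 1, Int.negSucc 0, Int.negSucc 0, Int.ofNat 1, Int.ofNat 1, Int.negSucc 0, Int.ofNat 1, Int.ofNat 1, Int.ofNat 1, Int.ofNat 1, Int.ofNat 1, Int.ofNat 1, Int.ofNat 1, Int.negSucc 0, Int.ofNat 1, Int.ofNat 1, Int.negSucc 0, Int.negSucc 0, Int.ofNat 1, Int.negSucc 0, Int.negSucc 2, Int.negSucc 0, Int.ofNat 1],
  [Int.ofNat 1, Int.negSucc 0, Int.negSucc 0, Int.ofNat 1, Int.ofNat 1, Int.negSucc 0, Int.ofNat 1, Int.ofNat 1, Int.ofNat 1, Int.ofNat 1, Int.ofNat 1, Int.ofNat 1, Int.ofNat 1, Int.negSucc 0, Int.ofNat 1, Int.ofNat 1, Int.negSucc 0, Int.negSucc 0, Int.ofNat 1, Int.negSucc 0, Int.negSucc 2, Int.negSucc 0, Int.ofNat 1, Int.ofNat 1],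
  [Int.negSucc 0, Int.negSucc 0, Int.ofNat 1, Int.ofNat 1, Int.ofNat 1, Int.negSucc 0, Int.ofNat 1, Int.negSucc 0, Int.ofNat 1, Int.negSucc 0, Int.negSucc 0, Int.negSucc 0, Int.ofNat 1, Int.negSucc 0, Int.ofNat 1, Int.ofNat 1, Int.negSucc 0, Int.negSucc 0, Int.negSucc 0, Int.negSucc 0, Int.negSucc 2, Int.ofNat 1, Int.ofNat 1, Int.ofNat 1],
  [Int.negSucc 0, Int.ofNat 1, Int.negSucc 0, Int.ofNat 1, Int.negSucc 0, Int.negSucc 0, Int.ofNat 1, Int.negSucc 2, Int.negSucc 0, Int.negSucc 0, Int.ofNat 1, Int.ofNat 1, Int.negSucc 0, Int.ofNat 1, Int.negSucc 0, Int.ofNat 1, Int.ofNat 1, Int.ofNat 1, Int.ofNat 1, Int.negSucc 0, Int.negSucc 0, Int.negSucc 0, Int.negSucc 0, Int.ofNat 1],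
  [Int.ofNat 1, Int.ofNat 1, Int.ofNat 1, Int.ofNat 1, Int.negSucc 0, Int.negSucc 0, Int.ofNat 1, Int.ofNat 3, Int.negSucc 0, Int.ofNat 1, Int.negSucc 0, Int.negSucc 0, Int.negSucc 0, Int.ofNat 1, Int.negSucc 0, Int.ofNat 1, Int.ofNat 1, Int.ofNat 1, Int.negSucc 0, Int.negSucc 0, Int.negSucc 0, Int.ofNat 1, Int.negSucc 0, Int.ofNat 1],
  [Int.negSucc 0, Int.ofNat 1, Int.ofNat 1, Int.ofNat 1, Int.ofNat 1, Int.negSucc 0, Int.negSucc 0, Int.ofNat 1, Int.ofNat 3, Int.negSucc 0, Int.ofNat 1, Int.negSucc 0, Int.negSucc 0, Int.negSucc 0, Int.ofNat 1, Int.negSucc 0, Int.ofNat 1, Int.ofNat 1, Int.ofNat 1, Int.negSucc 0, Int.negSucc 0, Int.negSucc 0, Int.ofNat 1, Int.ofNat 1],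
  [Int.ofNat 2, Int.ofNat 0, Int.ofNat 0, Int.ofNat 0, Int.ofNat 0, Int.negSucc 1, Int.ofNat 0, Int.ofNat 2, Int.ofNat 2, Int.ofNat 0, Int.ofNat 2, Int.negSucc 1, Int.negSucc 1, Int.negSucc 1, Int.ofNat 0, Int.ofNat 0, Int.ofNat 0, Int.ofNat 0, Int.ofNat 0, Int.ofNat 0, Int.ofNat 0, Int.ofNat 0, Int.ofNat 0, Int.ofNat 0],
  [Int.ofNat 0, Int.ofNat 0, Int.negSucc 1, Int.ofNat 0, Int.ofNat 2, Int.ofNat 2, Int.ofNat 0, Int.ofNat 2, Int.negSucc 1, Int.negSucc 1, Int.negSucc 1, Int.ofNat 0, Int.ofNat 0, Int.ofNat 0, Int.ofNat 0, Int.ofNat 0, Int.ofNat 0, Int.ofNat 0, Int.ofNat 0, Int.ofNat 0, Int.ofNat 2, Int.ofNat 0, Int.ofNat 0, Int.ofNat 0],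
  [Int.negSucc 0, Int.negSucc 0, Int.ofNat 1, Int.negSucc 0, Int.ofNat 1, Int.ofNat 1, Int.negSucc 0, Int.ofNat 1, Int.negSucc 0, Int.negSucc 0, Int.negSucc 0, Int.ofNat 1, Int.ofNat 1, Int.negSucc 0, Int.negSucc 0, Int.ofNat 1, Int.negSucc 0, Int.negSucc 0, Int.ofNat 1, Int.negSucc 0, Int.ofNat 3, Int.negSucc 0, Int.negSucc 0, Int.negSucc 0],
  [Int.negSucc 0, Int.negSucc 0, Int.ofNat 1, Int.negSucc 0, Int.ofNat 1, Int.ofNat 1, Int.ofNat 1, Int.negSucc 0, Int.ofNat 1, Int.negSucc 0, Int.ofNat 3, Int.negSucc 0, Int.negSucc 0, Int.negSucc 0, Int.negSucc 0, Int.ofNat 1, Int.negSucc 0, Int.negSucc 0, Int.negSucc 0, Int.ofNat 1, Int.negSucc 0, Int.ofNat 1, Int.negSucc 0, Int.negSucc 0],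
  [Int.ofNat 0, Int.ofNat 0, Int.negSucc 1, Int.ofNat 0, Int.ofNat 2, Int.ofNat 2, Int.ofNat 0, Int.negSucc 1, Int.ofNat 2, Int.negSucc 1, Int.ofNat 2, Int.ofNat 0, Int.ofNat 0, Int.ofNat 0, Int.ofNat 0, Int.ofNat 0, Int.ofNat 0, Int.ofNat 0, Int.ofNat 0, Int.ofNat 0, Int.negSucc 1, Int.ofNat 0, Int.ofNat 0, Int.ofNat 0],
  [Int.ofNat 0, Int.ofNat 0, Int.ofNat 2, Int.ofNat 0, Int.ofNat 2, Int.negSucc 1, Int.ofNat 0, Int.negSucc 1, Int.ofNat 2, Int.ofNat 2, Int.negSucc 1, Int.ofNat 0, Int.ofNat 0, Int.ofNat 0, Int.ofNat 0, Int.ofNat 0, Int.ofNat 0, Int.ofNat 0, Int.ofNat 0, Int.ofNat 0, Int.negSucc 1, Int.ofNat 0, Int.ofNat 0, Int.ofNat 0],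
  [Int.negSucc 1, Int.ofNat 0, Int.ofNat 0, Int.ofNat 2, Int.ofNat 0, Int.ofNat 0, Int.ofNat 0, Int.ofNat 0, Int.negSucc 1, Int.negSucc 1, Int.ofNat 0, Int.negSucc 1, Int.ofNat 0, Int.ofNat 2, Int.ofNat 0, Int.ofNat 0, Int.ofNat 0, Int.ofNat 0, Int.ofNat 2, Int.ofNat 2, Int.ofNat 0, Int.ofNat 0, Int.ofNat 0, Int.ofNat 0],
  [Int.ofNat 2, Int.ofNat 0, Int.ofNat 0, Int.negSucc 1, Int.ofNat 0, Int.ofNat 0, Int.ofNat 0, Int.ofNat 0, Int.ofNat 2, Int.ofNat 2, Int.ofNat 0, Int.negSucc 1, Int.ofNat 0, Int.negSucc 1, Int.ofNat 0, Int.ofNat 0, Int.ofNat 0, Int.ofNat 0, Int.negSucc 1, Int.ofNat 2, Int.ofNat 0, Int.ofNat 0, Int.ofNat 0, Int.ofNat 0],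
  [Int.ofNat 0, Int.ofNat 0, Int.negSucc 1, Int.ofNat 0, Int.ofNat 0, Int.ofNat 2, Int.ofNat 2, Int.negSucc 1, Int.ofNat 0, Int.ofNat 0, Int.ofNat 0, Int.ofNat 0, Int.ofNat 0, Int.ofNat 0, Int.negSucc 1, Int.negSucc 1, Int.ofNat 0, Int.ofNat 0, Int.ofNat 0, Int.ofNat 0, Int.ofNat 2, Int.ofNat 0, Int.ofNat 0, Int.ofNat 2],
  [Int.ofNat 0, Int.ofNat 0, Int.ofNat 2, Int.ofNat 0, Int.ofNat 0, Int.ofNat 2, Int.ofNat 2, Int.ofNat 2, Int.ofNat 0, Int.ofNat 0, Int.ofNat 0, Int.ofNat 0, Int.ofNat 0, Int.ofNat 0, Int.negSucc 1, Int.negSucc 1, Int.ofNat 0, Int.ofNat 0, Int.ofNat 0, Int.ofNat 0, Int.ofNat 2, Int.ofNat 0, Int.ofNat 0, Int.ofNat 2],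
  [Int.ofNat 0, Int.ofNat 0, Int.ofNat 0, Int.ofNat 2, Int.ofNat 0, Int.ofNat 0, Int.ofNat 2, Int.ofNat 2, Int.ofNat 2, Int.ofNat 0, Int.ofNat 0, Int.ofNat 0, Int.ofNat 0, Int.ofNat 0, Int.ofNat 0, Int.negSucc 1, Int.negSucc 1, Int.ofNat 0, Int.ofNat 0, Int.ofNat 0, Int.ofNat 0, Int.ofNat 2, Int.ofNat 0, Int.ofNat 2],
  [Int.ofNat 1, Int.ofNat 1, Int.ofNat 1, Int.ofNat 1, Int.ofNat 1, Int.negSucc 0, Int.negSucc 0, Int.negSucc 0, Int.ofNat 1, Int.ofNat 1, Int.ofNat 1, Int.negSucc 0, Int.negSucc 0, Int.ofNat 1, Int.negSucc 0, Int.negSucc 0, Int.negSucc 0, Int.negSucc 0, Int.negSucc 0, Int.negSucc 2, Int.ofNat 1, Int.negSucc 0, Int.ofNat 1, Int.negSucc 0],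
  [Int.ofNat 1, Int.ofNat 1, Int.negSucc 0, Int.negSucc 0, Int.negSucc 0, Int.ofNat 1, Int.ofNat 1, Int.ofNat 1, Int.negSucc 0, Int.negSucc 0, Int.ofNat 1, Int.negSucc 0, Int.negSucc 0, Int.negSucc 0, Int.negSucc 0, Int.negSucc 0, Int.negSucc 2, Int.ofNat 1, Int.negSucc 0, Int.ofNat 1, Int.ofNat 1, Int.ofNat 1, Int.ofNat 1, Int.negSucc 0],
  [Int.negSucc 0, Int.negSucc 0, Int.ofNat 1, Int.negSucc 0, Int.ofNat 1, Int.ofNat 1, Int.negSucc 0, Int.negSucc 0, Int.ofNat 1, Int.negSucc 0, Int.ofNat 1, Int.ofNat 1, Int.ofNat 1, Int.ofNat 1, Int.negSucc 0, Int.negSucc 0, Int.negSucc 0, Int.ofNat 1, Int.ofNat 1, Int.negSucc 0, Int.ofNat 1, Int.negSucc 0, Int.ofNat 3, Int.ofNat 1],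
  [Int.negSucc 0, Int.negSucc 0, Int.ofNat 1, Int.negSucc 0, Int.ofNat 1, Int.negSucc 0, Int.ofNat 1, Int.ofNat 1, Int.ofNat 1, Int.ofNat 1, Int.ofNat 1, Int.ofNat 1, Int.negSucc 0, Int.negSucc 0, Int.ofNat 3, Int.negSucc 0, Int.ofNat 1, Int.negSucc 0, Int.negSucc 0, Int.ofNat 1, Int.negSucc 0, Int.ofNat 1, Int.negSucc 0, Int.ofNat 1],
  [Int.ofNat 1, Int.ofNat 1, Int.negSucc 0, Int.negSucc 0, Int.ofNat 1, Int.negSucc 0, Int.negSucc 0, Int.negSucc 0, Int.ofNat 1, Int.ofNat 1, Int.ofNat 1, Int.ofNat 1, Int.negSucc 0, Int.negSucc 0, Int.ofNat 3, Int.negSucc 0, Int.ofNat 1, Int.negSucc 0, Int.negSucc 0, Int.negSucc 0, Int.negSucc 0, Int.negSucc 0, Int.negSucc 0, Int.negSucc 0],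
  [Int.ofNat 1, Int.ofNat 1, Int.ofNat 1, Int.negSucc 0, Int.ofNat 1, Int.ofNat 1, Int.ofNat 1, Int.negSucc 0, Int.ofNat 1, Int.negSucc 0, Int.negSucc 0, Int.ofNat 1, Int.negSucc 0, Int.negSucc 0, Int.ofNat 3, Int.ofNat 1, Int.ofNat 1, Int.negSucc 0, Int.ofNat 1, Int.negSucc 0, Int.negSucc 0, Int.negSucc 0, Int.ofNat 1, Int.negSucc 0],
  [Int.negSucc 0, Int.ofNat 1, Int.ofNat 1, Int.ofNat 1, Int.negSucc 0, Int.ofNat 1, Int.ofNat 1, Int.ofNat 1, Int.ofNat 1, Int.ofNat 1, Int.negSucc 0, Int.ofNat 1, Int.negSucc 0, Int.ofNat 3, Int.ofNat 1, Int.negSucc 0, Int.negSucc 0, Int.ofNat 1, Int.negSucc 0, Int.negSucc 0, Int.ofNat 1, Int.negSucc 0, Int.negSucc 0, Int.negSucc 0],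
  [Int.negSucc 0, Int.ofNat 1, Int.negSucc 0, Int.ofNat 1, Int.negSucc 0, Int.negSucc 0, Int.negSucc 0, Int.ofNat 1, Int.ofNat 1, Int.negSucc 0, Int.ofNat 1, Int.ofNat 1, Int.negSucc 0, Int.ofNat 3, Int.ofNat 1, Int.ofNat 1, Int.negSucc 0, Int.ofNat 1, Int.ofNat 1, Int.negSucc 0, Int.ofNat 1, Int.negSucc 0, Int.ofNat 1, Int.negSucc 0],
  [Int.ofNat 0, Int.negSucc 1, Int.ofNat 0, Int.ofNat 0, Int.negSucc 1, Int.negSucc 1, Int.ofNat 0, Int.ofNat 2, Int.ofNat 0, Int.negSucc 1, Int.ofNat 0, Int.ofNat 0, Int.negSucc 1, Int.ofNat 2, Int.ofNat 0, Int.ofNat 0, Int.negSucc 1, Int.ofNat 0, Int.ofNat 0, Int.ofNat 0, Int.ofNat 0, Int.ofNat 0, Int.ofNat 0, Int.ofNat 0],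
  [Int.ofNat 0, Int.ofNat 0, Int.ofNat 0, Int.ofNat 0, Int.ofNat 0, Int.ofNat 0, Int.negSucc 1, Int.negSucc 1, Int.negSucc 1, Int.negSucc 1, Int.ofNat 2, Int.ofNat 0, Int.ofNat 0, Int.negSucc 1, Int.ofNat 0, Int.ofNat 0, Int.ofNat 2, Int.ofNat 0, Int.negSucc 1, Int.ofNat 0, Int.ofNat 0, Int.ofNat 0, Int.ofNat 0, Int.ofNat 0],
  [Int.ofNat 0, Int.ofNat 0, Int.ofNat 0, Int.ofNat 0, Int.ofNat 0, Int.ofNat 0, Int.ofNat 0, Int.ofNat 0, Int.ofNat 0, Int.negSucc 1, Int.ofNat 2, Int.ofNat 2, Int.ofNat 2, Int.negSucc 1, Int.ofNat 0, Int.ofNat 0, Int.ofNat 2, Int.ofNat 0, Int.ofNat 0, Int.ofNat 2, Int.ofNat 0, Int.ofNat 2, Int.ofNat 0, Int.ofNat 0],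
  [Int.ofNat 0, Int.ofNat 2, Int.ofNat 0, Int.ofNat 0, Int.ofNat 0, Int.ofNat 0, Int.ofNat 0, Int.ofNat 0, Int.ofNat 0, Int.ofNat 0, Int.ofNat 0, Int.ofNat 0, Int.negSucc 1, Int.ofNat 2, Int.ofNat 2, Int.ofNat 2, Int.negSucc 1, Int.ofNat 0, Int.ofNat 0, Int.ofNat 2, Int.ofNat 0, Int.ofNat 0, Int.ofNat 2, Int.ofNat 0],
  [Int.ofNat 1, Int.negSucc 0, Int.ofNat 1, Int.negSucc 0, Int.negSucc 0, Int.negSucc 0, Int.negSucc 0, Int.negSucc 0, Int.ofNat 1, Int.negSucc 0, Int.negSucc 0, Int.ofNat 1, Int.negSucc 0, Int.ofNat 1, Int.ofNat 1, Int.ofNat 1, Int.negSucc 2, Int.negSucc 0, Int.ofNat 1, Int.ofNat 1, Int.negSucc 0, Int.negSucc 0, Int.ofNat 1, Int.ofNat 1],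
  [Int.negSucc 0, Int.ofNat 1, Int.negSucc 0, Int.negSucc 0, Int.negSucc 0, Int.negSucc 0, Int.negSucc 0, Int.ofNat 1, Int.negSucc 0, Int.negSucc 0, Int.ofNat 1, Int.negSucc 0, Int.ofNat 1, Int.ofNat 1, Int.ofNat 1, Int.negSucc 2, Int.negSucc 0, Int.ofNat 1, Int.ofNat 1, Int.negSucc 0, Int.negSucc 0, Int.ofNat 1, Int.ofNat 1, Int.ofNat 1],
  [Int.ofNat 1, Int.ofNat 1, Int.ofNat 1, Int.negSucc 0, Int.negSucc 0, Int.negSucc 0, Int.negSucc 0, Int.negSucc 0, Int.negSucc 0, Int.ofNat 1, Int.negSucc 0, Int.ofNat 1, Int.ofNat 1, Int.ofNat 1, Int.ofNat 1, Int.negSucc 2, Int.negSucc 0, Int.ofNat 1, Int.negSucc 0, Int.negSucc 0, Int.negSucc 0, Int.negSucc 0, Int.ofNat 1, Int.ofNat 1],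
  [Int.ofNat 1, Int.ofNat 1, Int.negSucc 0, Int.negSucc 0, Int.ofNat 1, Int.negSucc 0, Int.negSucc 0, Int.negSucc 0, Int.ofNat 1, Int.negSucc 0, Int.negSucc 0, Int.ofNat 1, Int.ofNat 1, Int.negSucc 0, Int.negSucc 0, Int.negSucc 2, Int.ofNat 1, Int.ofNat 1, Int.negSucc 0, Int.ofNat 1, Int.negSucc 0, Int.negSucc 0, Int.ofNat 1, Int.ofNat 1],
  [Int.negSucc 0, Int.ofNat 1, Int.ofNat 1, Int.negSucc 0, Int.ofNat 1, Int.negSucc 0, Int.negSucc 0, Int.ofNat 1, Int.ofNat 1, Int.ofNat 1, Int.ofNat 1, Int.negSucc 0, Int.ofNat 1, Int.negSucc 0, Int.negSucc 0, Int.negSucc 2, Int.ofNat 1, Int.ofNat 1, Int.ofNat 1, Int.ofNat 1, Int.negSucc 0, Int.ofNat 1, Int.ofNat 1, Int.ofNat 1],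
  [Int.ofNat 1, Int.negSucc 0, Int.ofNat 1, Int.ofNat 1, Int.negSucc 0, Int.ofNat 1, Int.negSucc 0, Int.negSucc 0, Int.ofNat 1, Int.ofNat 1, Int.ofNat 1, Int.ofNat 1, Int.negSucc 0, Int.ofNat 1, Int.negSucc 0, Int.negSucc 0, Int.negSucc 2, Int.ofNat 1, Int.ofNat 1, Int.ofNat 1, Int.ofNat 1, Int.negSucc 0, Int.ofNat 1, Int.ofNat 1],
  [Int.ofNat 0, Int.ofNat 2, Int.ofNat 0, Int.ofNat 0, Int.ofNat 0, Int.ofNat 0, Int.ofNat 0, Int.ofNat 0, Int.ofNat 0, Int.ofNat 0, Int.ofNat 0, Int.ofNat 0, Int.negSucc 1, Int.ofNat 2, Int.negSucc 1, Int.negSucc 1, Int.negSucc 1, Int.ofNat 0, Int.ofNat 0, Int.ofNat 2, Int.ofNat 0, Int.ofNat 0, Int.ofNat 2, Int.ofNat 0],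
  [Int.ofNat 0, Int.ofNat 0, Int.ofNat 0, Int.ofNat 0, Int.ofNat 0, Int.ofNat 0, Int.ofNat 0, Int.ofNat 0, Int.ofNat 0, Int.negSucc 1, Int.ofNat 2, Int.negSucc 1, Int.negSucc 1, Int.negSucc 1, Int.ofNat 0, Int.ofNat 0, Int.ofNat 2, Int.ofNat 0, Int.ofNat 0, Int.ofNat 2, Int.ofNat 0, Int.ofNat 2, Int.ofNat 0, Int.ofNat 0],
  [Int.ofNat 0, Int.ofNat 0, Int.ofNat 0, Int.ofNat 0, Int.ofNat 0, Int.ofNat 0, Int.negSucc 1, Int.negSucc 1, Int.ofNat 2, Int.negSucc 1, Int.ofNat 2, Int.ofNat 0, Int.ofNat 0, Int.negSucc 1, Int.ofNat 0, Int.ofNat 0, Int.ofNat 2, Int.ofNat 0, Int.ofNat 2, Int.ofNat 0, Int.ofNat 0, Int.ofNat 0, Int.ofNat 0, Int.ofNat 0],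
  [Int.ofNat 0, Int.negSucc 1, Int.ofNat 0, Int.ofNat 0, Int.ofNat 2, Int.negSucc 1, Int.ofNat 0, Int.ofNat 2, Int.ofNat 0, Int.negSucc 1, Int.ofNat 0, Int.ofNat 0, Int.negSucc 1, Int.ofNat 2, Int.ofNat 0, Int.ofNat 0, Int.ofNat 2, Int.ofNat 0, Int.ofNat 0, Int.ofNat 0, Int.ofNat 0, Int.ofNat 0, Int.ofNat 0, Int.ofNat 0],
  [Int.negSucc 0, Int.ofNat 1, Int.negSucc 0, Int.ofNat 1, Int.negSucc 0, Int.negSucc 0, Int.negSucc 0, Int.ofNat 1, Int.ofNat 1, Int.negSucc 0, Int.ofNat 1, Int.ofNat 1, Int.negSucc 0, Int.negSucc 0, Int.ofNat 1, Int.ofNat 1, Int.negSucc 0, Int.ofNat 1, Int.ofNat 1, Int.negSucc 0, Int.ofNat 1, Int.negSucc 0, Int.negSucc 2, Int.negSucc 0],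
  [Int.negSucc 0, Int.ofNat 1, Int.ofNat 1, Int.ofNat 1, Int.negSucc 0, Int.ofNat 1, Int.ofNat 1, Int.ofNat 1, Int.ofNat 1, Int.ofNat 1, Int.negSucc 0, Int.ofNat 1, Int.negSucc 0, Int.negSucc 0, Int.ofNat 1, Int.negSucc 0, Int.negSucc 0, Int.ofNat 1, Int.negSucc 0, Int.negSucc 0, Int.ofNat 1, Int.negSucc 0, Int.ofNat 3, Int.negSucc 0],
  [Int.negSucc 0, Int.negSucc 0, Int.ofNat 1, Int.ofNat 1, Int.ofNat 1, Int.ofNat 1, Int.negSucc 0, Int.ofNat 1, Int.ofNat 1, Int.ofNat 1, Int.negSucc 0, Int.ofNat 1, Int.negSucc 0, Int.negSucc 0, Int.ofNat 1, Int.negSucc 0, Int.negSucc 0, Int.negSucc 0, Int.ofNat 1, Int.ofNat 1, Int.negSucc 0, Int.ofNat 1, Int.ofNat 3, Int.negSucc 0],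
  [Int.ofNat 1, Int.ofNat 1, Int.negSucc 0, Int.negSucc 0, Int.negSucc 0, Int.ofNat 1, Int.ofNat 1, Int.ofNat 1, Int.negSucc 0, Int.negSucc 0, Int.negSucc 0, Int.ofNat 1, Int.ofNat 1, Int.ofNat 1, Int.ofNat 1, Int.negSucc 0, Int.ofNat 1, Int.negSucc 0, Int.negSucc 0, Int.ofNat 1, Int.negSucc 0, Int.ofNat 1, Int.ofNat 3, Int.negSucc 0],
  [Int.negSucc 0, Int.ofNat 3, Int.ofNat 1, Int.negSucc 0, Int.negSucc 0, Int.negSucc 0, Int.ofNat 1, Int.ofNat 1, Int.negSucc 0, Int.ofNat 1, Int.ofNat 1, Int.negSucc 0, Int.ofNat 1, Int.ofNat 1, Int.negSucc 0, Int.negSucc 0, Int.negSucc 0, Int.negSucc 0, Int.ofNat 1, Int.ofNat 1, Int.negSucc 0, Int.ofNat 1, Int.ofNat 1, Int.ofNat 1],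
  [Int.ofNat 1, Int.ofNat 3, Int.negSucc 0, Int.negSucc 0, Int.negSucc 0, Int.negSucc 0, Int.ofNat 1, Int.negSucc 0, Int.negSucc 0, Int.negSucc 0, Int.negSucc 0, Int.ofNat 1, Int.ofNat 1, Int.ofNat 1, Int.negSucc 0, Int.negSucc 0, Int.negSucc 0, Int.negSucc 0, Int.negSucc 0, Int.ofNat 1, Int.negSucc 0, Int.negSucc 0, Int.ofNat 1, Int.ofNat 1],
  [Int.ofNat 1, Int.ofNat 1, Int.ofNat 3, Int.negSucc 0, Int.negSucc 0, Int.negSucc 0, Int.negSucc 0, Int.ofNat 1, Int.negSucc 0, Int.negSucc 0, Int.negSucc 0, Int.negSucc 0, Int.ofNat 1, Int.ofNat 1, Int.ofNat 1, Int.negSucc 0, Int.negSucc 0, Int.negSucc 0, Int.negSucc 0, Int.negSucc 0, Int.ofNat 1, Int.negSucc 0, Int.negSucc 0, Int.ofNat 1],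
  [Int.ofNat 2, Int.ofNat 2, Int.ofNat 0, Int.ofNat 0, Int.ofNat 0, Int.ofNat 0, Int.ofNat 0, Int.ofNat 2, Int.ofNat 0, Int.ofNat 0, Int.ofNat 0, Int.ofNat 0, Int.ofNat 2, Int.ofNat 2, Int.ofNat 2, Int.ofNat 0, Int.ofNat 0, Int.ofNat 0, Int.ofNat 0, Int.ofNat 0, Int.ofNat 2, Int.ofNat 0, Int.ofNat 0, Int.ofNat 2],
  [Int.ofNat 0, Int.ofNat 0, Int.ofNat 0, Int.ofNat 0, Int.ofNat 2, Int.ofNat 0, Int.ofNat 0, Int.ofNat 0, Int.ofNat 0, Int.ofNat 2, Int.ofNat 2, Int.ofNat 2, Int.ofNat 0, Int.ofNat 0, Int.ofNat 0, Int.ofNat 0, Int.ofNat 0, Int.ofNat 2, Int.ofNat 0, Int.ofNat 0, Int.ofNat 2, Int.ofNat 2, Int.ofNat 0, Int.ofNat 2],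
  [Int.ofNat 1, Int.ofNat 1, Int.ofNat 1, Int.negSucc 0, Int.ofNat 1, Int.negSucc 0, Int.negSucc 0, Int.negSucc 0, Int.negSucc 0, Int.negSucc 0, Int.negSucc 0, Int.ofNat 1, Int.negSucc 0, Int.negSucc 0, Int.negSucc 0, Int.negSucc 2, Int.negSucc 0, Int.ofNat 1, Int.negSucc 0, Int.negSucc 0, Int.negSucc 0, Int.ofNat 1, Int.negSucc 0, Int.negSucc 0],
  [Int.ofNat 1, Int.negSucc 0, Int.ofNat 1, Int.negSucc 0, Int.negSucc 0, Int.negSucc 0, Int.ofNat 1, Int.negSucc 0, Int.negSucc 0, Int.negSucc 0, Int.negSucc 0, Int.ofNat 1, Int.negSucc 0, Int.negSucc 0, Int.negSucc 0, Int.negSucc 2, Int.negSucc 0, Int.negSucc 0, Int.ofNat 1, Int.ofNat 1, Int.ofNat 1, Int.negSucc 0, Int.negSucc 0, Int.negSucc 0],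
  [Int.negSucc 0, Int.ofNat 1, Int.negSucc 0, Int.ofNat 1, Int.ofNat 1, Int.ofNat 1, Int.ofNat 1, Int.negSucc 0, Int.negSucc 0, Int.ofNat 1, Int.ofNat 1, Int.ofNat 1, Int.negSucc 0, Int.ofNat 1, Int.ofNat 1, Int.negSucc 0, Int.ofNat 1, Int.ofNat 1, Int.ofNat 1, Int.ofNat 1, Int.ofNat 3, Int.negSucc 0, Int.ofNat 1, Int.ofNat 1],
  [Int.negSucc 0, Int.ofNat 1, Int.ofNat 1, Int.ofNat 1, Int.ofNat 1, Int.negSucc 0, Int.negSucc 0, Int.negSucc 0, Int.negSucc 0, Int.negSucc 0, Int.negSucc 0, Int.ofNat 1, Int.negSucc 0, Int.ofNat 1, Int.ofNat 1, Int.ofNat 1, Int.ofNat 1, Int.ofNat 1, Int.negSucc 0, Int.ofNat 1, Int.ofNat 3, Int.negSucc 0, Int.negSucc 0, Int.ofNat 1],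
  [Int.ofNat 1, Int.negSucc 0, Int.ofNat 1, Int.ofNat 1, Int.ofNat 1, Int.ofNat 1, Int.negSucc 0, Int.negSucc 0, Int.negSucc 0, Int.ofNat 1, Int.negSucc 0, Int.ofNat 1, Int.negSucc 0, Int.ofNat 1, Int.ofNat 1, Int.negSucc 0, Int.negSucc 0, Int.negSucc 0, Int.ofNat 3, Int.ofNat 1, Int.negSucc 0, Int.negSucc 0, Int.ofNat 1, Int.ofNat 1],
  [Int.ofNat 1, Int.negSucc 0, Int.negSucc 0, Int.ofNat 1, Int.ofNat 1, Int.negSucc 0, Int.ofNat 1, Int.negSucc 0, Int.negSucc 0, Int.negSucc 0, Int.ofNat 1, Int.ofNat 1, Int.negSucc 0, Int.ofNat 1, Int.ofNat 1, Int.ofNat 1, Int.negSucc 0, Int.negSucc 0, Int.negSucc 2, Int.ofNat 1, Int.negSucc 0, Int.negSucc 0, Int.negSucc 0, Int.ofNat 1],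
  [Int.negSucc 0, Int.ofNat 1, Int.ofNat 1, Int.ofNat 1, Int.ofNat 1, Int.negSucc 0, Int.ofNat 1, Int.negSucc 0, Int.ofNat 1, Int.negSucc 0, Int.ofNat 1, Int.ofNat 3, Int.ofNat 1, Int.ofNat 1, Int.ofNat 1, Int.ofNat 1, Int.negSucc 0, Int.negSucc 0, Int.negSucc 0, Int.ofNat 1, Int.negSucc 0, Int.negSucc 0, Int.negSucc 0, Int.negSucc 0],
  [Int.negSucc 0, Int.negSucc 0, Int.ofNat 1, Int.ofNat 1, Int.ofNat 1, Int.negSucc 0, Int.ofNat 1, Int.negSucc 0, Int.negSucc 0, Int.ofNat 1, Int.negSucc 0, Int.ofNat 1, Int.ofNat 1, Int.negSucc 0, Int.negSucc 0, Int.ofNat 1, Int.ofNat 1, Int.ofNat 3, Int.ofNat 1, Int.negSucc 0, Int.ofNat 1, Int.negSucc 0, Int.ofNat 1, Int.negSucc 0],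
  [Int.ofNat 0, Int.ofNat 0, Int.negSucc 1, Int.ofNat 0, Int.ofNat 0, Int.negSucc 1, Int.ofNat 2, Int.ofNat 0, Int.negSucc 1, Int.ofNat 0, Int.negSucc 1, Int.ofNat 0, Int.ofNat 0, Int.negSucc 1, Int.negSucc 1, Int.ofNat 0, Int.ofNat 0, Int.ofNat 2, Int.ofNat 0, Int.ofNat 0, Int.ofNat 0, Int.ofNat 0, Int.ofNat 0, Int.ofNat 0],
  [Int.ofNat 0, Int.ofNat 0, Int.ofNat 0, Int.ofNat 0, Int.ofNat 0, Int.negSucc 1, Int.ofNat 0, Int.ofNat 0, Int.negSucc 1, Int.ofNat 2, Int.ofNat 0, Int.negSucc 1, Int.ofNat 0, Int.negSucc 1, Int.ofNat 0, Int.ofNat 0, Int.negSucc 1, Int.negSucc 1, Int.ofNat 0, Int.ofNat 0, Int.ofNat 2, Int.ofNat 0, Int.ofNat 0, Int.ofNat 0],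
  [Int.ofNat 0, Int.ofNat 0, Int.ofNat 0, Int.ofNat 2, Int.ofNat 2, Int.ofNat 0, Int.ofNat 0, Int.ofNat 0, Int.ofNat 0, Int.ofNat 0, Int.negSucc 1, Int.ofNat 0, Int.ofNat 2, Int.ofNat 0, Int.ofNat 2, Int.negSucc 1, Int.ofNat 0, Int.ofNat 0, Int.ofNat 2, Int.ofNat 0, Int.ofNat 0, Int.ofNat 0, Int.ofNat 2, Int.ofNat 0],
  [Int.ofNat 0, Int.ofNat 0, Int.ofNat 2, Int.ofNat 2, Int.ofNat 0, Int.ofNat 0, Int.ofNat 0, Int.ofNat 0, Int.ofNat 0, Int.negSucc 1, Int.ofNat 0, Int.ofNat 2, Int.ofNat 0, Int.ofNat 2, Int.negSucc 1, Int.ofNat 0, Int.ofNat 0, Int.ofNat 2, Int.ofNat 0, Int.ofNat 0, Int.ofNat 0, Int.ofNat 2, Int.ofNat 0, Int.ofNat 0],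
  [Int.ofNat 0, Int.ofNat 0, Int.negSucc 1, Int.ofNat 2, Int.ofNat 0, Int.ofNat 0, Int.ofNat 0, Int.ofNat 0, Int.ofNat 0, Int.ofNat 2, Int.ofNat 0, Int.negSucc 1, Int.ofNat 0, Int.ofNat 2, Int.negSucc 1, Int.ofNat 0, Int.ofNat 0, Int.ofNat 2, Int.ofNat 0, Int.ofNat 0, Int.ofNat 0, Int.negSucc 1, Int.ofNat 0, Int.ofNat 0],
  [Int.ofNat 0, Int.negSucc 1, Int.ofNat 0, Int.ofNat 2, Int.ofNat 0, Int.ofNat 0, Int.ofNat 0, Int.ofNat 0, Int.ofNat 2, Int.ofNat 0, Int.negSucc 1, Int.negSucc 1, Int.ofNat 2, Int.ofNat 0, Int.ofNat 0, Int.ofNat 0, Int.ofNat 0, Int.ofNat 0, Int.ofNat 0, Int.ofNat 2, Int.ofNat 0, Int.ofNat 0, Int.negSucc 1, Int.ofNat 0],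
  [Int.ofNat 0, Int.negSucc 1, Int.ofNat 0, Int.ofNat 2, Int.ofNat 0, Int.ofNat 0, Int.ofNat 0, Int.ofNat 0, Int.ofNat 2, Int.ofNat 0, Int.ofNat 2, Int.ofNat 2, Int.ofNat 2, Int.ofNat 0, Int.ofNat 0, Int.ofNat 0, Int.ofNat 0, Int.ofNat 0, Int.ofNat 0, Int.ofNat 2, Int.ofNat 0, Int.ofNat 0, Int.negSucc 1, Int.ofNat 0],
  [Int.negSucc 1, Int.ofNat 0, Int.negSucc 1, Int.ofNat 0, Int.ofNat 2, Int.ofNat 0, Int.ofNat 0, Int.ofNat 0, Int.ofNat 0, Int.ofNat 2, Int.ofNat 0, Int.ofNat 2, Int.ofNat 2, Int.ofNat 2, Int.ofNat 0, Int.ofNat 0, Int.ofNat 0, Int.ofNat 0, Int.ofNat 0, Int.ofNat 0, Int.ofNat 2, Int.ofNat 0, Int.ofNat 0, Int.ofNat 0],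
  [Int.ofNat 0, Int.negSucc 1, Int.ofNat 0, Int.ofNat 0, Int.ofNat 0, Int.ofNat 0, Int.ofNat 0, Int.ofNat 0, Int.negSucc 1, Int.ofNat 0, Int.negSucc 1, Int.ofNat 0, Int.ofNat 0, Int.ofNat 0, Int.ofNat 0, Int.negSucc 1, Int.negSucc 1, Int.ofNat 0, Int.negSucc 1, Int.ofNat 0, Int.ofNat 0, Int.ofNat 0, Int.negSucc 1, Int.negSucc 1],
  [Int.ofNat 0, Int.ofNat 0, Int.ofNat 0, Int.ofNat 0, Int.ofNat 0, Int.negSucc 1, Int.ofNat 0, Int.negSucc 1, Int.ofNat 0, Int.ofNat 0, Int.ofNat 0, Int.ofNat 0, Int.negSucc 1, Int.negSucc 1, Int.ofNat 0, Int.negSucc 1, Int.ofNat 0, Int.ofNat 0, Int.ofNat 0, Int.negSucc 1, Int.ofNat 0, Int.negSucc 1, Int.ofNat 0, Int.negSucc 1],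
  [Int.negSucc 0, Int.negSucc 0, Int.negSucc 0, Int.ofNat 1, Int.ofNat 1, Int.negSucc 0, Int.ofNat 3, Int.ofNat 1, Int.ofNat 1, Int.ofNat 1, Int.ofNat 1, Int.ofNat 1, Int.negSucc 0, Int.negSucc 0, Int.ofNat 1, Int.negSucc 0, Int.ofNat 1, Int.ofNat 1, Int.ofNat 1, Int.ofNat 1, Int.ofNat 1, Int.ofNat 1, Int.ofNat 1, Int.ofNat 1],
  [Int.negSucc 0, Int.ofNat 3, Int.ofNat 1, Int.ofNat 1, Int.ofNat 1, Int.ofNat 1, Int.negSucc 0, Int.ofNat 1, Int.negSucc 0, Int.negSucc 0, Int.ofNat 1, Int.ofNat 1, Int.ofNat 1, Int.ofNat 1, Int.ofNat 1, Int.negSucc 0, Int.ofNat 1, Int.ofNat 1, Int.negSucc 0, Int.ofNat 1, Int.ofNat 1, Int.negSucc 0, Int.ofNat 1, Int.ofNat 1],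
  [Int.ofNat 3, Int.negSucc 0, Int.ofNat 1, Int.negSucc 0, Int.negSucc 0, Int.negSucc 0, Int.negSucc 0, Int.ofNat 1, Int.negSucc 0, Int.negSucc 0, Int.ofNat 1, Int.ofNat 1, Int.ofNat 1, Int.negSucc 0, Int.negSucc 0, Int.negSucc 0, Int.negSucc 0, Int.negSucc 0, Int.negSucc 0, Int.ofNat 1, Int.ofNat 1, Int.negSucc 0, Int.negSucc 0, Int.ofNat 1],
  [Int.ofNat 3, Int.negSucc 0, Int.negSucc 0, Int.negSucc 0, Int.negSucc 0, Int.ofNat 1, Int.ofNat 1, Int.ofNat 1, Int.negSucc 0, Int.ofNat 1, Int.negSucc 0, Int.ofNat 1, Int.ofNat 1, Int.negSucc 0, Int.negSucc 0, Int.ofNat 1, Int.negSucc 0, Int.negSucc 0, Int.ofNat 1, Int.ofNat 1, Int.ofNat 1, Int.negSucc 0, Int.ofNat 1, Int.ofNat 1],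
  [Int.negSucc 0, Int.negSucc 0, Int.ofNat 1, Int.negSucc 0, Int.negSucc 0, Int.ofNat 1, Int.negSucc 0, Int.negSucc 0, Int.ofNat 1, Int.ofNat 1, Int.negSucc 0, Int.ofNat 1, Int.ofNat 1, Int.negSucc 0, Int.negSucc 0, Int.ofNat 1, Int.ofNat 1, Int.ofNat 1, Int.ofNat 1, Int.negSucc 0, Int.ofNat 3, Int.negSucc 0, Int.ofNat 1, Int.ofNat 1],
  [Int.ofNat 1, Int.ofNat 1, Int.negSucc 0, Int.ofNat 1, Int.ofNat 1, Int.ofNat 1, Int.ofNat 1, Int.negSucc 0, Int.negSucc 0, Int.negSucc 0, Int.negSucc 0, Int.ofNat 1, Int.negSucc 0, Int.ofNat 1, Int.negSucc 0, Int.ofNat 1, Int.negSucc 0, Int.ofNat 1, Int.negSucc 0, Int.negSucc 0, Int.ofNat 3, Int.negSucc 0, Int.ofNat 1, Int.ofNat 1],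
  [Int.ofNat 1, Int.ofNat 1, Int.ofNat 1, Int.ofNat 1, Int.ofNat 1, Int.negSucc 0, Int.negSucc 0, Int.ofNat 1, Int.ofNat 3, Int.ofNat 1, Int.negSucc 0, Int.negSucc 0, Int.negSucc 0, Int.negSucc 0, Int.negSucc 0, Int.ofNat 1, Int.negSucc 0, Int.ofNat 1, Int.negSucc 0, Int.ofNat 1, Int.negSucc 0, Int.negSucc 0, Int.ofNat 1, Int.ofNat 1],
  [Int.negSucc 0, Int.ofNat 1, Int.negSucc 0, Int.ofNat 1, Int.ofNat 1, Int.negSucc 0, Int.negSucc 0, Int.negSucc 0, Int.ofNat 3, Int.negSucc 0, Int.ofNat 1, Int.ofNat 1, Int.negSucc 0, Int.negSucc 0, Int.negSucc 0, Int.ofNat 1, Int.negSucc 0, Int.ofNat 1, Int.ofNat 1, Int.ofNat 1, Int.negSucc 0, Int.ofNat 1, Int.ofNat 1, Int.ofNat 1],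
  [Int.ofNat 1, Int.negSucc 0, Int.ofNat 1, Int.negSucc 0, Int.ofNat 1, Int.ofNat 1, Int.negSucc 0, Int.negSucc 0, Int.negSucc 0, Int.ofNat 3, Int.negSucc 0, Int.ofNat 1, Int.ofNat 1, Int.negSucc 0, Int.negSucc 0, Int.negSucc 0, Int.ofNat 1, Int.negSucc 0, Int.ofNat 1, Int.ofNat 1, Int.ofNat 1, Int.negSucc 0, Int.ofNat 1, Int.ofNat 1],
  [Int.ofNat 0, Int.ofNat 2, Int.ofNat 0, Int.ofNat 0, Int.ofNat 0, Int.ofNat 2, Int.ofNat 0, Int.ofNat 0, Int.negSucc 1, Int.ofNat 2, Int.negSucc 1, Int.ofNat 0, Int.ofNat 0, Int.negSucc 1, Int.ofNat 0, Int.negSucc 1, Int.ofNat 0, Int.ofNat 0, Int.ofNat 0, Int.ofNat 2, Int.ofNat 0, Int.ofNat 0, Int.ofNat 0, Int.ofNat 0],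
  [Int.ofNat 0, Int.ofNat 0, Int.ofNat 2, Int.ofNat 0, Int.ofNat 0, Int.negSucc 1, Int.ofNat 2, Int.negSucc 1, Int.ofNat 0, Int.ofNat 0, Int.negSucc 1, Int.ofNat 0, Int.negSucc 1, Int.ofNat 0, Int.ofNat 0, Int.ofNat 0, Int.ofNat 2, Int.ofNat 0, Int.ofNat 0, Int.ofNat 0, Int.ofNat 0, Int.ofNat 2, Int.ofNat 0, Int.ofNat 0],
  [Int.ofNat 1, Int.ofNat 1, Int.negSucc 0, Int.ofNat 1, Int.negSucc 0, Int.negSucc 0, Int.ofNat 1, Int.negSucc 2, Int.ofNat 1, Int.ofNat 1, Int.negSucc 0, Int.ofNat 1, Int.negSucc 0, Int.negSucc 0, Int.ofNat 1, Int.ofNat 1, Int.ofNat 1, Int.ofNat 1, Int.ofNat 1, Int.negSucc 0, Int.ofNat 1, Int.ofNat 1, Int.negSucc 0, Int.ofNat 1],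
  [Int.ofNat 1, Int.ofNat 1, Int.negSucc 0, Int.ofNat 1, Int.ofNat 1, Int.negSucc 2, Int.negSucc 0, Int.negSucc 0, Int.negSucc 0, Int.negSucc 0, Int.ofNat 1, Int.ofNat 1, Int.ofNat 1, Int.ofNat 1, Int.negSucc 0, Int.ofNat 1, Int.ofNat 1, Int.ofNat 1, Int.ofNat 1, Int.ofNat 1, Int.ofNat 1, Int.negSucc 0, Int.negSucc 0, Int.ofNat 1],
  [Int.ofNat 0, Int.ofNat 0, Int.ofNat 2, Int.ofNat 2, Int.ofNat 0, Int.negSucc 1, Int.ofNat 0, Int.ofNat 0, Int.negSucc 1, Int.negSucc 1, Int.ofNat 0, Int.ofNat 0, Int.ofNat 0, Int.ofNat 0, Int.ofNat 0, Int.ofNat 0, Int.ofNat 0, Int.ofNat 2, Int.ofNat 0, Int.ofNat 2, Int.ofNat 0, Int.ofNat 0, Int.negSucc 1, Int.ofNat 0],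
  [Int.ofNat 0, Int.ofNat 0, Int.negSucc 1, Int.ofNat 2, Int.ofNat 0, Int.ofNat 2, Int.ofNat 0, Int.ofNat 0, Int.negSucc 1, Int.ofNat 2, Int.ofNat 0, Int.ofNat 0, Int.ofNat 0, Int.ofNat 0, Int.ofNat 0, Int.ofNat 0, Int.ofNat 0, Int.ofNat 2, Int.ofNat 0, Int.ofNat 2, Int.ofNat 0, Int.ofNat 0, Int.ofNat 2, Int.ofNat 0],
  [Int.ofNat 2, Int.ofNat 0, Int.ofNat 0, Int.ofNat 0, Int.ofNat 2, Int.ofNat 0, Int.ofNat 2, Int.ofNat 0, Int.ofNat 0, Int.ofNat 0, Int.ofNat 0, Int.negSucc 1, Int.ofNat 0, Int.ofNat 0, Int.ofNat 0, Int.ofNat 0, Int.ofNat 2, Int.ofNat 2, Int.ofNat 0, Int.ofNat 0, Int.negSucc 1, Int.ofNat 0, Int.ofNat 2, Int.ofNat 0],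
  [Int.ofNat 2, Int.ofNat 0, Int.ofNat 0, Int.ofNat 0, Int.ofNat 2, Int.ofNat 0, Int.negSucc 1, Int.ofNat 0, Int.ofNat 0, Int.ofNat 0, Int.ofNat 0, Int.negSucc 1, Int.ofNat 0, Int.ofNat 0, Int.ofNat 0, Int.ofNat 0, Int.ofNat 2, Int.ofNat 2, Int.ofNat 0, Int.ofNat 0, Int.negSucc 1, Int.ofNat 0, Int.negSucc 1, Int.ofNat 0],
  [Int.negSucc 0, Int.ofNat 1, Int.ofNat 1, Int.negSucc 0, Int.ofNat 1, Int.negSucc 0, Int.negSucc 0, Int.ofNat 1, Int.ofNat 1, Int.ofNat 1, Int.ofNat 1, Int.negSucc 0, Int.ofNat 1, Int.negSucc 0, Int.negSucc 0, Int.ofNat 1, Int.ofNat 1, Int.ofNat 1, Int.ofNat 1, Int.ofNat 1, Int.negSucc 0, Int.ofNat 1, Int.negSucc 2, Int.ofNat 1],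
  [Int.negSucc 0, Int.ofNat 1, Int.negSucc 0, Int.negSucc 0, Int.ofNat 1, Int.ofNat 1, Int.ofNat 1, Int.negSucc 0, Int.ofNat 1, Int.ofNat 1, Int.ofNat 1, Int.ofNat 1, Int.ofNat 1, Int.ofNat 1, Int.ofNat 1, Int.ofNat 1, Int.negSucc 0, Int.negSucc 0, Int.ofNat 1, Int.negSucc 2, Int.ofNat 1, Int.negSucc 0, Int.negSucc 0, Int.ofNat 1],
  [Int.ofNat 1, Int.negSucc 0, Int.ofNat 1, Int.negSucc 0, Int.ofNat 1, Int.ofNat 1, Int.ofNat 3, Int.ofNat 1, Int.negSucc 0, Int.negSucc 0, Int.negSucc 0, Int.negSucc 0, Int.negSucc 0, Int.ofNat 1, Int.ofNat 1, Int.negSucc 0, Int.negSucc 0, Int.negSucc 0, Int.negSucc 0, Int.negSucc 0, Int.negSucc 0, Int.ofNat 1, Int.negSucc 0, Int.negSucc 0],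
  [Int.negSucc 0, Int.ofNat 1, Int.negSucc 0, Int.ofNat 1, Int.negSucc 0, Int.ofNat 1, Int.negSucc 0, Int.ofNat 1, Int.ofNat 1, Int.ofNat 3, Int.ofNat 1, Int.negSucc 0, Int.negSucc 0, Int.negSucc 0, Int.negSucc 0, Int.negSucc 0, Int.ofNat 1, Int.ofNat 1, Int.negSucc 0, Int.negSucc 0, Int.negSucc 0, Int.negSucc 0, Int.negSucc 0, Int.negSucc 0],
  [Int.ofNat 0, Int.negSucc 1, Int.ofNat 0, Int.ofNat 0, Int.ofNat 0, Int.ofNat 0, Int.ofNat 0, Int.ofNat 2, Int.ofNat 2, Int.ofNat 2, Int.ofNat 0, Int.ofNat 0, Int.ofNat 0, Int.ofNat 0, Int.negSucc 1, Int.negSucc 1, Int.ofNat 2, Int.ofNat 0, Int.ofNat 0, Int.ofNat 0, Int.negSucc 1, Int.ofNat 0, Int.ofNat 0, Int.ofNat 0],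
  [Int.negSucc 1, Int.ofNat 0, Int.ofNat 0, Int.ofNat 0, Int.ofNat 0, Int.ofNat 0, Int.ofNat 2, Int.ofNat 2, Int.ofNat 2, Int.ofNat 0, Int.ofNat 0, Int.ofNat 0, Int.ofNat 0, Int.negSucc 1, Int.negSucc 1, Int.ofNat 2, Int.ofNat 0, Int.ofNat 0, Int.ofNat 0, Int.negSucc 1, Int.ofNat 0, Int.ofNat 0, Int.ofNat 0, Int.ofNat 0],
  [Int.ofNat 2, Int.ofNat 0, Int.ofNat 0, Int.ofNat 0, Int.ofNat 0, Int.ofNat 0, Int.ofNat 2, Int.negSucc 1, Int.ofNat 2, Int.ofNat 0, Int.ofNat 0, Int.ofNat 0, Int.ofNat 0, Int.negSucc 1, Int.negSucc 1, Int.ofNat 2, Int.ofNat 0, Int.ofNat 0, Int.ofNat 0, Int.negSucc 1, Int.ofNat 0, Int.ofNat 0, Int.ofNat 0, Int.ofNat 0],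
  [Int.ofNat 2, Int.ofNat 0, Int.ofNat 0, Int.ofNat 0, Int.ofNat 0, Int.ofNat 0, Int.ofNat 0, Int.ofNat 0, Int.ofNat 0, Int.ofNat 0, Int.ofNat 0, Int.negSucc 1, Int.negSucc 1, Int.ofNat 2, Int.negSucc 1, Int.ofNat 2, Int.ofNat 0, Int.ofNat 0, Int.ofNat 2, Int.ofNat 0, Int.ofNat 0, Int.negSucc 1, Int.ofNat 0, Int.ofNat 0],
  [Int.negSucc 1, Int.ofNat 0, Int.ofNat 0, Int.ofNat 0, Int.ofNat 0, Int.ofNat 0, Int.ofNat 0, Int.ofNat 0, Int.ofNat 0, Int.ofNat 0, Int.ofNat 0, Int.ofNat 2, Int.negSucc 1, Int.ofNat 2, Int.negSucc 1, Int.ofNat 2, Int.ofNat 0, Int.ofNat 0, Int.negSucc 1, Int.ofNat 0, Int.ofNat 0, Int.ofNat 2, Int.ofNat 0, Int.ofNat 0],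
  [Int.ofNat 0, Int.negSucc 1, Int.ofNat 0, Int.ofNat 0, Int.ofNat 0, Int.ofNat 0, Int.ofNat 0, Int.ofNat 0, Int.ofNat 0, Int.ofNat 0, Int.ofNat 0, Int.ofNat 0, Int.ofNat 2, Int.negSucc 1, Int.ofNat 2, Int.negSucc 1, Int.ofNat 2, Int.ofNat 0, Int.ofNat 0, Int.negSucc 1, Int.ofNat 0, Int.ofNat 0, Int.ofNat 2, Int.ofNat 0],
  [Int.negSucc 0, Int.ofNat 1, Int.negSucc 0, Int.negSucc 0, Int.negSucc 0, Int.negSucc 0, Int.ofNat 1, Int.ofNat 1, Int.negSucc 0, Int.ofNat 1, Int.ofNat 1, Int.negSucc 0, Int.ofNat 1, Int.negSucc 2, Int.ofNat 1, Int.negSucc 0, Int.ofNat 1, Int.negSucc 0, Int.negSucc 0, Int.negSucc 0, Int.ofNat 1, Int.ofNat 1, Int.ofNat 1, Int.negSucc 0],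
  [Int.negSucc 0, Int.negSucc 0, Int.negSucc 0, Int.ofNat 1, Int.ofNat 1, Int.negSucc 0, Int.ofNat 1, Int.ofNat 1, Int.negSucc 0, Int.ofNat 1, Int.negSucc 2, Int.ofNat 1, Int.negSucc 0, Int.ofNat 1, Int.negSucc 0, Int.negSucc 0, Int.negSucc 0, Int.ofNat 1, Int.ofNat 1, Int.ofNat 1, Int.negSucc 0, Int.ofNat 1, Int.negSucc 0, Int.negSucc 0],
  [Int.negSucc 0, Int.negSucc 0, Int.negSucc 0, Int.ofNat 1, Int.ofNat 1, Int.negSucc 0, Int.negSucc 0, Int.negSucc 0, Int.negSucc 0, Int.ofNat 3, Int.negSucc 0, Int.ofNat 1, Int.negSucc 0, Int.ofNat 1, Int.negSucc 0, Int.ofNat 1, Int.negSucc 0, Int.ofNat 1, Int.ofNat 1, Int.negSucc 0, Int.ofNat 1, Int.negSucc 0, Int.negSucc 0, Int.negSucc 0],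
  [Int.negSucc 0, Int.negSucc 0, Int.ofNat 1, Int.ofNat 1, Int.ofNat 1, Int.negSucc 0, Int.negSucc 0, Int.negSucc 0, Int.negSucc 0, Int.ofNat 1, Int.ofNat 1, Int.ofNat 1, Int.ofNat 3, Int.negSucc 0, Int.negSucc 0, Int.ofNat 1, Int.negSucc 0, Int.negSucc 0, Int.negSucc 0, Int.ofNat 1, Int.negSucc 0, Int.negSucc 0, Int.negSucc 0, Int.negSucc 0],
  [Int.ofNat 0, Int.ofNat 0, Int.negSucc 1, Int.ofNat 2, Int.ofNat 2, Int.ofNat 0, Int.ofNat 0, Int.ofNat 0, Int.negSucc 1, Int.ofNat 0, Int.ofNat 0, Int.ofNat 0, Int.ofNat 2, Int.ofNat 0, Int.ofNat 0, Int.ofNat 0, Int.ofNat 0, Int.ofNat 0, Int.negSucc 1, Int.ofNat 2, Int.negSucc 1, Int.ofNat 0, Int.ofNat 0, Int.ofNat 0],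
  [Int.ofNat 0, Int.ofNat 0, Int.ofNat 2, Int.ofNat 2, Int.ofNat 2, Int.ofNat 0, Int.ofNat 0, Int.ofNat 0, Int.negSucc 1, Int.ofNat 0, Int.ofNat 0, Int.ofNat 0, Int.ofNat 2, Int.ofNat 0, Int.ofNat 0, Int.ofNat 0, Int.ofNat 0, Int.ofNat 0, Int.ofNat 2, Int.ofNat 2, Int.negSucc 1, Int.ofNat 0, Int.ofNat 0, Int.ofNat 0],
  [Int.ofNat 0, Int.ofNat 0, Int.ofNat 0, Int.negSucc 1, Int.ofNat 0, Int.ofNat 0, Int.ofNat 0, Int.ofNat 2, Int.ofNat 0, Int.negSucc 1, Int.ofNat 0, Int.ofNat 0, Int.ofNat 0, Int.ofNat 2, Int.ofNat 0, Int.ofNat 2, Int.ofNat 2, Int.ofNat 2, Int.ofNat 0, Int.ofNat 2, Int.ofNat 0, Int.ofNat 0, Int.ofNat 0, Int.ofNat 0],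
  [Int.ofNat 0, Int.ofNat 0, Int.ofNat 0, Int.ofNat 2, Int.ofNat 0, Int.ofNat 0, Int.ofNat 0, Int.ofNat 2, Int.ofNat 0, Int.ofNat 2, Int.ofNat 0, Int.ofNat 0, Int.ofNat 0, Int.negSucc 1, Int.ofNat 0, Int.ofNat 2, Int.negSucc 1, Int.ofNat 2, Int.ofNat 0, Int.ofNat 2, Int.ofNat 0, Int.ofNat 0, Int.ofNat 0, Int.ofNat 0],
  [Int.ofNat 0, Int.ofNat 0, Int.ofNat 0, Int.ofNat 2, Int.ofNat 2, Int.ofNat 2, Int.ofNat 2, Int.negSucc 1, Int.ofNat 0, Int.ofNat 0, Int.negSucc 1, Int.ofNat 0, Int.ofNat 0, Int.ofNat 2, Int.ofNat 0, Int.ofNat 2, Int.ofNat 0, Int.ofNat 0, Int.ofNat 0, Int.ofNat 0, Int.ofNat 0, Int.ofNat 0, Int.ofNat 0, Int.ofNat 0],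
  [Int.ofNat 0, Int.ofNat 0, Int.ofNat 0, Int.ofNat 2, Int.ofNat 2, Int.ofNat 2, Int.ofNat 2, Int.ofNat 2, Int.ofNat 0, Int.ofNat 0, Int.ofNat 2, Int.ofNat 0, Int.ofNat 0, Int.ofNat 2, Int.ofNat 0, Int.ofNat 2, Int.ofNat 0, Int.ofNat 0, Int.ofNat 0, Int.ofNat 0, Int.ofNat 0, Int.ofNat 0, Int.ofNat 0, Int.ofNat 0],
  [Int.ofNat 0, Int.ofNat 0, Int.ofNat 0, Int.ofNat 0, Int.ofNat 2, Int.ofNat 2, Int.ofNat 2, Int.ofNat 2, Int.ofNat 2, Int.ofNat 0, Int.ofNat 0, Int.ofNat 2, Int.ofNat 0, Int.ofNat 0, Int.ofNat 2, Int.ofNat 0, Int.ofNat 2, Int.ofNat 0, Int.ofNat 0, Int.ofNat 0, Int.ofNat 0, Int.ofNat 0, Int.ofNat 0, Int.ofNat 0],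
  [Int.ofNat 0, Int.ofNat 0, Int.ofNat 0, Int.negSucc 1, Int.ofNat 0, Int.ofNat 0, Int.ofNat 0, Int.ofNat 0, Int.ofNat 0, Int.ofNat 0, Int.ofNat 0, Int.ofNat 0, Int.negSucc 1, Int.negSucc 1, Int.ofNat 0, Int.ofNat 0, Int.ofNat 0, Int.negSucc 1, Int.negSucc 1, Int.negSucc 1, Int.ofNat 0, Int.negSucc 1, Int.negSucc 1, Int.ofNat 0],
  [Int.negSucc 1, Int.ofNat 0, Int.ofNat 0, Int.ofNat 0, Int.ofNat 0, Int.ofNat 0, Int.ofNat 0, Int.ofNat 0, Int.ofNat 0, Int.negSucc 1, Int.negSucc 1, Int.ofNat 0, Int.ofNat 0, Int.ofNat 0, Int.negSucc 1, Int.negSucc 1, Int.negSucc 1, Int.ofNat 0, Int.negSucc 1, Int.negSucc 1, Int.ofNat 0, Int.ofNat 0, Int.ofNat 0, Int.ofNat 0],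
  [Int.ofNat 1, Int.negSucc 0, Int.negSucc 0, Int.ofNat 1, Int.ofNat 1, Int.ofNat 1, Int.ofNat 1, Int.ofNat 1, Int.ofNat 1, Int.ofNat 1, Int.ofNat 1, Int.ofNat 1, Int.ofNat 1, Int.ofNat 1, Int.negSucc 0, Int.ofNat 1, Int.negSucc 0, Int.ofNat 1, Int.negSucc 0, Int.negSucc 0, Int.ofNat 3, Int.ofNat 1, Int.ofNat 1, Int.negSucc 0],
  [Int.ofNat 1, Int.ofNat 1, Int.ofNat 1, Int.ofNat 1, Int.negSucc 0, Int.ofNat 1, Int.negSucc 0, Int.ofNat 1, Int.ofNat 1, Int.ofNat 1, Int.ofNat 3, Int.ofNat 1, Int.ofNat 1, Int.negSucc 0, Int.ofNat 1, Int.ofNat 1, Int.ofNat 1, Int.negSucc 0, Int.negSucc 0, Int.ofNat 1, Int.ofNat 1, Int.ofNat 1, Int.negSucc 0, Int.negSucc 0],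
  [Int.ofNat 0, Int.ofNat 0, Int.ofNat 0, Int.ofNat 0, Int.ofNat 0, Int.ofNat 0, Int.negSucc 1, Int.ofNat 0, Int.ofNat 0, Int.negSucc 1, Int.ofNat 0, Int.ofNat 0, Int.ofNat 0, Int.ofNat 0, Int.ofNat 0, Int.negSucc 1, Int.ofNat 2, Int.negSucc 1, Int.negSucc 1, Int.ofNat 0, Int.negSucc 1, Int.ofNat 0, Int.ofNat 0, Int.ofNat 2],
  [Int.ofNat 0, Int.ofNat 0, Int.ofNat 0, Int.ofNat 0, Int.ofNat 0, Int.ofNat 0, Int.ofNat 2, Int.ofNat 0, Int.ofNat 0, Int.ofNat 2, Int.ofNat 0, Int.ofNat 0, Int.ofNat 0, Int.ofNat 0, Int.ofNat 0, Int.ofNat 2, Int.ofNat 2, Int.negSucc 1, Int.ofNat 2, Int.ofNat 0, Int.negSucc 1, Int.ofNat 0, Int.ofNat 0, Int.ofNat 2],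
  [Int.negSucc 1, Int.ofNat 2, Int.ofNat 0, Int.ofNat 2, Int.ofNat 0, Int.ofNat 0, Int.ofNat 0, Int.ofNat 2, Int.ofNat 0, Int.ofNat 2, Int.ofNat 0, Int.ofNat 0, Int.ofNat 0, Int.ofNat 0, Int.ofNat 0, Int.ofNat 0, Int.ofNat 2, Int.ofNat 0, Int.negSucc 1, Int.ofNat 0, Int.ofNat 0, Int.ofNat 0, Int.ofNat 0, Int.ofNat 2],
  [Int.negSucc 1, Int.ofNat 2, Int.ofNat 0, Int.ofNat 2, Int.ofNat 0, Int.ofNat 0, Int.ofNat 0, Int.ofNat 2, Int.ofNat 0, Int.negSucc 1, Int.ofNat 0, Int.ofNat 0, Int.ofNat 0, Int.ofNat 0, Int.ofNat 0, Int.ofNat 0, Int.ofNat 2, Int.ofNat 0, Int.ofNat 2, Int.ofNat 0, Int.ofNat 0, Int.ofNat 0, Int.ofNat 0, Int.ofNat 2],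
  [Int.ofNat 3, Int.negSucc 0, Int.ofNat 1, Int.ofNat 1, Int.negSucc 0, Int.negSucc 0, Int.negSucc 0, Int.ofNat 1, Int.negSucc 0, Int.negSucc 0, Int.ofNat 1, Int.negSucc 0, Int.negSucc 0, Int.negSucc 0, Int.negSucc 0, Int.ofNat 1, Int.ofNat 1, Int.negSucc 0, Int.ofNat 1, Int.negSucc 0, Int.ofNat 1, Int.negSucc 0, Int.negSucc 0, Int.negSucc 0],
  [Int.ofNat 3, Int.ofNat 1, Int.negSucc 0, Int.ofNat 1, Int.ofNat 1, Int.negSucc 0, Int.negSucc 0, Int.negSucc 0, Int.ofNat 1, Int.negSucc 0, Int.ofNat 1, Int.negSucc 0, Int.negSucc 0, Int.negSucc 0, Int.negSucc 0, Int.ofNat 1, Int.negSucc 0, Int.negSucc 0, Int.negSucc 0, Int.negSucc 0, Int.ofNat 1, Int.ofNat 1, Int.negSucc 0, Int.negSucc 0],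
  [Int.negSucc 1, Int.ofNat 0, Int.ofNat 2, Int.ofNat 2, Int.ofNat 2, Int.ofNat 0, Int.ofNat 0, Int.ofNat 0, Int.ofNat 2, Int.negSucc 1, Int.ofNat 0, Int.ofNat 0, Int.ofNat 0, Int.ofNat 0, Int.ofNat 0, Int.ofNat 0, Int.ofNat 0, Int.ofNat 0, Int.ofNat 0, Int.ofNat 0, Int.ofNat 0, Int.ofNat 2, Int.ofNat 0, Int.ofNat 2],
  [Int.ofNat 0, Int.ofNat 2, Int.ofNat 0, Int.negSucc 1, Int.ofNat 0, Int.ofNat 2, Int.ofNat 2, Int.ofNat 2, Int.ofNat 0, Int.ofNat 0, Int.ofNat 0, Int.ofNat 2, Int.negSucc 1, Int.ofNat 0, Int.ofNat 0, Int.ofNat 0, Int.ofNat 0, Int.ofNat 0, Int.ofNat 0, Int.ofNat 0, Int.ofNat 0, Int.ofNat 0, Int.ofNat 0, Int.ofNat 2],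
  [Int.ofNat 2, Int.ofNat 0, Int.ofNat 2, Int.negSucc 1, Int.ofNat 0, Int.ofNat 2, Int.ofNat 0, Int.ofNat 0, Int.ofNat 0, Int.ofNat 0, Int.ofNat 0, Int.ofNat 2, Int.negSucc 1, Int.ofNat 0, Int.ofNat 0, Int.ofNat 0, Int.ofNat 0, Int.ofNat 0, Int.ofNat 0, Int.negSucc 1, Int.ofNat 0, Int.negSucc 1, Int.ofNat 0, Int.ofNat 0],
  [Int.ofNat 0, Int.ofNat 2, Int.negSucc 1, Int.ofNat 0, Int.ofNat 2, Int.ofNat 0, Int.ofNat 0, Int.ofNat 0, Int.ofNat 0, Int.ofNat 0, Int.ofNat 2, Int.negSucc 1, Int.ofNat 0, Int.ofNat 0, Int.ofNat 0, Int.ofNat 0, Int.ofNat 0, Int.ofNat 0, Int.negSucc 1, Int.ofNat 0, Int.negSucc 1, Int.ofNat 0, Int.ofNat 2, Int.ofNat 0],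
  [Int.ofNat 0, Int.ofNat 2, Int.ofNat 2, Int.ofNat 0, Int.ofNat 2, Int.ofNat 0, Int.ofNat 0, Int.ofNat 0, Int.ofNat 0, Int.ofNat 0, Int.negSucc 1, Int.ofNat 2, Int.ofNat 0, Int.ofNat 0, Int.ofNat 0, Int.ofNat 0, Int.ofNat 0, Int.ofNat 0, Int.ofNat 2, Int.ofNat 0, Int.negSucc 1, Int.ofNat 0, Int.ofNat 2, Int.ofNat 0]]

set_option maxRecDepth 100000 in
theorem c1et12_chk : pmChk (List.replicate 14 [12, 0, 25, 26]).flatten nxL c1et12M 0 0 = true := by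
  decide +kernel

theorem c1et12_ne : wE letE2 (List.replicate 14 [12, 0, 25, 26]).flatten ≠ 1 ∧ wE letE2 (List.replicate 14 [12, 0, 25, 26]).flatten ≠ negElt :=
  ne_pm_of_chk nxL_mem c1et12_chk

set_option maxRecDepth 100000 in
def c1et13M : List (List ℤ) :=
  [[Int.negSucc 3, Int.ofNat 0, Int.ofNat 0, Int.ofNat 0, Int.ofNat 0, Int.ofNat 0, Int.ofNat 0, Int.ofNat 0, Int.ofNat 0, Int.ofNat 0, Int.ofNat 0, Int.ofNat 0, Int.ofNat 0, Int.ofNat 0, Int.ofNat 0, Int.ofNat 0, Int.ofNat 0, Int.ofNat 0, Int.ofNat 0, Int.ofNat 0, Int.ofNat 0, Int.ofNat 0, Int.ofNat 0, Int.ofNat 4],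
  [Int.ofNat 4, Int.ofNat 0, Int.ofNat 0, Int.ofNat 0, Int.ofNat 0, Int.ofNat 0, Int.ofNat 0, Int.ofNat 0, Int.ofNat 0, Int.ofNat 0, Int.ofNat 0, Int.ofNat 0, Int.ofNat 0, Int.ofNat 0, Int.ofNat 0, Int.ofNat 0, Int.ofNat 0, Int.ofNat 0, Int.ofNat 0, Int.ofNat 0, Int.ofNat 0, Int.ofNat 0, Int.ofNat 0, Int.ofNat 4],
  [Int.ofNat 0, Int.ofNat 4, Int.ofNat 0, Int.ofNat 0, Int.ofNat 0, Int.ofNat 0, Int.ofNat 0, Int.ofNat 0, Int.ofNat 0, Int.ofNat 0, Int.ofNat 0, Int.ofNat 0, Int.ofNat 0, Int.ofNat 0, Int.ofNat 0, Int.ofNat 0, Int.ofNat 0, Int.ofNat 0, Int.ofNat 0, Int.ofNat 0, Int.ofNat 0, Int.ofNat 0, Int.ofNat 0, Int.ofNat 4],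
  [Int.ofNat 4, Int.ofNat 0, Int.ofNat 4, Int.ofNat 0, Int.ofNat 0, Int.ofNat 0, Int.ofNat 0, Int.ofNat 0, Int.ofNat 0, Int.ofNat 0, Int.ofNat 0, Int.ofNat 0, Int.ofNat 0, Int.ofNat 0, Int.ofNat 0, Int.ofNat 0, Int.ofNat 0, Int.ofNat 0, Int.ofNat 0, Int.ofNat 0, Int.ofNat 0, Int.ofNat 0, Int.ofNat 0, Int.ofNat 0],
  [Int.ofNat 0, Int.ofNat 0, Int.ofNat 0, Int.ofNat 0, Int.ofNat 0, Int.ofNat 0, Int.ofNat 0, Int.ofNat 0, Int.ofNat 0, Int.ofNat 0, Int.ofNat 0, Int.ofNat 0, Int.ofNat 0, Int.ofNat 0, Int.ofNat 0, Int.ofNat 0, Int.ofNat 0, Int.ofNat 0, Int.ofNat 0, Int.ofNat 0, Int.ofNat 4, Int.ofNat 0, Int.ofNat 4, Int.ofNat 0],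
  [Int.ofNat 0, Int.ofNat 0, Int.ofNat 0, Int.ofNat 0, Int.negSucc 1, Int.ofNat 0, Int.ofNat 0, Int.ofNat 0, Int.ofNat 0, Int.negSucc 1, Int.negSucc 1, Int.ofNat 0, Int.ofNat 0, Int.negSucc 1, Int.ofNat 0, Int.negSucc 1, Int.negSucc 1, Int.ofNat 0, Int.ofNat 0, Int.ofNat 0, Int.ofNat 2, Int.ofNat 0, Int.ofNat 2, Int.ofNat 0],
  [Int.ofNat 0, Int.ofNat 0, Int.negSucc 1, Int.ofNat 0, Int.ofNat 0, Int.ofNat 0, Int.ofNat 0, Int.negSucc 1, Int.ofNat 0, Int.negSucc 1, Int.ofNat 2, Int.ofNat 0, Int.negSucc 1, Int.negSucc 1, Int.ofNat 2, Int.negSucc 1, Int.ofNat 0, Int.ofNat 0, Int.ofNat 0, Int.ofNat 0, Int.ofNat 0, Int.ofNat 0, Int.ofNat 0, Int.ofNat 0],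
  [Int.negSucc 0, Int.negSucc 0, Int.ofNat 1, Int.negSucc 0, Int.ofNat 1, Int.negSucc 0, Int.ofNat 1, Int.negSucc 0, Int.ofNat 1, Int.negSucc 0, Int.ofNat 3, Int.ofNat 1, Int.negSucc 0, Int.negSucc 0, Int.ofNat 1, Int.negSucc 0, Int.ofNat 1, Int.negSucc 0, Int.ofNat 1, Int.ofNat 1, Int.ofNat 1, Int.ofNat 1, Int.ofNat 1, Int.negSucc 0],
  [Int.negSucc 0, Int.negSucc 0, Int.negSucc 0, Int.negSucc 0, Int.ofNat 1, Int.ofNat 1, Int.negSucc 0, Int.negSucc 0, Int.ofNat 1, Int.ofNat 1, Int.negSucc 2, Int.ofNat 1, Int.negSucc 0, Int.negSucc 0, Int.ofNat 1, Int.ofNat 1, Int.ofNat 1, Int.negSucc 0, Int.negSucc 0, Int.ofNat 1, Int.ofNat 1, Int.ofNat 1, Int.negSucc 0, Int.negSucc 0],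
  [Int.negSucc 2, Int.ofNat 1, Int.ofNat 1, Int.ofNat 1, Int.ofNat 1, Int.negSucc 0, Int.ofNat 1, Int.negSucc 0, Int.ofNat 1, Int.ofNat 1, Int.negSucc 0, Int.negSucc 0, Int.ofNat 1, Int.ofNat 1, Int.negSucc 0, Int.negSucc 0, Int.ofNat 1, Int.negSucc 0, Int.ofNat 1, Int.negSucc 0, Int.negSucc 0, Int.negSucc 0, Int.negSucc 0, Int.negSucc 0],
  [Int.ofNat 3, Int.negSucc 0, Int.negSucc 0, Int.negSucc 0, Int.negSucc 0, Int.negSucc 0, Int.negSucc 0, Int.negSucc 0, Int.negSucc 0, Int.negSucc 0, Int.negSucc 0, Int.negSucc 0, Int.negSucc 0, Int.negSucc 0, Int.negSucc 0, Int.negSucc 0, Int.negSucc 0, Int.negSucc 0, Int.negSucc 0, Int.negSucc 0, Int.negSucc 0, Int.negSucc 0, Int.negSucc 0, Int.negSucc 0],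
  [Int.negSucc 0, Int.negSucc 0, Int.negSucc 0, Int.negSucc 0, Int.negSucc 0, Int.negSucc 0, Int.negSucc 0, Int.negSucc 0, Int.negSucc 0, Int.negSucc 0, Int.negSucc 0, Int.negSucc 0, Int.negSucc 0, Int.negSucc 0, Int.negSucc 0, Int.negSucc 0, Int.negSucc 0, Int.negSucc 0, Int.negSucc 0, Int.negSucc 0, Int.negSucc 0, Int.negSucc 0, Int.negSucc 0, Int.ofNat 3],
  [Int.ofNat 1, Int.negSucc 0, Int.ofNat 1, Int.negSucc 0, Int.negSucc 0, Int.negSucc 0, Int.negSucc 0, Int.ofNat 1, Int.negSucc 0, Int.ofNat 1, Int.ofNat 1, Int.ofNat 1, Int.negSucc 0, Int.negSucc 0, Int.negSucc 0, Int.negSucc 0, Int.negSucc 0, Int.negSucc 0, Int.ofNat 1, Int.negSucc 0, Int.negSucc 0, Int.ofNat 1, Int.negSucc 0, Int.ofNat 3],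
  [Int.negSucc 0, Int.ofNat 1, Int.negSucc 0, Int.ofNat 1, Int.negSucc 0, Int.negSucc 0, Int.negSucc 0, Int.negSucc 0, Int.ofNat 1, Int.negSucc 0, Int.ofNat 1, Int.ofNat 1, Int.ofNat 1, Int.negSucc 0, Int.negSucc 0, Int.negSucc 0, Int.negSucc 0, Int.negSucc 0, Int.negSucc 0, Int.ofNat 1, Int.negSucc 0, Int.negSucc 0, Int.ofNat 1, Int.ofNat 3],
  [Int.ofNat 2, Int.ofNat 0, Int.ofNat 2, Int.ofNat 2, Int.ofNat 0, Int.ofNat 0, Int.ofNat 0, Int.ofNat 0, Int.ofNat 0, Int.ofNat 0, Int.ofNat 2, Int.ofNat 0, Int.ofNat 0, Int.ofNat 0, Int.ofNat 0, Int.ofNat 0, Int.ofNat 0, Int.ofNat 0, Int.negSucc 1, Int.ofNat 2, Int.ofNat 0, Int.ofNat 0, Int.ofNat 2, Int.negSucc 1],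
  [Int.ofNat 2, Int.ofNat 0, Int.ofNat 0, Int.ofNat 0, Int.ofNat 0, Int.ofNat 0, Int.ofNat 0, Int.ofNat 2, Int.ofNat 0, Int.ofNat 0, Int.ofNat 0, Int.ofNat 0, Int.ofNat 0, Int.ofNat 0, Int.ofNat 0, Int.negSucc 1, Int.ofNat 2, Int.ofNat 0, Int.ofNat 0, Int.ofNat 2, Int.ofNat 2, Int.ofNat 0, Int.ofNat 2, Int.negSucc 1],
  [Int.negSucc 1, Int.ofNat 0, Int.ofNat 0, Int.ofNat 0, Int.negSucc 1, Int.ofNat 0, Int.negSucc 1, Int.ofNat 0, Int.ofNat 0, Int.ofNat 0, Int.ofNat 0, Int.ofNat 0, Int.ofNat 0, Int.negSucc 1, Int.ofNat 0, Int.negSucc 1, Int.ofNat 0, Int.ofNat 0, Int.ofNat 0, Int.ofNat 0, Int.ofNat 2, Int.negSucc 1, Int.ofNat 0, Int.ofNat 2],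
  [Int.negSucc 1, Int.negSucc 1, Int.negSucc 1, Int.ofNat 0, Int.ofNat 0, Int.ofNat 0, Int.ofNat 0, Int.ofNat 0, Int.ofNat 0, Int.negSucc 1, Int.ofNat 2, Int.ofNat 0, Int.ofNat 0, Int.ofNat 0, Int.ofNat 0, Int.negSucc 1, Int.ofNat 0, Int.ofNat 0, Int.ofNat 0, Int.ofNat 0, Int.negSucc 1, Int.ofNat 0, Int.ofNat 0, Int.ofNat 2],
  [Int.ofNat 0, Int.ofNat 0, Int.ofNat 0, Int.ofNat 0, Int.ofNat 0, Int.ofNat 0, Int.ofNat 0, Int.ofNat 0, Int.ofNat 0, Int.ofNat 0, Int.ofNat 4, Int.ofNat 0, Int.ofNat 0, Int.ofNat 0, Int.ofNat 0, Int.ofNat 0, Int.ofNat 0, Int.ofNat 0, Int.ofNat 0, Int.ofNat 0, Int.ofNat 0, Int.ofNat 0, Int.ofNat 0, Int.negSucc 3],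
  [Int.ofNat 0, Int.ofNat 0, Int.ofNat 0, Int.ofNat 0, Int.ofNat 0, Int.ofNat 0, Int.ofNat 0, Int.ofNat 0, Int.ofNat 0, Int.ofNat 0, Int.negSucc 3, Int.ofNat 0, Int.ofNat 0, Int.ofNat 0, Int.ofNat 0, Int.ofNat 0, Int.ofNat 0, Int.ofNat 0, Int.ofNat 0, Int.ofNat 0, Int.ofNat 0, Int.ofNat 0, Int.ofNat 0, Int.negSucc 3],
  [Int.ofNat 0, Int.ofNat 0, Int.ofNat 0, Int.ofNat 0, Int.ofNat 0, Int.ofNat 0, Int.ofNat 0, Int.ofNat 0, Int.ofNat 0, Int.negSucc 3, Int.ofNat 0, Int.ofNat 0, Int.ofNat 0, Int.ofNat 0, Int.ofNat 0, Int.ofNat 0, Int.ofNat 0, Int.ofNat 0, Int.ofNat 0, Int.ofNat 0, Int.ofNat 0, Int.ofNat 0, Int.ofNat 0, Int.negSucc 3],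
  [Int.ofNat 0, Int.ofNat 0, Int.ofNat 0, Int.ofNat 0, Int.ofNat 0, Int.ofNat 0, Int.ofNat 0, Int.ofNat 0, Int.ofNat 0, Int.ofNat 4, Int.ofNat 0, Int.ofNat 0, Int.ofNat 0, Int.ofNat 0, Int.ofNat 0, Int.ofNat 0, Int.ofNat 0, Int.ofNat 0, Int.ofNat 0, Int.ofNat 0, Int.ofNat 0, Int.ofNat 0, Int.ofNat 0, Int.negSucc 3],
  [Int.negSucc 1, Int.negSucc 1, Int.negSucc 1, Int.ofNat 0, Int.ofNat 0, Int.ofNat 0, Int.ofNat 0, Int.ofNat 0, Int.ofNat 0, Int.ofNat 2, Int.negSucc 1, Int.ofNat 0, Int.ofNat 0, Int.ofNat 0, Int.ofNat 0, Int.negSucc 1, Int.ofNat 0, Int.ofNat 0, Int.ofNat 0, Int.ofNat 0, Int.negSucc 1, Int.ofNat 0, Int.ofNat 0, Int.ofNat 2],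
  [Int.negSucc 1, Int.ofNat 0, Int.ofNat 0, Int.ofNat 0, Int.negSucc 1, Int.ofNat 0, Int.negSucc 1, Int.ofNat 0, Int.ofNat 0, Int.ofNat 0, Int.ofNat 0, Int.ofNat 0, Int.ofNat 0, Int.ofNat 2, Int.ofNat 0, Int.negSucc 1, Int.ofNat 0, Int.ofNat 0, Int.ofNat 0, Int.ofNat 0, Int.negSucc 1, Int.negSucc 1, Int.ofNat 0, Int.ofNat 2],
  [Int.ofNat 2, Int.ofNat 0, Int.ofNat 0, Int.ofNat 0, Int.negSucc 1, Int.ofNat 0, Int.ofNat 0, Int.ofNat 2, Int.ofNat 0, Int.ofNat 2, Int.ofNat 2, Int.ofNat 0, Int.ofNat 0, Int.ofNat 2, Int.ofNat 0, Int.ofNat 0, Int.ofNat 0, Int.ofNat 0, Int.ofNat 0, Int.ofNat 2, Int.ofNat 0, Int.ofNat 0, Int.ofNat 0, Int.negSucc 1],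
  [Int.ofNat 0, Int.ofNat 0, Int.ofNat 0, Int.ofNat 2, Int.ofNat 0, Int.ofNat 0, Int.ofNat 0, Int.negSucc 1, Int.ofNat 0, Int.ofNat 0, Int.ofNat 2, Int.ofNat 0, Int.ofNat 2, Int.ofNat 2, Int.ofNat 0, Int.ofNat 0, Int.ofNat 2, Int.ofNat 0, Int.ofNat 0, Int.ofNat 0, Int.ofNat 0, Int.ofNat 0, Int.ofNat 2, Int.negSucc 1],
  [Int.negSucc 0, Int.negSucc 0, Int.negSucc 0, Int.ofNat 1, Int.negSucc 2, Int.negSucc 0, Int.ofNat 1, Int.negSucc 0, Int.negSucc 0, Int.negSucc 0, Int.ofNat 1, Int.negSucc 0, Int.ofNat 1, Int.negSucc 0, Int.negSucc 0, Int.negSucc 0, Int.negSucc 0, Int.negSucc 0, Int.negSucc 0, Int.ofNat 1, Int.negSucc 0, Int.ofNat 1, Int.negSucc 0, Int.ofNat 1],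
  [Int.negSucc 0, Int.negSucc 0, Int.ofNat 1, Int.negSucc 2, Int.negSucc 0, Int.ofNat 1, Int.negSucc 0, Int.negSucc 0, Int.negSucc 0, Int.ofNat 1, Int.negSucc 0, Int.ofNat 1, Int.negSucc 0, Int.negSucc 0, Int.negSucc 0, Int.negSucc 0, Int.negSucc 0, Int.negSucc 0, Int.ofNat 1, Int.negSucc 0, Int.ofNat 1, Int.negSucc 0, Int.negSucc 0, Int.ofNat 1],
  [Int.ofNat 1, Int.negSucc 0, Int.negSucc 0, Int.negSucc 2, Int.negSucc 0, Int.ofNat 1, Int.negSucc 0, Int.ofNat 1, Int.negSucc 0, Int.negSucc 0, Int.ofNat 1, Int.negSucc 0, Int.negSucc 0, Int.negSucc 0, Int.negSucc 0, Int.negSucc 0, Int.negSucc 0, Int.negSucc 0, Int.negSucc 0, Int.negSucc 0, Int.ofNat 1, Int.ofNat 1, Int.negSucc 0, Int.ofNat 1],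
  [Int.ofNat 1, Int.negSucc 0, Int.negSucc 0, Int.negSucc 2, Int.negSucc 0, Int.ofNat 1, Int.negSucc 0, Int.ofNat 1, Int.negSucc 0, Int.negSucc 0, Int.ofNat 1, Int.negSucc 0, Int.negSucc 0, Int.negSucc 0, Int.negSucc 0, Int.negSucc 0, Int.negSucc 0, Int.negSucc 0, Int.negSucc 0, Int.negSucc 0, Int.ofNat 1, Int.ofNat 1, Int.negSucc 0, Int.ofNat 1],
  [Int.negSucc 0, Int.negSucc 0, Int.ofNat 1, Int.negSucc 2, Int.negSucc 0, Int.ofNat 1, Int.negSucc 0, Int.negSucc 0, Int.negSucc 0, Int.ofNat 1, Int.negSucc 0, Int.ofNat 1, Int.negSucc 0, Int.negSucc 0, Int.negSucc 0, Int.negSucc 0, Int.negSucc 0, Int.negSucc 0, Int.ofNat 1, Int.negSucc 0, Int.ofNat 1, Int.negSucc 0, Int.negSucc 0, Int.ofNat 1],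
  [Int.negSucc 0, Int.negSucc 0, Int.negSucc 0, Int.ofNat 1, Int.negSucc 2, Int.negSucc 0, Int.ofNat 1, Int.negSucc 0, Int.negSucc 0, Int.negSucc 0, Int.ofNat 1, Int.negSucc 0, Int.ofNat 1, Int.negSucc 0, Int.negSucc 0, Int.negSucc 0, Int.negSucc 0, Int.negSucc 0, Int.negSucc 0, Int.ofNat 1, Int.negSucc 0, Int.ofNat 1, Int.negSucc 0, Int.ofNat 1],
  [Int.ofNat 0, Int.ofNat 0, Int.ofNat 0, Int.ofNat 2, Int.ofNat 0, Int.ofNat 0, Int.ofNat 0, Int.negSucc 1, Int.ofNat 0, Int.ofNat 0, Int.ofNat 2, Int.ofNat 0, Int.ofNat 2, Int.ofNat 2, Int.ofNat 0, Int.ofNat 0, Int.ofNat 2, Int.ofNat 0, Int.ofNat 0, Int.ofNat 0, Int.ofNat 0, Int.ofNat 0, Int.ofNat 2, Int.negSucc 1],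
  [Int.ofNat 2, Int.ofNat 0, Int.ofNat 0, Int.ofNat 0, Int.negSucc 1, Int.ofNat 0, Int.ofNat 0, Int.ofNat 2, Int.ofNat 0, Int.ofNat 2, Int.ofNat 2, Int.ofNat 0, Int.ofNat 0, Int.ofNat 2, Int.ofNat 0, Int.ofNat 0, Int.ofNat 0, Int.ofNat 0, Int.ofNat 0, Int.ofNat 2, Int.ofNat 0, Int.ofNat 0, Int.ofNat 0, Int.negSucc 1],
  [Int.negSucc 1, Int.ofNat 0, Int.ofNat 0, Int.ofNat 0, Int.negSucc 1, Int.ofNat 0, Int.negSucc 1, Int.ofNat 0, Int.ofNat 0, Int.ofNat 0, Int.ofNat 0, Int.ofNat 0, Int.ofNat 0, Int.ofNat 2, Int.ofNat 0, Int.negSucc 1, Int.ofNat 0, Int.ofNat 0, Int.ofNat 0, Int.ofNat 0, Int.negSucc 1, Int.negSucc 1, Int.ofNat 0, Int.ofNat 2],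
  [Int.negSucc 1, Int.negSucc 1, Int.negSucc 1, Int.ofNat 0, Int.ofNat 0, Int.ofNat 0, Int.ofNat 0, Int.ofNat 0, Int.ofNat 0, Int.ofNat 2, Int.negSucc 1, Int.ofNat 0, Int.ofNat 0, Int.ofNat 0, Int.ofNat 0, Int.negSucc 1, Int.ofNat 0, Int.ofNat 0, Int.ofNat 0, Int.ofNat 0, Int.negSucc 1, Int.ofNat 0, Int.ofNat 0, Int.ofNat 2],
  [Int.ofNat 0, Int.ofNat 0, Int.ofNat 0, Int.ofNat 0, Int.ofNat 0, Int.ofNat 0, Int.ofNat 0, Int.ofNat 0, Int.ofNat 0, Int.ofNat 4, Int.ofNat 0, Int.ofNat 0, Int.ofNat 0, Int.ofNat 0, Int.ofNat 0, Int.ofNat 0, Int.ofNat 0, Int.ofNat 0, Int.ofNat 0, Int.ofNat 0, Int.ofNat 0, Int.ofNat 0, Int.ofNat 0, Int.negSucc 3],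
  [Int.ofNat 0, Int.ofNat 0, Int.ofNat 0, Int.ofNat 0, Int.ofNat 0, Int.ofNat 0, Int.ofNat 0, Int.ofNat 0, Int.ofNat 0, Int.negSucc 3, Int.ofNat 0, Int.ofNat 0, Int.ofNat 0, Int.ofNat 0, Int.ofNat 0, Int.ofNat 0, Int.ofNat 0, Int.ofNat 0, Int.ofNat 0, Int.ofNat 0, Int.ofNat 0, Int.ofNat 0, Int.ofNat 0, Int.negSucc 3],
  [Int.ofNat 0, Int.ofNat 0, Int.ofNat 0, Int.ofNat 0, Int.ofNat 0, Int.ofNat 0, Int.ofNat 0, Int.ofNat 0, Int.ofNat 0, Int.ofNat 0, Int.ofNat 0, Int.ofNat 0, Int.ofNat 0, Int.ofNat 0, Int.ofNat 0, Int.ofNat 0, Int.ofNat 0, Int.ofNat 0, Int.negSucc 3, Int.ofNat 0, Int.ofNat 0, Int.ofNat 0, Int.ofNat 0, Int.negSucc 3],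
  [Int.ofNat 0, Int.ofNat 0, Int.ofNat 0, Int.ofNat 0, Int.ofNat 0, Int.ofNat 0, Int.ofNat 0, Int.ofNat 0, Int.ofNat 0, Int.ofNat 0, Int.ofNat 0, Int.ofNat 0, Int.ofNat 0, Int.ofNat 0, Int.ofNat 0, Int.ofNat 0, Int.ofNat 0, Int.ofNat 0, Int.ofNat 4, Int.ofNat 0, Int.ofNat 0, Int.ofNat 0, Int.ofNat 0, Int.negSucc 3],
  [Int.negSucc 3, Int.ofNat 0, Int.ofNat 0, Int.ofNat 0, Int.ofNat 0, Int.ofNat 0, Int.ofNat 0, Int.ofNat 0, Int.ofNat 0, Int.ofNat 0, Int.ofNat 0, Int.ofNat 0, Int.ofNat 0, Int.ofNat 0, Int.ofNat 4, Int.ofNat 0, Int.ofNat 0, Int.ofNat 0, Int.ofNat 0, Int.ofNat 0, Int.ofNat 0, Int.ofNat 0, Int.ofNat 0, Int.ofNat 0],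
  [Int.ofNat 4, Int.ofNat 0, Int.ofNat 0, Int.ofNat 0, Int.ofNat 0, Int.ofNat 0, Int.ofNat 0, Int.ofNat 0, Int.ofNat 0, Int.ofNat 0, Int.ofNat 0, Int.ofNat 0, Int.ofNat 0, Int.ofNat 0, Int.ofNat 4, Int.ofNat 0, Int.ofNat 0, Int.ofNat 0, Int.ofNat 0, Int.ofNat 0, Int.ofNat 0, Int.ofNat 0, Int.ofNat 0, Int.ofNat 0],
  [Int.ofNat 0, Int.ofNat 4, Int.ofNat 0, Int.ofNat 0, Int.ofNat 0, Int.ofNat 0, Int.ofNat 0, Int.ofNat 0, Int.ofNat 0, Int.ofNat 0, Int.ofNat 0, Int.ofNat 0, Int.ofNat 0, Int.ofNat 0, Int.ofNat 0, Int.ofNat 4, Int.ofNat 0, Int.ofNat 0, Int.ofNat 0, Int.ofNat 0, Int.ofNat 0, Int.ofNat 0, Int.ofNat 0, Int.ofNat 0],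
  [Int.ofNat 2, Int.negSucc 1, Int.ofNat 2, Int.ofNat 0, Int.ofNat 0, Int.ofNat 0, Int.ofNat 0, Int.ofNat 0, Int.ofNat 0, Int.negSucc 1, Int.negSucc 1, Int.ofNat 0, Int.ofNat 0, Int.ofNat 0, Int.ofNat 0, Int.ofNat 2, Int.ofNat 0, Int.ofNat 0, Int.ofNat 0, Int.ofNat 0, Int.negSucc 1, Int.ofNat 0, Int.ofNat 0, Int.ofNat 2],
  [Int.ofNat 0, Int.ofNat 0, Int.ofNat 0, Int.ofNat 0, Int.ofNat 0, Int.ofNat 0, Int.negSucc 1, Int.negSucc 1, Int.ofNat 0, Int.ofNat 0, Int.ofNat 0, Int.ofNat 0, Int.ofNat 2, Int.ofNat 0, Int.ofNat 0, Int.ofNat 0, Int.ofNat 0, Int.negSucc 1, Int.ofNat 0, Int.ofNat 0, Int.ofNat 2, Int.negSucc 1, Int.ofNat 2, Int.ofNat 2],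
  [Int.ofNat 1, Int.ofNat 1, Int.ofNat 1, Int.ofNat 1, Int.negSucc 0, Int.ofNat 1, Int.ofNat 1, Int.ofNat 1, Int.negSucc 0, Int.negSucc 0, Int.negSucc 0, Int.negSucc 0, Int.ofNat 1, Int.negSucc 0, Int.ofNat 1, Int.negSucc 0, Int.negSucc 0, Int.negSucc 0, Int.negSucc 0, Int.ofNat 3, Int.ofNat 1, Int.ofNat 1, Int.ofNat 1, Int.negSucc 0],
  [Int.ofNat 1, Int.ofNat 1, Int.negSucc 0, Int.ofNat 1, Int.negSucc 0, Int.ofNat 1, Int.ofNat 1, Int.negSucc 0, Int.ofNat 1, Int.negSucc 0, Int.ofNat 1, Int.negSucc 0, Int.negSucc 0, Int.negSucc 0, Int.ofNat 1, Int.negSucc 0, Int.negSucc 0, Int.ofNat 1, Int.ofNat 1, Int.negSucc 0, Int.ofNat 1, Int.ofNat 1, Int.ofNat 3, Int.negSucc 0],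
  [Int.negSucc 0, Int.negSucc 0, Int.ofNat 1, Int.negSucc 0, Int.negSucc 0, Int.negSucc 0, Int.ofNat 1, Int.negSucc 0, Int.ofNat 1, Int.negSucc 0, Int.ofNat 1, Int.negSucc 0, Int.negSucc 0, Int.negSucc 0, Int.negSucc 0, Int.negSucc 0, Int.negSucc 0, Int.negSucc 0, Int.ofNat 1, Int.negSucc 0, Int.ofNat 1, Int.ofNat 1, Int.ofNat 3, Int.ofNat 1],
  [Int.negSucc 0, Int.negSucc 0, Int.negSucc 0, Int.negSucc 0, Int.negSucc 0, Int.ofNat 1, Int.negSucc 0, Int.negSucc 0, Int.ofNat 1, Int.ofNat 1, Int.negSucc 0, Int.negSucc 0, Int.negSucc 0, Int.negSucc 0, Int.negSucc 0, Int.ofNat 1, Int.negSucc 0, Int.negSucc 0, Int.negSucc 0, Int.negSucc 0, Int.ofNat 1, Int.ofNat 1, Int.negSucc 2, Int.ofNat 1],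
  [Int.negSucc 0, Int.ofNat 1, Int.negSucc 0, Int.ofNat 1, Int.ofNat 1, Int.negSucc 0, Int.negSucc 0, Int.negSucc 0, Int.ofNat 1, Int.negSucc 0, Int.negSucc 0, Int.negSucc 0, Int.negSucc 2, Int.negSucc 0, Int.ofNat 1, Int.negSucc 0, Int.ofNat 1, Int.negSucc 0, Int.negSucc 0, Int.negSucc 0, Int.negSucc 0, Int.negSucc 0, Int.negSucc 0, Int.ofNat 1],
  [Int.negSucc 0, Int.ofNat 1, Int.ofNat 1, Int.ofNat 1, Int.ofNat 1, Int.ofNat 1, Int.ofNat 1, Int.negSucc 0, Int.ofNat 1, Int.ofNat 1, Int.ofNat 1, Int.negSucc 0, Int.negSucc 2, Int.negSucc 0, Int.ofNat 1, Int.ofNat 1, Int.ofNat 1, Int.negSucc 0, Int.ofNat 1, Int.negSucc 0, Int.negSucc 0, Int.negSucc 0, Int.ofNat 1, Int.ofNat 1],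
  [Int.ofNat 2, Int.ofNat 0, Int.ofNat 0, Int.ofNat 0, Int.ofNat 0, Int.ofNat 0, Int.ofNat 2, Int.ofNat 0, Int.ofNat 2, Int.ofNat 0, Int.ofNat 0, Int.ofNat 0, Int.negSucc 1, Int.negSucc 1, Int.ofNat 0, Int.ofNat 0, Int.ofNat 0, Int.negSucc 1, Int.ofNat 2, Int.ofNat 0, Int.negSucc 1, Int.ofNat 0, Int.ofNat 0, Int.ofNat 0],
  [Int.ofNat 2, Int.ofNat 2, Int.ofNat 2, Int.ofNat 0, Int.ofNat 0, Int.ofNat 0, Int.ofNat 0, Int.ofNat 0, Int.ofNat 0, Int.negSucc 1, Int.ofNat 0, Int.ofNat 0, Int.ofNat 2, Int.ofNat 0, Int.negSucc 1, Int.ofNat 0, Int.negSucc 1, Int.ofNat 0, Int.ofNat 0, Int.ofNat 0, Int.ofNat 0, Int.negSucc 1, Int.ofNat 0, Int.ofNat 0],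
  [Int.ofNat 1, Int.ofNat 1, Int.ofNat 1, Int.ofNat 1, Int.ofNat 1, Int.ofNat 1, Int.ofNat 1, Int.ofNat 1, Int.negSucc 0, Int.negSucc 0, Int.ofNat 1, Int.negSucc 0, Int.ofNat 1, Int.ofNat 1, Int.negSucc 0, Int.ofNat 1, Int.negSucc 0, Int.ofNat 1, Int.negSucc 0, Int.ofNat 1, Int.ofNat 1, Int.negSucc 0, Int.ofNat 1, Int.ofNat 3],
  [Int.ofNat 1, Int.negSucc 0, Int.ofNat 1, Int.ofNat 1, Int.ofNat 1, Int.ofNat 1, Int.ofNat 1, Int.ofNat 1, Int.ofNat 1, Int.ofNat 1, Int.ofNat 1, Int.negSucc 0, Int.negSucc 0, Int.ofNat 1, Int.negSucc 0, Int.ofNat 1, Int.ofNat 1, Int.negSucc 0, Int.ofNat 1, Int.negSucc 0, Int.ofNat 1, Int.negSucc 0, Int.ofNat 1, Int.ofNat 3],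
  [Int.ofNat 1, Int.ofNat 3, Int.ofNat 1, Int.ofNat 1, Int.negSucc 0, Int.ofNat 1, Int.ofNat 1, Int.ofNat 1, Int.ofNat 1, Int.negSucc 0, Int.negSucc 0, Int.negSucc 0, Int.negSucc 0, Int.negSucc 0, Int.negSucc 0, Int.negSucc 0, Int.negSucc 0, Int.negSucc 0, Int.ofNat 1, Int.negSucc 0, Int.negSucc 0, Int.negSucc 0, Int.negSucc 0, Int.negSucc 0],
  [Int.ofNat 3, Int.ofNat 1, Int.ofNat 1, Int.negSucc 0, Int.ofNat 1, Int.ofNat 1, Int.ofNat 1, Int.ofNat 1, Int.negSucc 0, Int.negSucc 0, Int.negSucc 0, Int.negSucc 0, Int.negSucc 0, Int.negSucc 0, Int.negSucc 0, Int.negSucc 0, Int.negSucc 0, Int.ofNat 1, Int.negSucc 0, Int.negSucc 0, Int.negSucc 0, Int.negSucc 0, Int.ofNat 1, Int.negSucc 0],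
  [Int.negSucc 2, Int.ofNat 1, Int.negSucc 0, Int.negSucc 0, Int.ofNat 1, Int.ofNat 1, Int.ofNat 1, Int.negSucc 0, Int.negSucc 0, Int.ofNat 1, Int.ofNat 1, Int.ofNat 1, Int.negSucc 0, Int.negSucc 0, Int.negSucc 0, Int.negSucc 0, Int.negSucc 0, Int.ofNat 1, Int.ofNat 1, Int.negSucc 0, Int.negSucc 0, Int.ofNat 1, Int.ofNat 1, Int.negSucc 0],
  [Int.negSucc 2, Int.negSucc 0, Int.ofNat 1, Int.negSucc 0, Int.ofNat 1, Int.ofNat 1, Int.ofNat 1, Int.negSucc 0, Int.ofNat 1, Int.negSucc 0, Int.ofNat 1, Int.negSucc 0, Int.negSucc 0, Int.negSucc 0, Int.negSucc 0, Int.negSucc 0, Int.negSucc 0, Int.ofNat 1, Int.ofNat 1, Int.ofNat 1, Int.ofNat 1, Int.negSucc 0, Int.ofNat 1, Int.negSucc 0],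
  [Int.ofNat 3, Int.negSucc 0, Int.negSucc 0, Int.negSucc 0, Int.ofNat 1, Int.ofNat 1, Int.ofNat 1, Int.ofNat 1, Int.ofNat 1, Int.ofNat 1, Int.negSucc 0, Int.ofNat 1, Int.negSucc 0, Int.negSucc 0, Int.negSucc 0, Int.negSucc 0, Int.negSucc 0, Int.ofNat 1, Int.negSucc 0, Int.ofNat 1, Int.ofNat 1, Int.ofNat 1, Int.ofNat 1, Int.negSucc 0],
  [Int.ofNat 1, Int.ofNat 3, Int.negSucc 0, Int.negSucc 0, Int.negSucc 0, Int.ofNat 1, Int.ofNat 1, Int.ofNat 1, Int.ofNat 1, Int.ofNat 1, Int.ofNat 1, Int.negSucc 0, Int.ofNat 1, Int.negSucc 0, Int.negSucc 0, Int.negSucc 0, Int.negSucc 0, Int.negSucc 0, Int.ofNat 1, Int.negSucc 0, Int.ofNat 1, Int.ofNat 1, Int.ofNat 1, Int.negSucc 0],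
  [Int.ofNat 0, Int.negSucc 1, Int.ofNat 2, Int.ofNat 0, Int.ofNat 0, Int.ofNat 2, Int.ofNat 0, Int.ofNat 0, Int.ofNat 0, Int.ofNat 0, Int.ofNat 0, Int.negSucc 1, Int.ofNat 0, Int.ofNat 0, Int.ofNat 0, Int.negSucc 1, Int.ofNat 0, Int.ofNat 0, Int.ofNat 0, Int.negSucc 1, Int.ofNat 0, Int.ofNat 0, Int.ofNat 2, Int.ofNat 2],
  [Int.ofNat 0, Int.ofNat 0, Int.ofNat 2, Int.ofNat 0, Int.ofNat 0, Int.ofNat 0, Int.ofNat 0, Int.ofNat 0, Int.negSucc 1, Int.ofNat 0, Int.ofNat 0, Int.ofNat 0, Int.negSucc 1, Int.ofNat 0, Int.ofNat 0, Int.ofNat 0, Int.negSucc 1, Int.ofNat 0, Int.ofNat 0, Int.ofNat 2, Int.ofNat 0, Int.negSucc 1, Int.ofNat 2, Int.ofNat 2],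
  [Int.ofNat 2, Int.ofNat 2, Int.ofNat 0, Int.ofNat 0, Int.ofNat 0, Int.ofNat 0, Int.ofNat 0, Int.ofNat 0, Int.ofNat 0, Int.ofNat 0, Int.ofNat 0, Int.ofNat 2, Int.ofNat 0, Int.ofNat 0, Int.ofNat 0, Int.ofNat 0, Int.negSucc 1, Int.ofNat 0, Int.ofNat 2, Int.ofNat 2, Int.ofNat 0, Int.negSucc 1, Int.ofNat 2, Int.ofNat 0],
  [Int.ofNat 2, Int.ofNat 0, Int.ofNat 0, Int.ofNat 0, Int.ofNat 2, Int.ofNat 0, Int.ofNat 0, Int.ofNat 0, Int.ofNat 0, Int.ofNat 0, Int.ofNat 0, Int.ofNat 0, Int.ofNat 0, Int.negSucc 1, Int.ofNat 2, Int.ofNat 0, Int.ofNat 0, Int.ofNat 0, Int.ofNat 2, Int.ofNat 2, Int.negSucc 1, Int.ofNat 0, Int.ofNat 2, Int.ofNat 0],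
  [Int.negSucc 0, Int.ofNat 1, Int.ofNat 1, Int.negSucc 0, Int.ofNat 1, Int.negSucc 0, Int.negSucc 0, Int.negSucc 0, Int.negSucc 0, Int.ofNat 1, Int.ofNat 1, Int.negSucc 0, Int.negSucc 0, Int.negSucc 2, Int.ofNat 1, Int.ofNat 1, Int.negSucc 0, Int.negSucc 0, Int.ofNat 1, Int.ofNat 1, Int.negSucc 0, Int.negSucc 0, Int.ofNat 1, Int.ofNat 1],
  [Int.negSucc 0, Int.ofNat 1, Int.negSucc 0, Int.negSucc 0, Int.ofNat 1, Int.ofNat 1, Int.ofNat 1, Int.negSucc 0, Int.negSucc 0, Int.negSucc 0, Int.negSucc 0, Int.negSucc 0, Int.negSucc 0, Int.negSucc 2, Int.ofNat 1, Int.negSucc 0, Int.negSucc 0, Int.negSucc 0, Int.negSucc 0, Int.ofNat 1, Int.negSucc 0, Int.negSucc 0, Int.negSucc 0, Int.ofNat 1],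
  [Int.negSucc 0, Int.negSucc 0, Int.negSucc 0, Int.negSucc 0, Int.ofNat 1, Int.ofNat 1, Int.negSucc 0, Int.negSucc 0, Int.ofNat 1, Int.negSucc 0, Int.negSucc 2, Int.negSucc 0, Int.negSucc 0, Int.ofNat 1, Int.negSucc 0, Int.negSucc 0, Int.ofNat 1, Int.negSucc 0, Int.negSucc 0, Int.negSucc 0, Int.negSucc 0, Int.ofNat 1, Int.negSucc 0, Int.ofNat 1],
  [Int.ofNat 1, Int.ofNat 1, Int.ofNat 1, Int.ofNat 1, Int.negSucc 0, Int.ofNat 1, Int.ofNat 1, Int.negSucc 0, Int.negSucc 0, Int.ofNat 1, Int.negSucc 2, Int.negSucc 0, Int.ofNat 1, Int.negSucc 0, Int.negSucc 0, Int.negSucc 0, Int.negSucc 0, Int.negSucc 0, Int.ofNat 1, Int.negSucc 0, Int.negSucc 0, Int.ofNat 1, Int.negSucc 0, Int.ofNat 1],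
  [Int.ofNat 1, Int.negSucc 0, Int.negSucc 0, Int.negSucc 0, Int.negSucc 0, Int.ofNat 1, Int.negSucc 0, Int.negSucc 0, Int.negSucc 0, Int.ofNat 1, Int.negSucc 0, Int.ofNat 1, Int.ofNat 1, Int.negSucc 0, Int.ofNat 1, Int.ofNat 1, Int.negSucc 2, Int.negSucc 0, Int.negSucc 0, Int.ofNat 1, Int.negSucc 0, Int.ofNat 1, Int.ofNat 1, Int.ofNat 1],
  [Int.negSucc 0, Int.negSucc 0, Int.ofNat 1, Int.negSucc 0, Int.negSucc 0, Int.ofNat 1, Int.negSucc 0, Int.ofNat 1, Int.negSucc 0, Int.negSucc 0, Int.ofNat 1, Int.negSucc 0, Int.ofNat 1, Int.negSucc 0, Int.ofNat 1, Int.ofNat 1, Int.negSucc 2, Int.negSucc 0, Int.ofNat 1, Int.ofNat 1, Int.negSucc 0, Int.negSucc 0, Int.ofNat 1, Int.ofNat 1],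
  [Int.ofNat 1, Int.negSucc 0, Int.negSucc 0, Int.ofNat 1, Int.negSucc 0, Int.negSucc 0, Int.ofNat 1, Int.negSucc 0, Int.ofNat 1, Int.negSucc 0, Int.negSucc 0, Int.ofNat 1, Int.negSucc 0, Int.ofNat 1, Int.negSucc 0, Int.ofNat 1, Int.ofNat 1, Int.negSucc 2, Int.negSucc 0, Int.ofNat 1, Int.ofNat 1, Int.negSucc 0, Int.negSucc 0, Int.ofNat 1],
  [Int.negSucc 0, Int.ofNat 1, Int.ofNat 1, Int.ofNat 3, Int.negSucc 0, Int.ofNat 1, Int.ofNat 1, Int.negSucc 0, Int.ofNat 1, Int.negSucc 0, Int.negSucc 0, Int.ofNat 1, Int.negSucc 0, Int.ofNat 1, Int.ofNat 1, Int.ofNat 1, Int.ofNat 1, Int.negSucc 0, Int.negSucc 0, Int.ofNat 1, Int.ofNat 1, Int.negSucc 0, Int.negSucc 0, Int.negSucc 0],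
  [Int.ofNat 3, Int.negSucc 0, Int.ofNat 1, Int.ofNat 1, Int.negSucc 0, Int.ofNat 1, Int.negSucc 0, Int.negSucc 0, Int.ofNat 1, Int.negSucc 0, Int.ofNat 1, Int.ofNat 1, Int.ofNat 1, Int.ofNat 1, Int.negSucc 0, Int.negSucc 0, Int.ofNat 1, Int.ofNat 1, Int.negSucc 0, Int.negSucc 0, Int.negSucc 0, Int.ofNat 1, Int.ofNat 1, Int.negSucc 0],
  [Int.negSucc 1, Int.ofNat 2, Int.ofNat 0, Int.ofNat 0, Int.negSucc 1, Int.ofNat 0, Int.ofNat 0, Int.ofNat 0, Int.ofNat 0, Int.ofNat 0, Int.ofNat 2, Int.ofNat 0, Int.ofNat 0, Int.ofNat 0, Int.negSucc 1, Int.ofNat 0, Int.ofNat 0, Int.ofNat 0, Int.negSucc 1, Int.ofNat 0, Int.ofNat 0, Int.ofNat 2, Int.ofNat 0, Int.ofNat 2],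
  [Int.negSucc 1, Int.ofNat 0, Int.negSucc 1, Int.ofNat 0, Int.negSucc 1, Int.ofNat 0, Int.ofNat 0, Int.ofNat 2, Int.ofNat 0, Int.ofNat 0, Int.ofNat 0, Int.ofNat 0, Int.ofNat 0, Int.ofNat 0, Int.ofNat 0, Int.ofNat 0, Int.ofNat 0, Int.negSucc 1, Int.ofNat 2, Int.ofNat 0, Int.ofNat 2, Int.ofNat 0, Int.ofNat 0, Int.ofNat 2],
  [Int.ofNat 1, Int.negSucc 0, Int.ofNat 1, Int.ofNat 1, Int.negSucc 0, Int.ofNat 1, Int.negSucc 0, Int.ofNat 1, Int.negSucc 0, Int.negSucc 0, Int.negSucc 0, Int.negSucc 0, Int.negSucc 0, Int.ofNat 1, Int.ofNat 1, Int.negSucc 0, Int.ofNat 1, Int.negSucc 0, Int.ofNat 1, Int.negSucc 0, Int.ofNat 1, Int.negSucc 0, Int.ofNat 1, Int.negSucc 2],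
  [Int.ofNat 1, Int.negSucc 0, Int.negSucc 0, Int.ofNat 1, Int.negSucc 0, Int.negSucc 0, Int.ofNat 1, Int.ofNat 1, Int.negSucc 0, Int.ofNat 1, Int.ofNat 1, Int.negSucc 0, Int.negSucc 0, Int.ofNat 1, Int.ofNat 1, Int.ofNat 1, Int.ofNat 1, Int.negSucc 0, Int.negSucc 0, Int.negSucc 0, Int.ofNat 1, Int.negSucc 0, Int.negSucc 0, Int.negSucc 2],
  [Int.negSucc 0, Int.negSucc 0, Int.ofNat 1, Int.ofNat 1, Int.ofNat 1, Int.negSucc 0, Int.ofNat 1, Int.negSucc 0, Int.negSucc 0, Int.ofNat 1, Int.ofNat 1, Int.ofNat 1, Int.negSucc 0, Int.negSucc 0, Int.ofNat 1, Int.negSucc 0, Int.negSucc 0, Int.negSucc 0, Int.ofNat 1, Int.negSucc 0, Int.negSucc 0, Int.ofNat 1, Int.ofNat 1, Int.negSucc 2],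
  [Int.negSucc 0, Int.negSucc 0, Int.negSucc 0, Int.ofNat 1, Int.ofNat 1, Int.ofNat 1, Int.negSucc 0, Int.negSucc 0, Int.negSucc 0, Int.negSucc 0, Int.negSucc 0, Int.ofNat 1, Int.negSucc 0, Int.negSucc 0, Int.ofNat 1, Int.ofNat 1, Int.negSucc 0, Int.negSucc 0, Int.negSucc 0, Int.negSucc 0, Int.negSucc 0, Int.ofNat 1, Int.negSucc 0, Int.negSucc 2],
  [Int.negSucc 1, Int.negSucc 1, Int.negSucc 1, Int.ofNat 0, Int.ofNat 2, Int.ofNat 0, Int.ofNat 0, Int.ofNat 0, Int.ofNat 0, Int.ofNat 0, Int.ofNat 0, Int.ofNat 2, Int.ofNat 0, Int.ofNat 0, Int.ofNat 0, Int.ofNat 2, Int.ofNat 0, Int.negSucc 1, Int.ofNat 0, Int.ofNat 0, Int.ofNat 0, Int.ofNat 2, Int.ofNat 0, Int.ofNat 0],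
  [Int.negSucc 1, Int.ofNat 0, Int.ofNat 0, Int.ofNat 0, Int.negSucc 1, Int.ofNat 2, Int.negSucc 1, Int.ofNat 0, Int.ofNat 0, Int.ofNat 0, Int.ofNat 0, Int.ofNat 0, Int.ofNat 0, Int.ofNat 0, Int.negSucc 1, Int.ofNat 2, Int.ofNat 0, Int.ofNat 2, Int.ofNat 2, Int.ofNat 0, Int.ofNat 0, Int.ofNat 0, Int.ofNat 0, Int.ofNat 0],
  [Int.ofNat 1, Int.negSucc 0, Int.negSucc 0, Int.negSucc 0, Int.negSucc 0, Int.ofNat 1, Int.negSucc 0, Int.ofNat 1, Int.negSucc 0, Int.negSucc 0, Int.negSucc 0, Int.negSucc 0, Int.negSucc 0, Int.ofNat 1, Int.negSucc 2, Int.ofNat 1, Int.ofNat 1, Int.ofNat 1, Int.ofNat 1, Int.ofNat 1, Int.negSucc 0, Int.ofNat 1, Int.ofNat 1, Int.negSucc 0],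
  [Int.negSucc 0, Int.ofNat 1, Int.ofNat 1, Int.ofNat 1, Int.negSucc 0, Int.negSucc 0, Int.negSucc 0, Int.negSucc 0, Int.ofNat 1, Int.negSucc 0, Int.ofNat 1, Int.negSucc 0, Int.negSucc 0, Int.negSucc 0, Int.negSucc 0, Int.negSucc 0, Int.ofNat 1, Int.negSucc 2, Int.ofNat 1, Int.ofNat 1, Int.ofNat 1, Int.ofNat 1, Int.ofNat 1, Int.negSucc 0],
  [Int.ofNat 1, Int.negSucc 0, Int.negSucc 0, Int.ofNat 3, Int.negSucc 0, Int.ofNat 1, Int.negSucc 0, Int.negSucc 0, Int.ofNat 1, Int.negSucc 0, Int.ofNat 1, Int.negSucc 0, Int.negSucc 0, Int.negSucc 0, Int.ofNat 1, Int.negSucc 0, Int.ofNat 1, Int.negSucc 0, Int.ofNat 1, Int.ofNat 1, Int.ofNat 1, Int.ofNat 1, Int.ofNat 1, Int.ofNat 1],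
  [Int.negSucc 0, Int.negSucc 0, Int.ofNat 3, Int.negSucc 0, Int.ofNat 1, Int.negSucc 0, Int.negSucc 0, Int.ofNat 1, Int.negSucc 0, Int.ofNat 1, Int.negSucc 0, Int.negSucc 0, Int.negSucc 0, Int.ofNat 1, Int.negSucc 0, Int.ofNat 1, Int.negSucc 0, Int.ofNat 1, Int.ofNat 1, Int.ofNat 1, Int.ofNat 1, Int.ofNat 1, Int.ofNat 1, Int.ofNat 1],
  [Int.ofNat 1, Int.negSucc 0, Int.negSucc 2, Int.negSucc 0, Int.ofNat 1, Int.negSucc 0, Int.negSucc 0, Int.negSucc 0, Int.negSucc 0, Int.negSucc 0, Int.ofNat 1, Int.ofNat 1, Int.negSucc 0, Int.ofNat 1, Int.negSucc 0, Int.ofNat 1, Int.negSucc 0, Int.ofNat 1, Int.negSucc 0, Int.ofNat 1, Int.ofNat 1, Int.negSucc 0, Int.ofNat 1, Int.ofNat 1],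
  [Int.ofNat 1, Int.negSucc 2, Int.negSucc 0, Int.negSucc 0, Int.negSucc 0, Int.ofNat 1, Int.ofNat 1, Int.ofNat 1, Int.negSucc 0, Int.negSucc 0, Int.negSucc 0, Int.negSucc 0, Int.ofNat 1, Int.negSucc 0, Int.ofNat 1, Int.ofNat 1, Int.negSucc 0, Int.ofNat 1, Int.negSucc 0, Int.ofNat 1, Int.negSucc 0, Int.negSucc 0, Int.ofNat 1, Int.ofNat 1],
  [Int.negSucc 0, Int.negSucc 2, Int.ofNat 1, Int.negSucc 0, Int.negSucc 0, Int.ofNat 1, Int.ofNat 1, Int.negSucc 0, Int.negSucc 0, Int.ofNat 1, Int.ofNat 1, Int.ofNat 1, Int.ofNat 1, Int.negSucc 0, Int.ofNat 1, Int.ofNat 1, Int.negSucc 0, Int.ofNat 1, Int.ofNat 1, Int.ofNat 1, Int.negSucc 0, Int.ofNat 1, Int.ofNat 1, Int.ofNat 1],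
  [Int.ofNat 1, Int.negSucc 0, Int.negSucc 2, Int.ofNat 1, Int.negSucc 0, Int.negSucc 0, Int.ofNat 1, Int.ofNat 1, Int.negSucc 0, Int.negSucc 0, Int.ofNat 1, Int.ofNat 1, Int.ofNat 1, Int.ofNat 1, Int.negSucc 0, Int.ofNat 1, Int.ofNat 1, Int.negSucc 0, Int.ofNat 1, Int.ofNat 1, Int.ofNat 1, Int.negSucc 0, Int.ofNat 1, Int.ofNat 1],
  [Int.negSucc 1, Int.ofNat 0, Int.ofNat 2, Int.ofNat 2, Int.negSucc 1, Int.ofNat 0, Int.ofNat 0, Int.ofNat 0, Int.negSucc 1, Int.negSucc 1, Int.ofNat 0, Int.ofNat 0, Int.ofNat 0, Int.ofNat 0, Int.ofNat 0, Int.ofNat 0, Int.ofNat 0, Int.ofNat 0, Int.ofNat 0, Int.ofNat 0, Int.ofNat 0, Int.negSucc 1, Int.ofNat 0, Int.negSucc 1],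
  [Int.ofNat 2, Int.negSucc 1, Int.ofNat 0, Int.ofNat 0, Int.ofNat 0, Int.negSucc 1, Int.negSucc 1, Int.ofNat 0, Int.ofNat 0, Int.ofNat 0, Int.ofNat 0, Int.ofNat 0, Int.ofNat 0, Int.ofNat 0, Int.ofNat 0, Int.ofNat 0, Int.ofNat 0, Int.ofNat 0, Int.negSucc 1, Int.ofNat 0, Int.negSucc 1, Int.ofNat 0, Int.ofNat 2, Int.negSucc 1],
  [Int.negSucc 2, Int.ofNat 1, Int.negSucc 0, Int.ofNat 1, Int.negSucc 0, Int.negSucc 0, Int.negSucc 0, Int.ofNat 1, Int.ofNat 1, Int.ofNat 1, Int.ofNat 1, Int.ofNat 1, Int.ofNat 1, Int.negSucc 0, Int.ofNat 1, Int.ofNat 1, Int.negSucc 0, Int.ofNat 1, Int.negSucc 0, Int.ofNat 1, Int.negSucc 0, Int.ofNat 1, Int.ofNat 1, Int.ofNat 1],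
  [Int.negSucc 2, Int.negSucc 0, Int.negSucc 0, Int.ofNat 1, Int.negSucc 0, Int.ofNat 1, Int.negSucc 0, Int.ofNat 1, Int.ofNat 1, Int.negSucc 0, Int.negSucc 0, Int.ofNat 1, Int.ofNat 1, Int.negSucc 0, Int.ofNat 1, Int.ofNat 1, Int.ofNat 1, Int.ofNat 1, Int.ofNat 1, Int.ofNat 1, Int.ofNat 1, Int.negSucc 0, Int.ofNat 1, Int.ofNat 1],
  [Int.ofNat 1, Int.negSucc 0, Int.negSucc 0, Int.negSucc 0, Int.negSucc 0, Int.negSucc 0, Int.negSucc 0, Int.ofNat 1, Int.negSucc 0, Int.negSucc 0, Int.negSucc 0, Int.negSucc 0, Int.negSucc 0, Int.negSucc 0, Int.negSucc 0, Int.ofNat 1, Int.ofNat 1, Int.negSucc 0, Int.negSucc 0, Int.ofNat 1, Int.ofNat 1, Int.negSucc 0, Int.ofNat 1, Int.negSucc 2],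
  [Int.ofNat 1, Int.negSucc 0, Int.ofNat 1, Int.negSucc 0, Int.negSucc 0, Int.ofNat 1, Int.ofNat 1, Int.ofNat 1, Int.negSucc 0, Int.ofNat 1, Int.ofNat 1, Int.negSucc 0, Int.negSucc 0, Int.negSucc 0, Int.negSucc 0, Int.negSucc 0, Int.ofNat 1, Int.negSucc 0, Int.ofNat 1, Int.ofNat 1, Int.ofNat 1, Int.negSucc 0, Int.negSucc 0, Int.negSucc 2],
  [Int.ofNat 1, Int.ofNat 1, Int.negSucc 0, Int.negSucc 0, Int.negSucc 0, Int.ofNat 1, Int.negSucc 0, Int.negSucc 0, Int.ofNat 1, Int.ofNat 1, Int.negSucc 0, Int.ofNat 1, Int.negSucc 0, Int.negSucc 0, Int.negSucc 0, Int.ofNat 1, Int.ofNat 1, Int.negSucc 0, Int.ofNat 1, Int.ofNat 1, Int.ofNat 1, Int.negSucc 0, Int.negSucc 0, Int.negSucc 2],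
  [Int.negSucc 0, Int.negSucc 0, Int.ofNat 1, Int.ofNat 1, Int.ofNat 1, Int.ofNat 1, Int.ofNat 1, Int.negSucc 0, Int.negSucc 0, Int.negSucc 0, Int.negSucc 0, Int.ofNat 1, Int.ofNat 1, Int.ofNat 1, Int.negSucc 0, Int.ofNat 1, Int.negSucc 0, Int.negSucc 0, Int.negSucc 0, Int.ofNat 1, Int.ofNat 1, Int.negSucc 0, Int.negSucc 0, Int.negSucc 2],
  [Int.negSucc 2, Int.negSucc 0, Int.ofNat 1, Int.ofNat 1, Int.negSucc 0, Int.negSucc 0, Int.ofNat 1, Int.ofNat 1, Int.ofNat 1, Int.ofNat 1, Int.negSucc 0, Int.ofNat 1, Int.negSucc 0, Int.negSucc 0, Int.negSucc 0, Int.ofNat 1, Int.negSucc 0, Int.ofNat 1, Int.negSucc 0, Int.ofNat 1, Int.negSucc 0, Int.ofNat 1, Int.negSucc 0, Int.negSucc 0],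
  [Int.ofNat 3, Int.negSucc 0, Int.negSucc 0, Int.ofNat 1, Int.negSucc 0, Int.negSucc 0, Int.ofNat 1, Int.negSucc 0, Int.ofNat 1, Int.negSucc 0, Int.ofNat 1, Int.negSucc 0, Int.negSucc 0, Int.negSucc 0, Int.negSucc 0, Int.ofNat 1, Int.negSucc 0, Int.ofNat 1, Int.ofNat 1, Int.ofNat 1, Int.negSucc 0, Int.negSucc 0, Int.negSucc 0, Int.negSucc 0],
  [Int.negSucc 0, Int.ofNat 3, Int.negSucc 0, Int.negSucc 0, Int.ofNat 1, Int.negSucc 0, Int.negSucc 0, Int.ofNat 1, Int.negSucc 0, Int.ofNat 1, Int.negSucc 0, Int.ofNat 1, Int.negSucc 0, Int.negSucc 0, Int.negSucc 0, Int.negSucc 0, Int.ofNat 1, Int.negSucc 0, Int.ofNat 1, Int.ofNat 1, Int.ofNat 1, Int.negSucc 0, Int.negSucc 0, Int.negSucc 0],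
  [Int.ofNat 1, Int.negSucc 2, Int.ofNat 1, Int.ofNat 1, Int.ofNat 1, Int.ofNat 1, Int.negSucc 0, Int.ofNat 1, Int.negSucc 0, Int.ofNat 1, Int.negSucc 0, Int.ofNat 1, Int.negSucc 0, Int.negSucc 0, Int.ofNat 1, Int.negSucc 0, Int.ofNat 1, Int.ofNat 1, Int.ofNat 1, Int.ofNat 1, Int.ofNat 1, Int.negSucc 0, Int.negSucc 0, Int.ofNat 1],
  [Int.ofNat 1, Int.ofNat 1, Int.ofNat 1, Int.negSucc 0, Int.ofNat 1, Int.negSucc 0, Int.ofNat 1, Int.negSucc 0, Int.ofNat 1, Int.negSucc 0, Int.negSucc 0, Int.ofNat 1, Int.negSucc 0, Int.ofNat 1, Int.ofNat 1, Int.ofNat 1, Int.ofNat 1, Int.ofNat 1, Int.negSucc 0, Int.negSucc 0, Int.ofNat 1, Int.negSucc 2, Int.ofNat 1, Int.ofNat 1],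
  [Int.ofNat 1, Int.ofNat 1, Int.ofNat 1, Int.negSucc 0, Int.negSucc 0, Int.negSucc 0, Int.ofNat 3, Int.ofNat 1, Int.ofNat 1, Int.negSucc 0, Int.negSucc 0, Int.ofNat 1, Int.negSucc 0, Int.negSucc 0, Int.ofNat 1, Int.ofNat 1, Int.negSucc 0, Int.ofNat 1, Int.negSucc 0, Int.ofNat 1, Int.ofNat 1, Int.negSucc 0, Int.negSucc 0, Int.ofNat 1],
  [Int.ofNat 1, Int.ofNat 3, Int.negSucc 0, Int.negSucc 0, Int.negSucc 0, Int.ofNat 1, Int.ofNat 1, Int.negSucc 0, Int.negSucc 0, Int.negSucc 0, Int.ofNat 1, Int.ofNat 1, Int.negSucc 0, Int.negSucc 0, Int.negSucc 0, Int.ofNat 1, Int.ofNat 1, Int.ofNat 1, Int.ofNat 1, Int.ofNat 1, Int.negSucc 0, Int.negSucc 0, Int.ofNat 1, Int.ofNat 1],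
  [Int.ofNat 1, Int.negSucc 0, Int.ofNat 3, Int.negSucc 0, Int.negSucc 0, Int.ofNat 1, Int.ofNat 1, Int.negSucc 0, Int.negSucc 0, Int.negSucc 0, Int.ofNat 1, Int.ofNat 1, Int.negSucc 0, Int.negSucc 0, Int.negSucc 0, Int.ofNat 1, Int.ofNat 1, Int.ofNat 1, Int.ofNat 1, Int.ofNat 1, Int.negSucc 0, Int.negSucc 0, Int.ofNat 1, Int.ofNat 1],
  [Int.ofNat 1, Int.negSucc 0, Int.negSucc 2, Int.negSucc 0, Int.negSucc 0, Int.negSucc 0, Int.negSucc 0, Int.negSucc 0, Int.negSucc 0, Int.ofNat 1, Int.negSucc 0, Int.ofNat 1, Int.negSucc 0, Int.negSucc 0, Int.negSucc 0, Int.negSucc 0, Int.ofNat 1, Int.ofNat 1, Int.negSucc 0, Int.ofNat 1, Int.negSucc 0, Int.negSucc 0, Int.negSucc 0, Int.ofNat 1],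
  [Int.ofNat 1, Int.negSucc 0, Int.ofNat 1, Int.negSucc 0, Int.ofNat 1, Int.negSucc 0, Int.negSucc 0, Int.ofNat 1, Int.negSucc 0, Int.negSucc 0, Int.negSucc 0, Int.negSucc 0, Int.negSucc 0, Int.negSucc 0, Int.negSucc 0, Int.negSucc 0, Int.negSucc 0, Int.negSucc 2, Int.ofNat 1, Int.negSucc 0, Int.ofNat 1, Int.negSucc 0, Int.negSucc 0, Int.ofNat 1],
  [Int.ofNat 1, Int.negSucc 0, Int.negSucc 0, Int.negSucc 0, Int.ofNat 1, Int.ofNat 1, Int.ofNat 1, Int.ofNat 1, Int.negSucc 0, Int.ofNat 1, Int.ofNat 1, Int.negSucc 0, Int.negSucc 0, Int.negSucc 0, Int.negSucc 0, Int.ofNat 1, Int.negSucc 0, Int.negSucc 2, Int.negSucc 0, Int.negSucc 0, Int.ofNat 1, Int.negSucc 0, Int.ofNat 1, Int.ofNat 1],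
  [Int.negSucc 0, Int.ofNat 1, Int.ofNat 1, Int.ofNat 1, Int.ofNat 1, Int.ofNat 3, Int.ofNat 1, Int.ofNat 1, Int.ofNat 1, Int.negSucc 0, Int.negSucc 0, Int.ofNat 1, Int.ofNat 1, Int.negSucc 0, Int.ofNat 1, Int.negSucc 0, Int.negSucc 0, Int.negSucc 0, Int.ofNat 1, Int.negSucc 0, Int.negSucc 0, Int.negSucc 0, Int.ofNat 1, Int.negSucc 0],
  [Int.negSucc 0, Int.ofNat 1, Int.ofNat 1, Int.ofNat 1, Int.ofNat 1, Int.negSucc 0, Int.ofNat 1, Int.ofNat 3, Int.negSucc 0, Int.ofNat 1, Int.ofNat 1, Int.negSucc 0, Int.ofNat 1, Int.negSucc 0, Int.negSucc 0, Int.negSucc 0, Int.negSucc 0, Int.ofNat 1, Int.ofNat 1, Int.ofNat 1, Int.negSucc 0, Int.negSucc 0, Int.ofNat 1, Int.negSucc 0],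
  [Int.ofNat 1, Int.negSucc 0, Int.negSucc 0, Int.ofNat 1, Int.ofNat 1, Int.negSucc 0, Int.negSucc 0, Int.ofNat 1, Int.negSucc 0, Int.ofNat 1, Int.ofNat 1, Int.negSucc 0, Int.ofNat 1, Int.negSucc 0, Int.negSucc 0, Int.negSucc 0, Int.negSucc 0, Int.ofNat 1, Int.ofNat 1, Int.negSucc 0, Int.negSucc 0, Int.negSucc 2, Int.ofNat 1, Int.ofNat 1],
  [Int.negSucc 0, Int.negSucc 2, Int.ofNat 1, Int.ofNat 1, Int.negSucc 0, Int.negSucc 0, Int.ofNat 1, Int.ofNat 1, Int.negSucc 0, Int.negSucc 0, Int.ofNat 1, Int.negSucc 0, Int.ofNat 1, Int.ofNat 1, Int.negSucc 0, Int.ofNat 1, Int.negSucc 0, Int.negSucc 0, Int.negSucc 0, Int.negSucc 0, Int.ofNat 1, Int.ofNat 1, Int.negSucc 0, Int.ofNat 1],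
  [Int.ofNat 0, Int.ofNat 2, Int.negSucc 1, Int.ofNat 2, Int.ofNat 0, Int.ofNat 0, Int.ofNat 0, Int.ofNat 0, Int.ofNat 0, Int.negSucc 1, Int.ofNat 0, Int.ofNat 0, Int.ofNat 2, Int.ofNat 2, Int.ofNat 0, Int.ofNat 0, Int.ofNat 0, Int.ofNat 0, Int.ofNat 0, Int.negSucc 1, Int.ofNat 0, Int.ofNat 0, Int.ofNat 0, Int.negSucc 1],
  [Int.ofNat 2, Int.negSucc 1, Int.ofNat 2, Int.ofNat 0, Int.ofNat 0, Int.ofNat 0, Int.ofNat 0, Int.ofNat 0, Int.negSucc 1, Int.ofNat 0, Int.ofNat 0, Int.ofNat 2, Int.ofNat 2, Int.ofNat 0, Int.ofNat 0, Int.ofNat 0, Int.ofNat 0, Int.ofNat 0, Int.negSucc 1, Int.ofNat 0, Int.ofNat 0, Int.ofNat 0, Int.ofNat 0, Int.negSucc 1],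
  [Int.negSucc 1, Int.negSucc 1, Int.negSucc 1, Int.ofNat 0, Int.ofNat 0, Int.ofNat 0, Int.ofNat 0, Int.ofNat 0, Int.negSucc 1, Int.ofNat 0, Int.ofNat 0, Int.negSucc 1, Int.ofNat 2, Int.ofNat 0, Int.ofNat 0, Int.ofNat 0, Int.ofNat 0, Int.ofNat 0, Int.ofNat 2, Int.ofNat 0, Int.ofNat 0, Int.ofNat 0, Int.ofNat 0, Int.negSucc 1],
  [Int.negSucc 1, Int.negSucc 1, Int.ofNat 2, Int.ofNat 0, Int.negSucc 1, Int.ofNat 0, Int.ofNat 0, Int.ofNat 0, Int.ofNat 0, Int.ofNat 0, Int.ofNat 0, Int.ofNat 0, Int.ofNat 0, Int.negSucc 1, Int.ofNat 0, Int.ofNat 0, Int.ofNat 2, Int.ofNat 0, Int.ofNat 0, Int.ofNat 0, Int.ofNat 0, Int.ofNat 0, Int.negSucc 1, Int.negSucc 1],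
  [Int.ofNat 2, Int.negSucc 1, Int.negSucc 1, Int.ofNat 0, Int.negSucc 1, Int.ofNat 0, Int.ofNat 0, Int.ofNat 0, Int.ofNat 0, Int.ofNat 0, Int.ofNat 0, Int.ofNat 0, Int.ofNat 0, Int.negSucc 1, Int.ofNat 0, Int.ofNat 0, Int.ofNat 2, Int.ofNat 0, Int.ofNat 0, Int.ofNat 0, Int.ofNat 0, Int.ofNat 0, Int.negSucc 1, Int.negSucc 1],
  [Int.negSucc 1, Int.ofNat 2, Int.negSucc 1, Int.negSucc 1, Int.ofNat 0, Int.negSucc 1, Int.ofNat 0, Int.ofNat 0, Int.ofNat 0, Int.ofNat 0, Int.ofNat 0, Int.ofNat 0, Int.ofNat 0, Int.ofNat 0, Int.negSucc 1, Int.ofNat 0, Int.ofNat 0, Int.ofNat 2, Int.ofNat 0, Int.ofNat 0, Int.ofNat 0, Int.ofNat 0, Int.ofNat 0, Int.negSucc 1],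
  [Int.ofNat 0, Int.negSucc 3, Int.ofNat 0, Int.ofNat 0, Int.ofNat 0, Int.ofNat 0, Int.ofNat 0, Int.ofNat 0, Int.ofNat 0, Int.ofNat 0, Int.ofNat 0, Int.ofNat 0, Int.ofNat 0, Int.ofNat 0, Int.ofNat 0, Int.ofNat 0, Int.ofNat 0, Int.ofNat 4, Int.ofNat 0, Int.ofNat 0, Int.ofNat 0, Int.ofNat 0, Int.ofNat 0, Int.ofNat 0],
  [Int.ofNat 0, Int.ofNat 0, Int.ofNat 0, Int.ofNat 0, Int.ofNat 0, Int.ofNat 0, Int.ofNat 0, Int.ofNat 0, Int.ofNat 0, Int.ofNat 0, Int.ofNat 0, Int.ofNat 0, Int.ofNat 0, Int.ofNat 0, Int.ofNat 4, Int.ofNat 0, Int.ofNat 0, Int.ofNat 0, Int.ofNat 0, Int.ofNat 0, Int.ofNat 0, Int.negSucc 3, Int.ofNat 0, Int.ofNat 0],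
  [Int.ofNat 0, Int.ofNat 0, Int.ofNat 0, Int.negSucc 1, Int.ofNat 0, Int.negSucc 1, Int.ofNat 2, Int.ofNat 2, Int.ofNat 0, Int.ofNat 0, Int.ofNat 0, Int.ofNat 0, Int.ofNat 0, Int.ofNat 0, Int.ofNat 2, Int.ofNat 0, Int.ofNat 0, Int.negSucc 1, Int.ofNat 0, Int.ofNat 2, Int.ofNat 0, Int.negSucc 1, Int.ofNat 0, Int.ofNat 0],
  [Int.ofNat 0, Int.ofNat 2, Int.ofNat 0, Int.negSucc 1, Int.ofNat 0, Int.ofNat 2, Int.ofNat 0, Int.ofNat 0, Int.ofNat 0, Int.ofNat 0, Int.ofNat 0, Int.negSucc 1, Int.ofNat 0, Int.ofNat 0, Int.ofNat 0, Int.ofNat 0, Int.ofNat 0, Int.ofNat 2, Int.ofNat 0, Int.ofNat 0, Int.negSucc 1, Int.negSucc 1, Int.ofNat 2, Int.ofNat 0],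
  [Int.ofNat 1, Int.negSucc 0, Int.ofNat 1, Int.negSucc 2, Int.negSucc 0, Int.ofNat 1, Int.ofNat 1, Int.ofNat 1, Int.ofNat 1, Int.ofNat 1, Int.ofNat 1, Int.negSucc 0, Int.ofNat 1, Int.negSucc 0, Int.negSucc 0, Int.ofNat 1, Int.negSucc 0, Int.ofNat 1, Int.ofNat 1, Int.ofNat 1, Int.negSucc 0, Int.negSucc 0, Int.ofNat 1, Int.ofNat 1],
  [Int.ofNat 1, Int.negSucc 0, Int.negSucc 0, Int.negSucc 2, Int.negSucc 0, Int.negSucc 0, Int.negSucc 0, Int.ofNat 1, Int.ofNat 1, Int.negSucc 0, Int.negSucc 0, Int.negSucc 0, Int.ofNat 1, Int.negSucc 0, Int.negSucc 0, Int.negSucc 0, Int.negSucc 0, Int.ofNat 1, Int.negSucc 0, Int.ofNat 1, Int.negSucc 0, Int.negSucc 0, Int.negSucc 0, Int.ofNat 1],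
  [Int.negSucc 0, Int.negSucc 0, Int.negSucc 0, Int.ofNat 1, Int.negSucc 0, Int.negSucc 0, Int.negSucc 0, Int.negSucc 2, Int.negSucc 0, Int.negSucc 0, Int.negSucc 0, Int.ofNat 1, Int.negSucc 0, Int.negSucc 0, Int.ofNat 1, Int.negSucc 0, Int.ofNat 1, Int.ofNat 1, Int.negSucc 0, Int.negSucc 0, Int.ofNat 1, Int.negSucc 0, Int.negSucc 0, Int.ofNat 1],
  [Int.ofNat 1, Int.ofNat 1, Int.ofNat 1, Int.negSucc 0, Int.ofNat 1, Int.negSucc 0, Int.ofNat 1, Int.negSucc 2, Int.ofNat 1, Int.ofNat 1, Int.negSucc 0, Int.ofNat 1, Int.ofNat 1, Int.ofNat 1, Int.ofNat 1, Int.negSucc 0, Int.negSucc 0, Int.ofNat 1, Int.ofNat 1, Int.negSucc 0, Int.ofNat 1, Int.negSucc 0, Int.negSucc 0, Int.ofNat 1],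
  [Int.ofNat 1, Int.negSucc 0, Int.ofNat 1, Int.negSucc 0, Int.ofNat 1, Int.ofNat 1, Int.negSucc 0, Int.ofNat 1, Int.ofNat 1, Int.negSucc 0, Int.negSucc 0, Int.ofNat 1, Int.negSucc 0, Int.negSucc 2, Int.ofNat 1, Int.negSucc 0, Int.negSucc 0, Int.ofNat 1, Int.ofNat 1, Int.ofNat 1, Int.ofNat 1, Int.ofNat 1, Int.ofNat 1, Int.ofNat 1],
  [Int.negSucc 0, Int.negSucc 0, Int.negSucc 0, Int.negSucc 0, Int.ofNat 1, Int.ofNat 1, Int.negSucc 0, Int.negSucc 0, Int.ofNat 1, Int.ofNat 1, Int.ofNat 1, Int.negSucc 0, Int.negSucc 0, Int.negSucc 2, Int.ofNat 1, Int.negSucc 0, Int.negSucc 0, Int.ofNat 1, Int.negSucc 0, Int.ofNat 1, Int.ofNat 1, Int.negSucc 0, Int.ofNat 1, Int.ofNat 1],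
  [Int.ofNat 1, Int.negSucc 0, Int.negSucc 0, Int.negSucc 0, Int.negSucc 0, Int.ofNat 1, Int.ofNat 1, Int.negSucc 0, Int.negSucc 0, Int.ofNat 1, Int.ofNat 1, Int.ofNat 1, Int.negSucc 0, Int.negSucc 0, Int.negSucc 2, Int.ofNat 1, Int.negSucc 0, Int.negSucc 0, Int.ofNat 1, Int.negSucc 0, Int.ofNat 1, Int.ofNat 1, Int.negSucc 0, Int.ofNat 1],
  [Int.negSucc 0, Int.ofNat 1, Int.ofNat 1, Int.ofNat 1, Int.ofNat 1, Int.ofNat 3, Int.ofNat 1, Int.negSucc 0, Int.negSucc 0, Int.negSucc 0, Int.negSucc 0, Int.ofNat 1, Int.negSucc 0, Int.ofNat 1, Int.negSucc 0, Int.negSucc 0, Int.ofNat 1, Int.ofNat 1, Int.ofNat 1, Int.negSucc 0, Int.negSucc 0, Int.ofNat 1, Int.ofNat 1, Int.negSucc 0],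
  [Int.ofNat 1, Int.ofNat 1, Int.ofNat 3, Int.ofNat 1, Int.negSucc 0, Int.negSucc 0, Int.negSucc 0, Int.negSucc 0, Int.ofNat 1, Int.negSucc 0, Int.ofNat 1, Int.negSucc 0, Int.negSucc 0, Int.ofNat 1, Int.ofNat 1, Int.ofNat 1, Int.negSucc 0, Int.negSucc 0, Int.ofNat 1, Int.ofNat 1, Int.negSucc 0, Int.ofNat 1, Int.ofNat 1, Int.negSucc 0],
  [Int.ofNat 1, Int.ofNat 1, Int.negSucc 0, Int.ofNat 1, Int.negSucc 0, Int.negSucc 0, Int.negSucc 0, Int.negSucc 0, Int.ofNat 1, Int.negSucc 0, Int.ofNat 1, Int.negSucc 0, Int.negSucc 0, Int.ofNat 1, Int.ofNat 1, Int.ofNat 1, Int.negSucc 0, Int.negSucc 0, Int.ofNat 1, Int.ofNat 1, Int.negSucc 0, Int.ofNat 1, Int.ofNat 1, Int.ofNat 3],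
  [Int.ofNat 1, Int.negSucc 0, Int.negSucc 0, Int.ofNat 1, Int.ofNat 1, Int.negSucc 0, Int.negSucc 0, Int.ofNat 1, Int.negSucc 0, Int.ofNat 1, Int.negSucc 0, Int.negSucc 0, Int.negSucc 0, Int.negSucc 0, Int.ofNat 1, Int.ofNat 1, Int.ofNat 1, Int.ofNat 1, Int.ofNat 1, Int.negSucc 0, Int.ofNat 1, Int.negSucc 0, Int.ofNat 1, Int.ofNat 3],
  [Int.ofNat 0, Int.ofNat 2, Int.ofNat 2, Int.ofNat 0, Int.ofNat 0, Int.negSucc 1, Int.ofNat 0, Int.ofNat 2, Int.ofNat 0, Int.ofNat 0, Int.negSucc 1, Int.ofNat 0, Int.ofNat 0, Int.negSucc 1, Int.ofNat 0, Int.ofNat 0, Int.ofNat 0, Int.ofNat 0, Int.ofNat 2, Int.ofNat 0, Int.ofNat 0, Int.ofNat 0, Int.ofNat 0, Int.negSucc 1],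
  [Int.ofNat 0, Int.ofNat 2, Int.negSucc 1, Int.ofNat 0, Int.ofNat 0, Int.ofNat 2, Int.ofNat 0, Int.ofNat 2, Int.ofNat 0, Int.ofNat 0, Int.ofNat 2, Int.ofNat 0, Int.ofNat 0, Int.negSucc 1, Int.ofNat 0, Int.ofNat 0, Int.ofNat 0, Int.ofNat 0, Int.negSucc 1, Int.ofNat 0, Int.ofNat 0, Int.ofNat 0, Int.ofNat 0, Int.negSucc 1],
  [Int.ofNat 0, Int.ofNat 0, Int.ofNat 0, Int.ofNat 0, Int.ofNat 0, Int.ofNat 0, Int.negSucc 1, Int.ofNat 0, Int.ofNat 2, Int.ofNat 2, Int.ofNat 0, Int.ofNat 0, Int.ofNat 0, Int.negSucc 1, Int.ofNat 0, Int.ofNat 0, Int.ofNat 0, Int.negSucc 1, Int.ofNat 0, Int.ofNat 2, Int.ofNat 0, Int.ofNat 2, Int.ofNat 0, Int.negSucc 1],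
  [Int.ofNat 0, Int.ofNat 0, Int.ofNat 0, Int.ofNat 0, Int.ofNat 0, Int.ofNat 0, Int.ofNat 2, Int.ofNat 0, Int.ofNat 2, Int.negSucc 1, Int.ofNat 0, Int.ofNat 0, Int.ofNat 0, Int.negSucc 1, Int.ofNat 0, Int.ofNat 0, Int.ofNat 0, Int.negSucc 1, Int.ofNat 0, Int.ofNat 2, Int.ofNat 0, Int.ofNat 2, Int.ofNat 0, Int.negSucc 1],
  [Int.negSucc 0, Int.negSucc 0, Int.negSucc 0, Int.ofNat 1, Int.ofNat 1, Int.ofNat 1, Int.negSucc 0, Int.negSucc 2, Int.ofNat 1, Int.negSucc 0, Int.ofNat 1, Int.negSucc 0, Int.negSucc 0, Int.negSucc 0, Int.ofNat 1, Int.ofNat 1, Int.ofNat 1, Int.negSucc 0, Int.negSucc 0, Int.negSucc 0, Int.ofNat 1, Int.negSucc 0, Int.ofNat 1, Int.ofNat 1],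
  [Int.negSucc 0, Int.negSucc 0, Int.negSucc 0, Int.ofNat 1, Int.negSucc 0, Int.negSucc 0, Int.negSucc 0, Int.ofNat 1, Int.ofNat 1, Int.negSucc 0, Int.negSucc 2, Int.negSucc 0, Int.ofNat 1, Int.negSucc 0, Int.negSucc 0, Int.ofNat 1, Int.negSucc 0, Int.negSucc 0, Int.ofNat 1, Int.ofNat 1, Int.ofNat 1, Int.ofNat 1, Int.ofNat 1, Int.ofNat 1],
  [Int.ofNat 0, Int.ofNat 0, Int.ofNat 0, Int.ofNat 2, Int.ofNat 0, Int.ofNat 0, Int.negSucc 1, Int.ofNat 0, Int.ofNat 0, Int.ofNat 0, Int.negSucc 1, Int.negSucc 1, Int.ofNat 0, Int.ofNat 0, Int.ofNat 0, Int.ofNat 2, Int.ofNat 0, Int.ofNat 0, Int.ofNat 0, Int.ofNat 0, Int.ofNat 2, Int.ofNat 0, Int.ofNat 2, Int.negSucc 1],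
  [Int.ofNat 2, Int.ofNat 0, Int.ofNat 2, Int.ofNat 0, Int.ofNat 0, Int.ofNat 0, Int.ofNat 2, Int.ofNat 0, Int.ofNat 0, Int.negSucc 1, Int.ofNat 0, Int.ofNat 0, Int.ofNat 0, Int.negSucc 1, Int.negSucc 1, Int.ofNat 0, Int.ofNat 0, Int.ofNat 0, Int.ofNat 2, Int.ofNat 0, Int.ofNat 0, Int.ofNat 0, Int.ofNat 0, Int.negSucc 1],
  [Int.negSucc 0, Int.ofNat 1, Int.negSucc 0, Int.ofNat 1, Int.ofNat 1, Int.ofNat 1, Int.ofNat 1, Int.negSucc 0, Int.negSucc 0, Int.negSucc 0, Int.ofNat 1, Int.negSucc 0, Int.negSucc 0, Int.negSucc 0, Int.negSucc 0, Int.ofNat 1, Int.ofNat 1, Int.ofNat 1, Int.ofNat 1, Int.negSucc 0, Int.ofNat 1, Int.negSucc 0, Int.ofNat 1, Int.ofNat 3],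
  [Int.ofNat 1, Int.negSucc 0, Int.ofNat 1, Int.ofNat 1, Int.ofNat 1, Int.ofNat 1, Int.negSucc 0, Int.negSucc 0, Int.negSucc 0, Int.ofNat 1, Int.negSucc 0, Int.negSucc 0, Int.negSucc 0, Int.negSucc 0, Int.ofNat 1, Int.ofNat 1, Int.ofNat 1, Int.ofNat 1, Int.negSucc 0, Int.ofNat 1, Int.negSucc 0, Int.ofNat 1, Int.negSucc 0, Int.ofNat 3],
  [Int.negSucc 0, Int.negSucc 0, Int.negSucc 0, Int.ofNat 1, Int.ofNat 1, Int.ofNat 1, Int.negSucc 0, Int.ofNat 1, Int.negSucc 0, Int.negSucc 0, Int.ofNat 1, Int.ofNat 1, Int.negSucc 0, Int.negSucc 0, Int.ofNat 1, Int.ofNat 1, Int.ofNat 1, Int.ofNat 1, Int.ofNat 1, Int.ofNat 1, Int.negSucc 0, Int.negSucc 0, Int.negSucc 0, Int.ofNat 3],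
  [Int.negSucc 0, Int.negSucc 0, Int.ofNat 1, Int.ofNat 1, Int.negSucc 0, Int.ofNat 1, Int.ofNat 1, Int.negSucc 0, Int.negSucc 0, Int.ofNat 1, Int.negSucc 0, Int.ofNat 1, Int.negSucc 0, Int.negSucc 0, Int.ofNat 1, Int.ofNat 1, Int.negSucc 0, Int.negSucc 0, Int.negSucc 0, Int.ofNat 1, Int.ofNat 1, Int.ofNat 1, Int.ofNat 1, Int.ofNat 3],
  [Int.ofNat 1, Int.negSucc 0, Int.negSucc 0, Int.ofNat 1, Int.negSucc 0, Int.ofNat 1, Int.ofNat 1, Int.ofNat 1, Int.negSucc 0, Int.negSucc 0, Int.ofNat 1, Int.negSucc 0, Int.negSucc 0, Int.negSucc 0, Int.ofNat 1, Int.ofNat 1, Int.negSucc 0, Int.negSucc 0, Int.ofNat 1, Int.ofNat 1, Int.ofNat 1, Int.negSucc 0, Int.ofNat 1, Int.ofNat 3],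
  [Int.ofNat 1, Int.ofNat 1, Int.negSucc 0, Int.negSucc 0, Int.ofNat 1, Int.negSucc 0, Int.ofNat 1, Int.ofNat 1, Int.ofNat 1, Int.negSucc 0, Int.negSucc 0, Int.ofNat 1, Int.negSucc 0, Int.negSucc 0, Int.negSucc 0, Int.ofNat 1, Int.ofNat 1, Int.negSucc 0, Int.negSucc 0, Int.ofNat 1, Int.ofNat 1, Int.ofNat 1, Int.negSucc 0, Int.ofNat 3],
  [Int.ofNat 1, Int.ofNat 1, Int.ofNat 3, Int.ofNat 1, Int.ofNat 1, Int.ofNat 1, Int.negSucc 0, Int.negSucc 0, Int.ofNat 1, Int.negSucc 0, Int.negSucc 0, Int.ofNat 1, Int.negSucc 0, Int.negSucc 0, Int.ofNat 1, Int.ofNat 1, Int.ofNat 1, Int.ofNat 1, Int.negSucc 0, Int.negSucc 0, Int.ofNat 1, Int.negSucc 0, Int.negSucc 0, Int.negSucc 0],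
  [Int.ofNat 1, Int.ofNat 1, Int.ofNat 1, Int.negSucc 0, Int.negSucc 0, Int.ofNat 1, Int.negSucc 0, Int.negSucc 0, Int.ofNat 1, Int.negSucc 0, Int.negSucc 0, Int.ofNat 1, Int.ofNat 1, Int.ofNat 1, Int.ofNat 1, Int.negSucc 0, Int.negSucc 0, Int.ofNat 1, Int.negSucc 0, Int.negSucc 0, Int.ofNat 1, Int.ofNat 1, Int.ofNat 3, Int.negSucc 0],
  [Int.ofNat 0, Int.ofNat 0, Int.ofNat 0, Int.negSucc 1, Int.negSucc 1, Int.ofNat 0, Int.ofNat 0, Int.ofNat 0, Int.ofNat 0, Int.ofNat 0, Int.ofNat 0, Int.ofNat 0, Int.ofNat 0, Int.ofNat 0, Int.ofNat 0, Int.ofNat 0, Int.negSucc 1, Int.ofNat 0, Int.negSucc 1, Int.ofNat 0, Int.ofNat 2, Int.ofNat 2, Int.ofNat 2, Int.ofNat 2],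
  [Int.ofNat 0, Int.ofNat 0, Int.negSucc 1, Int.negSucc 1, Int.negSucc 1, Int.ofNat 0, Int.ofNat 0, Int.ofNat 0, Int.ofNat 0, Int.ofNat 0, Int.ofNat 2, Int.ofNat 0, Int.ofNat 0, Int.negSucc 1, Int.ofNat 2, Int.ofNat 0, Int.ofNat 0, Int.ofNat 0, Int.ofNat 0, Int.ofNat 0, Int.ofNat 2, Int.ofNat 0, Int.ofNat 0, Int.ofNat 2],
  [Int.ofNat 0, Int.ofNat 0, Int.ofNat 2, Int.negSucc 1, Int.ofNat 0, Int.ofNat 0, Int.ofNat 0, Int.ofNat 0, Int.ofNat 0, Int.negSucc 1, Int.ofNat 0, Int.ofNat 0, Int.ofNat 0, Int.ofNat 0, Int.ofNat 2, Int.negSucc 1, Int.ofNat 2, Int.ofNat 0, Int.ofNat 0, Int.ofNat 0, Int.ofNat 0, Int.ofNat 0, Int.ofNat 2, Int.negSucc 1],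
  [Int.ofNat 0, Int.ofNat 0, Int.negSucc 1, Int.negSucc 1, Int.ofNat 0, Int.ofNat 0, Int.ofNat 0, Int.ofNat 0, Int.ofNat 0, Int.ofNat 2, Int.ofNat 0, Int.ofNat 0, Int.ofNat 0, Int.ofNat 0, Int.ofNat 2, Int.ofNat 2, Int.ofNat 2, Int.ofNat 0, Int.ofNat 0, Int.ofNat 0, Int.ofNat 0, Int.ofNat 0, Int.negSucc 1, Int.negSucc 1],
  [Int.ofNat 0, Int.ofNat 2, Int.ofNat 0, Int.ofNat 0, Int.ofNat 2, Int.ofNat 0, Int.ofNat 0, Int.negSucc 1, Int.ofNat 0, Int.ofNat 0, Int.ofNat 0, Int.ofNat 0, Int.ofNat 2, Int.ofNat 0, Int.ofNat 0, Int.ofNat 0, Int.ofNat 0, Int.ofNat 0, Int.ofNat 2, Int.negSucc 1, Int.ofNat 0, Int.ofNat 0, Int.negSucc 1, Int.negSucc 1],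
  [Int.ofNat 0, Int.negSucc 1, Int.ofNat 0, Int.ofNat 0, Int.negSucc 1, Int.ofNat 0, Int.ofNat 0, Int.negSucc 1, Int.ofNat 0, Int.ofNat 0, Int.ofNat 0, Int.ofNat 0, Int.negSucc 1, Int.ofNat 0, Int.ofNat 0, Int.ofNat 0, Int.ofNat 0, Int.ofNat 0, Int.negSucc 1, Int.negSucc 1, Int.ofNat 0, Int.ofNat 0, Int.negSucc 1, Int.negSucc 1],
  [Int.negSucc 1, Int.negSucc 1, Int.ofNat 0, Int.ofNat 0, Int.ofNat 0, Int.ofNat 0, Int.negSucc 1, Int.ofNat 0, Int.ofNat 0, Int.ofNat 0, Int.ofNat 0, Int.ofNat 0, Int.ofNat 0, Int.negSucc 1, Int.negSucc 1, Int.ofNat 0, Int.ofNat 0, Int.negSucc 1, Int.ofNat 0, Int.ofNat 0, Int.ofNat 0, Int.negSucc 1, Int.negSucc 1, Int.ofNat 0],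
  [Int.ofNat 2, Int.negSucc 1, Int.ofNat 0, Int.ofNat 0, Int.ofNat 0, Int.ofNat 0, Int.negSucc 1, Int.ofNat 0, Int.ofNat 0, Int.ofNat 0, Int.ofNat 0, Int.ofNat 0, Int.ofNat 0, Int.negSucc 1, Int.negSucc 1, Int.ofNat 0, Int.ofNat 0, Int.negSucc 1, Int.ofNat 0, Int.ofNat 0, Int.ofNat 0, Int.ofNat 2, Int.negSucc 1, Int.ofNat 0],
  [Int.negSucc 1, Int.ofNat 2, Int.negSucc 1, Int.ofNat 0, Int.ofNat 0, Int.ofNat 0, Int.ofNat 0, Int.negSucc 1, Int.ofNat 0, Int.ofNat 0, Int.ofNat 0, Int.ofNat 0, Int.ofNat 0, Int.ofNat 0, Int.negSucc 1, Int.negSucc 1, Int.ofNat 0, Int.ofNat 0, Int.negSucc 1, Int.ofNat 0, Int.ofNat 0, Int.ofNat 0, Int.ofNat 2, Int.ofNat 0],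
  [Int.ofNat 1, Int.negSucc 2, Int.ofNat 1, Int.ofNat 1, Int.negSucc 0, Int.ofNat 1, Int.ofNat 1, Int.negSucc 0, Int.ofNat 1, Int.ofNat 1, Int.ofNat 1, Int.ofNat 1, Int.ofNat 1, Int.negSucc 0, Int.negSucc 0, Int.negSucc 0, Int.negSucc 0, Int.ofNat 1, Int.negSucc 0, Int.ofNat 1, Int.ofNat 1, Int.ofNat 1, Int.ofNat 1, Int.negSucc 0],
  [Int.ofNat 1, Int.negSucc 0, Int.ofNat 1, Int.ofNat 1, Int.negSucc 0, Int.ofNat 1, Int.ofNat 1, Int.ofNat 1, Int.ofNat 1, Int.ofNat 1, Int.negSucc 0, Int.negSucc 0, Int.negSucc 0, Int.negSucc 0, Int.ofNat 1, Int.negSucc 0, Int.ofNat 1, Int.ofNat 1, Int.ofNat 1, Int.ofNat 1, Int.ofNat 1, Int.negSucc 2, Int.ofNat 1, Int.negSucc 0],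
  [Int.negSucc 0, Int.ofNat 1, Int.negSucc 0, Int.negSucc 0, Int.negSucc 0, Int.negSucc 0, Int.ofNat 1, Int.ofNat 1, Int.ofNat 1, Int.ofNat 1, Int.negSucc 0, Int.negSucc 0, Int.negSucc 0, Int.negSucc 0, Int.negSucc 0, Int.negSucc 0, Int.ofNat 1, Int.negSucc 0, Int.ofNat 1, Int.ofNat 1, Int.ofNat 1, Int.negSucc 2, Int.ofNat 1, Int.ofNat 1],
  [Int.negSucc 0, Int.ofNat 1, Int.negSucc 0, Int.negSucc 0, Int.ofNat 1, Int.ofNat 1, Int.negSucc 0, Int.negSucc 0, Int.negSucc 0, Int.negSucc 0, Int.ofNat 1, Int.negSucc 0, Int.ofNat 1, Int.ofNat 1, Int.ofNat 1, Int.negSucc 0, Int.ofNat 1, Int.negSucc 0, Int.ofNat 1, Int.negSucc 0, Int.negSucc 2, Int.negSucc 0, Int.ofNat 1, Int.ofNat 1],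
  [Int.ofNat 1, Int.negSucc 0, Int.ofNat 1, Int.negSucc 0, Int.negSucc 0, Int.ofNat 1, Int.ofNat 1, Int.ofNat 1, Int.negSucc 0, Int.ofNat 1, Int.ofNat 3, Int.negSucc 0, Int.ofNat 1, Int.negSucc 0, Int.ofNat 1, Int.ofNat 1, Int.negSucc 0, Int.negSucc 0, Int.ofNat 1, Int.ofNat 1, Int.negSucc 0, Int.ofNat 1, Int.negSucc 0, Int.negSucc 0],
  [Int.ofNat 1, Int.negSucc 0, Int.negSucc 0, Int.negSucc 0, Int.negSucc 0, Int.negSucc 0, Int.negSucc 0, Int.ofNat 1, Int.negSucc 0, Int.negSucc 0, Int.negSucc 2, Int.negSucc 0, Int.ofNat 1, Int.negSucc 0, Int.ofNat 1, Int.negSucc 0, Int.negSucc 0, Int.negSucc 0, Int.negSucc 0, Int.ofNat 1, Int.negSucc 0, Int.ofNat 1, Int.ofNat 1, Int.negSucc 0],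
  [Int.negSucc 0, Int.negSucc 0, Int.negSucc 0, Int.negSucc 0, Int.negSucc 0, Int.negSucc 0, Int.negSucc 0, Int.ofNat 1, Int.negSucc 0, Int.negSucc 2, Int.negSucc 0, Int.negSucc 0, Int.ofNat 1, Int.negSucc 0, Int.negSucc 0, Int.ofNat 1, Int.ofNat 1, Int.negSucc 0, Int.ofNat 1, Int.negSucc 0, Int.negSucc 0, Int.ofNat 1, Int.ofNat 1, Int.negSucc 0],
  [Int.negSucc 0, Int.negSucc 0, Int.ofNat 1, Int.negSucc 0, Int.negSucc 0, Int.ofNat 1, Int.ofNat 1, Int.ofNat 1, Int.negSucc 0, Int.ofNat 3, Int.ofNat 1, Int.negSucc 0, Int.ofNat 1, Int.negSucc 0, Int.negSucc 0, Int.negSucc 0, Int.ofNat 1, Int.negSucc 0, Int.negSucc 0, Int.negSucc 0, Int.negSucc 0, Int.ofNat 1, Int.negSucc 0, Int.negSucc 0],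
  [Int.ofNat 0, Int.ofNat 0, Int.negSucc 1, Int.ofNat 0, Int.ofNat 0, Int.ofNat 2, Int.ofNat 0, Int.ofNat 0, Int.ofNat 0, Int.ofNat 2, Int.ofNat 0, Int.ofNat 0, Int.ofNat 2, Int.ofNat 0, Int.ofNat 0, Int.negSucc 1, Int.ofNat 2, Int.ofNat 0, Int.ofNat 0, Int.negSucc 1, Int.negSucc 1, Int.ofNat 0, Int.ofNat 0, Int.ofNat 0],
  [Int.ofNat 0, Int.ofNat 0, Int.ofNat 0, Int.ofNat 0, Int.negSucc 1, Int.ofNat 0, Int.ofNat 0, Int.ofNat 2, Int.ofNat 2, Int.ofNat 2, Int.ofNat 0, Int.negSucc 1, Int.ofNat 0, Int.ofNat 2, Int.ofNat 0, Int.negSucc 1, Int.ofNat 0, Int.ofNat 0, Int.ofNat 0, Int.ofNat 0, Int.ofNat 0, Int.negSucc 1, Int.ofNat 0, Int.ofNat 0],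
  [Int.ofNat 0, Int.ofNat 0, Int.ofNat 0, Int.ofNat 0, Int.negSucc 1, Int.ofNat 0, Int.ofNat 0, Int.ofNat 2, Int.ofNat 2, Int.ofNat 2, Int.ofNat 0, Int.negSucc 1, Int.ofNat 0, Int.ofNat 2, Int.ofNat 0, Int.negSucc 1, Int.ofNat 0, Int.ofNat 0, Int.ofNat 0, Int.ofNat 0, Int.ofNat 0, Int.negSucc 1, Int.ofNat 0, Int.ofNat 0],
  [Int.ofNat 0, Int.negSucc 1, Int.ofNat 0, Int.ofNat 0, Int.ofNat 0, Int.ofNat 0, Int.ofNat 0, Int.negSucc 1, Int.ofNat 0, Int.ofNat 0, Int.ofNat 2, Int.ofNat 2, Int.ofNat 2, Int.ofNat 0, Int.negSucc 1, Int.ofNat 0, Int.ofNat 2, Int.ofNat 0, Int.negSucc 1, Int.ofNat 0, Int.ofNat 0, Int.ofNat 0, Int.ofNat 0, Int.ofNat 0],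
  [Int.negSucc 0, Int.ofNat 1, Int.negSucc 0, Int.ofNat 1, Int.negSucc 0, Int.ofNat 1, Int.ofNat 1, Int.negSucc 0, Int.negSucc 0, Int.negSucc 0, Int.ofNat 1, Int.ofNat 1, Int.ofNat 1, Int.negSucc 0, Int.negSucc 0, Int.negSucc 0, Int.ofNat 1, Int.ofNat 1, Int.negSucc 2, Int.ofNat 1, Int.negSucc 0, Int.ofNat 1, Int.negSucc 0, Int.negSucc 0],
  [Int.ofNat 1, Int.negSucc 0, Int.ofNat 1, Int.negSucc 0, Int.ofNat 1, Int.ofNat 1, Int.negSucc 0, Int.negSucc 0, Int.negSucc 0, Int.ofNat 1, Int.ofNat 1, Int.ofNat 1, Int.negSucc 0, Int.negSucc 0, Int.negSucc 0, Int.ofNat 1, Int.ofNat 1, Int.negSucc 2, Int.ofNat 1, Int.negSucc 0, Int.ofNat 1, Int.negSucc 0, Int.negSucc 0, Int.negSucc 0],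
  [Int.negSucc 0, Int.negSucc 0, Int.negSucc 0, Int.negSucc 0, Int.ofNat 1, Int.ofNat 1, Int.negSucc 0, Int.ofNat 1, Int.negSucc 0, Int.negSucc 0, Int.negSucc 0, Int.negSucc 0, Int.negSucc 0, Int.negSucc 0, Int.negSucc 0, Int.ofNat 1, Int.ofNat 1, Int.negSucc 2, Int.negSucc 0, Int.negSucc 0, Int.ofNat 1, Int.ofNat 1, Int.negSucc 0, Int.negSucc 0],
  [Int.negSucc 0, Int.negSucc 0, Int.negSucc 0, Int.negSucc 0, Int.negSucc 0, Int.negSucc 0, Int.ofNat 1, Int.ofNat 1, Int.negSucc 0, Int.ofNat 1, Int.ofNat 1, Int.negSucc 0, Int.negSucc 0, Int.negSucc 0, Int.negSucc 0, Int.ofNat 1, Int.negSucc 0, Int.negSucc 0, Int.negSucc 0, Int.negSucc 2, Int.ofNat 1, Int.ofNat 1, Int.negSucc 0, Int.negSucc 0],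
  [Int.ofNat 1, Int.negSucc 0, Int.ofNat 1, Int.negSucc 0, Int.negSucc 0, Int.negSucc 0, Int.ofNat 1, Int.negSucc 0, Int.negSucc 0, Int.negSucc 0, Int.negSucc 0, Int.ofNat 1, Int.negSucc 0, Int.negSucc 0, Int.negSucc 0, Int.ofNat 1, Int.negSucc 0, Int.negSucc 0, Int.ofNat 1, Int.negSucc 2, Int.ofNat 1, Int.negSucc 0, Int.negSucc 0, Int.negSucc 0],
  [Int.negSucc 0, Int.ofNat 1, Int.negSucc 0, Int.ofNat 1, Int.negSucc 0, Int.negSucc 0, Int.negSucc 0, Int.ofNat 1, Int.negSucc 0, Int.negSucc 0, Int.negSucc 0, Int.negSucc 0, Int.ofNat 1, Int.negSucc 0, Int.negSucc 0, Int.negSucc 0, Int.ofNat 1, Int.negSucc 0, Int.negSucc 0, Int.ofNat 1, Int.negSucc 2, Int.ofNat 1, Int.negSucc 0, Int.negSucc 0],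
  [Int.ofNat 0, Int.negSucc 1, Int.ofNat 0, Int.ofNat 2, Int.ofNat 0, Int.ofNat 0, Int.negSucc 1, Int.ofNat 0, Int.ofNat 0, Int.ofNat 2, Int.ofNat 2, Int.ofNat 0, Int.ofNat 2, Int.ofNat 0, Int.ofNat 0, Int.ofNat 2, Int.ofNat 2, Int.ofNat 0, Int.ofNat 0, Int.ofNat 0, Int.ofNat 0, Int.ofNat 0, Int.ofNat 0, Int.ofNat 0],
  [Int.ofNat 2, Int.ofNat 0, Int.ofNat 0, Int.negSucc 1, Int.ofNat 0, Int.ofNat 0, Int.ofNat 2, Int.ofNat 2, Int.ofNat 0, Int.ofNat 2, Int.ofNat 0, Int.ofNat 0, Int.ofNat 2, Int.ofNat 2, Int.ofNat 0, Int.ofNat 0, Int.ofNat 0, Int.ofNat 0, Int.ofNat 0, Int.ofNat 0, Int.ofNat 0, Int.negSucc 1, Int.ofNat 0, Int.ofNat 0],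
  [Int.negSucc 0, Int.ofNat 1, Int.ofNat 1, Int.negSucc 0, Int.negSucc 0, Int.ofNat 1, Int.ofNat 1, Int.ofNat 1, Int.negSucc 0, Int.ofNat 1, Int.negSucc 0, Int.negSucc 0, Int.ofNat 1, Int.ofNat 1, Int.ofNat 1, Int.negSucc 0, Int.negSucc 0, Int.ofNat 1, Int.negSucc 0, Int.negSucc 0, Int.negSucc 0, Int.negSucc 2, Int.negSucc 0, Int.ofNat 1],
  [Int.negSucc 0, Int.ofNat 1, Int.negSucc 0, Int.negSucc 0, Int.negSucc 0, Int.ofNat 1, Int.ofNat 1, Int.negSucc 0, Int.ofNat 1, Int.ofNat 1, Int.negSucc 0, Int.ofNat 1, Int.ofNat 1, Int.negSucc 0, Int.negSucc 0, Int.negSucc 0, Int.negSucc 0, Int.ofNat 1, Int.ofNat 1, Int.negSucc 0, Int.negSucc 2, Int.ofNat 1, Int.negSucc 0, Int.ofNat 1],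
  [Int.ofNat 1, Int.negSucc 0, Int.ofNat 1, Int.negSucc 0, Int.ofNat 1, Int.ofNat 1, Int.ofNat 1, Int.negSucc 0, Int.negSucc 0, Int.ofNat 3, Int.ofNat 1, Int.negSucc 0, Int.negSucc 0, Int.ofNat 1, Int.negSucc 0, Int.ofNat 1, Int.ofNat 1, Int.ofNat 1, Int.negSucc 0, Int.negSucc 0, Int.negSucc 0, Int.ofNat 1, Int.ofNat 1, Int.negSucc 0],
  [Int.ofNat 1, Int.negSucc 0, Int.negSucc 0, Int.negSucc 0, Int.ofNat 1, Int.negSucc 0, Int.negSucc 0, Int.negSucc 0, Int.negSucc 0, Int.negSucc 2, Int.negSucc 0, Int.negSucc 0, Int.negSucc 0, Int.ofNat 1, Int.negSucc 0, Int.negSucc 0, Int.ofNat 1, Int.ofNat 1, Int.ofNat 1, Int.negSucc 0, Int.negSucc 0, Int.ofNat 1, Int.negSucc 0, Int.negSucc 0],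
  [Int.negSucc 0, Int.ofNat 1, Int.negSucc 0, Int.negSucc 0, Int.negSucc 0, Int.negSucc 0, Int.ofNat 1, Int.negSucc 0, Int.negSucc 0, Int.negSucc 0, Int.ofNat 1, Int.negSucc 0, Int.negSucc 0, Int.ofNat 1, Int.ofNat 1, Int.ofNat 1, Int.negSucc 0, Int.negSucc 0, Int.negSucc 2, Int.negSucc 0, Int.ofNat 1, Int.negSucc 0, Int.negSucc 0, Int.negSucc 0],
  [Int.ofNat 1, Int.negSucc 0, Int.ofNat 1, Int.ofNat 1, Int.ofNat 1, Int.negSucc 0, Int.negSucc 0, Int.negSucc 0, Int.ofNat 1, Int.ofNat 1, Int.ofNat 1, Int.negSucc 0, Int.ofNat 1, Int.negSucc 0, Int.ofNat 1, Int.ofNat 1, Int.ofNat 1, Int.negSucc 0, Int.ofNat 3, Int.negSucc 0, Int.ofNat 1, Int.negSucc 0, Int.negSucc 0, Int.negSucc 0],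
  [Int.negSucc 0, Int.negSucc 0, Int.negSucc 0, Int.ofNat 1, Int.negSucc 0, Int.ofNat 1, Int.negSucc 0, Int.negSucc 0, Int.ofNat 1, Int.negSucc 0, Int.ofNat 1, Int.ofNat 1, Int.negSucc 0, Int.negSucc 0, Int.ofNat 3, Int.ofNat 1, Int.ofNat 1, Int.ofNat 1, Int.ofNat 1, Int.negSucc 0, Int.ofNat 1, Int.ofNat 1, Int.negSucc 0, Int.ofNat 1],
  [Int.ofNat 1, Int.negSucc 0, Int.ofNat 1, Int.ofNat 1, Int.negSucc 0, Int.ofNat 1, Int.negSucc 0, Int.ofNat 1, Int.ofNat 1, Int.ofNat 1, Int.negSucc 0, Int.negSucc 0, Int.negSucc 0, Int.negSucc 0, Int.ofNat 3, Int.ofNat 1, Int.ofNat 1, Int.ofNat 1, Int.negSucc 0, Int.negSucc 0, Int.ofNat 1, Int.negSucc 0, Int.negSucc 0, Int.ofNat 1],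
  [Int.negSucc 0, Int.ofNat 1, Int.negSucc 0, Int.ofNat 1, Int.ofNat 1, Int.negSucc 0, Int.ofNat 1, Int.negSucc 0, Int.ofNat 1, Int.ofNat 1, Int.ofNat 1, Int.negSucc 0, Int.negSucc 0, Int.negSucc 0, Int.negSucc 0, Int.ofNat 3, Int.ofNat 1, Int.ofNat 1, Int.ofNat 1, Int.negSucc 0, Int.negSucc 0, Int.ofNat 1, Int.negSucc 0, Int.ofNat 1],
  [Int.ofNat 1, Int.negSucc 0, Int.ofNat 1, Int.ofNat 1, Int.ofNat 1, Int.negSucc 0, Int.ofNat 1, Int.negSucc 0, Int.ofNat 1, Int.negSucc 0, Int.negSucc 0, Int.negSucc 0, Int.negSucc 0, Int.negSucc 0, Int.negSucc 0, Int.ofNat 1, Int.ofNat 1, Int.ofNat 1, Int.ofNat 1, Int.negSucc 0, Int.negSucc 2, Int.ofNat 1, Int.negSucc 0, Int.negSucc 0],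
  [Int.ofNat 1, Int.ofNat 1, Int.negSucc 0, Int.ofNat 1, Int.negSucc 0, Int.ofNat 1, Int.negSucc 0, Int.negSucc 0, Int.negSucc 0, Int.negSucc 0, Int.negSucc 0, Int.negSucc 0, Int.ofNat 1, Int.ofNat 1, Int.ofNat 1, Int.ofNat 1, Int.negSucc 0, Int.negSucc 2, Int.ofNat 1, Int.negSucc 0, Int.ofNat 1, Int.negSucc 0, Int.ofNat 1, Int.negSucc 0],
  [Int.negSucc 0, Int.negSucc 0, Int.ofNat 1, Int.ofNat 1, Int.negSucc 0, Int.ofNat 1, Int.ofNat 1, Int.ofNat 1, Int.negSucc 0, Int.negSucc 0, Int.negSucc 0, Int.negSucc 0, Int.ofNat 1, Int.ofNat 1, Int.ofNat 1, Int.ofNat 1, Int.negSucc 0, Int.negSucc 2, Int.ofNat 1, Int.ofNat 1, Int.ofNat 1, Int.ofNat 1, Int.ofNat 1, Int.ofNat 1],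
  [Int.negSucc 0, Int.ofNat 1, Int.negSucc 0, Int.ofNat 1, Int.ofNat 1, Int.ofNat 1, Int.ofNat 1, Int.negSucc 0, Int.ofNat 1, Int.ofNat 1, Int.ofNat 1, Int.negSucc 2, Int.negSucc 0, Int.negSucc 0, Int.ofNat 1, Int.ofNat 1, Int.negSucc 0, Int.ofNat 1, Int.negSucc 0, Int.negSucc 0, Int.ofNat 1, Int.ofNat 1, Int.ofNat 1, Int.ofNat 1],
  [Int.ofNat 1, Int.negSucc 0, Int.ofNat 1, Int.negSucc 0, Int.ofNat 1, Int.negSucc 0, Int.ofNat 1, Int.negSucc 0, Int.ofNat 3, Int.negSucc 0, Int.negSucc 0, Int.negSucc 0, Int.ofNat 1, Int.negSucc 0, Int.negSucc 0, Int.negSucc 0, Int.negSucc 0, Int.negSucc 0, Int.ofNat 1, Int.negSucc 0, Int.negSucc 0, Int.ofNat 1, Int.ofNat 1, Int.negSucc 0],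
  [Int.ofNat 1, Int.negSucc 0, Int.negSucc 0, Int.negSucc 0, Int.ofNat 1, Int.ofNat 1, Int.negSucc 0, Int.negSucc 0, Int.ofNat 3, Int.ofNat 1, Int.ofNat 1, Int.negSucc 0, Int.ofNat 1, Int.negSucc 0, Int.negSucc 0, Int.ofNat 1, Int.negSucc 0, Int.negSucc 0, Int.negSucc 0, Int.negSucc 0, Int.negSucc 0, Int.ofNat 1, Int.negSucc 0, Int.negSucc 0],
  [Int.negSucc 0, Int.ofNat 3, Int.negSucc 0, Int.ofNat 1, Int.ofNat 1, Int.ofNat 1, Int.negSucc 0, Int.negSucc 0, Int.ofNat 1, Int.ofNat 1, Int.negSucc 0, Int.negSucc 0, Int.negSucc 0, Int.negSucc 0, Int.negSucc 0, Int.ofNat 1, Int.ofNat 1, Int.negSucc 0, Int.ofNat 1, Int.negSucc 0, Int.negSucc 0, Int.negSucc 0, Int.negSucc 0, Int.negSucc 0],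
  [Int.negSucc 0, Int.ofNat 3, Int.ofNat 1, Int.ofNat 1, Int.ofNat 1, Int.negSucc 0, Int.ofNat 1, Int.negSucc 0, Int.ofNat 1, Int.negSucc 0, Int.ofNat 1, Int.negSucc 0, Int.negSucc 0, Int.negSucc 0, Int.negSucc 0, Int.negSucc 0, Int.ofNat 1, Int.negSucc 0, Int.negSucc 0, Int.negSucc 0, Int.negSucc 0, Int.negSucc 0, Int.ofNat 1, Int.negSucc 0],
  [Int.ofNat 2, Int.negSucc 1, Int.ofNat 0, Int.ofNat 2, Int.ofNat 0, Int.ofNat 0, Int.ofNat 2, Int.ofNat 0, Int.ofNat 2, Int.ofNat 0, Int.ofNat 2, Int.ofNat 0, Int.ofNat 0, Int.negSucc 1, Int.ofNat 0, Int.ofNat 0, Int.ofNat 0, Int.ofNat 0, Int.ofNat 0, Int.ofNat 0, Int.ofNat 0, Int.ofNat 0, Int.ofNat 0, Int.ofNat 2],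
  [Int.ofNat 2, Int.ofNat 0, Int.ofNat 2, Int.ofNat 2, Int.ofNat 0, Int.ofNat 0, Int.negSucc 1, Int.ofNat 0, Int.ofNat 0, Int.ofNat 0, Int.ofNat 0, Int.ofNat 0, Int.ofNat 2, Int.ofNat 0, Int.ofNat 0, Int.ofNat 0, Int.negSucc 1, Int.ofNat 0, Int.ofNat 0, Int.ofNat 0, Int.ofNat 2, Int.ofNat 0, Int.ofNat 0, Int.ofNat 2],
  [Int.ofNat 1, Int.ofNat 3, Int.ofNat 1, Int.ofNat 1, Int.ofNat 1, Int.negSucc 0, Int.negSucc 0, Int.ofNat 1, Int.negSucc 0, Int.negSucc 0, Int.negSucc 0, Int.negSucc 0, Int.ofNat 1, Int.ofNat 1, Int.negSucc 0, Int.negSucc 0, Int.negSucc 0, Int.negSucc 0, Int.negSucc 0, Int.ofNat 1, Int.ofNat 1, Int.ofNat 1, Int.ofNat 1, Int.ofNat 1],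
  [Int.ofNat 1, Int.ofNat 1, Int.ofNat 1, Int.ofNat 1, Int.ofNat 3, Int.ofNat 1, Int.ofNat 1, Int.ofNat 1, Int.negSucc 0, Int.negSucc 0, Int.ofNat 1, Int.negSucc 0, Int.negSucc 0, Int.negSucc 0, Int.negSucc 0, Int.ofNat 1, Int.ofNat 1, Int.negSucc 0, Int.negSucc 0, Int.negSucc 0, Int.negSucc 0, Int.negSucc 0, Int.ofNat 1, Int.ofNat 1],
  [Int.ofNat 1, Int.ofNat 1, Int.ofNat 1, Int.ofNat 1, Int.ofNat 1, Int.ofNat 1, Int.ofNat 1, Int.ofNat 1, Int.ofNat 1, Int.negSucc 0, Int.ofNat 1, Int.ofNat 1, Int.ofNat 1, Int.negSucc 2, Int.negSucc 0, Int.ofNat 1, Int.negSucc 0, Int.negSucc 0, Int.ofNat 1, Int.negSucc 0, Int.negSucc 0, Int.negSucc 0, Int.negSucc 0, Int.ofNat 1],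
  [Int.ofNat 1, Int.ofNat 1, Int.ofNat 1, Int.ofNat 1, Int.ofNat 1, Int.ofNat 1, Int.ofNat 1, Int.ofNat 1, Int.negSucc 0, Int.ofNat 1, Int.ofNat 1, Int.ofNat 1, Int.negSucc 2, Int.negSucc 0, Int.ofNat 1, Int.negSucc 0, Int.negSucc 0, Int.ofNat 1, Int.negSucc 0, Int.negSucc 0, Int.negSucc 0, Int.negSucc 0, Int.ofNat 1, Int.ofNat 1],
  [Int.negSucc 0, Int.ofNat 1, Int.negSucc 0, Int.ofNat 1, Int.ofNat 1, Int.ofNat 1, Int.ofNat 1, Int.negSucc 0, Int.negSucc 0, Int.negSucc 0, Int.negSucc 0, Int.negSucc 0, Int.negSucc 2, Int.negSucc 0, Int.ofNat 1, Int.negSucc 0, Int.negSucc 0, Int.ofNat 1, Int.ofNat 1, Int.negSucc 0, Int.negSucc 0, Int.ofNat 1, Int.ofNat 1, Int.ofNat 1],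
  [Int.negSucc 0, Int.negSucc 0, Int.ofNat 1, Int.ofNat 1, Int.ofNat 1, Int.negSucc 0, Int.ofNat 1, Int.negSucc 0, Int.negSucc 0, Int.negSucc 0, Int.ofNat 1, Int.ofNat 1, Int.negSucc 0, Int.negSucc 0, Int.negSucc 0, Int.negSucc 0, Int.negSucc 2, Int.ofNat 1, Int.ofNat 1, Int.ofNat 1, Int.ofNat 1, Int.negSucc 0, Int.negSucc 0, Int.ofNat 1],
  [Int.ofNat 1, Int.negSucc 0, Int.negSucc 0, Int.ofNat 1, Int.ofNat 1, Int.negSucc 0, Int.ofNat 1, Int.ofNat 1, Int.negSucc 0, Int.ofNat 1, Int.negSucc 0, Int.negSucc 0, Int.negSucc 0, Int.negSucc 0, Int.negSucc 0, Int.negSucc 0, Int.negSucc 2, Int.ofNat 1, Int.negSucc 0, Int.ofNat 1, Int.ofNat 1, Int.ofNat 1, Int.negSucc 0, Int.ofNat 1],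
  [Int.negSucc 0, Int.ofNat 1, Int.negSucc 0, Int.negSucc 0, Int.ofNat 1, Int.ofNat 1, Int.negSucc 0, Int.ofNat 1, Int.ofNat 1, Int.negSucc 0, Int.ofNat 1, Int.negSucc 0, Int.negSucc 0, Int.negSucc 0, Int.negSucc 0, Int.negSucc 0, Int.negSucc 0, Int.negSucc 2, Int.ofNat 1, Int.negSucc 0, Int.ofNat 1, Int.ofNat 1, Int.ofNat 1, Int.ofNat 1],
  [Int.ofNat 1, Int.negSucc 0, Int.ofNat 1, Int.ofNat 1, Int.ofNat 1, Int.ofNat 3, Int.negSucc 0, Int.ofNat 1, Int.ofNat 1, Int.negSucc 0, Int.ofNat 1, Int.negSucc 0, Int.negSucc 0, Int.negSucc 0, Int.ofNat 1, Int.negSucc 0, Int.negSucc 0, Int.negSucc 0, Int.ofNat 1, Int.negSucc 0, Int.ofNat 1, Int.ofNat 1, Int.ofNat 1, Int.negSucc 0],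
  [Int.ofNat 1, Int.ofNat 1, Int.ofNat 3, Int.negSucc 0, Int.ofNat 1, Int.ofNat 1, Int.negSucc 0, Int.ofNat 1, Int.negSucc 0, Int.negSucc 0, Int.negSucc 0, Int.ofNat 1, Int.negSucc 0, Int.negSucc 0, Int.negSucc 0, Int.ofNat 1, Int.negSucc 0, Int.ofNat 1, Int.ofNat 1, Int.ofNat 1, Int.ofNat 1, Int.negSucc 0, Int.ofNat 1, Int.negSucc 0],
  [Int.ofNat 1, Int.ofNat 1, Int.negSucc 0, Int.negSucc 0, Int.ofNat 1, Int.ofNat 1, Int.negSucc 0, Int.ofNat 1, Int.negSucc 0, Int.negSucc 0, Int.negSucc 0, Int.ofNat 1, Int.negSucc 0, Int.negSucc 0, Int.negSucc 0, Int.ofNat 1, Int.negSucc 0, Int.ofNat 1, Int.ofNat 1, Int.ofNat 1, Int.ofNat 1, Int.negSucc 0, Int.ofNat 1, Int.ofNat 3],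
  [Int.ofNat 1, Int.negSucc 0, Int.ofNat 1, Int.negSucc 0, Int.ofNat 1, Int.ofNat 1, Int.negSucc 0, Int.negSucc 0, Int.negSucc 0, Int.negSucc 0, Int.ofNat 1, Int.ofNat 1, Int.negSucc 0, Int.negSucc 0, Int.ofNat 1, Int.ofNat 1, Int.negSucc 0, Int.negSucc 0, Int.ofNat 1, Int.ofNat 1, Int.negSucc 0, Int.ofNat 1, Int.ofNat 1, Int.ofNat 3],
  [Int.ofNat 1, Int.ofNat 3, Int.ofNat 1, Int.negSucc 0, Int.ofNat 1, Int.ofNat 1, Int.negSucc 0, Int.negSucc 0, Int.negSucc 0, Int.negSucc 0, Int.ofNat 1, Int.ofNat 1, Int.negSucc 0, Int.negSucc 0, Int.ofNat 1, Int.ofNat 1, Int.negSucc 0, Int.negSucc 0, Int.ofNat 1, Int.ofNat 1, Int.negSucc 0, Int.ofNat 1, Int.ofNat 1, Int.negSucc 0],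
  [Int.ofNat 1, Int.ofNat 3, Int.negSucc 0, Int.negSucc 0, Int.ofNat 1, Int.negSucc 0, Int.ofNat 1, Int.negSucc 0, Int.negSucc 0, Int.ofNat 1, Int.negSucc 0, Int.ofNat 1, Int.negSucc 0, Int.negSucc 0, Int.ofNat 1, Int.negSucc 0, Int.negSucc 0, Int.negSucc 0, Int.negSucc 0, Int.ofNat 1, Int.negSucc 0, Int.ofNat 1, Int.negSucc 0, Int.negSucc 0],
  [Int.negSucc 0, Int.negSucc 0, Int.ofNat 1, Int.negSucc 0, Int.ofNat 1, Int.ofNat 1, Int.ofNat 1, Int.negSucc 0, Int.negSucc 0, Int.negSucc 0, Int.negSucc 0, Int.negSucc 0, Int.negSucc 0, Int.ofNat 1, Int.negSucc 0, Int.negSucc 0, Int.ofNat 1, Int.negSucc 0, Int.ofNat 1, Int.negSucc 0, Int.ofNat 1, Int.ofNat 3, Int.negSucc 0, Int.negSucc 0],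
  [Int.ofNat 1, Int.ofNat 1, Int.negSucc 0, Int.ofNat 1, Int.negSucc 0, Int.ofNat 1, Int.negSucc 0, Int.negSucc 0, Int.ofNat 1, Int.ofNat 1, Int.negSucc 0, Int.negSucc 0, Int.ofNat 1, Int.negSucc 0, Int.negSucc 0, Int.negSucc 0, Int.negSucc 0, Int.negSucc 0, Int.negSucc 0, Int.negSucc 0, Int.ofNat 1, Int.ofNat 3, Int.negSucc 0, Int.negSucc 0],
  [Int.negSucc 0, Int.negSucc 0, Int.negSucc 0, Int.negSucc 0, Int.negSucc 0, Int.ofNat 1, Int.negSucc 0, Int.negSucc 0, Int.ofNat 1, Int.ofNat 1, Int.negSucc 0, Int.negSucc 0, Int.ofNat 3, Int.negSucc 0, Int.negSucc 0, Int.ofNat 1, Int.negSucc 0, Int.negSucc 0, Int.negSucc 0, Int.negSucc 0, Int.ofNat 1, Int.ofNat 1, Int.ofNat 1, Int.ofNat 1],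
  [Int.ofNat 1, Int.negSucc 0, Int.ofNat 1, Int.negSucc 0, Int.negSucc 0, Int.ofNat 1, Int.negSucc 0, Int.ofNat 1, Int.ofNat 1, Int.negSucc 0, Int.ofNat 1, Int.ofNat 1, Int.ofNat 3, Int.negSucc 0, Int.negSucc 0, Int.ofNat 1, Int.negSucc 0, Int.negSucc 0, Int.ofNat 1, Int.negSucc 0, Int.ofNat 1, Int.negSucc 0, Int.ofNat 1, Int.ofNat 1],
  [Int.ofNat 1, Int.ofNat 1, Int.negSucc 0, Int.ofNat 1, Int.negSucc 0, Int.negSucc 0, Int.ofNat 1, Int.negSucc 0, Int.ofNat 1, Int.ofNat 1, Int.negSucc 0, Int.ofNat 1, Int.ofNat 1, Int.ofNat 3, Int.negSucc 0, Int.negSucc 0, Int.ofNat 1, Int.negSucc 0, Int.negSucc 0, Int.ofNat 1, Int.negSucc 0, Int.ofNat 1, Int.negSucc 0, Int.ofNat 1],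
  [Int.ofNat 0, Int.ofNat 0, Int.ofNat 2, Int.ofNat 2, Int.negSucc 1, Int.ofNat 0, Int.ofNat 0, Int.negSucc 1, Int.ofNat 0, Int.ofNat 2, Int.ofNat 0, Int.ofNat 0, Int.ofNat 0, Int.ofNat 2, Int.ofNat 0, Int.ofNat 0, Int.ofNat 0, Int.ofNat 0, Int.negSucc 1, Int.ofNat 0, Int.ofNat 0, Int.ofNat 0, Int.negSucc 1, Int.ofNat 0],
  [Int.ofNat 2, Int.negSucc 1, Int.ofNat 0, Int.ofNat 0, Int.negSucc 1, Int.ofNat 0, Int.ofNat 2, Int.ofNat 0, Int.ofNat 0, Int.ofNat 0, Int.ofNat 2, Int.ofNat 0, Int.ofNat 0, Int.ofNat 0, Int.ofNat 0, Int.negSucc 1, Int.ofNat 0, Int.ofNat 0, Int.ofNat 0, Int.negSucc 1, Int.ofNat 0, Int.ofNat 0, Int.ofNat 2, Int.ofNat 0],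
  [Int.negSucc 1, Int.ofNat 2, Int.ofNat 0, Int.ofNat 0, Int.negSucc 1, Int.ofNat 0, Int.ofNat 2, Int.ofNat 0, Int.ofNat 0, Int.ofNat 0, Int.ofNat 2, Int.ofNat 0, Int.ofNat 0, Int.ofNat 0, Int.ofNat 0, Int.negSucc 1, Int.ofNat 0, Int.ofNat 0, Int.ofNat 0, Int.negSucc 1, Int.ofNat 0, Int.ofNat 0, Int.ofNat 2, Int.ofNat 0],
  [Int.negSucc 1, Int.ofNat 2, Int.negSucc 1, Int.ofNat 0, Int.ofNat 0, Int.ofNat 0, Int.ofNat 0, Int.ofNat 2, Int.ofNat 0, Int.ofNat 0, Int.ofNat 0, Int.ofNat 0, Int.ofNat 0, Int.ofNat 0, Int.ofNat 2, Int.negSucc 1, Int.ofNat 0, Int.ofNat 0, Int.ofNat 2, Int.ofNat 0, Int.ofNat 0, Int.ofNat 0, Int.negSucc 1, Int.ofNat 0],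
  [Int.ofNat 1, Int.negSucc 2, Int.ofNat 1, Int.negSucc 0, Int.ofNat 1, Int.negSucc 0, Int.negSucc 0, Int.ofNat 1, Int.negSucc 0, Int.ofNat 1, Int.ofNat 1, Int.negSucc 0, Int.negSucc 0, Int.ofNat 1, Int.ofNat 1, Int.negSucc 0, Int.ofNat 1, Int.negSucc 0, Int.ofNat 1, Int.negSucc 0, Int.ofNat 1, Int.negSucc 0, Int.negSucc 0, Int.negSucc 0],
  [Int.ofNat 1, Int.negSucc 2, Int.negSucc 0, Int.negSucc 0, Int.ofNat 1, Int.ofNat 1, Int.ofNat 1, Int.ofNat 1, Int.negSucc 0, Int.negSucc 0, Int.negSucc 0, Int.negSucc 0, Int.negSucc 0, Int.ofNat 1, Int.ofNat 1, Int.ofNat 1, Int.ofNat 1, Int.negSucc 0, Int.negSucc 0, Int.negSucc 0, Int.ofNat 1, Int.negSucc 0, Int.ofNat 1, Int.negSucc 0],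
  [Int.negSucc 0, Int.negSucc 0, Int.ofNat 1, Int.ofNat 1, Int.negSucc 0, Int.ofNat 1, Int.ofNat 1, Int.negSucc 0, Int.ofNat 1, Int.negSucc 0, Int.ofNat 1, Int.negSucc 0, Int.ofNat 1, Int.negSucc 0, Int.ofNat 1, Int.negSucc 0, Int.negSucc 0, Int.negSucc 0, Int.ofNat 1, Int.negSucc 2, Int.negSucc 0, Int.ofNat 1, Int.ofNat 1, Int.negSucc 0],
  [Int.negSucc 0, Int.negSucc 0, Int.negSucc 0, Int.ofNat 1, Int.negSucc 0, Int.negSucc 0, Int.negSucc 0, Int.negSucc 0, Int.ofNat 1, Int.ofNat 1, Int.negSucc 0, Int.negSucc 0, Int.ofNat 1, Int.negSucc 0, Int.ofNat 1, Int.ofNat 1, Int.negSucc 0, Int.negSucc 0, Int.negSucc 0, Int.negSucc 2, Int.negSucc 0, Int.ofNat 1, Int.negSucc 0, Int.negSucc 0],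
  [Int.negSucc 0, Int.negSucc 0, Int.negSucc 0, Int.ofNat 1, Int.ofNat 1, Int.negSucc 0, Int.ofNat 1, Int.ofNat 1, Int.ofNat 1, Int.ofNat 1, Int.negSucc 0, Int.negSucc 0, Int.ofNat 1, Int.ofNat 1, Int.ofNat 1, Int.ofNat 1, Int.ofNat 1, Int.negSucc 0, Int.negSucc 0, Int.negSucc 0, Int.negSucc 0, Int.ofNat 3, Int.ofNat 1, Int.negSucc 0],
  [Int.negSucc 0, Int.negSucc 0, Int.ofNat 1, Int.ofNat 1, Int.negSucc 0, Int.ofNat 3, Int.negSucc 0, Int.negSucc 0, Int.ofNat 1, Int.ofNat 1, Int.ofNat 1, Int.negSucc 0, Int.ofNat 1, Int.ofNat 1, Int.negSucc 0, Int.ofNat 1, Int.ofNat 1, Int.negSucc 0, Int.ofNat 1, Int.ofNat 1, Int.negSucc 0, Int.negSucc 0, Int.ofNat 1, Int.negSucc 0],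
  [Int.ofNat 0, Int.ofNat 0, Int.negSucc 1, Int.ofNat 0, Int.negSucc 1, Int.ofNat 2, Int.ofNat 0, Int.ofNat 0, Int.ofNat 0, Int.ofNat 0, Int.ofNat 0, Int.negSucc 1, Int.ofNat 0, Int.ofNat 0, Int.negSucc 1, Int.ofNat 0, Int.ofNat 0, Int.negSucc 1, Int.ofNat 0, Int.ofNat 2, Int.negSucc 1, Int.ofNat 0, Int.ofNat 0, Int.ofNat 0],
  [Int.negSucc 1, Int.ofNat 0, Int.ofNat 0, Int.ofNat 0, Int.ofNat 0, Int.negSucc 1, Int.ofNat 0, Int.negSucc 1, Int.ofNat 2, Int.ofNat 0, Int.ofNat 0, Int.ofNat 0, Int.ofNat 0, Int.ofNat 0, Int.negSucc 1, Int.ofNat 0, Int.ofNat 0, Int.negSucc 1, Int.ofNat 0, Int.ofNat 0, Int.negSucc 1, Int.ofNat 0, Int.ofNat 2, Int.ofNat 0],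
  [Int.ofNat 1, Int.negSucc 0, Int.negSucc 0, Int.ofNat 3, Int.negSucc 0, Int.ofNat 1, Int.ofNat 1, Int.negSucc 0, Int.ofNat 1, Int.ofNat 1, Int.ofNat 1, Int.negSucc 0, Int.negSucc 0, Int.negSucc 0, Int.ofNat 1, Int.ofNat 1, Int.negSucc 0, Int.ofNat 1, Int.negSucc 0, Int.ofNat 1, Int.negSucc 0, Int.ofNat 1, Int.ofNat 1, Int.negSucc 0],
  [Int.negSucc 0, Int.negSucc 0, Int.ofNat 3, Int.negSucc 0, Int.ofNat 1, Int.ofNat 1, Int.negSucc 0, Int.ofNat 1, Int.ofNat 1, Int.ofNat 1, Int.negSucc 0, Int.negSucc 0, Int.negSucc 0, Int.ofNat 1, Int.ofNat 1, Int.negSucc 0, Int.ofNat 1, Int.negSucc 0, Int.ofNat 1, Int.negSucc 0, Int.ofNat 1, Int.ofNat 1, Int.ofNat 1, Int.negSucc 0],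
  [Int.ofNat 1, Int.negSucc 0, Int.negSucc 2, Int.negSucc 0, Int.ofNat 1, Int.ofNat 1, Int.negSucc 0, Int.negSucc 0, Int.ofNat 1, Int.negSucc 0, Int.ofNat 1, Int.ofNat 1, Int.negSucc 0, Int.ofNat 1, Int.ofNat 1, Int.negSucc 0, Int.ofNat 1, Int.negSucc 0, Int.negSucc 0, Int.negSucc 0, Int.ofNat 1, Int.negSucc 0, Int.ofNat 1, Int.negSucc 0],
  [Int.ofNat 1, Int.negSucc 2, Int.negSucc 0, Int.negSucc 0, Int.negSucc 0, Int.ofNat 1, Int.ofNat 1, Int.ofNat 1, Int.negSucc 0, Int.ofNat 1, Int.negSucc 0, Int.ofNat 1, Int.ofNat 1, Int.ofNat 1, Int.negSucc 0, Int.negSucc 0, Int.negSucc 0, Int.ofNat 1, Int.negSucc 0, Int.negSucc 0, Int.ofNat 1, Int.negSucc 0, Int.ofNat 1, Int.negSucc 0],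
  [Int.negSucc 0, Int.negSucc 2, Int.ofNat 1, Int.negSucc 0, Int.negSucc 0, Int.ofNat 1, Int.ofNat 1, Int.negSucc 0, Int.negSucc 0, Int.negSucc 0, Int.ofNat 1, Int.negSucc 0, Int.ofNat 1, Int.ofNat 1, Int.negSucc 0, Int.negSucc 0, Int.negSucc 0, Int.ofNat 1, Int.ofNat 1, Int.negSucc 0, Int.ofNat 1, Int.ofNat 1, Int.ofNat 1, Int.negSucc 0],
  [Int.ofNat 1, Int.negSucc 0, Int.negSucc 2, Int.ofNat 1, Int.negSucc 0, Int.negSucc 0, Int.ofNat 1, Int.ofNat 1, Int.negSucc 0, Int.negSucc 0, Int.negSucc 0, Int.ofNat 1, Int.negSucc 0, Int.ofNat 1, Int.ofNat 1, Int.negSucc 0, Int.negSucc 0, Int.negSucc 0, Int.ofNat 1, Int.ofNat 1, Int.negSucc 0, Int.ofNat 1, Int.ofNat 1, Int.negSucc 0],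
  [Int.negSucc 2, Int.negSucc 0, Int.ofNat 1, Int.ofNat 1, Int.negSucc 0, Int.negSucc 0, Int.negSucc 0, Int.negSucc 0, Int.negSucc 0, Int.ofNat 1, Int.ofNat 1, Int.ofNat 1, Int.negSucc 0, Int.ofNat 1, Int.ofNat 1, Int.ofNat 1, Int.negSucc 0, Int.negSucc 0, Int.ofNat 1, Int.negSucc 0, Int.ofNat 1, Int.negSucc 0, Int.ofNat 1, Int.negSucc 0],
  [Int.ofNat 1, Int.negSucc 0, Int.negSucc 0, Int.negSucc 0, Int.negSucc 0, Int.negSucc 0, Int.ofNat 1, Int.ofNat 1, Int.ofNat 1, Int.negSucc 0, Int.ofNat 1, Int.ofNat 1, Int.ofNat 1, Int.negSucc 0, Int.negSucc 0, Int.ofNat 1, Int.negSucc 0, Int.ofNat 1, Int.negSucc 0, Int.ofNat 1, Int.negSucc 2, Int.negSucc 0, Int.ofNat 1, Int.negSucc 0],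
  [Int.negSucc 1, Int.ofNat 0, Int.ofNat 0, Int.ofNat 0, Int.ofNat 0, Int.ofNat 0, Int.ofNat 0, Int.ofNat 0, Int.ofNat 0, Int.ofNat 0, Int.ofNat 2, Int.ofNat 0, Int.ofNat 0, Int.ofNat 0, Int.ofNat 0, Int.ofNat 2, Int.ofNat 0, Int.ofNat 2, Int.negSucc 1, Int.ofNat 0, Int.negSucc 1, Int.negSucc 1, Int.ofNat 2, Int.ofNat 0],
  [Int.negSucc 1, Int.ofNat 0, Int.ofNat 0, Int.ofNat 0, Int.negSucc 1, Int.ofNat 0, Int.ofNat 0, Int.ofNat 2, Int.ofNat 0, Int.ofNat 0, Int.negSucc 1, Int.ofNat 2, Int.ofNat 0, Int.ofNat 0, Int.ofNat 2, Int.ofNat 2, Int.ofNat 0, Int.ofNat 0, Int.ofNat 0, Int.ofNat 0, Int.negSucc 1, Int.ofNat 0, Int.ofNat 0, Int.ofNat 0],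
  [Int.ofNat 1, Int.negSucc 0, Int.negSucc 0, Int.negSucc 0, Int.negSucc 0, Int.negSucc 0, Int.negSucc 0, Int.ofNat 1, Int.negSucc 0, Int.ofNat 1, Int.negSucc 0, Int.ofNat 1, Int.negSucc 0, Int.ofNat 1, Int.ofNat 1, Int.ofNat 3, Int.ofNat 1, Int.negSucc 0, Int.negSucc 0, Int.negSucc 0, Int.negSucc 0, Int.negSucc 0, Int.ofNat 1, Int.negSucc 0],
  [Int.ofNat 1, Int.negSucc 0, Int.ofNat 1, Int.negSucc 0, Int.negSucc 0, Int.ofNat 1, Int.ofNat 1, Int.ofNat 1, Int.negSucc 0, Int.negSucc 0, Int.ofNat 1, Int.ofNat 1, Int.negSucc 0, Int.ofNat 1, Int.ofNat 1, Int.negSucc 2, Int.ofNat 1, Int.negSucc 0, Int.ofNat 1, Int.negSucc 0, Int.negSucc 0, Int.negSucc 0, Int.negSucc 0, Int.negSucc 0],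
  [Int.ofNat 1, Int.ofNat 1, Int.ofNat 1, Int.negSucc 0, Int.ofNat 1, Int.ofNat 1, Int.negSucc 0, Int.negSucc 0, Int.ofNat 1, Int.negSucc 0, Int.ofNat 1, Int.ofNat 1, Int.negSucc 2, Int.negSucc 0, Int.negSucc 0, Int.ofNat 1, Int.negSucc 0, Int.negSucc 0, Int.negSucc 0, Int.ofNat 1, Int.ofNat 1, Int.negSucc 0, Int.negSucc 0, Int.negSucc 0],
  [Int.negSucc 0, Int.negSucc 0, Int.negSucc 0, Int.ofNat 1, Int.negSucc 0, Int.ofNat 1, Int.ofNat 1, Int.negSucc 0, Int.negSucc 0, Int.ofNat 1, Int.ofNat 1, Int.ofNat 1, Int.ofNat 3, Int.ofNat 1, Int.negSucc 0, Int.ofNat 1, Int.ofNat 1, Int.negSucc 0, Int.ofNat 1, Int.ofNat 1, Int.ofNat 1, Int.negSucc 0, Int.negSucc 0, Int.negSucc 0],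
  [Int.negSucc 0, Int.negSucc 0, Int.ofNat 1, Int.ofNat 1, Int.negSucc 0, Int.ofNat 1, Int.ofNat 1, Int.ofNat 1, Int.ofNat 1, Int.ofNat 1, Int.ofNat 1, Int.negSucc 0, Int.negSucc 0, Int.negSucc 0, Int.ofNat 1, Int.ofNat 1, Int.ofNat 1, Int.negSucc 0, Int.negSucc 0, Int.ofNat 1, Int.negSucc 0, Int.ofNat 3, Int.negSucc 0, Int.negSucc 0],
  [Int.ofNat 1, Int.negSucc 0, Int.negSucc 0, Int.ofNat 1, Int.negSucc 0, Int.ofNat 1, Int.ofNat 1, Int.negSucc 0, Int.ofNat 1, Int.negSucc 0, Int.negSucc 0, Int.ofNat 1, Int.negSucc 0, Int.negSucc 0, Int.ofNat 1, Int.ofNat 1, Int.ofNat 1, Int.negSucc 0, Int.ofNat 1, Int.ofNat 1, Int.negSucc 0, Int.negSucc 2, Int.negSucc 0, Int.negSucc 0],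
  [Int.negSucc 0, Int.ofNat 1, Int.negSucc 0, Int.negSucc 0, Int.ofNat 1, Int.negSucc 0, Int.ofNat 1, Int.ofNat 1, Int.negSucc 0, Int.ofNat 1, Int.negSucc 0, Int.negSucc 0, Int.ofNat 1, Int.negSucc 0, Int.negSucc 0, Int.ofNat 1, Int.ofNat 1, Int.ofNat 1, Int.negSucc 0, Int.ofNat 1, Int.ofNat 1, Int.negSucc 0, Int.negSucc 2, Int.negSucc 0],
  [Int.ofNat 0, Int.negSucc 1, Int.ofNat 0, Int.ofNat 0, Int.ofNat 2, Int.ofNat 0, Int.ofNat 0, Int.ofNat 0, Int.ofNat 0, Int.ofNat 0, Int.negSucc 1, Int.ofNat 0, Int.ofNat 2, Int.ofNat 0, Int.ofNat 0, Int.ofNat 0, Int.ofNat 2, Int.ofNat 2, Int.ofNat 0, Int.ofNat 0, Int.ofNat 0, Int.negSucc 1, Int.negSucc 1, Int.ofNat 0],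
  [Int.ofNat 0, Int.ofNat 2, Int.ofNat 0, Int.ofNat 0, Int.ofNat 0, Int.ofNat 0, Int.ofNat 0, Int.negSucc 1, Int.ofNat 0, Int.ofNat 2, Int.ofNat 0, Int.ofNat 0, Int.ofNat 0, Int.ofNat 2, Int.ofNat 2, Int.ofNat 0, Int.ofNat 0, Int.ofNat 0, Int.negSucc 1, Int.negSucc 1, Int.ofNat 0, Int.negSucc 1, Int.ofNat 0, Int.ofNat 0],
  [Int.ofNat 1, Int.negSucc 0, Int.ofNat 1, Int.negSucc 0, Int.negSucc 0, Int.negSucc 0, Int.ofNat 3, Int.ofNat 1, Int.ofNat 1, Int.ofNat 1, Int.negSucc 0, Int.ofNat 1, Int.ofNat 1, Int.ofNat 1, Int.ofNat 1, Int.negSucc 0, Int.negSucc 0, Int.negSucc 0, Int.negSucc 0, Int.ofNat 1, Int.negSucc 0, Int.ofNat 1, Int.negSucc 0, Int.ofNat 1],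
  [Int.ofNat 1, Int.ofNat 3, Int.negSucc 0, Int.negSucc 0, Int.negSucc 0, Int.ofNat 1, Int.ofNat 1, Int.negSucc 0, Int.ofNat 1, Int.ofNat 1, Int.negSucc 0, Int.negSucc 0, Int.ofNat 1, Int.negSucc 0, Int.negSucc 0, Int.negSucc 0, Int.ofNat 1, Int.ofNat 1, Int.negSucc 0, Int.ofNat 1, Int.ofNat 1, Int.negSucc 0, Int.ofNat 1, Int.ofNat 1],
  [Int.ofNat 1, Int.negSucc 0, Int.ofNat 3, Int.negSucc 0, Int.negSucc 0, Int.ofNat 1, Int.ofNat 1, Int.negSucc 0, Int.ofNat 1, Int.ofNat 1, Int.negSucc 0, Int.negSucc 0, Int.ofNat 1, Int.negSucc 0, Int.negSucc 0, Int.negSucc 0, Int.ofNat 1, Int.ofNat 1, Int.negSucc 0, Int.ofNat 1, Int.ofNat 1, Int.negSucc 0, Int.ofNat 1, Int.ofNat 1],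
  [Int.ofNat 1, Int.negSucc 0, Int.negSucc 2, Int.negSucc 0, Int.negSucc 0, Int.negSucc 0, Int.negSucc 0, Int.negSucc 0, Int.ofNat 1, Int.negSucc 0, Int.ofNat 1, Int.negSucc 0, Int.ofNat 1, Int.negSucc 0, Int.negSucc 0, Int.ofNat 1, Int.ofNat 1, Int.ofNat 1, Int.ofNat 1, Int.ofNat 1, Int.ofNat 1, Int.negSucc 0, Int.negSucc 0, Int.ofNat 1],
  [Int.negSucc 0, Int.ofNat 1, Int.ofNat 1, Int.ofNat 1, Int.negSucc 0, Int.negSucc 0, Int.negSucc 0, Int.ofNat 1, Int.negSucc 0, Int.ofNat 1, Int.negSucc 0, Int.negSucc 0, Int.negSucc 0, Int.ofNat 1, Int.ofNat 1, Int.ofNat 1, Int.negSucc 0, Int.negSucc 2, Int.ofNat 1, Int.negSucc 0, Int.ofNat 1, Int.negSucc 0, Int.negSucc 0, Int.ofNat 1],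
  [Int.negSucc 0, Int.ofNat 1, Int.negSucc 0, Int.ofNat 1, Int.negSucc 0, Int.ofNat 1, Int.ofNat 1, Int.ofNat 1, Int.negSucc 0, Int.negSucc 0, Int.ofNat 1, Int.negSucc 0, Int.negSucc 0, Int.ofNat 1, Int.ofNat 1, Int.negSucc 0, Int.negSucc 0, Int.negSucc 2, Int.negSucc 0, Int.negSucc 0, Int.ofNat 1, Int.negSucc 0, Int.ofNat 1, Int.ofNat 1],
  [Int.ofNat 1, Int.negSucc 0, Int.ofNat 1, Int.ofNat 1, Int.negSucc 0, Int.ofNat 1, Int.ofNat 1, Int.ofNat 1, Int.ofNat 1, Int.negSucc 0, Int.ofNat 1, Int.ofNat 1, Int.ofNat 1, Int.ofNat 1, Int.ofNat 1, Int.negSucc 0, Int.negSucc 0, Int.negSucc 2, Int.ofNat 1, Int.negSucc 0, Int.ofNat 1, Int.negSucc 0, Int.ofNat 1, Int.negSucc 0],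
  [Int.ofNat 1, Int.ofNat 1, Int.ofNat 1, Int.ofNat 1, Int.ofNat 1, Int.negSucc 0, Int.negSucc 0, Int.ofNat 1, Int.negSucc 0, Int.ofNat 1, Int.ofNat 1, Int.negSucc 0, Int.ofNat 1, Int.negSucc 0, Int.negSucc 2, Int.negSucc 0, Int.ofNat 1, Int.ofNat 1, Int.negSucc 0, Int.ofNat 1, Int.ofNat 1, Int.ofNat 1, Int.ofNat 1, Int.negSucc 0],
  [Int.ofNat 0, Int.ofNat 0, Int.ofNat 0, Int.ofNat 2, Int.ofNat 0, Int.ofNat 0, Int.negSucc 1, Int.ofNat 0, Int.ofNat 0, Int.ofNat 0, Int.ofNat 0, Int.ofNat 0, Int.ofNat 2, Int.negSucc 1, Int.negSucc 1, Int.negSucc 1, Int.ofNat 0, Int.ofNat 2, Int.ofNat 0, Int.ofNat 0, Int.ofNat 0, Int.ofNat 0, Int.ofNat 0, Int.ofNat 2],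
  [Int.ofNat 0, Int.ofNat 0, Int.ofNat 0, Int.ofNat 0, Int.ofNat 0, Int.ofNat 0, Int.ofNat 2, Int.ofNat 0, Int.ofNat 0, Int.negSucc 1, Int.ofNat 0, Int.ofNat 0, Int.ofNat 0, Int.ofNat 0, Int.ofNat 0, Int.ofNat 2, Int.negSucc 1, Int.negSucc 1, Int.negSucc 1, Int.ofNat 0, Int.ofNat 2, Int.ofNat 0, Int.ofNat 0, Int.ofNat 2],
  [Int.ofNat 1, Int.ofNat 1, Int.ofNat 1, Int.ofNat 1, Int.ofNat 1, Int.ofNat 1, Int.ofNat 1, Int.negSucc 0, Int.ofNat 1, Int.negSucc 2, Int.negSucc 0, Int.ofNat 1, Int.ofNat 1, Int.ofNat 1, Int.ofNat 1, Int.ofNat 1, Int.negSucc 0, Int.negSucc 0, Int.negSucc 0, Int.negSucc 0, Int.ofNat 1, Int.negSucc 0, Int.ofNat 1, Int.negSucc 0],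
  [Int.ofNat 1, Int.ofNat 1, Int.ofNat 1, Int.ofNat 1, Int.ofNat 1, Int.ofNat 1, Int.negSucc 0, Int.ofNat 1, Int.negSucc 2, Int.negSucc 0, Int.ofNat 1, Int.ofNat 1, Int.ofNat 1, Int.ofNat 1, Int.ofNat 1, Int.negSucc 0, Int.negSucc 0, Int.negSucc 0, Int.negSucc 0, Int.ofNat 1, Int.negSucc 0, Int.ofNat 1, Int.ofNat 1, Int.negSucc 0],
  [Int.negSucc 0, Int.ofNat 1, Int.negSucc 0, Int.ofNat 1, Int.ofNat 1, Int.ofNat 1, Int.negSucc 0, Int.negSucc 0, Int.negSucc 2, Int.ofNat 1, Int.negSucc 0, Int.negSucc 0, Int.ofNat 1, Int.ofNat 1, Int.ofNat 1, Int.negSucc 0, Int.negSucc 0, Int.negSucc 0, Int.ofNat 1, Int.ofNat 1, Int.negSucc 0, Int.negSucc 0, Int.ofNat 1, Int.negSucc 0],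
  [Int.negSucc 0, Int.negSucc 0, Int.ofNat 1, Int.ofNat 1, Int.ofNat 1, Int.negSucc 0, Int.ofNat 1, Int.negSucc 0, Int.ofNat 1, Int.negSucc 0, Int.negSucc 0, Int.ofNat 1, Int.ofNat 1, Int.negSucc 2, Int.ofNat 1, Int.negSucc 0, Int.ofNat 1, Int.ofNat 1, Int.negSucc 0, Int.negSucc 0, Int.ofNat 1, Int.negSucc 0, Int.negSucc 0, Int.negSucc 0],
  [Int.ofNat 1, Int.negSucc 0, Int.negSucc 0, Int.ofNat 1, Int.ofNat 1, Int.negSucc 0, Int.ofNat 1, Int.ofNat 1, Int.ofNat 1, Int.ofNat 1, Int.ofNat 1, Int.negSucc 0, Int.ofNat 1, Int.negSucc 2, Int.ofNat 1, Int.negSucc 0, Int.ofNat 1, Int.ofNat 1, Int.ofNat 1, Int.negSucc 0, Int.ofNat 1, Int.ofNat 1, Int.negSucc 0, Int.negSucc 0],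
  [Int.negSucc 0, Int.ofNat 1, Int.negSucc 0, Int.negSucc 0, Int.ofNat 1, Int.ofNat 1, Int.negSucc 0, Int.ofNat 1, Int.ofNat 1, Int.ofNat 1, Int.ofNat 1, Int.ofNat 1, Int.negSucc 0, Int.ofNat 1, Int.negSucc 2, Int.ofNat 1, Int.negSucc 0, Int.ofNat 1, Int.ofNat 1, Int.ofNat 1, Int.negSucc 0, Int.ofNat 1, Int.ofNat 1, Int.negSucc 0],
  [Int.ofNat 0, Int.negSucc 1, Int.ofNat 0, Int.ofNat 0, Int.ofNat 0, Int.ofNat 2, Int.negSucc 1, Int.ofNat 0, Int.ofNat 0, Int.ofNat 0, Int.ofNat 0, Int.ofNat 0, Int.negSucc 1, Int.ofNat 0, Int.negSucc 1, Int.ofNat 0, Int.negSucc 1, Int.ofNat 2, Int.ofNat 0, Int.ofNat 0, Int.negSucc 1, Int.ofNat 0, Int.ofNat 0, Int.ofNat 0],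
  [Int.ofNat 0, Int.ofNat 0, Int.ofNat 2, Int.negSucc 1, Int.ofNat 0, Int.ofNat 0, Int.ofNat 0, Int.ofNat 0, Int.ofNat 0, Int.negSucc 1, Int.ofNat 0, Int.negSucc 1, Int.ofNat 0, Int.negSucc 1, Int.ofNat 2, Int.ofNat 0, Int.ofNat 0, Int.negSucc 1, Int.ofNat 0, Int.ofNat 0, Int.ofNat 0, Int.negSucc 1, Int.ofNat 0, Int.ofNat 0],
  [Int.ofNat 1, Int.ofNat 1, Int.negSucc 0, Int.negSucc 0, Int.ofNat 1, Int.ofNat 1, Int.ofNat 1, Int.ofNat 1, Int.ofNat 1, Int.negSucc 0, Int.ofNat 1, Int.negSucc 0, Int.ofNat 1, Int.negSucc 0, Int.ofNat 3, Int.ofNat 1, Int.ofNat 1, Int.negSucc 0, Int.ofNat 1, Int.ofNat 1, Int.ofNat 1, Int.negSucc 0, Int.ofNat 1, Int.ofNat 1],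
  [Int.ofNat 1, Int.ofNat 1, Int.ofNat 1, Int.negSucc 0, Int.ofNat 1, Int.ofNat 1, Int.negSucc 0, Int.ofNat 1, Int.ofNat 1, Int.negSucc 0, Int.ofNat 1, Int.negSucc 0, Int.negSucc 0, Int.ofNat 1, Int.ofNat 1, Int.ofNat 1, Int.ofNat 1, Int.ofNat 3, Int.ofNat 1, Int.negSucc 0, Int.negSucc 0, Int.ofNat 1, Int.ofNat 1, Int.ofNat 1],
  [Int.ofNat 1, Int.ofNat 1, Int.ofNat 1, Int.negSucc 2, Int.negSucc 0, Int.negSucc 0, Int.negSucc 0, Int.ofNat 1, Int.ofNat 1, Int.negSucc 0, Int.ofNat 1, Int.negSucc 0, Int.negSucc 0, Int.negSucc 0, Int.negSucc 0, Int.ofNat 1, Int.negSucc 0, Int.ofNat 1, Int.ofNat 1, Int.negSucc 0, Int.negSucc 0, Int.ofNat 1, Int.negSucc 0, Int.ofNat 1],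
  [Int.ofNat 1, Int.ofNat 1, Int.negSucc 0, Int.negSucc 2, Int.negSucc 0, Int.ofNat 1, Int.ofNat 1, Int.ofNat 1, Int.ofNat 1, Int.ofNat 1, Int.negSucc 0, Int.negSucc 0, Int.negSucc 0, Int.negSucc 0, Int.negSucc 0, Int.negSucc 0, Int.negSucc 0, Int.ofNat 1, Int.negSucc 0, Int.negSucc 0, Int.negSucc 0, Int.ofNat 1, Int.ofNat 1, Int.ofNat 1],
  [Int.negSucc 0, Int.negSucc 0, Int.negSucc 0, Int.ofNat 1, Int.negSucc 0, Int.ofNat 1, Int.ofNat 1, Int.negSucc 2, Int.ofNat 1, Int.negSucc 0, Int.negSucc 0, Int.ofNat 1, Int.negSucc 0, Int.negSucc 0, Int.ofNat 1, Int.negSucc 0, Int.negSucc 0, Int.negSucc 0, Int.ofNat 1, Int.negSucc 0, Int.ofNat 1, Int.ofNat 1, Int.ofNat 1, Int.ofNat 1],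
  [Int.ofNat 1, Int.ofNat 1, Int.ofNat 1, Int.negSucc 0, Int.ofNat 1, Int.ofNat 1, Int.negSucc 0, Int.negSucc 2, Int.negSucc 0, Int.ofNat 1, Int.negSucc 0, Int.ofNat 1, Int.ofNat 1, Int.ofNat 1, Int.ofNat 1, Int.negSucc 0, Int.ofNat 1, Int.negSucc 0, Int.negSucc 0, Int.negSucc 0, Int.ofNat 1, Int.ofNat 1, Int.ofNat 1, Int.ofNat 1],
  [Int.ofNat 1, Int.ofNat 1, Int.ofNat 1, Int.negSucc 0, Int.negSucc 0, Int.ofNat 1, Int.negSucc 0, Int.ofNat 1, Int.ofNat 1, Int.ofNat 1, Int.ofNat 1, Int.ofNat 1, Int.ofNat 1, Int.negSucc 2, Int.negSucc 0, Int.negSucc 0, Int.negSucc 0, Int.ofNat 1, Int.ofNat 1, Int.negSucc 0, Int.negSucc 0, Int.ofNat 1, Int.ofNat 1, Int.ofNat 1],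
  [Int.negSucc 0, Int.ofNat 1, Int.negSucc 0, Int.negSucc 0, Int.negSucc 0, Int.ofNat 1, Int.negSucc 0, Int.negSucc 0, Int.ofNat 1, Int.negSucc 0, Int.negSucc 0, Int.negSucc 0, Int.ofNat 1, Int.negSucc 2, Int.negSucc 0, Int.negSucc 0, Int.negSucc 0, Int.ofNat 1, Int.negSucc 0, Int.negSucc 0, Int.negSucc 0, Int.negSucc 0, Int.ofNat 1, Int.ofNat 1],
  [Int.ofNat 1, Int.negSucc 0, Int.ofNat 1, Int.negSucc 0, Int.negSucc 0, Int.negSucc 0, Int.ofNat 1, Int.negSucc 0, Int.negSucc 0, Int.ofNat 1, Int.negSucc 0, Int.negSucc 0, Int.negSucc 0, Int.ofNat 1, Int.negSucc 2, Int.negSucc 0, Int.negSucc 0, Int.negSucc 0, Int.ofNat 1, Int.negSucc 0, Int.negSucc 0, Int.negSucc 0, Int.negSucc 0, Int.ofNat 1],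
  [Int.ofNat 0, Int.ofNat 2, Int.ofNat 0, Int.ofNat 2, Int.ofNat 0, Int.ofNat 2, Int.ofNat 2, Int.ofNat 0, Int.ofNat 0, Int.ofNat 2, Int.ofNat 0, Int.ofNat 0, Int.ofNat 0, Int.ofNat 2, Int.ofNat 0, Int.ofNat 0, Int.ofNat 0, Int.ofNat 2, Int.ofNat 2, Int.ofNat 0, Int.ofNat 0, Int.ofNat 0, Int.ofNat 0, Int.ofNat 0],
  [Int.ofNat 2, Int.ofNat 0, Int.ofNat 2, Int.ofNat 2, Int.ofNat 0, Int.ofNat 0, Int.ofNat 2, Int.ofNat 0, Int.ofNat 0, Int.ofNat 0, Int.ofNat 2, Int.ofNat 0, Int.ofNat 0, Int.ofNat 0, Int.ofNat 2, Int.ofNat 2, Int.ofNat 0, Int.ofNat 0, Int.ofNat 0, Int.ofNat 0, Int.ofNat 0, Int.ofNat 2, Int.ofNat 0, Int.ofNat 0],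
  [Int.ofNat 0, Int.ofNat 2, Int.ofNat 0, Int.ofNat 0, Int.ofNat 0, Int.negSucc 1, Int.ofNat 0, Int.negSucc 1, Int.ofNat 0, Int.negSucc 1, Int.ofNat 0, Int.ofNat 0, Int.ofNat 0, Int.ofNat 0, Int.ofNat 0, Int.ofNat 0, Int.ofNat 0, Int.negSucc 1, Int.ofNat 0, Int.negSucc 1, Int.negSucc 1, Int.ofNat 0, Int.ofNat 0, Int.ofNat 2],
  [Int.ofNat 0, Int.ofNat 0, Int.ofNat 0, Int.ofNat 0, Int.ofNat 0, Int.negSucc 1, Int.ofNat 0, Int.ofNat 0, Int.ofNat 0, Int.ofNat 0, Int.negSucc 1, Int.negSucc 1, Int.negSucc 1, Int.ofNat 0, Int.ofNat 0, Int.ofNat 0, Int.ofNat 0, Int.ofNat 0, Int.ofNat 2, Int.ofNat 0, Int.ofNat 0, Int.negSucc 1, Int.negSucc 1, Int.ofNat 2],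
  [Int.ofNat 1, Int.ofNat 1, Int.ofNat 1, Int.ofNat 1, Int.ofNat 1, Int.negSucc 0, Int.ofNat 1, Int.ofNat 1, Int.ofNat 1, Int.ofNat 1, Int.negSucc 0, Int.negSucc 0, Int.negSucc 0, Int.ofNat 1, Int.ofNat 1, Int.ofNat 1, Int.ofNat 1, Int.ofNat 1, Int.ofNat 3, Int.ofNat 1, Int.ofNat 1, Int.negSucc 0, Int.negSucc 0, Int.negSucc 0],
  [Int.ofNat 1, Int.ofNat 1, Int.negSucc 0, Int.ofNat 1, Int.ofNat 1, Int.ofNat 1, Int.negSucc 0, Int.ofNat 1, Int.ofNat 1, Int.negSucc 0, Int.ofNat 1, Int.negSucc 0, Int.negSucc 0, Int.ofNat 1, Int.ofNat 1, Int.negSucc 0, Int.ofNat 1, Int.ofNat 1, Int.negSucc 2, Int.ofNat 1, Int.ofNat 1, Int.negSucc 0, Int.ofNat 1, Int.negSucc 0],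
  [Int.negSucc 0, Int.ofNat 1, Int.ofNat 1, Int.negSucc 0, Int.negSucc 0, Int.ofNat 1, Int.ofNat 1, Int.ofNat 1, Int.ofNat 1, Int.ofNat 1, Int.negSucc 0, Int.ofNat 1, Int.ofNat 1, Int.negSucc 2, Int.ofNat 1, Int.negSucc 0, Int.negSucc 0, Int.negSucc 0, Int.ofNat 1, Int.ofNat 1, Int.ofNat 1, Int.ofNat 1, Int.ofNat 1, Int.negSucc 0],
  [Int.negSucc 0, Int.ofNat 1, Int.negSucc 0, Int.negSucc 0, Int.negSucc 0, Int.negSucc 0, Int.negSucc 0, Int.ofNat 1, Int.ofNat 1, Int.negSucc 0, Int.ofNat 1, Int.ofNat 1, Int.ofNat 1, Int.negSucc 2, Int.ofNat 1, Int.ofNat 1, Int.negSucc 0, Int.negSucc 0, Int.negSucc 0, Int.ofNat 1, Int.ofNat 1, Int.ofNat 1, Int.negSucc 0, Int.negSucc 0],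
  [Int.ofNat 0, Int.negSucc 1, Int.ofNat 0, Int.ofNat 0, Int.ofNat 2, Int.ofNat 0, Int.negSucc 1, Int.ofNat 0, Int.ofNat 0, Int.negSucc 1, Int.ofNat 0, Int.ofNat 0, Int.ofNat 0, Int.ofNat 0, Int.ofNat 2, Int.ofNat 0, Int.ofNat 2, Int.ofNat 0, Int.negSucc 1, Int.ofNat 0, Int.ofNat 0, Int.ofNat 0, Int.ofNat 2, Int.ofNat 0],
  [Int.ofNat 0, Int.negSucc 1, Int.negSucc 1, Int.ofNat 0, Int.ofNat 0, Int.ofNat 0, Int.negSucc 1, Int.ofNat 0, Int.ofNat 2, Int.ofNat 0, Int.ofNat 0, Int.ofNat 0, Int.ofNat 0, Int.negSucc 1, Int.ofNat 0, Int.ofNat 0, Int.ofNat 0, Int.ofNat 0, Int.ofNat 2, Int.ofNat 2, Int.ofNat 0, Int.ofNat 0, Int.ofNat 2, Int.ofNat 0],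
  [Int.negSucc 1, Int.ofNat 0, Int.ofNat 0, Int.ofNat 0, Int.ofNat 0, Int.ofNat 0, Int.negSucc 1, Int.ofNat 0, Int.ofNat 0, Int.ofNat 0, Int.ofNat 0, Int.negSucc 1, Int.negSucc 1, Int.negSucc 1, Int.ofNat 0, Int.ofNat 0, Int.ofNat 0, Int.ofNat 0, Int.ofNat 0, Int.ofNat 2, Int.ofNat 0, Int.ofNat 0, Int.ofNat 2, Int.negSucc 1],
  [Int.ofNat 0, Int.ofNat 0, Int.ofNat 2, Int.negSucc 1, Int.ofNat 0, Int.ofNat 0, Int.ofNat 0, Int.ofNat 0, Int.ofNat 0, Int.negSucc 1, Int.ofNat 0, Int.ofNat 0, Int.ofNat 0, Int.ofNat 0, Int.negSucc 1, Int.negSucc 1, Int.negSucc 1, Int.ofNat 0, Int.ofNat 0, Int.ofNat 0, Int.ofNat 0, Int.ofNat 0, Int.ofNat 2, Int.negSucc 1],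
  [Int.ofNat 0, Int.ofNat 0, Int.negSucc 1, Int.ofNat 0, Int.ofNat 0, Int.ofNat 2, Int.ofNat 0, Int.ofNat 0, Int.ofNat 0, Int.ofNat 0, Int.ofNat 2, Int.ofNat 0, Int.ofNat 0, Int.ofNat 0, Int.ofNat 0, Int.ofNat 0, Int.negSucc 1, Int.ofNat 2, Int.ofNat 0, Int.ofNat 0, Int.ofNat 2, Int.ofNat 0, Int.ofNat 2, Int.ofNat 2],
  [Int.ofNat 0, Int.negSucc 1, Int.ofNat 0, Int.ofNat 0, Int.ofNat 2, Int.ofNat 0, Int.ofNat 0, Int.ofNat 0, Int.ofNat 0, Int.ofNat 2, Int.ofNat 0, Int.ofNat 0, Int.ofNat 0, Int.ofNat 0, Int.ofNat 0, Int.negSucc 1, Int.ofNat 2, Int.ofNat 0, Int.ofNat 0, Int.ofNat 2, Int.ofNat 0, Int.ofNat 2, Int.ofNat 0, Int.ofNat 2],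
  [Int.ofNat 0, Int.negSucc 1, Int.ofNat 0, Int.ofNat 0, Int.ofNat 2, Int.ofNat 0, Int.ofNat 0, Int.ofNat 0, Int.ofNat 0, Int.negSucc 1, Int.ofNat 0, Int.ofNat 0, Int.ofNat 0, Int.ofNat 0, Int.ofNat 0, Int.negSucc 1, Int.ofNat 2, Int.ofNat 0, Int.ofNat 0, Int.ofNat 2, Int.ofNat 0, Int.negSucc 1, Int.ofNat 0, Int.ofNat 2],
  [Int.ofNat 0, Int.ofNat 0, Int.ofNat 0, Int.ofNat 0, Int.negSucc 1, Int.ofNat 0, Int.ofNat 2, Int.ofNat 0, Int.negSucc 1, Int.ofNat 2, Int.negSucc 1, Int.ofNat 0, Int.ofNat 0, Int.ofNat 0, Int.ofNat 2, Int.negSucc 1, Int.ofNat 0, Int.ofNat 0, Int.ofNat 0, Int.ofNat 0, Int.ofNat 0, Int.ofNat 0, Int.ofNat 0, Int.ofNat 2],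
  [Int.ofNat 0, Int.ofNat 0, Int.ofNat 0, Int.ofNat 0, Int.negSucc 1, Int.ofNat 0, Int.ofNat 2, Int.ofNat 0, Int.negSucc 1, Int.negSucc 1, Int.ofNat 2, Int.ofNat 0, Int.ofNat 0, Int.ofNat 0, Int.ofNat 2, Int.negSucc 1, Int.ofNat 0, Int.ofNat 0, Int.ofNat 0, Int.ofNat 0, Int.ofNat 0, Int.ofNat 0, Int.ofNat 0, Int.ofNat 2],
  [Int.ofNat 0, Int.ofNat 0, Int.ofNat 0, Int.ofNat 0, Int.ofNat 0, Int.negSucc 1, Int.ofNat 0, Int.ofNat 2, Int.ofNat 0, Int.negSucc 1, Int.negSucc 1, Int.ofNat 2, Int.ofNat 0, Int.ofNat 0, Int.ofNat 0, Int.ofNat 2, Int.negSucc 1, Int.ofNat 0, Int.ofNat 0, Int.ofNat 0, Int.ofNat 0, Int.ofNat 0, Int.ofNat 0, Int.ofNat 2],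
  [Int.ofNat 1, Int.ofNat 1, Int.ofNat 1, Int.ofNat 1, Int.ofNat 1, Int.negSucc 0, Int.negSucc 0, Int.ofNat 1, Int.negSucc 0, Int.negSucc 0, Int.negSucc 0, Int.ofNat 1, Int.negSucc 0, Int.ofNat 1, Int.ofNat 1, Int.ofNat 3, Int.negSucc 0, Int.ofNat 1, Int.negSucc 0, Int.negSucc 0, Int.ofNat 1, Int.negSucc 0, Int.ofNat 1, Int.negSucc 0],
  [Int.ofNat 1, Int.ofNat 1, Int.negSucc 0, Int.negSucc 0, Int.ofNat 1, Int.negSucc 0, Int.negSucc 0, Int.negSucc 0, Int.ofNat 1, Int.negSucc 0, Int.ofNat 1, Int.ofNat 1, Int.ofNat 3, Int.negSucc 0, Int.ofNat 1, Int.negSucc 0, Int.negSucc 0, Int.ofNat 1, Int.negSucc 0, Int.ofNat 1, Int.ofNat 1, Int.ofNat 1, Int.ofNat 1, Int.negSucc 0],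
  [Int.negSucc 0, Int.negSucc 0, Int.ofNat 1, Int.negSucc 0, Int.ofNat 1, Int.negSucc 0, Int.negSucc 0, Int.negSucc 0, Int.negSucc 0, Int.negSucc 0, Int.ofNat 1, Int.negSucc 0, Int.ofNat 1, Int.negSucc 0, Int.ofNat 1, Int.negSucc 0, Int.negSucc 0, Int.ofNat 1, Int.negSucc 2, Int.ofNat 1, Int.ofNat 1, Int.ofNat 1, Int.ofNat 1, Int.ofNat 1],
  [Int.negSucc 0, Int.negSucc 0, Int.ofNat 1, Int.negSucc 0, Int.negSucc 2, Int.negSucc 0, Int.ofNat 1, Int.ofNat 1, Int.ofNat 1, Int.negSucc 0, Int.ofNat 1, Int.ofNat 1, Int.negSucc 0, Int.negSucc 0, Int.ofNat 1, Int.negSucc 0, Int.negSucc 0, Int.ofNat 1, Int.negSucc 0, Int.negSucc 0, Int.ofNat 1, Int.negSucc 0, Int.ofNat 1, Int.ofNat 1],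
  [Int.ofNat 1, Int.ofNat 1, Int.negSucc 0, Int.negSucc 0, Int.negSucc 0, Int.negSucc 0, Int.ofNat 1, Int.ofNat 1, Int.ofNat 1, Int.negSucc 0, Int.ofNat 1, Int.ofNat 1, Int.negSucc 0, Int.ofNat 1, Int.ofNat 1, Int.negSucc 0, Int.ofNat 1, Int.ofNat 1, Int.negSucc 0, Int.negSucc 0, Int.ofNat 1, Int.negSucc 0, Int.ofNat 3, Int.negSucc 0],
  [Int.ofNat 1, Int.ofNat 1, Int.ofNat 1, Int.negSucc 0, Int.negSucc 0, Int.ofNat 1, Int.negSucc 0, Int.ofNat 1, Int.ofNat 1, Int.ofNat 1, Int.negSucc 0, Int.ofNat 1, Int.negSucc 0, Int.ofNat 1, Int.ofNat 1, Int.ofNat 1, Int.ofNat 1, Int.ofNat 1, Int.ofNat 1, Int.negSucc 0, Int.ofNat 1, Int.negSucc 0, Int.negSucc 2, Int.negSucc 0],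
  [Int.negSucc 0, Int.ofNat 1, Int.ofNat 1, Int.ofNat 1, Int.ofNat 1, Int.negSucc 0, Int.negSucc 0, Int.negSucc 0, Int.ofNat 1, Int.ofNat 1, Int.ofNat 1, Int.ofNat 1, Int.ofNat 1, Int.negSucc 0, Int.ofNat 1, Int.ofNat 1, Int.negSucc 0, Int.negSucc 0, Int.ofNat 1, Int.ofNat 1, Int.ofNat 1, Int.ofNat 1, Int.negSucc 2, Int.negSucc 0],
  [Int.ofNat 1, Int.negSucc 0, Int.negSucc 0, Int.negSucc 0, Int.negSucc 0, Int.negSucc 0, Int.ofNat 1, Int.negSucc 0, Int.negSucc 0, Int.negSucc 0, Int.ofNat 1, Int.ofNat 1, Int.negSucc 0, Int.ofNat 1, Int.ofNat 1, Int.ofNat 1, Int.ofNat 1, Int.negSucc 0, Int.negSucc 0, Int.ofNat 1, Int.ofNat 1, Int.ofNat 1, Int.negSucc 2, Int.negSucc 0],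
  [Int.negSucc 0, Int.negSucc 2, Int.ofNat 1, Int.ofNat 1, Int.negSucc 0, Int.negSucc 0, Int.ofNat 1, Int.ofNat 1, Int.ofNat 1, Int.negSucc 0, Int.ofNat 1, Int.negSucc 0, Int.ofNat 1, Int.negSucc 0, Int.negSucc 0, Int.negSucc 0, Int.ofNat 1, Int.negSucc 0, Int.ofNat 1, Int.ofNat 1, Int.negSucc 0, Int.negSucc 0, Int.negSucc 0, Int.ofNat 1],
  [Int.ofNat 1, Int.negSucc 2, Int.negSucc 0, Int.ofNat 1, Int.negSucc 0, Int.negSucc 0, Int.ofNat 1, Int.negSucc 0, Int.ofNat 1, Int.ofNat 1, Int.negSucc 0, Int.ofNat 1, Int.ofNat 1, Int.negSucc 0, Int.negSucc 0, Int.negSucc 0, Int.ofNat 1, Int.negSucc 0, Int.negSucc 0, Int.ofNat 1, Int.negSucc 0, Int.ofNat 1, Int.negSucc 0, Int.ofNat 1],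
  [Int.negSucc 0, Int.ofNat 1, Int.negSucc 2, Int.negSucc 0, Int.ofNat 1, Int.negSucc 0, Int.negSucc 0, Int.ofNat 1, Int.negSucc 0, Int.ofNat 1, Int.ofNat 1, Int.negSucc 0, Int.ofNat 1, Int.ofNat 1, Int.negSucc 0, Int.negSucc 0, Int.negSucc 0, Int.ofNat 1, Int.negSucc 0, Int.negSucc 0, Int.ofNat 1, Int.negSucc 0, Int.ofNat 1, Int.ofNat 1],
  [Int.ofNat 0, Int.negSucc 1, Int.ofNat 2, Int.ofNat 0, Int.ofNat 0, Int.ofNat 0, Int.ofNat 0, Int.ofNat 2, Int.ofNat 0, Int.ofNat 0, Int.ofNat 0, Int.ofNat 0, Int.ofNat 2, Int.ofNat 0, Int.ofNat 0, Int.negSucc 1, Int.negSucc 1, Int.ofNat 2, Int.ofNat 0, Int.ofNat 0, Int.ofNat 0, Int.ofNat 0, Int.ofNat 0, Int.negSucc 1],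
  [Int.ofNat 0, Int.ofNat 0, Int.ofNat 0, Int.ofNat 0, Int.ofNat 2, Int.ofNat 0, Int.ofNat 0, Int.ofNat 0, Int.ofNat 0, Int.ofNat 2, Int.ofNat 0, Int.ofNat 0, Int.negSucc 1, Int.negSucc 1, Int.ofNat 2, Int.ofNat 0, Int.ofNat 0, Int.ofNat 0, Int.ofNat 0, Int.ofNat 0, Int.ofNat 0, Int.negSucc 1, Int.ofNat 2, Int.negSucc 1],
  [Int.negSucc 0, Int.negSucc 0, Int.negSucc 0, Int.negSucc 0, Int.ofNat 1, Int.negSucc 0, Int.ofNat 1, Int.ofNat 1, Int.ofNat 1, Int.ofNat 1, Int.negSucc 0, Int.ofNat 1, Int.negSucc 0, Int.negSucc 2, Int.ofNat 1, Int.negSucc 0, Int.negSucc 0, Int.negSucc 0, Int.ofNat 1, Int.ofNat 1, Int.negSucc 0, Int.negSucc 0, Int.ofNat 1, Int.ofNat 1],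
  [Int.negSucc 0, Int.ofNat 1, Int.ofNat 1, Int.negSucc 0, Int.ofNat 1, Int.ofNat 1, Int.negSucc 0, Int.negSucc 0, Int.negSucc 0, Int.negSucc 2, Int.negSucc 0, Int.negSucc 0, Int.ofNat 1, Int.negSucc 0, Int.ofNat 1, Int.negSucc 0, Int.ofNat 1, Int.ofNat 1, Int.negSucc 0, Int.ofNat 1, Int.negSucc 0, Int.negSucc 0, Int.ofNat 1, Int.ofNat 1],
  [Int.ofNat 2, Int.ofNat 0, Int.ofNat 0, Int.negSucc 1, Int.ofNat 0, Int.ofNat 0, Int.ofNat 0, Int.ofNat 0, Int.ofNat 0, Int.ofNat 0, Int.ofNat 2, Int.ofNat 0, Int.ofNat 2, Int.negSucc 1, Int.ofNat 0, Int.ofNat 2, Int.ofNat 0, Int.ofNat 0, Int.ofNat 0, Int.ofNat 2, Int.ofNat 2, Int.ofNat 0, Int.ofNat 0, Int.ofNat 0],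
  [Int.ofNat 2, Int.ofNat 0, Int.ofNat 0, Int.negSucc 1, Int.ofNat 0, Int.ofNat 0, Int.ofNat 0, Int.ofNat 0, Int.ofNat 0, Int.ofNat 0, Int.negSucc 1, Int.ofNat 0, Int.ofNat 2, Int.negSucc 1, Int.ofNat 0, Int.negSucc 1, Int.ofNat 0, Int.ofNat 0, Int.ofNat 0, Int.ofNat 2, Int.ofNat 2, Int.ofNat 0, Int.ofNat 0, Int.ofNat 0],
  [Int.ofNat 0, Int.ofNat 0, Int.ofNat 0, Int.negSucc 1, Int.ofNat 0, Int.ofNat 0, Int.negSucc 1, Int.ofNat 2, Int.ofNat 0, Int.negSucc 1, Int.ofNat 0, Int.negSucc 1, Int.ofNat 0, Int.ofNat 0, Int.ofNat 2, Int.ofNat 2, Int.ofNat 0, Int.ofNat 0, Int.ofNat 2, Int.ofNat 0, Int.ofNat 0, Int.ofNat 0, Int.ofNat 0, Int.ofNat 0],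
  [Int.ofNat 0, Int.ofNat 0, Int.ofNat 0, Int.negSucc 1, Int.ofNat 0, Int.ofNat 0, Int.ofNat 2, Int.ofNat 2, Int.ofNat 0, Int.ofNat 2, Int.ofNat 0, Int.negSucc 1, Int.ofNat 0, Int.ofNat 0, Int.ofNat 2, Int.negSucc 1, Int.ofNat 0, Int.ofNat 0, Int.negSucc 1, Int.ofNat 0, Int.ofNat 0, Int.ofNat 0, Int.ofNat 0, Int.ofNat 0],
  [Int.ofNat 0, Int.ofNat 0, Int.ofNat 0, Int.negSucc 1, Int.ofNat 0, Int.ofNat 0, Int.ofNat 0, Int.ofNat 0, Int.ofNat 2, Int.ofNat 2, Int.ofNat 0, Int.ofNat 0, Int.ofNat 2, Int.ofNat 0, Int.ofNat 2, Int.negSucc 1, Int.ofNat 0, Int.ofNat 0, Int.ofNat 0, Int.negSucc 1, Int.ofNat 0, Int.negSucc 1, Int.ofNat 0, Int.ofNat 0],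
  [Int.ofNat 0, Int.ofNat 0, Int.ofNat 0, Int.negSucc 1, Int.ofNat 0, Int.negSucc 1, Int.ofNat 0, Int.ofNat 0, Int.ofNat 0, Int.ofNat 2, Int.ofNat 0, Int.negSucc 1, Int.ofNat 2, Int.ofNat 2, Int.ofNat 0, Int.negSucc 1, Int.ofNat 0, Int.ofNat 0, Int.ofNat 0, Int.ofNat 0, Int.ofNat 0, Int.ofNat 0, Int.ofNat 2, Int.ofNat 0],
  [Int.ofNat 0, Int.ofNat 0, Int.ofNat 0, Int.ofNat 0, Int.negSucc 1, Int.ofNat 0, Int.ofNat 0, Int.ofNat 0, Int.ofNat 0, Int.ofNat 2, Int.ofNat 0, Int.negSucc 1, Int.ofNat 2, Int.ofNat 0, Int.ofNat 2, Int.negSucc 1, Int.negSucc 1, Int.ofNat 2, Int.ofNat 0, Int.ofNat 0, Int.ofNat 0, Int.ofNat 0, Int.ofNat 0, Int.ofNat 0],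
  [Int.ofNat 0, Int.ofNat 0, Int.ofNat 0, Int.ofNat 0, Int.ofNat 0, Int.ofNat 0, Int.ofNat 0, Int.negSucc 1, Int.ofNat 0, Int.ofNat 0, Int.ofNat 0, Int.ofNat 0, Int.ofNat 2, Int.ofNat 0, Int.negSucc 1, Int.ofNat 2, Int.ofNat 0, Int.ofNat 2, Int.negSucc 1, Int.negSucc 1, Int.ofNat 2, Int.ofNat 0, Int.ofNat 0, Int.ofNat 0],
  [Int.ofNat 0, Int.ofNat 0, Int.ofNat 0, Int.ofNat 0, Int.ofNat 0, Int.ofNat 0, Int.ofNat 2, Int.ofNat 0, Int.ofNat 0, Int.negSucc 1, Int.negSucc 1, Int.ofNat 0, Int.ofNat 2, Int.ofNat 0, Int.negSucc 1, Int.ofNat 0, Int.ofNat 0, Int.ofNat 2, Int.negSucc 1, Int.ofNat 0, Int.ofNat 0, Int.ofNat 2, Int.ofNat 0, Int.ofNat 0],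
  [Int.ofNat 0, Int.ofNat 0, Int.ofNat 0, Int.ofNat 0, Int.ofNat 0, Int.ofNat 2, Int.ofNat 0, Int.ofNat 0, Int.negSucc 1, Int.negSucc 1, Int.ofNat 0, Int.ofNat 2, Int.ofNat 0, Int.negSucc 1, Int.ofNat 0, Int.ofNat 0, Int.ofNat 2, Int.negSucc 1, Int.ofNat 0, Int.ofNat 0, Int.ofNat 2, Int.ofNat 0, Int.ofNat 0, Int.ofNat 0],
  [Int.ofNat 0, Int.ofNat 0, Int.ofNat 0, Int.ofNat 0, Int.ofNat 0, Int.ofNat 2, Int.ofNat 0, Int.ofNat 0, Int.negSucc 1, Int.ofNat 2, Int.ofNat 0, Int.negSucc 1, Int.ofNat 0, Int.negSucc 1, Int.ofNat 0, Int.ofNat 0, Int.ofNat 2, Int.negSucc 1, Int.ofNat 0, Int.ofNat 0, Int.ofNat 2, Int.ofNat 0, Int.ofNat 0, Int.ofNat 0],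
  [Int.ofNat 0, Int.ofNat 0, Int.ofNat 0, Int.ofNat 0, Int.ofNat 0, Int.ofNat 0, Int.ofNat 0, Int.ofNat 2, Int.ofNat 2, Int.ofNat 2, Int.ofNat 0, Int.ofNat 0, Int.negSucc 1, Int.negSucc 1, Int.ofNat 0, Int.ofNat 0, Int.ofNat 0, Int.ofNat 0, Int.ofNat 0, Int.negSucc 1, Int.ofNat 2, Int.ofNat 0, Int.negSucc 1, Int.ofNat 0],
  [Int.ofNat 0, Int.ofNat 0, Int.ofNat 0, Int.ofNat 0, Int.ofNat 0, Int.ofNat 0, Int.ofNat 0, Int.negSucc 1, Int.ofNat 2, Int.negSucc 1, Int.ofNat 0, Int.ofNat 0, Int.negSucc 1, Int.negSucc 1, Int.ofNat 0, Int.ofNat 0, Int.ofNat 0, Int.ofNat 0, Int.ofNat 0, Int.negSucc 1, Int.ofNat 2, Int.ofNat 0, Int.negSucc 1, Int.ofNat 0],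
  [Int.negSucc 1, Int.ofNat 0, Int.ofNat 0, Int.ofNat 0, Int.ofNat 0, Int.ofNat 0, Int.ofNat 0, Int.ofNat 0, Int.negSucc 1, Int.ofNat 2, Int.negSucc 1, Int.ofNat 0, Int.ofNat 0, Int.negSucc 1, Int.negSucc 1, Int.ofNat 0, Int.ofNat 0, Int.ofNat 0, Int.ofNat 0, Int.ofNat 0, Int.negSucc 1, Int.ofNat 2, Int.ofNat 0, Int.ofNat 0],
  [Int.ofNat 1, Int.negSucc 0, Int.negSucc 0, Int.ofNat 1, Int.ofNat 1, Int.ofNat 1, Int.negSucc 0, Int.negSucc 0, Int.negSucc 0, Int.ofNat 3, Int.negSucc 0, Int.ofNat 1, Int.ofNat 1, Int.negSucc 0, Int.negSucc 0, Int.ofNat 1, Int.ofNat 1, Int.ofNat 1, Int.ofNat 1, Int.negSucc 0, Int.negSucc 0, Int.ofNat 1, Int.ofNat 1, Int.negSucc 0],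
  [Int.ofNat 1, Int.ofNat 1, Int.ofNat 1, Int.negSucc 0, Int.negSucc 0, Int.negSucc 0, Int.ofNat 3, Int.negSucc 0, Int.ofNat 1, Int.ofNat 1, Int.negSucc 0, Int.negSucc 0, Int.ofNat 1, Int.ofNat 1, Int.ofNat 1, Int.ofNat 1, Int.negSucc 0, Int.negSucc 0, Int.ofNat 1, Int.ofNat 1, Int.ofNat 1, Int.negSucc 0, Int.negSucc 0, Int.negSucc 0],
  [Int.ofNat 0, Int.ofNat 0, Int.ofNat 0, Int.ofNat 0, Int.ofNat 0, Int.ofNat 0, Int.ofNat 2, Int.negSucc 1, Int.ofNat 0, Int.ofNat 0, Int.negSucc 1, Int.negSucc 1, Int.ofNat 0, Int.ofNat 2, Int.ofNat 2, Int.ofNat 0, Int.ofNat 0, Int.ofNat 0, Int.ofNat 0, Int.ofNat 0, Int.ofNat 0, Int.negSucc 1, Int.ofNat 0, Int.ofNat 2],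
  [Int.ofNat 0, Int.ofNat 2, Int.ofNat 0, Int.ofNat 0, Int.ofNat 0, Int.negSucc 1, Int.ofNat 0, Int.negSucc 1, Int.ofNat 0, Int.ofNat 2, Int.ofNat 0, Int.ofNat 0, Int.ofNat 0, Int.ofNat 0, Int.ofNat 0, Int.ofNat 0, Int.ofNat 0, Int.ofNat 2, Int.ofNat 0, Int.negSucc 1, Int.negSucc 1, Int.ofNat 0, Int.ofNat 0, Int.ofNat 2],
  [Int.ofNat 2, Int.ofNat 0, Int.ofNat 2, Int.ofNat 0, Int.ofNat 0, Int.negSucc 1, Int.ofNat 2, Int.ofNat 0, Int.ofNat 0, Int.ofNat 2, Int.ofNat 0, Int.ofNat 0, Int.ofNat 0, Int.ofNat 0, Int.ofNat 0, Int.ofNat 0, Int.ofNat 0, Int.ofNat 2, Int.ofNat 0, Int.ofNat 0, Int.negSucc 1, Int.ofNat 2, Int.ofNat 0, Int.ofNat 0],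
  [Int.ofNat 2, Int.ofNat 0, Int.negSucc 1, Int.ofNat 0, Int.ofNat 0, Int.ofNat 2, Int.negSucc 1, Int.ofNat 0, Int.ofNat 0, Int.negSucc 1, Int.ofNat 0, Int.ofNat 0, Int.ofNat 0, Int.ofNat 0, Int.ofNat 0, Int.ofNat 0, Int.ofNat 0, Int.ofNat 2, Int.ofNat 0, Int.ofNat 0, Int.negSucc 1, Int.ofNat 2, Int.ofNat 0, Int.ofNat 0],
  [Int.ofNat 0, Int.ofNat 0, Int.ofNat 0, Int.ofNat 0, Int.ofNat 0, Int.negSucc 1, Int.ofNat 2, Int.ofNat 0, Int.ofNat 2, Int.negSucc 1, Int.ofNat 0, Int.ofNat 0, Int.ofNat 0, Int.ofNat 0, Int.ofNat 2, Int.ofNat 0, Int.ofNat 0, Int.ofNat 0, Int.negSucc 1, Int.negSucc 1, Int.ofNat 2, Int.ofNat 0, Int.ofNat 0, Int.ofNat 0],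
  [Int.ofNat 0, Int.ofNat 0, Int.ofNat 0, Int.ofNat 0, Int.ofNat 0, Int.negSucc 1, Int.negSucc 1, Int.ofNat 0, Int.negSucc 1, Int.ofNat 2, Int.ofNat 0, Int.ofNat 0, Int.ofNat 0, Int.ofNat 0, Int.ofNat 2, Int.ofNat 0, Int.ofNat 0, Int.ofNat 0, Int.ofNat 2, Int.negSucc 1, Int.ofNat 2, Int.ofNat 0, Int.ofNat 0, Int.ofNat 0],
  [Int.ofNat 0, Int.ofNat 0, Int.ofNat 0, Int.ofNat 0, Int.ofNat 0, Int.ofNat 2, Int.negSucc 1, Int.ofNat 0, Int.ofNat 2, Int.negSucc 1, Int.ofNat 0, Int.ofNat 0, Int.ofNat 0, Int.ofNat 0, Int.ofNat 2, Int.ofNat 0, Int.ofNat 0, Int.ofNat 0, Int.ofNat 2, Int.negSucc 1, Int.negSucc 1, Int.ofNat 0, Int.ofNat 0, Int.ofNat 0],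
  [Int.ofNat 0, Int.ofNat 0, Int.ofNat 0, Int.ofNat 0, Int.ofNat 0, Int.ofNat 2, Int.negSucc 1, Int.ofNat 0, Int.ofNat 2, Int.ofNat 2, Int.ofNat 0, Int.ofNat 0, Int.ofNat 0, Int.ofNat 0, Int.ofNat 2, Int.ofNat 0, Int.ofNat 0, Int.ofNat 0, Int.negSucc 1, Int.negSucc 1, Int.negSucc 1, Int.ofNat 0, Int.ofNat 0, Int.ofNat 0],
  [Int.ofNat 0, Int.ofNat 0, Int.ofNat 0, Int.ofNat 0, Int.ofNat 0, Int.ofNat 0, Int.ofNat 2, Int.negSucc 1, Int.ofNat 0, Int.ofNat 2, Int.ofNat 2, Int.ofNat 0, Int.ofNat 0, Int.ofNat 0, Int.ofNat 0, Int.ofNat 2, Int.ofNat 0, Int.ofNat 0, Int.ofNat 0, Int.negSucc 1, Int.negSucc 1, Int.negSucc 1, Int.ofNat 0, Int.ofNat 0],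
  [Int.ofNat 0, Int.ofNat 0, Int.ofNat 0, Int.ofNat 0, Int.ofNat 0, Int.ofNat 0, Int.ofNat 4, Int.ofNat 0, Int.ofNat 0, Int.ofNat 0, Int.ofNat 0, Int.ofNat 0, Int.ofNat 0, Int.ofNat 0, Int.ofNat 0, Int.ofNat 0, Int.ofNat 0, Int.ofNat 0, Int.ofNat 0, Int.ofNat 0, Int.negSucc 3, Int.ofNat 0, Int.ofNat 0, Int.ofNat 0],
  [Int.ofNat 0, Int.ofNat 0, Int.ofNat 0, Int.ofNat 4, Int.ofNat 0, Int.ofNat 0, Int.ofNat 0, Int.ofNat 0, Int.ofNat 0, Int.ofNat 0, Int.ofNat 0, Int.ofNat 0, Int.ofNat 0, Int.ofNat 0, Int.ofNat 0, Int.ofNat 0, Int.ofNat 0, Int.negSucc 3, Int.ofNat 0, Int.ofNat 0, Int.ofNat 0, Int.ofNat 0, Int.ofNat 0, Int.ofNat 0],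
  [Int.ofNat 0, Int.ofNat 0, Int.ofNat 0, Int.ofNat 4, Int.ofNat 0, Int.ofNat 0, Int.ofNat 0, Int.ofNat 0, Int.ofNat 0, Int.ofNat 0, Int.ofNat 0, Int.ofNat 0, Int.ofNat 0, Int.ofNat 0, Int.ofNat 0, Int.ofNat 0, Int.ofNat 0, Int.negSucc 3, Int.ofNat 0, Int.ofNat 0, Int.ofNat 0, Int.ofNat 0, Int.ofNat 0, Int.ofNat 0],
  [Int.ofNat 0, Int.ofNat 0, Int.ofNat 0, Int.ofNat 4, Int.ofNat 0, Int.ofNat 0, Int.ofNat 0, Int.ofNat 0, Int.ofNat 0, Int.ofNat 0, Int.ofNat 0, Int.negSucc 3, Int.ofNat 0, Int.ofNat 0, Int.ofNat 0, Int.ofNat 0, Int.ofNat 0, Int.ofNat 0, Int.ofNat 0, Int.ofNat 0, Int.ofNat 0, Int.ofNat 0, Int.ofNat 0, Int.ofNat 0],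
  [Int.ofNat 0, Int.ofNat 0, Int.ofNat 0, Int.ofNat 2, Int.ofNat 0, Int.negSucc 1, Int.ofNat 0, Int.ofNat 0, Int.ofNat 2, Int.ofNat 0, Int.ofNat 0, Int.negSucc 1, Int.ofNat 2, Int.ofNat 0, Int.negSucc 1, Int.ofNat 0, Int.ofNat 0, Int.negSucc 1, Int.ofNat 2, Int.ofNat 0, Int.ofNat 0, Int.ofNat 0, Int.ofNat 0, Int.ofNat 0],
  [Int.ofNat 0, Int.ofNat 0, Int.ofNat 0, Int.ofNat 2, Int.ofNat 0, Int.ofNat 2, Int.ofNat 0, Int.ofNat 0, Int.ofNat 2, Int.ofNat 0, Int.ofNat 0, Int.negSucc 1, Int.ofNat 2, Int.ofNat 0, Int.negSucc 1, Int.ofNat 0, Int.ofNat 0, Int.negSucc 1, Int.negSucc 1, Int.ofNat 0, Int.ofNat 0, Int.ofNat 0, Int.ofNat 0, Int.ofNat 0],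
  [Int.negSucc 1, Int.ofNat 2, Int.ofNat 0, Int.ofNat 0, Int.ofNat 0, Int.ofNat 0, Int.ofNat 0, Int.ofNat 0, Int.ofNat 2, Int.ofNat 0, Int.ofNat 0, Int.ofNat 2, Int.ofNat 0, Int.negSucc 1, Int.ofNat 0, Int.ofNat 2, Int.ofNat 0, Int.ofNat 0, Int.ofNat 0, Int.ofNat 0, Int.negSucc 1, Int.ofNat 0, Int.negSucc 1, Int.ofNat 0],
  [Int.negSucc 1, Int.ofNat 2, Int.ofNat 0, Int.ofNat 0, Int.ofNat 0, Int.ofNat 0, Int.ofNat 0, Int.ofNat 0, Int.ofNat 2, Int.ofNat 0, Int.ofNat 0, Int.ofNat 2, Int.ofNat 0, Int.negSucc 1, Int.ofNat 0, Int.negSucc 1, Int.ofNat 0, Int.ofNat 0, Int.ofNat 0, Int.ofNat 0, Int.negSucc 1, Int.ofNat 0, Int.ofNat 2, Int.ofNat 0],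
  [Int.ofNat 2, Int.negSucc 1, Int.ofNat 0, Int.ofNat 0, Int.ofNat 0, Int.ofNat 0, Int.ofNat 0, Int.ofNat 0, Int.ofNat 0, Int.ofNat 2, Int.ofNat 2, Int.ofNat 0, Int.negSucc 1, Int.negSucc 1, Int.ofNat 0, Int.ofNat 0, Int.ofNat 0, Int.ofNat 0, Int.negSucc 1, Int.ofNat 0, Int.ofNat 0, Int.ofNat 0, Int.ofNat 2, Int.ofNat 0],
  [Int.ofNat 2, Int.negSucc 1, Int.ofNat 0, Int.ofNat 0, Int.ofNat 0, Int.ofNat 0, Int.negSucc 1, Int.ofNat 0, Int.ofNat 0, Int.negSucc 1, Int.ofNat 0, Int.ofNat 0, Int.ofNat 0, Int.ofNat 2, Int.ofNat 0, Int.ofNat 0, Int.negSucc 1, Int.ofNat 0, Int.ofNat 0, Int.ofNat 2, Int.ofNat 2, Int.ofNat 0, Int.ofNat 0, Int.ofNat 0],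
  [Int.negSucc 1, Int.ofNat 2, Int.ofNat 0, Int.ofNat 0, Int.ofNat 0, Int.ofNat 0, Int.negSucc 1, Int.ofNat 0, Int.ofNat 0, Int.negSucc 1, Int.ofNat 0, Int.ofNat 0, Int.ofNat 0, Int.ofNat 2, Int.ofNat 0, Int.ofNat 0, Int.negSucc 1, Int.ofNat 0, Int.ofNat 0, Int.ofNat 2, Int.ofNat 2, Int.ofNat 0, Int.ofNat 0, Int.ofNat 0],
  [Int.ofNat 2, Int.ofNat 0, Int.ofNat 0, Int.negSucc 1, Int.ofNat 2, Int.ofNat 0, Int.ofNat 0, Int.ofNat 0, Int.ofNat 0, Int.negSucc 1, Int.ofNat 0, Int.ofNat 0, Int.negSucc 1, Int.ofNat 0, Int.ofNat 0, Int.ofNat 0, Int.ofNat 2, Int.ofNat 0, Int.ofNat 0, Int.negSucc 1, Int.ofNat 0, Int.ofNat 0, Int.ofNat 2, Int.ofNat 0],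
  [Int.negSucc 0, Int.ofNat 1, Int.ofNat 1, Int.negSucc 0, Int.negSucc 0, Int.ofNat 1, Int.ofNat 1, Int.ofNat 1, Int.ofNat 1, Int.negSucc 0, Int.ofNat 1, Int.ofNat 1, Int.negSucc 0, Int.negSucc 2, Int.ofNat 1, Int.ofNat 1, Int.negSucc 0, Int.ofNat 1, Int.ofNat 1, Int.negSucc 0, Int.ofNat 1, Int.ofNat 1, Int.negSucc 0, Int.ofNat 1],
  [Int.ofNat 1, Int.ofNat 1, Int.negSucc 0, Int.negSucc 0, Int.ofNat 1, Int.ofNat 1, Int.ofNat 1, Int.ofNat 1, Int.negSucc 0, Int.ofNat 1, Int.ofNat 1, Int.negSucc 0, Int.negSucc 2, Int.ofNat 1, Int.ofNat 1, Int.negSucc 0, Int.ofNat 1, Int.ofNat 1, Int.negSucc 0, Int.ofNat 1, Int.ofNat 1, Int.negSucc 0, Int.negSucc 0, Int.ofNat 1],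
  [Int.negSucc 0, Int.ofNat 1, Int.ofNat 1, Int.negSucc 0, Int.ofNat 1, Int.ofNat 1, Int.ofNat 1, Int.negSucc 0, Int.negSucc 0, Int.negSucc 0, Int.negSucc 0, Int.ofNat 1, Int.negSucc 2, Int.ofNat 1, Int.ofNat 1, Int.negSucc 0, Int.ofNat 1, Int.ofNat 1, Int.ofNat 1, Int.ofNat 1, Int.ofNat 1, Int.ofNat 1, Int.negSucc 0, Int.ofNat 1],
  [Int.negSucc 0, Int.ofNat 1, Int.ofNat 1, Int.negSucc 0, Int.ofNat 1, Int.negSucc 0, Int.ofNat 1, Int.ofNat 1, Int.negSucc 0, Int.ofNat 1, Int.ofNat 1, Int.ofNat 1, Int.ofNat 1, Int.negSucc 0, Int.ofNat 1, Int.negSucc 0, Int.negSucc 2, Int.negSucc 0, Int.ofNat 1, Int.ofNat 1, Int.ofNat 1, Int.negSucc 0, Int.ofNat 1, Int.ofNat 1],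
  [Int.ofNat 1, Int.ofNat 1, Int.negSucc 0, Int.negSucc 0, Int.ofNat 1, Int.negSucc 0, Int.ofNat 1, Int.negSucc 0, Int.negSucc 0, Int.negSucc 0, Int.negSucc 0, Int.negSucc 0, Int.ofNat 1, Int.negSucc 0, Int.ofNat 1, Int.negSucc 0, Int.negSucc 2, Int.negSucc 0, Int.negSucc 0, Int.ofNat 1, Int.ofNat 1, Int.ofNat 1, Int.ofNat 1, Int.ofNat 1],
  [Int.ofNat 1, Int.ofNat 1, Int.ofNat 1, Int.negSucc 0, Int.negSucc 0, Int.ofNat 1, Int.negSucc 0, Int.ofNat 1, Int.negSucc 0, Int.negSucc 0, Int.negSucc 0, Int.negSucc 0, Int.negSucc 0, Int.ofNat 1, Int.negSucc 0, Int.ofNat 1, Int.negSucc 0, Int.negSucc 2, Int.negSucc 0, Int.negSucc 0, Int.ofNat 1, Int.ofNat 1, Int.ofNat 1, Int.ofNat 1],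
  [Int.ofNat 1, Int.ofNat 1, Int.ofNat 1, Int.ofNat 1, Int.negSucc 0, Int.ofNat 3, Int.negSucc 0, Int.ofNat 1, Int.ofNat 1, Int.negSucc 0, Int.negSucc 0, Int.ofNat 1, Int.ofNat 1, Int.ofNat 1, Int.ofNat 1, Int.ofNat 1, Int.negSucc 0, Int.negSucc 0, Int.ofNat 1, Int.negSucc 0, Int.ofNat 1, Int.ofNat 1, Int.ofNat 1, Int.ofNat 1],
  [Int.ofNat 1, Int.negSucc 0, Int.ofNat 3, Int.negSucc 0, Int.ofNat 1, Int.ofNat 1, Int.negSucc 0, Int.negSucc 0, Int.ofNat 1, Int.ofNat 1, Int.ofNat 1, Int.ofNat 1, Int.ofNat 1, Int.negSucc 0, Int.negSucc 0, Int.ofNat 1, Int.negSucc 0, Int.ofNat 1, Int.ofNat 1, Int.ofNat 1, Int.ofNat 1, Int.ofNat 1, Int.ofNat 1, Int.ofNat 1],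
  [Int.ofNat 1, Int.ofNat 3, Int.negSucc 0, Int.negSucc 0, Int.ofNat 1, Int.ofNat 1, Int.negSucc 0, Int.negSucc 0, Int.negSucc 0, Int.negSucc 0, Int.negSucc 0, Int.negSucc 0, Int.negSucc 0, Int.negSucc 0, Int.negSucc 0, Int.negSucc 0, Int.negSucc 0, Int.ofNat 1, Int.negSucc 0, Int.ofNat 1, Int.negSucc 0, Int.ofNat 1, Int.ofNat 1, Int.ofNat 1],
  [Int.ofNat 1, Int.negSucc 0, Int.ofNat 1, Int.negSucc 0, Int.negSucc 0, Int.negSucc 0, Int.negSucc 0, Int.negSucc 0, Int.negSucc 0, Int.negSucc 0, Int.negSucc 0, Int.ofNat 1, Int.negSucc 0, Int.negSucc 0, Int.ofNat 1, Int.negSucc 0, Int.negSucc 0, Int.negSucc 0, Int.ofNat 3, Int.negSucc 0, Int.ofNat 1, Int.ofNat 1, Int.ofNat 1, Int.ofNat 1],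
  [Int.ofNat 0, Int.ofNat 2, Int.ofNat 0, Int.ofNat 0, Int.ofNat 0, Int.ofNat 0, Int.ofNat 0, Int.ofNat 0, Int.negSucc 1, Int.ofNat 0, Int.ofNat 0, Int.ofNat 0, Int.negSucc 1, Int.ofNat 0, Int.ofNat 2, Int.ofNat 0, Int.ofNat 0, Int.ofNat 0, Int.ofNat 2, Int.ofNat 0, Int.ofNat 2, Int.ofNat 2, Int.ofNat 2, Int.ofNat 0],
  [Int.ofNat 0, Int.ofNat 2, Int.ofNat 0, Int.ofNat 0, Int.ofNat 0, Int.ofNat 0, Int.ofNat 0, Int.ofNat 0, Int.negSucc 1, Int.ofNat 0, Int.ofNat 0, Int.ofNat 0, Int.negSucc 1, Int.ofNat 0, Int.ofNat 2, Int.ofNat 0, Int.ofNat 0, Int.ofNat 0, Int.negSucc 1, Int.ofNat 0, Int.ofNat 2, Int.ofNat 2, Int.negSucc 1, Int.ofNat 0],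
  [Int.ofNat 0, Int.ofNat 0, Int.ofNat 0, Int.negSucc 1, Int.ofNat 2, Int.ofNat 0, Int.ofNat 2, Int.ofNat 0, Int.ofNat 0, Int.ofNat 2, Int.ofNat 0, Int.ofNat 0, Int.ofNat 0, Int.ofNat 0, Int.ofNat 0, Int.negSucc 1, Int.ofNat 0, Int.negSucc 1, Int.ofNat 0, Int.ofNat 0, Int.ofNat 0, Int.ofNat 2, Int.negSucc 1, Int.ofNat 0],
  [Int.ofNat 0, Int.ofNat 0, Int.ofNat 0, Int.ofNat 2, Int.negSucc 1, Int.ofNat 0, Int.negSucc 1, Int.ofNat 0, Int.ofNat 0, Int.negSucc 1, Int.ofNat 0, Int.ofNat 0, Int.ofNat 0, Int.ofNat 0, Int.ofNat 0, Int.negSucc 1, Int.ofNat 0, Int.negSucc 1, Int.ofNat 0, Int.ofNat 0, Int.ofNat 0, Int.ofNat 2, Int.negSucc 1, Int.ofNat 0],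
  [Int.ofNat 0, Int.negSucc 1, Int.ofNat 0, Int.negSucc 1, Int.negSucc 1, Int.negSucc 1, Int.ofNat 0, Int.ofNat 0, Int.ofNat 0, Int.ofNat 0, Int.ofNat 0, Int.ofNat 0, Int.ofNat 2, Int.ofNat 0, Int.ofNat 0, Int.ofNat 2, Int.ofNat 0, Int.negSucc 1, Int.ofNat 0, Int.negSucc 1, Int.ofNat 0, Int.ofNat 0, Int.ofNat 0, Int.ofNat 0],
  [Int.ofNat 0, Int.negSucc 1, Int.ofNat 0, Int.negSucc 1, Int.negSucc 1, Int.negSucc 1, Int.ofNat 0, Int.ofNat 0, Int.ofNat 0, Int.ofNat 0, Int.ofNat 0, Int.ofNat 0, Int.ofNat 2, Int.ofNat 0, Int.ofNat 0, Int.ofNat 2, Int.ofNat 0, Int.negSucc 1, Int.ofNat 0, Int.negSucc 1, Int.ofNat 0, Int.ofNat 0, Int.ofNat 0, Int.ofNat 0],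
  [Int.ofNat 0, Int.ofNat 0, Int.negSucc 1, Int.ofNat 0, Int.negSucc 1, Int.negSucc 1, Int.negSucc 1, Int.ofNat 0, Int.ofNat 0, Int.ofNat 0, Int.ofNat 0, Int.ofNat 0, Int.ofNat 0, Int.ofNat 2, Int.ofNat 0, Int.ofNat 0, Int.ofNat 2, Int.ofNat 0, Int.negSucc 1, Int.ofNat 0, Int.negSucc 1, Int.ofNat 0, Int.ofNat 0, Int.ofNat 0],
  [Int.negSucc 0, Int.negSucc 0, Int.ofNat 1, Int.ofNat 1, Int.negSucc 2, Int.negSucc 0, Int.negSucc 0, Int.ofNat 1, Int.ofNat 1, Int.ofNat 1, Int.ofNat 1, Int.ofNat 1, Int.ofNat 1, Int.ofNat 1, Int.ofNat 1, Int.ofNat 1, Int.ofNat 1, Int.ofNat 1, Int.negSucc 0, Int.ofNat 1, Int.negSucc 0, Int.ofNat 1, Int.negSucc 0, Int.negSucc 0],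
  [Int.ofNat 1, Int.negSucc 2, Int.negSucc 0, Int.negSucc 0, Int.ofNat 1, Int.ofNat 1, Int.ofNat 1, Int.ofNat 1, Int.ofNat 1, Int.ofNat 1, Int.ofNat 1, Int.ofNat 1, Int.ofNat 1, Int.ofNat 1, Int.ofNat 1, Int.negSucc 0, Int.ofNat 1, Int.negSucc 0, Int.ofNat 1, Int.negSucc 0, Int.negSucc 0, Int.negSucc 0, Int.ofNat 1, Int.negSucc 0],
  [Int.negSucc 2, Int.ofNat 1, Int.negSucc 0, Int.negSucc 0, Int.negSucc 0, Int.ofNat 1, Int.ofNat 1, Int.ofNat 1, Int.negSucc 0, Int.ofNat 1, Int.ofNat 1, Int.negSucc 0, Int.negSucc 0, Int.negSucc 0, Int.ofNat 1, Int.negSucc 0, Int.negSucc 0, Int.negSucc 0, Int.negSucc 0, Int.negSucc 0, Int.negSucc 0, Int.negSucc 0, Int.negSucc 0, Int.negSucc 0],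
  [Int.negSucc 2, Int.ofNat 1, Int.negSucc 0, Int.negSucc 0, Int.negSucc 0, Int.ofNat 1, Int.negSucc 0, Int.ofNat 1, Int.negSucc 0, Int.negSucc 0, Int.negSucc 0, Int.negSucc 0, Int.ofNat 1, Int.negSucc 0, Int.negSucc 0, Int.negSucc 0, Int.negSucc 0, Int.ofNat 1, Int.ofNat 1, Int.negSucc 0, Int.negSucc 0, Int.ofNat 1, Int.negSucc 0, Int.negSucc 0],
  [Int.ofNat 1, Int.negSucc 2, Int.negSucc 0, Int.negSucc 0, Int.ofNat 1, Int.ofNat 1, Int.negSucc 0, Int.ofNat 1, Int.negSucc 0, Int.ofNat 1, Int.ofNat 1, Int.negSucc 0, Int.ofNat 1, Int.ofNat 1, Int.negSucc 0, Int.ofNat 1, Int.ofNat 1, Int.ofNat 1, Int.ofNat 1, Int.negSucc 0, Int.ofNat 1, Int.ofNat 1, Int.ofNat 1, Int.negSucc 0],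
  [Int.ofNat 1, Int.negSucc 2, Int.ofNat 1, Int.negSucc 0, Int.ofNat 1, Int.negSucc 0, Int.ofNat 1, Int.ofNat 1, Int.negSucc 0, Int.negSucc 0, Int.negSucc 0, Int.negSucc 0, Int.ofNat 1, Int.ofNat 1, Int.negSucc 0, Int.negSucc 0, Int.ofNat 1, Int.ofNat 1, Int.negSucc 0, Int.negSucc 0, Int.ofNat 1, Int.ofNat 1, Int.negSucc 0, Int.negSucc 0],
  [Int.negSucc 0, Int.negSucc 0, Int.ofNat 1, Int.negSucc 0, Int.negSucc 0, Int.ofNat 1, Int.ofNat 1, Int.negSucc 0, Int.negSucc 0, Int.negSucc 0, Int.ofNat 1, Int.negSucc 0, Int.negSucc 0, Int.negSucc 0, Int.ofNat 1, Int.ofNat 1, Int.ofNat 1, Int.ofNat 1, Int.ofNat 1, Int.negSucc 2, Int.ofNat 1, Int.ofNat 1, Int.negSucc 0, Int.negSucc 0],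
  [Int.negSucc 0, Int.negSucc 0, Int.negSucc 0, Int.negSucc 0, Int.negSucc 0, Int.negSucc 0, Int.negSucc 0, Int.negSucc 0, Int.negSucc 0, Int.ofNat 1, Int.negSucc 0, Int.negSucc 0, Int.negSucc 0, Int.negSucc 0, Int.ofNat 1, Int.negSucc 0, Int.ofNat 1, Int.ofNat 1, Int.negSucc 0, Int.negSucc 2, Int.ofNat 1, Int.ofNat 1, Int.ofNat 1, Int.negSucc 0],
  [Int.negSucc 0, Int.negSucc 0, Int.negSucc 0, Int.negSucc 0, Int.negSucc 0, Int.negSucc 0, Int.ofNat 1, Int.ofNat 1, Int.ofNat 1, Int.ofNat 1, Int.negSucc 0, Int.ofNat 1, Int.ofNat 1, Int.negSucc 0, Int.ofNat 1, Int.negSucc 0, Int.ofNat 1, Int.ofNat 1, Int.ofNat 1, Int.negSucc 0, Int.ofNat 1, Int.ofNat 3, Int.ofNat 1, Int.negSucc 0],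
  [Int.negSucc 0, Int.ofNat 1, Int.ofNat 1, Int.negSucc 0, Int.negSucc 0, Int.ofNat 3, Int.negSucc 0, Int.negSucc 0, Int.ofNat 1, Int.ofNat 1, Int.ofNat 1, Int.negSucc 0, Int.ofNat 1, Int.ofNat 1, Int.ofNat 1, Int.negSucc 0, Int.negSucc 0, Int.ofNat 1, Int.negSucc 0, Int.ofNat 1, Int.negSucc 0, Int.ofNat 1, Int.ofNat 1, Int.negSucc 0],
  [Int.ofNat 1, Int.negSucc 0, Int.negSucc 0, Int.negSucc 2, Int.negSucc 0, Int.ofNat 1, Int.negSucc 0, Int.negSucc 0, Int.ofNat 1, Int.ofNat 1, Int.ofNat 1, Int.negSucc 0, Int.ofNat 1, Int.ofNat 1, Int.negSucc 0, Int.negSucc 0, Int.negSucc 0, Int.negSucc 0, Int.negSucc 0, Int.ofNat 1, Int.negSucc 0, Int.ofNat 1, Int.ofNat 1, Int.ofNat 1],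
  [Int.negSucc 0, Int.ofNat 1, Int.ofNat 1, Int.ofNat 1, Int.negSucc 0, Int.negSucc 0, Int.negSucc 2, Int.negSucc 0, Int.ofNat 1, Int.negSucc 0, Int.negSucc 0, Int.ofNat 1, Int.ofNat 1, Int.ofNat 1, Int.negSucc 0, Int.ofNat 1, Int.ofNat 1, Int.negSucc 0, Int.negSucc 0, Int.negSucc 0, Int.negSucc 0, Int.negSucc 0, Int.ofNat 1, Int.ofNat 1],
  [Int.ofNat 2, Int.ofNat 0, Int.ofNat 0, Int.ofNat 2, Int.negSucc 1, Int.ofNat 0, Int.ofNat 0, Int.ofNat 2, Int.ofNat 0, Int.ofNat 0, Int.ofNat 0, Int.ofNat 0, Int.ofNat 0, Int.ofNat 0, Int.ofNat 0, Int.ofNat 2, Int.ofNat 0, Int.ofNat 0, Int.negSucc 1, Int.ofNat 2, Int.ofNat 0, Int.ofNat 2, Int.ofNat 0, Int.ofNat 0],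
  [Int.ofNat 0, Int.ofNat 0, Int.ofNat 2, Int.negSucc 1, Int.ofNat 0, Int.ofNat 0, Int.ofNat 2, Int.ofNat 0, Int.ofNat 0, Int.ofNat 0, Int.ofNat 0, Int.ofNat 0, Int.ofNat 0, Int.ofNat 0, Int.ofNat 2, Int.ofNat 0, Int.ofNat 0, Int.negSucc 1, Int.ofNat 2, Int.ofNat 0, Int.ofNat 2, Int.ofNat 0, Int.ofNat 2, Int.ofNat 0],
  [Int.ofNat 0, Int.ofNat 0, Int.negSucc 1, Int.negSucc 1, Int.ofNat 0, Int.ofNat 0, Int.ofNat 2, Int.ofNat 0, Int.ofNat 0, Int.ofNat 0, Int.ofNat 0, Int.ofNat 0, Int.ofNat 0, Int.ofNat 0, Int.ofNat 2, Int.ofNat 0, Int.ofNat 0, Int.negSucc 1, Int.negSucc 1, Int.ofNat 0, Int.ofNat 2, Int.ofNat 0, Int.ofNat 2, Int.ofNat 0],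
  [Int.ofNat 0, Int.negSucc 1, Int.negSucc 1, Int.negSucc 1, Int.ofNat 0, Int.ofNat 0, Int.ofNat 0, Int.ofNat 2, Int.ofNat 0, Int.ofNat 0, Int.ofNat 0, Int.ofNat 2, Int.ofNat 0, Int.ofNat 0, Int.ofNat 0, Int.ofNat 0, Int.ofNat 0, Int.ofNat 2, Int.ofNat 2, Int.negSucc 1, Int.ofNat 0, Int.ofNat 0, Int.ofNat 0, Int.ofNat 0],
  [Int.ofNat 0, Int.negSucc 1, Int.ofNat 2, Int.negSucc 1, Int.ofNat 0, Int.ofNat 0, Int.ofNat 0, Int.negSucc 1, Int.ofNat 0, Int.ofNat 0, Int.ofNat 0, Int.negSucc 1, Int.ofNat 0, Int.ofNat 0, Int.ofNat 0, Int.ofNat 0, Int.ofNat 0, Int.ofNat 2, Int.negSucc 1, Int.negSucc 1, Int.ofNat 0, Int.ofNat 0, Int.ofNat 0, Int.ofNat 0],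
  [Int.ofNat 0, Int.ofNat 0, Int.negSucc 1, Int.ofNat 2, Int.negSucc 1, Int.ofNat 0, Int.ofNat 0, Int.ofNat 0, Int.negSucc 1, Int.ofNat 0, Int.ofNat 0, Int.ofNat 0, Int.negSucc 1, Int.ofNat 0, Int.ofNat 0, Int.ofNat 0, Int.ofNat 0, Int.ofNat 0, Int.ofNat 2, Int.negSucc 1, Int.negSucc 1, Int.ofNat 0, Int.ofNat 0, Int.ofNat 0],
  [Int.negSucc 0, Int.negSucc 0, Int.ofNat 1, Int.ofNat 1, Int.negSucc 0, Int.negSucc 0, Int.ofNat 1, Int.ofNat 1, Int.negSucc 0, Int.ofNat 1, Int.ofNat 1, Int.ofNat 1, Int.negSucc 0, Int.ofNat 1, Int.negSucc 0, Int.ofNat 1, Int.ofNat 1, Int.negSucc 0, Int.ofNat 3, Int.negSucc 0, Int.negSucc 0, Int.ofNat 1, Int.ofNat 1, Int.negSucc 0],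
  [Int.ofNat 1, Int.negSucc 0, Int.negSucc 0, Int.ofNat 1, Int.ofNat 1, Int.negSucc 0, Int.ofNat 1, Int.ofNat 1, Int.ofNat 1, Int.negSucc 0, Int.ofNat 1, Int.negSucc 0, Int.ofNat 1, Int.ofNat 1, Int.negSucc 0, Int.ofNat 3, Int.negSucc 0, Int.negSucc 0, Int.ofNat 1, Int.ofNat 1, Int.negSucc 0, Int.negSucc 0, Int.ofNat 1, Int.negSucc 0],
  [Int.negSucc 1, Int.ofNat 0, Int.ofNat 0, Int.ofNat 2, Int.ofNat 0, Int.ofNat 0, Int.ofNat 0, Int.ofNat 0, Int.ofNat 0, Int.negSucc 1, Int.ofNat 0, Int.negSucc 1, Int.ofNat 0, Int.ofNat 0, Int.ofNat 0, Int.ofNat 2, Int.negSucc 1, Int.ofNat 0, Int.ofNat 0, Int.ofNat 0, Int.negSucc 1, Int.negSucc 1, Int.ofNat 0, Int.ofNat 0],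
  [Int.negSucc 1, Int.ofNat 0, Int.ofNat 0, Int.ofNat 2, Int.ofNat 0, Int.ofNat 0, Int.ofNat 0, Int.ofNat 0, Int.ofNat 0, Int.ofNat 0, Int.negSucc 1, Int.ofNat 0, Int.negSucc 1, Int.negSucc 1, Int.ofNat 0, Int.ofNat 2, Int.ofNat 0, Int.ofNat 0, Int.ofNat 0, Int.negSucc 1, Int.negSucc 1, Int.ofNat 0, Int.ofNat 0, Int.ofNat 0],
  [Int.ofNat 1, Int.negSucc 0, Int.negSucc 0, Int.ofNat 1, Int.ofNat 1, Int.negSucc 0, Int.ofNat 1, Int.ofNat 1, Int.ofNat 1, Int.ofNat 1, Int.negSucc 0, Int.ofNat 1, Int.negSucc 0, Int.negSucc 0, Int.negSucc 0, Int.ofNat 3, Int.ofNat 1, Int.negSucc 0, Int.ofNat 1, Int.negSucc 0, Int.negSucc 0, Int.ofNat 1, Int.ofNat 1, Int.negSucc 0],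
  [Int.ofNat 1, Int.negSucc 0, Int.ofNat 1, Int.ofNat 1, Int.ofNat 1, Int.ofNat 1, Int.negSucc 0, Int.ofNat 1, Int.ofNat 1, Int.negSucc 0, Int.ofNat 1, Int.ofNat 1, Int.negSucc 0, Int.negSucc 0, Int.negSucc 0, Int.negSucc 2, Int.ofNat 1, Int.negSucc 0, Int.negSucc 0, Int.negSucc 0, Int.negSucc 0, Int.ofNat 1, Int.negSucc 0, Int.negSucc 0],
  [Int.ofNat 1, Int.ofNat 1, Int.ofNat 1, Int.ofNat 1, Int.negSucc 0, Int.negSucc 0, Int.ofNat 1, Int.ofNat 1, Int.ofNat 1, Int.negSucc 0, Int.negSucc 0, Int.ofNat 1, Int.negSucc 2, Int.ofNat 1, Int.negSucc 0, Int.negSucc 0, Int.negSucc 0, Int.negSucc 0, Int.negSucc 0, Int.ofNat 1, Int.ofNat 1, Int.negSucc 0, Int.negSucc 0, Int.negSucc 0],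
  [Int.negSucc 0, Int.negSucc 0, Int.negSucc 0, Int.negSucc 0, Int.ofNat 1, Int.negSucc 0, Int.negSucc 0, Int.ofNat 1, Int.negSucc 0, Int.ofNat 1, Int.negSucc 0, Int.ofNat 1, Int.ofNat 3, Int.negSucc 0, Int.negSucc 0, Int.negSucc 0, Int.ofNat 1, Int.negSucc 0, Int.ofNat 1, Int.ofNat 1, Int.ofNat 1, Int.negSucc 0, Int.negSucc 0, Int.negSucc 0],
  [Int.negSucc 0, Int.negSucc 0, Int.ofNat 1, Int.negSucc 0, Int.negSucc 0, Int.ofNat 1, Int.ofNat 1, Int.negSucc 0, Int.ofNat 1, Int.negSucc 0, Int.ofNat 1, Int.negSucc 0, Int.negSucc 0, Int.ofNat 1, Int.ofNat 1, Int.negSucc 0, Int.negSucc 0, Int.ofNat 1, Int.negSucc 0, Int.negSucc 0, Int.negSucc 0, Int.ofNat 3, Int.negSucc 0, Int.negSucc 0],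
  [Int.ofNat 1, Int.negSucc 0, Int.negSucc 0, Int.negSucc 0, Int.negSucc 0, Int.ofNat 1, Int.ofNat 1, Int.ofNat 1, Int.ofNat 1, Int.ofNat 1, Int.negSucc 0, Int.ofNat 1, Int.negSucc 0, Int.ofNat 1, Int.ofNat 1, Int.negSucc 0, Int.negSucc 0, Int.ofNat 1, Int.ofNat 1, Int.negSucc 0, Int.negSucc 0, Int.negSucc 2, Int.negSucc 0, Int.negSucc 0],
  [Int.negSucc 0, Int.ofNat 1, Int.negSucc 0, Int.negSucc 0, Int.negSucc 0, Int.negSucc 0, Int.ofNat 1, Int.ofNat 1, Int.ofNat 1, Int.ofNat 1, Int.ofNat 1, Int.negSucc 0, Int.ofNat 1, Int.negSucc 0, Int.ofNat 1, Int.ofNat 1, Int.negSucc 0, Int.negSucc 0, Int.ofNat 1, Int.ofNat 1, Int.negSucc 0, Int.negSucc 0, Int.negSucc 2, Int.negSucc 0],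
  [Int.ofNat 0, Int.negSucc 1, Int.ofNat 0, Int.ofNat 0, Int.ofNat 2, Int.ofNat 0, Int.ofNat 0, Int.ofNat 0, Int.ofNat 0, Int.ofNat 0, Int.ofNat 0, Int.negSucc 1, Int.ofNat 0, Int.ofNat 2, Int.ofNat 2, Int.ofNat 0, Int.ofNat 2, Int.ofNat 0, Int.ofNat 0, Int.ofNat 0, Int.negSucc 1, Int.negSucc 1, Int.ofNat 0, Int.ofNat 0],
  [Int.ofNat 0, Int.ofNat 2, Int.ofNat 0, Int.ofNat 0, Int.ofNat 0, Int.ofNat 0, Int.ofNat 0, Int.ofNat 0, Int.negSucc 1, Int.ofNat 0, Int.ofNat 2, Int.ofNat 2, Int.ofNat 0, Int.ofNat 2, Int.ofNat 0, Int.ofNat 0, Int.ofNat 0, Int.negSucc 1, Int.negSucc 1, Int.ofNat 0, Int.ofNat 0, Int.negSucc 1, Int.ofNat 0, Int.ofNat 0],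
  [Int.ofNat 1, Int.negSucc 0, Int.ofNat 1, Int.ofNat 1, Int.negSucc 0, Int.ofNat 1, Int.ofNat 1, Int.ofNat 1, Int.negSucc 0, Int.negSucc 0, Int.ofNat 1, Int.ofNat 3, Int.ofNat 1, Int.ofNat 1, Int.ofNat 1, Int.negSucc 0, Int.negSucc 0, Int.negSucc 0, Int.negSucc 0, Int.ofNat 1, Int.negSucc 0, Int.negSucc 0, Int.negSucc 0, Int.ofNat 1],
  [Int.ofNat 1, Int.ofNat 1, Int.negSucc 0, Int.ofNat 1, Int.negSucc 0, Int.ofNat 1, Int.ofNat 1, Int.ofNat 1, Int.ofNat 1, Int.ofNat 1, Int.negSucc 0, Int.negSucc 0, Int.negSucc 0, Int.negSucc 0, Int.negSucc 0, Int.negSucc 0, Int.negSucc 0, Int.ofNat 1, Int.negSucc 0, Int.ofNat 3, Int.negSucc 0, Int.ofNat 1, Int.ofNat 1, Int.ofNat 1],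
  [Int.ofNat 0, Int.ofNat 0, Int.ofNat 2, Int.ofNat 0, Int.ofNat 0, Int.ofNat 0, Int.negSucc 1, Int.negSucc 1, Int.ofNat 2, Int.ofNat 2, Int.ofNat 0, Int.ofNat 0, Int.ofNat 0, Int.ofNat 0, Int.negSucc 1, Int.ofNat 0, Int.ofNat 0, Int.ofNat 0, Int.ofNat 0, Int.ofNat 0, Int.ofNat 0, Int.negSucc 1, Int.ofNat 2, Int.ofNat 0],
  [Int.ofNat 0, Int.ofNat 0, Int.negSucc 1, Int.ofNat 0, Int.ofNat 0, Int.ofNat 0, Int.ofNat 2, Int.negSucc 1, Int.ofNat 2, Int.negSucc 1, Int.ofNat 0, Int.ofNat 0, Int.ofNat 0, Int.ofNat 0, Int.negSucc 1, Int.ofNat 0, Int.ofNat 0, Int.ofNat 0, Int.ofNat 0, Int.ofNat 0, Int.ofNat 0, Int.negSucc 1, Int.negSucc 1, Int.ofNat 0],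
  [Int.ofNat 0, Int.ofNat 2, Int.ofNat 0, Int.ofNat 0, Int.negSucc 1, Int.ofNat 0, Int.ofNat 0, Int.ofNat 0, Int.ofNat 0, Int.ofNat 0, Int.ofNat 2, Int.ofNat 0, Int.negSucc 1, Int.ofNat 0, Int.ofNat 0, Int.ofNat 0, Int.negSucc 1, Int.negSucc 1, Int.ofNat 0, Int.ofNat 0, Int.ofNat 0, Int.negSucc 1, Int.negSucc 1, Int.ofNat 0],
  [Int.ofNat 0, Int.ofNat 2, Int.ofNat 0, Int.ofNat 0, Int.negSucc 1, Int.ofNat 0, Int.ofNat 0, Int.ofNat 0, Int.ofNat 0, Int.ofNat 0, Int.negSucc 1, Int.ofNat 0, Int.negSucc 1, Int.ofNat 0, Int.ofNat 0, Int.ofNat 0, Int.negSucc 1, Int.negSucc 1, Int.ofNat 0, Int.ofNat 0, Int.ofNat 0, Int.negSucc 1, Int.ofNat 2, Int.ofNat 0],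
  [Int.ofNat 1, Int.negSucc 0, Int.ofNat 1, Int.ofNat 1, Int.negSucc 0, Int.ofNat 1, Int.ofNat 1, Int.ofNat 1, Int.ofNat 1, Int.ofNat 1, Int.negSucc 0, Int.ofNat 1, Int.negSucc 0, Int.ofNat 1, Int.ofNat 1, Int.ofNat 1, Int.negSucc 0, Int.negSucc 0, Int.ofNat 1, Int.ofNat 1, Int.ofNat 1, Int.negSucc 0, Int.ofNat 3, Int.ofNat 1],
  [Int.ofNat 1, Int.ofNat 1, Int.ofNat 1, Int.ofNat 1, Int.ofNat 1, Int.negSucc 0, Int.negSucc 0, Int.ofNat 1, Int.negSucc 0, Int.negSucc 0, Int.ofNat 1, Int.ofNat 1, Int.ofNat 1, Int.ofNat 1, Int.negSucc 0, Int.ofNat 1, Int.ofNat 1, Int.ofNat 1, Int.negSucc 0, Int.ofNat 3, Int.negSucc 0, Int.ofNat 1, Int.ofNat 1, Int.ofNat 1],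
  [Int.ofNat 1, Int.ofNat 1, Int.ofNat 1, Int.ofNat 1, Int.negSucc 0, Int.negSucc 0, Int.negSucc 2, Int.negSucc 0, Int.negSucc 0, Int.negSucc 0, Int.ofNat 1, Int.ofNat 1, Int.ofNat 1, Int.negSucc 0, Int.negSucc 0, Int.ofNat 1, Int.negSucc 0, Int.ofNat 1, Int.negSucc 0, Int.ofNat 1, Int.negSucc 0, Int.negSucc 0, Int.negSucc 0, Int.ofNat 1],
  [Int.negSucc 0, Int.negSucc 0, Int.negSucc 0, Int.ofNat 1, Int.ofNat 1, Int.ofNat 1, Int.ofNat 1, Int.negSucc 0, Int.negSucc 0, Int.negSucc 2, Int.negSucc 0, Int.negSucc 0, Int.negSucc 0, Int.ofNat 1, Int.ofNat 1, Int.ofNat 1, Int.negSucc 0, Int.negSucc 0, Int.ofNat 1, Int.negSucc 0, Int.ofNat 1, Int.negSucc 0, Int.ofNat 1, Int.ofNat 1],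
  [Int.ofNat 0, Int.ofNat 0, Int.ofNat 0, Int.ofNat 0, Int.ofNat 0, Int.ofNat 0, Int.ofNat 2, Int.ofNat 0, Int.ofNat 0, Int.negSucc 1, Int.ofNat 0, Int.ofNat 0, Int.ofNat 0, Int.ofNat 0, Int.ofNat 0, Int.ofNat 2, Int.negSucc 1, Int.negSucc 1, Int.ofNat 2, Int.ofNat 0, Int.ofNat 2, Int.ofNat 0, Int.ofNat 0, Int.negSucc 1],
  [Int.ofNat 0, Int.ofNat 0, Int.ofNat 0, Int.ofNat 0, Int.ofNat 0, Int.ofNat 2, Int.ofNat 0, Int.ofNat 0, Int.negSucc 1, Int.ofNat 0, Int.ofNat 0, Int.ofNat 0, Int.ofNat 0, Int.ofNat 0, Int.ofNat 2, Int.negSucc 1, Int.negSucc 1, Int.ofNat 2, Int.ofNat 0, Int.ofNat 2, Int.ofNat 0, Int.ofNat 0, Int.ofNat 0, Int.negSucc 1],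
  [Int.ofNat 0, Int.ofNat 0, Int.ofNat 0, Int.ofNat 0, Int.ofNat 0, Int.ofNat 2, Int.ofNat 0, Int.ofNat 0, Int.negSucc 1, Int.ofNat 0, Int.ofNat 0, Int.ofNat 0, Int.ofNat 0, Int.ofNat 0, Int.ofNat 2, Int.negSucc 1, Int.negSucc 1, Int.ofNat 2, Int.ofNat 0, Int.ofNat 2, Int.ofNat 0, Int.ofNat 0, Int.ofNat 0, Int.negSucc 1]]

set_option maxRecDepth 100000 in
theorem c1et13_chk : pmChk (List.replicate 14 [13, 0, 25, 26]).flatten nxL c1et13M 0 0 = true := by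
  decide +kernel

theorem c1et13_ne : wE letE2 (List.replicate 14 [13, 0, 25, 26]).flatten ≠ 1 ∧ wE letE2 (List.replicate 14 [13, 0, 25, 26]).flatten ≠ negElt :=
  ne_pm_of_chk nxL_mem c1et13_chk

set_option maxRecDepth 100000 in
def c1et14M : List (List ℤ) :=
  [[Int.negSucc 3, Int.ofNat 0, Int.ofNat 0, Int.ofNat 0, Int.ofNat 0, Int.ofNat 0, Int.ofNat 0, Int.ofNat 0, Int.ofNat 0, Int.ofNat 0, Int.ofNat 0, Int.ofNat 0, Int.ofNat 0, Int.ofNat 0, Int.ofNat 0, Int.ofNat 0, Int.ofNat 0, Int.ofNat 0, Int.ofNat 0, Int.ofNat 0, Int.ofNat 0, Int.ofNat 0, Int.ofNat 0, Int.ofNat 4],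
  [Int.ofNat 4, Int.ofNat 0, Int.ofNat 0, Int.ofNat 0, Int.ofNat 0, Int.ofNat 0, Int.ofNat 0, Int.ofNat 0, Int.ofNat 0, Int.ofNat 0, Int.ofNat 0, Int.ofNat 0, Int.ofNat 0, Int.ofNat 0, Int.ofNat 0, Int.ofNat 0, Int.ofNat 0, Int.ofNat 0, Int.ofNat 0, Int.ofNat 0, Int.ofNat 0, Int.ofNat 0, Int.ofNat 0, Int.ofNat 4],
  [Int.ofNat 0, Int.ofNat 4, Int.ofNat 0, Int.ofNat 0, Int.ofNat 0, Int.ofNat 0, Int.ofNat 0, Int.ofNat 0, Int.ofNat 0, Int.ofNat 0, Int.ofNat 0, Int.ofNat 0, Int.ofNat 0, Int.ofNat 0, Int.ofNat 0, Int.ofNat 0, Int.ofNat 0, Int.ofNat 0, Int.ofNat 0, Int.ofNat 0, Int.ofNat 0, Int.ofNat 0, Int.ofNat 0, Int.ofNat 4],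
  [Int.ofNat 4, Int.ofNat 0, Int.ofNat 4, Int.ofNat 0, Int.ofNat 0, Int.ofNat 0, Int.ofNat 0, Int.ofNat 0, Int.ofNat 0, Int.ofNat 0, Int.ofNat 0, Int.ofNat 0, Int.ofNat 0, Int.ofNat 0, Int.ofNat 0, Int.ofNat 0, Int.ofNat 0, Int.ofNat 0, Int.ofNat 0, Int.ofNat 0, Int.ofNat 0, Int.ofNat 0, Int.ofNat 0, Int.ofNat 0],
  [Int.ofNat 0, Int.ofNat 0, Int.ofNat 0, Int.ofNat 0, Int.ofNat 0, Int.ofNat 0, Int.ofNat 0, Int.ofNat 0, Int.ofNat 0, Int.ofNat 0, Int.ofNat 0, Int.ofNat 0, Int.ofNat 0, Int.ofNat 0, Int.ofNat 0, Int.ofNat 0, Int.ofNat 0, Int.ofNat 0, Int.ofNat 0, Int.ofNat 0, Int.ofNat 4, Int.ofNat 0, Int.ofNat 4, Int.ofNat 0],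
  [Int.ofNat 0, Int.ofNat 0, Int.ofNat 0, Int.ofNat 0, Int.negSucc 1, Int.ofNat 0, Int.ofNat 0, Int.ofNat 0, Int.ofNat 0, Int.negSucc 1, Int.negSucc 1, Int.ofNat 0, Int.ofNat 0, Int.negSucc 1, Int.ofNat 0, Int.negSucc 1, Int.negSucc 1, Int.ofNat 0, Int.ofNat 0, Int.ofNat 0, Int.ofNat 2, Int.ofNat 0, Int.ofNat 2, Int.ofNat 0],
  [Int.ofNat 0, Int.ofNat 0, Int.negSucc 1, Int.ofNat 0, Int.ofNat 0, Int.ofNat 0, Int.ofNat 0, Int.negSucc 1, Int.ofNat 0, Int.negSucc 1, Int.ofNat 2, Int.ofNat 0, Int.negSucc 1, Int.negSucc 1, Int.ofNat 2, Int.negSucc 1, Int.ofNat 0, Int.ofNat 0, Int.ofNat 0, Int.ofNat 0, Int.ofNat 0, Int.ofNat 0, Int.ofNat 0, Int.ofNat 0],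
  [Int.negSucc 0, Int.negSucc 0, Int.ofNat 1, Int.negSucc 0, Int.ofNat 1, Int.negSucc 0, Int.ofNat 1, Int.negSucc 0, Int.ofNat 1, Int.negSucc 0, Int.ofNat 3, Int.ofNat 1, Int.negSucc 0, Int.negSucc 0, Int.ofNat 1, Int.negSucc 0, Int.ofNat 1, Int.negSucc 0, Int.ofNat 1, Int.ofNat 1, Int.ofNat 1, Int.ofNat 1, Int.ofNat 1, Int.negSucc 0],
  [Int.negSucc 0, Int.negSucc 0, Int.negSucc 0, Int.negSucc 0, Int.ofNat 1, Int.ofNat 1, Int.negSucc 0, Int.negSucc 0, Int.ofNat 1, Int.ofNat 1, Int.negSucc 2, Int.ofNat 1, Int.negSucc 0, Int.negSucc 0, Int.ofNat 1, Int.ofNat 1, Int.ofNat 1, Int.negSucc 0, Int.negSucc 0, Int.ofNat 1, Int.ofNat 1, Int.ofNat 1, Int.negSucc 0, Int.negSucc 0],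
  [Int.negSucc 2, Int.ofNat 1, Int.ofNat 1, Int.ofNat 1, Int.ofNat 1, Int.negSucc 0, Int.ofNat 1, Int.negSucc 0, Int.ofNat 1, Int.ofNat 1, Int.negSucc 0, Int.negSucc 0, Int.ofNat 1, Int.ofNat 1, Int.negSucc 0, Int.negSucc 0, Int.ofNat 1, Int.negSucc 0, Int.ofNat 1, Int.negSucc 0, Int.negSucc 0, Int.negSucc 0, Int.negSucc 0, Int.negSucc 0],
  [Int.ofNat 3, Int.negSucc 0, Int.negSucc 0, Int.negSucc 0, Int.negSucc 0, Int.negSucc 0, Int.negSucc 0, Int.negSucc 0, Int.negSucc 0, Int.negSucc 0, Int.negSucc 0, Int.negSucc 0, Int.negSucc 0, Int.negSucc 0, Int.negSucc 0, Int.negSucc 0, Int.negSucc 0, Int.negSucc 0, Int.negSucc 0, Int.negSucc 0, Int.negSucc 0, Int.negSucc 0, Int.negSucc 0, Int.negSucc 0],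
  [Int.negSucc 0, Int.negSucc 0, Int.negSucc 0, Int.negSucc 0, Int.negSucc 0, Int.negSucc 0, Int.negSucc 0, Int.negSucc 0, Int.negSucc 0, Int.negSucc 0, Int.negSucc 0, Int.negSucc 0, Int.negSucc 0, Int.negSucc 0, Int.negSucc 0, Int.negSucc 0, Int.negSucc 0, Int.negSucc 0, Int.negSucc 0, Int.negSucc 0, Int.negSucc 0, Int.negSucc 0, Int.negSucc 0, Int.ofNat 3],
  [Int.ofNat 1, Int.negSucc 0, Int.ofNat 1, Int.negSucc 0, Int.negSucc 0, Int.negSucc 0, Int.negSucc 0, Int.ofNat 1, Int.negSucc 0, Int.ofNat 1, Int.ofNat 1, Int.ofNat 1, Int.negSucc 0, Int.negSucc 0, Int.negSucc 0, Int.negSucc 0, Int.negSucc 0, Int.negSucc 0, Int.ofNat 1, Int.negSucc 0, Int.negSucc 0, Int.ofNat 1, Int.negSucc 0, Int.ofNat 3],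
  [Int.negSucc 0, Int.ofNat 1, Int.negSucc 0, Int.ofNat 1, Int.negSucc 0, Int.negSucc 0, Int.negSucc 0, Int.negSucc 0, Int.ofNat 1, Int.negSucc 0, Int.ofNat 1, Int.ofNat 1, Int.ofNat 1, Int.negSucc 0, Int.negSucc 0, Int.negSucc 0, Int.negSucc 0, Int.negSucc 0, Int.negSucc 0, Int.ofNat 1, Int.negSucc 0, Int.negSucc 0, Int.ofNat 1, Int.ofNat 3],
  [Int.ofNat 2, Int.ofNat 0, Int.ofNat 2, Int.ofNat 2, Int.ofNat 0, Int.ofNat 0, Int.ofNat 0, Int.ofNat 0, Int.ofNat 0, Int.ofNat 0, Int.ofNat 2, Int.ofNat 0, Int.ofNat 0, Int.ofNat 0, Int.ofNat 0, Int.ofNat 0, Int.ofNat 0, Int.ofNat 0, Int.negSucc 1, Int.ofNat 2, Int.ofNat 0, Int.ofNat 0, Int.ofNat 2, Int.negSucc 1],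
  [Int.ofNat 2, Int.ofNat 0, Int.ofNat 0, Int.ofNat 0, Int.ofNat 0, Int.ofNat 0, Int.ofNat 0, Int.ofNat 2, Int.ofNat 0, Int.ofNat 0, Int.ofNat 0, Int.ofNat 0, Int.ofNat 0, Int.ofNat 0, Int.ofNat 0, Int.negSucc 1, Int.ofNat 2, Int.ofNat 0, Int.ofNat 0, Int.ofNat 2, Int.ofNat 2, Int.ofNat 0, Int.ofNat 2, Int.negSucc 1],
  [Int.negSucc 1, Int.ofNat 0, Int.ofNat 0, Int.ofNat 0, Int.negSucc 1, Int.ofNat 0, Int.negSucc 1, Int.ofNat 0, Int.ofNat 0, Int.ofNat 0, Int.ofNat 0, Int.ofNat 0, Int.ofNat 0, Int.negSucc 1, Int.ofNat 0, Int.negSucc 1, Int.ofNat 0, Int.ofNat 0, Int.ofNat 0, Int.ofNat 0, Int.ofNat 2, Int.negSucc 1, Int.ofNat 0, Int.ofNat 2],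
  [Int.negSucc 1, Int.negSucc 1, Int.negSucc 1, Int.ofNat 0, Int.ofNat 0, Int.ofNat 0, Int.ofNat 0, Int.ofNat 0, Int.ofNat 0, Int.negSucc 1, Int.ofNat 2, Int.ofNat 0, Int.ofNat 0, Int.ofNat 0, Int.ofNat 0, Int.negSucc 1, Int.ofNat 0, Int.ofNat 0, Int.ofNat 0, Int.ofNat 0, Int.negSucc 1, Int.ofNat 0, Int.ofNat 0, Int.ofNat 2],
  [Int.ofNat 0, Int.ofNat 0, Int.ofNat 0, Int.ofNat 0, Int.ofNat 0, Int.ofNat 0, Int.ofNat 0, Int.ofNat 0, Int.ofNat 0, Int.ofNat 0, Int.ofNat 4, Int.ofNat 0, Int.ofNat 0, Int.ofNat 0, Int.ofNat 0, Int.ofNat 0, Int.ofNat 0, Int.ofNat 0, Int.ofNat 0, Int.ofNat 0, Int.ofNat 0, Int.ofNat 0, Int.ofNat 0, Int.negSucc 3],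
  [Int.ofNat 0, Int.ofNat 0, Int.ofNat 0, Int.ofNat 0, Int.ofNat 0, Int.ofNat 0, Int.ofNat 0, Int.ofNat 0, Int.ofNat 0, Int.ofNat 0, Int.negSucc 3, Int.ofNat 0, Int.ofNat 0, Int.ofNat 0, Int.ofNat 0, Int.ofNat 0, Int.ofNat 0, Int.ofNat 0, Int.ofNat 0, Int.ofNat 0, Int.ofNat 0, Int.ofNat 0, Int.ofNat 0, Int.negSucc 3],
  [Int.ofNat 0, Int.ofNat 0, Int.ofNat 0, Int.negSucc 3, Int.ofNat 0, Int.ofNat 0, Int.ofNat 0, Int.ofNat 0, Int.ofNat 0, Int.ofNat 0, Int.ofNat 0, Int.ofNat 0, Int.ofNat 0, Int.ofNat 0, Int.ofNat 0, Int.ofNat 0, Int.ofNat 0, Int.ofNat 0, Int.ofNat 0, Int.ofNat 0, Int.ofNat 0, Int.ofNat 0, Int.ofNat 0, Int.negSucc 3],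
  [Int.ofNat 0, Int.ofNat 0, Int.ofNat 0, Int.negSucc 3, Int.ofNat 0, Int.ofNat 0, Int.ofNat 0, Int.ofNat 0, Int.ofNat 0, Int.ofNat 0, Int.ofNat 0, Int.ofNat 0, Int.ofNat 0, Int.ofNat 0, Int.ofNat 0, Int.ofNat 0, Int.ofNat 0, Int.ofNat 0, Int.ofNat 0, Int.ofNat 0, Int.ofNat 0, Int.ofNat 0, Int.ofNat 0, Int.negSucc 3],
  [Int.negSucc 1, Int.negSucc 1, Int.negSucc 1, Int.negSucc 1, Int.ofNat 0, Int.ofNat 2, Int.ofNat 0, Int.ofNat 0, Int.ofNat 0, Int.ofNat 0, Int.ofNat 0, Int.ofNat 0, Int.ofNat 0, Int.ofNat 0, Int.ofNat 2, Int.ofNat 0, Int.ofNat 0, Int.ofNat 2, Int.ofNat 0, Int.ofNat 0, Int.ofNat 0, Int.ofNat 0, Int.ofNat 0, Int.ofNat 2],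
  [Int.negSucc 1, Int.ofNat 0, Int.ofNat 0, Int.negSucc 1, Int.negSucc 1, Int.ofNat 0, Int.negSucc 1, Int.ofNat 2, Int.ofNat 0, Int.ofNat 0, Int.ofNat 0, Int.ofNat 0, Int.ofNat 0, Int.ofNat 0, Int.ofNat 2, Int.ofNat 0, Int.ofNat 0, Int.ofNat 0, Int.ofNat 0, Int.ofNat 0, Int.ofNat 0, Int.ofNat 0, Int.ofNat 2, Int.ofNat 2],
  [Int.ofNat 2, Int.ofNat 0, Int.ofNat 0, Int.negSucc 1, Int.negSucc 1, Int.ofNat 0, Int.negSucc 1, Int.ofNat 2, Int.ofNat 0, Int.ofNat 0, Int.ofNat 0, Int.ofNat 0, Int.ofNat 0, Int.ofNat 0, Int.ofNat 2, Int.ofNat 0, Int.ofNat 0, Int.ofNat 0, Int.ofNat 0, Int.ofNat 0, Int.ofNat 0, Int.ofNat 0, Int.ofNat 2, Int.negSucc 1],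
  [Int.ofNat 0, Int.ofNat 0, Int.ofNat 2, Int.ofNat 2, Int.ofNat 0, Int.ofNat 0, Int.negSucc 1, Int.negSucc 1, Int.ofNat 0, Int.negSucc 1, Int.ofNat 2, Int.ofNat 0, Int.ofNat 0, Int.ofNat 0, Int.ofNat 0, Int.ofNat 0, Int.ofNat 0, Int.ofNat 2, Int.ofNat 0, Int.ofNat 0, Int.ofNat 0, Int.ofNat 0, Int.ofNat 0, Int.negSucc 1],
  [Int.ofNat 0, Int.ofNat 0, Int.negSucc 1, Int.ofNat 0, Int.ofNat 0, Int.negSucc 1, Int.ofNat 0, Int.ofNat 0, Int.ofNat 0, Int.negSucc 1, Int.ofNat 2, Int.ofNat 0, Int.ofNat 0, Int.ofNat 0, Int.negSucc 1, Int.ofNat 0, Int.ofNat 0, Int.ofNat 0, Int.ofNat 0, Int.ofNat 2, Int.ofNat 0, Int.ofNat 2, Int.ofNat 0, Int.ofNat 2],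
  [Int.ofNat 0, Int.negSucc 1, Int.ofNat 0, Int.ofNat 0, Int.negSucc 1, Int.ofNat 0, Int.ofNat 0, Int.ofNat 0, Int.negSucc 1, Int.ofNat 2, Int.ofNat 0, Int.ofNat 0, Int.ofNat 0, Int.negSucc 1, Int.ofNat 0, Int.ofNat 0, Int.ofNat 0, Int.ofNat 0, Int.ofNat 2, Int.ofNat 0, Int.ofNat 2, Int.ofNat 0, Int.ofNat 0, Int.ofNat 2],
  [Int.ofNat 0, Int.negSucc 1, Int.ofNat 0, Int.ofNat 0, Int.negSucc 1, Int.ofNat 0, Int.ofNat 0, Int.ofNat 0, Int.negSucc 1, Int.negSucc 1, Int.ofNat 0, Int.ofNat 0, Int.ofNat 0, Int.negSucc 1, Int.ofNat 0, Int.ofNat 0, Int.ofNat 0, Int.ofNat 0, Int.negSucc 1, Int.ofNat 0, Int.ofNat 2, Int.ofNat 0, Int.ofNat 0, Int.ofNat 2],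
  [Int.ofNat 0, Int.ofNat 0, Int.negSucc 1, Int.ofNat 0, Int.negSucc 1, Int.ofNat 0, Int.negSucc 1, Int.ofNat 2, Int.negSucc 1, Int.ofNat 0, Int.ofNat 0, Int.ofNat 0, Int.negSucc 1, Int.negSucc 1, Int.ofNat 0, Int.ofNat 0, Int.ofNat 0, Int.ofNat 0, Int.ofNat 0, Int.ofNat 0, Int.ofNat 0, Int.ofNat 0, Int.ofNat 0, Int.ofNat 2],
  [Int.ofNat 0, Int.ofNat 0, Int.ofNat 2, Int.ofNat 0, Int.negSucc 1, Int.ofNat 0, Int.negSucc 1, Int.negSucc 1, Int.negSucc 1, Int.ofNat 0, Int.ofNat 0, Int.ofNat 0, Int.negSucc 1, Int.negSucc 1, Int.ofNat 0, Int.ofNat 0, Int.ofNat 0, Int.ofNat 0, Int.ofNat 0, Int.ofNat 0, Int.ofNat 0, Int.ofNat 0, Int.ofNat 0, Int.ofNat 2],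
  [Int.ofNat 0, Int.ofNat 0, Int.ofNat 0, Int.ofNat 2, Int.ofNat 0, Int.negSucc 1, Int.ofNat 0, Int.negSucc 1, Int.negSucc 1, Int.negSucc 1, Int.ofNat 0, Int.ofNat 0, Int.ofNat 0, Int.negSucc 1, Int.negSucc 1, Int.ofNat 0, Int.ofNat 0, Int.ofNat 0, Int.ofNat 0, Int.ofNat 0, Int.ofNat 0, Int.ofNat 0, Int.ofNat 0, Int.ofNat 2],
  [Int.ofNat 1, Int.ofNat 1, Int.ofNat 1, Int.ofNat 3, Int.ofNat 1, Int.negSucc 0, Int.ofNat 1, Int.negSucc 0, Int.negSucc 0, Int.negSucc 0, Int.ofNat 1, Int.ofNat 1, Int.ofNat 1, Int.negSucc 0, Int.negSucc 0, Int.ofNat 1, Int.ofNat 1, Int.ofNat 1, Int.ofNat 1, Int.ofNat 1, Int.ofNat 1, Int.ofNat 1, Int.ofNat 1, Int.negSucc 0],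
  [Int.ofNat 3, Int.ofNat 1, Int.negSucc 0, Int.ofNat 1, Int.negSucc 0, Int.negSucc 0, Int.negSucc 0, Int.ofNat 1, Int.ofNat 1, Int.ofNat 1, Int.negSucc 0, Int.negSucc 0, Int.ofNat 1, Int.ofNat 1, Int.ofNat 1, Int.ofNat 1, Int.ofNat 1, Int.ofNat 1, Int.ofNat 1, Int.ofNat 1, Int.ofNat 1, Int.ofNat 1, Int.ofNat 1, Int.negSucc 0],
  [Int.negSucc 1, Int.ofNat 0, Int.ofNat 2, Int.ofNat 0, Int.negSucc 1, Int.negSucc 1, Int.negSucc 1, Int.ofNat 0, Int.ofNat 0, Int.ofNat 0, Int.negSucc 1, Int.negSucc 1, Int.ofNat 0, Int.ofNat 0, Int.ofNat 0, Int.ofNat 0, Int.ofNat 0, Int.ofNat 0, Int.ofNat 0, Int.ofNat 0, Int.ofNat 0, Int.ofNat 0, Int.ofNat 0, Int.ofNat 2],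
  [Int.negSucc 1, Int.negSucc 1, Int.negSucc 1, Int.ofNat 0, Int.ofNat 0, Int.ofNat 0, Int.ofNat 2, Int.negSucc 1, Int.ofNat 0, Int.ofNat 0, Int.ofNat 0, Int.ofNat 0, Int.ofNat 0, Int.ofNat 0, Int.ofNat 0, Int.ofNat 0, Int.ofNat 0, Int.ofNat 0, Int.ofNat 0, Int.negSucc 1, Int.ofNat 0, Int.negSucc 1, Int.ofNat 0, Int.ofNat 2],
  [Int.ofNat 0, Int.ofNat 0, Int.ofNat 0, Int.ofNat 0, Int.ofNat 0, Int.ofNat 0, Int.ofNat 4, Int.ofNat 0, Int.ofNat 0, Int.ofNat 0, Int.ofNat 0, Int.ofNat 0, Int.ofNat 0, Int.ofNat 0, Int.ofNat 0, Int.ofNat 0, Int.ofNat 0, Int.ofNat 0, Int.ofNat 0, Int.ofNat 0, Int.ofNat 0, Int.ofNat 0, Int.ofNat 0, Int.negSucc 3],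
  [Int.ofNat 0, Int.ofNat 0, Int.ofNat 0, Int.ofNat 0, Int.ofNat 0, Int.ofNat 0, Int.negSucc 3, Int.ofNat 0, Int.ofNat 0, Int.ofNat 0, Int.ofNat 0, Int.ofNat 0, Int.ofNat 0, Int.ofNat 0, Int.ofNat 0, Int.ofNat 0, Int.ofNat 0, Int.ofNat 0, Int.ofNat 0, Int.ofNat 0, Int.ofNat 0, Int.ofNat 0, Int.ofNat 0, Int.negSucc 3],
  [Int.ofNat 0, Int.ofNat 0, Int.ofNat 0, Int.ofNat 0, Int.ofNat 0, Int.negSucc 3, Int.ofNat 0, Int.ofNat 0, Int.ofNat 0, Int.ofNat 0, Int.ofNat 0, Int.ofNat 0, Int.ofNat 0, Int.ofNat 0, Int.ofNat 0, Int.ofNat 0, Int.ofNat 0, Int.ofNat 0, Int.ofNat 0, Int.ofNat 0, Int.ofNat 0, Int.ofNat 0, Int.ofNat 0, Int.negSucc 3],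
  [Int.ofNat 0, Int.ofNat 0, Int.ofNat 0, Int.ofNat 0, Int.ofNat 0, Int.negSucc 3, Int.ofNat 0, Int.ofNat 0, Int.ofNat 0, Int.ofNat 0, Int.ofNat 0, Int.ofNat 0, Int.ofNat 0, Int.ofNat 0, Int.ofNat 0, Int.ofNat 0, Int.ofNat 0, Int.ofNat 0, Int.ofNat 0, Int.ofNat 0, Int.ofNat 0, Int.ofNat 0, Int.ofNat 0, Int.negSucc 3],
  [Int.negSucc 3, Int.ofNat 0, Int.ofNat 0, Int.ofNat 0, Int.ofNat 0, Int.ofNat 0, Int.ofNat 0, Int.ofNat 0, Int.ofNat 0, Int.negSucc 3, Int.ofNat 0, Int.ofNat 0, Int.ofNat 0, Int.ofNat 0, Int.ofNat 0, Int.ofNat 0, Int.ofNat 0, Int.ofNat 0, Int.ofNat 0, Int.ofNat 0, Int.ofNat 0, Int.ofNat 0, Int.ofNat 0, Int.ofNat 0],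
  [Int.ofNat 4, Int.ofNat 0, Int.ofNat 0, Int.ofNat 0, Int.ofNat 0, Int.ofNat 0, Int.ofNat 0, Int.ofNat 0, Int.ofNat 0, Int.ofNat 4, Int.ofNat 0, Int.ofNat 0, Int.ofNat 0, Int.ofNat 0, Int.ofNat 0, Int.ofNat 0, Int.ofNat 0, Int.ofNat 0, Int.ofNat 0, Int.ofNat 0, Int.ofNat 0, Int.ofNat 0, Int.ofNat 0, Int.ofNat 0],
  [Int.ofNat 0, Int.ofNat 4, Int.ofNat 0, Int.ofNat 0, Int.ofNat 0, Int.ofNat 0, Int.ofNat 0, Int.ofNat 0, Int.ofNat 0, Int.ofNat 0, Int.ofNat 4, Int.ofNat 0, Int.ofNat 0, Int.ofNat 0, Int.ofNat 0, Int.ofNat 0, Int.ofNat 0, Int.ofNat 0, Int.ofNat 0, Int.ofNat 0, Int.ofNat 0, Int.ofNat 0, Int.ofNat 0, Int.ofNat 0],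
  [Int.ofNat 2, Int.negSucc 1, Int.ofNat 2, Int.ofNat 0, Int.ofNat 0, Int.ofNat 0, Int.ofNat 0, Int.ofNat 0, Int.ofNat 0, Int.negSucc 1, Int.ofNat 2, Int.ofNat 0, Int.ofNat 0, Int.ofNat 0, Int.ofNat 0, Int.negSucc 1, Int.ofNat 0, Int.ofNat 0, Int.ofNat 0, Int.ofNat 0, Int.negSucc 1, Int.ofNat 0, Int.ofNat 0, Int.ofNat 2],
  [Int.ofNat 0, Int.ofNat 0, Int.ofNat 0, Int.ofNat 0, Int.ofNat 0, Int.ofNat 0, Int.negSucc 1, Int.ofNat 2, Int.ofNat 0, Int.ofNat 0, Int.ofNat 0, Int.ofNat 0, Int.negSucc 1, Int.ofNat 0, Int.ofNat 0, Int.ofNat 0, Int.ofNat 0, Int.negSucc 1, Int.ofNat 0, Int.ofNat 0, Int.ofNat 2, Int.negSucc 1, Int.ofNat 2, Int.ofNat 2],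
  [Int.ofNat 1, Int.ofNat 1, Int.ofNat 1, Int.ofNat 1, Int.negSucc 0, Int.ofNat 1, Int.negSucc 0, Int.ofNat 3, Int.ofNat 1, Int.negSucc 0, Int.negSucc 0, Int.ofNat 1, Int.negSucc 0, Int.negSucc 0, Int.ofNat 1, Int.negSucc 0, Int.negSucc 0, Int.negSucc 0, Int.ofNat 1, Int.ofNat 1, Int.ofNat 1, Int.negSucc 0, Int.ofNat 1, Int.negSucc 0],
  [Int.ofNat 1, Int.negSucc 0, Int.negSucc 0, Int.ofNat 1, Int.ofNat 1, Int.ofNat 3, Int.ofNat 1, Int.negSucc 0, Int.negSucc 0, Int.negSucc 0, Int.ofNat 1, Int.negSucc 0, Int.negSucc 0, Int.negSucc 0, Int.ofNat 1, Int.negSucc 0, Int.ofNat 1, Int.ofNat 1, Int.ofNat 1, Int.ofNat 1, Int.negSucc 0, Int.ofNat 1, Int.ofNat 1, Int.negSucc 0],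
  [Int.negSucc 1, Int.ofNat 0, Int.ofNat 0, Int.negSucc 1, Int.ofNat 0, Int.ofNat 0, Int.ofNat 0, Int.negSucc 1, Int.ofNat 0, Int.ofNat 0, Int.ofNat 2, Int.ofNat 0, Int.ofNat 0, Int.negSucc 1, Int.negSucc 1, Int.ofNat 0, Int.ofNat 0, Int.negSucc 1, Int.ofNat 2, Int.ofNat 0, Int.ofNat 0, Int.ofNat 0, Int.ofNat 0, Int.ofNat 0],
  [Int.negSucc 1, Int.ofNat 0, Int.ofNat 0, Int.negSucc 1, Int.ofNat 0, Int.ofNat 0, Int.ofNat 0, Int.negSucc 1, Int.ofNat 0, Int.ofNat 0, Int.negSucc 1, Int.ofNat 0, Int.ofNat 0, Int.negSucc 1, Int.negSucc 1, Int.ofNat 0, Int.ofNat 0, Int.negSucc 1, Int.negSucc 1, Int.ofNat 0, Int.ofNat 0, Int.ofNat 0, Int.ofNat 0, Int.ofNat 0],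
  [Int.ofNat 0, Int.negSucc 1, Int.ofNat 0, Int.negSucc 1, Int.ofNat 0, Int.ofNat 0, Int.ofNat 0, Int.negSucc 1, Int.ofNat 0, Int.negSucc 1, Int.ofNat 0, Int.ofNat 0, Int.negSucc 1, Int.ofNat 0, Int.negSucc 1, Int.ofNat 0, Int.ofNat 0, Int.negSucc 1, Int.ofNat 0, Int.ofNat 0, Int.ofNat 0, Int.ofNat 0, Int.negSucc 1, Int.ofNat 0],
  [Int.ofNat 0, Int.negSucc 1, Int.ofNat 0, Int.negSucc 1, Int.ofNat 0, Int.ofNat 0, Int.ofNat 0, Int.negSucc 1, Int.ofNat 0, Int.ofNat 2, Int.ofNat 0, Int.ofNat 0, Int.negSucc 1, Int.ofNat 0, Int.negSucc 1, Int.ofNat 0, Int.ofNat 0, Int.negSucc 1, Int.ofNat 0, Int.ofNat 0, Int.ofNat 0, Int.ofNat 0, Int.ofNat 2, Int.ofNat 0],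
  [Int.negSucc 0, Int.ofNat 1, Int.negSucc 0, Int.ofNat 1, Int.negSucc 0, Int.ofNat 3, Int.ofNat 1, Int.negSucc 0, Int.ofNat 1, Int.ofNat 1, Int.negSucc 0, Int.ofNat 1, Int.negSucc 0, Int.negSucc 0, Int.ofNat 1, Int.negSucc 0, Int.negSucc 0, Int.ofNat 1, Int.ofNat 1, Int.ofNat 1, Int.negSucc 0, Int.ofNat 1, Int.ofNat 1, Int.negSucc 0],
  [Int.negSucc 0, Int.ofNat 1, Int.ofNat 1, Int.ofNat 1, Int.negSucc 0, Int.ofNat 1, Int.ofNat 1, Int.ofNat 3, Int.negSucc 0, Int.negSucc 0, Int.negSucc 0, Int.ofNat 1, Int.ofNat 1, Int.ofNat 1, Int.ofNat 1, Int.negSucc 0, Int.negSucc 0, Int.ofNat 1, Int.negSucc 0, Int.ofNat 1, Int.negSucc 0, Int.negSucc 0, Int.ofNat 1, Int.negSucc 0],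
  [Int.ofNat 1, Int.negSucc 0, Int.negSucc 0, Int.negSucc 0, Int.negSucc 0, Int.negSucc 0, Int.negSucc 0, Int.ofNat 1, Int.negSucc 0, Int.ofNat 1, Int.ofNat 1, Int.ofNat 1, Int.ofNat 1, Int.ofNat 1, Int.negSucc 0, Int.ofNat 1, Int.negSucc 0, Int.negSucc 0, Int.negSucc 0, Int.negSucc 0, Int.ofNat 1, Int.negSucc 2, Int.ofNat 1, Int.ofNat 1],
  [Int.ofNat 1, Int.negSucc 2, Int.ofNat 1, Int.ofNat 1, Int.negSucc 0, Int.negSucc 0, Int.negSucc 0, Int.negSucc 0, Int.negSucc 0, Int.negSucc 0, Int.ofNat 1, Int.negSucc 0, Int.ofNat 1, Int.ofNat 1, Int.ofNat 1, Int.ofNat 1, Int.ofNat 1, Int.negSucc 0, Int.ofNat 1, Int.negSucc 0, Int.negSucc 0, Int.negSucc 0, Int.negSucc 0, Int.ofNat 1],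
  [Int.negSucc 0, Int.ofNat 3, Int.negSucc 0, Int.ofNat 1, Int.negSucc 0, Int.negSucc 0, Int.ofNat 1, Int.ofNat 1, Int.negSucc 0, Int.negSucc 0, Int.ofNat 1, Int.negSucc 0, Int.ofNat 1, Int.ofNat 1, Int.ofNat 1, Int.ofNat 1, Int.ofNat 1, Int.negSucc 0, Int.ofNat 1, Int.ofNat 1, Int.negSucc 0, Int.ofNat 1, Int.negSucc 0, Int.negSucc 0],
  [Int.ofNat 3, Int.negSucc 0, Int.ofNat 1, Int.negSucc 0, Int.negSucc 0, Int.ofNat 1, Int.ofNat 1, Int.negSucc 0, Int.negSucc 0, Int.ofNat 1, Int.negSucc 0, Int.ofNat 1, Int.ofNat 1, Int.ofNat 1, Int.ofNat 1, Int.ofNat 1, Int.negSucc 0, Int.ofNat 1, Int.ofNat 1, Int.negSucc 0, Int.ofNat 1, Int.negSucc 0, Int.negSucc 0, Int.negSucc 0],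
  [Int.negSucc 2, Int.negSucc 0, Int.negSucc 0, Int.negSucc 0, Int.negSucc 0, Int.ofNat 1, Int.ofNat 1, Int.ofNat 1, Int.negSucc 0, Int.negSucc 0, Int.ofNat 1, Int.negSucc 0, Int.ofNat 1, Int.ofNat 1, Int.ofNat 1, Int.ofNat 1, Int.negSucc 0, Int.ofNat 1, Int.negSucc 0, Int.negSucc 0, Int.ofNat 1, Int.ofNat 1, Int.negSucc 0, Int.negSucc 0],
  [Int.negSucc 2, Int.negSucc 0, Int.negSucc 0, Int.negSucc 0, Int.negSucc 0, Int.ofNat 1, Int.negSucc 0, Int.ofNat 1, Int.negSucc 0, Int.negSucc 0, Int.ofNat 1, Int.ofNat 1, Int.ofNat 1, Int.negSucc 0, Int.negSucc 0, Int.ofNat 1, Int.ofNat 1, Int.negSucc 0, Int.ofNat 1, Int.ofNat 1, Int.ofNat 1, Int.ofNat 1, Int.negSucc 0, Int.negSucc 0],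
  [Int.ofNat 3, Int.negSucc 0, Int.ofNat 1, Int.negSucc 0, Int.negSucc 0, Int.ofNat 1, Int.negSucc 0, Int.negSucc 0, Int.negSucc 0, Int.ofNat 1, Int.negSucc 0, Int.negSucc 0, Int.ofNat 1, Int.negSucc 0, Int.negSucc 0, Int.ofNat 1, Int.ofNat 1, Int.negSucc 0, Int.negSucc 0, Int.ofNat 1, Int.ofNat 1, Int.negSucc 0, Int.negSucc 0, Int.negSucc 0],
  [Int.negSucc 0, Int.ofNat 3, Int.negSucc 0, Int.ofNat 1, Int.negSucc 0, Int.negSucc 0, Int.ofNat 1, Int.negSucc 0, Int.negSucc 0, Int.negSucc 0, Int.ofNat 1, Int.negSucc 0, Int.negSucc 0, Int.ofNat 1, Int.negSucc 0, Int.negSucc 0, Int.ofNat 1, Int.ofNat 1, Int.negSucc 0, Int.negSucc 0, Int.ofNat 1, Int.ofNat 1, Int.negSucc 0, Int.negSucc 0],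
  [Int.ofNat 1, Int.negSucc 2, Int.ofNat 1, Int.ofNat 1, Int.negSucc 0, Int.negSucc 0, Int.ofNat 1, Int.negSucc 0, Int.ofNat 1, Int.negSucc 0, Int.ofNat 1, Int.ofNat 1, Int.ofNat 1, Int.ofNat 1, Int.negSucc 0, Int.negSucc 0, Int.ofNat 1, Int.ofNat 1, Int.ofNat 1, Int.negSucc 0, Int.ofNat 1, Int.ofNat 1, Int.negSucc 0, Int.ofNat 1],
  [Int.ofNat 1, Int.negSucc 0, Int.negSucc 0, Int.ofNat 1, Int.negSucc 0, Int.ofNat 1, Int.negSucc 0, Int.ofNat 1, Int.ofNat 1, Int.ofNat 1, Int.ofNat 1, Int.negSucc 0, Int.negSucc 0, Int.ofNat 1, Int.ofNat 1, Int.ofNat 1, Int.negSucc 0, Int.ofNat 1, Int.ofNat 1, Int.negSucc 0, Int.ofNat 1, Int.negSucc 2, Int.ofNat 1, Int.ofNat 1],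
  [Int.negSucc 0, Int.ofNat 1, Int.ofNat 1, Int.negSucc 0, Int.negSucc 0, Int.negSucc 0, Int.ofNat 1, Int.ofNat 3, Int.ofNat 1, Int.negSucc 0, Int.negSucc 0, Int.negSucc 0, Int.negSucc 0, Int.ofNat 1, Int.negSucc 0, Int.negSucc 0, Int.negSucc 0, Int.negSucc 0, Int.ofNat 1, Int.ofNat 1, Int.negSucc 0, Int.negSucc 0, Int.ofNat 1, Int.negSucc 0],
  [Int.negSucc 0, Int.ofNat 1, Int.negSucc 0, Int.negSucc 0, Int.ofNat 1, Int.ofNat 3, Int.ofNat 1, Int.negSucc 0, Int.negSucc 0, Int.ofNat 1, Int.negSucc 0, Int.negSucc 0, Int.negSucc 0, Int.negSucc 0, Int.ofNat 1, Int.negSucc 0, Int.ofNat 1, Int.negSucc 0, Int.ofNat 1, Int.negSucc 0, Int.negSucc 0, Int.negSucc 0, Int.ofNat 1, Int.negSucc 0],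
  [Int.ofNat 0, Int.negSucc 1, Int.ofNat 0, Int.negSucc 1, Int.ofNat 0, Int.ofNat 2, Int.ofNat 2, Int.ofNat 0, Int.ofNat 0, Int.ofNat 2, Int.ofNat 0, Int.ofNat 0, Int.ofNat 0, Int.negSucc 1, Int.ofNat 0, Int.ofNat 0, Int.ofNat 0, Int.negSucc 1, Int.ofNat 2, Int.ofNat 0, Int.ofNat 0, Int.ofNat 0, Int.ofNat 0, Int.ofNat 0],
  [Int.ofNat 0, Int.negSucc 1, Int.ofNat 0, Int.negSucc 1, Int.ofNat 0, Int.negSucc 1, Int.negSucc 1, Int.ofNat 0, Int.ofNat 0, Int.negSucc 1, Int.ofNat 0, Int.ofNat 0, Int.ofNat 0, Int.negSucc 1, Int.ofNat 0, Int.ofNat 0, Int.ofNat 0, Int.negSucc 1, Int.negSucc 1, Int.ofNat 0, Int.ofNat 0, Int.ofNat 0, Int.ofNat 0, Int.ofNat 0],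
  [Int.ofNat 0, Int.ofNat 0, Int.ofNat 0, Int.ofNat 0, Int.ofNat 0, Int.negSucc 1, Int.ofNat 0, Int.negSucc 1, Int.negSucc 1, Int.ofNat 0, Int.negSucc 1, Int.ofNat 0, Int.ofNat 0, Int.ofNat 0, Int.negSucc 1, Int.negSucc 1, Int.ofNat 0, Int.ofNat 0, Int.negSucc 1, Int.ofNat 0, Int.ofNat 0, Int.negSucc 1, Int.ofNat 0, Int.ofNat 0],
  [Int.ofNat 0, Int.ofNat 0, Int.ofNat 0, Int.ofNat 0, Int.ofNat 0, Int.negSucc 1, Int.ofNat 0, Int.negSucc 1, Int.ofNat 2, Int.ofNat 0, Int.negSucc 1, Int.ofNat 0, Int.ofNat 0, Int.ofNat 0, Int.negSucc 1, Int.negSucc 1, Int.ofNat 0, Int.ofNat 0, Int.ofNat 2, Int.ofNat 0, Int.ofNat 0, Int.negSucc 1, Int.ofNat 0, Int.ofNat 0],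
  [Int.ofNat 0, Int.ofNat 0, Int.ofNat 0, Int.negSucc 1, Int.ofNat 0, Int.ofNat 0, Int.ofNat 0, Int.ofNat 0, Int.ofNat 0, Int.negSucc 1, Int.ofNat 0, Int.ofNat 0, Int.negSucc 1, Int.negSucc 1, Int.ofNat 2, Int.ofNat 0, Int.negSucc 1, Int.ofNat 0, Int.negSucc 1, Int.ofNat 0, Int.ofNat 2, Int.ofNat 0, Int.ofNat 0, Int.ofNat 0],
  [Int.ofNat 0, Int.ofNat 0, Int.ofNat 0, Int.negSucc 1, Int.ofNat 0, Int.ofNat 0, Int.ofNat 0, Int.ofNat 0, Int.ofNat 0, Int.ofNat 2, Int.ofNat 0, Int.ofNat 0, Int.negSucc 1, Int.negSucc 1, Int.ofNat 2, Int.ofNat 0, Int.negSucc 1, Int.ofNat 0, Int.ofNat 2, Int.ofNat 0, Int.ofNat 2, Int.ofNat 0, Int.ofNat 0, Int.ofNat 0],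
  [Int.ofNat 0, Int.ofNat 0, Int.ofNat 0, Int.ofNat 0, Int.negSucc 1, Int.ofNat 0, Int.ofNat 0, Int.ofNat 0, Int.ofNat 0, Int.ofNat 0, Int.ofNat 2, Int.ofNat 0, Int.ofNat 0, Int.negSucc 1, Int.negSucc 1, Int.ofNat 2, Int.ofNat 0, Int.negSucc 1, Int.ofNat 0, Int.ofNat 2, Int.ofNat 0, Int.ofNat 2, Int.ofNat 0, Int.ofNat 0],
  [Int.ofNat 0, Int.ofNat 0, Int.ofNat 0, Int.ofNat 2, Int.ofNat 0, Int.ofNat 2, Int.negSucc 1, Int.negSucc 1, Int.ofNat 0, Int.negSucc 1, Int.ofNat 0, Int.ofNat 0, Int.ofNat 0, Int.ofNat 0, Int.ofNat 0, Int.ofNat 0, Int.ofNat 2, Int.ofNat 0, Int.ofNat 0, Int.ofNat 0, Int.negSucc 1, Int.ofNat 0, Int.ofNat 2, Int.ofNat 0],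
  [Int.ofNat 2, Int.ofNat 0, Int.ofNat 2, Int.negSucc 1, Int.negSucc 1, Int.ofNat 0, Int.negSucc 1, Int.ofNat 0, Int.ofNat 0, Int.ofNat 0, Int.ofNat 0, Int.ofNat 0, Int.ofNat 0, Int.ofNat 2, Int.ofNat 0, Int.ofNat 0, Int.ofNat 0, Int.negSucc 1, Int.ofNat 0, Int.ofNat 2, Int.ofNat 0, Int.ofNat 0, Int.ofNat 0, Int.ofNat 0],
  [Int.ofNat 0, Int.ofNat 2, Int.ofNat 0, Int.ofNat 0, Int.negSucc 1, Int.ofNat 2, Int.negSucc 1, Int.ofNat 0, Int.ofNat 0, Int.ofNat 0, Int.ofNat 0, Int.ofNat 0, Int.ofNat 0, Int.ofNat 2, Int.ofNat 2, Int.ofNat 0, Int.ofNat 0, Int.ofNat 0, Int.ofNat 0, Int.ofNat 2, Int.ofNat 0, Int.ofNat 0, Int.ofNat 0, Int.ofNat 2],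
  [Int.ofNat 0, Int.negSucc 1, Int.negSucc 1, Int.ofNat 0, Int.ofNat 0, Int.ofNat 0, Int.ofNat 0, Int.ofNat 0, Int.ofNat 0, Int.ofNat 2, Int.ofNat 0, Int.ofNat 0, Int.ofNat 0, Int.ofNat 0, Int.ofNat 0, Int.ofNat 0, Int.ofNat 0, Int.ofNat 2, Int.ofNat 2, Int.ofNat 0, Int.ofNat 0, Int.ofNat 2, Int.ofNat 2, Int.ofNat 2],
  [Int.negSucc 0, Int.ofNat 1, Int.ofNat 1, Int.negSucc 0, Int.negSucc 0, Int.negSucc 0, Int.negSucc 0, Int.negSucc 0, Int.negSucc 0, Int.ofNat 1, Int.negSucc 0, Int.negSucc 0, Int.negSucc 0, Int.negSucc 0, Int.negSucc 0, Int.negSucc 0, Int.negSucc 0, Int.ofNat 1, Int.ofNat 1, Int.negSucc 0, Int.negSucc 0, Int.ofNat 1, Int.ofNat 1, Int.negSucc 2],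
  [Int.negSucc 0, Int.ofNat 1, Int.negSucc 0, Int.negSucc 0, Int.negSucc 0, Int.ofNat 1, Int.ofNat 1, Int.negSucc 0, Int.negSucc 0, Int.negSucc 0, Int.ofNat 1, Int.negSucc 0, Int.negSucc 0, Int.negSucc 0, Int.negSucc 0, Int.ofNat 1, Int.negSucc 0, Int.ofNat 1, Int.negSucc 0, Int.negSucc 0, Int.negSucc 0, Int.ofNat 1, Int.negSucc 0, Int.negSucc 2],
  [Int.negSucc 0, Int.ofNat 1, Int.ofNat 1, Int.ofNat 1, Int.ofNat 1, Int.negSucc 0, Int.ofNat 1, Int.negSucc 0, Int.negSucc 0, Int.negSucc 0, Int.negSucc 0, Int.negSucc 0, Int.negSucc 0, Int.negSucc 0, Int.negSucc 0, Int.ofNat 1, Int.negSucc 0, Int.negSucc 0, Int.ofNat 1, Int.negSucc 0, Int.negSucc 0, Int.negSucc 0, Int.negSucc 0, Int.negSucc 2],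
  [Int.negSucc 0, Int.ofNat 1, Int.negSucc 0, Int.ofNat 1, Int.ofNat 1, Int.ofNat 1, Int.negSucc 0, Int.negSucc 0, Int.negSucc 0, Int.ofNat 1, Int.ofNat 1, Int.negSucc 0, Int.negSucc 0, Int.negSucc 0, Int.negSucc 0, Int.negSucc 0, Int.negSucc 0, Int.negSucc 0, Int.negSucc 0, Int.negSucc 0, Int.negSucc 0, Int.negSucc 0, Int.ofNat 1, Int.negSucc 2],
  [Int.negSucc 0, Int.negSucc 2, Int.negSucc 0, Int.ofNat 1, Int.ofNat 1, Int.ofNat 1, Int.ofNat 1, Int.ofNat 1, Int.ofNat 1, Int.ofNat 1, Int.ofNat 1, Int.ofNat 1, Int.ofNat 1, Int.negSucc 0, Int.negSucc 0, Int.negSucc 0, Int.negSucc 0, Int.negSucc 0, Int.ofNat 1, Int.ofNat 1, Int.negSucc 0, Int.ofNat 1, Int.ofNat 1, Int.ofNat 1],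
  [Int.negSucc 0, Int.ofNat 1, Int.ofNat 1, Int.ofNat 1, Int.negSucc 0, Int.ofNat 1, Int.negSucc 2, Int.ofNat 1, Int.negSucc 0, Int.ofNat 1, Int.ofNat 1, Int.ofNat 1, Int.ofNat 1, Int.ofNat 1, Int.negSucc 0, Int.negSucc 0, Int.negSucc 0, Int.ofNat 1, Int.ofNat 1, Int.ofNat 1, Int.ofNat 1, Int.negSucc 0, Int.negSucc 0, Int.ofNat 1],
  [Int.ofNat 2, Int.ofNat 0, Int.ofNat 0, Int.ofNat 0, Int.ofNat 0, Int.ofNat 0, Int.negSucc 1, Int.ofNat 2, Int.negSucc 1, Int.ofNat 0, Int.ofNat 0, Int.ofNat 0, Int.ofNat 0, Int.ofNat 2, Int.negSucc 1, Int.negSucc 1, Int.ofNat 0, Int.ofNat 0, Int.ofNat 0, Int.ofNat 2, Int.ofNat 0, Int.ofNat 0, Int.ofNat 0, Int.ofNat 0],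
  [Int.ofNat 0, Int.ofNat 0, Int.ofNat 0, Int.ofNat 2, Int.ofNat 0, Int.ofNat 0, Int.ofNat 0, Int.ofNat 0, Int.ofNat 0, Int.negSucc 1, Int.ofNat 2, Int.negSucc 1, Int.ofNat 0, Int.ofNat 0, Int.ofNat 0, Int.ofNat 0, Int.ofNat 2, Int.negSucc 1, Int.negSucc 1, Int.ofNat 0, Int.ofNat 0, Int.ofNat 0, Int.ofNat 2, Int.ofNat 0],
  [Int.ofNat 0, Int.ofNat 0, Int.ofNat 0, Int.ofNat 2, Int.negSucc 1, Int.ofNat 0, Int.ofNat 0, Int.ofNat 0, Int.ofNat 2, Int.negSucc 1, Int.ofNat 2, Int.ofNat 0, Int.ofNat 2, Int.negSucc 1, Int.ofNat 0, Int.ofNat 0, Int.ofNat 0, Int.negSucc 1, Int.ofNat 0, Int.ofNat 0, Int.ofNat 0, Int.ofNat 0, Int.ofNat 0, Int.ofNat 0],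
  [Int.ofNat 0, Int.ofNat 0, Int.ofNat 2, Int.negSucc 1, Int.ofNat 0, Int.ofNat 0, Int.ofNat 0, Int.ofNat 2, Int.negSucc 1, Int.ofNat 2, Int.ofNat 0, Int.ofNat 2, Int.negSucc 1, Int.ofNat 0, Int.ofNat 0, Int.ofNat 0, Int.negSucc 1, Int.ofNat 0, Int.ofNat 0, Int.ofNat 0, Int.ofNat 0, Int.ofNat 0, Int.ofNat 0, Int.ofNat 0],
  [Int.ofNat 0, Int.ofNat 0, Int.negSucc 1, Int.negSucc 1, Int.ofNat 0, Int.ofNat 0, Int.ofNat 0, Int.negSucc 1, Int.negSucc 1, Int.negSucc 1, Int.ofNat 0, Int.negSucc 1, Int.negSucc 1, Int.ofNat 0, Int.ofNat 0, Int.ofNat 0, Int.negSucc 1, Int.ofNat 0, Int.ofNat 0, Int.ofNat 0, Int.ofNat 0, Int.ofNat 0, Int.ofNat 0, Int.ofNat 0],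
  [Int.ofNat 0, Int.negSucc 1, Int.ofNat 0, Int.negSucc 1, Int.ofNat 0, Int.ofNat 0, Int.ofNat 0, Int.ofNat 0, Int.negSucc 1, Int.negSucc 1, Int.ofNat 0, Int.ofNat 0, Int.ofNat 0, Int.negSucc 1, Int.ofNat 0, Int.ofNat 0, Int.negSucc 1, Int.ofNat 0, Int.ofNat 0, Int.ofNat 0, Int.ofNat 0, Int.negSucc 1, Int.negSucc 1, Int.ofNat 0],
  [Int.ofNat 0, Int.negSucc 1, Int.ofNat 0, Int.negSucc 1, Int.ofNat 0, Int.ofNat 0, Int.ofNat 0, Int.ofNat 0, Int.negSucc 1, Int.ofNat 2, Int.ofNat 0, Int.ofNat 0, Int.ofNat 0, Int.negSucc 1, Int.ofNat 0, Int.ofNat 0, Int.negSucc 1, Int.ofNat 0, Int.ofNat 0, Int.ofNat 0, Int.ofNat 0, Int.ofNat 2, Int.negSucc 1, Int.ofNat 0],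
  [Int.negSucc 1, Int.ofNat 0, Int.negSucc 1, Int.ofNat 0, Int.negSucc 1, Int.ofNat 0, Int.ofNat 0, Int.ofNat 0, Int.ofNat 0, Int.negSucc 1, Int.ofNat 2, Int.ofNat 0, Int.ofNat 0, Int.ofNat 0, Int.negSucc 1, Int.ofNat 0, Int.ofNat 0, Int.negSucc 1, Int.ofNat 0, Int.ofNat 0, Int.ofNat 0, Int.ofNat 0, Int.ofNat 2, Int.ofNat 0],
  [Int.ofNat 0, Int.negSucc 1, Int.ofNat 0, Int.ofNat 2, Int.negSucc 1, Int.ofNat 2, Int.ofNat 0, Int.ofNat 0, Int.ofNat 0, Int.negSucc 1, Int.ofNat 2, Int.ofNat 0, Int.ofNat 0, Int.ofNat 0, Int.ofNat 0, Int.ofNat 0, Int.ofNat 0, Int.ofNat 0, Int.ofNat 0, Int.ofNat 0, Int.ofNat 0, Int.ofNat 0, Int.ofNat 2, Int.negSucc 1],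
  [Int.ofNat 2, Int.negSucc 1, Int.ofNat 2, Int.ofNat 0, Int.ofNat 0, Int.ofNat 0, Int.negSucc 1, Int.ofNat 2, Int.ofNat 0, Int.ofNat 0, Int.ofNat 0, Int.ofNat 0, Int.ofNat 0, Int.ofNat 0, Int.ofNat 0, Int.ofNat 0, Int.ofNat 0, Int.ofNat 0, Int.ofNat 0, Int.ofNat 2, Int.ofNat 0, Int.negSucc 1, Int.ofNat 0, Int.negSucc 1],
  [Int.negSucc 1, Int.ofNat 2, Int.negSucc 1, Int.ofNat 0, Int.ofNat 0, Int.ofNat 0, Int.negSucc 1, Int.ofNat 2, Int.ofNat 0, Int.ofNat 0, Int.ofNat 0, Int.ofNat 0, Int.ofNat 0, Int.ofNat 0, Int.ofNat 0, Int.ofNat 0, Int.ofNat 0, Int.ofNat 0, Int.ofNat 0, Int.ofNat 2, Int.ofNat 0, Int.negSucc 1, Int.ofNat 0, Int.ofNat 2],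
  [Int.negSucc 1, Int.negSucc 1, Int.ofNat 0, Int.ofNat 0, Int.ofNat 0, Int.ofNat 2, Int.negSucc 1, Int.ofNat 0, Int.ofNat 0, Int.ofNat 0, Int.ofNat 0, Int.ofNat 0, Int.ofNat 0, Int.ofNat 0, Int.ofNat 0, Int.ofNat 0, Int.ofNat 0, Int.ofNat 0, Int.ofNat 2, Int.ofNat 0, Int.negSucc 1, Int.ofNat 0, Int.ofNat 2, Int.ofNat 2],
  [Int.ofNat 1, Int.ofNat 1, Int.negSucc 0, Int.negSucc 0, Int.negSucc 0, Int.ofNat 1, Int.negSucc 0, Int.ofNat 1, Int.negSucc 0, Int.ofNat 1, Int.ofNat 1, Int.negSucc 0, Int.negSucc 0, Int.negSucc 0, Int.negSucc 0, Int.ofNat 1, Int.negSucc 0, Int.negSucc 0, Int.ofNat 1, Int.ofNat 1, Int.negSucc 0, Int.ofNat 1, Int.ofNat 1, Int.negSucc 2],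
  [Int.ofNat 1, Int.ofNat 1, Int.ofNat 1, Int.negSucc 0, Int.negSucc 0, Int.negSucc 0, Int.ofNat 1, Int.ofNat 1, Int.negSucc 0, Int.negSucc 0, Int.negSucc 0, Int.negSucc 0, Int.negSucc 0, Int.negSucc 0, Int.negSucc 0, Int.negSucc 0, Int.negSucc 0, Int.negSucc 0, Int.negSucc 0, Int.ofNat 1, Int.negSucc 0, Int.ofNat 1, Int.negSucc 0, Int.negSucc 2],
  [Int.negSucc 0, Int.negSucc 0, Int.negSucc 0, Int.negSucc 0, Int.negSucc 0, Int.ofNat 1, Int.ofNat 1, Int.negSucc 0, Int.negSucc 0, Int.negSucc 0, Int.negSucc 0, Int.ofNat 1, Int.negSucc 0, Int.negSucc 0, Int.negSucc 0, Int.negSucc 0, Int.ofNat 1, Int.negSucc 0, Int.negSucc 0, Int.ofNat 1, Int.ofNat 1, Int.ofNat 1, Int.negSucc 0, Int.negSucc 2],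
  [Int.ofNat 1, Int.ofNat 1, Int.ofNat 1, Int.ofNat 1, Int.ofNat 1, Int.ofNat 1, Int.negSucc 0, Int.negSucc 0, Int.ofNat 1, Int.ofNat 1, Int.negSucc 0, Int.ofNat 1, Int.ofNat 1, Int.ofNat 1, Int.negSucc 0, Int.negSucc 0, Int.negSucc 0, Int.negSucc 0, Int.ofNat 1, Int.ofNat 1, Int.ofNat 1, Int.ofNat 1, Int.negSucc 0, Int.negSucc 2],
  [Int.negSucc 2, Int.negSucc 0, Int.ofNat 1, Int.negSucc 0, Int.negSucc 0, Int.ofNat 1, Int.ofNat 1, Int.ofNat 1, Int.ofNat 1, Int.ofNat 1, Int.negSucc 0, Int.ofNat 1, Int.ofNat 1, Int.negSucc 0, Int.ofNat 1, Int.ofNat 1, Int.negSucc 0, Int.ofNat 1, Int.negSucc 0, Int.negSucc 0, Int.ofNat 1, Int.ofNat 1, Int.ofNat 1, Int.ofNat 1],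
  [Int.ofNat 3, Int.negSucc 0, Int.negSucc 0, Int.negSucc 0, Int.negSucc 0, Int.ofNat 1, Int.ofNat 1, Int.negSucc 0, Int.ofNat 1, Int.negSucc 0, Int.ofNat 1, Int.negSucc 0, Int.ofNat 1, Int.negSucc 0, Int.ofNat 1, Int.ofNat 1, Int.negSucc 0, Int.ofNat 1, Int.ofNat 1, Int.negSucc 0, Int.ofNat 1, Int.negSucc 0, Int.ofNat 1, Int.ofNat 1],
  [Int.ofNat 1, Int.ofNat 3, Int.negSucc 0, Int.negSucc 0, Int.negSucc 0, Int.negSucc 0, Int.ofNat 1, Int.ofNat 1, Int.negSucc 0, Int.ofNat 1, Int.negSucc 0, Int.ofNat 1, Int.negSucc 0, Int.ofNat 1, Int.negSucc 0, Int.ofNat 1, Int.ofNat 1, Int.negSucc 0, Int.ofNat 1, Int.ofNat 1, Int.negSucc 0, Int.ofNat 1, Int.negSucc 0, Int.ofNat 1],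
  [Int.ofNat 1, Int.negSucc 0, Int.ofNat 3, Int.ofNat 1, Int.negSucc 0, Int.ofNat 1, Int.negSucc 0, Int.negSucc 0, Int.negSucc 0, Int.ofNat 1, Int.negSucc 0, Int.ofNat 1, Int.negSucc 0, Int.ofNat 1, Int.ofNat 1, Int.ofNat 1, Int.ofNat 1, Int.ofNat 1, Int.ofNat 1, Int.negSucc 0, Int.negSucc 0, Int.negSucc 0, Int.negSucc 0, Int.ofNat 1],
  [Int.ofNat 1, Int.negSucc 0, Int.ofNat 1, Int.negSucc 0, Int.negSucc 0, Int.negSucc 0, Int.ofNat 1, Int.negSucc 0, Int.ofNat 1, Int.negSucc 0, Int.ofNat 1, Int.ofNat 1, Int.ofNat 1, Int.ofNat 1, Int.ofNat 1, Int.ofNat 1, Int.negSucc 0, Int.negSucc 0, Int.negSucc 0, Int.negSucc 0, Int.ofNat 1, Int.negSucc 0, Int.ofNat 3, Int.ofNat 1],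
  [Int.ofNat 0, Int.ofNat 2, Int.ofNat 0, Int.ofNat 0, Int.negSucc 1, Int.ofNat 0, Int.ofNat 2, Int.ofNat 0, Int.ofNat 0, Int.negSucc 1, Int.ofNat 0, Int.ofNat 0, Int.ofNat 0, Int.ofNat 0, Int.ofNat 2, Int.ofNat 0, Int.negSucc 1, Int.ofNat 0, Int.negSucc 1, Int.ofNat 0, Int.ofNat 0, Int.ofNat 0, Int.ofNat 2, Int.ofNat 0],
  [Int.ofNat 0, Int.ofNat 2, Int.negSucc 1, Int.ofNat 0, Int.negSucc 1, Int.ofNat 0, Int.ofNat 0, Int.ofNat 0, Int.ofNat 0, Int.ofNat 0, Int.ofNat 0, Int.ofNat 0, Int.negSucc 1, Int.negSucc 1, Int.ofNat 2, Int.ofNat 0, Int.ofNat 0, Int.ofNat 2, Int.ofNat 2, Int.ofNat 0, Int.ofNat 0, Int.ofNat 0, Int.ofNat 0, Int.ofNat 0],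
  [Int.ofNat 0, Int.negSucc 1, Int.ofNat 2, Int.negSucc 1, Int.ofNat 0, Int.negSucc 1, Int.ofNat 0, Int.ofNat 0, Int.ofNat 0, Int.ofNat 0, Int.ofNat 0, Int.ofNat 0, Int.negSucc 1, Int.ofNat 0, Int.ofNat 0, Int.ofNat 0, Int.ofNat 2, Int.ofNat 0, Int.ofNat 2, Int.ofNat 0, Int.ofNat 0, Int.ofNat 0, Int.ofNat 2, Int.ofNat 0],
  [Int.ofNat 0, Int.negSucc 1, Int.negSucc 1, Int.negSucc 1, Int.ofNat 0, Int.ofNat 2, Int.ofNat 0, Int.ofNat 0, Int.ofNat 0, Int.ofNat 0, Int.ofNat 0, Int.ofNat 0, Int.negSucc 1, Int.ofNat 0, Int.ofNat 0, Int.ofNat 0, Int.ofNat 2, Int.ofNat 0, Int.negSucc 1, Int.ofNat 0, Int.ofNat 0, Int.ofNat 0, Int.negSucc 1, Int.ofNat 0],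
  [Int.ofNat 0, Int.ofNat 0, Int.ofNat 0, Int.ofNat 0, Int.ofNat 0, Int.ofNat 2, Int.negSucc 1, Int.ofNat 0, Int.negSucc 1, Int.ofNat 0, Int.ofNat 0, Int.ofNat 0, Int.ofNat 0, Int.ofNat 0, Int.ofNat 0, Int.ofNat 0, Int.negSucc 1, Int.negSucc 1, Int.ofNat 2, Int.ofNat 0, Int.ofNat 0, Int.negSucc 1, Int.negSucc 1, Int.ofNat 0],
  [Int.ofNat 0, Int.ofNat 0, Int.ofNat 0, Int.ofNat 0, Int.ofNat 0, Int.negSucc 1, Int.ofNat 2, Int.ofNat 0, Int.negSucc 1, Int.ofNat 0, Int.ofNat 0, Int.ofNat 0, Int.ofNat 0, Int.ofNat 0, Int.ofNat 0, Int.ofNat 0, Int.negSucc 1, Int.negSucc 1, Int.negSucc 1, Int.ofNat 0, Int.ofNat 0, Int.negSucc 1, Int.ofNat 2, Int.ofNat 0],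
  [Int.ofNat 0, Int.ofNat 0, Int.ofNat 0, Int.ofNat 2, Int.ofNat 0, Int.ofNat 0, Int.ofNat 2, Int.ofNat 0, Int.ofNat 0, Int.ofNat 0, Int.ofNat 0, Int.ofNat 2, Int.ofNat 2, Int.ofNat 0, Int.ofNat 2, Int.ofNat 0, Int.negSucc 1, Int.ofNat 0, Int.ofNat 0, Int.ofNat 0, Int.ofNat 0, Int.negSucc 1, Int.ofNat 2, Int.ofNat 0],
  [Int.ofNat 0, Int.ofNat 0, Int.ofNat 2, Int.ofNat 2, Int.ofNat 0, Int.negSucc 1, Int.ofNat 0, Int.ofNat 0, Int.negSucc 1, Int.ofNat 2, Int.ofNat 0, Int.ofNat 0, Int.ofNat 0, Int.ofNat 0, Int.ofNat 0, Int.ofNat 0, Int.ofNat 0, Int.ofNat 2, Int.ofNat 0, Int.ofNat 2, Int.ofNat 0, Int.ofNat 0, Int.ofNat 2, Int.ofNat 0],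
  [Int.ofNat 1, Int.ofNat 1, Int.negSucc 0, Int.ofNat 1, Int.negSucc 0, Int.negSucc 2, Int.negSucc 0, Int.negSucc 0, Int.negSucc 0, Int.ofNat 1, Int.negSucc 0, Int.ofNat 1, Int.ofNat 1, Int.negSucc 0, Int.negSucc 0, Int.negSucc 0, Int.negSucc 0, Int.ofNat 1, Int.ofNat 1, Int.ofNat 1, Int.negSucc 0, Int.negSucc 0, Int.ofNat 1, Int.ofNat 1],
  [Int.negSucc 0, Int.negSucc 0, Int.ofNat 1, Int.ofNat 1, Int.ofNat 1, Int.negSucc 0, Int.ofNat 1, Int.negSucc 0, Int.negSucc 2, Int.negSucc 0, Int.negSucc 0, Int.negSucc 0, Int.ofNat 1, Int.negSucc 0, Int.ofNat 1, Int.ofNat 1, Int.negSucc 0, Int.negSucc 0, Int.negSucc 0, Int.negSucc 0, Int.ofNat 1, Int.ofNat 1, Int.ofNat 1, Int.ofNat 1],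
  [Int.ofNat 1, Int.ofNat 1, Int.negSucc 0, Int.ofNat 1, Int.ofNat 1, Int.negSucc 0, Int.ofNat 1, Int.negSucc 0, Int.negSucc 0, Int.negSucc 0, Int.negSucc 0, Int.ofNat 1, Int.ofNat 3, Int.negSucc 0, Int.ofNat 1, Int.ofNat 1, Int.negSucc 0, Int.negSucc 0, Int.ofNat 1, Int.negSucc 0, Int.ofNat 1, Int.ofNat 1, Int.ofNat 1, Int.negSucc 0],
  [Int.ofNat 1, Int.negSucc 0, Int.ofNat 1, Int.ofNat 1, Int.negSucc 0, Int.ofNat 1, Int.negSucc 0, Int.negSucc 0, Int.negSucc 0, Int.negSucc 0, Int.ofNat 1, Int.ofNat 3, Int.negSucc 0, Int.ofNat 1, Int.ofNat 1, Int.negSucc 0, Int.negSucc 0, Int.ofNat 1, Int.negSucc 0, Int.ofNat 1, Int.ofNat 1, Int.ofNat 1, Int.ofNat 1, Int.negSucc 0],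
  [Int.negSucc 0, Int.negSucc 0, Int.negSucc 0, Int.ofNat 1, Int.negSucc 0, Int.ofNat 1, Int.negSucc 0, Int.ofNat 1, Int.negSucc 0, Int.ofNat 1, Int.negSucc 0, Int.negSucc 2, Int.negSucc 0, Int.ofNat 1, Int.ofNat 1, Int.negSucc 0, Int.negSucc 0, Int.ofNat 1, Int.ofNat 1, Int.ofNat 1, Int.ofNat 1, Int.negSucc 0, Int.ofNat 1, Int.negSucc 0],
  [Int.negSucc 0, Int.negSucc 0, Int.ofNat 1, Int.ofNat 1, Int.negSucc 0, Int.negSucc 0, Int.negSucc 0, Int.ofNat 1, Int.ofNat 1, Int.negSucc 0, Int.negSucc 0, Int.ofNat 1, Int.ofNat 1, Int.negSucc 0, Int.ofNat 1, Int.negSucc 0, Int.negSucc 0, Int.ofNat 1, Int.negSucc 0, Int.ofNat 1, Int.ofNat 1, Int.ofNat 1, Int.negSucc 2, Int.negSucc 0],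
  [Int.ofNat 1, Int.negSucc 0, Int.negSucc 0, Int.ofNat 1, Int.negSucc 0, Int.negSucc 0, Int.negSucc 0, Int.negSucc 0, Int.ofNat 1, Int.ofNat 1, Int.ofNat 1, Int.negSucc 0, Int.ofNat 1, Int.negSucc 0, Int.ofNat 1, Int.negSucc 0, Int.negSucc 0, Int.ofNat 1, Int.ofNat 1, Int.ofNat 1, Int.ofNat 1, Int.negSucc 0, Int.negSucc 2, Int.negSucc 0],
  [Int.negSucc 2, Int.ofNat 1, Int.negSucc 0, Int.negSucc 0, Int.ofNat 1, Int.negSucc 0, Int.negSucc 0, Int.negSucc 0, Int.negSucc 0, Int.ofNat 1, Int.ofNat 1, Int.ofNat 1, Int.negSucc 0, Int.ofNat 1, Int.negSucc 0, Int.ofNat 1, Int.negSucc 0, Int.negSucc 0, Int.ofNat 1, Int.ofNat 1, Int.ofNat 1, Int.ofNat 1, Int.negSucc 0, Int.negSucc 0],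
  [Int.ofNat 1, Int.negSucc 2, Int.negSucc 0, Int.ofNat 1, Int.ofNat 1, Int.ofNat 1, Int.negSucc 0, Int.negSucc 0, Int.negSucc 0, Int.negSucc 0, Int.negSucc 0, Int.ofNat 1, Int.negSucc 0, Int.ofNat 1, Int.ofNat 1, Int.negSucc 0, Int.negSucc 0, Int.ofNat 1, Int.ofNat 1, Int.ofNat 1, Int.negSucc 0, Int.ofNat 1, Int.negSucc 0, Int.negSucc 0],
  [Int.ofNat 1, Int.ofNat 1, Int.ofNat 1, Int.negSucc 0, Int.negSucc 0, Int.negSucc 0, Int.negSucc 0, Int.negSucc 0, Int.ofNat 1, Int.negSucc 0, Int.ofNat 1, Int.ofNat 1, Int.negSucc 0, Int.negSucc 0, Int.ofNat 1, Int.ofNat 1, Int.ofNat 1, Int.negSucc 0, Int.ofNat 1, Int.negSucc 0, Int.ofNat 1, Int.negSucc 2, Int.negSucc 0, Int.negSucc 0],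
  [Int.ofNat 0, Int.ofNat 0, Int.ofNat 0, Int.ofNat 0, Int.ofNat 0, Int.ofNat 0, Int.ofNat 2, Int.ofNat 2, Int.ofNat 0, Int.negSucc 1, Int.ofNat 0, Int.ofNat 0, Int.negSucc 1, Int.ofNat 0, Int.ofNat 2, Int.ofNat 0, Int.ofNat 2, Int.ofNat 0, Int.ofNat 0, Int.ofNat 2, Int.ofNat 0, Int.ofNat 0, Int.ofNat 0, Int.ofNat 2],
  [Int.ofNat 0, Int.ofNat 2, Int.ofNat 0, Int.ofNat 0, Int.ofNat 0, Int.ofNat 2, Int.ofNat 0, Int.ofNat 0, Int.negSucc 1, Int.ofNat 0, Int.ofNat 0, Int.ofNat 0, Int.negSucc 1, Int.ofNat 2, Int.ofNat 0, Int.ofNat 0, Int.ofNat 0, Int.ofNat 2, Int.ofNat 0, Int.ofNat 0, Int.ofNat 0, Int.ofNat 0, Int.ofNat 2, Int.ofNat 2],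
  [Int.ofNat 2, Int.ofNat 0, Int.ofNat 2, Int.negSucc 1, Int.negSucc 1, Int.ofNat 0, Int.ofNat 0, Int.ofNat 0, Int.ofNat 0, Int.ofNat 0, Int.ofNat 0, Int.ofNat 2, Int.ofNat 0, Int.ofNat 0, Int.negSucc 1, Int.ofNat 0, Int.negSucc 1, Int.ofNat 0, Int.ofNat 2, Int.ofNat 0, Int.ofNat 0, Int.ofNat 0, Int.ofNat 0, Int.ofNat 0],
  [Int.ofNat 2, Int.ofNat 0, Int.negSucc 1, Int.negSucc 1, Int.negSucc 1, Int.ofNat 0, Int.ofNat 0, Int.ofNat 0, Int.ofNat 0, Int.ofNat 0, Int.ofNat 0, Int.ofNat 2, Int.ofNat 0, Int.ofNat 0, Int.negSucc 1, Int.ofNat 0, Int.negSucc 1, Int.ofNat 0, Int.negSucc 1, Int.ofNat 0, Int.ofNat 0, Int.ofNat 0, Int.ofNat 0, Int.ofNat 0],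
  [Int.ofNat 0, Int.negSucc 1, Int.ofNat 2, Int.ofNat 0, Int.negSucc 1, Int.ofNat 0, Int.ofNat 0, Int.negSucc 1, Int.ofNat 0, Int.ofNat 0, Int.ofNat 0, Int.ofNat 0, Int.ofNat 0, Int.negSucc 1, Int.ofNat 0, Int.negSucc 1, Int.ofNat 0, Int.ofNat 0, Int.ofNat 0, Int.negSucc 1, Int.ofNat 2, Int.ofNat 0, Int.ofNat 0, Int.ofNat 0],
  [Int.ofNat 0, Int.ofNat 2, Int.negSucc 1, Int.ofNat 0, Int.ofNat 2, Int.ofNat 0, Int.ofNat 0, Int.negSucc 1, Int.ofNat 0, Int.ofNat 0, Int.ofNat 0, Int.ofNat 0, Int.ofNat 0, Int.ofNat 2, Int.ofNat 0, Int.negSucc 1, Int.ofNat 0, Int.ofNat 0, Int.ofNat 0, Int.negSucc 1, Int.ofNat 2, Int.ofNat 0, Int.ofNat 0, Int.ofNat 0],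
  [Int.ofNat 0, Int.ofNat 0, Int.ofNat 0, Int.negSucc 1, Int.ofNat 0, Int.ofNat 0, Int.negSucc 1, Int.ofNat 2, Int.ofNat 2, Int.ofNat 0, Int.ofNat 0, Int.negSucc 1, Int.ofNat 0, Int.negSucc 1, Int.ofNat 0, Int.ofNat 0, Int.ofNat 0, Int.ofNat 2, Int.ofNat 0, Int.ofNat 0, Int.ofNat 0, Int.ofNat 0, Int.ofNat 2, Int.ofNat 0],
  [Int.ofNat 0, Int.ofNat 0, Int.ofNat 0, Int.negSucc 1, Int.ofNat 0, Int.ofNat 0, Int.negSucc 1, Int.negSucc 1, Int.ofNat 2, Int.ofNat 0, Int.ofNat 0, Int.ofNat 2, Int.ofNat 0, Int.negSucc 1, Int.ofNat 0, Int.ofNat 0, Int.ofNat 0, Int.ofNat 2, Int.ofNat 0, Int.ofNat 0, Int.ofNat 0, Int.ofNat 0, Int.ofNat 2, Int.ofNat 0],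
  [Int.ofNat 2, Int.ofNat 0, Int.ofNat 0, Int.ofNat 0, Int.negSucc 1, Int.ofNat 0, Int.ofNat 0, Int.negSucc 1, Int.negSucc 1, Int.ofNat 2, Int.ofNat 0, Int.ofNat 0, Int.ofNat 2, Int.ofNat 0, Int.negSucc 1, Int.ofNat 0, Int.ofNat 0, Int.ofNat 0, Int.ofNat 2, Int.ofNat 0, Int.ofNat 0, Int.ofNat 0, Int.ofNat 0, Int.ofNat 0],
  [Int.negSucc 0, Int.ofNat 1, Int.ofNat 1, Int.ofNat 1, Int.negSucc 0, Int.ofNat 1, Int.ofNat 1, Int.negSucc 0, Int.negSucc 2, Int.ofNat 1, Int.negSucc 0, Int.negSucc 0, Int.ofNat 1, Int.ofNat 1, Int.negSucc 0, Int.negSucc 0, Int.ofNat 1, Int.ofNat 1, Int.ofNat 1, Int.ofNat 1, Int.negSucc 0, Int.ofNat 1, Int.ofNat 1, Int.ofNat 1],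
  [Int.ofNat 1, Int.negSucc 0, Int.ofNat 1, Int.ofNat 1, Int.negSucc 0, Int.negSucc 2, Int.ofNat 1, Int.negSucc 0, Int.negSucc 0, Int.ofNat 1, Int.ofNat 1, Int.negSucc 0, Int.negSucc 0, Int.ofNat 1, Int.ofNat 1, Int.ofNat 1, Int.ofNat 1, Int.negSucc 0, Int.ofNat 1, Int.ofNat 1, Int.negSucc 0, Int.ofNat 1, Int.ofNat 1, Int.ofNat 1],
  [Int.ofNat 0, Int.ofNat 2, Int.ofNat 0, Int.ofNat 2, Int.negSucc 1, Int.negSucc 1, Int.ofNat 0, Int.negSucc 1, Int.ofNat 0, Int.ofNat 0, Int.ofNat 0, Int.ofNat 0, Int.ofNat 0, Int.ofNat 0, Int.ofNat 2, Int.ofNat 0, Int.ofNat 0, Int.ofNat 0, Int.ofNat 2, Int.ofNat 0, Int.negSucc 1, Int.ofNat 0, Int.ofNat 0, Int.ofNat 0],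
  [Int.ofNat 0, Int.ofNat 0, Int.negSucc 1, Int.ofNat 2, Int.ofNat 2, Int.negSucc 1, Int.ofNat 0, Int.ofNat 0, Int.ofNat 0, Int.ofNat 0, Int.negSucc 1, Int.ofNat 0, Int.ofNat 0, Int.ofNat 0, Int.ofNat 0, Int.ofNat 0, Int.ofNat 0, Int.ofNat 2, Int.ofNat 2, Int.ofNat 0, Int.ofNat 0, Int.negSucc 1, Int.ofNat 0, Int.ofNat 0],
  [Int.negSucc 0, Int.negSucc 0, Int.ofNat 1, Int.ofNat 1, Int.ofNat 1, Int.negSucc 2, Int.ofNat 1, Int.ofNat 1, Int.negSucc 0, Int.ofNat 1, Int.negSucc 0, Int.negSucc 0, Int.negSucc 0, Int.negSucc 0, Int.negSucc 0, Int.ofNat 1, Int.negSucc 0, Int.ofNat 1, Int.ofNat 1, Int.ofNat 1, Int.ofNat 1, Int.negSucc 0, Int.negSucc 0, Int.negSucc 0],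
  [Int.negSucc 0, Int.negSucc 0, Int.negSucc 0, Int.ofNat 1, Int.ofNat 1, Int.ofNat 3, Int.negSucc 0, Int.ofNat 1, Int.negSucc 0, Int.negSucc 0, Int.ofNat 1, Int.negSucc 0, Int.negSucc 0, Int.negSucc 0, Int.negSucc 0, Int.negSucc 0, Int.negSucc 0, Int.ofNat 1, Int.negSucc 0, Int.ofNat 1, Int.ofNat 1, Int.negSucc 0, Int.ofNat 1, Int.negSucc 0],
  [Int.ofNat 1, Int.ofNat 1, Int.negSucc 0, Int.ofNat 1, Int.negSucc 0, Int.negSucc 0, Int.negSucc 0, Int.negSucc 0, Int.negSucc 0, Int.ofNat 1, Int.ofNat 1, Int.negSucc 0, Int.negSucc 0, Int.negSucc 0, Int.negSucc 0, Int.negSucc 0, Int.negSucc 0, Int.ofNat 1, Int.ofNat 3, Int.ofNat 1, Int.negSucc 0, Int.ofNat 1, Int.negSucc 0, Int.negSucc 0],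
  [Int.ofNat 1, Int.ofNat 1, Int.ofNat 1, Int.ofNat 1, Int.negSucc 0, Int.ofNat 1, Int.ofNat 1, Int.negSucc 0, Int.negSucc 0, Int.negSucc 0, Int.negSucc 0, Int.negSucc 0, Int.negSucc 0, Int.negSucc 0, Int.negSucc 0, Int.ofNat 1, Int.negSucc 0, Int.ofNat 1, Int.negSucc 2, Int.ofNat 1, Int.negSucc 0, Int.ofNat 1, Int.ofNat 1, Int.negSucc 0],
  [Int.ofNat 0, Int.ofNat 0, Int.ofNat 0, Int.ofNat 0, Int.ofNat 0, Int.ofNat 0, Int.ofNat 0, Int.negSucc 1, Int.ofNat 2, Int.ofNat 0, Int.ofNat 0, Int.ofNat 2, Int.ofNat 2, Int.ofNat 0, Int.negSucc 1, Int.ofNat 2, Int.ofNat 0, Int.ofNat 0, Int.ofNat 0, Int.ofNat 0, Int.ofNat 0, Int.ofNat 0, Int.ofNat 2, Int.ofNat 2],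
  [Int.ofNat 0, Int.ofNat 0, Int.ofNat 0, Int.ofNat 0, Int.ofNat 0, Int.ofNat 0, Int.ofNat 0, Int.ofNat 0, Int.ofNat 0, Int.ofNat 2, Int.negSucc 1, Int.ofNat 0, Int.ofNat 2, Int.ofNat 0, Int.ofNat 0, Int.ofNat 2, Int.ofNat 0, Int.ofNat 2, Int.ofNat 0, Int.ofNat 2, Int.ofNat 0, Int.ofNat 0, Int.negSucc 1, Int.ofNat 2],
  [Int.ofNat 1, Int.ofNat 1, Int.ofNat 1, Int.negSucc 0, Int.ofNat 1, Int.negSucc 0, Int.negSucc 0, Int.negSucc 0, Int.negSucc 0, Int.ofNat 1, Int.negSucc 2, Int.negSucc 0, Int.ofNat 1, Int.ofNat 1, Int.negSucc 0, Int.ofNat 1, Int.ofNat 1, Int.ofNat 1, Int.negSucc 0, Int.ofNat 1, Int.negSucc 0, Int.negSucc 0, Int.negSucc 0, Int.negSucc 0],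
  [Int.negSucc 0, Int.negSucc 0, Int.negSucc 0, Int.ofNat 1, Int.ofNat 1, Int.ofNat 1, Int.negSucc 0, Int.ofNat 1, Int.negSucc 0, Int.negSucc 0, Int.negSucc 0, Int.negSucc 0, Int.ofNat 1, Int.negSucc 2, Int.negSucc 0, Int.ofNat 1, Int.ofNat 1, Int.negSucc 0, Int.ofNat 1, Int.ofNat 1, Int.ofNat 1, Int.negSucc 0, Int.ofNat 1, Int.negSucc 0],
  [Int.negSucc 0, Int.negSucc 0, Int.negSucc 0, Int.ofNat 1, Int.ofNat 1, Int.ofNat 1, Int.negSucc 0, Int.ofNat 1, Int.negSucc 0, Int.negSucc 0, Int.negSucc 0, Int.negSucc 0, Int.ofNat 1, Int.negSucc 2, Int.negSucc 0, Int.ofNat 1, Int.ofNat 1, Int.negSucc 0, Int.ofNat 1, Int.ofNat 1, Int.ofNat 1, Int.negSucc 0, Int.ofNat 1, Int.negSucc 0],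
  [Int.negSucc 0, Int.negSucc 0, Int.ofNat 1, Int.ofNat 1, Int.ofNat 1, Int.negSucc 0, Int.ofNat 1, Int.negSucc 0, Int.negSucc 0, Int.negSucc 0, Int.negSucc 0, Int.ofNat 1, Int.negSucc 2, Int.negSucc 0, Int.ofNat 1, Int.ofNat 1, Int.negSucc 0, Int.ofNat 1, Int.ofNat 1, Int.ofNat 1, Int.negSucc 0, Int.ofNat 1, Int.negSucc 0, Int.negSucc 0],
  [Int.ofNat 1, Int.negSucc 0, Int.negSucc 0, Int.ofNat 1, Int.ofNat 1, Int.negSucc 0, Int.ofNat 1, Int.ofNat 1, Int.negSucc 0, Int.ofNat 1, Int.ofNat 1, Int.negSucc 0, Int.negSucc 2, Int.negSucc 0, Int.ofNat 1, Int.ofNat 1, Int.negSucc 0, Int.ofNat 1, Int.negSucc 0, Int.ofNat 1, Int.negSucc 0, Int.negSucc 0, Int.negSucc 0, Int.negSucc 0],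
  [Int.ofNat 1, Int.negSucc 0, Int.negSucc 0, Int.ofNat 1, Int.negSucc 0, Int.ofNat 1, Int.ofNat 1, Int.negSucc 0, Int.ofNat 1, Int.negSucc 0, Int.negSucc 0, Int.ofNat 1, Int.negSucc 0, Int.negSucc 0, Int.ofNat 1, Int.ofNat 1, Int.negSucc 2, Int.negSucc 0, Int.ofNat 1, Int.ofNat 1, Int.negSucc 0, Int.ofNat 1, Int.negSucc 0, Int.negSucc 0],
  [Int.negSucc 0, Int.negSucc 0, Int.ofNat 1, Int.ofNat 1, Int.negSucc 0, Int.ofNat 1, Int.ofNat 1, Int.ofNat 1, Int.ofNat 1, Int.ofNat 1, Int.ofNat 1, Int.negSucc 0, Int.negSucc 0, Int.negSucc 0, Int.ofNat 1, Int.ofNat 1, Int.negSucc 2, Int.negSucc 0, Int.negSucc 0, Int.ofNat 1, Int.negSucc 0, Int.negSucc 0, Int.negSucc 0, Int.negSucc 0],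
  [Int.negSucc 0, Int.negSucc 0, Int.negSucc 0, Int.ofNat 1, Int.ofNat 1, Int.negSucc 0, Int.ofNat 1, Int.ofNat 1, Int.ofNat 1, Int.ofNat 1, Int.ofNat 1, Int.ofNat 1, Int.negSucc 0, Int.negSucc 0, Int.negSucc 0, Int.ofNat 1, Int.ofNat 1, Int.negSucc 2, Int.negSucc 0, Int.negSucc 0, Int.ofNat 1, Int.negSucc 0, Int.negSucc 0, Int.negSucc 0],
  [Int.negSucc 0, Int.negSucc 0, Int.negSucc 0, Int.ofNat 3, Int.ofNat 1, Int.ofNat 1, Int.ofNat 1, Int.ofNat 1, Int.ofNat 1, Int.negSucc 0, Int.negSucc 0, Int.ofNat 1, Int.negSucc 0, Int.negSucc 0, Int.ofNat 1, Int.negSucc 0, Int.ofNat 1, Int.negSucc 0, Int.negSucc 0, Int.negSucc 0, Int.negSucc 0, Int.negSucc 0, Int.negSucc 0, Int.negSucc 0],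
  [Int.ofNat 3, Int.ofNat 1, Int.ofNat 1, Int.ofNat 1, Int.ofNat 1, Int.ofNat 1, Int.negSucc 0, Int.negSucc 0, Int.ofNat 1, Int.negSucc 0, Int.negSucc 0, Int.ofNat 1, Int.negSucc 0, Int.ofNat 1, Int.negSucc 0, Int.negSucc 0, Int.negSucc 0, Int.negSucc 0, Int.negSucc 0, Int.negSucc 0, Int.negSucc 0, Int.negSucc 0, Int.negSucc 0, Int.negSucc 0],
  [Int.negSucc 0, Int.ofNat 1, Int.ofNat 1, Int.ofNat 1, Int.ofNat 1, Int.ofNat 1, Int.ofNat 1, Int.ofNat 1, Int.ofNat 1, Int.ofNat 1, Int.ofNat 1, Int.ofNat 1, Int.negSucc 0, Int.ofNat 1, Int.negSucc 0, Int.ofNat 1, Int.negSucc 0, Int.negSucc 0, Int.negSucc 0, Int.ofNat 1, Int.ofNat 1, Int.ofNat 1, Int.negSucc 0, Int.ofNat 3],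
  [Int.negSucc 0, Int.ofNat 1, Int.ofNat 1, Int.ofNat 1, Int.negSucc 0, Int.ofNat 1, Int.ofNat 1, Int.ofNat 1, Int.negSucc 0, Int.ofNat 1, Int.ofNat 1, Int.negSucc 0, Int.ofNat 1, Int.negSucc 0, Int.negSucc 0, Int.ofNat 1, Int.ofNat 1, Int.negSucc 0, Int.ofNat 1, Int.ofNat 1, Int.ofNat 1, Int.ofNat 1, Int.ofNat 1, Int.ofNat 3],
  [Int.ofNat 3, Int.ofNat 1, Int.ofNat 1, Int.ofNat 1, Int.negSucc 0, Int.ofNat 1, Int.negSucc 0, Int.negSucc 0, Int.negSucc 0, Int.negSucc 0, Int.negSucc 0, Int.negSucc 0, Int.ofNat 1, Int.negSucc 0, Int.negSucc 0, Int.negSucc 0, Int.ofNat 1, Int.negSucc 0, Int.ofNat 1, Int.negSucc 0, Int.negSucc 0, Int.negSucc 0, Int.ofNat 1, Int.negSucc 0],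
  [Int.ofNat 3, Int.ofNat 1, Int.negSucc 0, Int.ofNat 1, Int.negSucc 0, Int.negSucc 0, Int.ofNat 1, Int.negSucc 0, Int.negSucc 0, Int.ofNat 1, Int.ofNat 1, Int.negSucc 0, Int.ofNat 1, Int.negSucc 0, Int.negSucc 0, Int.ofNat 1, Int.ofNat 1, Int.negSucc 0, Int.negSucc 0, Int.negSucc 0, Int.negSucc 0, Int.negSucc 0, Int.negSucc 0, Int.negSucc 0],
  [Int.ofNat 1, Int.ofNat 1, Int.negSucc 0, Int.negSucc 0, Int.negSucc 0, Int.ofNat 1, Int.negSucc 0, Int.ofNat 1, Int.negSucc 0, Int.negSucc 0, Int.negSucc 0, Int.negSucc 0, Int.ofNat 1, Int.negSucc 0, Int.negSucc 0, Int.negSucc 0, Int.negSucc 0, Int.ofNat 1, Int.ofNat 1, Int.negSucc 0, Int.ofNat 3, Int.ofNat 1, Int.negSucc 0, Int.negSucc 0],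
  [Int.negSucc 0, Int.negSucc 0, Int.ofNat 1, Int.ofNat 1, Int.ofNat 1, Int.ofNat 1, Int.ofNat 1, Int.ofNat 1, Int.ofNat 1, Int.ofNat 1, Int.negSucc 0, Int.negSucc 0, Int.negSucc 0, Int.ofNat 1, Int.negSucc 0, Int.negSucc 0, Int.ofNat 1, Int.ofNat 1, Int.negSucc 0, Int.negSucc 0, Int.ofNat 3, Int.ofNat 1, Int.negSucc 0, Int.negSucc 0],
  [Int.negSucc 0, Int.negSucc 0, Int.negSucc 0, Int.negSucc 0, Int.ofNat 1, Int.ofNat 1, Int.negSucc 0, Int.ofNat 1, Int.ofNat 3, Int.ofNat 1, Int.ofNat 1, Int.ofNat 1, Int.ofNat 1, Int.ofNat 1, Int.negSucc 0, Int.ofNat 1, Int.negSucc 0, Int.ofNat 1, Int.negSucc 0, Int.ofNat 1, Int.ofNat 1, Int.negSucc 0, Int.negSucc 0, Int.negSucc 0],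
  [Int.ofNat 1, Int.negSucc 0, Int.ofNat 1, Int.negSucc 0, Int.ofNat 1, Int.ofNat 1, Int.negSucc 0, Int.negSucc 0, Int.ofNat 3, Int.negSucc 0, Int.negSucc 0, Int.negSucc 0, Int.ofNat 1, Int.ofNat 1, Int.negSucc 0, Int.ofNat 1, Int.negSucc 0, Int.ofNat 1, Int.ofNat 1, Int.ofNat 1, Int.ofNat 1, Int.ofNat 1, Int.negSucc 0, Int.negSucc 0],
  [Int.negSucc 0, Int.ofNat 1, Int.negSucc 0, Int.ofNat 1, Int.negSucc 0, Int.ofNat 1, Int.ofNat 1, Int.negSucc 0, Int.negSucc 0, Int.ofNat 3, Int.negSucc 0, Int.negSucc 0, Int.negSucc 0, Int.ofNat 1, Int.ofNat 1, Int.negSucc 0, Int.ofNat 1, Int.negSucc 0, Int.ofNat 1, Int.ofNat 1, Int.ofNat 1, Int.ofNat 1, Int.ofNat 1, Int.negSucc 0],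
  [Int.ofNat 0, Int.negSucc 1, Int.ofNat 0, Int.ofNat 0, Int.negSucc 1, Int.ofNat 0, Int.ofNat 0, Int.negSucc 1, Int.ofNat 0, Int.ofNat 2, Int.negSucc 1, Int.ofNat 0, Int.ofNat 0, Int.ofNat 0, Int.ofNat 0, Int.negSucc 1, Int.ofNat 0, Int.negSucc 1, Int.ofNat 2, Int.ofNat 0, Int.ofNat 0, Int.ofNat 0, Int.ofNat 0, Int.ofNat 0],
  [Int.ofNat 0, Int.negSucc 1, Int.ofNat 0, Int.ofNat 0, Int.negSucc 1, Int.ofNat 0, Int.ofNat 2, Int.negSucc 1, Int.ofNat 0, Int.ofNat 0, Int.ofNat 0, Int.ofNat 0, Int.negSucc 1, Int.ofNat 0, Int.negSucc 1, Int.ofNat 2, Int.ofNat 0, Int.ofNat 0, Int.ofNat 0, Int.ofNat 0, Int.ofNat 0, Int.negSucc 1, Int.ofNat 0, Int.ofNat 0],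
  [Int.negSucc 0, Int.ofNat 1, Int.negSucc 0, Int.ofNat 1, Int.negSucc 0, Int.ofNat 1, Int.ofNat 3, Int.negSucc 0, Int.ofNat 1, Int.negSucc 0, Int.negSucc 0, Int.ofNat 1, Int.negSucc 0, Int.ofNat 1, Int.negSucc 0, Int.ofNat 1, Int.ofNat 1, Int.ofNat 1, Int.ofNat 1, Int.ofNat 1, Int.negSucc 0, Int.negSucc 0, Int.ofNat 1, Int.negSucc 0],
  [Int.negSucc 0, Int.ofNat 3, Int.negSucc 0, Int.ofNat 1, Int.ofNat 1, Int.negSucc 0, Int.negSucc 0, Int.negSucc 0, Int.negSucc 0, Int.ofNat 1, Int.negSucc 0, Int.ofNat 1, Int.negSucc 0, Int.ofNat 1, Int.ofNat 1, Int.ofNat 1, Int.ofNat 1, Int.negSucc 0, Int.ofNat 1, Int.ofNat 1, Int.negSucc 0, Int.ofNat 1, Int.ofNat 1, Int.negSucc 0],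
  [Int.ofNat 1, Int.negSucc 2, Int.ofNat 1, Int.ofNat 1, Int.negSucc 0, Int.negSucc 0, Int.negSucc 0, Int.negSucc 0, Int.negSucc 0, Int.ofNat 1, Int.negSucc 0, Int.ofNat 1, Int.negSucc 0, Int.negSucc 0, Int.ofNat 1, Int.ofNat 1, Int.negSucc 0, Int.negSucc 0, Int.ofNat 1, Int.ofNat 1, Int.negSucc 0, Int.ofNat 1, Int.negSucc 0, Int.ofNat 1],
  [Int.ofNat 1, Int.negSucc 2, Int.negSucc 0, Int.ofNat 1, Int.negSucc 0, Int.ofNat 1, Int.ofNat 1, Int.negSucc 0, Int.negSucc 0, Int.negSucc 0, Int.ofNat 1, Int.ofNat 1, Int.negSucc 0, Int.negSucc 0, Int.ofNat 1, Int.negSucc 0, Int.negSucc 0, Int.negSucc 0, Int.negSucc 0, Int.ofNat 1, Int.negSucc 0, Int.ofNat 1, Int.ofNat 1, Int.ofNat 1],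
  [Int.negSucc 0, Int.negSucc 0, Int.negSucc 0, Int.ofNat 1, Int.ofNat 1, Int.negSucc 0, Int.negSucc 2, Int.ofNat 1, Int.negSucc 0, Int.negSucc 0, Int.ofNat 1, Int.negSucc 0, Int.negSucc 0, Int.negSucc 0, Int.ofNat 1, Int.ofNat 1, Int.negSucc 0, Int.ofNat 1, Int.ofNat 1, Int.negSucc 0, Int.ofNat 1, Int.ofNat 1, Int.negSucc 0, Int.ofNat 1],
  [Int.negSucc 0, Int.negSucc 0, Int.ofNat 1, Int.ofNat 1, Int.ofNat 1, Int.ofNat 1, Int.ofNat 3, Int.ofNat 1, Int.negSucc 0, Int.ofNat 1, Int.negSucc 0, Int.negSucc 0, Int.negSucc 0, Int.negSucc 0, Int.ofNat 1, Int.negSucc 0, Int.negSucc 0, Int.ofNat 1, Int.negSucc 0, Int.negSucc 0, Int.ofNat 1, Int.ofNat 1, Int.ofNat 1, Int.ofNat 1],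
  [Int.ofNat 1, Int.ofNat 1, Int.negSucc 0, Int.negSucc 0, Int.ofNat 1, Int.negSucc 0, Int.ofNat 1, Int.negSucc 0, Int.ofNat 1, Int.ofNat 1, Int.negSucc 0, Int.ofNat 1, Int.ofNat 1, Int.negSucc 0, Int.negSucc 0, Int.negSucc 0, Int.negSucc 0, Int.negSucc 0, Int.ofNat 1, Int.negSucc 2, Int.ofNat 1, Int.negSucc 0, Int.ofNat 1, Int.negSucc 0],
  [Int.ofNat 1, Int.ofNat 1, Int.ofNat 1, Int.negSucc 0, Int.negSucc 0, Int.negSucc 0, Int.ofNat 1, Int.negSucc 0, Int.negSucc 0, Int.ofNat 1, Int.negSucc 0, Int.negSucc 2, Int.ofNat 1, Int.ofNat 1, Int.negSucc 0, Int.negSucc 0, Int.negSucc 0, Int.ofNat 1, Int.ofNat 1, Int.ofNat 1, Int.negSucc 0, Int.ofNat 1, Int.negSucc 0, Int.negSucc 0],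
  [Int.ofNat 0, Int.ofNat 0, Int.ofNat 0, Int.ofNat 0, Int.ofNat 0, Int.ofNat 0, Int.ofNat 0, Int.negSucc 1, Int.ofNat 0, Int.ofNat 2, Int.ofNat 0, Int.negSucc 1, Int.ofNat 2, Int.ofNat 2, Int.ofNat 0, Int.ofNat 0, Int.ofNat 0, Int.ofNat 2, Int.ofNat 2, Int.ofNat 0, Int.ofNat 0, Int.ofNat 0, Int.ofNat 0, Int.ofNat 2],
  [Int.ofNat 0, Int.ofNat 0, Int.ofNat 0, Int.ofNat 0, Int.ofNat 0, Int.ofNat 0, Int.ofNat 0, Int.ofNat 0, Int.ofNat 0, Int.ofNat 0, Int.negSucc 1, Int.ofNat 0, Int.ofNat 2, Int.ofNat 0, Int.negSucc 1, Int.ofNat 2, Int.ofNat 2, Int.ofNat 0, Int.ofNat 0, Int.ofNat 0, Int.ofNat 2, Int.ofNat 2, Int.ofNat 0, Int.ofNat 2],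
  [Int.ofNat 1, Int.ofNat 1, Int.ofNat 1, Int.ofNat 1, Int.negSucc 0, Int.ofNat 1, Int.negSucc 0, Int.negSucc 0, Int.negSucc 0, Int.negSucc 0, Int.negSucc 2, Int.negSucc 0, Int.ofNat 1, Int.negSucc 0, Int.negSucc 0, Int.ofNat 1, Int.ofNat 1, Int.ofNat 1, Int.negSucc 0, Int.negSucc 0, Int.ofNat 1, Int.ofNat 1, Int.negSucc 0, Int.negSucc 0],
  [Int.ofNat 1, Int.ofNat 1, Int.ofNat 1, Int.negSucc 0, Int.ofNat 1, Int.negSucc 0, Int.negSucc 0, Int.negSucc 0, Int.negSucc 0, Int.negSucc 2, Int.negSucc 0, Int.ofNat 1, Int.negSucc 0, Int.negSucc 0, Int.ofNat 1, Int.ofNat 1, Int.ofNat 1, Int.negSucc 0, Int.negSucc 0, Int.ofNat 1, Int.ofNat 1, Int.negSucc 0, Int.ofNat 1, Int.negSucc 0],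
  [Int.negSucc 0, Int.ofNat 1, Int.negSucc 0, Int.negSucc 0, Int.ofNat 1, Int.negSucc 0, Int.negSucc 0, Int.ofNat 1, Int.negSucc 0, Int.ofNat 3, Int.ofNat 1, Int.negSucc 0, Int.negSucc 0, Int.negSucc 0, Int.ofNat 1, Int.ofNat 1, Int.ofNat 1, Int.negSucc 0, Int.ofNat 1, Int.ofNat 1, Int.ofNat 1, Int.ofNat 1, Int.ofNat 1, Int.negSucc 0],
  [Int.negSucc 0, Int.negSucc 0, Int.ofNat 1, Int.negSucc 0, Int.ofNat 1, Int.ofNat 1, Int.ofNat 1, Int.ofNat 1, Int.ofNat 3, Int.ofNat 1, Int.ofNat 1, Int.ofNat 1, Int.negSucc 0, Int.negSucc 0, Int.ofNat 1, Int.ofNat 1, Int.negSucc 0, Int.ofNat 1, Int.negSucc 0, Int.negSucc 0, Int.negSucc 0, Int.ofNat 1, Int.negSucc 0, Int.negSucc 0],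
  [Int.ofNat 1, Int.negSucc 0, Int.negSucc 0, Int.negSucc 0, Int.ofNat 1, Int.ofNat 1, Int.ofNat 1, Int.negSucc 0, Int.ofNat 3, Int.negSucc 0, Int.negSucc 0, Int.negSucc 0, Int.negSucc 0, Int.negSucc 0, Int.ofNat 1, Int.ofNat 1, Int.negSucc 0, Int.ofNat 1, Int.ofNat 1, Int.negSucc 0, Int.negSucc 0, Int.negSucc 0, Int.negSucc 0, Int.negSucc 0],
  [Int.negSucc 0, Int.ofNat 1, Int.negSucc 0, Int.negSucc 0, Int.negSucc 0, Int.ofNat 1, Int.ofNat 1, Int.ofNat 1, Int.negSucc 0, Int.ofNat 3, Int.negSucc 0, Int.negSucc 0, Int.negSucc 0, Int.negSucc 0, Int.negSucc 0, Int.ofNat 1, Int.ofNat 1, Int.negSucc 0, Int.ofNat 1, Int.ofNat 1, Int.negSucc 0, Int.negSucc 0, Int.negSucc 0, Int.negSucc 0],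
  [Int.ofNat 0, Int.negSucc 1, Int.ofNat 0, Int.ofNat 0, Int.ofNat 0, Int.ofNat 2, Int.ofNat 0, Int.ofNat 0, Int.ofNat 0, Int.ofNat 2, Int.negSucc 1, Int.ofNat 0, Int.ofNat 0, Int.ofNat 0, Int.ofNat 0, Int.ofNat 0, Int.ofNat 2, Int.ofNat 0, Int.ofNat 2, Int.ofNat 0, Int.negSucc 1, Int.negSucc 1, Int.ofNat 0, Int.ofNat 0],
  [Int.ofNat 0, Int.ofNat 0, Int.ofNat 2, Int.ofNat 0, Int.ofNat 0, Int.ofNat 0, Int.ofNat 2, Int.negSucc 1, Int.ofNat 0, Int.ofNat 0, Int.ofNat 0, Int.ofNat 0, Int.ofNat 0, Int.ofNat 2, Int.ofNat 0, Int.ofNat 2, Int.ofNat 0, Int.negSucc 1, Int.negSucc 1, Int.ofNat 0, Int.ofNat 0, Int.negSucc 1, Int.ofNat 0, Int.ofNat 0],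
  [Int.ofNat 1, Int.ofNat 1, Int.negSucc 0, Int.ofNat 1, Int.negSucc 0, Int.ofNat 1, Int.ofNat 3, Int.negSucc 0, Int.ofNat 1, Int.negSucc 0, Int.negSucc 0, Int.ofNat 1, Int.ofNat 1, Int.ofNat 1, Int.ofNat 1, Int.ofNat 1, Int.negSucc 0, Int.negSucc 0, Int.negSucc 0, Int.ofNat 1, Int.negSucc 0, Int.negSucc 0, Int.negSucc 0, Int.ofNat 1],
  [Int.ofNat 1, Int.ofNat 3, Int.negSucc 0, Int.ofNat 1, Int.negSucc 0, Int.negSucc 0, Int.negSucc 0, Int.negSucc 0, Int.ofNat 1, Int.ofNat 1, Int.negSucc 0, Int.negSucc 0, Int.negSucc 0, Int.negSucc 0, Int.negSucc 0, Int.ofNat 1, Int.ofNat 1, Int.ofNat 1, Int.ofNat 1, Int.ofNat 1, Int.negSucc 0, Int.ofNat 1, Int.ofNat 1, Int.ofNat 1],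
  [Int.ofNat 1, Int.negSucc 0, Int.ofNat 3, Int.ofNat 1, Int.negSucc 0, Int.negSucc 0, Int.negSucc 0, Int.negSucc 0, Int.ofNat 1, Int.ofNat 1, Int.negSucc 0, Int.negSucc 0, Int.negSucc 0, Int.negSucc 0, Int.negSucc 0, Int.ofNat 1, Int.ofNat 1, Int.ofNat 1, Int.ofNat 1, Int.ofNat 1, Int.negSucc 0, Int.ofNat 1, Int.ofNat 1, Int.ofNat 1],
  [Int.ofNat 1, Int.negSucc 0, Int.negSucc 2, Int.ofNat 1, Int.negSucc 0, Int.ofNat 1, Int.ofNat 1, Int.negSucc 0, Int.ofNat 1, Int.negSucc 0, Int.ofNat 1, Int.negSucc 0, Int.negSucc 0, Int.negSucc 0, Int.negSucc 0, Int.negSucc 0, Int.ofNat 1, Int.ofNat 1, Int.negSucc 0, Int.ofNat 1, Int.negSucc 0, Int.ofNat 1, Int.negSucc 0, Int.ofNat 1],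
  [Int.ofNat 1, Int.ofNat 1, Int.negSucc 0, Int.ofNat 1, Int.negSucc 0, Int.ofNat 1, Int.ofNat 1, Int.ofNat 1, Int.ofNat 1, Int.negSucc 0, Int.negSucc 0, Int.negSucc 0, Int.negSucc 0, Int.negSucc 0, Int.ofNat 1, Int.negSucc 0, Int.ofNat 1, Int.negSucc 0, Int.negSucc 0, Int.negSucc 2, Int.ofNat 1, Int.negSucc 0, Int.negSucc 0, Int.ofNat 1],
  [Int.negSucc 0, Int.negSucc 0, Int.ofNat 1, Int.negSucc 0, Int.ofNat 1, Int.ofNat 1, Int.negSucc 0, Int.ofNat 1, Int.negSucc 0, Int.ofNat 1, Int.negSucc 0, Int.negSucc 0, Int.ofNat 1, Int.ofNat 1, Int.ofNat 1, Int.negSucc 0, Int.negSucc 0, Int.negSucc 0, Int.ofNat 1, Int.negSucc 2, Int.ofNat 1, Int.negSucc 0, Int.negSucc 0, Int.ofNat 1],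
  [Int.ofNat 1, Int.negSucc 0, Int.negSucc 0, Int.negSucc 0, Int.negSucc 0, Int.ofNat 1, Int.negSucc 2, Int.ofNat 1, Int.ofNat 1, Int.ofNat 1, Int.negSucc 0, Int.ofNat 1, Int.negSucc 0, Int.ofNat 1, Int.ofNat 1, Int.negSucc 0, Int.negSucc 0, Int.ofNat 1, Int.ofNat 1, Int.negSucc 0, Int.negSucc 0, Int.ofNat 1, Int.negSucc 0, Int.negSucc 0],
  [Int.negSucc 0, Int.negSucc 0, Int.ofNat 1, Int.negSucc 0, Int.negSucc 0, Int.ofNat 1, Int.negSucc 2, Int.negSucc 0, Int.ofNat 1, Int.negSucc 0, Int.ofNat 1, Int.negSucc 0, Int.negSucc 0, Int.ofNat 1, Int.ofNat 1, Int.negSucc 0, Int.negSucc 0, Int.ofNat 1, Int.negSucc 0, Int.negSucc 0, Int.negSucc 0, Int.negSucc 0, Int.negSucc 0, Int.negSucc 0],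
  [Int.negSucc 0, Int.negSucc 0, Int.negSucc 0, Int.ofNat 1, Int.negSucc 0, Int.negSucc 0, Int.ofNat 1, Int.negSucc 2, Int.negSucc 0, Int.ofNat 1, Int.negSucc 0, Int.ofNat 1, Int.negSucc 0, Int.negSucc 0, Int.ofNat 1, Int.ofNat 1, Int.negSucc 0, Int.negSucc 0, Int.ofNat 1, Int.negSucc 0, Int.negSucc 0, Int.negSucc 0, Int.negSucc 0, Int.negSucc 0],
  [Int.negSucc 0, Int.negSucc 0, Int.negSucc 0, Int.ofNat 1, Int.ofNat 1, Int.negSucc 0, Int.ofNat 3, Int.negSucc 0, Int.negSucc 0, Int.ofNat 1, Int.negSucc 0, Int.ofNat 1, Int.negSucc 0, Int.ofNat 1, Int.ofNat 1, Int.ofNat 1, Int.ofNat 1, Int.negSucc 0, Int.ofNat 1, Int.ofNat 1, Int.negSucc 0, Int.ofNat 1, Int.ofNat 1, Int.negSucc 0],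
  [Int.ofNat 1, Int.ofNat 1, Int.negSucc 0, Int.ofNat 3, Int.negSucc 0, Int.negSucc 0, Int.ofNat 1, Int.negSucc 0, Int.ofNat 1, Int.negSucc 0, Int.ofNat 1, Int.ofNat 1, Int.ofNat 1, Int.ofNat 1, Int.negSucc 0, Int.ofNat 1, Int.ofNat 1, Int.negSucc 0, Int.ofNat 1, Int.ofNat 1, Int.negSucc 0, Int.negSucc 0, Int.negSucc 0, Int.negSucc 0],
  [Int.negSucc 0, Int.negSucc 0, Int.ofNat 1, Int.ofNat 3, Int.negSucc 0, Int.negSucc 0, Int.ofNat 1, Int.negSucc 0, Int.negSucc 0, Int.negSucc 0, Int.ofNat 1, Int.negSucc 0, Int.negSucc 0, Int.ofNat 1, Int.negSucc 0, Int.ofNat 1, Int.ofNat 1, Int.negSucc 0, Int.negSucc 0, Int.ofNat 1, Int.negSucc 0, Int.negSucc 0, Int.negSucc 0, Int.ofNat 1],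
  [Int.negSucc 0, Int.ofNat 1, Int.negSucc 0, Int.ofNat 3, Int.negSucc 0, Int.negSucc 0, Int.ofNat 1, Int.ofNat 1, Int.negSucc 0, Int.ofNat 1, Int.negSucc 0, Int.negSucc 0, Int.negSucc 0, Int.ofNat 1, Int.negSucc 0, Int.ofNat 1, Int.negSucc 0, Int.negSucc 0, Int.negSucc 0, Int.negSucc 0, Int.negSucc 0, Int.negSucc 0, Int.ofNat 1, Int.ofNat 1],
  [Int.ofNat 1, Int.negSucc 0, Int.ofNat 1, Int.ofNat 3, Int.negSucc 0, Int.negSucc 0, Int.ofNat 1, Int.ofNat 1, Int.ofNat 1, Int.ofNat 1, Int.negSucc 0, Int.ofNat 1, Int.ofNat 1, Int.ofNat 1, Int.negSucc 0, Int.ofNat 1, Int.negSucc 0, Int.negSucc 0, Int.ofNat 1, Int.negSucc 0, Int.negSucc 0, Int.negSucc 0, Int.ofNat 1, Int.negSucc 0],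
  [Int.ofNat 1, Int.negSucc 0, Int.negSucc 0, Int.ofNat 3, Int.negSucc 0, Int.ofNat 1, Int.negSucc 0, Int.ofNat 1, Int.ofNat 1, Int.negSucc 0, Int.ofNat 1, Int.ofNat 1, Int.ofNat 1, Int.ofNat 1, Int.negSucc 0, Int.negSucc 0, Int.negSucc 0, Int.negSucc 0, Int.negSucc 0, Int.negSucc 0, Int.negSucc 0, Int.negSucc 0, Int.negSucc 0, Int.negSucc 0],
  [Int.negSucc 0, Int.negSucc 0, Int.negSucc 0, Int.ofNat 1, Int.negSucc 0, Int.negSucc 0, Int.negSucc 0, Int.negSucc 0, Int.negSucc 0, Int.ofNat 1, Int.negSucc 0, Int.negSucc 0, Int.ofNat 1, Int.ofNat 1, Int.ofNat 1, Int.negSucc 0, Int.ofNat 1, Int.ofNat 3, Int.ofNat 1, Int.negSucc 0, Int.ofNat 1, Int.negSucc 0, Int.negSucc 0, Int.negSucc 0],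
  [Int.negSucc 0, Int.negSucc 0, Int.ofNat 1, Int.ofNat 1, Int.negSucc 0, Int.ofNat 1, Int.ofNat 1, Int.negSucc 0, Int.negSucc 0, Int.negSucc 0, Int.ofNat 1, Int.negSucc 0, Int.ofNat 1, Int.ofNat 1, Int.ofNat 1, Int.ofNat 1, Int.ofNat 1, Int.ofNat 3, Int.negSucc 0, Int.negSucc 0, Int.ofNat 1, Int.negSucc 0, Int.ofNat 1, Int.negSucc 0],
  [Int.ofNat 0, Int.ofNat 0, Int.negSucc 1, Int.negSucc 1, Int.negSucc 1, Int.negSucc 1, Int.ofNat 2, Int.ofNat 0, Int.ofNat 0, Int.negSucc 1, Int.ofNat 0, Int.ofNat 0, Int.ofNat 2, Int.ofNat 0, Int.negSucc 1, Int.ofNat 0, Int.ofNat 0, Int.ofNat 0, Int.ofNat 0, Int.ofNat 0, Int.ofNat 0, Int.ofNat 0, Int.ofNat 0, Int.ofNat 0],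
  [Int.ofNat 0, Int.ofNat 0, Int.ofNat 2, Int.negSucc 1, Int.negSucc 1, Int.ofNat 0, Int.ofNat 0, Int.negSucc 1, Int.ofNat 0, Int.ofNat 2, Int.ofNat 0, Int.ofNat 0, Int.ofNat 0, Int.negSucc 1, Int.ofNat 0, Int.ofNat 0, Int.ofNat 0, Int.ofNat 0, Int.negSucc 1, Int.ofNat 0, Int.ofNat 0, Int.ofNat 0, Int.negSucc 1, Int.ofNat 0],
  [Int.ofNat 1, Int.ofNat 1, Int.negSucc 0, Int.negSucc 0, Int.ofNat 1, Int.ofNat 1, Int.ofNat 1, Int.negSucc 0, Int.ofNat 1, Int.ofNat 1, Int.negSucc 0, Int.ofNat 1, Int.ofNat 1, Int.ofNat 1, Int.ofNat 1, Int.negSucc 0, Int.ofNat 3, Int.ofNat 1, Int.negSucc 0, Int.ofNat 1, Int.negSucc 0, Int.ofNat 1, Int.ofNat 1, Int.ofNat 1],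
  [Int.negSucc 0, Int.ofNat 1, Int.ofNat 1, Int.ofNat 1, Int.ofNat 1, Int.negSucc 0, Int.negSucc 0, Int.ofNat 1, Int.ofNat 1, Int.ofNat 1, Int.negSucc 0, Int.ofNat 1, Int.ofNat 1, Int.negSucc 0, Int.ofNat 1, Int.ofNat 1, Int.ofNat 1, Int.ofNat 1, Int.negSucc 0, Int.ofNat 3, Int.ofNat 1, Int.negSucc 0, Int.ofNat 1, Int.ofNat 1],
  [Int.ofNat 2, Int.ofNat 0, Int.ofNat 0, Int.ofNat 0, Int.ofNat 0, Int.negSucc 1, Int.negSucc 1, Int.ofNat 0, Int.ofNat 0, Int.ofNat 0, Int.negSucc 1, Int.ofNat 0, Int.ofNat 0, Int.negSucc 1, Int.ofNat 0, Int.ofNat 0, Int.ofNat 0, Int.ofNat 0, Int.negSucc 1, Int.ofNat 2, Int.ofNat 0, Int.negSucc 1, Int.ofNat 0, Int.ofNat 0],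
  [Int.ofNat 0, Int.ofNat 0, Int.ofNat 0, Int.ofNat 0, Int.negSucc 1, Int.negSucc 1, Int.ofNat 0, Int.ofNat 0, Int.ofNat 0, Int.negSucc 1, Int.ofNat 0, Int.ofNat 0, Int.negSucc 1, Int.ofNat 0, Int.ofNat 0, Int.ofNat 0, Int.ofNat 0, Int.negSucc 1, Int.ofNat 2, Int.ofNat 0, Int.negSucc 1, Int.ofNat 0, Int.ofNat 2, Int.ofNat 0],
  [Int.ofNat 0, Int.ofNat 0, Int.ofNat 0, Int.ofNat 0, Int.negSucc 1, Int.negSucc 1, Int.ofNat 0, Int.ofNat 0, Int.ofNat 0, Int.ofNat 2, Int.ofNat 0, Int.ofNat 0, Int.negSucc 1, Int.ofNat 0, Int.ofNat 0, Int.ofNat 0, Int.ofNat 0, Int.negSucc 1, Int.negSucc 1, Int.ofNat 0, Int.negSucc 1, Int.ofNat 0, Int.ofNat 2, Int.ofNat 0],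
  [Int.ofNat 0, Int.ofNat 0, Int.negSucc 1, Int.ofNat 0, Int.ofNat 0, Int.ofNat 0, Int.negSucc 1, Int.negSucc 1, Int.ofNat 2, Int.ofNat 0, Int.ofNat 0, Int.ofNat 0, Int.ofNat 0, Int.ofNat 0, Int.ofNat 0, Int.ofNat 0, Int.negSucc 1, Int.ofNat 2, Int.ofNat 0, Int.negSucc 1, Int.negSucc 1, Int.ofNat 0, Int.ofNat 0, Int.ofNat 0],
  [Int.ofNat 0, Int.ofNat 0, Int.ofNat 2, Int.ofNat 0, Int.ofNat 0, Int.ofNat 0, Int.negSucc 1, Int.ofNat 2, Int.ofNat 2, Int.ofNat 0, Int.ofNat 0, Int.ofNat 0, Int.ofNat 0, Int.ofNat 0, Int.ofNat 0, Int.ofNat 0, Int.negSucc 1, Int.ofNat 2, Int.ofNat 0, Int.negSucc 1, Int.negSucc 1, Int.ofNat 0, Int.ofNat 0, Int.ofNat 0],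
  [Int.ofNat 0, Int.ofNat 0, Int.ofNat 0, Int.ofNat 2, Int.ofNat 0, Int.ofNat 0, Int.ofNat 0, Int.negSucc 1, Int.ofNat 2, Int.ofNat 2, Int.ofNat 0, Int.ofNat 0, Int.ofNat 0, Int.ofNat 0, Int.ofNat 0, Int.ofNat 0, Int.ofNat 0, Int.negSucc 1, Int.ofNat 2, Int.ofNat 0, Int.negSucc 1, Int.negSucc 1, Int.ofNat 0, Int.ofNat 0],
  [Int.ofNat 0, Int.ofNat 0, Int.ofNat 0, Int.ofNat 2, Int.ofNat 0, Int.ofNat 0, Int.ofNat 2, Int.ofNat 0, Int.ofNat 0, Int.ofNat 2, Int.ofNat 0, Int.negSucc 1, Int.negSucc 1, Int.ofNat 0, Int.ofNat 0, Int.ofNat 0, Int.ofNat 0, Int.negSucc 1, Int.ofNat 0, Int.ofNat 2, Int.negSucc 1, Int.ofNat 0, Int.ofNat 0, Int.ofNat 0],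
  [Int.ofNat 2, Int.ofNat 0, Int.ofNat 0, Int.ofNat 2, Int.ofNat 0, Int.ofNat 0, Int.ofNat 2, Int.ofNat 0, Int.negSucc 1, Int.negSucc 1, Int.ofNat 0, Int.ofNat 0, Int.ofNat 0, Int.ofNat 0, Int.negSucc 1, Int.ofNat 0, Int.ofNat 2, Int.negSucc 1, Int.ofNat 0, Int.ofNat 0, Int.ofNat 0, Int.ofNat 0, Int.ofNat 0, Int.ofNat 0],
  [Int.negSucc 0, Int.ofNat 1, Int.ofNat 1, Int.ofNat 3, Int.negSucc 0, Int.ofNat 1, Int.ofNat 1, Int.negSucc 0, Int.negSucc 0, Int.negSucc 0, Int.ofNat 1, Int.ofNat 1, Int.ofNat 1, Int.negSucc 0, Int.negSucc 0, Int.ofNat 1, Int.ofNat 1, Int.negSucc 0, Int.ofNat 1, Int.negSucc 0, Int.ofNat 1, Int.negSucc 0, Int.negSucc 0, Int.ofNat 1],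
  [Int.negSucc 0, Int.ofNat 1, Int.negSucc 0, Int.ofNat 3, Int.ofNat 1, Int.negSucc 0, Int.ofNat 1, Int.ofNat 1, Int.ofNat 1, Int.negSucc 0, Int.ofNat 1, Int.negSucc 0, Int.negSucc 0, Int.ofNat 1, Int.negSucc 0, Int.ofNat 1, Int.negSucc 0, Int.negSucc 0, Int.ofNat 1, Int.ofNat 1, Int.negSucc 0, Int.ofNat 1, Int.negSucc 0, Int.ofNat 1],
  [Int.ofNat 1, Int.negSucc 0, Int.ofNat 1, Int.ofNat 3, Int.ofNat 1, Int.negSucc 0, Int.negSucc 0, Int.negSucc 0, Int.ofNat 1, Int.negSucc 0, Int.ofNat 1, Int.negSucc 0, Int.negSucc 0, Int.ofNat 1, Int.negSucc 0, Int.ofNat 1, Int.negSucc 0, Int.negSucc 0, Int.ofNat 1, Int.negSucc 0, Int.negSucc 0, Int.negSucc 0, Int.negSucc 0, Int.negSucc 0],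
  [Int.ofNat 1, Int.negSucc 0, Int.negSucc 0, Int.ofNat 3, Int.ofNat 1, Int.ofNat 1, Int.ofNat 1, Int.negSucc 0, Int.ofNat 1, Int.ofNat 1, Int.negSucc 0, Int.negSucc 0, Int.negSucc 0, Int.ofNat 1, Int.negSucc 0, Int.negSucc 0, Int.negSucc 0, Int.negSucc 0, Int.negSucc 0, Int.negSucc 0, Int.negSucc 0, Int.negSucc 0, Int.ofNat 1, Int.negSucc 0],
  [Int.negSucc 0, Int.negSucc 0, Int.negSucc 0, Int.ofNat 1, Int.negSucc 0, Int.ofNat 1, Int.negSucc 0, Int.ofNat 3, Int.ofNat 1, Int.negSucc 0, Int.ofNat 1, Int.negSucc 0, Int.negSucc 0, Int.ofNat 1, Int.negSucc 0, Int.negSucc 0, Int.negSucc 0, Int.negSucc 0, Int.ofNat 1, Int.negSucc 0, Int.ofNat 1, Int.negSucc 0, Int.ofNat 1, Int.negSucc 0],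
  [Int.ofNat 1, Int.ofNat 1, Int.ofNat 1, Int.negSucc 0, Int.ofNat 1, Int.ofNat 1, Int.ofNat 1, Int.ofNat 3, Int.negSucc 0, Int.ofNat 1, Int.ofNat 1, Int.negSucc 0, Int.ofNat 1, Int.negSucc 0, Int.negSucc 0, Int.negSucc 0, Int.ofNat 1, Int.negSucc 0, Int.negSucc 0, Int.negSucc 0, Int.ofNat 1, Int.negSucc 0, Int.ofNat 1, Int.negSucc 0],
  [Int.negSucc 0, Int.ofNat 1, Int.negSucc 0, Int.negSucc 0, Int.negSucc 0, Int.ofNat 1, Int.negSucc 0, Int.negSucc 0, Int.ofNat 1, Int.ofNat 1, Int.ofNat 1, Int.ofNat 1, Int.negSucc 0, Int.ofNat 3, Int.negSucc 0, Int.negSucc 0, Int.ofNat 1, Int.ofNat 1, Int.negSucc 0, Int.ofNat 1, Int.negSucc 0, Int.ofNat 1, Int.ofNat 1, Int.ofNat 1],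
  [Int.ofNat 1, Int.ofNat 1, Int.ofNat 1, Int.negSucc 0, Int.negSucc 0, Int.ofNat 1, Int.negSucc 0, Int.ofNat 1, Int.ofNat 1, Int.negSucc 0, Int.negSucc 0, Int.negSucc 0, Int.negSucc 0, Int.ofNat 3, Int.negSucc 0, Int.negSucc 0, Int.ofNat 1, Int.ofNat 1, Int.ofNat 1, Int.ofNat 1, Int.negSucc 0, Int.negSucc 0, Int.ofNat 1, Int.ofNat 1],
  [Int.ofNat 1, Int.ofNat 1, Int.ofNat 1, Int.ofNat 1, Int.negSucc 0, Int.negSucc 0, Int.ofNat 1, Int.negSucc 0, Int.ofNat 1, Int.ofNat 1, Int.negSucc 0, Int.negSucc 0, Int.negSucc 0, Int.negSucc 0, Int.ofNat 3, Int.negSucc 0, Int.negSucc 0, Int.ofNat 1, Int.ofNat 1, Int.ofNat 1, Int.ofNat 1, Int.negSucc 0, Int.negSucc 0, Int.ofNat 1],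
  [Int.ofNat 1, Int.ofNat 1, Int.ofNat 1, Int.negSucc 0, Int.ofNat 1, Int.negSucc 2, Int.ofNat 1, Int.negSucc 0, Int.ofNat 1, Int.ofNat 1, Int.negSucc 0, Int.negSucc 0, Int.negSucc 0, Int.ofNat 1, Int.ofNat 1, Int.negSucc 0, Int.ofNat 1, Int.negSucc 0, Int.ofNat 1, Int.ofNat 1, Int.ofNat 1, Int.negSucc 0, Int.ofNat 1, Int.ofNat 1],
  [Int.negSucc 0, Int.ofNat 1, Int.negSucc 2, Int.ofNat 1, Int.negSucc 0, Int.ofNat 1, Int.ofNat 1, Int.negSucc 0, Int.negSucc 0, Int.negSucc 0, Int.ofNat 1, Int.ofNat 1, Int.negSucc 0, Int.ofNat 1, Int.negSucc 0, Int.ofNat 1, Int.ofNat 1, Int.ofNat 1, Int.negSucc 0, Int.ofNat 1, Int.ofNat 1, Int.ofNat 1, Int.ofNat 1, Int.ofNat 1],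
  [Int.ofNat 0, Int.negSucc 1, Int.ofNat 2, Int.ofNat 0, Int.negSucc 1, Int.ofNat 0, Int.ofNat 0, Int.negSucc 1, Int.ofNat 0, Int.negSucc 1, Int.ofNat 0, Int.ofNat 2, Int.ofNat 0, Int.ofNat 0, Int.negSucc 1, Int.ofNat 0, Int.ofNat 0, Int.ofNat 0, Int.ofNat 0, Int.ofNat 0, Int.ofNat 0, Int.ofNat 0, Int.ofNat 0, Int.negSucc 1],
  [Int.ofNat 0, Int.ofNat 0, Int.negSucc 1, Int.ofNat 0, Int.ofNat 0, Int.negSucc 1, Int.ofNat 2, Int.ofNat 0, Int.ofNat 0, Int.ofNat 0, Int.ofNat 0, Int.ofNat 0, Int.negSucc 1, Int.ofNat 0, Int.ofNat 0, Int.ofNat 0, Int.ofNat 0, Int.negSucc 1, Int.negSucc 1, Int.ofNat 2, Int.ofNat 0, Int.ofNat 0, Int.ofNat 0, Int.negSucc 1],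
  [Int.negSucc 1, Int.negSucc 1, Int.ofNat 0, Int.ofNat 2, Int.ofNat 0, Int.ofNat 0, Int.ofNat 0, Int.negSucc 1, Int.ofNat 2, Int.ofNat 0, Int.ofNat 0, Int.ofNat 2, Int.ofNat 0, Int.ofNat 0, Int.ofNat 2, Int.ofNat 0, Int.ofNat 0, Int.ofNat 0, Int.ofNat 0, Int.ofNat 0, Int.ofNat 0, Int.negSucc 1, Int.ofNat 0, Int.ofNat 0],
  [Int.negSucc 1, Int.negSucc 1, Int.ofNat 0, Int.ofNat 2, Int.ofNat 0, Int.ofNat 0, Int.ofNat 0, Int.negSucc 1, Int.ofNat 2, Int.ofNat 0, Int.ofNat 0, Int.ofNat 2, Int.ofNat 0, Int.ofNat 0, Int.ofNat 2, Int.ofNat 0, Int.ofNat 0, Int.ofNat 0, Int.ofNat 0, Int.ofNat 0, Int.ofNat 0, Int.negSucc 1, Int.ofNat 0, Int.ofNat 0],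
  [Int.ofNat 0, Int.ofNat 0, Int.ofNat 0, Int.ofNat 0, Int.negSucc 1, Int.ofNat 0, Int.negSucc 1, Int.ofNat 2, Int.ofNat 0, Int.negSucc 1, Int.ofNat 0, Int.ofNat 0, Int.ofNat 0, Int.ofNat 2, Int.negSucc 1, Int.ofNat 0, Int.ofNat 0, Int.ofNat 2, Int.ofNat 0, Int.ofNat 0, Int.ofNat 2, Int.ofNat 0, Int.ofNat 0, Int.ofNat 0],
  [Int.ofNat 0, Int.ofNat 0, Int.ofNat 0, Int.ofNat 0, Int.negSucc 1, Int.ofNat 0, Int.ofNat 2, Int.ofNat 2, Int.ofNat 0, Int.ofNat 2, Int.ofNat 0, Int.ofNat 0, Int.ofNat 0, Int.ofNat 2, Int.negSucc 1, Int.ofNat 0, Int.ofNat 0, Int.ofNat 2, Int.ofNat 0, Int.ofNat 0, Int.ofNat 2, Int.ofNat 0, Int.ofNat 0, Int.ofNat 0],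
  [Int.ofNat 0, Int.ofNat 0, Int.ofNat 0, Int.ofNat 0, Int.negSucc 1, Int.ofNat 0, Int.ofNat 0, Int.ofNat 0, Int.ofNat 0, Int.ofNat 0, Int.negSucc 1, Int.ofNat 0, Int.ofNat 0, Int.ofNat 2, Int.negSucc 1, Int.negSucc 1, Int.ofNat 0, Int.ofNat 2, Int.ofNat 0, Int.negSucc 1, Int.ofNat 0, Int.negSucc 1, Int.ofNat 0, Int.ofNat 0],
  [Int.ofNat 0, Int.ofNat 0, Int.ofNat 0, Int.ofNat 0, Int.ofNat 0, Int.negSucc 1, Int.ofNat 0, Int.ofNat 0, Int.ofNat 0, Int.ofNat 0, Int.ofNat 0, Int.negSucc 1, Int.ofNat 0, Int.ofNat 0, Int.ofNat 2, Int.negSucc 1, Int.ofNat 2, Int.ofNat 0, Int.negSucc 1, Int.ofNat 0, Int.negSucc 1, Int.ofNat 0, Int.negSucc 1, Int.ofNat 0],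
  [Int.ofNat 0, Int.ofNat 0, Int.ofNat 0, Int.ofNat 0, Int.ofNat 0, Int.negSucc 1, Int.ofNat 0, Int.ofNat 0, Int.ofNat 2, Int.ofNat 2, Int.ofNat 2, Int.ofNat 0, Int.ofNat 2, Int.ofNat 0, Int.ofNat 2, Int.ofNat 0, Int.ofNat 2, Int.ofNat 0, Int.ofNat 0, Int.ofNat 0, Int.ofNat 0, Int.ofNat 0, Int.negSucc 1, Int.ofNat 0],
  [Int.ofNat 0, Int.ofNat 0, Int.negSucc 1, Int.ofNat 0, Int.ofNat 0, Int.ofNat 0, Int.ofNat 0, Int.ofNat 0, Int.negSucc 1, Int.ofNat 0, Int.ofNat 0, Int.ofNat 2, Int.ofNat 2, Int.ofNat 2, Int.ofNat 0, Int.ofNat 2, Int.ofNat 0, Int.ofNat 2, Int.ofNat 0, Int.ofNat 2, Int.ofNat 0, Int.ofNat 0, Int.ofNat 0, Int.ofNat 0],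
  [Int.negSucc 0, Int.negSucc 0, Int.ofNat 1, Int.negSucc 0, Int.negSucc 0, Int.negSucc 0, Int.negSucc 0, Int.negSucc 0, Int.negSucc 2, Int.negSucc 0, Int.negSucc 0, Int.ofNat 1, Int.ofNat 1, Int.ofNat 1, Int.negSucc 0, Int.ofNat 1, Int.negSucc 0, Int.ofNat 1, Int.negSucc 0, Int.ofNat 1, Int.negSucc 0, Int.negSucc 0, Int.negSucc 0, Int.negSucc 0],
  [Int.negSucc 0, Int.ofNat 1, Int.negSucc 0, Int.negSucc 0, Int.negSucc 0, Int.negSucc 0, Int.negSucc 0, Int.negSucc 2, Int.negSucc 0, Int.negSucc 0, Int.ofNat 1, Int.ofNat 1, Int.ofNat 1, Int.negSucc 0, Int.ofNat 1, Int.negSucc 0, Int.ofNat 1, Int.negSucc 0, Int.ofNat 1, Int.negSucc 0, Int.negSucc 0, Int.negSucc 0, Int.negSucc 0, Int.negSucc 0],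
  [Int.ofNat 1, Int.ofNat 1, Int.ofNat 1, Int.negSucc 0, Int.negSucc 0, Int.negSucc 0, Int.negSucc 0, Int.ofNat 3, Int.negSucc 0, Int.ofNat 1, Int.negSucc 0, Int.negSucc 0, Int.ofNat 1, Int.negSucc 0, Int.ofNat 1, Int.negSucc 0, Int.ofNat 1, Int.negSucc 0, Int.negSucc 0, Int.negSucc 0, Int.negSucc 0, Int.ofNat 1, Int.negSucc 0, Int.negSucc 0],
  [Int.ofNat 1, Int.ofNat 1, Int.negSucc 0, Int.negSucc 0, Int.ofNat 1, Int.negSucc 0, Int.negSucc 0, Int.negSucc 0, Int.ofNat 1, Int.ofNat 1, Int.ofNat 1, Int.ofNat 1, Int.negSucc 0, Int.negSucc 0, Int.negSucc 0, Int.negSucc 0, Int.ofNat 1, Int.negSucc 0, Int.negSucc 0, Int.negSucc 0, Int.negSucc 0, Int.ofNat 3, Int.negSucc 0, Int.negSucc 0],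
  [Int.negSucc 0, Int.ofNat 1, Int.ofNat 1, Int.negSucc 0, Int.ofNat 1, Int.negSucc 0, Int.negSucc 0, Int.ofNat 1, Int.ofNat 1, Int.negSucc 0, Int.negSucc 0, Int.negSucc 0, Int.negSucc 0, Int.negSucc 0, Int.negSucc 0, Int.negSucc 0, Int.ofNat 1, Int.negSucc 0, Int.ofNat 1, Int.negSucc 0, Int.negSucc 0, Int.negSucc 2, Int.negSucc 0, Int.negSucc 0],
  [Int.negSucc 0, Int.negSucc 0, Int.ofNat 1, Int.ofNat 1, Int.negSucc 0, Int.ofNat 1, Int.negSucc 0, Int.negSucc 0, Int.ofNat 1, Int.ofNat 1, Int.negSucc 0, Int.negSucc 0, Int.negSucc 0, Int.negSucc 0, Int.negSucc 0, Int.negSucc 0, Int.negSucc 0, Int.ofNat 1, Int.negSucc 0, Int.ofNat 1, Int.negSucc 0, Int.negSucc 0, Int.negSucc 2, Int.negSucc 0],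
  [Int.ofNat 0, Int.ofNat 0, Int.negSucc 1, Int.ofNat 0, Int.ofNat 2, Int.ofNat 0, Int.ofNat 0, Int.ofNat 0, Int.ofNat 2, Int.ofNat 2, Int.ofNat 0, Int.ofNat 0, Int.ofNat 0, Int.ofNat 2, Int.negSucc 1, Int.ofNat 0, Int.ofNat 2, Int.ofNat 0, Int.ofNat 0, Int.ofNat 2, Int.ofNat 0, Int.ofNat 0, Int.ofNat 0, Int.ofNat 0],
  [Int.ofNat 0, Int.ofNat 2, Int.ofNat 0, Int.ofNat 0, Int.ofNat 0, Int.ofNat 2, Int.ofNat 2, Int.ofNat 0, Int.ofNat 0, Int.ofNat 0, Int.ofNat 2, Int.negSucc 1, Int.ofNat 0, Int.ofNat 2, Int.ofNat 0, Int.ofNat 0, Int.ofNat 2, Int.ofNat 0, Int.ofNat 0, Int.ofNat 0, Int.ofNat 0, Int.ofNat 0, Int.negSucc 1, Int.ofNat 0],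
  [Int.ofNat 1, Int.negSucc 0, Int.ofNat 1, Int.negSucc 0, Int.negSucc 0, Int.ofNat 1, Int.ofNat 1, Int.negSucc 0, Int.ofNat 1, Int.negSucc 0, Int.ofNat 1, Int.negSucc 0, Int.ofNat 1, Int.ofNat 1, Int.negSucc 0, Int.negSucc 0, Int.ofNat 1, Int.negSucc 0, Int.ofNat 1, Int.negSucc 0, Int.negSucc 0, Int.negSucc 0, Int.negSucc 2, Int.ofNat 1],
  [Int.ofNat 1, Int.ofNat 1, Int.negSucc 0, Int.negSucc 0, Int.ofNat 1, Int.negSucc 0, Int.ofNat 1, Int.ofNat 1, Int.ofNat 1, Int.ofNat 1, Int.negSucc 0, Int.negSucc 0, Int.negSucc 0, Int.ofNat 1, Int.negSucc 2, Int.negSucc 0, Int.ofNat 1, Int.negSucc 0, Int.negSucc 0, Int.negSucc 0, Int.negSucc 0, Int.ofNat 1, Int.negSucc 0, Int.ofNat 1],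
  [Int.ofNat 0, Int.ofNat 0, Int.ofNat 2, Int.ofNat 2, Int.ofNat 0, Int.ofNat 2, Int.ofNat 0, Int.ofNat 0, Int.ofNat 2, Int.ofNat 2, Int.ofNat 0, Int.ofNat 0, Int.ofNat 0, Int.ofNat 0, Int.ofNat 0, Int.ofNat 0, Int.ofNat 0, Int.ofNat 2, Int.ofNat 0, Int.negSucc 1, Int.ofNat 0, Int.ofNat 0, Int.negSucc 1, Int.ofNat 0],
  [Int.ofNat 0, Int.ofNat 0, Int.negSucc 1, Int.ofNat 2, Int.ofNat 0, Int.negSucc 1, Int.ofNat 0, Int.ofNat 0, Int.ofNat 2, Int.negSucc 1, Int.ofNat 0, Int.ofNat 0, Int.ofNat 0, Int.ofNat 0, Int.ofNat 0, Int.ofNat 0, Int.ofNat 0, Int.ofNat 2, Int.ofNat 0, Int.negSucc 1, Int.ofNat 0, Int.ofNat 0, Int.ofNat 2, Int.ofNat 0],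
  [Int.ofNat 0, Int.ofNat 0, Int.ofNat 0, Int.ofNat 2, Int.ofNat 0, Int.ofNat 0, Int.ofNat 0, Int.ofNat 2, Int.negSucc 1, Int.ofNat 0, Int.ofNat 0, Int.ofNat 0, Int.ofNat 0, Int.ofNat 0, Int.ofNat 2, Int.ofNat 0, Int.negSucc 1, Int.ofNat 0, Int.negSucc 1, Int.negSucc 1, Int.ofNat 0, Int.ofNat 0, Int.ofNat 2, Int.ofNat 0],
  [Int.ofNat 0, Int.ofNat 0, Int.ofNat 0, Int.negSucc 1, Int.ofNat 0, Int.ofNat 0, Int.ofNat 0, Int.ofNat 2, Int.ofNat 2, Int.ofNat 0, Int.ofNat 0, Int.ofNat 0, Int.ofNat 0, Int.ofNat 0, Int.ofNat 2, Int.ofNat 0, Int.ofNat 2, Int.ofNat 0, Int.ofNat 2, Int.negSucc 1, Int.ofNat 0, Int.ofNat 0, Int.ofNat 2, Int.ofNat 0],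
  [Int.ofNat 0, Int.ofNat 2, Int.ofNat 0, Int.ofNat 0, Int.ofNat 0, Int.ofNat 0, Int.negSucc 1, Int.ofNat 0, Int.ofNat 0, Int.ofNat 0, Int.ofNat 2, Int.ofNat 0, Int.ofNat 0, Int.ofNat 2, Int.ofNat 2, Int.negSucc 1, Int.ofNat 0, Int.ofNat 0, Int.ofNat 2, Int.ofNat 0, Int.ofNat 2, Int.ofNat 0, Int.ofNat 0, Int.ofNat 0],
  [Int.ofNat 0, Int.ofNat 2, Int.ofNat 0, Int.ofNat 0, Int.ofNat 0, Int.ofNat 0, Int.negSucc 1, Int.ofNat 0, Int.ofNat 0, Int.ofNat 0, Int.negSucc 1, Int.ofNat 0, Int.ofNat 0, Int.ofNat 2, Int.ofNat 2, Int.negSucc 1, Int.ofNat 0, Int.ofNat 0, Int.negSucc 1, Int.ofNat 0, Int.ofNat 2, Int.ofNat 0, Int.ofNat 0, Int.ofNat 0],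
  [Int.ofNat 0, Int.ofNat 0, Int.ofNat 2, Int.ofNat 0, Int.ofNat 0, Int.ofNat 0, Int.ofNat 0, Int.negSucc 1, Int.ofNat 0, Int.ofNat 0, Int.ofNat 0, Int.negSucc 1, Int.ofNat 0, Int.ofNat 0, Int.ofNat 2, Int.ofNat 2, Int.negSucc 1, Int.ofNat 0, Int.ofNat 0, Int.negSucc 1, Int.ofNat 0, Int.ofNat 2, Int.ofNat 0, Int.ofNat 0],
  [Int.ofNat 1, Int.ofNat 1, Int.negSucc 0, Int.negSucc 0, Int.ofNat 1, Int.negSucc 0, Int.ofNat 1, Int.negSucc 0, Int.ofNat 1, Int.negSucc 0, Int.negSucc 0, Int.negSucc 0, Int.ofNat 1, Int.ofNat 1, Int.ofNat 1, Int.ofNat 1, Int.negSucc 0, Int.negSucc 0, Int.ofNat 1, Int.negSucc 0, Int.negSucc 0, Int.ofNat 3, Int.ofNat 1, Int.ofNat 1],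
  [Int.negSucc 0, Int.ofNat 1, Int.negSucc 0, Int.ofNat 1, Int.negSucc 0, Int.ofNat 1, Int.negSucc 0, Int.negSucc 0, Int.negSucc 0, Int.ofNat 1, Int.ofNat 1, Int.ofNat 1, Int.ofNat 1, Int.negSucc 0, Int.negSucc 0, Int.ofNat 1, Int.negSucc 0, Int.negSucc 0, Int.ofNat 3, Int.ofNat 1, Int.ofNat 1, Int.ofNat 1, Int.negSucc 0, Int.ofNat 1],
  [Int.ofNat 1, Int.negSucc 0, Int.ofNat 1, Int.ofNat 1, Int.ofNat 1, Int.ofNat 1, Int.negSucc 0, Int.negSucc 0, Int.negSucc 2, Int.negSucc 0, Int.negSucc 0, Int.negSucc 0, Int.negSucc 0, Int.ofNat 1, Int.negSucc 0, Int.negSucc 0, Int.ofNat 1, Int.negSucc 0, Int.ofNat 1, Int.ofNat 1, Int.negSucc 0, Int.ofNat 1, Int.ofNat 1, Int.negSucc 0],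
  [Int.ofNat 1, Int.negSucc 0, Int.ofNat 1, Int.ofNat 1, Int.ofNat 1, Int.negSucc 0, Int.ofNat 1, Int.negSucc 0, Int.negSucc 0, Int.ofNat 1, Int.negSucc 0, Int.negSucc 0, Int.negSucc 0, Int.ofNat 1, Int.ofNat 1, Int.negSucc 0, Int.negSucc 2, Int.negSucc 0, Int.negSucc 0, Int.negSucc 0, Int.ofNat 1, Int.ofNat 1, Int.ofNat 1, Int.negSucc 0],
  [Int.negSucc 0, Int.ofNat 1, Int.negSucc 0, Int.ofNat 1, Int.ofNat 1, Int.negSucc 0, Int.ofNat 1, Int.negSucc 0, Int.ofNat 1, Int.ofNat 1, Int.negSucc 0, Int.ofNat 1, Int.ofNat 1, Int.ofNat 1, Int.ofNat 1, Int.negSucc 0, Int.negSucc 2, Int.negSucc 0, Int.ofNat 1, Int.negSucc 0, Int.ofNat 1, Int.ofNat 1, Int.ofNat 1, Int.ofNat 1],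
  [Int.negSucc 0, Int.ofNat 1, Int.ofNat 1, Int.ofNat 1, Int.ofNat 1, Int.ofNat 1, Int.negSucc 0, Int.negSucc 0, Int.ofNat 1, Int.negSucc 0, Int.ofNat 1, Int.ofNat 1, Int.ofNat 1, Int.ofNat 1, Int.ofNat 1, Int.ofNat 1, Int.negSucc 2, Int.negSucc 0, Int.negSucc 0, Int.negSucc 0, Int.ofNat 1, Int.ofNat 1, Int.negSucc 0, Int.ofNat 1],
  [Int.ofNat 1, Int.negSucc 0, Int.ofNat 1, Int.ofNat 1, Int.ofNat 1, Int.negSucc 2, Int.ofNat 1, Int.ofNat 1, Int.ofNat 1, Int.negSucc 0, Int.negSucc 0, Int.negSucc 0, Int.ofNat 1, Int.ofNat 1, Int.negSucc 0, Int.negSucc 0, Int.ofNat 1, Int.ofNat 1, Int.ofNat 1, Int.ofNat 1, Int.ofNat 1, Int.negSucc 0, Int.negSucc 0, Int.ofNat 1],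
  [Int.ofNat 1, Int.negSucc 0, Int.negSucc 0, Int.ofNat 1, Int.ofNat 1, Int.ofNat 3, Int.negSucc 0, Int.ofNat 1, Int.ofNat 1, Int.ofNat 1, Int.ofNat 1, Int.negSucc 0, Int.ofNat 1, Int.ofNat 1, Int.negSucc 0, Int.ofNat 1, Int.ofNat 1, Int.ofNat 1, Int.negSucc 0, Int.ofNat 1, Int.ofNat 1, Int.negSucc 0, Int.ofNat 1, Int.ofNat 1],
  [Int.negSucc 0, Int.ofNat 1, Int.ofNat 1, Int.negSucc 0, Int.negSucc 0, Int.ofNat 1, Int.negSucc 0, Int.ofNat 1, Int.ofNat 1, Int.negSucc 0, Int.negSucc 0, Int.negSucc 0, Int.ofNat 1, Int.negSucc 0, Int.negSucc 2, Int.negSucc 0, Int.negSucc 0, Int.negSucc 0, Int.negSucc 0, Int.ofNat 1, Int.negSucc 0, Int.negSucc 0, Int.negSucc 0, Int.negSucc 0],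
  [Int.negSucc 0, Int.negSucc 0, Int.negSucc 0, Int.negSucc 0, Int.ofNat 1, Int.negSucc 0, Int.ofNat 1, Int.ofNat 1, Int.negSucc 0, Int.ofNat 1, Int.ofNat 1, Int.ofNat 1, Int.ofNat 1, Int.negSucc 0, Int.negSucc 0, Int.negSucc 0, Int.negSucc 0, Int.negSucc 0, Int.negSucc 0, Int.negSucc 0, Int.negSucc 0, Int.negSucc 0, Int.negSucc 2, Int.negSucc 0],
  [Int.negSucc 0, Int.negSucc 0, Int.negSucc 0, Int.ofNat 1, Int.ofNat 3, Int.ofNat 1, Int.ofNat 1, Int.ofNat 1, Int.negSucc 0, Int.ofNat 1, Int.ofNat 1, Int.ofNat 1, Int.ofNat 1, Int.ofNat 1, Int.ofNat 1, Int.negSucc 0, Int.ofNat 1, Int.ofNat 1, Int.negSucc 0, Int.negSucc 0, Int.negSucc 0, Int.negSucc 0, Int.negSucc 0, Int.negSucc 0],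
  [Int.negSucc 0, Int.negSucc 0, Int.negSucc 0, Int.negSucc 0, Int.negSucc 0, Int.negSucc 0, Int.ofNat 1, Int.ofNat 3, Int.ofNat 1, Int.ofNat 1, Int.ofNat 1, Int.negSucc 0, Int.ofNat 1, Int.ofNat 1, Int.ofNat 1, Int.ofNat 1, Int.ofNat 1, Int.ofNat 1, Int.negSucc 0, Int.ofNat 1, Int.ofNat 1, Int.negSucc 0, Int.negSucc 0, Int.negSucc 0],
  [Int.negSucc 0, Int.negSucc 0, Int.negSucc 0, Int.negSucc 0, Int.negSucc 0, Int.negSucc 0, Int.negSucc 0, Int.ofNat 1, Int.ofNat 1, Int.negSucc 0, Int.negSucc 0, Int.negSucc 0, Int.ofNat 1, Int.ofNat 1, Int.ofNat 1, Int.negSucc 0, Int.ofNat 1, Int.ofNat 1, Int.negSucc 0, Int.negSucc 0, Int.negSucc 0, Int.negSucc 2, Int.negSucc 0, Int.negSucc 0],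
  [Int.negSucc 0, Int.negSucc 0, Int.negSucc 0, Int.negSucc 0, Int.negSucc 0, Int.negSucc 0, Int.ofNat 1, Int.ofNat 1, Int.negSucc 0, Int.negSucc 0, Int.negSucc 0, Int.ofNat 1, Int.ofNat 1, Int.ofNat 1, Int.negSucc 0, Int.ofNat 1, Int.ofNat 1, Int.negSucc 0, Int.negSucc 0, Int.negSucc 0, Int.negSucc 2, Int.negSucc 0, Int.negSucc 0, Int.negSucc 0],
  [Int.ofNat 1, Int.negSucc 0, Int.ofNat 1, Int.negSucc 0, Int.negSucc 0, Int.negSucc 0, Int.ofNat 1, Int.negSucc 0, Int.negSucc 0, Int.ofNat 1, Int.ofNat 1, Int.negSucc 0, Int.ofNat 1, Int.ofNat 1, Int.negSucc 0, Int.ofNat 1, Int.ofNat 1, Int.negSucc 0, Int.ofNat 1, Int.negSucc 0, Int.negSucc 2, Int.ofNat 1, Int.negSucc 0, Int.negSucc 0],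
  [Int.ofNat 1, Int.ofNat 1, Int.ofNat 1, Int.negSucc 0, Int.negSucc 0, Int.ofNat 1, Int.negSucc 0, Int.negSucc 2, Int.ofNat 1, Int.ofNat 1, Int.ofNat 1, Int.negSucc 0, Int.ofNat 1, Int.negSucc 0, Int.negSucc 0, Int.ofNat 1, Int.ofNat 1, Int.negSucc 0, Int.ofNat 1, Int.negSucc 0, Int.negSucc 0, Int.negSucc 0, Int.negSucc 0, Int.negSucc 0],
  [Int.negSucc 0, Int.ofNat 1, Int.negSucc 0, Int.negSucc 0, Int.negSucc 0, Int.ofNat 1, Int.negSucc 0, Int.ofNat 3, Int.ofNat 1, Int.negSucc 0, Int.negSucc 0, Int.ofNat 1, Int.ofNat 1, Int.negSucc 0, Int.negSucc 0, Int.ofNat 1, Int.ofNat 1, Int.negSucc 0, Int.negSucc 0, Int.negSucc 0, Int.negSucc 0, Int.ofNat 1, Int.negSucc 0, Int.negSucc 0],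
  [Int.negSucc 0, Int.negSucc 0, Int.ofNat 1, Int.negSucc 0, Int.negSucc 0, Int.negSucc 0, Int.ofNat 1, Int.negSucc 0, Int.ofNat 3, Int.ofNat 1, Int.negSucc 0, Int.negSucc 0, Int.ofNat 1, Int.ofNat 1, Int.negSucc 0, Int.negSucc 0, Int.ofNat 1, Int.ofNat 1, Int.negSucc 0, Int.negSucc 0, Int.negSucc 0, Int.negSucc 0, Int.ofNat 1, Int.negSucc 0],
  [Int.ofNat 0, Int.ofNat 0, Int.negSucc 1, Int.ofNat 0, Int.negSucc 1, Int.ofNat 0, Int.ofNat 2, Int.ofNat 0, Int.ofNat 2, Int.ofNat 2, Int.ofNat 0, Int.negSucc 1, Int.ofNat 0, Int.ofNat 0, Int.ofNat 0, Int.ofNat 0, Int.ofNat 0, Int.ofNat 2, Int.negSucc 1, Int.ofNat 0, Int.ofNat 0, Int.ofNat 0, Int.ofNat 0, Int.ofNat 0],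
  [Int.ofNat 0, Int.negSucc 1, Int.ofNat 0, Int.ofNat 2, Int.ofNat 0, Int.ofNat 2, Int.ofNat 2, Int.ofNat 0, Int.negSucc 1, Int.ofNat 0, Int.ofNat 0, Int.ofNat 0, Int.ofNat 0, Int.ofNat 0, Int.ofNat 2, Int.negSucc 1, Int.ofNat 0, Int.ofNat 0, Int.ofNat 0, Int.ofNat 0, Int.ofNat 0, Int.ofNat 0, Int.negSucc 1, Int.ofNat 0],
  [Int.negSucc 0, Int.ofNat 1, Int.negSucc 0, Int.negSucc 0, Int.ofNat 1, Int.negSucc 0, Int.ofNat 1, Int.negSucc 0, Int.negSucc 0, Int.ofNat 1, Int.ofNat 1, Int.ofNat 1, Int.ofNat 1, Int.ofNat 1, Int.negSucc 0, Int.negSucc 0, Int.ofNat 1, Int.negSucc 2, Int.ofNat 1, Int.negSucc 0, Int.ofNat 1, Int.negSucc 0, Int.negSucc 0, Int.negSucc 0],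
  [Int.negSucc 0, Int.ofNat 1, Int.ofNat 1, Int.negSucc 0, Int.ofNat 1, Int.negSucc 0, Int.negSucc 0, Int.ofNat 1, Int.ofNat 1, Int.ofNat 1, Int.ofNat 1, Int.negSucc 2, Int.ofNat 1, Int.ofNat 1, Int.negSucc 0, Int.negSucc 0, Int.negSucc 0, Int.negSucc 0, Int.ofNat 1, Int.ofNat 1, Int.negSucc 0, Int.negSucc 0, Int.negSucc 0, Int.negSucc 0],
  [Int.ofNat 1, Int.negSucc 0, Int.negSucc 0, Int.ofNat 1, Int.ofNat 1, Int.ofNat 1, Int.negSucc 0, Int.ofNat 1, Int.ofNat 1, Int.ofNat 1, Int.ofNat 1, Int.negSucc 2, Int.ofNat 1, Int.ofNat 1, Int.ofNat 1, Int.negSucc 0, Int.negSucc 0, Int.ofNat 1, Int.ofNat 1, Int.ofNat 1, Int.negSucc 0, Int.negSucc 0, Int.negSucc 0, Int.ofNat 1],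
  [Int.ofNat 1, Int.negSucc 0, Int.ofNat 1, Int.ofNat 1, Int.ofNat 1, Int.negSucc 0, Int.ofNat 1, Int.ofNat 1, Int.ofNat 1, Int.negSucc 0, Int.negSucc 0, Int.negSucc 2, Int.ofNat 1, Int.ofNat 1, Int.ofNat 1, Int.ofNat 1, Int.negSucc 0, Int.ofNat 1, Int.negSucc 0, Int.ofNat 1, Int.negSucc 0, Int.negSucc 0, Int.ofNat 1, Int.ofNat 1],
  [Int.negSucc 0, Int.negSucc 0, Int.negSucc 2, Int.ofNat 1, Int.ofNat 1, Int.ofNat 1, Int.negSucc 0, Int.ofNat 1, Int.negSucc 0, Int.negSucc 0, Int.ofNat 1, Int.ofNat 1, Int.ofNat 1, Int.ofNat 1, Int.ofNat 1, Int.negSucc 0, Int.ofNat 1, Int.ofNat 1, Int.negSucc 0, Int.ofNat 1, Int.ofNat 1, Int.negSucc 0, Int.ofNat 1, Int.ofNat 1],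
  [Int.ofNat 1, Int.ofNat 1, Int.ofNat 3, Int.negSucc 0, Int.negSucc 0, Int.ofNat 1, Int.ofNat 1, Int.ofNat 1, Int.ofNat 1, Int.ofNat 1, Int.ofNat 1, Int.ofNat 1, Int.negSucc 0, Int.negSucc 0, Int.ofNat 1, Int.negSucc 0, Int.negSucc 0, Int.ofNat 1, Int.ofNat 1, Int.ofNat 1, Int.ofNat 1, Int.negSucc 0, Int.ofNat 1, Int.ofNat 1],
  [Int.ofNat 1, Int.ofNat 1, Int.ofNat 1, Int.negSucc 0, Int.ofNat 1, Int.ofNat 1, Int.ofNat 1, Int.negSucc 0, Int.ofNat 1, Int.ofNat 1, Int.negSucc 0, Int.ofNat 3, Int.negSucc 0, Int.ofNat 1, Int.ofNat 1, Int.negSucc 0, Int.ofNat 1, Int.negSucc 0, Int.ofNat 1, Int.ofNat 1, Int.ofNat 1, Int.negSucc 0, Int.ofNat 1, Int.ofNat 1],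
  [Int.negSucc 0, Int.ofNat 1, Int.negSucc 0, Int.negSucc 0, Int.ofNat 1, Int.ofNat 1, Int.ofNat 1, Int.ofNat 1, Int.ofNat 1, Int.negSucc 0, Int.ofNat 1, Int.negSucc 2, Int.negSucc 0, Int.ofNat 1, Int.ofNat 1, Int.negSucc 0, Int.ofNat 1, Int.negSucc 0, Int.negSucc 0, Int.ofNat 1, Int.ofNat 1, Int.ofNat 1, Int.ofNat 1, Int.ofNat 1],
  [Int.ofNat 1, Int.negSucc 0, Int.ofNat 1, Int.negSucc 0, Int.negSucc 0, Int.ofNat 1, Int.ofNat 1, Int.ofNat 1, Int.ofNat 1, Int.ofNat 1, Int.negSucc 0, Int.ofNat 1, Int.negSucc 2, Int.negSucc 0, Int.ofNat 1, Int.ofNat 1, Int.negSucc 0, Int.ofNat 1, Int.negSucc 0, Int.negSucc 0, Int.ofNat 1, Int.ofNat 1, Int.ofNat 1, Int.ofNat 1],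
  [Int.ofNat 0, Int.ofNat 2, Int.ofNat 0, Int.negSucc 1, Int.ofNat 0, Int.ofNat 0, Int.ofNat 0, Int.ofNat 0, Int.ofNat 2, Int.ofNat 0, Int.negSucc 1, Int.ofNat 2, Int.negSucc 1, Int.ofNat 0, Int.ofNat 0, Int.ofNat 0, Int.ofNat 0, Int.ofNat 0, Int.ofNat 0, Int.negSucc 1, Int.ofNat 0, Int.ofNat 0, Int.ofNat 2, Int.ofNat 0],
  [Int.negSucc 1, Int.ofNat 0, Int.ofNat 0, Int.ofNat 0, Int.ofNat 0, Int.ofNat 2, Int.ofNat 0, Int.negSucc 1, Int.ofNat 2, Int.negSucc 1, Int.ofNat 0, Int.ofNat 0, Int.ofNat 0, Int.ofNat 0, Int.ofNat 0, Int.ofNat 0, Int.negSucc 1, Int.ofNat 0, Int.ofNat 0, Int.ofNat 2, Int.ofNat 0, Int.ofNat 2, Int.ofNat 0, Int.ofNat 0],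
  [Int.ofNat 1, Int.negSucc 0, Int.negSucc 0, Int.negSucc 0, Int.ofNat 1, Int.ofNat 1, Int.negSucc 0, Int.negSucc 2, Int.ofNat 1, Int.negSucc 0, Int.ofNat 1, Int.negSucc 0, Int.negSucc 0, Int.ofNat 1, Int.negSucc 0, Int.ofNat 1, Int.negSucc 0, Int.negSucc 0, Int.negSucc 0, Int.ofNat 1, Int.ofNat 1, Int.ofNat 1, Int.ofNat 1, Int.negSucc 0],
  [Int.ofNat 1, Int.negSucc 0, Int.ofNat 1, Int.negSucc 0, Int.negSucc 0, Int.negSucc 2, Int.negSucc 0, Int.ofNat 1, Int.negSucc 0, Int.ofNat 1, Int.ofNat 1, Int.negSucc 0, Int.negSucc 0, Int.negSucc 0, Int.ofNat 1, Int.ofNat 1, Int.ofNat 1, Int.negSucc 0, Int.negSucc 0, Int.negSucc 0, Int.ofNat 1, Int.ofNat 1, Int.ofNat 1, Int.negSucc 0],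
  [Int.negSucc 0, Int.ofNat 1, Int.negSucc 0, Int.ofNat 1, Int.negSucc 0, Int.negSucc 0, Int.negSucc 0, Int.ofNat 1, Int.ofNat 1, Int.negSucc 0, Int.negSucc 0, Int.ofNat 1, Int.ofNat 1, Int.negSucc 0, Int.ofNat 3, Int.negSucc 0, Int.ofNat 1, Int.ofNat 1, Int.ofNat 1, Int.negSucc 0, Int.negSucc 0, Int.ofNat 1, Int.ofNat 1, Int.ofNat 1],
  [Int.negSucc 0, Int.ofNat 1, Int.ofNat 1, Int.ofNat 1, Int.negSucc 0, Int.ofNat 1, Int.ofNat 1, Int.ofNat 1, Int.ofNat 1, Int.ofNat 1, Int.ofNat 1, Int.ofNat 1, Int.ofNat 1, Int.negSucc 0, Int.ofNat 3, Int.ofNat 1, Int.ofNat 1, Int.ofNat 1, Int.negSucc 0, Int.negSucc 0, Int.negSucc 0, Int.ofNat 1, Int.negSucc 0, Int.ofNat 1],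
  [Int.negSucc 0, Int.ofNat 1, Int.ofNat 1, Int.ofNat 1, Int.ofNat 1, Int.ofNat 1, Int.ofNat 1, Int.ofNat 3, Int.ofNat 1, Int.ofNat 1, Int.negSucc 0, Int.ofNat 1, Int.negSucc 0, Int.ofNat 1, Int.negSucc 0, Int.ofNat 1, Int.ofNat 1, Int.ofNat 1, Int.ofNat 1, Int.negSucc 0, Int.ofNat 1, Int.negSucc 0, Int.negSucc 0, Int.ofNat 1],
  [Int.negSucc 0, Int.ofNat 1, Int.negSucc 0, Int.ofNat 1, Int.ofNat 1, Int.negSucc 0, Int.negSucc 0, Int.ofNat 3, Int.ofNat 1, Int.negSucc 0, Int.ofNat 1, Int.ofNat 1, Int.negSucc 0, Int.ofNat 1, Int.negSucc 0, Int.negSucc 0, Int.ofNat 1, Int.ofNat 1, Int.negSucc 0, Int.negSucc 0, Int.ofNat 1, Int.negSucc 0, Int.ofNat 1, Int.ofNat 1],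
  [Int.ofNat 1, Int.negSucc 0, Int.ofNat 1, Int.ofNat 1, Int.negSucc 0, Int.negSucc 0, Int.negSucc 0, Int.ofNat 3, Int.ofNat 1, Int.negSucc 0, Int.ofNat 1, Int.ofNat 1, Int.negSucc 0, Int.negSucc 0, Int.negSucc 0, Int.negSucc 0, Int.negSucc 0, Int.ofNat 1, Int.negSucc 0, Int.negSucc 0, Int.ofNat 1, Int.negSucc 0, Int.negSucc 0, Int.negSucc 0],
  [Int.ofNat 1, Int.negSucc 0, Int.negSucc 0, Int.ofNat 1, Int.ofNat 1, Int.negSucc 0, Int.negSucc 0, Int.negSucc 0, Int.negSucc 0, Int.negSucc 0, Int.ofNat 3, Int.negSucc 0, Int.ofNat 1, Int.negSucc 0, Int.ofNat 1, Int.negSucc 0, Int.negSucc 0, Int.ofNat 1, Int.negSucc 0, Int.negSucc 0, Int.ofNat 1, Int.ofNat 1, Int.negSucc 0, Int.negSucc 0],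
  [Int.negSucc 1, Int.ofNat 0, Int.ofNat 0, Int.ofNat 0, Int.ofNat 2, Int.negSucc 1, Int.ofNat 0, Int.ofNat 0, Int.ofNat 0, Int.negSucc 1, Int.ofNat 2, Int.ofNat 0, Int.ofNat 2, Int.ofNat 0, Int.ofNat 0, Int.negSucc 1, Int.ofNat 0, Int.ofNat 0, Int.ofNat 0, Int.ofNat 0, Int.ofNat 0, Int.ofNat 2, Int.ofNat 0, Int.ofNat 0],
  [Int.ofNat 0, Int.ofNat 2, Int.ofNat 0, Int.negSucc 1, Int.ofNat 0, Int.ofNat 0, Int.ofNat 0, Int.ofNat 2, Int.negSucc 1, Int.ofNat 0, Int.ofNat 0, Int.ofNat 0, Int.negSucc 1, Int.ofNat 2, Int.ofNat 0, Int.ofNat 2, Int.ofNat 0, Int.ofNat 0, Int.negSucc 1, Int.ofNat 0, Int.ofNat 0, Int.ofNat 0, Int.ofNat 0, Int.ofNat 0],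
  [Int.ofNat 1, Int.negSucc 0, Int.ofNat 1, Int.negSucc 0, Int.negSucc 0, Int.ofNat 1, Int.negSucc 0, Int.ofNat 1, Int.ofNat 1, Int.negSucc 0, Int.negSucc 0, Int.ofNat 3, Int.ofNat 1, Int.ofNat 1, Int.ofNat 1, Int.ofNat 1, Int.negSucc 0, Int.ofNat 1, Int.ofNat 1, Int.negSucc 0, Int.negSucc 0, Int.negSucc 0, Int.negSucc 0, Int.ofNat 1],
  [Int.negSucc 0, Int.ofNat 1, Int.negSucc 0, Int.negSucc 0, Int.ofNat 1, Int.negSucc 0, Int.ofNat 1, Int.ofNat 1, Int.negSucc 0, Int.negSucc 0, Int.ofNat 3, Int.ofNat 1, Int.ofNat 1, Int.ofNat 1, Int.ofNat 1, Int.negSucc 0, Int.ofNat 1, Int.ofNat 1, Int.negSucc 0, Int.negSucc 0, Int.negSucc 0, Int.negSucc 0, Int.ofNat 1, Int.ofNat 1],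
  [Int.ofNat 1, Int.ofNat 1, Int.ofNat 1, Int.negSucc 0, Int.ofNat 1, Int.negSucc 0, Int.ofNat 1, Int.negSucc 0, Int.negSucc 0, Int.ofNat 1, Int.negSucc 2, Int.negSucc 0, Int.ofNat 1, Int.ofNat 1, Int.ofNat 1, Int.negSucc 0, Int.ofNat 1, Int.ofNat 1, Int.ofNat 1, Int.negSucc 0, Int.negSucc 0, Int.ofNat 1, Int.ofNat 1, Int.ofNat 1],
  [Int.ofNat 1, Int.ofNat 1, Int.ofNat 1, Int.negSucc 0, Int.ofNat 1, Int.negSucc 2, Int.ofNat 1, Int.negSucc 0, Int.ofNat 1, Int.ofNat 1, Int.ofNat 1, Int.ofNat 1, Int.ofNat 1, Int.negSucc 0, Int.negSucc 0, Int.negSucc 0, Int.ofNat 1, Int.ofNat 1, Int.ofNat 1, Int.ofNat 1, Int.negSucc 0, Int.negSucc 0, Int.negSucc 0, Int.ofNat 1],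
  [Int.negSucc 0, Int.ofNat 1, Int.negSucc 0, Int.negSucc 0, Int.ofNat 1, Int.negSucc 2, Int.ofNat 1, Int.ofNat 1, Int.ofNat 1, Int.negSucc 0, Int.negSucc 0, Int.negSucc 0, Int.ofNat 1, Int.negSucc 0, Int.negSucc 0, Int.negSucc 0, Int.ofNat 1, Int.ofNat 1, Int.negSucc 0, Int.ofNat 1, Int.negSucc 0, Int.ofNat 1, Int.negSucc 0, Int.ofNat 1],
  [Int.negSucc 0, Int.negSucc 0, Int.ofNat 1, Int.negSucc 0, Int.negSucc 0, Int.ofNat 1, Int.negSucc 2, Int.ofNat 1, Int.ofNat 1, Int.ofNat 1, Int.negSucc 0, Int.negSucc 0, Int.negSucc 0, Int.ofNat 1, Int.negSucc 0, Int.negSucc 0, Int.negSucc 0, Int.ofNat 1, Int.ofNat 1, Int.negSucc 0, Int.ofNat 1, Int.negSucc 0, Int.ofNat 1, Int.ofNat 1],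
  [Int.ofNat 1, Int.ofNat 1, Int.negSucc 0, Int.negSucc 0, Int.negSucc 0, Int.ofNat 1, Int.negSucc 0, Int.ofNat 3, Int.ofNat 1, Int.ofNat 1, Int.negSucc 0, Int.negSucc 0, Int.negSucc 0, Int.ofNat 1, Int.negSucc 0, Int.negSucc 0, Int.negSucc 0, Int.ofNat 1, Int.ofNat 1, Int.ofNat 1, Int.ofNat 1, Int.ofNat 1, Int.ofNat 1, Int.negSucc 0],
  [Int.negSucc 0, Int.negSucc 0, Int.ofNat 1, Int.negSucc 0, Int.ofNat 3, Int.ofNat 1, Int.ofNat 1, Int.negSucc 0, Int.negSucc 0, Int.negSucc 0, Int.ofNat 1, Int.negSucc 0, Int.negSucc 0, Int.negSucc 0, Int.ofNat 1, Int.ofNat 1, Int.ofNat 1, Int.ofNat 1, Int.ofNat 1, Int.ofNat 1, Int.ofNat 1, Int.ofNat 1, Int.negSucc 0, Int.negSucc 0],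
  [Int.ofNat 0, Int.ofNat 0, Int.negSucc 1, Int.negSucc 1, Int.ofNat 2, Int.ofNat 0, Int.ofNat 0, Int.negSucc 1, Int.ofNat 0, Int.negSucc 1, Int.ofNat 0, Int.ofNat 0, Int.ofNat 0, Int.negSucc 1, Int.ofNat 0, Int.ofNat 0, Int.ofNat 0, Int.ofNat 0, Int.ofNat 2, Int.ofNat 0, Int.ofNat 0, Int.ofNat 0, Int.negSucc 1, Int.ofNat 0],
  [Int.ofNat 0, Int.ofNat 0, Int.ofNat 2, Int.negSucc 1, Int.ofNat 2, Int.negSucc 1, Int.negSucc 1, Int.ofNat 0, Int.ofNat 0, Int.negSucc 1, Int.ofNat 0, Int.ofNat 0, Int.negSucc 1, Int.ofNat 0, Int.negSucc 1, Int.ofNat 0, Int.ofNat 0, Int.ofNat 0, Int.ofNat 0, Int.ofNat 0, Int.ofNat 0, Int.ofNat 0, Int.ofNat 0, Int.ofNat 0],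
  [Int.ofNat 1, Int.ofNat 1, Int.negSucc 0, Int.ofNat 1, Int.ofNat 1, Int.ofNat 1, Int.negSucc 0, Int.ofNat 1, Int.ofNat 1, Int.negSucc 0, Int.ofNat 1, Int.ofNat 1, Int.negSucc 0, Int.negSucc 0, Int.ofNat 1, Int.ofNat 1, Int.negSucc 0, Int.ofNat 3, Int.ofNat 1, Int.ofNat 1, Int.ofNat 1, Int.ofNat 1, Int.negSucc 0, Int.ofNat 1],
  [Int.ofNat 1, Int.ofNat 1, Int.ofNat 1, Int.ofNat 1, Int.ofNat 1, Int.negSucc 0, Int.ofNat 1, Int.ofNat 1, Int.ofNat 1, Int.ofNat 1, Int.negSucc 0, Int.ofNat 1, Int.negSucc 0, Int.negSucc 0, Int.ofNat 1, Int.negSucc 0, Int.negSucc 0, Int.ofNat 3, Int.negSucc 0, Int.ofNat 1, Int.ofNat 1, Int.ofNat 1, Int.ofNat 1, Int.ofNat 1],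
  [Int.negSucc 0, Int.negSucc 0, Int.ofNat 1, Int.ofNat 1, Int.ofNat 1, Int.ofNat 1, Int.ofNat 1, Int.ofNat 1, Int.negSucc 0, Int.ofNat 1, Int.negSucc 0, Int.ofNat 1, Int.negSucc 0, Int.ofNat 1, Int.ofNat 3, Int.negSucc 0, Int.ofNat 1, Int.negSucc 0, Int.ofNat 1, Int.ofNat 1, Int.ofNat 1, Int.ofNat 1, Int.ofNat 1, Int.ofNat 1],
  [Int.ofNat 1, Int.ofNat 1, Int.negSucc 0, Int.negSucc 0, Int.negSucc 0, Int.ofNat 1, Int.negSucc 0, Int.ofNat 1, Int.ofNat 1, Int.negSucc 0, Int.negSucc 0, Int.ofNat 1, Int.ofNat 1, Int.negSucc 0, Int.ofNat 3, Int.negSucc 0, Int.negSucc 0, Int.negSucc 0, Int.negSucc 0, Int.ofNat 1, Int.ofNat 1, Int.ofNat 1, Int.ofNat 1, Int.ofNat 1],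
  [Int.ofNat 1, Int.ofNat 1, Int.ofNat 1, Int.negSucc 0, Int.negSucc 0, Int.negSucc 0, Int.ofNat 1, Int.negSucc 0, Int.ofNat 1, Int.ofNat 1, Int.negSucc 0, Int.negSucc 0, Int.ofNat 1, Int.ofNat 1, Int.negSucc 0, Int.negSucc 0, Int.negSucc 0, Int.negSucc 0, Int.ofNat 3, Int.negSucc 0, Int.ofNat 1, Int.ofNat 1, Int.ofNat 1, Int.ofNat 1],
  [Int.negSucc 0, Int.ofNat 1, Int.negSucc 0, Int.negSucc 0, Int.negSucc 0, Int.negSucc 0, Int.ofNat 1, Int.ofNat 1, Int.ofNat 1, Int.negSucc 0, Int.ofNat 1, Int.ofNat 1, Int.ofNat 1, Int.ofNat 1, Int.negSucc 0, Int.negSucc 0, Int.negSucc 0, Int.negSucc 0, Int.negSucc 2, Int.negSucc 0, Int.ofNat 1, Int.negSucc 0, Int.ofNat 1, Int.ofNat 1],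
  [Int.ofNat 1, Int.negSucc 0, Int.ofNat 1, Int.negSucc 0, Int.negSucc 0, Int.negSucc 0, Int.negSucc 0, Int.ofNat 1, Int.ofNat 1, Int.ofNat 1, Int.negSucc 0, Int.ofNat 1, Int.ofNat 1, Int.ofNat 1, Int.ofNat 1, Int.negSucc 0, Int.negSucc 0, Int.negSucc 0, Int.negSucc 0, Int.negSucc 2, Int.negSucc 0, Int.ofNat 1, Int.negSucc 0, Int.ofNat 1],
  [Int.ofNat 0, Int.ofNat 2, Int.ofNat 0, Int.ofNat 0, Int.ofNat 0, Int.ofNat 0, Int.ofNat 0, Int.ofNat 2, Int.ofNat 0, Int.ofNat 2, Int.ofNat 0, Int.ofNat 0, Int.ofNat 0, Int.ofNat 2, Int.ofNat 2, Int.ofNat 0, Int.ofNat 0, Int.ofNat 0, Int.negSucc 1, Int.negSucc 1, Int.ofNat 0, Int.ofNat 2, Int.ofNat 0, Int.ofNat 0],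
  [Int.ofNat 0, Int.ofNat 0, Int.ofNat 0, Int.ofNat 0, Int.ofNat 2, Int.ofNat 0, Int.ofNat 2, Int.ofNat 0, Int.ofNat 0, Int.ofNat 0, Int.ofNat 2, Int.ofNat 2, Int.ofNat 0, Int.ofNat 0, Int.ofNat 0, Int.negSucc 1, Int.negSucc 1, Int.ofNat 0, Int.ofNat 2, Int.ofNat 0, Int.ofNat 0, Int.ofNat 2, Int.ofNat 0, Int.ofNat 0],
  [Int.ofNat 0, Int.ofNat 0, Int.ofNat 0, Int.ofNat 0, Int.ofNat 2, Int.ofNat 0, Int.ofNat 0, Int.negSucc 1, Int.negSucc 1, Int.ofNat 0, Int.ofNat 2, Int.ofNat 0, Int.negSucc 1, Int.ofNat 0, Int.ofNat 0, Int.negSucc 1, Int.negSucc 1, Int.ofNat 0, Int.ofNat 0, Int.negSucc 1, Int.ofNat 0, Int.ofNat 0, Int.ofNat 0, Int.ofNat 0],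
  [Int.ofNat 0, Int.ofNat 0, Int.ofNat 2, Int.ofNat 0, Int.ofNat 0, Int.negSucc 1, Int.ofNat 0, Int.ofNat 2, Int.negSucc 1, Int.ofNat 0, Int.ofNat 0, Int.ofNat 0, Int.ofNat 0, Int.negSucc 1, Int.ofNat 0, Int.negSucc 1, Int.negSucc 1, Int.ofNat 0, Int.ofNat 0, Int.ofNat 0, Int.ofNat 0, Int.ofNat 0, Int.negSucc 1, Int.ofNat 0],
  [Int.ofNat 1, Int.ofNat 1, Int.negSucc 0, Int.ofNat 1, Int.ofNat 3, Int.negSucc 0, Int.negSucc 0, Int.ofNat 1, Int.negSucc 0, Int.ofNat 1, Int.ofNat 1, Int.ofNat 1, Int.ofNat 1, Int.ofNat 1, Int.ofNat 1, Int.negSucc 0, Int.ofNat 1, Int.ofNat 1, Int.ofNat 1, Int.negSucc 0, Int.ofNat 1, Int.negSucc 0, Int.ofNat 1, Int.ofNat 1],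
  [Int.ofNat 1, Int.ofNat 1, Int.ofNat 1, Int.ofNat 1, Int.ofNat 3, Int.ofNat 1, Int.ofNat 1, Int.ofNat 1, Int.negSucc 0, Int.negSucc 0, Int.negSucc 0, Int.ofNat 1, Int.ofNat 1, Int.ofNat 1, Int.ofNat 1, Int.ofNat 1, Int.ofNat 1, Int.ofNat 1, Int.negSucc 0, Int.negSucc 0, Int.ofNat 1, Int.negSucc 0, Int.negSucc 0, Int.ofNat 1],
  [Int.ofNat 3, Int.ofNat 1, Int.ofNat 1, Int.negSucc 0, Int.negSucc 0, Int.ofNat 1, Int.ofNat 1, Int.ofNat 1, Int.ofNat 1, Int.ofNat 1, Int.negSucc 0, Int.negSucc 0, Int.ofNat 1, Int.negSucc 0, Int.ofNat 1, Int.ofNat 1, Int.ofNat 1, Int.ofNat 1, Int.ofNat 1, Int.ofNat 1, Int.ofNat 1, Int.negSucc 0, Int.negSucc 0, Int.ofNat 1],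
  [Int.ofNat 3, Int.ofNat 1, Int.negSucc 0, Int.negSucc 0, Int.negSucc 0, Int.negSucc 0, Int.negSucc 0, Int.ofNat 1, Int.ofNat 1, Int.negSucc 0, Int.ofNat 1, Int.negSucc 0, Int.ofNat 1, Int.negSucc 0, Int.ofNat 1, Int.negSucc 0, Int.ofNat 1, Int.ofNat 1, Int.negSucc 0, Int.ofNat 1, Int.ofNat 1, Int.negSucc 0, Int.ofNat 1, Int.ofNat 1],
  [Int.negSucc 0, Int.ofNat 1, Int.ofNat 3, Int.negSucc 0, Int.negSucc 0, Int.negSucc 0, Int.negSucc 0, Int.ofNat 1, Int.ofNat 1, Int.negSucc 0, Int.ofNat 1, Int.negSucc 0, Int.ofNat 1, Int.negSucc 0, Int.ofNat 1, Int.negSucc 0, Int.ofNat 1, Int.ofNat 1, Int.negSucc 0, Int.ofNat 1, Int.ofNat 1, Int.negSucc 0, Int.ofNat 1, Int.ofNat 1],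
  [Int.negSucc 0, Int.negSucc 0, Int.negSucc 0, Int.negSucc 0, Int.ofNat 3, Int.negSucc 0, Int.ofNat 1, Int.negSucc 0, Int.ofNat 1, Int.ofNat 1, Int.ofNat 1, Int.ofNat 1, Int.ofNat 1, Int.negSucc 0, Int.ofNat 1, Int.negSucc 0, Int.negSucc 0, Int.negSucc 0, Int.negSucc 0, Int.ofNat 1, Int.ofNat 1, Int.ofNat 1, Int.ofNat 1, Int.ofNat 1],
  [Int.ofNat 0, Int.ofNat 0, Int.ofNat 0, Int.ofNat 0, Int.ofNat 2, Int.ofNat 0, Int.ofNat 0, Int.negSucc 1, Int.ofNat 0, Int.ofNat 0, Int.ofNat 0, Int.ofNat 0, Int.ofNat 0, Int.negSucc 1, Int.ofNat 2, Int.negSucc 1, Int.negSucc 1, Int.ofNat 0, Int.negSucc 1, Int.ofNat 0, Int.ofNat 0, Int.ofNat 0, Int.ofNat 0, Int.negSucc 1],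
  [Int.ofNat 0, Int.ofNat 0, Int.ofNat 0, Int.ofNat 0, Int.ofNat 0, Int.ofNat 0, Int.ofNat 0, Int.ofNat 2, Int.ofNat 0, Int.ofNat 0, Int.negSucc 1, Int.ofNat 0, Int.ofNat 0, Int.ofNat 0, Int.ofNat 0, Int.ofNat 0, Int.negSucc 1, Int.ofNat 2, Int.negSucc 1, Int.negSucc 1, Int.ofNat 0, Int.negSucc 1, Int.ofNat 0, Int.negSucc 1],
  [Int.negSucc 0, Int.negSucc 0, Int.negSucc 0, Int.negSucc 0, Int.ofNat 1, Int.negSucc 0, Int.ofNat 1, Int.ofNat 3, Int.ofNat 1, Int.ofNat 1, Int.negSucc 0, Int.ofNat 1, Int.ofNat 1, Int.ofNat 1, Int.negSucc 0, Int.ofNat 1, Int.negSucc 0, Int.ofNat 1, Int.negSucc 0, Int.negSucc 0, Int.ofNat 1, Int.negSucc 0, Int.ofNat 1, Int.ofNat 1],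
  [Int.negSucc 0, Int.negSucc 0, Int.negSucc 0, Int.ofNat 1, Int.negSucc 0, Int.ofNat 1, Int.ofNat 3, Int.ofNat 1, Int.ofNat 1, Int.negSucc 0, Int.ofNat 1, Int.ofNat 1, Int.ofNat 1, Int.negSucc 0, Int.ofNat 1, Int.negSucc 0, Int.ofNat 1, Int.negSucc 0, Int.negSucc 0, Int.ofNat 1, Int.negSucc 0, Int.ofNat 1, Int.negSucc 0, Int.ofNat 1],
  [Int.ofNat 1, Int.negSucc 0, Int.ofNat 1, Int.ofNat 1, Int.negSucc 0, Int.ofNat 1, Int.ofNat 3, Int.negSucc 0, Int.ofNat 1, Int.ofNat 1, Int.negSucc 0, Int.negSucc 0, Int.ofNat 1, Int.negSucc 0, Int.ofNat 1, Int.negSucc 0, Int.ofNat 1, Int.negSucc 0, Int.ofNat 1, Int.ofNat 1, Int.negSucc 0, Int.negSucc 0, Int.negSucc 0, Int.ofNat 1],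
  [Int.ofNat 1, Int.ofNat 1, Int.ofNat 1, Int.ofNat 1, Int.negSucc 0, Int.negSucc 0, Int.negSucc 0, Int.negSucc 0, Int.ofNat 1, Int.ofNat 1, Int.negSucc 0, Int.ofNat 1, Int.negSucc 0, Int.ofNat 1, Int.ofNat 1, Int.negSucc 0, Int.ofNat 1, Int.negSucc 0, Int.ofNat 3, Int.negSucc 0, Int.ofNat 1, Int.negSucc 0, Int.negSucc 0, Int.ofNat 1],
  [Int.negSucc 0, Int.ofNat 1, Int.negSucc 0, Int.ofNat 1, Int.negSucc 0, Int.negSucc 0, Int.negSucc 0, Int.ofNat 1, Int.ofNat 1, Int.negSucc 0, Int.ofNat 1, Int.negSucc 0, Int.negSucc 0, Int.ofNat 1, Int.ofNat 1, Int.negSucc 0, Int.ofNat 1, Int.negSucc 0, Int.negSucc 2, Int.negSucc 0, Int.ofNat 1, Int.ofNat 1, Int.negSucc 0, Int.ofNat 1],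
  [Int.negSucc 0, Int.negSucc 0, Int.ofNat 1, Int.negSucc 0, Int.ofNat 1, Int.negSucc 0, Int.negSucc 0, Int.negSucc 0, Int.ofNat 1, Int.ofNat 1, Int.negSucc 0, Int.ofNat 1, Int.negSucc 0, Int.negSucc 0, Int.ofNat 1, Int.ofNat 1, Int.negSucc 0, Int.ofNat 1, Int.negSucc 0, Int.negSucc 2, Int.negSucc 0, Int.ofNat 1, Int.ofNat 1, Int.ofNat 1],
  [Int.ofNat 1, Int.ofNat 1, Int.negSucc 0, Int.negSucc 0, Int.ofNat 1, Int.negSucc 0, Int.ofNat 1, Int.ofNat 1, Int.ofNat 1, Int.ofNat 1, Int.negSucc 0, Int.ofNat 1, Int.negSucc 0, Int.negSucc 0, Int.ofNat 1, Int.ofNat 1, Int.negSucc 0, Int.ofNat 1, Int.negSucc 0, Int.negSucc 0, Int.negSucc 0, Int.ofNat 3, Int.ofNat 1, Int.negSucc 0],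
  [Int.negSucc 0, Int.ofNat 1, Int.negSucc 0, Int.ofNat 1, Int.ofNat 1, Int.ofNat 1, Int.ofNat 1, Int.negSucc 0, Int.ofNat 1, Int.negSucc 0, Int.negSucc 0, Int.ofNat 1, Int.ofNat 1, Int.negSucc 0, Int.ofNat 1, Int.negSucc 0, Int.negSucc 0, Int.negSucc 0, Int.ofNat 3, Int.ofNat 1, Int.ofNat 1, Int.ofNat 1, Int.negSucc 0, Int.negSucc 0],
  [Int.ofNat 0, Int.negSucc 1, Int.ofNat 0, Int.ofNat 0, Int.ofNat 2, Int.ofNat 0, Int.ofNat 0, Int.negSucc 1, Int.negSucc 1, Int.ofNat 0, Int.ofNat 0, Int.negSucc 1, Int.negSucc 1, Int.ofNat 0, Int.ofNat 0, Int.ofNat 0, Int.ofNat 0, Int.negSucc 1, Int.ofNat 0, Int.ofNat 0, Int.ofNat 2, Int.ofNat 0, Int.ofNat 0, Int.ofNat 0],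
  [Int.ofNat 0, Int.ofNat 0, Int.ofNat 2, Int.ofNat 0, Int.ofNat 0, Int.negSucc 1, Int.ofNat 0, Int.ofNat 0, Int.negSucc 1, Int.ofNat 0, Int.ofNat 2, Int.negSucc 1, Int.ofNat 0, Int.ofNat 0, Int.ofNat 0, Int.ofNat 0, Int.negSucc 1, Int.ofNat 0, Int.negSucc 1, Int.negSucc 1, Int.ofNat 0, Int.ofNat 0, Int.ofNat 0, Int.ofNat 0],
  [Int.ofNat 1, Int.ofNat 1, Int.negSucc 0, Int.ofNat 1, Int.ofNat 1, Int.negSucc 0, Int.ofNat 1, Int.ofNat 1, Int.ofNat 1, Int.negSucc 0, Int.ofNat 1, Int.ofNat 1, Int.ofNat 3, Int.ofNat 1, Int.ofNat 1, Int.negSucc 0, Int.negSucc 0, Int.ofNat 1, Int.ofNat 1, Int.negSucc 0, Int.negSucc 0, Int.ofNat 1, Int.ofNat 1, Int.ofNat 1],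
  [Int.ofNat 1, Int.ofNat 1, Int.ofNat 1, Int.ofNat 1, Int.ofNat 1, Int.ofNat 1, Int.negSucc 0, Int.ofNat 1, Int.ofNat 1, Int.ofNat 1, Int.negSucc 0, Int.ofNat 1, Int.ofNat 3, Int.ofNat 1, Int.ofNat 1, Int.ofNat 1, Int.negSucc 0, Int.ofNat 1, Int.negSucc 0, Int.negSucc 0, Int.negSucc 0, Int.ofNat 1, Int.negSucc 0, Int.ofNat 1],
  [Int.negSucc 0, Int.negSucc 0, Int.ofNat 1, Int.ofNat 1, Int.ofNat 1, Int.negSucc 0, Int.ofNat 1, Int.ofNat 1, Int.ofNat 1, Int.negSucc 0, Int.ofNat 1, Int.ofNat 1, Int.ofNat 1, Int.ofNat 1, Int.ofNat 1, Int.negSucc 0, Int.negSucc 0, Int.ofNat 3, Int.ofNat 1, Int.ofNat 1, Int.ofNat 1, Int.ofNat 1, Int.negSucc 0, Int.ofNat 1],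
  [Int.ofNat 1, Int.ofNat 1, Int.negSucc 0, Int.negSucc 0, Int.negSucc 0, Int.negSucc 0, Int.negSucc 0, Int.ofNat 1, Int.negSucc 0, Int.ofNat 1, Int.ofNat 1, Int.ofNat 1, Int.negSucc 0, Int.negSucc 0, Int.ofNat 1, Int.negSucc 0, Int.ofNat 1, Int.ofNat 3, Int.negSucc 0, Int.ofNat 1, Int.ofNat 1, Int.ofNat 1, Int.negSucc 0, Int.ofNat 1],
  [Int.ofNat 1, Int.negSucc 0, Int.ofNat 1, Int.negSucc 0, Int.ofNat 3, Int.ofNat 1, Int.ofNat 1, Int.negSucc 0, Int.ofNat 1, Int.negSucc 0, Int.ofNat 1, Int.negSucc 0, Int.ofNat 1, Int.ofNat 1, Int.negSucc 0, Int.negSucc 0, Int.ofNat 1, Int.negSucc 0, Int.ofNat 1, Int.negSucc 0, Int.negSucc 0, Int.negSucc 0, Int.ofNat 1, Int.ofNat 1],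
  [Int.negSucc 0, Int.negSucc 0, Int.negSucc 0, Int.negSucc 0, Int.ofNat 3, Int.ofNat 1, Int.ofNat 1, Int.ofNat 1, Int.ofNat 1, Int.ofNat 1, Int.negSucc 0, Int.ofNat 1, Int.ofNat 1, Int.ofNat 1, Int.negSucc 0, Int.negSucc 0, Int.ofNat 1, Int.negSucc 0, Int.negSucc 0, Int.negSucc 0, Int.negSucc 0, Int.ofNat 1, Int.ofNat 1, Int.ofNat 1],
  [Int.ofNat 1, Int.negSucc 0, Int.negSucc 0, Int.negSucc 0, Int.negSucc 0, Int.ofNat 3, Int.ofNat 1, Int.ofNat 1, Int.ofNat 1, Int.ofNat 1, Int.ofNat 1, Int.negSucc 0, Int.ofNat 1, Int.ofNat 1, Int.ofNat 1, Int.negSucc 0, Int.negSucc 0, Int.ofNat 1, Int.negSucc 0, Int.negSucc 0, Int.negSucc 0, Int.negSucc 0, Int.ofNat 1, Int.ofNat 1],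
  [Int.negSucc 0, Int.ofNat 1, Int.ofNat 1, Int.negSucc 2, Int.negSucc 0, Int.ofNat 1, Int.ofNat 1, Int.ofNat 1, Int.ofNat 1, Int.ofNat 1, Int.ofNat 1, Int.negSucc 0, Int.ofNat 1, Int.ofNat 1, Int.negSucc 0, Int.negSucc 0, Int.negSucc 0, Int.negSucc 0, Int.negSucc 0, Int.negSucc 0, Int.negSucc 0, Int.negSucc 0, Int.ofNat 1, Int.negSucc 0],
  [Int.negSucc 2, Int.negSucc 0, Int.ofNat 1, Int.ofNat 1, Int.ofNat 1, Int.ofNat 1, Int.ofNat 1, Int.ofNat 1, Int.negSucc 0, Int.ofNat 1, Int.ofNat 1, Int.negSucc 0, Int.negSucc 0, Int.negSucc 0, Int.negSucc 0, Int.negSucc 0, Int.negSucc 0, Int.negSucc 0, Int.negSucc 0, Int.ofNat 1, Int.negSucc 0, Int.ofNat 1, Int.ofNat 1, Int.negSucc 0],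
  [Int.ofNat 1, Int.negSucc 0, Int.negSucc 2, Int.ofNat 1, Int.ofNat 1, Int.ofNat 1, Int.negSucc 0, Int.negSucc 0, Int.ofNat 1, Int.ofNat 1, Int.ofNat 1, Int.ofNat 1, Int.ofNat 1, Int.negSucc 0, Int.negSucc 0, Int.negSucc 0, Int.negSucc 0, Int.negSucc 0, Int.ofNat 1, Int.negSucc 0, Int.negSucc 0, Int.negSucc 0, Int.ofNat 1, Int.negSucc 0],
  [Int.ofNat 1, Int.negSucc 0, Int.ofNat 1, Int.ofNat 1, Int.ofNat 1, Int.negSucc 0, Int.negSucc 2, Int.ofNat 1, Int.ofNat 1, Int.negSucc 0, Int.negSucc 0, Int.negSucc 0, Int.ofNat 1, Int.negSucc 0, Int.ofNat 1, Int.negSucc 0, Int.ofNat 1, Int.negSucc 0, Int.negSucc 0, Int.ofNat 1, Int.negSucc 0, Int.ofNat 1, Int.negSucc 0, Int.negSucc 0],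
  [Int.negSucc 0, Int.ofNat 1, Int.negSucc 0, Int.ofNat 1, Int.ofNat 1, Int.negSucc 0, Int.negSucc 2, Int.ofNat 1, Int.ofNat 1, Int.ofNat 1, Int.ofNat 1, Int.negSucc 0, Int.ofNat 1, Int.negSucc 0, Int.ofNat 1, Int.ofNat 1, Int.ofNat 1, Int.negSucc 0, Int.negSucc 0, Int.ofNat 1, Int.ofNat 1, Int.ofNat 1, Int.negSucc 0, Int.ofNat 1],
  [Int.negSucc 0, Int.ofNat 1, Int.ofNat 1, Int.ofNat 1, Int.ofNat 1, Int.ofNat 1, Int.ofNat 3, Int.ofNat 1, Int.ofNat 1, Int.negSucc 0, Int.negSucc 0, Int.negSucc 0, Int.ofNat 1, Int.negSucc 0, Int.ofNat 1, Int.negSucc 0, Int.ofNat 1, Int.negSucc 0, Int.ofNat 1, Int.ofNat 1, Int.ofNat 1, Int.ofNat 1, Int.ofNat 1, Int.ofNat 1],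
  [Int.ofNat 1, Int.negSucc 0, Int.negSucc 0, Int.negSucc 0, Int.ofNat 1, Int.ofNat 1, Int.ofNat 1, Int.ofNat 1, Int.ofNat 1, Int.ofNat 1, Int.ofNat 1, Int.negSucc 0, Int.negSucc 0, Int.ofNat 1, Int.negSucc 0, Int.ofNat 3, Int.ofNat 1, Int.ofNat 1, Int.ofNat 1, Int.ofNat 1, Int.negSucc 0, Int.ofNat 1, Int.ofNat 1, Int.ofNat 1],
  [Int.ofNat 1, Int.negSucc 0, Int.ofNat 1, Int.negSucc 0, Int.ofNat 1, Int.negSucc 0, Int.negSucc 0, Int.ofNat 1, Int.ofNat 1, Int.negSucc 0, Int.negSucc 0, Int.negSucc 0, Int.negSucc 0, Int.ofNat 1, Int.negSucc 0, Int.negSucc 2, Int.ofNat 1, Int.ofNat 1, Int.negSucc 0, Int.ofNat 1, Int.negSucc 0, Int.ofNat 1, Int.negSucc 0, Int.ofNat 1],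
  [Int.ofNat 0, Int.ofNat 2, Int.ofNat 0, Int.ofNat 0, Int.ofNat 0, Int.ofNat 0, Int.negSucc 1, Int.ofNat 0, Int.ofNat 2, Int.ofNat 2, Int.ofNat 2, Int.ofNat 0, Int.ofNat 0, Int.ofNat 0, Int.ofNat 0, Int.ofNat 0, Int.ofNat 0, Int.ofNat 2, Int.ofNat 0, Int.ofNat 0, Int.ofNat 2, Int.ofNat 0, Int.negSucc 1, Int.ofNat 0],
  [Int.ofNat 0, Int.ofNat 0, Int.negSucc 1, Int.ofNat 0, Int.ofNat 0, Int.ofNat 0, Int.ofNat 2, Int.ofNat 0, Int.ofNat 0, Int.ofNat 0, Int.ofNat 0, Int.ofNat 0, Int.ofNat 2, Int.ofNat 2, Int.ofNat 2, Int.ofNat 0, Int.ofNat 0, Int.ofNat 0, Int.ofNat 0, Int.negSucc 1, Int.ofNat 2, Int.ofNat 2, Int.ofNat 0, Int.ofNat 0],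
  [Int.negSucc 0, Int.negSucc 0, Int.ofNat 1, Int.negSucc 0, Int.negSucc 0, Int.negSucc 0, Int.ofNat 1, Int.negSucc 0, Int.negSucc 0, Int.negSucc 0, Int.negSucc 0, Int.negSucc 0, Int.ofNat 1, Int.ofNat 1, Int.ofNat 1, Int.negSucc 0, Int.negSucc 0, Int.negSucc 0, Int.negSucc 0, Int.negSucc 2, Int.ofNat 1, Int.ofNat 1, Int.negSucc 0, Int.negSucc 0],
  [Int.ofNat 1, Int.ofNat 1, Int.negSucc 0, Int.negSucc 0, Int.negSucc 0, Int.ofNat 1, Int.negSucc 0, Int.negSucc 0, Int.negSucc 0, Int.ofNat 1, Int.negSucc 0, Int.negSucc 0, Int.negSucc 0, Int.negSucc 0, Int.negSucc 0, Int.ofNat 1, Int.ofNat 1, Int.ofNat 1, Int.negSucc 0, Int.negSucc 0, Int.negSucc 0, Int.negSucc 0, Int.negSucc 2, Int.negSucc 0],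
  [Int.negSucc 0, Int.negSucc 0, Int.ofNat 1, Int.negSucc 0, Int.ofNat 1, Int.ofNat 1, Int.ofNat 1, Int.ofNat 1, Int.ofNat 1, Int.ofNat 1, Int.negSucc 0, Int.ofNat 1, Int.ofNat 1, Int.ofNat 1, Int.negSucc 0, Int.ofNat 1, Int.ofNat 3, Int.ofNat 1, Int.ofNat 1, Int.ofNat 1, Int.negSucc 0, Int.ofNat 1, Int.negSucc 0, Int.ofNat 1],
  [Int.negSucc 0, Int.ofNat 1, Int.negSucc 0, Int.ofNat 1, Int.ofNat 1, Int.ofNat 1, Int.ofNat 1, Int.ofNat 1, Int.ofNat 1, Int.negSucc 0, Int.ofNat 1, Int.ofNat 1, Int.ofNat 1, Int.negSucc 0, Int.ofNat 1, Int.ofNat 3, Int.ofNat 1, Int.ofNat 1, Int.ofNat 1, Int.negSucc 0, Int.ofNat 1, Int.negSucc 0, Int.negSucc 0, Int.ofNat 1],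
  [Int.ofNat 1, Int.ofNat 1, Int.ofNat 1, Int.ofNat 1, Int.ofNat 1, Int.ofNat 1, Int.ofNat 1, Int.negSucc 0, Int.ofNat 1, Int.ofNat 1, Int.negSucc 0, Int.negSucc 0, Int.ofNat 1, Int.negSucc 0, Int.ofNat 1, Int.ofNat 3, Int.ofNat 1, Int.ofNat 1, Int.negSucc 0, Int.negSucc 0, Int.ofNat 1, Int.ofNat 1, Int.negSucc 0, Int.ofNat 1],
  [Int.ofNat 1, Int.ofNat 1, Int.negSucc 0, Int.ofNat 1, Int.ofNat 1, Int.negSucc 0, Int.ofNat 1, Int.ofNat 1, Int.ofNat 1, Int.ofNat 1, Int.ofNat 1, Int.ofNat 1, Int.negSucc 0, Int.ofNat 1, Int.negSucc 0, Int.ofNat 3, Int.ofNat 1, Int.negSucc 0, Int.ofNat 1, Int.ofNat 1, Int.ofNat 1, Int.negSucc 0, Int.negSucc 0, Int.ofNat 1],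
  [Int.negSucc 0, Int.ofNat 1, Int.ofNat 1, Int.ofNat 1, Int.ofNat 1, Int.negSucc 0, Int.ofNat 1, Int.negSucc 0, Int.ofNat 1, Int.negSucc 0, Int.negSucc 0, Int.negSucc 0, Int.negSucc 0, Int.ofNat 1, Int.negSucc 0, Int.ofNat 3, Int.ofNat 1, Int.negSucc 0, Int.negSucc 0, Int.ofNat 1, Int.ofNat 1, Int.ofNat 1, Int.negSucc 0, Int.ofNat 1],
  [Int.negSucc 0, Int.negSucc 0, Int.ofNat 1, Int.ofNat 1, Int.ofNat 1, Int.ofNat 1, Int.negSucc 0, Int.ofNat 1, Int.negSucc 0, Int.ofNat 1, Int.negSucc 0, Int.negSucc 0, Int.negSucc 0, Int.negSucc 0, Int.ofNat 1, Int.negSucc 0, Int.ofNat 3, Int.ofNat 1, Int.negSucc 0, Int.negSucc 0, Int.ofNat 1, Int.ofNat 1, Int.ofNat 1, Int.ofNat 1],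
  [Int.ofNat 1, Int.ofNat 1, Int.negSucc 0, Int.negSucc 0, Int.negSucc 0, Int.negSucc 0, Int.negSucc 0, Int.ofNat 1, Int.ofNat 1, Int.ofNat 1, Int.negSucc 0, Int.ofNat 1, Int.ofNat 1, Int.negSucc 2, Int.negSucc 0, Int.negSucc 0, Int.ofNat 1, Int.negSucc 0, Int.ofNat 1, Int.negSucc 0, Int.ofNat 1, Int.ofNat 1, Int.negSucc 0, Int.negSucc 0],
  [Int.negSucc 0, Int.negSucc 0, Int.negSucc 0, Int.negSucc 0, Int.ofNat 1, Int.ofNat 1, Int.ofNat 1, Int.negSucc 0, Int.ofNat 1, Int.ofNat 1, Int.negSucc 2, Int.negSucc 0, Int.negSucc 0, Int.ofNat 1, Int.negSucc 0, Int.ofNat 1, Int.negSucc 0, Int.ofNat 1, Int.ofNat 1, Int.negSucc 0, Int.ofNat 1, Int.ofNat 1, Int.negSucc 0, Int.negSucc 0],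
  [Int.negSucc 0, Int.negSucc 0, Int.negSucc 0, Int.negSucc 0, Int.ofNat 1, Int.ofNat 1, Int.ofNat 1, Int.negSucc 0, Int.ofNat 1, Int.ofNat 1, Int.negSucc 2, Int.negSucc 0, Int.negSucc 0, Int.ofNat 1, Int.negSucc 0, Int.ofNat 1, Int.negSucc 0, Int.ofNat 1, Int.ofNat 1, Int.negSucc 0, Int.ofNat 1, Int.ofNat 1, Int.negSucc 0, Int.negSucc 0],
  [Int.negSucc 0, Int.ofNat 1, Int.ofNat 1, Int.negSucc 0, Int.ofNat 1, Int.negSucc 0, Int.negSucc 0, Int.negSucc 2, Int.negSucc 0, Int.ofNat 1, Int.ofNat 1, Int.ofNat 1, Int.ofNat 1, Int.negSucc 0, Int.negSucc 0, Int.ofNat 1, Int.ofNat 1, Int.negSucc 0, Int.negSucc 0, Int.negSucc 0, Int.ofNat 1, Int.ofNat 1, Int.negSucc 0, Int.negSucc 0],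
  [Int.ofNat 1, Int.negSucc 0, Int.negSucc 0, Int.ofNat 1, Int.ofNat 1, Int.ofNat 1, Int.ofNat 1, Int.negSucc 0, Int.negSucc 0, Int.negSucc 0, Int.negSucc 0, Int.ofNat 1, Int.ofNat 1, Int.negSucc 0, Int.ofNat 1, Int.negSucc 0, Int.ofNat 1, Int.ofNat 1, Int.negSucc 0, Int.ofNat 1, Int.negSucc 0, Int.ofNat 3, Int.negSucc 0, Int.ofNat 1],
  [Int.ofNat 1, Int.negSucc 0, Int.ofNat 1, Int.ofNat 1, Int.ofNat 1, Int.negSucc 0, Int.negSucc 0, Int.negSucc 0, Int.negSucc 0, Int.ofNat 1, Int.ofNat 1, Int.ofNat 1, Int.ofNat 1, Int.negSucc 0, Int.ofNat 1, Int.ofNat 1, Int.ofNat 1, Int.ofNat 1, Int.ofNat 1, Int.ofNat 1, Int.negSucc 0, Int.ofNat 3, Int.ofNat 1, Int.ofNat 1],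
  [Int.ofNat 1, Int.ofNat 1, Int.ofNat 1, Int.negSucc 0, Int.ofNat 1, Int.negSucc 0, Int.ofNat 3, Int.ofNat 1, Int.negSucc 0, Int.negSucc 0, Int.negSucc 0, Int.negSucc 0, Int.ofNat 1, Int.ofNat 1, Int.ofNat 1, Int.ofNat 1, Int.ofNat 1, Int.ofNat 1, Int.ofNat 1, Int.ofNat 1, Int.ofNat 1, Int.negSucc 0, Int.ofNat 1, Int.ofNat 1],
  [Int.negSucc 0, Int.negSucc 0, Int.negSucc 0, Int.ofNat 1, Int.negSucc 0, Int.negSucc 0, Int.negSucc 2, Int.ofNat 1, Int.ofNat 1, Int.ofNat 1, Int.negSucc 0, Int.negSucc 0, Int.negSucc 0, Int.negSucc 0, Int.ofNat 1, Int.ofNat 1, Int.negSucc 0, Int.ofNat 1, Int.negSucc 0, Int.ofNat 1, Int.ofNat 1, Int.negSucc 0, Int.ofNat 1, Int.ofNat 1],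
  [Int.ofNat 1, Int.ofNat 1, Int.negSucc 0, Int.ofNat 1, Int.ofNat 1, Int.ofNat 1, Int.ofNat 1, Int.negSucc 0, Int.ofNat 1, Int.negSucc 0, Int.negSucc 0, Int.negSucc 0, Int.negSucc 0, Int.ofNat 1, Int.negSucc 0, Int.ofNat 1, Int.negSucc 0, Int.negSucc 0, Int.ofNat 1, Int.negSucc 2, Int.ofNat 1, Int.negSucc 0, Int.negSucc 0, Int.negSucc 0],
  [Int.negSucc 0, Int.ofNat 1, Int.ofNat 1, Int.ofNat 1, Int.ofNat 1, Int.ofNat 1, Int.ofNat 1, Int.ofNat 1, Int.ofNat 1, Int.ofNat 1, Int.ofNat 1, Int.ofNat 1, Int.negSucc 0, Int.ofNat 1, Int.negSucc 0, Int.ofNat 1, Int.negSucc 0, Int.negSucc 0, Int.negSucc 0, Int.negSucc 2, Int.ofNat 1, Int.ofNat 1, Int.negSucc 0, Int.negSucc 0],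
  [Int.negSucc 0, Int.negSucc 0, Int.ofNat 1, Int.ofNat 1, Int.ofNat 1, Int.ofNat 1, Int.ofNat 1, Int.ofNat 1, Int.ofNat 1, Int.ofNat 1, Int.ofNat 1, Int.ofNat 1, Int.ofNat 1, Int.negSucc 0, Int.ofNat 1, Int.negSucc 0, Int.ofNat 1, Int.negSucc 0, Int.negSucc 0, Int.negSucc 0, Int.negSucc 2, Int.ofNat 1, Int.ofNat 1, Int.negSucc 0],
  [Int.ofNat 0, Int.ofNat 0, Int.negSucc 1, Int.ofNat 0, Int.ofNat 0, Int.ofNat 0, Int.ofNat 0, Int.ofNat 0, Int.ofNat 0, Int.ofNat 2, Int.ofNat 2, Int.ofNat 0, Int.ofNat 0, Int.negSucc 1, Int.ofNat 0, Int.ofNat 0, Int.ofNat 0, Int.negSucc 1, Int.negSucc 1, Int.negSucc 1, Int.negSucc 1, Int.ofNat 0, Int.ofNat 0, Int.ofNat 0],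
  [Int.ofNat 0, Int.ofNat 0, Int.ofNat 0, Int.ofNat 0, Int.ofNat 0, Int.ofNat 0, Int.ofNat 2, Int.ofNat 2, Int.ofNat 0, Int.ofNat 0, Int.negSucc 1, Int.ofNat 0, Int.ofNat 0, Int.ofNat 0, Int.negSucc 1, Int.negSucc 1, Int.negSucc 1, Int.negSucc 1, Int.ofNat 0, Int.ofNat 0, Int.ofNat 0, Int.ofNat 0, Int.negSucc 1, Int.ofNat 0],
  [Int.ofNat 0, Int.ofNat 0, Int.ofNat 0, Int.ofNat 2, Int.ofNat 2, Int.ofNat 2, Int.ofNat 0, Int.ofNat 0, Int.ofNat 0, Int.ofNat 2, Int.ofNat 0, Int.ofNat 0, Int.ofNat 0, Int.ofNat 2, Int.ofNat 0, Int.ofNat 0, Int.ofNat 0, Int.ofNat 0, Int.ofNat 0, Int.negSucc 1, Int.ofNat 2, Int.negSucc 1, Int.ofNat 0, Int.ofNat 0],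
  [Int.ofNat 0, Int.ofNat 0, Int.ofNat 2, Int.ofNat 2, Int.ofNat 0, Int.ofNat 0, Int.ofNat 0, Int.ofNat 0, Int.ofNat 0, Int.ofNat 2, Int.ofNat 2, Int.ofNat 0, Int.ofNat 2, Int.ofNat 0, Int.ofNat 0, Int.ofNat 0, Int.ofNat 0, Int.ofNat 0, Int.ofNat 0, Int.ofNat 0, Int.negSucc 1, Int.ofNat 2, Int.negSucc 1, Int.ofNat 0],
  [Int.ofNat 1, Int.ofNat 1, Int.negSucc 0, Int.ofNat 1, Int.ofNat 1, Int.negSucc 0, Int.negSucc 0, Int.negSucc 0, Int.negSucc 0, Int.ofNat 1, Int.ofNat 1, Int.negSucc 0, Int.ofNat 1, Int.ofNat 1, Int.negSucc 0, Int.negSucc 0, Int.ofNat 1, Int.negSucc 0, Int.negSucc 0, Int.negSucc 0, Int.negSucc 2, Int.ofNat 1, Int.negSucc 0, Int.ofNat 1],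
  [Int.ofNat 1, Int.ofNat 1, Int.ofNat 1, Int.ofNat 1, Int.ofNat 1, Int.ofNat 1, Int.ofNat 1, Int.negSucc 0, Int.negSucc 0, Int.negSucc 0, Int.negSucc 0, Int.negSucc 0, Int.ofNat 1, Int.ofNat 1, Int.negSucc 0, Int.ofNat 1, Int.ofNat 1, Int.negSucc 0, Int.ofNat 1, Int.negSucc 0, Int.negSucc 2, Int.ofNat 1, Int.ofNat 1, Int.ofNat 1],
  [Int.ofNat 1, Int.negSucc 0, Int.ofNat 1, Int.negSucc 0, Int.ofNat 1, Int.ofNat 1, Int.ofNat 1, Int.negSucc 0, Int.ofNat 1, Int.negSucc 0, Int.negSucc 0, Int.negSucc 0, Int.ofNat 1, Int.negSucc 0, Int.ofNat 1, Int.ofNat 1, Int.ofNat 1, Int.ofNat 1, Int.ofNat 1, Int.negSucc 2, Int.negSucc 0, Int.ofNat 1, Int.ofNat 1, Int.ofNat 1],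
  [Int.ofNat 1, Int.negSucc 0, Int.negSucc 0, Int.negSucc 0, Int.ofNat 1, Int.negSucc 0, Int.negSucc 0, Int.negSucc 0, Int.ofNat 1, Int.ofNat 1, Int.ofNat 1, Int.negSucc 0, Int.ofNat 1, Int.negSucc 0, Int.ofNat 1, Int.negSucc 0, Int.ofNat 1, Int.ofNat 1, Int.negSucc 0, Int.negSucc 2, Int.negSucc 0, Int.ofNat 1, Int.negSucc 0, Int.ofNat 1],
  [Int.negSucc 0, Int.ofNat 1, Int.ofNat 1, Int.negSucc 0, Int.ofNat 1, Int.negSucc 0, Int.ofNat 1, Int.ofNat 1, Int.ofNat 1, Int.ofNat 1, Int.ofNat 1, Int.negSucc 0, Int.ofNat 1, Int.negSucc 0, Int.ofNat 1, Int.negSucc 0, Int.ofNat 1, Int.ofNat 1, Int.negSucc 0, Int.negSucc 0, Int.negSucc 0, Int.ofNat 3, Int.negSucc 0, Int.negSucc 0],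
  [Int.negSucc 0, Int.negSucc 0, Int.ofNat 1, Int.negSucc 0, Int.ofNat 1, Int.ofNat 3, Int.ofNat 1, Int.negSucc 0, Int.ofNat 1, Int.ofNat 1, Int.ofNat 1, Int.negSucc 0, Int.ofNat 1, Int.ofNat 1, Int.ofNat 1, Int.negSucc 0, Int.negSucc 0, Int.negSucc 0, Int.ofNat 1, Int.negSucc 0, Int.ofNat 1, Int.negSucc 0, Int.ofNat 1, Int.negSucc 0],
  [Int.ofNat 0, Int.ofNat 0, Int.negSucc 1, Int.negSucc 1, Int.ofNat 0, Int.ofNat 2, Int.ofNat 2, Int.ofNat 0, Int.ofNat 0, Int.ofNat 0, Int.ofNat 0, Int.negSucc 1, Int.ofNat 0, Int.ofNat 0, Int.ofNat 0, Int.negSucc 1, Int.negSucc 1, Int.negSucc 1, Int.ofNat 0, Int.ofNat 0, Int.ofNat 0, Int.ofNat 0, Int.ofNat 0, Int.ofNat 0],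
  [Int.ofNat 0, Int.ofNat 0, Int.ofNat 0, Int.ofNat 0, Int.ofNat 0, Int.negSucc 1, Int.negSucc 1, Int.ofNat 0, Int.ofNat 2, Int.ofNat 2, Int.ofNat 0, Int.ofNat 0, Int.ofNat 0, Int.ofNat 0, Int.negSucc 1, Int.ofNat 0, Int.ofNat 0, Int.ofNat 0, Int.negSucc 1, Int.negSucc 1, Int.negSucc 1, Int.ofNat 0, Int.ofNat 0, Int.ofNat 0],
  [Int.ofNat 0, Int.ofNat 0, Int.ofNat 0, Int.ofNat 2, Int.ofNat 0, Int.ofNat 0, Int.ofNat 0, Int.ofNat 2, Int.ofNat 2, Int.ofNat 2, Int.ofNat 0, Int.ofNat 0, Int.ofNat 0, Int.ofNat 0, Int.ofNat 0, Int.ofNat 0, Int.ofNat 0, Int.ofNat 2, Int.negSucc 1, Int.ofNat 0, Int.negSucc 1, Int.ofNat 2, Int.ofNat 0, Int.ofNat 0],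
  [Int.ofNat 0, Int.ofNat 0, Int.ofNat 2, Int.ofNat 0, Int.ofNat 0, Int.ofNat 0, Int.ofNat 2, Int.ofNat 2, Int.ofNat 2, Int.ofNat 0, Int.ofNat 0, Int.ofNat 0, Int.ofNat 0, Int.ofNat 0, Int.ofNat 0, Int.ofNat 0, Int.ofNat 2, Int.negSucc 1, Int.ofNat 0, Int.negSucc 1, Int.ofNat 2, Int.ofNat 0, Int.ofNat 0, Int.ofNat 0],
  [Int.ofNat 0, Int.ofNat 0, Int.negSucc 1, Int.ofNat 0, Int.ofNat 0, Int.ofNat 0, Int.ofNat 2, Int.negSucc 1, Int.ofNat 2, Int.ofNat 0, Int.ofNat 0, Int.ofNat 0, Int.ofNat 0, Int.ofNat 0, Int.ofNat 0, Int.ofNat 0, Int.ofNat 2, Int.negSucc 1, Int.ofNat 0, Int.negSucc 1, Int.ofNat 2, Int.ofNat 0, Int.ofNat 0, Int.ofNat 0],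
  [Int.ofNat 0, Int.negSucc 1, Int.ofNat 0, Int.ofNat 0, Int.ofNat 0, Int.ofNat 0, Int.ofNat 0, Int.ofNat 2, Int.ofNat 0, Int.ofNat 2, Int.ofNat 0, Int.ofNat 0, Int.ofNat 0, Int.ofNat 2, Int.negSucc 1, Int.ofNat 0, Int.ofNat 0, Int.ofNat 0, Int.ofNat 2, Int.negSucc 1, Int.ofNat 0, Int.negSucc 1, Int.ofNat 0, Int.ofNat 0],
  [Int.ofNat 0, Int.negSucc 1, Int.ofNat 0, Int.ofNat 0, Int.ofNat 0, Int.ofNat 0, Int.ofNat 0, Int.negSucc 1, Int.ofNat 0, Int.negSucc 1, Int.ofNat 0, Int.ofNat 0, Int.ofNat 0, Int.ofNat 2, Int.negSucc 1, Int.ofNat 0, Int.ofNat 0, Int.ofNat 0, Int.negSucc 1, Int.negSucc 1, Int.ofNat 0, Int.ofNat 2, Int.ofNat 0, Int.ofNat 0],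
  [Int.ofNat 0, Int.ofNat 0, Int.negSucc 1, Int.ofNat 0, Int.ofNat 0, Int.ofNat 0, Int.ofNat 0, Int.ofNat 0, Int.negSucc 1, Int.ofNat 0, Int.negSucc 1, Int.ofNat 0, Int.ofNat 0, Int.ofNat 0, Int.ofNat 2, Int.negSucc 1, Int.ofNat 0, Int.ofNat 0, Int.ofNat 0, Int.negSucc 1, Int.negSucc 1, Int.ofNat 0, Int.ofNat 2, Int.ofNat 0],
  [Int.negSucc 0, Int.negSucc 0, Int.ofNat 1, Int.negSucc 0, Int.negSucc 0, Int.negSucc 0, Int.ofNat 1, Int.ofNat 1, Int.negSucc 0, Int.ofNat 3, Int.ofNat 1, Int.ofNat 1, Int.ofNat 1, Int.negSucc 0, Int.ofNat 1, Int.ofNat 1, Int.negSucc 0, Int.negSucc 0, Int.ofNat 1, Int.negSucc 0, Int.ofNat 1, Int.ofNat 1, Int.ofNat 1, Int.negSucc 0],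
  [Int.negSucc 0, Int.negSucc 0, Int.negSucc 0, Int.ofNat 1, Int.ofNat 1, Int.negSucc 0, Int.ofNat 3, Int.ofNat 1, Int.ofNat 1, Int.ofNat 1, Int.negSucc 0, Int.ofNat 1, Int.ofNat 1, Int.negSucc 0, Int.negSucc 0, Int.ofNat 1, Int.negSucc 0, Int.ofNat 1, Int.ofNat 1, Int.ofNat 1, Int.negSucc 0, Int.negSucc 0, Int.ofNat 1, Int.negSucc 0],
  [Int.negSucc 0, Int.negSucc 0, Int.negSucc 0, Int.ofNat 1, Int.ofNat 1, Int.negSucc 0, Int.ofNat 1, Int.negSucc 0, Int.negSucc 0, Int.ofNat 1, Int.negSucc 0, Int.negSucc 0, Int.negSucc 0, Int.negSucc 0, Int.negSucc 0, Int.ofNat 1, Int.negSucc 0, Int.ofNat 1, Int.negSucc 0, Int.negSucc 0, Int.negSucc 0, Int.negSucc 2, Int.ofNat 1, Int.negSucc 0],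
  [Int.negSucc 0, Int.ofNat 1, Int.ofNat 1, Int.ofNat 1, Int.negSucc 0, Int.negSucc 0, Int.negSucc 0, Int.negSucc 0, Int.negSucc 0, Int.negSucc 0, Int.negSucc 0, Int.ofNat 1, Int.ofNat 1, Int.negSucc 0, Int.ofNat 1, Int.ofNat 1, Int.negSucc 0, Int.negSucc 0, Int.negSucc 0, Int.negSucc 0, Int.negSucc 2, Int.negSucc 0, Int.negSucc 0, Int.negSucc 0],
  [Int.ofNat 1, Int.negSucc 0, Int.negSucc 0, Int.ofNat 1, Int.ofNat 1, Int.negSucc 0, Int.ofNat 1, Int.ofNat 1, Int.negSucc 0, Int.ofNat 1, Int.ofNat 1, Int.ofNat 1, Int.ofNat 1, Int.ofNat 1, Int.ofNat 1, Int.ofNat 3, Int.ofNat 1, Int.negSucc 0, Int.negSucc 0, Int.ofNat 1, Int.negSucc 0, Int.ofNat 1, Int.ofNat 1, Int.ofNat 1],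
  [Int.ofNat 1, Int.negSucc 0, Int.ofNat 1, Int.ofNat 1, Int.ofNat 1, Int.ofNat 1, Int.negSucc 0, Int.ofNat 1, Int.negSucc 0, Int.negSucc 0, Int.negSucc 0, Int.ofNat 1, Int.ofNat 1, Int.ofNat 1, Int.ofNat 1, Int.negSucc 2, Int.ofNat 1, Int.negSucc 0, Int.ofNat 1, Int.ofNat 1, Int.negSucc 0, Int.ofNat 1, Int.negSucc 0, Int.ofNat 1],
  [Int.negSucc 0, Int.ofNat 1, Int.ofNat 1, Int.negSucc 0, Int.ofNat 1, Int.negSucc 0, Int.ofNat 1, Int.ofNat 1, Int.ofNat 1, Int.negSucc 0, Int.ofNat 1, Int.ofNat 1, Int.negSucc 2, Int.ofNat 1, Int.negSucc 0, Int.ofNat 1, Int.ofNat 1, Int.ofNat 1, Int.negSucc 0, Int.ofNat 1, Int.ofNat 1, Int.negSucc 0, Int.negSucc 0, Int.ofNat 1],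
  [Int.ofNat 1, Int.negSucc 0, Int.negSucc 0, Int.ofNat 1, Int.negSucc 0, Int.negSucc 0, Int.negSucc 0, Int.ofNat 1, Int.negSucc 0, Int.ofNat 1, Int.ofNat 1, Int.ofNat 1, Int.ofNat 3, Int.negSucc 0, Int.negSucc 0, Int.ofNat 1, Int.negSucc 0, Int.ofNat 1, Int.ofNat 1, Int.ofNat 1, Int.ofNat 1, Int.negSucc 0, Int.negSucc 0, Int.ofNat 1],
  [Int.ofNat 1, Int.negSucc 0, Int.ofNat 1, Int.ofNat 1, Int.ofNat 1, Int.ofNat 1, Int.ofNat 1, Int.negSucc 0, Int.ofNat 1, Int.negSucc 0, Int.negSucc 0, Int.negSucc 0, Int.negSucc 0, Int.ofNat 1, Int.ofNat 1, Int.ofNat 1, Int.ofNat 1, Int.negSucc 0, Int.negSucc 0, Int.negSucc 0, Int.negSucc 0, Int.ofNat 3, Int.negSucc 0, Int.ofNat 1],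
  [Int.negSucc 0, Int.negSucc 0, Int.negSucc 0, Int.ofNat 1, Int.ofNat 1, Int.ofNat 1, Int.ofNat 1, Int.ofNat 1, Int.ofNat 1, Int.ofNat 1, Int.ofNat 1, Int.ofNat 1, Int.negSucc 0, Int.ofNat 1, Int.ofNat 1, Int.ofNat 1, Int.ofNat 1, Int.negSucc 0, Int.ofNat 1, Int.negSucc 0, Int.negSucc 0, Int.negSucc 2, Int.negSucc 0, Int.ofNat 1],
  [Int.negSucc 0, Int.negSucc 0, Int.negSucc 0, Int.negSucc 0, Int.ofNat 1, Int.ofNat 1, Int.ofNat 1, Int.ofNat 1, Int.ofNat 1, Int.ofNat 1, Int.ofNat 1, Int.ofNat 1, Int.ofNat 1, Int.negSucc 0, Int.ofNat 1, Int.ofNat 1, Int.ofNat 1, Int.ofNat 1, Int.negSucc 0, Int.ofNat 1, Int.negSucc 0, Int.negSucc 0, Int.negSucc 2, Int.ofNat 1],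
  [Int.ofNat 0, Int.ofNat 0, Int.ofNat 0, Int.negSucc 1, Int.ofNat 2, Int.ofNat 0, Int.ofNat 0, Int.ofNat 0, Int.ofNat 0, Int.ofNat 0, Int.ofNat 0, Int.ofNat 0, Int.ofNat 0, Int.ofNat 0, Int.ofNat 0, Int.ofNat 0, Int.ofNat 2, Int.ofNat 0, Int.negSucc 1, Int.ofNat 0, Int.negSucc 1, Int.negSucc 1, Int.negSucc 1, Int.negSucc 1],
  [Int.negSucc 1, Int.ofNat 2, Int.ofNat 0, Int.ofNat 0, Int.ofNat 0, Int.ofNat 0, Int.ofNat 0, Int.ofNat 0, Int.ofNat 0, Int.ofNat 0, Int.ofNat 0, Int.ofNat 0, Int.ofNat 0, Int.ofNat 2, Int.ofNat 0, Int.negSucc 1, Int.ofNat 0, Int.negSucc 1, Int.negSucc 1, Int.negSucc 1, Int.ofNat 0, Int.ofNat 0, Int.ofNat 0, Int.negSucc 1],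
  [Int.ofNat 1, Int.negSucc 2, Int.negSucc 0, Int.ofNat 1, Int.negSucc 0, Int.ofNat 1, Int.ofNat 1, Int.ofNat 1, Int.ofNat 1, Int.ofNat 1, Int.ofNat 1, Int.ofNat 1, Int.ofNat 1, Int.ofNat 1, Int.ofNat 1, Int.negSucc 0, Int.negSucc 0, Int.negSucc 0, Int.negSucc 0, Int.negSucc 0, Int.ofNat 1, Int.ofNat 1, Int.negSucc 0, Int.ofNat 1],
  [Int.ofNat 1, Int.ofNat 1, Int.negSucc 0, Int.ofNat 1, Int.negSucc 0, Int.ofNat 1, Int.negSucc 0, Int.ofNat 1, Int.ofNat 1, Int.ofNat 1, Int.ofNat 1, Int.negSucc 0, Int.ofNat 1, Int.negSucc 0, Int.negSucc 0, Int.negSucc 0, Int.ofNat 1, Int.ofNat 1, Int.negSucc 2, Int.ofNat 1, Int.ofNat 1, Int.ofNat 1, Int.negSucc 0, Int.ofNat 1],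
  [Int.ofNat 0, Int.ofNat 0, Int.ofNat 2, Int.ofNat 0, Int.ofNat 0, Int.ofNat 0, Int.negSucc 1, Int.ofNat 0, Int.ofNat 2, Int.ofNat 0, Int.ofNat 0, Int.ofNat 0, Int.ofNat 2, Int.ofNat 0, Int.negSucc 1, Int.negSucc 1, Int.ofNat 2, Int.ofNat 0, Int.negSucc 1, Int.ofNat 0, Int.ofNat 0, Int.ofNat 0, Int.ofNat 0, Int.ofNat 0],
  [Int.ofNat 0, Int.ofNat 0, Int.negSucc 1, Int.ofNat 0, Int.ofNat 0, Int.ofNat 0, Int.ofNat 2, Int.ofNat 0, Int.ofNat 2, Int.ofNat 0, Int.ofNat 0, Int.ofNat 0, Int.ofNat 2, Int.ofNat 0, Int.negSucc 1, Int.ofNat 2, Int.ofNat 2, Int.ofNat 0, Int.ofNat 2, Int.ofNat 0, Int.ofNat 0, Int.ofNat 0, Int.ofNat 0, Int.ofNat 0],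
  [Int.ofNat 0, Int.ofNat 0, Int.ofNat 2, Int.ofNat 0, Int.ofNat 0, Int.ofNat 2, Int.ofNat 0, Int.negSucc 1, Int.negSucc 1, Int.ofNat 0, Int.ofNat 0, Int.ofNat 0, Int.ofNat 0, Int.ofNat 2, Int.ofNat 0, Int.ofNat 2, Int.ofNat 2, Int.ofNat 0, Int.ofNat 0, Int.ofNat 0, Int.ofNat 0, Int.ofNat 0, Int.ofNat 2, Int.ofNat 0],
  [Int.ofNat 0, Int.ofNat 0, Int.negSucc 1, Int.ofNat 0, Int.ofNat 0, Int.negSucc 1, Int.ofNat 0, Int.negSucc 1, Int.negSucc 1, Int.ofNat 0, Int.ofNat 0, Int.ofNat 0, Int.ofNat 0, Int.ofNat 2, Int.ofNat 0, Int.negSucc 1, Int.ofNat 2, Int.ofNat 0, Int.ofNat 0, Int.ofNat 0, Int.ofNat 0, Int.ofNat 0, Int.negSucc 1, Int.ofNat 0],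
  [Int.negSucc 0, Int.negSucc 0, Int.ofNat 1, Int.ofNat 1, Int.negSucc 0, Int.negSucc 0, Int.ofNat 1, Int.negSucc 0, Int.negSucc 0, Int.ofNat 1, Int.ofNat 1, Int.ofNat 1, Int.ofNat 1, Int.ofNat 1, Int.ofNat 1, Int.negSucc 0, Int.ofNat 1, Int.ofNat 1, Int.ofNat 1, Int.ofNat 1, Int.ofNat 1, Int.ofNat 1, Int.negSucc 2, Int.negSucc 0],
  [Int.negSucc 0, Int.ofNat 1, Int.ofNat 1, Int.ofNat 1, Int.ofNat 1, Int.ofNat 1, Int.negSucc 0, Int.negSucc 0, Int.ofNat 1, Int.ofNat 1, Int.negSucc 0, Int.ofNat 1, Int.negSucc 0, Int.ofNat 1, Int.ofNat 1, Int.negSucc 0, Int.ofNat 1, Int.ofNat 1, Int.negSucc 0, Int.negSucc 2, Int.ofNat 1, Int.ofNat 1, Int.ofNat 1, Int.negSucc 0],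
  [Int.ofNat 1, Int.negSucc 0, Int.negSucc 0, Int.negSucc 0, Int.negSucc 0, Int.negSucc 0, Int.ofNat 1, Int.ofNat 1, Int.ofNat 1, Int.ofNat 1, Int.negSucc 0, Int.ofNat 1, Int.negSucc 0, Int.negSucc 0, Int.negSucc 0, Int.negSucc 0, Int.negSucc 0, Int.negSucc 0, Int.negSucc 0, Int.negSucc 0, Int.ofNat 1, Int.ofNat 3, Int.negSucc 0, Int.ofNat 1],
  [Int.ofNat 1, Int.ofNat 3, Int.negSucc 0, Int.ofNat 1, Int.negSucc 0, Int.negSucc 0, Int.negSucc 0, Int.negSucc 0, Int.negSucc 0, Int.ofNat 1, Int.ofNat 1, Int.ofNat 1, Int.ofNat 1, Int.negSucc 0, Int.ofNat 1, Int.negSucc 0, Int.negSucc 0, Int.negSucc 0, Int.negSucc 0, Int.negSucc 0, Int.negSucc 0, Int.negSucc 0, Int.negSucc 0, Int.ofNat 1],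
  [Int.ofNat 1, Int.negSucc 0, Int.ofNat 3, Int.ofNat 1, Int.ofNat 1, Int.negSucc 0, Int.ofNat 1, Int.ofNat 1, Int.negSucc 0, Int.ofNat 1, Int.ofNat 1, Int.ofNat 1, Int.ofNat 1, Int.ofNat 1, Int.ofNat 1, Int.negSucc 0, Int.ofNat 1, Int.negSucc 0, Int.negSucc 0, Int.ofNat 1, Int.negSucc 0, Int.ofNat 1, Int.ofNat 1, Int.ofNat 1],
  [Int.negSucc 0, Int.ofNat 3, Int.ofNat 1, Int.ofNat 1, Int.negSucc 0, Int.ofNat 1, Int.ofNat 1, Int.negSucc 0, Int.ofNat 1, Int.ofNat 1, Int.ofNat 1, Int.ofNat 1, Int.ofNat 1, Int.ofNat 1, Int.negSucc 0, Int.ofNat 1, Int.negSucc 0, Int.negSucc 0, Int.ofNat 1, Int.negSucc 0, Int.ofNat 1, Int.ofNat 1, Int.ofNat 1, Int.ofNat 1],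
  [Int.ofNat 1, Int.ofNat 3, Int.negSucc 0, Int.ofNat 1, Int.negSucc 0, Int.ofNat 1, Int.ofNat 1, Int.ofNat 1, Int.ofNat 1, Int.negSucc 0, Int.negSucc 0, Int.negSucc 0, Int.ofNat 1, Int.ofNat 1, Int.negSucc 0, Int.ofNat 1, Int.negSucc 0, Int.negSucc 0, Int.negSucc 0, Int.negSucc 0, Int.ofNat 1, Int.negSucc 0, Int.ofNat 1, Int.ofNat 1]]

set_option maxRecDepth 100000 in
theorem c1et14_chk : pmChk (List.replicate 14 [14, 0, 25, 26]).flatten nxL c1et14M 0 0 = true := by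
  decide +kernel

theorem c1et14_ne : wE letE2 (List.replicate 14 [14, 0, 25, 26]).flatten ≠ 1 ∧ wE letE2 (List.replicate 14 [14, 0, 25, 26]).flatten ≠ negElt :=
  ne_pm_of_chk nxL_mem c1et14_chk

set_option maxRecDepth 100000 in
def c1et15M : List (List ℤ) :=
  [[Int.negSucc 3, Int.ofNat 0, Int.ofNat 0, Int.ofNat 0, Int.ofNat 0, Int.ofNat 0, Int.ofNat 0, Int.ofNat 0, Int.ofNat 0, Int.ofNat 0, Int.ofNat 0, Int.ofNat 0, Int.ofNat 0, Int.ofNat 0, Int.ofNat 0, Int.ofNat 0, Int.ofNat 0, Int.ofNat 0, Int.ofNat 0, Int.ofNat 0, Int.ofNat 0, Int.ofNat 0, Int.ofNat 0, Int.ofNat 4],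
  [Int.ofNat 4, Int.ofNat 0, Int.ofNat 0, Int.ofNat 0, Int.ofNat 0, Int.ofNat 0, Int.ofNat 0, Int.ofNat 0, Int.ofNat 0, Int.ofNat 0, Int.ofNat 0, Int.ofNat 0, Int.ofNat 0, Int.ofNat 0, Int.ofNat 0, Int.ofNat 0, Int.ofNat 0, Int.ofNat 0, Int.ofNat 0, Int.ofNat 0, Int.ofNat 0, Int.ofNat 0, Int.ofNat 0, Int.ofNat 4],
  [Int.ofNat 0, Int.ofNat 4, Int.ofNat 0, Int.ofNat 0, Int.ofNat 0, Int.ofNat 0, Int.ofNat 0, Int.ofNat 0, Int.ofNat 0, Int.ofNat 0, Int.ofNat 0, Int.ofNat 0, Int.ofNat 0, Int.ofNat 0, Int.ofNat 0, Int.ofNat 0, Int.ofNat 0, Int.ofNat 0, Int.ofNat 0, Int.ofNat 0, Int.ofNat 0, Int.ofNat 0, Int.ofNat 0, Int.ofNat 4],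
  [Int.ofNat 4, Int.ofNat 0, Int.ofNat 4, Int.ofNat 0, Int.ofNat 0, Int.ofNat 0, Int.ofNat 0, Int.ofNat 0, Int.ofNat 0, Int.ofNat 0, Int.ofNat 0, Int.ofNat 0, Int.ofNat 0, Int.ofNat 0, Int.ofNat 0, Int.ofNat 0, Int.ofNat 0, Int.ofNat 0, Int.ofNat 0, Int.ofNat 0, Int.ofNat 0, Int.ofNat 0, Int.ofNat 0, Int.ofNat 0],
  [Int.ofNat 0, Int.ofNat 0, Int.ofNat 0, Int.ofNat 0, Int.ofNat 0, Int.ofNat 0, Int.ofNat 0, Int.ofNat 0, Int.ofNat 0, Int.ofNat 0, Int.ofNat 0, Int.ofNat 0, Int.ofNat 0, Int.ofNat 0, Int.ofNat 0, Int.ofNat 0, Int.ofNat 0, Int.ofNat 0, Int.ofNat 0, Int.ofNat 0, Int.ofNat 4, Int.ofNat 0, Int.ofNat 4, Int.ofNat 0],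
  [Int.ofNat 0, Int.ofNat 0, Int.ofNat 0, Int.ofNat 0, Int.negSucc 1, Int.ofNat 0, Int.ofNat 0, Int.ofNat 0, Int.ofNat 0, Int.negSucc 1, Int.negSucc 1, Int.ofNat 0, Int.ofNat 0, Int.negSucc 1, Int.ofNat 0, Int.negSucc 1, Int.negSucc 1, Int.ofNat 0, Int.ofNat 0, Int.ofNat 0, Int.ofNat 2, Int.ofNat 0, Int.ofNat 2, Int.ofNat 0],
  [Int.ofNat 0, Int.ofNat 0, Int.negSucc 1, Int.ofNat 0, Int.ofNat 0, Int.ofNat 0, Int.ofNat 0, Int.negSucc 1, Int.ofNat 0, Int.negSucc 1, Int.ofNat 2, Int.ofNat 0, Int.negSucc 1, Int.negSucc 1, Int.ofNat 2, Int.negSucc 1, Int.ofNat 0, Int.ofNat 0, Int.ofNat 0, Int.ofNat 0, Int.ofNat 0, Int.ofNat 0, Int.ofNat 0, Int.ofNat 0],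
  [Int.negSucc 0, Int.negSucc 0, Int.ofNat 1, Int.negSucc 0, Int.ofNat 1, Int.negSucc 0, Int.ofNat 1, Int.negSucc 0, Int.ofNat 1, Int.negSucc 0, Int.ofNat 3, Int.ofNat 1, Int.negSucc 0, Int.negSucc 0, Int.ofNat 1, Int.negSucc 0, Int.ofNat 1, Int.negSucc 0, Int.ofNat 1, Int.ofNat 1, Int.ofNat 1, Int.ofNat 1, Int.ofNat 1, Int.negSucc 0],
  [Int.negSucc 0, Int.negSucc 0, Int.negSucc 0, Int.negSucc 0, Int.ofNat 1, Int.ofNat 1, Int.negSucc 0, Int.negSucc 0, Int.ofNat 1, Int.ofNat 1, Int.negSucc 2, Int.ofNat 1, Int.negSucc 0, Int.negSucc 0, Int.ofNat 1, Int.ofNat 1, Int.ofNat 1, Int.negSucc 0, Int.negSucc 0, Int.ofNat 1, Int.ofNat 1, Int.ofNat 1, Int.negSucc 0, Int.negSucc 0],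
  [Int.negSucc 2, Int.ofNat 1, Int.ofNat 1, Int.ofNat 1, Int.ofNat 1, Int.negSucc 0, Int.ofNat 1, Int.negSucc 0, Int.ofNat 1, Int.ofNat 1, Int.negSucc 0, Int.negSucc 0, Int.ofNat 1, Int.ofNat 1, Int.negSucc 0, Int.negSucc 0, Int.ofNat 1, Int.negSucc 0, Int.ofNat 1, Int.negSucc 0, Int.negSucc 0, Int.negSucc 0, Int.negSucc 0, Int.negSucc 0],
  [Int.ofNat 3, Int.negSucc 0, Int.negSucc 0, Int.negSucc 0, Int.negSucc 0, Int.negSucc 0, Int.negSucc 0, Int.negSucc 0, Int.negSucc 0, Int.negSucc 0, Int.negSucc 0, Int.negSucc 0, Int.negSucc 0, Int.negSucc 0, Int.negSucc 0, Int.negSucc 0, Int.negSucc 0, Int.negSucc 0, Int.negSucc 0, Int.negSucc 0, Int.negSucc 0, Int.negSucc 0, Int.negSucc 0, Int.negSucc 0],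
  [Int.negSucc 0, Int.negSucc 0, Int.negSucc 0, Int.negSucc 0, Int.negSucc 0, Int.negSucc 0, Int.negSucc 0, Int.negSucc 0, Int.negSucc 0, Int.negSucc 0, Int.negSucc 0, Int.negSucc 0, Int.negSucc 0, Int.negSucc 0, Int.negSucc 0, Int.negSucc 0, Int.negSucc 0, Int.negSucc 0, Int.negSucc 0, Int.negSucc 0, Int.negSucc 0, Int.negSucc 0, Int.negSucc 0, Int.ofNat 3],
  [Int.ofNat 1, Int.negSucc 0, Int.ofNat 1, Int.negSucc 0, Int.negSucc 0, Int.negSucc 0, Int.negSucc 0, Int.ofNat 1, Int.negSucc 0, Int.ofNat 1, Int.ofNat 1, Int.ofNat 1, Int.negSucc 0, Int.negSucc 0, Int.negSucc 0, Int.negSucc 0, Int.negSucc 0, Int.negSucc 0, Int.ofNat 1, Int.negSucc 0, Int.negSucc 0, Int.ofNat 1, Int.negSucc 0, Int.ofNat 3],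
  [Int.negSucc 0, Int.ofNat 1, Int.negSucc 0, Int.ofNat 1, Int.negSucc 0, Int.negSucc 0, Int.negSucc 0, Int.negSucc 0, Int.ofNat 1, Int.negSucc 0, Int.ofNat 1, Int.ofNat 1, Int.ofNat 1, Int.negSucc 0, Int.negSucc 0, Int.negSucc 0, Int.negSucc 0, Int.negSucc 0, Int.negSucc 0, Int.ofNat 1, Int.negSucc 0, Int.negSucc 0, Int.ofNat 1, Int.ofNat 3],
  [Int.ofNat 2, Int.ofNat 0, Int.ofNat 2, Int.ofNat 2, Int.ofNat 0, Int.ofNat 0, Int.ofNat 0, Int.ofNat 0, Int.ofNat 0, Int.ofNat 0, Int.ofNat 2, Int.ofNat 0, Int.ofNat 0, Int.ofNat 0, Int.ofNat 0, Int.ofNat 0, Int.ofNat 0, Int.ofNat 0, Int.negSucc 1, Int.ofNat 2, Int.ofNat 0, Int.ofNat 0, Int.ofNat 2, Int.negSucc 1],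
  [Int.ofNat 2, Int.ofNat 0, Int.ofNat 0, Int.ofNat 0, Int.ofNat 0, Int.ofNat 0, Int.ofNat 0, Int.ofNat 2, Int.ofNat 0, Int.ofNat 0, Int.ofNat 0, Int.ofNat 0, Int.ofNat 0, Int.ofNat 0, Int.ofNat 0, Int.negSucc 1, Int.ofNat 2, Int.ofNat 0, Int.ofNat 0, Int.ofNat 2, Int.ofNat 2, Int.ofNat 0, Int.ofNat 2, Int.negSucc 1],
  [Int.negSucc 1, Int.ofNat 0, Int.ofNat 0, Int.ofNat 0, Int.negSucc 1, Int.ofNat 0, Int.negSucc 1, Int.ofNat 0, Int.ofNat 0, Int.ofNat 0, Int.ofNat 0, Int.ofNat 0, Int.ofNat 0, Int.negSucc 1, Int.ofNat 0, Int.negSucc 1, Int.ofNat 0, Int.ofNat 0, Int.ofNat 0, Int.ofNat 0, Int.ofNat 2, Int.negSucc 1, Int.ofNat 0, Int.ofNat 2],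
  [Int.negSucc 1, Int.negSucc 1, Int.negSucc 1, Int.ofNat 0, Int.ofNat 0, Int.ofNat 0, Int.ofNat 0, Int.ofNat 0, Int.ofNat 0, Int.negSucc 1, Int.ofNat 2, Int.ofNat 0, Int.ofNat 0, Int.ofNat 0, Int.ofNat 0, Int.negSucc 1, Int.ofNat 0, Int.ofNat 0, Int.ofNat 0, Int.ofNat 0, Int.negSucc 1, Int.ofNat 0, Int.ofNat 0, Int.ofNat 2],
  [Int.ofNat 0, Int.ofNat 0, Int.ofNat 0, Int.ofNat 0, Int.ofNat 0, Int.ofNat 0, Int.ofNat 0, Int.ofNat 0, Int.ofNat 0, Int.ofNat 0, Int.ofNat 4, Int.ofNat 0, Int.ofNat 0, Int.ofNat 0, Int.ofNat 0, Int.ofNat 0, Int.ofNat 0, Int.ofNat 0, Int.ofNat 0, Int.ofNat 0, Int.ofNat 0, Int.ofNat 0, Int.ofNat 0, Int.negSucc 3],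
  [Int.ofNat 0, Int.ofNat 0, Int.ofNat 0, Int.ofNat 0, Int.ofNat 0, Int.ofNat 0, Int.ofNat 0, Int.ofNat 0, Int.ofNat 0, Int.ofNat 0, Int.negSucc 3, Int.ofNat 0, Int.ofNat 0, Int.ofNat 0, Int.ofNat 0, Int.ofNat 0, Int.ofNat 0, Int.ofNat 0, Int.ofNat 0, Int.ofNat 0, Int.ofNat 0, Int.ofNat 0, Int.ofNat 0, Int.negSucc 3],
  [Int.ofNat 0, Int.ofNat 0, Int.negSucc 3, Int.ofNat 0, Int.ofNat 0, Int.ofNat 0, Int.ofNat 0, Int.ofNat 0, Int.ofNat 0, Int.ofNat 0, Int.ofNat 0, Int.ofNat 0, Int.ofNat 0, Int.ofNat 0, Int.ofNat 0, Int.ofNat 0, Int.ofNat 0, Int.ofNat 0, Int.ofNat 0, Int.ofNat 0, Int.ofNat 0, Int.ofNat 0, Int.ofNat 0, Int.negSucc 3],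
  [Int.ofNat 0, Int.ofNat 0, Int.ofNat 4, Int.ofNat 0, Int.ofNat 0, Int.ofNat 0, Int.ofNat 0, Int.ofNat 0, Int.ofNat 0, Int.ofNat 0, Int.ofNat 0, Int.ofNat 0, Int.ofNat 0, Int.ofNat 0, Int.ofNat 0, Int.ofNat 0, Int.ofNat 0, Int.ofNat 0, Int.ofNat 0, Int.ofNat 0, Int.ofNat 0, Int.ofNat 0, Int.ofNat 0, Int.negSucc 3],
  [Int.ofNat 0, Int.ofNat 0, Int.negSucc 3, Int.ofNat 0, Int.ofNat 0, Int.ofNat 0, Int.ofNat 0, Int.ofNat 0, Int.ofNat 0, Int.ofNat 0, Int.ofNat 0, Int.ofNat 0, Int.ofNat 0, Int.ofNat 0, Int.ofNat 0, Int.ofNat 0, Int.ofNat 0, Int.ofNat 0, Int.ofNat 0, Int.ofNat 0, Int.ofNat 0, Int.ofNat 0, Int.ofNat 0, Int.ofNat 4],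
  [Int.ofNat 0, Int.ofNat 0, Int.ofNat 0, Int.ofNat 0, Int.negSucc 3, Int.ofNat 0, Int.ofNat 0, Int.ofNat 0, Int.ofNat 0, Int.ofNat 0, Int.ofNat 0, Int.ofNat 0, Int.ofNat 0, Int.ofNat 0, Int.ofNat 0, Int.ofNat 0, Int.ofNat 0, Int.ofNat 0, Int.ofNat 0, Int.ofNat 0, Int.ofNat 0, Int.ofNat 0, Int.ofNat 0, Int.ofNat 4],
  [Int.ofNat 2, Int.ofNat 2, Int.ofNat 2, Int.ofNat 0, Int.negSucc 1, Int.ofNat 0, Int.ofNat 0, Int.ofNat 0, Int.ofNat 0, Int.ofNat 0, Int.ofNat 0, Int.ofNat 0, Int.ofNat 0, Int.ofNat 2, Int.ofNat 0, Int.ofNat 0, Int.ofNat 2, Int.ofNat 0, Int.ofNat 0, Int.ofNat 0, Int.ofNat 0, Int.ofNat 0, Int.ofNat 2, Int.negSucc 1],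
  [Int.ofNat 0, Int.ofNat 0, Int.ofNat 2, Int.ofNat 2, Int.ofNat 2, Int.ofNat 2, Int.ofNat 0, Int.negSucc 1, Int.ofNat 0, Int.ofNat 0, Int.ofNat 0, Int.ofNat 0, Int.ofNat 0, Int.ofNat 0, Int.ofNat 0, Int.ofNat 0, Int.ofNat 2, Int.ofNat 0, Int.ofNat 0, Int.ofNat 2, Int.ofNat 0, Int.ofNat 0, Int.ofNat 0, Int.negSucc 1],
  [Int.ofNat 0, Int.ofNat 0, Int.negSucc 1, Int.ofNat 0, Int.ofNat 0, Int.ofNat 0, Int.ofNat 0, Int.negSucc 1, Int.ofNat 0, Int.ofNat 0, Int.ofNat 0, Int.ofNat 0, Int.ofNat 0, Int.negSucc 1, Int.negSucc 1, Int.ofNat 0, Int.ofNat 0, Int.negSucc 1, Int.ofNat 0, Int.ofNat 2, Int.ofNat 0, Int.ofNat 0, Int.negSucc 1, Int.ofNat 2],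
  [Int.ofNat 0, Int.negSucc 1, Int.ofNat 0, Int.ofNat 0, Int.ofNat 0, Int.ofNat 0, Int.negSucc 1, Int.ofNat 0, Int.ofNat 0, Int.ofNat 0, Int.ofNat 0, Int.ofNat 0, Int.negSucc 1, Int.negSucc 1, Int.ofNat 0, Int.ofNat 0, Int.negSucc 1, Int.ofNat 0, Int.ofNat 2, Int.ofNat 0, Int.ofNat 0, Int.negSucc 1, Int.ofNat 0, Int.ofNat 2],
  [Int.ofNat 0, Int.negSucc 1, Int.ofNat 0, Int.ofNat 0, Int.ofNat 0, Int.ofNat 0, Int.negSucc 1, Int.ofNat 0, Int.ofNat 0, Int.ofNat 0, Int.ofNat 0, Int.ofNat 0, Int.negSucc 1, Int.negSucc 1, Int.ofNat 0, Int.ofNat 0, Int.negSucc 1, Int.ofNat 0, Int.negSucc 1, Int.ofNat 0, Int.ofNat 0, Int.ofNat 2, Int.ofNat 0, Int.ofNat 2],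
  [Int.ofNat 0, Int.ofNat 0, Int.negSucc 1, Int.ofNat 0, Int.negSucc 1, Int.ofNat 0, Int.ofNat 0, Int.ofNat 0, Int.ofNat 0, Int.negSucc 1, Int.ofNat 2, Int.ofNat 0, Int.negSucc 1, Int.ofNat 0, Int.ofNat 0, Int.ofNat 0, Int.negSucc 1, Int.ofNat 0, Int.negSucc 1, Int.ofNat 0, Int.ofNat 0, Int.ofNat 0, Int.ofNat 0, Int.ofNat 2],
  [Int.ofNat 0, Int.ofNat 0, Int.ofNat 2, Int.ofNat 0, Int.negSucc 1, Int.ofNat 0, Int.ofNat 0, Int.ofNat 0, Int.ofNat 0, Int.ofNat 2, Int.negSucc 1, Int.ofNat 0, Int.negSucc 1, Int.ofNat 0, Int.ofNat 0, Int.ofNat 0, Int.negSucc 1, Int.ofNat 0, Int.ofNat 2, Int.ofNat 0, Int.ofNat 0, Int.ofNat 0, Int.ofNat 0, Int.ofNat 2],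
  [Int.ofNat 0, Int.ofNat 0, Int.ofNat 0, Int.ofNat 2, Int.ofNat 0, Int.negSucc 1, Int.ofNat 0, Int.ofNat 0, Int.ofNat 0, Int.ofNat 0, Int.ofNat 2, Int.negSucc 1, Int.ofNat 0, Int.negSucc 1, Int.ofNat 0, Int.ofNat 0, Int.ofNat 0, Int.negSucc 1, Int.ofNat 0, Int.ofNat 2, Int.ofNat 0, Int.ofNat 0, Int.ofNat 0, Int.ofNat 2],
  [Int.ofNat 1, Int.ofNat 1, Int.ofNat 1, Int.ofNat 3, Int.ofNat 1, Int.negSucc 0, Int.negSucc 0, Int.negSucc 0, Int.ofNat 1, Int.negSucc 0, Int.ofNat 1, Int.negSucc 0, Int.ofNat 1, Int.negSucc 0, Int.ofNat 1, Int.negSucc 0, Int.ofNat 1, Int.negSucc 0, Int.ofNat 1, Int.ofNat 1, Int.negSucc 0, Int.negSucc 0, Int.ofNat 1, Int.negSucc 0],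
  [Int.ofNat 3, Int.ofNat 1, Int.negSucc 0, Int.negSucc 0, Int.negSucc 0, Int.ofNat 1, Int.negSucc 0, Int.ofNat 1, Int.negSucc 0, Int.ofNat 1, Int.negSucc 0, Int.ofNat 1, Int.negSucc 0, Int.ofNat 1, Int.negSucc 0, Int.ofNat 1, Int.ofNat 1, Int.negSucc 0, Int.negSucc 0, Int.ofNat 1, Int.ofNat 1, Int.ofNat 1, Int.ofNat 1, Int.negSucc 0],
  [Int.negSucc 1, Int.ofNat 0, Int.ofNat 2, Int.ofNat 0, Int.negSucc 1, Int.ofNat 2, Int.negSucc 1, Int.ofNat 0, Int.ofNat 0, Int.ofNat 0, Int.negSucc 1, Int.ofNat 2, Int.ofNat 0, Int.ofNat 0, Int.ofNat 0, Int.ofNat 0, Int.ofNat 0, Int.ofNat 0, Int.ofNat 0, Int.ofNat 0, Int.ofNat 0, Int.ofNat 0, Int.ofNat 0, Int.ofNat 2],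
  [Int.negSucc 1, Int.negSucc 1, Int.negSucc 1, Int.ofNat 0, Int.ofNat 0, Int.ofNat 0, Int.ofNat 2, Int.negSucc 1, Int.ofNat 0, Int.ofNat 0, Int.ofNat 0, Int.ofNat 0, Int.ofNat 0, Int.ofNat 0, Int.ofNat 0, Int.ofNat 0, Int.ofNat 0, Int.ofNat 0, Int.ofNat 0, Int.ofNat 2, Int.ofNat 0, Int.ofNat 2, Int.ofNat 0, Int.ofNat 2],
  [Int.ofNat 0, Int.ofNat 0, Int.ofNat 0, Int.ofNat 0, Int.ofNat 0, Int.ofNat 0, Int.ofNat 0, Int.negSucc 3, Int.ofNat 0, Int.ofNat 0, Int.ofNat 0, Int.ofNat 0, Int.ofNat 0, Int.ofNat 0, Int.ofNat 0, Int.ofNat 0, Int.ofNat 0, Int.ofNat 0, Int.ofNat 0, Int.ofNat 0, Int.ofNat 0, Int.ofNat 0, Int.ofNat 0, Int.negSucc 3],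
  [Int.ofNat 0, Int.ofNat 0, Int.ofNat 0, Int.ofNat 0, Int.ofNat 0, Int.ofNat 0, Int.ofNat 0, Int.negSucc 3, Int.ofNat 0, Int.ofNat 0, Int.ofNat 0, Int.ofNat 0, Int.ofNat 0, Int.ofNat 0, Int.ofNat 0, Int.ofNat 0, Int.ofNat 0, Int.ofNat 0, Int.ofNat 0, Int.ofNat 0, Int.ofNat 0, Int.ofNat 0, Int.ofNat 0, Int.negSucc 3],
  [Int.ofNat 0, Int.ofNat 0, Int.ofNat 0, Int.ofNat 0, Int.ofNat 0, Int.ofNat 0, Int.ofNat 0, Int.ofNat 0, Int.ofNat 0, Int.ofNat 0, Int.ofNat 0, Int.negSucc 3, Int.ofNat 0, Int.ofNat 0, Int.ofNat 0, Int.ofNat 0, Int.ofNat 0, Int.ofNat 0, Int.ofNat 0, Int.ofNat 0, Int.ofNat 0, Int.ofNat 0, Int.ofNat 0, Int.negSucc 3],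
  [Int.ofNat 0, Int.ofNat 0, Int.ofNat 0, Int.ofNat 0, Int.ofNat 0, Int.ofNat 0, Int.ofNat 0, Int.ofNat 0, Int.ofNat 0, Int.ofNat 0, Int.ofNat 0, Int.negSucc 3, Int.ofNat 0, Int.ofNat 0, Int.ofNat 0, Int.ofNat 0, Int.ofNat 0, Int.ofNat 0, Int.ofNat 0, Int.ofNat 0, Int.ofNat 0, Int.ofNat 0, Int.ofNat 0, Int.negSucc 3],
  [Int.negSucc 3, Int.ofNat 0, Int.negSucc 3, Int.ofNat 0, Int.ofNat 0, Int.ofNat 0, Int.ofNat 0, Int.ofNat 0, Int.ofNat 0, Int.ofNat 0, Int.ofNat 0, Int.ofNat 0, Int.ofNat 0, Int.ofNat 0, Int.ofNat 0, Int.ofNat 0, Int.ofNat 0, Int.ofNat 0, Int.ofNat 0, Int.ofNat 0, Int.ofNat 0, Int.ofNat 0, Int.ofNat 0, Int.ofNat 0],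
  [Int.ofNat 4, Int.ofNat 0, Int.ofNat 4, Int.ofNat 0, Int.ofNat 0, Int.ofNat 0, Int.ofNat 0, Int.ofNat 0, Int.ofNat 0, Int.ofNat 0, Int.ofNat 0, Int.ofNat 0, Int.ofNat 0, Int.ofNat 0, Int.ofNat 0, Int.ofNat 0, Int.ofNat 0, Int.ofNat 0, Int.ofNat 0, Int.ofNat 0, Int.ofNat 0, Int.ofNat 0, Int.ofNat 0, Int.ofNat 0],
  [Int.ofNat 0, Int.ofNat 4, Int.ofNat 0, Int.ofNat 4, Int.ofNat 0, Int.ofNat 0, Int.ofNat 0, Int.ofNat 0, Int.ofNat 0, Int.ofNat 0, Int.ofNat 0, Int.ofNat 0, Int.ofNat 0, Int.ofNat 0, Int.ofNat 0, Int.ofNat 0, Int.ofNat 0, Int.ofNat 0, Int.ofNat 0, Int.ofNat 0, Int.ofNat 0, Int.ofNat 0, Int.ofNat 0, Int.ofNat 0],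
  [Int.ofNat 2, Int.negSucc 1, Int.ofNat 2, Int.ofNat 2, Int.ofNat 0, Int.negSucc 1, Int.ofNat 0, Int.ofNat 0, Int.ofNat 0, Int.ofNat 0, Int.ofNat 0, Int.ofNat 0, Int.ofNat 0, Int.ofNat 0, Int.negSucc 1, Int.ofNat 0, Int.ofNat 0, Int.negSucc 1, Int.ofNat 0, Int.ofNat 0, Int.ofNat 0, Int.ofNat 0, Int.ofNat 0, Int.ofNat 2],
  [Int.ofNat 2, Int.ofNat 0, Int.negSucc 1, Int.ofNat 0, Int.ofNat 0, Int.ofNat 0, Int.ofNat 0, Int.ofNat 0, Int.ofNat 0, Int.ofNat 0, Int.ofNat 0, Int.negSucc 1, Int.ofNat 0, Int.ofNat 0, Int.negSucc 1, Int.ofNat 0, Int.ofNat 0, Int.ofNat 0, Int.ofNat 0, Int.ofNat 0, Int.ofNat 2, Int.negSucc 1, Int.ofNat 2, Int.ofNat 2],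
  [Int.negSucc 0, Int.ofNat 1, Int.ofNat 3, Int.ofNat 1, Int.negSucc 0, Int.ofNat 1, Int.ofNat 1, Int.ofNat 1, Int.ofNat 1, Int.negSucc 0, Int.negSucc 0, Int.negSucc 0, Int.ofNat 1, Int.negSucc 0, Int.negSucc 0, Int.negSucc 0, Int.negSucc 0, Int.ofNat 1, Int.ofNat 1, Int.ofNat 1, Int.ofNat 1, Int.negSucc 0, Int.ofNat 1, Int.negSucc 0],
  [Int.negSucc 0, Int.ofNat 1, Int.negSucc 0, Int.ofNat 1, Int.ofNat 1, Int.ofNat 1, Int.ofNat 3, Int.negSucc 0, Int.ofNat 1, Int.negSucc 0, Int.ofNat 1, Int.ofNat 1, Int.negSucc 0, Int.negSucc 0, Int.ofNat 1, Int.negSucc 0, Int.ofNat 1, Int.negSucc 0, Int.ofNat 1, Int.negSucc 0, Int.negSucc 0, Int.ofNat 1, Int.ofNat 1, Int.negSucc 0],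
  [Int.ofNat 0, Int.negSucc 1, Int.ofNat 0, Int.ofNat 0, Int.ofNat 0, Int.ofNat 0, Int.ofNat 2, Int.negSucc 1, Int.ofNat 0, Int.ofNat 0, Int.ofNat 2, Int.ofNat 0, Int.negSucc 1, Int.negSucc 1, Int.ofNat 0, Int.ofNat 0, Int.ofNat 0, Int.negSucc 1, Int.ofNat 0, Int.negSucc 1, Int.ofNat 0, Int.ofNat 0, Int.ofNat 0, Int.ofNat 0],
  [Int.ofNat 0, Int.negSucc 1, Int.ofNat 0, Int.ofNat 0, Int.ofNat 0, Int.ofNat 0, Int.negSucc 1, Int.negSucc 1, Int.ofNat 0, Int.ofNat 0, Int.negSucc 1, Int.ofNat 0, Int.negSucc 1, Int.negSucc 1, Int.ofNat 0, Int.ofNat 0, Int.ofNat 0, Int.negSucc 1, Int.ofNat 0, Int.negSucc 1, Int.ofNat 0, Int.ofNat 0, Int.ofNat 0, Int.ofNat 0],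
  [Int.ofNat 0, Int.ofNat 0, Int.negSucc 1, Int.negSucc 1, Int.negSucc 1, Int.ofNat 0, Int.ofNat 0, Int.ofNat 0, Int.ofNat 0, Int.ofNat 0, Int.ofNat 0, Int.ofNat 0, Int.negSucc 1, Int.negSucc 1, Int.ofNat 0, Int.negSucc 1, Int.negSucc 1, Int.ofNat 0, Int.ofNat 0, Int.ofNat 0, Int.ofNat 0, Int.negSucc 1, Int.ofNat 0, Int.ofNat 0],
  [Int.ofNat 0, Int.ofNat 0, Int.ofNat 2, Int.negSucc 1, Int.negSucc 1, Int.ofNat 0, Int.ofNat 0, Int.ofNat 0, Int.ofNat 0, Int.ofNat 0, Int.ofNat 0, Int.ofNat 0, Int.negSucc 1, Int.negSucc 1, Int.ofNat 0, Int.ofNat 2, Int.negSucc 1, Int.ofNat 0, Int.ofNat 0, Int.ofNat 0, Int.ofNat 0, Int.negSucc 1, Int.ofNat 0, Int.ofNat 0],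
  [Int.ofNat 1, Int.ofNat 1, Int.negSucc 0, Int.negSucc 0, Int.ofNat 1, Int.ofNat 1, Int.ofNat 1, Int.ofNat 1, Int.ofNat 1, Int.negSucc 0, Int.negSucc 0, Int.ofNat 1, Int.negSucc 0, Int.ofNat 1, Int.ofNat 1, Int.ofNat 1, Int.ofNat 1, Int.ofNat 1, Int.ofNat 1, Int.ofNat 1, Int.negSucc 0, Int.negSucc 0, Int.ofNat 3, Int.ofNat 1],
  [Int.ofNat 1, Int.ofNat 1, Int.ofNat 1, Int.negSucc 0, Int.negSucc 0, Int.negSucc 0, Int.ofNat 1, Int.ofNat 1, Int.ofNat 1, Int.negSucc 0, Int.ofNat 1, Int.ofNat 1, Int.ofNat 1, Int.negSucc 0, Int.ofNat 1, Int.ofNat 1, Int.ofNat 1, Int.ofNat 1, Int.ofNat 1, Int.ofNat 3, Int.negSucc 0, Int.negSucc 0, Int.ofNat 1, Int.ofNat 1],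
  [Int.ofNat 1, Int.ofNat 1, Int.ofNat 1, Int.negSucc 0, Int.negSucc 0, Int.negSucc 0, Int.negSucc 0, Int.negSucc 0, Int.negSucc 0, Int.negSucc 0, Int.ofNat 1, Int.negSucc 0, Int.negSucc 0, Int.negSucc 0, Int.ofNat 1, Int.ofNat 1, Int.ofNat 1, Int.ofNat 1, Int.negSucc 0, Int.ofNat 1, Int.negSucc 0, Int.negSucc 2, Int.ofNat 1, Int.ofNat 1],
  [Int.negSucc 0, Int.negSucc 2, Int.ofNat 1, Int.ofNat 1, Int.ofNat 1, Int.ofNat 1, Int.negSucc 0, Int.negSucc 0, Int.negSucc 0, Int.negSucc 0, Int.negSucc 0, Int.negSucc 0, Int.negSucc 0, Int.ofNat 1, Int.negSucc 0, Int.negSucc 0, Int.negSucc 0, Int.ofNat 1, Int.ofNat 1, Int.ofNat 1, Int.ofNat 1, Int.negSucc 0, Int.ofNat 1, Int.ofNat 1],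
  [Int.ofNat 0, Int.ofNat 2, Int.negSucc 1, Int.ofNat 0, Int.ofNat 0, Int.ofNat 0, Int.ofNat 0, Int.ofNat 0, Int.ofNat 0, Int.ofNat 0, Int.ofNat 0, Int.ofNat 0, Int.ofNat 0, Int.ofNat 0, Int.negSucc 1, Int.ofNat 0, Int.negSucc 1, Int.ofNat 0, Int.ofNat 2, Int.ofNat 2, Int.ofNat 2, Int.ofNat 0, Int.ofNat 0, Int.negSucc 1],
  [Int.ofNat 2, Int.negSucc 1, Int.ofNat 0, Int.ofNat 0, Int.ofNat 0, Int.ofNat 0, Int.ofNat 0, Int.ofNat 0, Int.ofNat 0, Int.ofNat 0, Int.ofNat 0, Int.ofNat 0, Int.ofNat 0, Int.negSucc 1, Int.ofNat 0, Int.negSucc 1, Int.ofNat 0, Int.ofNat 2, Int.ofNat 2, Int.ofNat 2, Int.ofNat 0, Int.ofNat 0, Int.ofNat 0, Int.negSucc 1],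
  [Int.negSucc 1, Int.negSucc 1, Int.ofNat 0, Int.ofNat 0, Int.ofNat 0, Int.ofNat 0, Int.ofNat 0, Int.ofNat 0, Int.ofNat 0, Int.ofNat 0, Int.ofNat 0, Int.ofNat 0, Int.ofNat 0, Int.negSucc 1, Int.ofNat 0, Int.negSucc 1, Int.ofNat 0, Int.ofNat 2, Int.negSucc 1, Int.ofNat 2, Int.ofNat 0, Int.ofNat 0, Int.ofNat 0, Int.negSucc 1],
  [Int.negSucc 1, Int.ofNat 0, Int.negSucc 1, Int.ofNat 0, Int.negSucc 1, Int.ofNat 0, Int.ofNat 0, Int.ofNat 0, Int.ofNat 0, Int.ofNat 0, Int.ofNat 0, Int.ofNat 0, Int.negSucc 1, Int.ofNat 0, Int.ofNat 2, Int.negSucc 1, Int.ofNat 0, Int.ofNat 0, Int.ofNat 0, Int.ofNat 2, Int.ofNat 0, Int.ofNat 0, Int.ofNat 0, Int.negSucc 1],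
  [Int.ofNat 2, Int.ofNat 0, Int.ofNat 2, Int.ofNat 0, Int.negSucc 1, Int.ofNat 0, Int.ofNat 0, Int.ofNat 0, Int.ofNat 0, Int.ofNat 0, Int.ofNat 0, Int.ofNat 0, Int.negSucc 1, Int.ofNat 0, Int.ofNat 2, Int.negSucc 1, Int.ofNat 0, Int.ofNat 0, Int.ofNat 0, Int.ofNat 2, Int.ofNat 0, Int.ofNat 0, Int.ofNat 0, Int.negSucc 1],
  [Int.ofNat 0, Int.ofNat 2, Int.ofNat 0, Int.ofNat 2, Int.ofNat 0, Int.negSucc 1, Int.ofNat 0, Int.ofNat 0, Int.ofNat 0, Int.ofNat 0, Int.ofNat 0, Int.ofNat 0, Int.ofNat 0, Int.negSucc 1, Int.ofNat 0, Int.ofNat 2, Int.negSucc 1, Int.ofNat 0, Int.ofNat 0, Int.ofNat 0, Int.ofNat 2, Int.ofNat 0, Int.ofNat 0, Int.negSucc 1],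
  [Int.ofNat 0, Int.negSucc 1, Int.ofNat 0, Int.ofNat 2, Int.ofNat 2, Int.negSucc 1, Int.ofNat 0, Int.ofNat 0, Int.ofNat 0, Int.negSucc 1, Int.negSucc 1, Int.ofNat 0, Int.ofNat 0, Int.ofNat 0, Int.ofNat 0, Int.ofNat 0, Int.ofNat 0, Int.ofNat 0, Int.ofNat 0, Int.ofNat 0, Int.ofNat 0, Int.ofNat 0, Int.ofNat 2, Int.ofNat 2],
  [Int.ofNat 2, Int.ofNat 2, Int.negSucc 1, Int.ofNat 0, Int.ofNat 0, Int.ofNat 0, Int.negSucc 1, Int.negSucc 1, Int.ofNat 0, Int.ofNat 0, Int.ofNat 0, Int.ofNat 0, Int.ofNat 0, Int.ofNat 0, Int.ofNat 0, Int.ofNat 0, Int.ofNat 0, Int.ofNat 0, Int.ofNat 0, Int.ofNat 2, Int.ofNat 0, Int.negSucc 1, Int.ofNat 0, Int.ofNat 2],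
  [Int.ofNat 0, Int.ofNat 0, Int.ofNat 4, Int.ofNat 0, Int.ofNat 0, Int.ofNat 0, Int.ofNat 0, Int.ofNat 0, Int.ofNat 0, Int.ofNat 0, Int.ofNat 0, Int.ofNat 0, Int.ofNat 0, Int.ofNat 0, Int.ofNat 0, Int.ofNat 0, Int.ofNat 0, Int.ofNat 0, Int.ofNat 0, Int.ofNat 4, Int.ofNat 0, Int.ofNat 0, Int.ofNat 0, Int.ofNat 0],
  [Int.ofNat 0, Int.ofNat 0, Int.ofNat 0, Int.ofNat 0, Int.ofNat 0, Int.ofNat 0, Int.ofNat 4, Int.ofNat 0, Int.ofNat 0, Int.ofNat 0, Int.ofNat 0, Int.ofNat 0, Int.ofNat 0, Int.ofNat 0, Int.ofNat 0, Int.ofNat 0, Int.ofNat 0, Int.ofNat 0, Int.ofNat 0, Int.ofNat 0, Int.ofNat 0, Int.ofNat 0, Int.ofNat 4, Int.ofNat 0],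
  [Int.ofNat 0, Int.ofNat 0, Int.ofNat 0, Int.ofNat 0, Int.negSucc 1, Int.ofNat 0, Int.ofNat 2, Int.negSucc 1, Int.ofNat 0, Int.ofNat 0, Int.ofNat 0, Int.ofNat 0, Int.ofNat 0, Int.negSucc 1, Int.ofNat 0, Int.ofNat 0, Int.negSucc 1, Int.ofNat 0, Int.ofNat 0, Int.negSucc 1, Int.ofNat 0, Int.negSucc 1, Int.ofNat 2, Int.ofNat 0],
  [Int.ofNat 0, Int.ofNat 0, Int.ofNat 0, Int.ofNat 0, Int.negSucc 1, Int.ofNat 0, Int.negSucc 1, Int.negSucc 1, Int.ofNat 0, Int.ofNat 0, Int.ofNat 0, Int.ofNat 0, Int.ofNat 0, Int.negSucc 1, Int.ofNat 0, Int.ofNat 0, Int.negSucc 1, Int.ofNat 0, Int.ofNat 0, Int.negSucc 1, Int.ofNat 0, Int.negSucc 1, Int.negSucc 1, Int.ofNat 0],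
  [Int.ofNat 0, Int.negSucc 1, Int.ofNat 0, Int.ofNat 0, Int.ofNat 0, Int.negSucc 1, Int.negSucc 1, Int.ofNat 0, Int.ofNat 0, Int.ofNat 0, Int.negSucc 1, Int.negSucc 1, Int.ofNat 0, Int.negSucc 1, Int.ofNat 0, Int.ofNat 0, Int.negSucc 1, Int.ofNat 0, Int.ofNat 0, Int.ofNat 0, Int.ofNat 0, Int.ofNat 0, Int.negSucc 1, Int.ofNat 0],
  [Int.ofNat 0, Int.ofNat 2, Int.ofNat 0, Int.ofNat 0, Int.ofNat 0, Int.negSucc 1, Int.ofNat 2, Int.ofNat 0, Int.ofNat 0, Int.ofNat 0, Int.negSucc 1, Int.negSucc 1, Int.ofNat 0, Int.ofNat 2, Int.ofNat 0, Int.ofNat 0, Int.ofNat 2, Int.ofNat 0, Int.ofNat 0, Int.ofNat 0, Int.ofNat 0, Int.ofNat 0, Int.negSucc 1, Int.ofNat 0],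
  [Int.ofNat 0, Int.negSucc 1, Int.negSucc 1, Int.ofNat 0, Int.ofNat 0, Int.ofNat 0, Int.ofNat 0, Int.ofNat 2, Int.ofNat 0, Int.negSucc 1, Int.ofNat 2, Int.ofNat 0, Int.ofNat 0, Int.ofNat 0, Int.ofNat 0, Int.ofNat 0, Int.negSucc 1, Int.ofNat 0, Int.ofNat 0, Int.ofNat 2, Int.ofNat 0, Int.ofNat 0, Int.ofNat 2, Int.ofNat 0],
  [Int.ofNat 0, Int.negSucc 1, Int.ofNat 2, Int.ofNat 0, Int.ofNat 0, Int.ofNat 0, Int.ofNat 0, Int.negSucc 1, Int.ofNat 0, Int.ofNat 2, Int.negSucc 1, Int.ofNat 0, Int.ofNat 0, Int.ofNat 0, Int.ofNat 0, Int.ofNat 0, Int.negSucc 1, Int.ofNat 0, Int.ofNat 0, Int.ofNat 2, Int.ofNat 0, Int.ofNat 0, Int.ofNat 2, Int.ofNat 0],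
  [Int.ofNat 2, Int.ofNat 0, Int.negSucc 1, Int.ofNat 2, Int.ofNat 0, Int.ofNat 0, Int.ofNat 0, Int.ofNat 0, Int.negSucc 1, Int.ofNat 0, Int.ofNat 2, Int.negSucc 1, Int.ofNat 0, Int.ofNat 0, Int.ofNat 0, Int.ofNat 0, Int.ofNat 0, Int.negSucc 1, Int.ofNat 0, Int.ofNat 0, Int.ofNat 2, Int.ofNat 0, Int.ofNat 0, Int.ofNat 0],
  [Int.negSucc 1, Int.ofNat 0, Int.ofNat 2, Int.ofNat 2, Int.ofNat 0, Int.ofNat 0, Int.ofNat 0, Int.ofNat 0, Int.ofNat 0, Int.negSucc 1, Int.ofNat 0, Int.ofNat 0, Int.ofNat 2, Int.ofNat 0, Int.ofNat 0, Int.negSucc 1, Int.ofNat 0, Int.negSucc 1, Int.ofNat 2, Int.ofNat 0, Int.ofNat 0, Int.ofNat 0, Int.ofNat 0, Int.ofNat 0],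
  [Int.ofNat 2, Int.ofNat 0, Int.ofNat 0, Int.ofNat 0, Int.ofNat 0, Int.ofNat 0, Int.negSucc 1, Int.ofNat 0, Int.ofNat 0, Int.ofNat 2, Int.ofNat 0, Int.ofNat 0, Int.negSucc 1, Int.ofNat 0, Int.negSucc 1, Int.ofNat 2, Int.ofNat 0, Int.ofNat 0, Int.ofNat 0, Int.ofNat 0, Int.negSucc 1, Int.ofNat 0, Int.ofNat 2, Int.ofNat 0],
  [Int.negSucc 0, Int.ofNat 1, Int.ofNat 1, Int.ofNat 1, Int.negSucc 0, Int.ofNat 1, Int.negSucc 0, Int.ofNat 1, Int.ofNat 1, Int.ofNat 1, Int.negSucc 0, Int.ofNat 1, Int.negSucc 0, Int.negSucc 0, Int.negSucc 0, Int.ofNat 1, Int.negSucc 0, Int.ofNat 1, Int.ofNat 1, Int.ofNat 1, Int.negSucc 2, Int.ofNat 1, Int.ofNat 1, Int.ofNat 1],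
  [Int.negSucc 0, Int.negSucc 0, Int.negSucc 0, Int.ofNat 1, Int.ofNat 1, Int.ofNat 1, Int.ofNat 1, Int.negSucc 0, Int.negSucc 0, Int.negSucc 0, Int.negSucc 2, Int.ofNat 1, Int.ofNat 1, Int.negSucc 0, Int.ofNat 1, Int.ofNat 1, Int.ofNat 1, Int.negSucc 0, Int.ofNat 1, Int.ofNat 1, Int.ofNat 1, Int.ofNat 1, Int.ofNat 1, Int.ofNat 1],
  [Int.ofNat 0, Int.ofNat 0, Int.ofNat 0, Int.ofNat 0, Int.ofNat 0, Int.ofNat 0, Int.ofNat 0, Int.negSucc 1, Int.negSucc 1, Int.ofNat 0, Int.negSucc 1, Int.ofNat 0, Int.ofNat 0, Int.negSucc 1, Int.ofNat 0, Int.ofNat 2, Int.ofNat 0, Int.negSucc 1, Int.ofNat 0, Int.ofNat 0, Int.ofNat 2, Int.ofNat 0, Int.ofNat 0, Int.negSucc 1],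
  [Int.ofNat 0, Int.ofNat 0, Int.ofNat 0, Int.ofNat 0, Int.ofNat 0, Int.ofNat 0, Int.ofNat 0, Int.negSucc 1, Int.negSucc 1, Int.ofNat 0, Int.ofNat 2, Int.ofNat 0, Int.ofNat 0, Int.negSucc 1, Int.ofNat 0, Int.negSucc 1, Int.ofNat 0, Int.negSucc 1, Int.ofNat 0, Int.ofNat 0, Int.ofNat 2, Int.ofNat 0, Int.ofNat 0, Int.negSucc 1],
  [Int.ofNat 0, Int.ofNat 0, Int.ofNat 2, Int.negSucc 1, Int.ofNat 0, Int.negSucc 1, Int.ofNat 2, Int.ofNat 0, Int.ofNat 0, Int.ofNat 0, Int.ofNat 0, Int.ofNat 0, Int.ofNat 0, Int.negSucc 1, Int.ofNat 0, Int.ofNat 0, Int.ofNat 0, Int.ofNat 0, Int.ofNat 0, Int.ofNat 0, Int.ofNat 0, Int.negSucc 1, Int.negSucc 1, Int.negSucc 1],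
  [Int.ofNat 0, Int.ofNat 0, Int.negSucc 1, Int.negSucc 1, Int.ofNat 0, Int.ofNat 2, Int.negSucc 1, Int.ofNat 0, Int.ofNat 0, Int.ofNat 0, Int.ofNat 0, Int.ofNat 0, Int.ofNat 0, Int.negSucc 1, Int.ofNat 0, Int.ofNat 0, Int.ofNat 0, Int.ofNat 0, Int.ofNat 0, Int.ofNat 0, Int.ofNat 0, Int.negSucc 1, Int.ofNat 2, Int.negSucc 1],
  [Int.negSucc 1, Int.negSucc 1, Int.ofNat 0, Int.negSucc 1, Int.ofNat 0, Int.ofNat 2, Int.ofNat 0, Int.ofNat 2, Int.ofNat 0, Int.ofNat 0, Int.ofNat 0, Int.ofNat 0, Int.ofNat 0, Int.negSucc 1, Int.ofNat 0, Int.ofNat 0, Int.ofNat 0, Int.ofNat 0, Int.ofNat 0, Int.ofNat 2, Int.ofNat 0, Int.ofNat 0, Int.ofNat 2, Int.ofNat 0],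
  [Int.negSucc 1, Int.ofNat 0, Int.ofNat 0, Int.negSucc 1, Int.ofNat 0, Int.ofNat 0, Int.negSucc 1, Int.ofNat 2, Int.ofNat 0, Int.ofNat 0, Int.ofNat 2, Int.ofNat 2, Int.ofNat 0, Int.ofNat 0, Int.ofNat 0, Int.ofNat 0, Int.negSucc 1, Int.ofNat 0, Int.ofNat 0, Int.ofNat 2, Int.ofNat 0, Int.ofNat 0, Int.ofNat 0, Int.ofNat 0],
  [Int.ofNat 1, Int.negSucc 0, Int.negSucc 0, Int.negSucc 0, Int.ofNat 1, Int.ofNat 1, Int.negSucc 2, Int.ofNat 1, Int.negSucc 0, Int.negSucc 0, Int.ofNat 1, Int.ofNat 1, Int.negSucc 0, Int.ofNat 1, Int.ofNat 1, Int.negSucc 0, Int.negSucc 0, Int.ofNat 1, Int.negSucc 0, Int.ofNat 1, Int.negSucc 0, Int.negSucc 0, Int.ofNat 1, Int.negSucc 0],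
  [Int.negSucc 0, Int.negSucc 0, Int.ofNat 1, Int.ofNat 1, Int.negSucc 0, Int.negSucc 0, Int.negSucc 0, Int.ofNat 1, Int.ofNat 1, Int.negSucc 2, Int.ofNat 1, Int.negSucc 0, Int.negSucc 0, Int.ofNat 1, Int.ofNat 1, Int.negSucc 0, Int.ofNat 1, Int.ofNat 1, Int.negSucc 0, Int.negSucc 0, Int.ofNat 1, Int.negSucc 0, Int.ofNat 1, Int.negSucc 0],
  [Int.ofNat 0, Int.ofNat 0, Int.negSucc 1, Int.ofNat 0, Int.negSucc 1, Int.negSucc 1, Int.ofNat 0, Int.ofNat 2, Int.ofNat 2, Int.negSucc 1, Int.ofNat 2, Int.ofNat 0, Int.ofNat 0, Int.ofNat 0, Int.ofNat 0, Int.ofNat 0, Int.ofNat 0, Int.ofNat 0, Int.ofNat 0, Int.ofNat 0, Int.ofNat 2, Int.ofNat 0, Int.ofNat 0, Int.ofNat 0],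
  [Int.ofNat 0, Int.negSucc 1, Int.ofNat 0, Int.negSucc 1, Int.negSucc 1, Int.ofNat 0, Int.ofNat 2, Int.ofNat 2, Int.negSucc 1, Int.ofNat 2, Int.ofNat 0, Int.ofNat 0, Int.ofNat 0, Int.ofNat 0, Int.ofNat 0, Int.ofNat 0, Int.ofNat 0, Int.ofNat 0, Int.ofNat 0, Int.ofNat 2, Int.ofNat 0, Int.ofNat 0, Int.ofNat 0, Int.ofNat 0],
  [Int.ofNat 0, Int.negSucc 1, Int.ofNat 0, Int.negSucc 1, Int.negSucc 1, Int.ofNat 0, Int.ofNat 2, Int.negSucc 1, Int.negSucc 1, Int.negSucc 1, Int.ofNat 0, Int.ofNat 0, Int.ofNat 0, Int.ofNat 0, Int.ofNat 0, Int.ofNat 0, Int.ofNat 0, Int.ofNat 0, Int.ofNat 0, Int.ofNat 2, Int.ofNat 0, Int.ofNat 0, Int.ofNat 0, Int.ofNat 0],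
  [Int.ofNat 0, Int.ofNat 0, Int.ofNat 0, Int.negSucc 1, Int.negSucc 1, Int.ofNat 0, Int.negSucc 1, Int.ofNat 0, Int.negSucc 1, Int.ofNat 0, Int.ofNat 0, Int.ofNat 0, Int.ofNat 0, Int.negSucc 1, Int.ofNat 2, Int.ofNat 0, Int.ofNat 0, Int.ofNat 0, Int.ofNat 2, Int.ofNat 0, Int.ofNat 0, Int.negSucc 1, Int.ofNat 0, Int.ofNat 0],
  [Int.ofNat 0, Int.ofNat 0, Int.ofNat 0, Int.negSucc 1, Int.negSucc 1, Int.ofNat 0, Int.negSucc 1, Int.ofNat 0, Int.negSucc 1, Int.ofNat 0, Int.ofNat 0, Int.ofNat 0, Int.ofNat 0, Int.negSucc 1, Int.ofNat 2, Int.ofNat 0, Int.ofNat 0, Int.ofNat 0, Int.negSucc 1, Int.ofNat 0, Int.ofNat 0, Int.ofNat 2, Int.ofNat 0, Int.ofNat 0],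
  [Int.ofNat 0, Int.ofNat 0, Int.ofNat 0, Int.ofNat 0, Int.negSucc 1, Int.negSucc 1, Int.ofNat 0, Int.negSucc 1, Int.ofNat 0, Int.negSucc 1, Int.ofNat 0, Int.ofNat 0, Int.ofNat 0, Int.ofNat 0, Int.negSucc 1, Int.ofNat 2, Int.ofNat 0, Int.ofNat 0, Int.ofNat 0, Int.negSucc 1, Int.ofNat 0, Int.ofNat 0, Int.ofNat 2, Int.ofNat 0],
  [Int.ofNat 0, Int.ofNat 0, Int.ofNat 0, Int.ofNat 2, Int.negSucc 1, Int.ofNat 0, Int.ofNat 2, Int.ofNat 0, Int.ofNat 0, Int.negSucc 1, Int.ofNat 0, Int.ofNat 0, Int.ofNat 0, Int.ofNat 0, Int.ofNat 0, Int.ofNat 2, Int.ofNat 0, Int.ofNat 2, Int.ofNat 0, Int.ofNat 0, Int.ofNat 0, Int.ofNat 2, Int.ofNat 2, Int.ofNat 0],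
  [Int.ofNat 2, Int.negSucc 1, Int.ofNat 0, Int.ofNat 2, Int.ofNat 0, Int.ofNat 0, Int.negSucc 1, Int.ofNat 0, Int.ofNat 0, Int.ofNat 0, Int.ofNat 0, Int.ofNat 0, Int.ofNat 2, Int.ofNat 0, Int.ofNat 2, Int.ofNat 0, Int.ofNat 0, Int.ofNat 0, Int.ofNat 2, Int.ofNat 2, Int.ofNat 0, Int.ofNat 0, Int.ofNat 0, Int.ofNat 0],
  [Int.negSucc 1, Int.ofNat 2, Int.ofNat 0, Int.ofNat 0, Int.ofNat 0, Int.negSucc 1, Int.negSucc 1, Int.ofNat 0, Int.negSucc 1, Int.ofNat 0, Int.ofNat 0, Int.negSucc 1, Int.ofNat 0, Int.ofNat 0, Int.ofNat 0, Int.ofNat 0, Int.ofNat 0, Int.negSucc 1, Int.ofNat 0, Int.ofNat 2, Int.ofNat 0, Int.ofNat 0, Int.ofNat 0, Int.ofNat 0],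
  [Int.negSucc 1, Int.negSucc 1, Int.ofNat 0, Int.ofNat 0, Int.ofNat 0, Int.ofNat 0, Int.ofNat 0, Int.ofNat 0, Int.ofNat 0, Int.ofNat 0, Int.ofNat 0, Int.negSucc 1, Int.ofNat 0, Int.ofNat 0, Int.ofNat 0, Int.ofNat 0, Int.negSucc 1, Int.ofNat 0, Int.ofNat 2, Int.negSucc 1, Int.ofNat 0, Int.negSucc 1, Int.ofNat 2, Int.ofNat 0],
  [Int.ofNat 0, Int.ofNat 0, Int.negSucc 1, Int.ofNat 0, Int.ofNat 0, Int.ofNat 0, Int.ofNat 2, Int.ofNat 2, Int.ofNat 0, Int.ofNat 0, Int.ofNat 0, Int.negSucc 1, Int.ofNat 0, Int.ofNat 0, Int.ofNat 0, Int.ofNat 0, Int.negSucc 1, Int.ofNat 0, Int.ofNat 2, Int.ofNat 0, Int.ofNat 0, Int.ofNat 0, Int.ofNat 2, Int.negSucc 1],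
  [Int.ofNat 0, Int.ofNat 0, Int.ofNat 2, Int.ofNat 0, Int.ofNat 0, Int.ofNat 0, Int.negSucc 1, Int.ofNat 2, Int.ofNat 0, Int.ofNat 0, Int.ofNat 0, Int.negSucc 1, Int.ofNat 0, Int.ofNat 0, Int.ofNat 0, Int.ofNat 0, Int.negSucc 1, Int.ofNat 0, Int.negSucc 1, Int.ofNat 0, Int.ofNat 0, Int.ofNat 0, Int.negSucc 1, Int.negSucc 1],
  [Int.ofNat 0, Int.negSucc 1, Int.negSucc 1, Int.ofNat 0, Int.ofNat 0, Int.negSucc 1, Int.ofNat 0, Int.ofNat 0, Int.ofNat 0, Int.ofNat 0, Int.ofNat 0, Int.ofNat 2, Int.ofNat 0, Int.ofNat 0, Int.ofNat 0, Int.negSucc 1, Int.ofNat 0, Int.ofNat 0, Int.ofNat 0, Int.ofNat 2, Int.ofNat 0, Int.ofNat 0, Int.negSucc 1, Int.negSucc 1],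
  [Int.ofNat 0, Int.ofNat 2, Int.ofNat 2, Int.ofNat 0, Int.ofNat 0, Int.negSucc 1, Int.ofNat 0, Int.ofNat 0, Int.ofNat 0, Int.ofNat 0, Int.ofNat 0, Int.ofNat 2, Int.ofNat 0, Int.ofNat 0, Int.ofNat 0, Int.negSucc 1, Int.ofNat 0, Int.ofNat 0, Int.ofNat 0, Int.ofNat 2, Int.ofNat 0, Int.ofNat 0, Int.negSucc 1, Int.negSucc 1],
  [Int.negSucc 1, Int.negSucc 1, Int.ofNat 2, Int.negSucc 1, Int.ofNat 0, Int.ofNat 0, Int.ofNat 2, Int.ofNat 0, Int.ofNat 0, Int.negSucc 1, Int.ofNat 0, Int.ofNat 2, Int.ofNat 0, Int.ofNat 0, Int.ofNat 0, Int.ofNat 0, Int.ofNat 0, Int.ofNat 0, Int.ofNat 0, Int.ofNat 0, Int.ofNat 0, Int.ofNat 0, Int.ofNat 2, Int.ofNat 0],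
  [Int.ofNat 2, Int.negSucc 1, Int.negSucc 1, Int.negSucc 1, Int.ofNat 0, Int.ofNat 0, Int.ofNat 2, Int.ofNat 0, Int.ofNat 0, Int.ofNat 2, Int.ofNat 0, Int.negSucc 1, Int.ofNat 0, Int.ofNat 0, Int.ofNat 0, Int.ofNat 0, Int.ofNat 0, Int.ofNat 0, Int.ofNat 0, Int.ofNat 0, Int.ofNat 0, Int.ofNat 0, Int.ofNat 2, Int.ofNat 0],
  [Int.ofNat 2, Int.ofNat 2, Int.negSucc 1, Int.negSucc 1, Int.negSucc 1, Int.ofNat 0, Int.ofNat 0, Int.ofNat 2, Int.ofNat 0, Int.ofNat 0, Int.ofNat 2, Int.ofNat 0, Int.negSucc 1, Int.ofNat 0, Int.ofNat 0, Int.ofNat 0, Int.ofNat 0, Int.ofNat 0, Int.ofNat 0, Int.ofNat 0, Int.ofNat 0, Int.ofNat 0, Int.ofNat 0, Int.ofNat 0],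
  [Int.negSucc 0, Int.negSucc 0, Int.ofNat 3, Int.negSucc 0, Int.negSucc 0, Int.ofNat 1, Int.negSucc 0, Int.ofNat 1, Int.ofNat 1, Int.negSucc 0, Int.ofNat 1, Int.ofNat 1, Int.negSucc 0, Int.ofNat 1, Int.ofNat 1, Int.negSucc 0, Int.ofNat 1, Int.ofNat 1, Int.ofNat 1, Int.negSucc 0, Int.negSucc 0, Int.negSucc 0, Int.ofNat 1, Int.ofNat 1],
  [Int.negSucc 0, Int.negSucc 0, Int.ofNat 1, Int.negSucc 0, Int.ofNat 1, Int.ofNat 1, Int.negSucc 0, Int.ofNat 1, Int.ofNat 1, Int.negSucc 0, Int.ofNat 1, Int.ofNat 1, Int.negSucc 0, Int.ofNat 1, Int.ofNat 1, Int.ofNat 1, Int.negSucc 0, Int.negSucc 0, Int.negSucc 0, Int.ofNat 1, Int.negSucc 0, Int.negSucc 0, Int.ofNat 3, Int.ofNat 1],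
  [Int.ofNat 1, Int.ofNat 1, Int.negSucc 0, Int.negSucc 0, Int.negSucc 0, Int.ofNat 1, Int.negSucc 0, Int.ofNat 1, Int.ofNat 1, Int.negSucc 0, Int.ofNat 1, Int.ofNat 1, Int.negSucc 0, Int.negSucc 0, Int.ofNat 1, Int.ofNat 1, Int.negSucc 2, Int.negSucc 0, Int.negSucc 0, Int.ofNat 1, Int.negSucc 0, Int.negSucc 0, Int.ofNat 1, Int.negSucc 0],
  [Int.ofNat 1, Int.negSucc 0, Int.negSucc 0, Int.negSucc 0, Int.negSucc 0, Int.ofNat 1, Int.negSucc 0, Int.ofNat 1, Int.negSucc 0, Int.negSucc 0, Int.negSucc 0, Int.negSucc 0, Int.negSucc 0, Int.negSucc 2, Int.ofNat 1, Int.ofNat 1, Int.ofNat 1, Int.ofNat 1, Int.ofNat 1, Int.ofNat 1, Int.negSucc 0, Int.ofNat 1, Int.ofNat 1, Int.negSucc 0],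
  [Int.negSucc 1, Int.ofNat 0, Int.ofNat 0, Int.negSucc 1, Int.ofNat 0, Int.ofNat 0, Int.negSucc 1, Int.ofNat 0, Int.ofNat 0, Int.ofNat 0, Int.ofNat 0, Int.ofNat 0, Int.ofNat 0, Int.negSucc 1, Int.ofNat 0, Int.ofNat 2, Int.ofNat 2, Int.ofNat 0, Int.ofNat 2, Int.ofNat 0, Int.ofNat 0, Int.ofNat 0, Int.ofNat 2, Int.ofNat 0],
  [Int.negSucc 1, Int.ofNat 0, Int.ofNat 0, Int.negSucc 1, Int.ofNat 0, Int.ofNat 0, Int.ofNat 2, Int.ofNat 0, Int.ofNat 0, Int.ofNat 0, Int.ofNat 0, Int.ofNat 0, Int.ofNat 0, Int.negSucc 1, Int.ofNat 0, Int.negSucc 1, Int.ofNat 2, Int.ofNat 0, Int.negSucc 1, Int.ofNat 0, Int.ofNat 0, Int.ofNat 0, Int.negSucc 1, Int.ofNat 0],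
  [Int.ofNat 2, Int.ofNat 0, Int.ofNat 0, Int.ofNat 0, Int.ofNat 0, Int.negSucc 1, Int.ofNat 0, Int.negSucc 1, Int.negSucc 1, Int.negSucc 1, Int.ofNat 0, Int.ofNat 0, Int.ofNat 0, Int.ofNat 0, Int.ofNat 0, Int.ofNat 0, Int.ofNat 2, Int.ofNat 0, Int.ofNat 0, Int.negSucc 1, Int.ofNat 0, Int.negSucc 1, Int.ofNat 0, Int.ofNat 0],
  [Int.ofNat 2, Int.ofNat 0, Int.ofNat 0, Int.ofNat 0, Int.ofNat 0, Int.ofNat 2, Int.ofNat 0, Int.negSucc 1, Int.negSucc 1, Int.ofNat 2, Int.ofNat 0, Int.ofNat 0, Int.ofNat 0, Int.ofNat 0, Int.ofNat 0, Int.ofNat 0, Int.ofNat 2, Int.ofNat 0, Int.ofNat 0, Int.negSucc 1, Int.ofNat 0, Int.negSucc 1, Int.ofNat 0, Int.ofNat 0],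
  [Int.negSucc 0, Int.ofNat 1, Int.ofNat 1, Int.negSucc 0, Int.negSucc 0, Int.ofNat 1, Int.ofNat 3, Int.ofNat 1, Int.negSucc 0, Int.ofNat 1, Int.negSucc 0, Int.ofNat 1, Int.ofNat 1, Int.negSucc 0, Int.negSucc 0, Int.negSucc 0, Int.ofNat 1, Int.negSucc 0, Int.ofNat 1, Int.ofNat 1, Int.negSucc 0, Int.ofNat 1, Int.negSucc 0, Int.ofNat 1],
  [Int.negSucc 0, Int.ofNat 1, Int.ofNat 3, Int.negSucc 0, Int.ofNat 1, Int.ofNat 1, Int.ofNat 1, Int.ofNat 1, Int.ofNat 1, Int.ofNat 1, Int.ofNat 1, Int.ofNat 1, Int.negSucc 0, Int.ofNat 1, Int.negSucc 0, Int.negSucc 0, Int.negSucc 0, Int.ofNat 1, Int.negSucc 0, Int.negSucc 0, Int.negSucc 0, Int.negSucc 0, Int.negSucc 0, Int.ofNat 1],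
  [Int.ofNat 3, Int.ofNat 1, Int.negSucc 0, Int.negSucc 0, Int.ofNat 1, Int.ofNat 1, Int.ofNat 1, Int.ofNat 1, Int.ofNat 1, Int.ofNat 1, Int.ofNat 1, Int.ofNat 1, Int.negSucc 0, Int.ofNat 1, Int.negSucc 0, Int.negSucc 0, Int.negSucc 0, Int.ofNat 1, Int.negSucc 0, Int.negSucc 0, Int.negSucc 0, Int.negSucc 0, Int.negSucc 0, Int.ofNat 1],
  [Int.negSucc 0, Int.negSucc 0, Int.negSucc 0, Int.ofNat 3, Int.ofNat 1, Int.negSucc 0, Int.negSucc 0, Int.ofNat 1, Int.ofNat 1, Int.ofNat 1, Int.ofNat 1, Int.ofNat 1, Int.ofNat 1, Int.ofNat 1, Int.ofNat 1, Int.negSucc 0, Int.ofNat 1, Int.negSucc 0, Int.negSucc 0, Int.negSucc 0, Int.ofNat 1, Int.negSucc 0, Int.negSucc 0, Int.ofNat 1],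
  [Int.ofNat 0, Int.ofNat 0, Int.ofNat 0, Int.ofNat 2, Int.ofNat 0, Int.negSucc 1, Int.ofNat 0, Int.ofNat 2, Int.ofNat 0, Int.ofNat 0, Int.ofNat 0, Int.ofNat 0, Int.ofNat 0, Int.ofNat 0, Int.ofNat 0, Int.negSucc 1, Int.ofNat 0, Int.negSucc 1, Int.negSucc 1, Int.ofNat 0, Int.ofNat 0, Int.ofNat 0, Int.negSucc 1, Int.negSucc 1],
  [Int.ofNat 0, Int.ofNat 0, Int.ofNat 2, Int.ofNat 0, Int.negSucc 1, Int.ofNat 0, Int.ofNat 2, Int.ofNat 0, Int.ofNat 0, Int.ofNat 0, Int.ofNat 0, Int.ofNat 0, Int.ofNat 0, Int.ofNat 0, Int.negSucc 1, Int.ofNat 0, Int.negSucc 1, Int.negSucc 1, Int.ofNat 0, Int.ofNat 0, Int.ofNat 0, Int.negSucc 1, Int.ofNat 0, Int.negSucc 1],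
  [Int.ofNat 0, Int.ofNat 0, Int.negSucc 1, Int.ofNat 0, Int.negSucc 1, Int.ofNat 0, Int.ofNat 2, Int.ofNat 0, Int.ofNat 0, Int.ofNat 0, Int.ofNat 0, Int.ofNat 0, Int.ofNat 0, Int.ofNat 0, Int.negSucc 1, Int.ofNat 0, Int.negSucc 1, Int.negSucc 1, Int.ofNat 0, Int.ofNat 0, Int.ofNat 0, Int.ofNat 2, Int.ofNat 0, Int.negSucc 1],
  [Int.ofNat 0, Int.negSucc 1, Int.ofNat 0, Int.ofNat 0, Int.ofNat 0, Int.ofNat 0, Int.negSucc 1, Int.ofNat 0, Int.ofNat 0, Int.negSucc 1, Int.ofNat 2, Int.negSucc 1, Int.ofNat 0, Int.ofNat 0, Int.ofNat 0, Int.ofNat 0, Int.ofNat 0, Int.ofNat 0, Int.ofNat 2, Int.negSucc 1, Int.ofNat 0, Int.ofNat 0, Int.ofNat 0, Int.negSucc 1],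
  [Int.ofNat 0, Int.negSucc 1, Int.ofNat 0, Int.ofNat 0, Int.ofNat 0, Int.ofNat 0, Int.negSucc 1, Int.ofNat 0, Int.ofNat 0, Int.ofNat 2, Int.negSucc 1, Int.ofNat 2, Int.ofNat 0, Int.ofNat 0, Int.ofNat 0, Int.ofNat 0, Int.ofNat 0, Int.ofNat 0, Int.negSucc 1, Int.negSucc 1, Int.ofNat 0, Int.ofNat 0, Int.ofNat 0, Int.negSucc 1],
  [Int.ofNat 0, Int.ofNat 0, Int.negSucc 1, Int.ofNat 0, Int.ofNat 0, Int.ofNat 0, Int.ofNat 0, Int.negSucc 1, Int.ofNat 0, Int.ofNat 0, Int.ofNat 2, Int.negSucc 1, Int.ofNat 2, Int.ofNat 0, Int.ofNat 0, Int.ofNat 0, Int.ofNat 0, Int.ofNat 0, Int.ofNat 0, Int.negSucc 1, Int.negSucc 1, Int.ofNat 0, Int.ofNat 0, Int.negSucc 1],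
  [Int.negSucc 1, Int.negSucc 1, Int.ofNat 0, Int.ofNat 0, Int.ofNat 0, Int.ofNat 0, Int.ofNat 2, Int.ofNat 0, Int.ofNat 0, Int.ofNat 0, Int.ofNat 2, Int.negSucc 1, Int.ofNat 2, Int.ofNat 0, Int.ofNat 0, Int.ofNat 0, Int.ofNat 0, Int.ofNat 0, Int.ofNat 0, Int.ofNat 0, Int.negSucc 1, Int.ofNat 2, Int.ofNat 0, Int.ofNat 0],
  [Int.ofNat 0, Int.ofNat 0, Int.ofNat 0, Int.ofNat 2, Int.ofNat 0, Int.ofNat 0, Int.ofNat 0, Int.ofNat 2, Int.negSucc 1, Int.ofNat 2, Int.ofNat 0, Int.ofNat 0, Int.ofNat 0, Int.ofNat 0, Int.ofNat 0, Int.ofNat 0, Int.ofNat 0, Int.negSucc 1, Int.ofNat 2, Int.ofNat 0, Int.negSucc 1, Int.negSucc 1, Int.ofNat 0, Int.ofNat 0],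
  [Int.ofNat 0, Int.ofNat 0, Int.ofNat 0, Int.ofNat 2, Int.ofNat 0, Int.ofNat 0, Int.ofNat 0, Int.ofNat 2, Int.negSucc 1, Int.ofNat 2, Int.ofNat 0, Int.ofNat 0, Int.ofNat 0, Int.ofNat 0, Int.ofNat 0, Int.ofNat 0, Int.ofNat 0, Int.negSucc 1, Int.ofNat 2, Int.ofNat 0, Int.negSucc 1, Int.negSucc 1, Int.ofNat 0, Int.ofNat 0],
  [Int.ofNat 0, Int.ofNat 0, Int.ofNat 0, Int.ofNat 2, Int.ofNat 2, Int.ofNat 2, Int.ofNat 0, Int.ofNat 0, Int.ofNat 0, Int.ofNat 0, Int.negSucc 1, Int.negSucc 1, Int.ofNat 2, Int.ofNat 0, Int.ofNat 0, Int.ofNat 0, Int.negSucc 1, Int.ofNat 0, Int.ofNat 0, Int.ofNat 0, Int.negSucc 1, Int.ofNat 0, Int.ofNat 0, Int.ofNat 0],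
  [Int.ofNat 0, Int.ofNat 0, Int.ofNat 0, Int.ofNat 0, Int.ofNat 2, Int.ofNat 0, Int.ofNat 0, Int.ofNat 0, Int.ofNat 0, Int.ofNat 2, Int.ofNat 0, Int.negSucc 1, Int.ofNat 2, Int.ofNat 0, Int.negSucc 1, Int.ofNat 2, Int.negSucc 1, Int.negSucc 1, Int.ofNat 0, Int.ofNat 0, Int.ofNat 0, Int.ofNat 0, Int.ofNat 0, Int.ofNat 0],
  [Int.ofNat 0, Int.ofNat 0, Int.ofNat 0, Int.ofNat 0, Int.ofNat 2, Int.ofNat 0, Int.ofNat 0, Int.ofNat 0, Int.ofNat 0, Int.negSucc 1, Int.ofNat 0, Int.negSucc 1, Int.ofNat 2, Int.ofNat 0, Int.negSucc 1, Int.negSucc 1, Int.negSucc 1, Int.negSucc 1, Int.ofNat 0, Int.ofNat 0, Int.ofNat 0, Int.ofNat 0, Int.ofNat 0, Int.ofNat 0],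
  [Int.ofNat 0, Int.negSucc 1, Int.negSucc 1, Int.ofNat 0, Int.negSucc 1, Int.ofNat 0, Int.ofNat 0, Int.ofNat 0, Int.ofNat 0, Int.ofNat 0, Int.ofNat 0, Int.ofNat 0, Int.negSucc 1, Int.ofNat 2, Int.negSucc 1, Int.ofNat 0, Int.ofNat 0, Int.ofNat 2, Int.negSucc 1, Int.ofNat 0, Int.ofNat 0, Int.ofNat 0, Int.ofNat 0, Int.ofNat 0],
  [Int.ofNat 0, Int.ofNat 2, Int.ofNat 2, Int.ofNat 0, Int.ofNat 2, Int.ofNat 0, Int.ofNat 0, Int.ofNat 0, Int.ofNat 0, Int.ofNat 0, Int.ofNat 0, Int.ofNat 0, Int.ofNat 2, Int.negSucc 1, Int.negSucc 1, Int.ofNat 0, Int.ofNat 0, Int.ofNat 2, Int.ofNat 2, Int.ofNat 0, Int.ofNat 0, Int.ofNat 0, Int.ofNat 0, Int.ofNat 0],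
  [Int.ofNat 0, Int.ofNat 0, Int.ofNat 0, Int.ofNat 0, Int.ofNat 2, Int.ofNat 0, Int.ofNat 0, Int.negSucc 1, Int.ofNat 0, Int.ofNat 0, Int.ofNat 0, Int.ofNat 2, Int.ofNat 0, Int.ofNat 0, Int.ofNat 2, Int.ofNat 0, Int.ofNat 0, Int.ofNat 2, Int.negSucc 1, Int.ofNat 0, Int.ofNat 0, Int.ofNat 2, Int.ofNat 2, Int.ofNat 0],
  [Int.ofNat 0, Int.ofNat 0, Int.ofNat 0, Int.ofNat 0, Int.ofNat 2, Int.ofNat 0, Int.ofNat 0, Int.ofNat 2, Int.ofNat 0, Int.ofNat 0, Int.ofNat 0, Int.negSucc 1, Int.ofNat 0, Int.ofNat 0, Int.ofNat 2, Int.ofNat 0, Int.ofNat 0, Int.ofNat 2, Int.ofNat 2, Int.ofNat 0, Int.ofNat 0, Int.negSucc 1, Int.ofNat 2, Int.ofNat 0],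
  [Int.ofNat 2, Int.ofNat 0, Int.ofNat 0, Int.ofNat 0, Int.ofNat 0, Int.ofNat 2, Int.ofNat 0, Int.ofNat 0, Int.ofNat 2, Int.ofNat 0, Int.ofNat 0, Int.ofNat 0, Int.negSucc 1, Int.ofNat 0, Int.ofNat 0, Int.ofNat 2, Int.ofNat 0, Int.ofNat 0, Int.ofNat 2, Int.ofNat 2, Int.ofNat 0, Int.ofNat 0, Int.negSucc 1, Int.ofNat 0],
  [Int.negSucc 0, Int.ofNat 1, Int.ofNat 1, Int.negSucc 0, Int.ofNat 1, Int.ofNat 1, Int.negSucc 0, Int.negSucc 0, Int.ofNat 1, Int.negSucc 0, Int.negSucc 0, Int.negSucc 0, Int.negSucc 2, Int.ofNat 1, Int.negSucc 0, Int.ofNat 1, Int.ofNat 1, Int.negSucc 0, Int.ofNat 1, Int.ofNat 1, Int.negSucc 0, Int.negSucc 0, Int.negSucc 0, Int.ofNat 1],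
  [Int.negSucc 0, Int.ofNat 1, Int.ofNat 1, Int.negSucc 0, Int.negSucc 0, Int.ofNat 1, Int.negSucc 0, Int.negSucc 0, Int.negSucc 0, Int.negSucc 2, Int.ofNat 1, Int.negSucc 0, Int.ofNat 1, Int.ofNat 1, Int.negSucc 0, Int.ofNat 1, Int.ofNat 1, Int.negSucc 0, Int.negSucc 0, Int.negSucc 0, Int.negSucc 0, Int.ofNat 1, Int.ofNat 1, Int.ofNat 1],
  [Int.ofNat 2, Int.ofNat 0, Int.ofNat 0, Int.ofNat 0, Int.negSucc 1, Int.ofNat 2, Int.ofNat 0, Int.ofNat 0, Int.ofNat 0, Int.negSucc 1, Int.ofNat 2, Int.ofNat 0, Int.ofNat 2, Int.ofNat 0, Int.ofNat 0, Int.ofNat 2, Int.ofNat 0, Int.ofNat 0, Int.ofNat 0, Int.ofNat 0, Int.ofNat 0, Int.ofNat 2, Int.ofNat 0, Int.ofNat 0],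
  [Int.ofNat 2, Int.ofNat 0, Int.negSucc 1, Int.ofNat 0, Int.ofNat 0, Int.ofNat 0, Int.ofNat 0, Int.ofNat 2, Int.ofNat 2, Int.ofNat 0, Int.ofNat 0, Int.ofNat 0, Int.negSucc 1, Int.ofNat 0, Int.ofNat 0, Int.ofNat 2, Int.ofNat 0, Int.ofNat 0, Int.ofNat 0, Int.ofNat 0, Int.ofNat 2, Int.ofNat 2, Int.ofNat 0, Int.ofNat 0],
  [Int.negSucc 1, Int.ofNat 0, Int.ofNat 2, Int.ofNat 0, Int.ofNat 0, Int.ofNat 0, Int.negSucc 1, Int.ofNat 0, Int.ofNat 2, Int.negSucc 1, Int.negSucc 1, Int.ofNat 0, Int.negSucc 1, Int.ofNat 0, Int.ofNat 0, Int.ofNat 0, Int.ofNat 0, Int.ofNat 0, Int.ofNat 0, Int.negSucc 1, Int.ofNat 0, Int.ofNat 0, Int.ofNat 0, Int.ofNat 0],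
  [Int.negSucc 1, Int.ofNat 0, Int.negSucc 1, Int.ofNat 0, Int.ofNat 0, Int.ofNat 0, Int.ofNat 2, Int.ofNat 0, Int.ofNat 2, Int.ofNat 2, Int.ofNat 2, Int.ofNat 0, Int.negSucc 1, Int.ofNat 0, Int.ofNat 0, Int.ofNat 0, Int.ofNat 0, Int.ofNat 0, Int.ofNat 0, Int.negSucc 1, Int.ofNat 0, Int.ofNat 0, Int.ofNat 0, Int.ofNat 0],
  [Int.ofNat 0, Int.ofNat 0, Int.ofNat 2, Int.ofNat 0, Int.negSucc 1, Int.ofNat 0, Int.ofNat 0, Int.ofNat 0, Int.ofNat 0, Int.ofNat 0, Int.ofNat 0, Int.ofNat 0, Int.ofNat 0, Int.ofNat 0, Int.ofNat 0, Int.negSucc 1, Int.ofNat 2, Int.ofNat 2, Int.negSucc 1, Int.negSucc 1, Int.ofNat 0, Int.ofNat 0, Int.ofNat 2, Int.ofNat 0],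
  [Int.ofNat 0, Int.ofNat 0, Int.negSucc 1, Int.ofNat 0, Int.negSucc 1, Int.ofNat 0, Int.ofNat 0, Int.ofNat 0, Int.ofNat 0, Int.ofNat 0, Int.ofNat 0, Int.ofNat 0, Int.ofNat 0, Int.ofNat 0, Int.ofNat 0, Int.ofNat 2, Int.ofNat 2, Int.ofNat 2, Int.ofNat 2, Int.negSucc 1, Int.ofNat 0, Int.ofNat 0, Int.negSucc 1, Int.ofNat 0],
  [Int.negSucc 0, Int.negSucc 0, Int.ofNat 1, Int.negSucc 0, Int.negSucc 0, Int.negSucc 0, Int.ofNat 1, Int.ofNat 1, Int.negSucc 0, Int.negSucc 0, Int.negSucc 0, Int.negSucc 0, Int.negSucc 0, Int.ofNat 1, Int.negSucc 0, Int.ofNat 1, Int.ofNat 3, Int.ofNat 1, Int.ofNat 1, Int.negSucc 0, Int.negSucc 0, Int.ofNat 1, Int.negSucc 0, Int.negSucc 0],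
  [Int.negSucc 0, Int.ofNat 1, Int.ofNat 1, Int.negSucc 0, Int.ofNat 1, Int.ofNat 1, Int.negSucc 0, Int.negSucc 0, Int.ofNat 3, Int.negSucc 0, Int.ofNat 1, Int.negSucc 0, Int.negSucc 0, Int.negSucc 0, Int.ofNat 1, Int.ofNat 1, Int.ofNat 1, Int.negSucc 0, Int.negSucc 0, Int.negSucc 0, Int.negSucc 0, Int.negSucc 0, Int.negSucc 0, Int.negSucc 0],
  [Int.ofNat 1, Int.negSucc 0, Int.negSucc 0, Int.negSucc 0, Int.ofNat 1, Int.ofNat 1, Int.ofNat 1, Int.ofNat 1, Int.ofNat 3, Int.negSucc 0, Int.ofNat 1, Int.negSucc 0, Int.negSucc 0, Int.negSucc 0, Int.ofNat 1, Int.ofNat 1, Int.ofNat 1, Int.negSucc 0, Int.negSucc 0, Int.ofNat 1, Int.negSucc 0, Int.ofNat 1, Int.negSucc 0, Int.ofNat 1],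
  [Int.negSucc 0, Int.ofNat 1, Int.negSucc 0, Int.ofNat 1, Int.negSucc 0, Int.negSucc 0, Int.negSucc 0, Int.ofNat 1, Int.ofNat 1, Int.ofNat 1, Int.ofNat 1, Int.ofNat 3, Int.negSucc 0, Int.ofNat 1, Int.negSucc 0, Int.negSucc 0, Int.negSucc 0, Int.ofNat 1, Int.ofNat 1, Int.ofNat 1, Int.negSucc 0, Int.negSucc 0, Int.ofNat 1, Int.ofNat 1],
  [Int.ofNat 1, Int.negSucc 0, Int.ofNat 1, Int.ofNat 1, Int.negSucc 0, Int.negSucc 0, Int.negSucc 0, Int.ofNat 1, Int.negSucc 0, Int.ofNat 1, Int.ofNat 1, Int.ofNat 1, Int.negSucc 2, Int.ofNat 1, Int.negSucc 0, Int.negSucc 0, Int.negSucc 0, Int.ofNat 1, Int.negSucc 0, Int.ofNat 1, Int.negSucc 0, Int.negSucc 0, Int.ofNat 1, Int.negSucc 0],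
  [Int.negSucc 0, Int.ofNat 1, Int.ofNat 1, Int.negSucc 0, Int.negSucc 0, Int.negSucc 0, Int.ofNat 1, Int.negSucc 0, Int.ofNat 1, Int.ofNat 1, Int.ofNat 1, Int.negSucc 2, Int.ofNat 1, Int.negSucc 0, Int.negSucc 0, Int.negSucc 0, Int.ofNat 1, Int.negSucc 0, Int.ofNat 1, Int.negSucc 0, Int.negSucc 0, Int.ofNat 1, Int.ofNat 1, Int.negSucc 0],
  [Int.ofNat 1, Int.ofNat 1, Int.negSucc 0, Int.negSucc 0, Int.negSucc 0, Int.negSucc 0, Int.ofNat 1, Int.ofNat 1, Int.ofNat 1, Int.negSucc 0, Int.negSucc 0, Int.ofNat 3, Int.ofNat 1, Int.negSucc 0, Int.negSucc 0, Int.negSucc 0, Int.ofNat 1, Int.negSucc 0, Int.negSucc 0, Int.negSucc 0, Int.negSucc 0, Int.negSucc 0, Int.ofNat 1, Int.negSucc 0],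
  [Int.ofNat 1, Int.negSucc 0, Int.negSucc 0, Int.negSucc 0, Int.ofNat 1, Int.negSucc 0, Int.negSucc 0, Int.negSucc 0, Int.negSucc 0, Int.ofNat 1, Int.negSucc 0, Int.negSucc 0, Int.negSucc 0, Int.ofNat 1, Int.negSucc 0, Int.negSucc 0, Int.ofNat 1, Int.ofNat 1, Int.ofNat 1, Int.negSucc 0, Int.negSucc 0, Int.ofNat 1, Int.ofNat 3, Int.negSucc 0],
  [Int.negSucc 0, Int.negSucc 0, Int.ofNat 1, Int.negSucc 0, Int.ofNat 1, Int.negSucc 0, Int.negSucc 0, Int.ofNat 1, Int.negSucc 0, Int.negSucc 0, Int.ofNat 1, Int.ofNat 1, Int.negSucc 0, Int.ofNat 1, Int.negSucc 0, Int.negSucc 0, Int.ofNat 1, Int.ofNat 1, Int.negSucc 0, Int.negSucc 0, Int.negSucc 0, Int.negSucc 0, Int.ofNat 3, Int.negSucc 0],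
  [Int.ofNat 3, Int.negSucc 0, Int.negSucc 0, Int.ofNat 1, Int.negSucc 0, Int.ofNat 1, Int.negSucc 0, Int.negSucc 0, Int.ofNat 1, Int.negSucc 0, Int.negSucc 0, Int.ofNat 1, Int.ofNat 1, Int.negSucc 0, Int.ofNat 1, Int.negSucc 0, Int.negSucc 0, Int.ofNat 1, Int.ofNat 1, Int.negSucc 0, Int.negSucc 0, Int.negSucc 0, Int.negSucc 0, Int.negSucc 0],
  [Int.negSucc 2, Int.ofNat 1, Int.ofNat 1, Int.negSucc 0, Int.ofNat 1, Int.negSucc 0, Int.ofNat 1, Int.ofNat 1, Int.negSucc 0, Int.ofNat 1, Int.ofNat 1, Int.negSucc 0, Int.negSucc 0, Int.ofNat 1, Int.negSucc 0, Int.ofNat 1, Int.ofNat 1, Int.negSucc 0, Int.negSucc 0, Int.ofNat 1, Int.ofNat 1, Int.ofNat 1, Int.ofNat 1, Int.ofNat 1],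
  [Int.negSucc 0, Int.ofNat 1, Int.negSucc 0, Int.ofNat 1, Int.ofNat 1, Int.negSucc 0, Int.ofNat 1, Int.ofNat 1, Int.negSucc 0, Int.negSucc 0, Int.ofNat 1, Int.negSucc 0, Int.ofNat 1, Int.ofNat 1, Int.negSucc 0, Int.negSucc 0, Int.ofNat 1, Int.ofNat 1, Int.ofNat 1, Int.ofNat 1, Int.negSucc 2, Int.ofNat 1, Int.ofNat 1, Int.ofNat 1],
  [Int.ofNat 1, Int.negSucc 0, Int.ofNat 1, Int.ofNat 1, Int.negSucc 0, Int.negSucc 0, Int.negSucc 0, Int.negSucc 0, Int.negSucc 0, Int.ofNat 1, Int.ofNat 3, Int.negSucc 0, Int.ofNat 1, Int.negSucc 0, Int.negSucc 0, Int.ofNat 1, Int.negSucc 0, Int.ofNat 1, Int.ofNat 1, Int.negSucc 0, Int.negSucc 0, Int.negSucc 0, Int.negSucc 0, Int.negSucc 0],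
  [Int.ofNat 1, Int.negSucc 0, Int.negSucc 0, Int.ofNat 1, Int.ofNat 1, Int.negSucc 0, Int.ofNat 1, Int.ofNat 3, Int.ofNat 1, Int.negSucc 0, Int.negSucc 0, Int.ofNat 1, Int.ofNat 1, Int.negSucc 0, Int.negSucc 0, Int.ofNat 1, Int.negSucc 0, Int.negSucc 0, Int.negSucc 0, Int.negSucc 0, Int.negSucc 0, Int.negSucc 0, Int.negSucc 0, Int.negSucc 0],
  [Int.negSucc 1, Int.ofNat 0, Int.ofNat 0, Int.ofNat 2, Int.ofNat 2, Int.ofNat 0, Int.ofNat 0, Int.ofNat 2, Int.ofNat 0, Int.ofNat 0, Int.ofNat 0, Int.ofNat 0, Int.ofNat 0, Int.ofNat 0, Int.ofNat 0, Int.ofNat 2, Int.ofNat 0, Int.ofNat 0, Int.negSucc 1, Int.negSucc 1, Int.ofNat 0, Int.negSucc 1, Int.ofNat 0, Int.ofNat 0],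
  [Int.negSucc 1, Int.ofNat 0, Int.ofNat 0, Int.ofNat 2, Int.ofNat 2, Int.ofNat 0, Int.ofNat 0, Int.ofNat 2, Int.ofNat 0, Int.ofNat 0, Int.ofNat 0, Int.ofNat 0, Int.ofNat 0, Int.ofNat 0, Int.ofNat 0, Int.negSucc 1, Int.ofNat 0, Int.ofNat 0, Int.ofNat 2, Int.negSucc 1, Int.ofNat 0, Int.negSucc 1, Int.ofNat 0, Int.ofNat 0],
  [Int.ofNat 0, Int.ofNat 0, Int.ofNat 0, Int.ofNat 0, Int.ofNat 0, Int.ofNat 0, Int.negSucc 1, Int.ofNat 2, Int.ofNat 0, Int.ofNat 0, Int.ofNat 0, Int.ofNat 2, Int.negSucc 1, Int.ofNat 2, Int.ofNat 0, Int.ofNat 2, Int.negSucc 1, Int.ofNat 0, Int.ofNat 0, Int.ofNat 0, Int.negSucc 1, Int.ofNat 0, Int.ofNat 0, Int.ofNat 0],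
  [Int.ofNat 0, Int.ofNat 0, Int.ofNat 0, Int.ofNat 0, Int.ofNat 0, Int.ofNat 0, Int.ofNat 2, Int.ofNat 2, Int.ofNat 0, Int.ofNat 0, Int.ofNat 0, Int.ofNat 2, Int.ofNat 2, Int.negSucc 1, Int.ofNat 0, Int.ofNat 2, Int.ofNat 2, Int.ofNat 0, Int.ofNat 0, Int.ofNat 0, Int.negSucc 1, Int.ofNat 0, Int.ofNat 0, Int.ofNat 0],
  [Int.ofNat 0, Int.ofNat 0, Int.ofNat 2, Int.ofNat 2, Int.ofNat 0, Int.ofNat 0, Int.ofNat 0, Int.negSucc 1, Int.negSucc 1, Int.ofNat 0, Int.ofNat 2, Int.ofNat 0, Int.ofNat 0, Int.ofNat 2, Int.ofNat 0, Int.ofNat 0, Int.ofNat 0, Int.ofNat 0, Int.ofNat 0, Int.ofNat 2, Int.ofNat 0, Int.ofNat 2, Int.ofNat 0, Int.ofNat 0],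
  [Int.ofNat 0, Int.ofNat 0, Int.negSucc 1, Int.ofNat 2, Int.ofNat 0, Int.ofNat 0, Int.ofNat 0, Int.ofNat 2, Int.negSucc 1, Int.ofNat 0, Int.negSucc 1, Int.ofNat 0, Int.ofNat 0, Int.ofNat 2, Int.ofNat 0, Int.ofNat 0, Int.ofNat 0, Int.ofNat 0, Int.ofNat 0, Int.ofNat 2, Int.ofNat 0, Int.negSucc 1, Int.ofNat 0, Int.ofNat 0],
  [Int.ofNat 0, Int.ofNat 0, Int.ofNat 0, Int.negSucc 1, Int.ofNat 2, Int.ofNat 0, Int.ofNat 0, Int.ofNat 0, Int.ofNat 2, Int.negSucc 1, Int.ofNat 0, Int.negSucc 1, Int.ofNat 0, Int.ofNat 0, Int.ofNat 2, Int.ofNat 0, Int.ofNat 0, Int.ofNat 0, Int.ofNat 0, Int.ofNat 0, Int.ofNat 2, Int.ofNat 0, Int.negSucc 1, Int.ofNat 0],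
  [Int.ofNat 0, Int.ofNat 0, Int.ofNat 0, Int.negSucc 1, Int.ofNat 2, Int.ofNat 0, Int.ofNat 0, Int.ofNat 0, Int.ofNat 2, Int.negSucc 1, Int.ofNat 0, Int.negSucc 1, Int.ofNat 0, Int.ofNat 0, Int.ofNat 2, Int.ofNat 0, Int.ofNat 0, Int.ofNat 0, Int.ofNat 0, Int.ofNat 0, Int.ofNat 2, Int.ofNat 0, Int.negSucc 1, Int.ofNat 0],
  [Int.negSucc 1, Int.ofNat 2, Int.ofNat 0, Int.ofNat 0, Int.ofNat 0, Int.ofNat 2, Int.negSucc 1, Int.ofNat 0, Int.negSucc 1, Int.ofNat 0, Int.ofNat 0, Int.ofNat 2, Int.ofNat 0, Int.ofNat 0, Int.ofNat 0, Int.ofNat 0, Int.ofNat 0, Int.ofNat 2, Int.ofNat 0, Int.negSucc 1, Int.ofNat 0, Int.ofNat 0, Int.ofNat 0, Int.ofNat 0],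
  [Int.ofNat 2, Int.negSucc 1, Int.ofNat 0, Int.negSucc 1, Int.ofNat 0, Int.ofNat 0, Int.ofNat 0, Int.ofNat 2, Int.negSucc 1, Int.ofNat 0, Int.ofNat 0, Int.ofNat 2, Int.ofNat 0, Int.ofNat 0, Int.negSucc 1, Int.ofNat 0, Int.ofNat 0, Int.ofNat 0, Int.ofNat 0, Int.ofNat 0, Int.ofNat 0, Int.ofNat 2, Int.ofNat 0, Int.ofNat 0],
  [Int.ofNat 2, Int.ofNat 0, Int.ofNat 0, Int.negSucc 1, Int.ofNat 0, Int.ofNat 2, Int.ofNat 0, Int.ofNat 0, Int.ofNat 0, Int.ofNat 0, Int.ofNat 0, Int.ofNat 0, Int.ofNat 0, Int.ofNat 0, Int.ofNat 0, Int.ofNat 0, Int.negSucc 1, Int.negSucc 1, Int.negSucc 1, Int.ofNat 2, Int.ofNat 2, Int.ofNat 0, Int.ofNat 0, Int.ofNat 0],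
  [Int.negSucc 0, Int.ofNat 1, Int.ofNat 1, Int.negSucc 0, Int.ofNat 1, Int.ofNat 3, Int.negSucc 0, Int.negSucc 0, Int.ofNat 1, Int.negSucc 0, Int.negSucc 0, Int.ofNat 1, Int.ofNat 1, Int.ofNat 1, Int.ofNat 1, Int.negSucc 0, Int.negSucc 0, Int.negSucc 0, Int.negSucc 0, Int.ofNat 1, Int.ofNat 1, Int.negSucc 0, Int.ofNat 1, Int.ofNat 1],
  [Int.negSucc 0, Int.ofNat 1, Int.negSucc 0, Int.negSucc 0, Int.ofNat 1, Int.negSucc 2, Int.ofNat 1, Int.negSucc 0, Int.ofNat 1, Int.ofNat 1, Int.ofNat 1, Int.ofNat 1, Int.ofNat 1, Int.ofNat 1, Int.ofNat 1, Int.ofNat 1, Int.negSucc 0, Int.negSucc 0, Int.ofNat 1, Int.ofNat 1, Int.ofNat 1, Int.negSucc 0, Int.negSucc 0, Int.ofNat 1],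
  [Int.negSucc 0, Int.ofNat 1, Int.ofNat 1, Int.negSucc 0, Int.ofNat 1, Int.ofNat 1, Int.ofNat 1, Int.ofNat 1, Int.negSucc 0, Int.negSucc 0, Int.ofNat 1, Int.negSucc 0, Int.ofNat 1, Int.negSucc 0, Int.negSucc 2, Int.ofNat 1, Int.ofNat 1, Int.ofNat 1, Int.negSucc 0, Int.negSucc 0, Int.ofNat 1, Int.ofNat 1, Int.ofNat 1, Int.ofNat 1],
  [Int.negSucc 0, Int.ofNat 1, Int.negSucc 0, Int.negSucc 0, Int.ofNat 1, Int.negSucc 0, Int.negSucc 0, Int.ofNat 1, Int.negSucc 0, Int.ofNat 1, Int.negSucc 0, Int.negSucc 0, Int.ofNat 1, Int.negSucc 0, Int.negSucc 2, Int.negSucc 0, Int.ofNat 1, Int.ofNat 1, Int.ofNat 1, Int.negSucc 0, Int.ofNat 1, Int.ofNat 1, Int.negSucc 0, Int.ofNat 1],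
  [Int.ofNat 1, Int.negSucc 0, Int.ofNat 1, Int.ofNat 1, Int.ofNat 1, Int.ofNat 1, Int.negSucc 0, Int.ofNat 1, Int.negSucc 0, Int.ofNat 1, Int.negSucc 0, Int.negSucc 0, Int.ofNat 1, Int.negSucc 0, Int.negSucc 0, Int.negSucc 0, Int.ofNat 1, Int.ofNat 3, Int.ofNat 1, Int.negSucc 0, Int.ofNat 1, Int.ofNat 1, Int.negSucc 0, Int.negSucc 0],
  [Int.ofNat 1, Int.ofNat 1, Int.negSucc 0, Int.ofNat 1, Int.ofNat 1, Int.ofNat 1, Int.negSucc 0, Int.ofNat 1, Int.ofNat 1, Int.ofNat 1, Int.ofNat 1, Int.negSucc 0, Int.negSucc 0, Int.ofNat 1, Int.ofNat 3, Int.negSucc 0, Int.negSucc 0, Int.negSucc 0, Int.ofNat 1, Int.negSucc 0, Int.negSucc 0, Int.ofNat 1, Int.negSucc 0, Int.negSucc 0],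
  [Int.negSucc 0, Int.negSucc 0, Int.ofNat 1, Int.negSucc 0, Int.ofNat 1, Int.negSucc 0, Int.negSucc 0, Int.ofNat 1, Int.ofNat 1, Int.ofNat 1, Int.ofNat 1, Int.negSucc 0, Int.negSucc 0, Int.ofNat 1, Int.ofNat 1, Int.negSucc 0, Int.negSucc 0, Int.negSucc 2, Int.ofNat 1, Int.negSucc 0, Int.negSucc 0, Int.ofNat 1, Int.negSucc 0, Int.ofNat 1],
  [Int.negSucc 0, Int.ofNat 1, Int.negSucc 0, Int.negSucc 0, Int.negSucc 0, Int.ofNat 1, Int.negSucc 0, Int.ofNat 1, Int.negSucc 0, Int.negSucc 0, Int.ofNat 1, Int.ofNat 1, Int.ofNat 1, Int.ofNat 1, Int.negSucc 0, Int.negSucc 0, Int.ofNat 1, Int.ofNat 1, Int.negSucc 0, Int.negSucc 0, Int.negSucc 2, Int.ofNat 1, Int.negSucc 0, Int.ofNat 1],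
  [Int.ofNat 1, Int.negSucc 0, Int.ofNat 1, Int.negSucc 0, Int.negSucc 0, Int.ofNat 1, Int.negSucc 0, Int.ofNat 1, Int.negSucc 0, Int.ofNat 1, Int.ofNat 3, Int.ofNat 1, Int.ofNat 1, Int.ofNat 1, Int.negSucc 0, Int.ofNat 1, Int.ofNat 1, Int.ofNat 1, Int.negSucc 0, Int.negSucc 0, Int.negSucc 0, Int.ofNat 1, Int.negSucc 0, Int.negSucc 0],
  [Int.negSucc 0, Int.ofNat 1, Int.negSucc 0, Int.negSucc 0, Int.ofNat 1, Int.negSucc 0, Int.ofNat 1, Int.negSucc 0, Int.ofNat 1, Int.ofNat 3, Int.ofNat 1, Int.ofNat 1, Int.ofNat 1, Int.negSucc 0, Int.ofNat 1, Int.ofNat 1, Int.ofNat 1, Int.negSucc 0, Int.negSucc 0, Int.negSucc 0, Int.ofNat 1, Int.negSucc 0, Int.ofNat 1, Int.negSucc 0],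
  [Int.ofNat 1, Int.ofNat 1, Int.ofNat 1, Int.negSucc 0, Int.ofNat 1, Int.negSucc 0, Int.ofNat 1, Int.ofNat 1, Int.ofNat 1, Int.negSucc 2, Int.negSucc 0, Int.negSucc 0, Int.ofNat 1, Int.negSucc 0, Int.ofNat 1, Int.ofNat 1, Int.ofNat 1, Int.negSucc 0, Int.ofNat 1, Int.negSucc 0, Int.ofNat 1, Int.ofNat 1, Int.ofNat 1, Int.negSucc 0],
  [Int.ofNat 1, Int.ofNat 1, Int.ofNat 1, Int.negSucc 0, Int.ofNat 1, Int.negSucc 0, Int.ofNat 1, Int.ofNat 1, Int.negSucc 2, Int.ofNat 1, Int.ofNat 1, Int.ofNat 1, Int.negSucc 0, Int.ofNat 1, Int.negSucc 0, Int.ofNat 1, Int.ofNat 1, Int.ofNat 1, Int.ofNat 1, Int.negSucc 0, Int.negSucc 0, Int.ofNat 1, Int.negSucc 0, Int.negSucc 0],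
  [Int.negSucc 0, Int.ofNat 1, Int.negSucc 0, Int.negSucc 0, Int.ofNat 1, Int.negSucc 0, Int.ofNat 1, Int.negSucc 0, Int.negSucc 2, Int.negSucc 0, Int.negSucc 0, Int.negSucc 0, Int.negSucc 0, Int.ofNat 1, Int.negSucc 0, Int.ofNat 1, Int.ofNat 1, Int.ofNat 1, Int.negSucc 0, Int.negSucc 0, Int.negSucc 0, Int.negSucc 0, Int.negSucc 0, Int.negSucc 0],
  [Int.negSucc 0, Int.negSucc 0, Int.ofNat 1, Int.negSucc 0, Int.negSucc 0, Int.ofNat 1, Int.negSucc 0, Int.ofNat 1, Int.negSucc 0, Int.negSucc 2, Int.negSucc 0, Int.negSucc 0, Int.negSucc 0, Int.negSucc 0, Int.ofNat 1, Int.negSucc 0, Int.ofNat 1, Int.ofNat 1, Int.ofNat 1, Int.negSucc 0, Int.negSucc 0, Int.negSucc 0, Int.negSucc 0, Int.negSucc 0],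
  [Int.ofNat 0, Int.ofNat 0, Int.negSucc 1, Int.negSucc 1, Int.ofNat 0, Int.ofNat 0, Int.ofNat 0, Int.ofNat 2, Int.ofNat 0, Int.ofNat 0, Int.ofNat 2, Int.ofNat 0, Int.ofNat 0, Int.ofNat 0, Int.ofNat 0, Int.ofNat 2, Int.ofNat 2, Int.ofNat 0, Int.ofNat 2, Int.ofNat 0, Int.ofNat 2, Int.ofNat 0, Int.ofNat 0, Int.ofNat 0],
  [Int.negSucc 1, Int.ofNat 0, Int.ofNat 0, Int.ofNat 0, Int.ofNat 2, Int.ofNat 0, Int.ofNat 0, Int.ofNat 2, Int.ofNat 0, Int.ofNat 0, Int.ofNat 0, Int.ofNat 0, Int.ofNat 2, Int.ofNat 2, Int.ofNat 0, Int.ofNat 2, Int.ofNat 0, Int.ofNat 2, Int.ofNat 0, Int.ofNat 0, Int.ofNat 0, Int.ofNat 0, Int.negSucc 1, Int.ofNat 0],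
  [Int.ofNat 1, Int.negSucc 0, Int.negSucc 0, Int.negSucc 0, Int.ofNat 1, Int.negSucc 0, Int.negSucc 0, Int.ofNat 1, Int.negSucc 0, Int.negSucc 0, Int.negSucc 0, Int.negSucc 0, Int.ofNat 1, Int.ofNat 1, Int.negSucc 0, Int.ofNat 1, Int.negSucc 0, Int.ofNat 1, Int.negSucc 0, Int.negSucc 0, Int.negSucc 0, Int.negSucc 0, Int.negSucc 2, Int.negSucc 0],
  [Int.ofNat 1, Int.negSucc 0, Int.ofNat 1, Int.negSucc 0, Int.negSucc 0, Int.ofNat 1, Int.negSucc 0, Int.negSucc 0, Int.ofNat 1, Int.ofNat 1, Int.negSucc 0, Int.ofNat 1, Int.negSucc 0, Int.negSucc 0, Int.negSucc 2, Int.ofNat 1, Int.negSucc 0, Int.negSucc 0, Int.negSucc 0, Int.negSucc 0, Int.negSucc 0, Int.negSucc 0, Int.negSucc 0, Int.negSucc 0],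
  [Int.negSucc 0, Int.ofNat 1, Int.negSucc 0, Int.ofNat 1, Int.ofNat 1, Int.ofNat 3, Int.ofNat 1, Int.ofNat 1, Int.ofNat 1, Int.ofNat 1, Int.negSucc 0, Int.ofNat 1, Int.negSucc 0, Int.ofNat 1, Int.negSucc 0, Int.ofNat 1, Int.ofNat 1, Int.ofNat 1, Int.negSucc 0, Int.ofNat 1, Int.negSucc 0, Int.ofNat 1, Int.ofNat 1, Int.ofNat 1],
  [Int.negSucc 0, Int.ofNat 1, Int.ofNat 1, Int.ofNat 1, Int.ofNat 1, Int.negSucc 2, Int.negSucc 0, Int.ofNat 1, Int.ofNat 1, Int.negSucc 0, Int.ofNat 1, Int.ofNat 1, Int.negSucc 0, Int.ofNat 1, Int.negSucc 0, Int.negSucc 0, Int.ofNat 1, Int.ofNat 1, Int.ofNat 1, Int.ofNat 1, Int.negSucc 0, Int.ofNat 1, Int.negSucc 0, Int.ofNat 1],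
  [Int.ofNat 1, Int.ofNat 1, Int.ofNat 1, Int.ofNat 1, Int.negSucc 0, Int.negSucc 0, Int.ofNat 1, Int.ofNat 1, Int.negSucc 2, Int.negSucc 0, Int.ofNat 1, Int.ofNat 1, Int.negSucc 0, Int.ofNat 1, Int.ofNat 1, Int.ofNat 1, Int.ofNat 1, Int.negSucc 0, Int.negSucc 0, Int.ofNat 1, Int.negSucc 0, Int.ofNat 1, Int.negSucc 0, Int.ofNat 1],
  [Int.negSucc 0, Int.negSucc 0, Int.negSucc 0, Int.negSucc 0, Int.ofNat 1, Int.negSucc 0, Int.negSucc 0, Int.ofNat 1, Int.ofNat 3, Int.ofNat 1, Int.ofNat 1, Int.ofNat 1, Int.ofNat 1, Int.negSucc 0, Int.ofNat 1, Int.ofNat 1, Int.negSucc 0, Int.negSucc 0, Int.ofNat 1, Int.ofNat 1, Int.negSucc 0, Int.ofNat 1, Int.negSucc 0, Int.ofNat 1],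
  [Int.ofNat 1, Int.negSucc 0, Int.ofNat 1, Int.ofNat 1, Int.negSucc 0, Int.ofNat 1, Int.ofNat 1, Int.negSucc 0, Int.negSucc 0, Int.negSucc 0, Int.negSucc 0, Int.negSucc 0, Int.ofNat 1, Int.ofNat 1, Int.ofNat 1, Int.negSucc 0, Int.ofNat 1, Int.ofNat 1, Int.ofNat 1, Int.negSucc 0, Int.ofNat 3, Int.ofNat 1, Int.negSucc 0, Int.negSucc 0],
  [Int.negSucc 0, Int.negSucc 0, Int.negSucc 0, Int.ofNat 1, Int.negSucc 0, Int.ofNat 1, Int.ofNat 1, Int.ofNat 1, Int.negSucc 0, Int.ofNat 1, Int.ofNat 1, Int.ofNat 1, Int.ofNat 1, Int.ofNat 1, Int.ofNat 1, Int.negSucc 0, Int.ofNat 1, Int.ofNat 1, Int.negSucc 0, Int.negSucc 0, Int.ofNat 3, Int.negSucc 0, Int.negSucc 0, Int.negSucc 0],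
  [Int.negSucc 0, Int.negSucc 0, Int.negSucc 0, Int.negSucc 0, Int.ofNat 1, Int.negSucc 0, Int.ofNat 1, Int.ofNat 1, Int.ofNat 1, Int.negSucc 0, Int.ofNat 1, Int.ofNat 1, Int.ofNat 1, Int.ofNat 1, Int.ofNat 1, Int.ofNat 1, Int.negSucc 0, Int.ofNat 1, Int.ofNat 1, Int.negSucc 0, Int.negSucc 0, Int.ofNat 3, Int.negSucc 0, Int.negSucc 0],
  [Int.negSucc 0, Int.negSucc 0, Int.negSucc 0, Int.negSucc 0, Int.ofNat 1, Int.negSucc 0, Int.negSucc 0, Int.negSucc 0, Int.negSucc 0, Int.negSucc 0, Int.ofNat 1, Int.negSucc 0, Int.negSucc 0, Int.ofNat 1, Int.ofNat 1, Int.ofNat 1, Int.negSucc 0, Int.ofNat 1, Int.negSucc 0, Int.negSucc 2, Int.negSucc 0, Int.ofNat 1, Int.negSucc 0, Int.negSucc 0],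
  [Int.negSucc 0, Int.ofNat 1, Int.negSucc 0, Int.negSucc 0, Int.negSucc 0, Int.negSucc 0, Int.negSucc 0, Int.ofNat 1, Int.negSucc 0, Int.negSucc 0, Int.ofNat 1, Int.ofNat 1, Int.ofNat 1, Int.negSucc 0, Int.ofNat 1, Int.negSucc 0, Int.negSucc 2, Int.negSucc 0, Int.ofNat 1, Int.negSucc 0, Int.negSucc 0, Int.negSucc 0, Int.negSucc 0, Int.negSucc 0],
  [Int.ofNat 0, Int.negSucc 1, Int.ofNat 0, Int.ofNat 0, Int.ofNat 2, Int.ofNat 0, Int.ofNat 0, Int.ofNat 2, Int.negSucc 1, Int.ofNat 0, Int.ofNat 2, Int.ofNat 0, Int.ofNat 0, Int.ofNat 2, Int.ofNat 2, Int.ofNat 0, Int.ofNat 0, Int.ofNat 0, Int.ofNat 0, Int.ofNat 0, Int.ofNat 0, Int.ofNat 0, Int.ofNat 2, Int.ofNat 0],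
  [Int.ofNat 0, Int.ofNat 0, Int.ofNat 2, Int.ofNat 0, Int.ofNat 0, Int.ofNat 2, Int.ofNat 0, Int.ofNat 2, Int.ofNat 0, Int.ofNat 2, Int.ofNat 0, Int.ofNat 0, Int.ofNat 0, Int.ofNat 0, Int.ofNat 2, Int.ofNat 0, Int.negSucc 1, Int.ofNat 2, Int.negSucc 1, Int.ofNat 0, Int.ofNat 0, Int.ofNat 0, Int.ofNat 0, Int.ofNat 0],
  [Int.ofNat 1, Int.ofNat 1, Int.negSucc 0, Int.negSucc 2, Int.ofNat 1, Int.negSucc 0, Int.negSucc 0, Int.ofNat 1, Int.ofNat 1, Int.ofNat 1, Int.negSucc 0, Int.ofNat 1, Int.ofNat 1, Int.ofNat 1, Int.negSucc 0, Int.negSucc 0, Int.negSucc 0, Int.negSucc 0, Int.negSucc 0, Int.negSucc 0, Int.negSucc 0, Int.negSucc 0, Int.ofNat 1, Int.ofNat 1],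
  [Int.ofNat 1, Int.ofNat 1, Int.ofNat 1, Int.negSucc 2, Int.ofNat 1, Int.ofNat 1, Int.ofNat 1, Int.ofNat 1, Int.ofNat 1, Int.negSucc 0, Int.ofNat 1, Int.ofNat 1, Int.ofNat 1, Int.ofNat 1, Int.negSucc 0, Int.ofNat 1, Int.negSucc 0, Int.negSucc 0, Int.ofNat 1, Int.negSucc 0, Int.negSucc 0, Int.negSucc 0, Int.negSucc 0, Int.ofNat 1],
  [Int.negSucc 0, Int.ofNat 1, Int.ofNat 1, Int.ofNat 1, Int.ofNat 1, Int.ofNat 1, Int.negSucc 0, Int.ofNat 1, Int.negSucc 2, Int.negSucc 0, Int.negSucc 0, Int.negSucc 0, Int.ofNat 1, Int.negSucc 0, Int.ofNat 1, Int.negSucc 0, Int.ofNat 1, Int.negSucc 0, Int.ofNat 1, Int.ofNat 1, Int.ofNat 1, Int.ofNat 1, Int.ofNat 1, Int.ofNat 1],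
  [Int.negSucc 0, Int.ofNat 1, Int.negSucc 0, Int.ofNat 1, Int.ofNat 1, Int.negSucc 0, Int.ofNat 1, Int.ofNat 1, Int.negSucc 2, Int.ofNat 1, Int.ofNat 1, Int.negSucc 0, Int.ofNat 1, Int.negSucc 0, Int.ofNat 1, Int.ofNat 1, Int.ofNat 1, Int.negSucc 0, Int.negSucc 0, Int.ofNat 1, Int.ofNat 1, Int.ofNat 1, Int.negSucc 0, Int.ofNat 1],
  [Int.ofNat 1, Int.negSucc 0, Int.ofNat 1, Int.ofNat 1, Int.ofNat 1, Int.negSucc 0, Int.negSucc 0, Int.negSucc 0, Int.negSucc 0, Int.negSucc 0, Int.negSucc 0, Int.ofNat 1, Int.ofNat 3, Int.negSucc 0, Int.ofNat 1, Int.negSucc 0, Int.ofNat 1, Int.negSucc 0, Int.ofNat 1, Int.negSucc 0, Int.negSucc 0, Int.negSucc 0, Int.negSucc 0, Int.negSucc 0],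
  [Int.ofNat 1, Int.ofNat 1, Int.negSucc 0, Int.ofNat 1, Int.ofNat 1, Int.negSucc 0, Int.negSucc 0, Int.negSucc 0, Int.ofNat 1, Int.ofNat 3, Int.negSucc 0, Int.negSucc 0, Int.negSucc 0, Int.negSucc 0, Int.negSucc 0, Int.negSucc 0, Int.negSucc 0, Int.ofNat 1, Int.ofNat 1, Int.negSucc 0, Int.negSucc 0, Int.negSucc 0, Int.ofNat 1, Int.negSucc 0],
  [Int.negSucc 0, Int.negSucc 0, Int.ofNat 1, Int.ofNat 1, Int.ofNat 1, Int.negSucc 0, Int.ofNat 1, Int.ofNat 1, Int.ofNat 1, Int.ofNat 3, Int.negSucc 0, Int.negSucc 0, Int.negSucc 0, Int.negSucc 0, Int.negSucc 0, Int.negSucc 0, Int.negSucc 0, Int.ofNat 1, Int.ofNat 1, Int.ofNat 1, Int.negSucc 0, Int.ofNat 1, Int.ofNat 1, Int.ofNat 1],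
  [Int.negSucc 0, Int.ofNat 1, Int.ofNat 1, Int.negSucc 0, Int.negSucc 0, Int.ofNat 1, Int.ofNat 1, Int.ofNat 1, Int.negSucc 0, Int.ofNat 1, Int.ofNat 1, Int.ofNat 1, Int.ofNat 3, Int.negSucc 0, Int.negSucc 0, Int.negSucc 0, Int.negSucc 0, Int.negSucc 0, Int.negSucc 0, Int.negSucc 0, Int.ofNat 1, Int.ofNat 1, Int.ofNat 1, Int.ofNat 1],
  [Int.ofNat 2, Int.ofNat 0, Int.ofNat 0, Int.ofNat 0, Int.ofNat 0, Int.ofNat 2, Int.ofNat 0, Int.ofNat 0, Int.negSucc 1, Int.ofNat 0, Int.ofNat 0, Int.ofNat 0, Int.ofNat 2, Int.ofNat 0, Int.ofNat 0, Int.negSucc 1, Int.ofNat 0, Int.ofNat 0, Int.negSucc 1, Int.negSucc 1, Int.ofNat 0, Int.ofNat 0, Int.ofNat 2, Int.ofNat 0],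
  [Int.ofNat 0, Int.ofNat 0, Int.ofNat 0, Int.ofNat 0, Int.ofNat 2, Int.ofNat 0, Int.ofNat 0, Int.negSucc 1, Int.ofNat 0, Int.ofNat 0, Int.ofNat 0, Int.ofNat 2, Int.ofNat 0, Int.ofNat 0, Int.negSucc 1, Int.ofNat 0, Int.ofNat 0, Int.negSucc 1, Int.negSucc 1, Int.ofNat 0, Int.ofNat 0, Int.ofNat 2, Int.ofNat 2, Int.ofNat 0],
  [Int.ofNat 0, Int.ofNat 0, Int.ofNat 0, Int.ofNat 0, Int.ofNat 2, Int.ofNat 0, Int.ofNat 0, Int.ofNat 2, Int.ofNat 0, Int.ofNat 0, Int.ofNat 0, Int.negSucc 1, Int.ofNat 0, Int.ofNat 0, Int.negSucc 1, Int.ofNat 0, Int.ofNat 0, Int.negSucc 1, Int.ofNat 2, Int.ofNat 0, Int.ofNat 0, Int.negSucc 1, Int.ofNat 2, Int.ofNat 0],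
  [Int.ofNat 0, Int.ofNat 0, Int.ofNat 2, Int.ofNat 0, Int.ofNat 0, Int.ofNat 0, Int.ofNat 2, Int.ofNat 0, Int.ofNat 0, Int.ofNat 0, Int.negSucc 1, Int.negSucc 1, Int.ofNat 0, Int.ofNat 0, Int.ofNat 0, Int.ofNat 0, Int.ofNat 0, Int.ofNat 2, Int.ofNat 0, Int.negSucc 1, Int.ofNat 0, Int.ofNat 2, Int.negSucc 1, Int.ofNat 0],
  [Int.ofNat 0, Int.ofNat 0, Int.negSucc 1, Int.ofNat 0, Int.ofNat 0, Int.ofNat 0, Int.ofNat 2, Int.ofNat 0, Int.ofNat 0, Int.ofNat 0, Int.ofNat 2, Int.ofNat 2, Int.ofNat 0, Int.ofNat 0, Int.ofNat 0, Int.ofNat 0, Int.ofNat 0, Int.ofNat 2, Int.ofNat 0, Int.negSucc 1, Int.ofNat 0, Int.negSucc 1, Int.negSucc 1, Int.ofNat 0],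
  [Int.negSucc 1, Int.ofNat 0, Int.ofNat 0, Int.negSucc 1, Int.ofNat 0, Int.ofNat 0, Int.ofNat 0, Int.ofNat 2, Int.ofNat 0, Int.ofNat 0, Int.ofNat 0, Int.ofNat 2, Int.ofNat 2, Int.ofNat 0, Int.ofNat 0, Int.ofNat 0, Int.ofNat 0, Int.ofNat 0, Int.ofNat 2, Int.ofNat 0, Int.negSucc 1, Int.ofNat 0, Int.negSucc 1, Int.ofNat 0],
  [Int.ofNat 1, Int.negSucc 0, Int.negSucc 0, Int.negSucc 0, Int.ofNat 1, Int.ofNat 1, Int.negSucc 0, Int.ofNat 1, Int.negSucc 2, Int.ofNat 1, Int.ofNat 1, Int.negSucc 0, Int.negSucc 0, Int.ofNat 1, Int.ofNat 1, Int.ofNat 1, Int.ofNat 1, Int.ofNat 1, Int.negSucc 0, Int.negSucc 0, Int.negSucc 0, Int.negSucc 0, Int.negSucc 0, Int.negSucc 0],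
  [Int.negSucc 0, Int.ofNat 1, Int.ofNat 1, Int.negSucc 0, Int.ofNat 1, Int.negSucc 2, Int.ofNat 1, Int.ofNat 1, Int.negSucc 0, Int.negSucc 0, Int.ofNat 1, Int.ofNat 1, Int.ofNat 1, Int.ofNat 1, Int.ofNat 1, Int.negSucc 0, Int.negSucc 0, Int.negSucc 0, Int.negSucc 0, Int.negSucc 0, Int.ofNat 1, Int.negSucc 0, Int.negSucc 0, Int.negSucc 0],
  [Int.ofNat 1, Int.negSucc 0, Int.negSucc 0, Int.ofNat 1, Int.ofNat 1, Int.negSucc 0, Int.ofNat 1, Int.ofNat 1, Int.negSucc 0, Int.negSucc 0, Int.ofNat 1, Int.ofNat 1, Int.ofNat 1, Int.ofNat 1, Int.ofNat 3, Int.negSucc 0, Int.negSucc 0, Int.ofNat 1, Int.negSucc 0, Int.negSucc 0, Int.ofNat 1, Int.negSucc 0, Int.negSucc 0, Int.ofNat 1],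
  [Int.ofNat 1, Int.ofNat 1, Int.ofNat 1, Int.ofNat 1, Int.negSucc 0, Int.ofNat 1, Int.negSucc 0, Int.ofNat 1, Int.ofNat 1, Int.ofNat 1, Int.ofNat 1, Int.ofNat 1, Int.negSucc 0, Int.negSucc 0, Int.negSucc 0, Int.negSucc 0, Int.negSucc 0, Int.ofNat 3, Int.negSucc 0, Int.ofNat 1, Int.negSucc 0, Int.negSucc 0, Int.negSucc 0, Int.ofNat 1],
  [Int.ofNat 1, Int.ofNat 1, Int.ofNat 1, Int.negSucc 0, Int.ofNat 1, Int.negSucc 0, Int.negSucc 0, Int.ofNat 1, Int.ofNat 1, Int.ofNat 1, Int.ofNat 1, Int.ofNat 1, Int.negSucc 0, Int.ofNat 1, Int.negSucc 2, Int.negSucc 0, Int.ofNat 1, Int.ofNat 1, Int.negSucc 0, Int.ofNat 1, Int.negSucc 0, Int.negSucc 0, Int.ofNat 1, Int.ofNat 1],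
  [Int.ofNat 1, Int.ofNat 1, Int.negSucc 0, Int.negSucc 0, Int.ofNat 1, Int.ofNat 1, Int.ofNat 1, Int.ofNat 1, Int.ofNat 1, Int.negSucc 0, Int.negSucc 0, Int.ofNat 1, Int.negSucc 0, Int.ofNat 1, Int.negSucc 2, Int.ofNat 1, Int.ofNat 1, Int.ofNat 1, Int.ofNat 1, Int.ofNat 1, Int.negSucc 0, Int.negSucc 0, Int.negSucc 0, Int.ofNat 1],
  [Int.negSucc 0, Int.ofNat 1, Int.ofNat 1, Int.ofNat 1, Int.negSucc 2, Int.ofNat 1, Int.negSucc 0, Int.negSucc 0, Int.ofNat 1, Int.negSucc 0, Int.ofNat 1, Int.ofNat 1, Int.ofNat 1, Int.ofNat 1, Int.ofNat 1, Int.ofNat 1, Int.ofNat 1, Int.negSucc 0, Int.negSucc 0, Int.negSucc 0, Int.ofNat 1, Int.ofNat 1, Int.negSucc 0, Int.ofNat 1],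
  [Int.ofNat 1, Int.negSucc 0, Int.negSucc 0, Int.negSucc 0, Int.ofNat 3, Int.ofNat 1, Int.ofNat 1, Int.negSucc 0, Int.negSucc 0, Int.ofNat 1, Int.ofNat 1, Int.ofNat 1, Int.negSucc 0, Int.negSucc 0, Int.ofNat 1, Int.ofNat 1, Int.negSucc 0, Int.negSucc 0, Int.ofNat 1, Int.negSucc 0, Int.ofNat 1, Int.ofNat 1, Int.negSucc 0, Int.ofNat 1],
  [Int.ofNat 1, Int.negSucc 0, Int.ofNat 1, Int.ofNat 1, Int.negSucc 0, Int.ofNat 1, Int.negSucc 0, Int.negSucc 0, Int.ofNat 1, Int.ofNat 1, Int.negSucc 0, Int.negSucc 0, Int.ofNat 1, Int.negSucc 0, Int.ofNat 1, Int.negSucc 0, Int.ofNat 1, Int.ofNat 3, Int.ofNat 1, Int.ofNat 1, Int.negSucc 0, Int.negSucc 0, Int.negSucc 0, Int.ofNat 1],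
  [Int.negSucc 0, Int.negSucc 0, Int.negSucc 0, Int.ofNat 1, Int.negSucc 0, Int.ofNat 1, Int.negSucc 0, Int.ofNat 1, Int.ofNat 1, Int.negSucc 0, Int.ofNat 1, Int.ofNat 1, Int.ofNat 1, Int.negSucc 0, Int.ofNat 1, Int.negSucc 0, Int.ofNat 1, Int.ofNat 3, Int.negSucc 0, Int.ofNat 1, Int.negSucc 0, Int.ofNat 1, Int.negSucc 0, Int.ofNat 1],
  [Int.negSucc 0, Int.negSucc 0, Int.negSucc 0, Int.negSucc 0, Int.ofNat 1, Int.negSucc 0, Int.ofNat 1, Int.negSucc 0, Int.ofNat 1, Int.ofNat 1, Int.negSucc 0, Int.ofNat 1, Int.ofNat 1, Int.ofNat 1, Int.negSucc 0, Int.ofNat 1, Int.negSucc 0, Int.ofNat 1, Int.ofNat 3, Int.negSucc 0, Int.ofNat 1, Int.negSucc 0, Int.ofNat 1, Int.ofNat 1],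
  [Int.ofNat 0, Int.ofNat 0, Int.ofNat 0, Int.ofNat 0, Int.ofNat 0, Int.ofNat 0, Int.ofNat 2, Int.ofNat 0, Int.negSucc 1, Int.ofNat 0, Int.negSucc 1, Int.negSucc 1, Int.negSucc 1, Int.ofNat 0, Int.ofNat 0, Int.ofNat 0, Int.negSucc 1, Int.ofNat 2, Int.ofNat 0, Int.ofNat 0, Int.ofNat 0, Int.ofNat 0, Int.ofNat 0, Int.negSucc 1],
  [Int.ofNat 0, Int.ofNat 0, Int.ofNat 0, Int.ofNat 2, Int.ofNat 0, Int.negSucc 1, Int.ofNat 0, Int.negSucc 1, Int.negSucc 1, Int.negSucc 1, Int.ofNat 0, Int.ofNat 0, Int.ofNat 0, Int.negSucc 1, Int.ofNat 2, Int.ofNat 0, Int.ofNat 0, Int.ofNat 0, Int.ofNat 0, Int.ofNat 0, Int.ofNat 0, Int.ofNat 0, Int.ofNat 0, Int.negSucc 1],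
  [Int.negSucc 0, Int.negSucc 0, Int.negSucc 0, Int.ofNat 1, Int.ofNat 1, Int.negSucc 2, Int.ofNat 1, Int.negSucc 0, Int.negSucc 0, Int.negSucc 0, Int.ofNat 1, Int.ofNat 1, Int.ofNat 1, Int.negSucc 0, Int.ofNat 1, Int.ofNat 1, Int.ofNat 1, Int.negSucc 0, Int.ofNat 1, Int.ofNat 1, Int.ofNat 1, Int.ofNat 1, Int.ofNat 1, Int.ofNat 1],
  [Int.negSucc 0, Int.ofNat 1, Int.ofNat 1, Int.ofNat 1, Int.ofNat 1, Int.negSucc 0, Int.negSucc 0, Int.ofNat 1, Int.ofNat 1, Int.negSucc 0, Int.ofNat 1, Int.negSucc 0, Int.negSucc 0, Int.ofNat 1, Int.ofNat 1, Int.ofNat 1, Int.negSucc 0, Int.ofNat 1, Int.negSucc 0, Int.ofNat 1, Int.ofNat 1, Int.negSucc 2, Int.ofNat 1, Int.ofNat 1],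
  [Int.ofNat 2, Int.ofNat 0, Int.ofNat 0, Int.ofNat 0, Int.ofNat 0, Int.negSucc 1, Int.ofNat 0, Int.ofNat 2, Int.ofNat 2, Int.negSucc 1, Int.ofNat 0, Int.ofNat 0, Int.ofNat 0, Int.ofNat 0, Int.ofNat 0, Int.ofNat 0, Int.negSucc 1, Int.ofNat 0, Int.ofNat 0, Int.ofNat 2, Int.ofNat 0, Int.negSucc 1, Int.ofNat 0, Int.ofNat 0],
  [Int.ofNat 2, Int.ofNat 0, Int.ofNat 0, Int.ofNat 0, Int.ofNat 0, Int.ofNat 2, Int.ofNat 0, Int.ofNat 2, Int.ofNat 2, Int.ofNat 2, Int.ofNat 0, Int.ofNat 0, Int.ofNat 0, Int.ofNat 0, Int.ofNat 0, Int.ofNat 0, Int.negSucc 1, Int.ofNat 0, Int.ofNat 0, Int.ofNat 2, Int.ofNat 0, Int.negSucc 1, Int.ofNat 0, Int.ofNat 0],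
  [Int.negSucc 1, Int.ofNat 0, Int.ofNat 0, Int.ofNat 2, Int.ofNat 0, Int.ofNat 0, Int.ofNat 0, Int.ofNat 0, Int.ofNat 0, Int.ofNat 0, Int.ofNat 0, Int.negSucc 1, Int.ofNat 0, Int.ofNat 0, Int.ofNat 2, Int.ofNat 2, Int.ofNat 0, Int.ofNat 2, Int.ofNat 0, Int.ofNat 2, Int.ofNat 0, Int.ofNat 0, Int.ofNat 2, Int.ofNat 0],
  [Int.negSucc 1, Int.ofNat 0, Int.ofNat 0, Int.ofNat 2, Int.ofNat 0, Int.ofNat 0, Int.ofNat 0, Int.ofNat 0, Int.ofNat 0, Int.ofNat 0, Int.ofNat 0, Int.negSucc 1, Int.ofNat 0, Int.ofNat 0, Int.ofNat 2, Int.negSucc 1, Int.ofNat 0, Int.ofNat 2, Int.ofNat 0, Int.ofNat 2, Int.ofNat 0, Int.ofNat 0, Int.negSucc 1, Int.ofNat 0],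
  [Int.ofNat 1, Int.negSucc 0, Int.negSucc 0, Int.negSucc 0, Int.ofNat 1, Int.negSucc 2, Int.negSucc 0, Int.negSucc 0, Int.ofNat 1, Int.ofNat 1, Int.ofNat 1, Int.negSucc 0, Int.ofNat 1, Int.ofNat 1, Int.negSucc 0, Int.negSucc 0, Int.ofNat 1, Int.negSucc 0, Int.ofNat 1, Int.ofNat 1, Int.ofNat 1, Int.negSucc 0, Int.negSucc 0, Int.negSucc 0],
  [Int.ofNat 1, Int.ofNat 1, Int.negSucc 0, Int.negSucc 0, Int.negSucc 0, Int.negSucc 0, Int.negSucc 0, Int.negSucc 2, Int.ofNat 1, Int.ofNat 1, Int.negSucc 0, Int.ofNat 1, Int.ofNat 1, Int.ofNat 1, Int.negSucc 0, Int.negSucc 0, Int.ofNat 1, Int.negSucc 0, Int.ofNat 1, Int.negSucc 0, Int.ofNat 1, Int.ofNat 1, Int.negSucc 0, Int.negSucc 0],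
  [Int.negSucc 0, Int.negSucc 0, Int.ofNat 1, Int.ofNat 1, Int.negSucc 0, Int.ofNat 1, Int.ofNat 1, Int.negSucc 0, Int.negSucc 0, Int.ofNat 1, Int.negSucc 0, Int.negSucc 0, Int.negSucc 0, Int.ofNat 1, Int.ofNat 1, Int.negSucc 0, Int.ofNat 1, Int.ofNat 1, Int.negSucc 0, Int.ofNat 1, Int.ofNat 1, Int.ofNat 3, Int.negSucc 0, Int.ofNat 1],
  [Int.ofNat 1, Int.ofNat 3, Int.negSucc 0, Int.negSucc 0, Int.negSucc 0, Int.ofNat 1, Int.ofNat 1, Int.negSucc 0, Int.ofNat 1, Int.ofNat 1, Int.negSucc 0, Int.negSucc 0, Int.ofNat 1, Int.negSucc 0, Int.negSucc 0, Int.negSucc 0, Int.ofNat 1, Int.ofNat 1, Int.negSucc 0, Int.ofNat 1, Int.ofNat 1, Int.negSucc 0, Int.ofNat 1, Int.ofNat 1],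
  [Int.ofNat 1, Int.negSucc 0, Int.ofNat 3, Int.negSucc 0, Int.negSucc 0, Int.ofNat 1, Int.ofNat 1, Int.negSucc 0, Int.ofNat 1, Int.ofNat 1, Int.negSucc 0, Int.negSucc 0, Int.ofNat 1, Int.negSucc 0, Int.negSucc 0, Int.negSucc 0, Int.ofNat 1, Int.ofNat 1, Int.negSucc 0, Int.ofNat 1, Int.ofNat 1, Int.negSucc 0, Int.ofNat 1, Int.ofNat 1],
  [Int.negSucc 0, Int.ofNat 3, Int.negSucc 0, Int.negSucc 0, Int.ofNat 1, Int.ofNat 1, Int.negSucc 0, Int.ofNat 1, Int.ofNat 1, Int.negSucc 0, Int.negSucc 0, Int.ofNat 1, Int.negSucc 0, Int.negSucc 0, Int.negSucc 0, Int.ofNat 1, Int.ofNat 1, Int.negSucc 0, Int.ofNat 1, Int.ofNat 1, Int.negSucc 0, Int.ofNat 1, Int.ofNat 1, Int.ofNat 1],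
  [Int.ofNat 1, Int.ofNat 3, Int.ofNat 1, Int.negSucc 0, Int.ofNat 1, Int.ofNat 1, Int.negSucc 0, Int.negSucc 0, Int.ofNat 1, Int.ofNat 1, Int.ofNat 1, Int.negSucc 0, Int.negSucc 0, Int.negSucc 0, Int.negSucc 0, Int.ofNat 1, Int.ofNat 1, Int.negSucc 0, Int.negSucc 0, Int.ofNat 1, Int.negSucc 0, Int.negSucc 0, Int.ofNat 1, Int.ofNat 1],
  [Int.ofNat 1, Int.ofNat 1, Int.negSucc 0, Int.negSucc 0, Int.ofNat 3, Int.ofNat 1, Int.ofNat 1, Int.negSucc 0, Int.ofNat 1, Int.ofNat 1, Int.negSucc 0, Int.negSucc 0, Int.negSucc 0, Int.ofNat 1, Int.ofNat 1, Int.ofNat 1, Int.negSucc 0, Int.ofNat 1, Int.negSucc 0, Int.negSucc 0, Int.ofNat 1, Int.negSucc 0, Int.negSucc 0, Int.ofNat 1],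
  [Int.negSucc 0, Int.ofNat 1, Int.ofNat 1, Int.negSucc 0, Int.ofNat 3, Int.ofNat 1, Int.ofNat 1, Int.ofNat 1, Int.ofNat 1, Int.negSucc 0, Int.ofNat 1, Int.ofNat 1, Int.negSucc 0, Int.ofNat 1, Int.ofNat 1, Int.ofNat 1, Int.negSucc 0, Int.ofNat 1, Int.ofNat 1, Int.negSucc 0, Int.ofNat 1, Int.ofNat 1, Int.negSucc 0, Int.ofNat 1],
  [Int.negSucc 0, Int.negSucc 0, Int.ofNat 1, Int.ofNat 1, Int.negSucc 0, Int.ofNat 3, Int.ofNat 1, Int.ofNat 1, Int.ofNat 1, Int.ofNat 1, Int.negSucc 0, Int.ofNat 1, Int.ofNat 1, Int.negSucc 0, Int.ofNat 1, Int.ofNat 1, Int.ofNat 1, Int.negSucc 0, Int.ofNat 1, Int.ofNat 1, Int.negSucc 0, Int.ofNat 1, Int.ofNat 1, Int.ofNat 1],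
  [Int.ofNat 1, Int.ofNat 1, Int.negSucc 0, Int.negSucc 0, Int.negSucc 0, Int.ofNat 1, Int.negSucc 0, Int.negSucc 0, Int.negSucc 0, Int.ofNat 1, Int.negSucc 0, Int.negSucc 0, Int.negSucc 0, Int.negSucc 0, Int.negSucc 0, Int.ofNat 1, Int.ofNat 1, Int.negSucc 2, Int.negSucc 0, Int.negSucc 0, Int.negSucc 0, Int.negSucc 0, Int.ofNat 1, Int.negSucc 0],
  [Int.negSucc 0, Int.negSucc 0, Int.ofNat 1, Int.negSucc 0, Int.negSucc 0, Int.negSucc 0, Int.ofNat 1, Int.negSucc 0, Int.negSucc 0, Int.negSucc 0, Int.negSucc 0, Int.negSucc 0, Int.ofNat 1, Int.ofNat 1, Int.negSucc 2, Int.negSucc 0, Int.negSucc 0, Int.negSucc 0, Int.negSucc 0, Int.ofNat 1, Int.ofNat 1, Int.ofNat 1, Int.negSucc 0, Int.negSucc 0],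
  [Int.ofNat 0, Int.ofNat 0, Int.negSucc 1, Int.ofNat 2, Int.ofNat 0, Int.ofNat 2, Int.ofNat 0, Int.negSucc 1, Int.ofNat 0, Int.ofNat 0, Int.ofNat 0, Int.ofNat 0, Int.ofNat 2, Int.ofNat 2, Int.ofNat 0, Int.ofNat 0, Int.ofNat 0, Int.ofNat 2, Int.ofNat 0, Int.ofNat 0, Int.ofNat 2, Int.ofNat 0, Int.ofNat 0, Int.ofNat 0],
  [Int.ofNat 0, Int.ofNat 0, Int.ofNat 0, Int.ofNat 2, Int.ofNat 0, Int.negSucc 1, Int.negSucc 1, Int.ofNat 0, Int.ofNat 2, Int.ofNat 2, Int.ofNat 2, Int.ofNat 2, Int.ofNat 0, Int.ofNat 0, Int.ofNat 0, Int.ofNat 0, Int.ofNat 0, Int.ofNat 0, Int.ofNat 0, Int.ofNat 0, Int.ofNat 0, Int.ofNat 2, Int.ofNat 0, Int.ofNat 0],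
  [Int.ofNat 0, Int.ofNat 0, Int.ofNat 0, Int.ofNat 2, Int.ofNat 0, Int.negSucc 1, Int.negSucc 1, Int.ofNat 0, Int.ofNat 0, Int.ofNat 0, Int.ofNat 0, Int.ofNat 0, Int.negSucc 1, Int.ofNat 0, Int.ofNat 0, Int.negSucc 1, Int.ofNat 0, Int.ofNat 0, Int.negSucc 1, Int.ofNat 0, Int.negSucc 1, Int.ofNat 2, Int.ofNat 0, Int.ofNat 0],
  [Int.ofNat 0, Int.ofNat 0, Int.ofNat 0, Int.ofNat 2, Int.ofNat 0, Int.ofNat 2, Int.ofNat 2, Int.ofNat 0, Int.ofNat 0, Int.ofNat 0, Int.ofNat 0, Int.ofNat 0, Int.negSucc 1, Int.ofNat 0, Int.ofNat 0, Int.ofNat 2, Int.ofNat 0, Int.ofNat 0, Int.ofNat 2, Int.ofNat 0, Int.negSucc 1, Int.ofNat 2, Int.ofNat 0, Int.ofNat 0],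
  [Int.ofNat 0, Int.ofNat 0, Int.ofNat 0, Int.ofNat 0, Int.ofNat 0, Int.ofNat 2, Int.ofNat 2, Int.ofNat 2, Int.ofNat 2, Int.negSucc 1, Int.ofNat 0, Int.ofNat 0, Int.ofNat 2, Int.ofNat 0, Int.ofNat 0, Int.ofNat 2, Int.ofNat 0, Int.negSucc 1, Int.ofNat 0, Int.ofNat 0, Int.ofNat 0, Int.ofNat 0, Int.ofNat 0, Int.ofNat 0],
  [Int.ofNat 0, Int.ofNat 0, Int.ofNat 0, Int.ofNat 0, Int.ofNat 0, Int.ofNat 2, Int.negSucc 1, Int.ofNat 2, Int.negSucc 1, Int.ofNat 2, Int.ofNat 0, Int.ofNat 0, Int.negSucc 1, Int.ofNat 0, Int.ofNat 0, Int.ofNat 2, Int.ofNat 0, Int.negSucc 1, Int.ofNat 0, Int.ofNat 0, Int.ofNat 0, Int.ofNat 0, Int.ofNat 0, Int.ofNat 0],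
  [Int.ofNat 0, Int.ofNat 0, Int.ofNat 0, Int.ofNat 2, Int.negSucc 1, Int.ofNat 2, Int.ofNat 0, Int.ofNat 0, Int.ofNat 0, Int.ofNat 2, Int.ofNat 0, Int.ofNat 0, Int.ofNat 0, Int.ofNat 2, Int.ofNat 0, Int.ofNat 0, Int.ofNat 0, Int.ofNat 0, Int.ofNat 0, Int.negSucc 1, Int.negSucc 1, Int.negSucc 1, Int.ofNat 0, Int.ofNat 0],
  [Int.ofNat 0, Int.ofNat 0, Int.ofNat 0, Int.ofNat 2, Int.negSucc 1, Int.ofNat 2, Int.ofNat 0, Int.ofNat 0, Int.ofNat 0, Int.negSucc 1, Int.ofNat 0, Int.ofNat 0, Int.ofNat 0, Int.ofNat 2, Int.ofNat 0, Int.ofNat 0, Int.ofNat 0, Int.ofNat 0, Int.ofNat 0, Int.negSucc 1, Int.negSucc 1, Int.ofNat 2, Int.ofNat 0, Int.ofNat 0],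
  [Int.ofNat 0, Int.ofNat 0, Int.ofNat 0, Int.ofNat 0, Int.ofNat 2, Int.negSucc 1, Int.ofNat 2, Int.ofNat 0, Int.ofNat 0, Int.ofNat 0, Int.negSucc 1, Int.ofNat 0, Int.ofNat 0, Int.ofNat 0, Int.ofNat 2, Int.ofNat 0, Int.ofNat 0, Int.ofNat 0, Int.ofNat 0, Int.ofNat 0, Int.negSucc 1, Int.negSucc 1, Int.ofNat 2, Int.ofNat 0],
  [Int.ofNat 0, Int.ofNat 0, Int.ofNat 0, Int.ofNat 0, Int.ofNat 0, Int.negSucc 1, Int.ofNat 2, Int.ofNat 0, Int.ofNat 0, Int.ofNat 2, Int.ofNat 0, Int.ofNat 0, Int.ofNat 0, Int.negSucc 1, Int.ofNat 2, Int.ofNat 2, Int.negSucc 1, Int.ofNat 0, Int.ofNat 0, Int.ofNat 0, Int.ofNat 0, Int.negSucc 1, Int.ofNat 0, Int.ofNat 0],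
  [Int.ofNat 0, Int.ofNat 0, Int.negSucc 1, Int.ofNat 2, Int.ofNat 0, Int.ofNat 0, Int.ofNat 2, Int.ofNat 0, Int.ofNat 0, Int.ofNat 0, Int.negSucc 1, Int.ofNat 2, Int.ofNat 2, Int.negSucc 1, Int.ofNat 0, Int.ofNat 0, Int.ofNat 0, Int.ofNat 0, Int.negSucc 1, Int.ofNat 0, Int.ofNat 0, Int.ofNat 0, Int.ofNat 0, Int.ofNat 0],
  [Int.negSucc 0, Int.negSucc 0, Int.ofNat 1, Int.ofNat 1, Int.ofNat 1, Int.negSucc 0, Int.ofNat 1, Int.negSucc 0, Int.negSucc 0, Int.ofNat 1, Int.negSucc 0, Int.ofNat 1, Int.ofNat 1, Int.negSucc 0, Int.negSucc 0, Int.ofNat 1, Int.ofNat 1, Int.negSucc 0, Int.negSucc 2, Int.negSucc 0, Int.ofNat 1, Int.negSucc 0, Int.ofNat 1, Int.negSucc 0],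
  [Int.negSucc 0, Int.ofNat 1, Int.ofNat 1, Int.ofNat 1, Int.negSucc 2, Int.negSucc 0, Int.ofNat 1, Int.negSucc 0, Int.ofNat 1, Int.negSucc 0, Int.ofNat 1, Int.negSucc 0, Int.ofNat 1, Int.ofNat 1, Int.ofNat 1, Int.ofNat 1, Int.negSucc 0, Int.negSucc 0, Int.negSucc 0, Int.ofNat 1, Int.negSucc 0, Int.negSucc 0, Int.negSucc 0, Int.negSucc 0],
  [Int.ofNat 1, Int.negSucc 0, Int.negSucc 0, Int.ofNat 1, Int.negSucc 0, Int.negSucc 0, Int.ofNat 1, Int.negSucc 0, Int.ofNat 1, Int.negSucc 0, Int.ofNat 1, Int.negSucc 0, Int.ofNat 1, Int.ofNat 3, Int.ofNat 1, Int.ofNat 1, Int.ofNat 1, Int.negSucc 0, Int.negSucc 0, Int.ofNat 1, Int.negSucc 0, Int.negSucc 0, Int.ofNat 1, Int.ofNat 1],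
  [Int.ofNat 1, Int.negSucc 0, Int.ofNat 1, Int.ofNat 1, Int.negSucc 0, Int.ofNat 1, Int.negSucc 0, Int.negSucc 0, Int.ofNat 1, Int.ofNat 1, Int.negSucc 0, Int.negSucc 0, Int.ofNat 1, Int.ofNat 3, Int.ofNat 1, Int.negSucc 0, Int.ofNat 1, Int.negSucc 0, Int.ofNat 1, Int.ofNat 1, Int.negSucc 0, Int.negSucc 0, Int.negSucc 0, Int.ofNat 1],
  [Int.ofNat 1, Int.negSucc 0, Int.negSucc 0, Int.negSucc 0, Int.ofNat 1, Int.negSucc 0, Int.negSucc 0, Int.ofNat 1, Int.ofNat 1, Int.negSucc 0, Int.ofNat 1, Int.negSucc 0, Int.negSucc 0, Int.negSucc 0, Int.ofNat 1, Int.ofNat 1, Int.negSucc 0, Int.ofNat 1, Int.ofNat 1, Int.ofNat 1, Int.negSucc 0, Int.ofNat 3, Int.ofNat 1, Int.ofNat 1],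
  [Int.ofNat 1, Int.negSucc 0, Int.ofNat 1, Int.negSucc 0, Int.ofNat 1, Int.ofNat 1, Int.ofNat 1, Int.ofNat 1, Int.ofNat 1, Int.ofNat 1, Int.negSucc 0, Int.negSucc 0, Int.negSucc 0, Int.negSucc 0, Int.ofNat 1, Int.negSucc 0, Int.negSucc 0, Int.ofNat 1, Int.negSucc 0, Int.ofNat 1, Int.negSucc 0, Int.ofNat 3, Int.negSucc 0, Int.ofNat 1],
  [Int.ofNat 0, Int.ofNat 2, Int.ofNat 0, Int.negSucc 1, Int.ofNat 2, Int.ofNat 0, Int.negSucc 1, Int.negSucc 1, Int.ofNat 2, Int.ofNat 2, Int.ofNat 0, Int.ofNat 0, Int.ofNat 0, Int.ofNat 0, Int.ofNat 0, Int.ofNat 0, Int.ofNat 0, Int.ofNat 0, Int.ofNat 0, Int.negSucc 1, Int.ofNat 0, Int.ofNat 0, Int.ofNat 0, Int.ofNat 0],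
  [Int.ofNat 0, Int.ofNat 0, Int.negSucc 1, Int.negSucc 1, Int.ofNat 0, Int.ofNat 0, Int.ofNat 2, Int.ofNat 0, Int.ofNat 0, Int.ofNat 0, Int.negSucc 1, Int.negSucc 1, Int.ofNat 2, Int.ofNat 2, Int.ofNat 0, Int.ofNat 0, Int.ofNat 0, Int.ofNat 0, Int.ofNat 2, Int.ofNat 0, Int.ofNat 0, Int.ofNat 0, Int.ofNat 0, Int.ofNat 0],
  [Int.negSucc 0, Int.negSucc 0, Int.ofNat 1, Int.negSucc 0, Int.negSucc 0, Int.ofNat 1, Int.ofNat 1, Int.negSucc 0, Int.negSucc 0, Int.ofNat 1, Int.negSucc 0, Int.negSucc 2, Int.ofNat 1, Int.ofNat 1, Int.ofNat 1, Int.ofNat 1, Int.negSucc 0, Int.ofNat 1, Int.ofNat 1, Int.negSucc 0, Int.ofNat 1, Int.negSucc 0, Int.negSucc 0, Int.negSucc 0],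
  [Int.ofNat 1, Int.negSucc 0, Int.negSucc 0, Int.negSucc 0, Int.negSucc 0, Int.ofNat 1, Int.negSucc 0, Int.negSucc 0, Int.ofNat 1, Int.ofNat 1, Int.negSucc 0, Int.negSucc 0, Int.ofNat 1, Int.negSucc 0, Int.negSucc 2, Int.ofNat 1, Int.ofNat 1, Int.ofNat 1, Int.ofNat 1, Int.negSucc 0, Int.ofNat 1, Int.ofNat 1, Int.negSucc 0, Int.negSucc 0],
  [Int.negSucc 1, Int.ofNat 0, Int.ofNat 0, Int.ofNat 0, Int.ofNat 0, Int.ofNat 2, Int.ofNat 0, Int.ofNat 0, Int.ofNat 0, Int.ofNat 0, Int.negSucc 1, Int.negSucc 1, Int.ofNat 0, Int.ofNat 0, Int.negSucc 1, Int.ofNat 0, Int.ofNat 2, Int.ofNat 2, Int.ofNat 0, Int.ofNat 0, Int.ofNat 0, Int.ofNat 2, Int.ofNat 0, Int.ofNat 0],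
  [Int.ofNat 0, Int.ofNat 0, Int.ofNat 0, Int.ofNat 0, Int.ofNat 2, Int.ofNat 0, Int.ofNat 0, Int.ofNat 0, Int.ofNat 0, Int.negSucc 1, Int.negSucc 1, Int.ofNat 0, Int.ofNat 0, Int.negSucc 1, Int.ofNat 0, Int.ofNat 2, Int.ofNat 2, Int.ofNat 0, Int.ofNat 0, Int.ofNat 0, Int.ofNat 2, Int.ofNat 0, Int.negSucc 1, Int.ofNat 0],
  [Int.ofNat 0, Int.ofNat 0, Int.ofNat 0, Int.ofNat 0, Int.ofNat 2, Int.ofNat 0, Int.ofNat 0, Int.ofNat 0, Int.ofNat 0, Int.ofNat 2, Int.ofNat 2, Int.ofNat 0, Int.ofNat 0, Int.negSucc 1, Int.ofNat 0, Int.ofNat 2, Int.ofNat 2, Int.ofNat 0, Int.ofNat 0, Int.ofNat 0, Int.ofNat 2, Int.ofNat 0, Int.negSucc 1, Int.ofNat 0],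
  [Int.ofNat 0, Int.ofNat 0, Int.ofNat 0, Int.ofNat 0, Int.ofNat 0, Int.ofNat 2, Int.ofNat 2, Int.ofNat 2, Int.ofNat 2, Int.ofNat 2, Int.ofNat 0, Int.ofNat 0, Int.negSucc 1, Int.ofNat 0, Int.ofNat 0, Int.ofNat 2, Int.ofNat 0, Int.negSucc 1, Int.ofNat 0, Int.ofNat 0, Int.ofNat 0, Int.ofNat 0, Int.ofNat 0, Int.ofNat 0],
  [Int.ofNat 0, Int.ofNat 0, Int.ofNat 0, Int.ofNat 0, Int.ofNat 0, Int.ofNat 2, Int.ofNat 2, Int.negSucc 1, Int.ofNat 2, Int.negSucc 1, Int.ofNat 0, Int.ofNat 0, Int.negSucc 1, Int.ofNat 0, Int.ofNat 0, Int.ofNat 2, Int.ofNat 0, Int.negSucc 1, Int.ofNat 0, Int.ofNat 0, Int.ofNat 0, Int.ofNat 0, Int.ofNat 0, Int.ofNat 0],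
  [Int.ofNat 0, Int.ofNat 0, Int.ofNat 0, Int.ofNat 0, Int.ofNat 0, Int.ofNat 0, Int.ofNat 2, Int.ofNat 2, Int.negSucc 1, Int.ofNat 2, Int.negSucc 1, Int.ofNat 0, Int.ofNat 0, Int.negSucc 1, Int.ofNat 0, Int.ofNat 0, Int.ofNat 2, Int.ofNat 0, Int.negSucc 1, Int.ofNat 0, Int.ofNat 0, Int.ofNat 0, Int.ofNat 0, Int.ofNat 0],
  [Int.ofNat 0, Int.ofNat 0, Int.ofNat 0, Int.ofNat 0, Int.ofNat 0, Int.ofNat 0, Int.ofNat 0, Int.ofNat 0, Int.ofNat 0, Int.ofNat 2, Int.negSucc 1, Int.ofNat 2, Int.ofNat 2, Int.negSucc 1, Int.ofNat 0, Int.ofNat 0, Int.ofNat 2, Int.ofNat 0, Int.ofNat 0, Int.negSucc 1, Int.ofNat 0, Int.negSucc 1, Int.ofNat 0, Int.ofNat 0],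
  [Int.ofNat 0, Int.ofNat 0, Int.ofNat 0, Int.ofNat 0, Int.ofNat 0, Int.ofNat 0, Int.ofNat 2, Int.negSucc 1, Int.ofNat 2, Int.ofNat 2, Int.negSucc 1, Int.ofNat 0, Int.ofNat 0, Int.ofNat 2, Int.ofNat 0, Int.ofNat 0, Int.negSucc 1, Int.ofNat 0, Int.negSucc 1, Int.ofNat 0, Int.ofNat 0, Int.ofNat 0, Int.ofNat 0, Int.ofNat 0],
  [Int.ofNat 0, Int.ofNat 0, Int.ofNat 0, Int.ofNat 0, Int.ofNat 0, Int.ofNat 0, Int.ofNat 2, Int.negSucc 1, Int.ofNat 2, Int.ofNat 2, Int.negSucc 1, Int.ofNat 0, Int.ofNat 0, Int.ofNat 2, Int.ofNat 0, Int.ofNat 0, Int.negSucc 1, Int.ofNat 0, Int.negSucc 1, Int.ofNat 0, Int.ofNat 0, Int.ofNat 0, Int.ofNat 0, Int.ofNat 0],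
  [Int.ofNat 0, Int.ofNat 2, Int.ofNat 0, Int.ofNat 0, Int.negSucc 1, Int.negSucc 1, Int.ofNat 0, Int.negSucc 1, Int.ofNat 0, Int.ofNat 2, Int.ofNat 0, Int.ofNat 0, Int.ofNat 2, Int.negSucc 1, Int.ofNat 0, Int.ofNat 0, Int.ofNat 2, Int.ofNat 0, Int.ofNat 0, Int.ofNat 0, Int.ofNat 0, Int.ofNat 0, Int.ofNat 0, Int.ofNat 0],
  [Int.ofNat 1, Int.negSucc 0, Int.ofNat 1, Int.ofNat 1, Int.negSucc 0, Int.negSucc 0, Int.ofNat 1, Int.negSucc 0, Int.negSucc 0, Int.ofNat 1, Int.negSucc 0, Int.negSucc 0, Int.ofNat 1, Int.negSucc 0, Int.ofNat 1, Int.negSucc 0, Int.ofNat 3, Int.ofNat 1, Int.negSucc 0, Int.ofNat 1, Int.negSucc 0, Int.ofNat 1, Int.ofNat 1, Int.ofNat 1],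
  [Int.ofNat 1, Int.negSucc 0, Int.negSucc 0, Int.ofNat 1, Int.negSucc 0, Int.ofNat 1, Int.negSucc 0, Int.negSucc 0, Int.negSucc 0, Int.negSucc 0, Int.ofNat 1, Int.negSucc 0, Int.ofNat 1, Int.negSucc 0, Int.ofNat 1, Int.ofNat 1, Int.ofNat 3, Int.ofNat 1, Int.ofNat 1, Int.ofNat 1, Int.negSucc 0, Int.ofNat 1, Int.negSucc 0, Int.ofNat 1],
  [Int.ofNat 1, Int.ofNat 3, Int.negSucc 0, Int.negSucc 0, Int.ofNat 1, Int.negSucc 0, Int.ofNat 1, Int.ofNat 1, Int.ofNat 1, Int.negSucc 0, Int.negSucc 0, Int.negSucc 0, Int.ofNat 1, Int.negSucc 0, Int.ofNat 1, Int.ofNat 1, Int.ofNat 1, Int.ofNat 1, Int.negSucc 0, Int.negSucc 0, Int.ofNat 1, Int.negSucc 0, Int.negSucc 0, Int.ofNat 1],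
  [Int.negSucc 0, Int.negSucc 2, Int.ofNat 1, Int.ofNat 1, Int.negSucc 0, Int.negSucc 0, Int.negSucc 0, Int.ofNat 1, Int.negSucc 0, Int.ofNat 1, Int.negSucc 0, Int.negSucc 0, Int.negSucc 0, Int.ofNat 1, Int.ofNat 1, Int.ofNat 1, Int.negSucc 0, Int.ofNat 1, Int.ofNat 1, Int.negSucc 0, Int.ofNat 1, Int.negSucc 0, Int.negSucc 0, Int.ofNat 1],
  [Int.ofNat 1, Int.negSucc 0, Int.negSucc 0, Int.ofNat 1, Int.ofNat 1, Int.ofNat 1, Int.negSucc 0, Int.ofNat 1, Int.ofNat 1, Int.negSucc 0, Int.negSucc 0, Int.ofNat 1, Int.negSucc 0, Int.ofNat 1, Int.ofNat 1, Int.ofNat 1, Int.negSucc 0, Int.negSucc 0, Int.ofNat 1, Int.negSucc 0, Int.negSucc 0, Int.negSucc 0, Int.negSucc 2, Int.negSucc 0],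
  [Int.negSucc 0, Int.negSucc 0, Int.ofNat 1, Int.ofNat 1, Int.ofNat 1, Int.ofNat 1, Int.negSucc 0, Int.negSucc 0, Int.ofNat 1, Int.ofNat 1, Int.ofNat 1, Int.negSucc 0, Int.negSucc 0, Int.ofNat 1, Int.ofNat 1, Int.ofNat 1, Int.negSucc 0, Int.negSucc 0, Int.negSucc 0, Int.negSucc 0, Int.negSucc 0, Int.ofNat 1, Int.negSucc 2, Int.negSucc 0],
  [Int.negSucc 2, Int.negSucc 0, Int.negSucc 0, Int.ofNat 1, Int.ofNat 1, Int.ofNat 1, Int.ofNat 1, Int.negSucc 0, Int.negSucc 0, Int.ofNat 1, Int.ofNat 1, Int.ofNat 1, Int.negSucc 0, Int.negSucc 0, Int.ofNat 1, Int.ofNat 1, Int.ofNat 1, Int.negSucc 0, Int.negSucc 0, Int.negSucc 0, Int.negSucc 0, Int.negSucc 0, Int.ofNat 1, Int.negSucc 0],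
  [Int.ofNat 0, Int.negSucc 1, Int.negSucc 1, Int.ofNat 0, Int.ofNat 0, Int.ofNat 0, Int.ofNat 2, Int.ofNat 0, Int.ofNat 0, Int.ofNat 0, Int.ofNat 0, Int.ofNat 2, Int.ofNat 0, Int.negSucc 1, Int.ofNat 0, Int.ofNat 0, Int.ofNat 0, Int.negSucc 1, Int.ofNat 0, Int.ofNat 0, Int.negSucc 1, Int.ofNat 0, Int.ofNat 0, Int.negSucc 1],
  [Int.ofNat 0, Int.ofNat 0, Int.ofNat 0, Int.ofNat 2, Int.ofNat 0, Int.ofNat 0, Int.ofNat 0, Int.ofNat 0, Int.ofNat 2, Int.ofNat 0, Int.negSucc 1, Int.ofNat 0, Int.ofNat 0, Int.ofNat 0, Int.negSucc 1, Int.ofNat 0, Int.ofNat 0, Int.negSucc 1, Int.ofNat 0, Int.ofNat 0, Int.ofNat 0, Int.negSucc 1, Int.negSucc 1, Int.negSucc 1],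
  [Int.negSucc 0, Int.negSucc 0, Int.negSucc 0, Int.ofNat 3, Int.ofNat 1, Int.ofNat 1, Int.ofNat 1, Int.ofNat 1, Int.ofNat 1, Int.ofNat 1, Int.negSucc 0, Int.negSucc 0, Int.negSucc 0, Int.ofNat 1, Int.negSucc 0, Int.ofNat 1, Int.ofNat 1, Int.negSucc 0, Int.negSucc 0, Int.ofNat 1, Int.ofNat 1, Int.negSucc 0, Int.negSucc 0, Int.ofNat 1],
  [Int.negSucc 0, Int.ofNat 1, Int.ofNat 1, Int.ofNat 3, Int.negSucc 0, Int.ofNat 1, Int.negSucc 0, Int.negSucc 0, Int.negSucc 0, Int.ofNat 1, Int.ofNat 1, Int.negSucc 0, Int.ofNat 1, Int.ofNat 1, Int.negSucc 0, Int.ofNat 1, Int.ofNat 1, Int.negSucc 0, Int.negSucc 0, Int.negSucc 0, Int.negSucc 0, Int.ofNat 1, Int.ofNat 1, Int.ofNat 1],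
  [Int.ofNat 2, Int.ofNat 0, Int.ofNat 0, Int.ofNat 2, Int.negSucc 1, Int.ofNat 0, Int.ofNat 0, Int.ofNat 0, Int.ofNat 0, Int.ofNat 0, Int.ofNat 0, Int.ofNat 0, Int.ofNat 2, Int.ofNat 0, Int.negSucc 1, Int.ofNat 0, Int.ofNat 0, Int.negSucc 1, Int.ofNat 0, Int.ofNat 0, Int.negSucc 1, Int.ofNat 2, Int.ofNat 0, Int.ofNat 0],
  [Int.ofNat 2, Int.ofNat 0, Int.ofNat 0, Int.ofNat 2, Int.negSucc 1, Int.ofNat 0, Int.ofNat 0, Int.ofNat 0, Int.ofNat 0, Int.ofNat 0, Int.ofNat 0, Int.ofNat 0, Int.ofNat 2, Int.ofNat 0, Int.negSucc 1, Int.ofNat 0, Int.ofNat 0, Int.negSucc 1, Int.ofNat 0, Int.ofNat 0, Int.negSucc 1, Int.ofNat 2, Int.ofNat 0, Int.ofNat 0],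
  [Int.ofNat 0, Int.ofNat 0, Int.ofNat 0, Int.ofNat 0, Int.ofNat 2, Int.ofNat 0, Int.negSucc 1, Int.ofNat 0, Int.ofNat 2, Int.ofNat 0, Int.negSucc 1, Int.ofNat 2, Int.ofNat 0, Int.negSucc 1, Int.ofNat 0, Int.ofNat 0, Int.ofNat 0, Int.ofNat 0, Int.ofNat 0, Int.ofNat 2, Int.negSucc 1, Int.ofNat 0, Int.ofNat 0, Int.ofNat 0],
  [Int.ofNat 0, Int.ofNat 0, Int.ofNat 0, Int.ofNat 0, Int.ofNat 2, Int.ofNat 0, Int.ofNat 2, Int.ofNat 0, Int.ofNat 2, Int.ofNat 0, Int.ofNat 2, Int.ofNat 2, Int.ofNat 0, Int.negSucc 1, Int.ofNat 0, Int.ofNat 0, Int.ofNat 0, Int.ofNat 0, Int.ofNat 0, Int.ofNat 2, Int.negSucc 1, Int.ofNat 0, Int.ofNat 0, Int.ofNat 0],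
  [Int.ofNat 0, Int.ofNat 0, Int.ofNat 0, Int.ofNat 0, Int.ofNat 2, Int.ofNat 0, Int.ofNat 0, Int.negSucc 1, Int.ofNat 0, Int.ofNat 0, Int.ofNat 2, Int.ofNat 0, Int.negSucc 1, Int.negSucc 1, Int.ofNat 0, Int.ofNat 0, Int.ofNat 0, Int.ofNat 0, Int.negSucc 1, Int.ofNat 0, Int.negSucc 1, Int.negSucc 1, Int.ofNat 0, Int.ofNat 0],
  [Int.ofNat 0, Int.negSucc 1, Int.ofNat 0, Int.ofNat 0, Int.ofNat 0, Int.negSucc 1, Int.ofNat 0, Int.ofNat 0, Int.ofNat 0, Int.negSucc 1, Int.negSucc 1, Int.ofNat 0, Int.ofNat 0, Int.ofNat 0, Int.ofNat 0, Int.ofNat 0, Int.negSucc 1, Int.ofNat 0, Int.ofNat 2, Int.ofNat 0, Int.ofNat 2, Int.negSucc 1, Int.ofNat 0, Int.ofNat 0],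
  [Int.negSucc 0, Int.ofNat 1, Int.negSucc 0, Int.ofNat 1, Int.ofNat 1, Int.negSucc 0, Int.ofNat 1, Int.ofNat 1, Int.negSucc 0, Int.negSucc 0, Int.negSucc 0, Int.negSucc 0, Int.negSucc 0, Int.ofNat 1, Int.ofNat 1, Int.ofNat 1, Int.negSucc 0, Int.ofNat 1, Int.ofNat 1, Int.ofNat 1, Int.ofNat 3, Int.negSucc 0, Int.ofNat 1, Int.negSucc 0],
  [Int.ofNat 3, Int.negSucc 0, Int.ofNat 1, Int.negSucc 0, Int.ofNat 1, Int.negSucc 0, Int.ofNat 1, Int.ofNat 1, Int.negSucc 0, Int.ofNat 1, Int.ofNat 1, Int.negSucc 0, Int.negSucc 0, Int.negSucc 0, Int.negSucc 0, Int.negSucc 0, Int.ofNat 1, Int.ofNat 1, Int.ofNat 1, Int.negSucc 0, Int.ofNat 1, Int.ofNat 1, Int.ofNat 1, Int.negSucc 0],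
  [Int.negSucc 1, Int.ofNat 2, Int.ofNat 0, Int.ofNat 0, Int.ofNat 0, Int.ofNat 0, Int.ofNat 0, Int.ofNat 0, Int.ofNat 0, Int.ofNat 0, Int.ofNat 0, Int.ofNat 0, Int.ofNat 0, Int.negSucc 1, Int.ofNat 0, Int.negSucc 1, Int.ofNat 0, Int.ofNat 2, Int.ofNat 2, Int.negSucc 1, Int.ofNat 0, Int.ofNat 0, Int.ofNat 0, Int.ofNat 2],
  [Int.ofNat 2, Int.ofNat 0, Int.ofNat 0, Int.ofNat 0, Int.ofNat 0, Int.ofNat 0, Int.ofNat 0, Int.ofNat 0, Int.ofNat 0, Int.ofNat 0, Int.ofNat 0, Int.ofNat 0, Int.negSucc 1, Int.ofNat 0, Int.negSucc 1, Int.ofNat 0, Int.ofNat 2, Int.ofNat 2, Int.negSucc 1, Int.ofNat 0, Int.ofNat 0, Int.ofNat 0, Int.negSucc 1, Int.ofNat 2],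
  [Int.negSucc 1, Int.ofNat 0, Int.ofNat 0, Int.ofNat 0, Int.ofNat 0, Int.ofNat 0, Int.ofNat 0, Int.ofNat 0, Int.ofNat 0, Int.ofNat 0, Int.ofNat 0, Int.ofNat 0, Int.negSucc 1, Int.ofNat 0, Int.negSucc 1, Int.ofNat 0, Int.ofNat 2, Int.ofNat 2, Int.ofNat 2, Int.ofNat 0, Int.ofNat 0, Int.ofNat 0, Int.negSucc 1, Int.ofNat 2],
  [Int.negSucc 1, Int.ofNat 0, Int.ofNat 2, Int.ofNat 0, Int.ofNat 0, Int.ofNat 0, Int.ofNat 0, Int.ofNat 0, Int.ofNat 0, Int.ofNat 2, Int.ofNat 0, Int.negSucc 1, Int.ofNat 0, Int.ofNat 0, Int.ofNat 0, Int.ofNat 0, Int.negSucc 1, Int.negSucc 1, Int.ofNat 0, Int.ofNat 2, Int.ofNat 0, Int.ofNat 0, Int.ofNat 0, Int.ofNat 2],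
  [Int.ofNat 2, Int.ofNat 0, Int.negSucc 1, Int.ofNat 0, Int.ofNat 0, Int.ofNat 0, Int.ofNat 0, Int.ofNat 0, Int.ofNat 0, Int.negSucc 1, Int.ofNat 0, Int.ofNat 2, Int.ofNat 0, Int.ofNat 0, Int.ofNat 0, Int.ofNat 0, Int.negSucc 1, Int.negSucc 1, Int.ofNat 0, Int.ofNat 2, Int.ofNat 0, Int.ofNat 0, Int.ofNat 0, Int.ofNat 2],
  [Int.ofNat 0, Int.ofNat 2, Int.ofNat 0, Int.negSucc 1, Int.ofNat 0, Int.ofNat 0, Int.ofNat 0, Int.ofNat 0, Int.ofNat 0, Int.ofNat 0, Int.negSucc 1, Int.ofNat 0, Int.ofNat 2, Int.ofNat 0, Int.ofNat 0, Int.ofNat 0, Int.ofNat 0, Int.negSucc 1, Int.negSucc 1, Int.ofNat 0, Int.ofNat 2, Int.ofNat 0, Int.ofNat 0, Int.ofNat 2],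
  [Int.ofNat 2, Int.ofNat 0, Int.ofNat 2, Int.ofNat 0, Int.ofNat 0, Int.ofNat 2, Int.ofNat 0, Int.ofNat 0, Int.ofNat 0, Int.ofNat 0, Int.negSucc 1, Int.ofNat 0, Int.ofNat 2, Int.ofNat 0, Int.ofNat 2, Int.ofNat 0, Int.ofNat 0, Int.ofNat 0, Int.negSucc 1, Int.ofNat 0, Int.ofNat 2, Int.ofNat 0, Int.ofNat 0, Int.ofNat 0],
  [Int.ofNat 0, Int.ofNat 0, Int.ofNat 2, Int.ofNat 0, Int.ofNat 0, Int.ofNat 0, Int.ofNat 0, Int.negSucc 1, Int.ofNat 0, Int.ofNat 2, Int.ofNat 0, Int.ofNat 2, Int.ofNat 0, Int.ofNat 0, Int.ofNat 0, Int.negSucc 1, Int.ofNat 0, Int.ofNat 2, Int.ofNat 0, Int.ofNat 0, Int.ofNat 2, Int.ofNat 0, Int.ofNat 2, Int.ofNat 0],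
  [Int.ofNat 1, Int.ofNat 1, Int.negSucc 0, Int.negSucc 0, Int.negSucc 0, Int.negSucc 0, Int.ofNat 1, Int.negSucc 0, Int.negSucc 0, Int.ofNat 1, Int.negSucc 0, Int.ofNat 1, Int.negSucc 0, Int.negSucc 0, Int.negSucc 0, Int.negSucc 2, Int.negSucc 0, Int.ofNat 1, Int.negSucc 0, Int.ofNat 1, Int.ofNat 1, Int.ofNat 1, Int.ofNat 1, Int.ofNat 1],
  [Int.ofNat 1, Int.ofNat 1, Int.negSucc 0, Int.negSucc 0, Int.negSucc 0, Int.negSucc 0, Int.negSucc 0, Int.negSucc 0, Int.negSucc 0, Int.negSucc 0, Int.ofNat 1, Int.ofNat 1, Int.ofNat 1, Int.negSucc 0, Int.ofNat 1, Int.negSucc 2, Int.negSucc 0, Int.negSucc 0, Int.ofNat 1, Int.ofNat 1, Int.ofNat 1, Int.negSucc 0, Int.ofNat 1, Int.ofNat 1],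
  [Int.ofNat 0, Int.ofNat 0, Int.ofNat 2, Int.ofNat 0, Int.ofNat 0, Int.ofNat 0, Int.ofNat 0, Int.ofNat 0, Int.negSucc 1, Int.ofNat 0, Int.ofNat 2, Int.ofNat 0, Int.ofNat 0, Int.ofNat 0, Int.ofNat 2, Int.negSucc 1, Int.ofNat 0, Int.ofNat 0, Int.ofNat 0, Int.ofNat 2, Int.ofNat 2, Int.ofNat 0, Int.ofNat 2, Int.ofNat 0],
  [Int.ofNat 0, Int.ofNat 0, Int.negSucc 1, Int.ofNat 0, Int.ofNat 0, Int.ofNat 0, Int.ofNat 0, Int.ofNat 0, Int.negSucc 1, Int.ofNat 0, Int.negSucc 1, Int.ofNat 0, Int.ofNat 0, Int.ofNat 0, Int.ofNat 2, Int.ofNat 2, Int.ofNat 0, Int.ofNat 0, Int.ofNat 0, Int.ofNat 2, Int.ofNat 2, Int.ofNat 0, Int.negSucc 1, Int.ofNat 0],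
  [Int.negSucc 1, Int.ofNat 0, Int.ofNat 0, Int.negSucc 1, Int.ofNat 2, Int.ofNat 0, Int.ofNat 0, Int.ofNat 0, Int.ofNat 0, Int.ofNat 2, Int.ofNat 0, Int.ofNat 0, Int.ofNat 2, Int.ofNat 0, Int.ofNat 0, Int.ofNat 0, Int.ofNat 2, Int.ofNat 0, Int.ofNat 0, Int.negSucc 1, Int.ofNat 0, Int.ofNat 0, Int.negSucc 1, Int.ofNat 0],
  [Int.ofNat 2, Int.ofNat 0, Int.ofNat 0, Int.ofNat 2, Int.negSucc 1, Int.ofNat 0, Int.ofNat 0, Int.ofNat 0, Int.ofNat 0, Int.negSucc 1, Int.ofNat 0, Int.ofNat 0, Int.negSucc 1, Int.ofNat 0, Int.ofNat 0, Int.ofNat 0, Int.negSucc 1, Int.ofNat 0, Int.ofNat 0, Int.negSucc 1, Int.ofNat 0, Int.ofNat 0, Int.negSucc 1, Int.ofNat 0],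
  [Int.ofNat 0, Int.negSucc 1, Int.ofNat 0, Int.ofNat 0, Int.ofNat 0, Int.negSucc 1, Int.negSucc 1, Int.ofNat 0, Int.ofNat 0, Int.ofNat 0, Int.negSucc 1, Int.ofNat 0, Int.ofNat 0, Int.ofNat 0, Int.ofNat 0, Int.ofNat 2, Int.ofNat 0, Int.negSucc 1, Int.ofNat 0, Int.ofNat 0, Int.ofNat 0, Int.negSucc 1, Int.ofNat 0, Int.ofNat 2],
  [Int.ofNat 0, Int.negSucc 1, Int.ofNat 0, Int.ofNat 0, Int.ofNat 0, Int.negSucc 1, Int.negSucc 1, Int.ofNat 0, Int.ofNat 0, Int.ofNat 0, Int.ofNat 2, Int.ofNat 0, Int.ofNat 0, Int.ofNat 0, Int.ofNat 0, Int.ofNat 2, Int.ofNat 0, Int.negSucc 1, Int.ofNat 0, Int.ofNat 0, Int.ofNat 0, Int.ofNat 2, Int.ofNat 0, Int.ofNat 2],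
  [Int.ofNat 0, Int.ofNat 0, Int.negSucc 1, Int.ofNat 0, Int.ofNat 0, Int.ofNat 0, Int.negSucc 1, Int.negSucc 1, Int.ofNat 0, Int.ofNat 0, Int.ofNat 0, Int.ofNat 2, Int.ofNat 0, Int.ofNat 0, Int.ofNat 0, Int.ofNat 0, Int.ofNat 2, Int.ofNat 0, Int.negSucc 1, Int.ofNat 0, Int.ofNat 0, Int.ofNat 0, Int.ofNat 2, Int.ofNat 2],
  [Int.ofNat 0, Int.ofNat 0, Int.ofNat 2, Int.ofNat 0, Int.negSucc 1, Int.ofNat 0, Int.ofNat 0, Int.ofNat 0, Int.ofNat 0, Int.ofNat 0, Int.ofNat 0, Int.ofNat 2, Int.ofNat 0, Int.negSucc 1, Int.ofNat 0, Int.ofNat 0, Int.ofNat 0, Int.ofNat 0, Int.negSucc 1, Int.ofNat 2, Int.ofNat 0, Int.ofNat 2, Int.ofNat 0, Int.negSucc 1],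
  [Int.ofNat 0, Int.negSucc 1, Int.ofNat 0, Int.ofNat 0, Int.ofNat 0, Int.ofNat 0, Int.ofNat 0, Int.ofNat 0, Int.ofNat 2, Int.ofNat 0, Int.negSucc 1, Int.ofNat 0, Int.ofNat 0, Int.ofNat 0, Int.ofNat 0, Int.negSucc 1, Int.ofNat 2, Int.ofNat 0, Int.ofNat 2, Int.ofNat 0, Int.ofNat 0, Int.ofNat 0, Int.ofNat 2, Int.negSucc 1],
  [Int.negSucc 1, Int.ofNat 0, Int.negSucc 1, Int.ofNat 0, Int.negSucc 1, Int.ofNat 0, Int.ofNat 0, Int.ofNat 0, Int.ofNat 0, Int.ofNat 2, Int.ofNat 0, Int.negSucc 1, Int.negSucc 1, Int.negSucc 1, Int.ofNat 0, Int.ofNat 0, Int.ofNat 0, Int.ofNat 0, Int.ofNat 0, Int.ofNat 0, Int.ofNat 2, Int.ofNat 0, Int.ofNat 0, Int.ofNat 0],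
  [Int.negSucc 1, Int.ofNat 0, Int.negSucc 1, Int.ofNat 0, Int.ofNat 0, Int.ofNat 0, Int.negSucc 1, Int.ofNat 0, Int.negSucc 1, Int.negSucc 1, Int.ofNat 2, Int.ofNat 0, Int.ofNat 2, Int.ofNat 0, Int.ofNat 0, Int.ofNat 0, Int.ofNat 0, Int.ofNat 0, Int.ofNat 0, Int.negSucc 1, Int.ofNat 0, Int.ofNat 0, Int.ofNat 0, Int.ofNat 0],
  [Int.ofNat 0, Int.negSucc 1, Int.ofNat 0, Int.ofNat 0, Int.ofNat 0, Int.ofNat 0, Int.ofNat 0, Int.ofNat 2, Int.negSucc 1, Int.negSucc 1, Int.ofNat 2, Int.ofNat 0, Int.ofNat 2, Int.ofNat 0, Int.ofNat 0, Int.ofNat 0, Int.ofNat 0, Int.ofNat 0, Int.ofNat 0, Int.ofNat 0, Int.ofNat 0, Int.ofNat 2, Int.ofNat 0, Int.negSucc 1],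
  [Int.ofNat 0, Int.negSucc 1, Int.ofNat 0, Int.ofNat 0, Int.ofNat 0, Int.ofNat 0, Int.ofNat 0, Int.ofNat 2, Int.negSucc 1, Int.ofNat 2, Int.negSucc 1, Int.ofNat 0, Int.ofNat 2, Int.ofNat 0, Int.ofNat 0, Int.ofNat 0, Int.ofNat 0, Int.ofNat 0, Int.ofNat 0, Int.ofNat 0, Int.ofNat 0, Int.ofNat 2, Int.ofNat 0, Int.negSucc 1],
  [Int.ofNat 0, Int.ofNat 0, Int.negSucc 1, Int.ofNat 2, Int.ofNat 2, Int.ofNat 0, Int.ofNat 0, Int.ofNat 0, Int.ofNat 0, Int.ofNat 0, Int.ofNat 0, Int.ofNat 2, Int.negSucc 1, Int.ofNat 0, Int.ofNat 0, Int.ofNat 0, Int.ofNat 0, Int.ofNat 2, Int.ofNat 0, Int.ofNat 0, Int.ofNat 0, Int.ofNat 0, Int.negSucc 1, Int.negSucc 1],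
  [Int.ofNat 0, Int.ofNat 0, Int.ofNat 2, Int.ofNat 2, Int.ofNat 2, Int.ofNat 0, Int.ofNat 0, Int.ofNat 0, Int.ofNat 0, Int.ofNat 0, Int.ofNat 0, Int.ofNat 2, Int.negSucc 1, Int.ofNat 0, Int.ofNat 0, Int.ofNat 0, Int.ofNat 0, Int.ofNat 2, Int.ofNat 0, Int.ofNat 0, Int.ofNat 0, Int.ofNat 0, Int.ofNat 2, Int.negSucc 1],
  [Int.ofNat 0, Int.ofNat 0, Int.negSucc 1, Int.ofNat 0, Int.ofNat 0, Int.negSucc 1, Int.ofNat 0, Int.ofNat 0, Int.ofNat 0, Int.ofNat 0, Int.ofNat 0, Int.ofNat 2, Int.negSucc 1, Int.negSucc 1, Int.negSucc 1, Int.ofNat 0, Int.negSucc 1, Int.ofNat 0, Int.ofNat 0, Int.ofNat 0, Int.ofNat 0, Int.ofNat 0, Int.ofNat 0, Int.ofNat 2],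
  [Int.ofNat 0, Int.ofNat 0, Int.ofNat 0, Int.ofNat 0, Int.negSucc 1, Int.ofNat 0, Int.ofNat 0, Int.negSucc 1, Int.negSucc 1, Int.negSucc 1, Int.ofNat 0, Int.ofNat 0, Int.ofNat 0, Int.ofNat 0, Int.ofNat 0, Int.ofNat 0, Int.negSucc 1, Int.ofNat 2, Int.ofNat 0, Int.ofNat 0, Int.ofNat 0, Int.ofNat 0, Int.negSucc 1, Int.ofNat 2],
  [Int.ofNat 1, Int.ofNat 1, Int.ofNat 1, Int.negSucc 0, Int.ofNat 1, Int.negSucc 0, Int.ofNat 1, Int.negSucc 0, Int.negSucc 0, Int.negSucc 0, Int.ofNat 1, Int.ofNat 1, Int.ofNat 1, Int.ofNat 3, Int.negSucc 0, Int.ofNat 1, Int.ofNat 1, Int.ofNat 1, Int.ofNat 1, Int.ofNat 1, Int.ofNat 1, Int.ofNat 1, Int.ofNat 1, Int.negSucc 0],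
  [Int.ofNat 1, Int.ofNat 1, Int.ofNat 1, Int.ofNat 1, Int.ofNat 1, Int.ofNat 1, Int.negSucc 0, Int.ofNat 1, Int.negSucc 0, Int.ofNat 1, Int.negSucc 0, Int.negSucc 0, Int.negSucc 0, Int.ofNat 1, Int.ofNat 1, Int.ofNat 1, Int.ofNat 3, Int.negSucc 0, Int.ofNat 1, Int.ofNat 1, Int.ofNat 1, Int.ofNat 1, Int.ofNat 1, Int.negSucc 0],
  [Int.ofNat 0, Int.ofNat 0, Int.ofNat 0, Int.ofNat 0, Int.negSucc 1, Int.ofNat 0, Int.negSucc 1, Int.ofNat 0, Int.ofNat 0, Int.ofNat 0, Int.negSucc 1, Int.ofNat 0, Int.ofNat 0, Int.negSucc 1, Int.ofNat 0, Int.ofNat 0, Int.ofNat 0, Int.negSucc 1, Int.ofNat 2, Int.ofNat 0, Int.ofNat 0, Int.ofNat 0, Int.negSucc 1, Int.ofNat 2],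
  [Int.ofNat 0, Int.ofNat 0, Int.ofNat 0, Int.negSucc 1, Int.ofNat 0, Int.negSucc 1, Int.ofNat 0, Int.ofNat 0, Int.ofNat 0, Int.negSucc 1, Int.ofNat 0, Int.ofNat 0, Int.negSucc 1, Int.ofNat 0, Int.ofNat 0, Int.ofNat 0, Int.negSucc 1, Int.ofNat 2, Int.ofNat 0, Int.ofNat 0, Int.ofNat 0, Int.negSucc 1, Int.ofNat 0, Int.ofNat 2],
  [Int.ofNat 0, Int.ofNat 0, Int.ofNat 0, Int.negSucc 1, Int.ofNat 0, Int.negSucc 1, Int.ofNat 0, Int.ofNat 0, Int.ofNat 0, Int.ofNat 2, Int.ofNat 0, Int.ofNat 0, Int.negSucc 1, Int.ofNat 0, Int.ofNat 0, Int.ofNat 0, Int.negSucc 1, Int.ofNat 2, Int.ofNat 0, Int.ofNat 0, Int.ofNat 0, Int.ofNat 2, Int.ofNat 0, Int.ofNat 2],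
  [Int.ofNat 0, Int.ofNat 0, Int.ofNat 0, Int.negSucc 1, Int.ofNat 0, Int.ofNat 0, Int.ofNat 0, Int.ofNat 0, Int.ofNat 2, Int.negSucc 1, Int.ofNat 2, Int.ofNat 0, Int.ofNat 0, Int.ofNat 0, Int.ofNat 0, Int.ofNat 0, Int.negSucc 1, Int.ofNat 0, Int.ofNat 0, Int.ofNat 2, Int.negSucc 1, Int.ofNat 0, Int.ofNat 0, Int.ofNat 2],
  [Int.ofNat 0, Int.ofNat 0, Int.ofNat 0, Int.negSucc 1, Int.ofNat 0, Int.ofNat 0, Int.ofNat 0, Int.ofNat 0, Int.ofNat 2, Int.ofNat 2, Int.negSucc 1, Int.ofNat 0, Int.ofNat 0, Int.ofNat 0, Int.ofNat 0, Int.ofNat 0, Int.negSucc 1, Int.ofNat 0, Int.ofNat 0, Int.ofNat 2, Int.negSucc 1, Int.ofNat 0, Int.ofNat 0, Int.ofNat 2],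
  [Int.ofNat 0, Int.ofNat 0, Int.ofNat 0, Int.ofNat 0, Int.negSucc 1, Int.ofNat 0, Int.ofNat 0, Int.ofNat 0, Int.ofNat 0, Int.ofNat 2, Int.ofNat 2, Int.negSucc 1, Int.ofNat 0, Int.ofNat 0, Int.ofNat 0, Int.ofNat 0, Int.ofNat 0, Int.negSucc 1, Int.ofNat 0, Int.ofNat 0, Int.ofNat 2, Int.negSucc 1, Int.ofNat 0, Int.ofNat 2],
  [Int.ofNat 1, Int.ofNat 1, Int.ofNat 1, Int.ofNat 1, Int.negSucc 0, Int.ofNat 1, Int.ofNat 1, Int.ofNat 1, Int.ofNat 1, Int.negSucc 0, Int.negSucc 0, Int.negSucc 0, Int.ofNat 1, Int.ofNat 1, Int.ofNat 1, Int.negSucc 2, Int.ofNat 1, Int.negSucc 0, Int.ofNat 1, Int.ofNat 1, Int.negSucc 0, Int.negSucc 0, Int.ofNat 1, Int.negSucc 0],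
  [Int.ofNat 1, Int.negSucc 0, Int.ofNat 1, Int.ofNat 1, Int.ofNat 1, Int.ofNat 1, Int.negSucc 0, Int.negSucc 0, Int.negSucc 0, Int.ofNat 1, Int.ofNat 1, Int.ofNat 1, Int.negSucc 2, Int.ofNat 1, Int.negSucc 0, Int.ofNat 1, Int.ofNat 1, Int.negSucc 0, Int.negSucc 0, Int.ofNat 1, Int.ofNat 1, Int.ofNat 1, Int.ofNat 1, Int.negSucc 0],
  [Int.negSucc 0, Int.ofNat 1, Int.negSucc 0, Int.ofNat 1, Int.negSucc 0, Int.ofNat 1, Int.negSucc 0, Int.negSucc 0, Int.ofNat 1, Int.negSucc 0, Int.negSucc 0, Int.ofNat 3, Int.negSucc 0, Int.negSucc 0, Int.negSucc 0, Int.negSucc 0, Int.negSucc 0, Int.negSucc 0, Int.ofNat 1, Int.ofNat 1, Int.negSucc 0, Int.ofNat 1, Int.negSucc 0, Int.ofNat 1],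
  [Int.negSucc 0, Int.negSucc 0, Int.negSucc 0, Int.ofNat 1, Int.ofNat 1, Int.negSucc 0, Int.negSucc 0, Int.negSucc 0, Int.negSucc 0, Int.negSucc 0, Int.negSucc 0, Int.negSucc 0, Int.negSucc 0, Int.negSucc 0, Int.negSucc 0, Int.negSucc 0, Int.ofNat 1, Int.negSucc 0, Int.ofNat 1, Int.ofNat 3, Int.ofNat 1, Int.ofNat 1, Int.ofNat 1, Int.ofNat 1],
  [Int.ofNat 0, Int.ofNat 0, Int.ofNat 0, Int.ofNat 2, Int.ofNat 0, Int.ofNat 0, Int.negSucc 1, Int.negSucc 1, Int.ofNat 0, Int.ofNat 0, Int.ofNat 0, Int.ofNat 0, Int.ofNat 0, Int.negSucc 1, Int.ofNat 0, Int.ofNat 0, Int.ofNat 0, Int.ofNat 0, Int.ofNat 2, Int.ofNat 2, Int.ofNat 2, Int.ofNat 0, Int.ofNat 0, Int.negSucc 1],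
  [Int.ofNat 0, Int.ofNat 0, Int.ofNat 0, Int.ofNat 2, Int.ofNat 0, Int.ofNat 0, Int.ofNat 2, Int.negSucc 1, Int.ofNat 0, Int.ofNat 0, Int.ofNat 0, Int.ofNat 0, Int.ofNat 0, Int.negSucc 1, Int.ofNat 0, Int.ofNat 0, Int.ofNat 0, Int.ofNat 0, Int.negSucc 1, Int.ofNat 2, Int.ofNat 2, Int.ofNat 0, Int.ofNat 0, Int.negSucc 1],
  [Int.ofNat 0, Int.ofNat 0, Int.ofNat 0, Int.ofNat 0, Int.ofNat 0, Int.ofNat 2, Int.ofNat 0, Int.ofNat 2, Int.ofNat 0, Int.ofNat 2, Int.negSucc 1, Int.negSucc 1, Int.ofNat 0, Int.ofNat 0, Int.ofNat 0, Int.negSucc 1, Int.ofNat 2, Int.ofNat 0, Int.ofNat 0, Int.ofNat 0, Int.ofNat 0, Int.ofNat 0, Int.ofNat 0, Int.negSucc 1],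
  [Int.ofNat 0, Int.ofNat 0, Int.ofNat 0, Int.ofNat 0, Int.ofNat 0, Int.ofNat 2, Int.ofNat 0, Int.ofNat 2, Int.ofNat 0, Int.negSucc 1, Int.negSucc 1, Int.negSucc 1, Int.ofNat 0, Int.ofNat 0, Int.ofNat 0, Int.negSucc 1, Int.negSucc 1, Int.ofNat 0, Int.ofNat 0, Int.ofNat 0, Int.ofNat 0, Int.ofNat 0, Int.ofNat 0, Int.negSucc 1],
  [Int.negSucc 1, Int.ofNat 0, Int.negSucc 1, Int.negSucc 1, Int.ofNat 0, Int.negSucc 1, Int.ofNat 0, Int.ofNat 0, Int.ofNat 0, Int.ofNat 2, Int.negSucc 1, Int.ofNat 0, Int.ofNat 0, Int.ofNat 2, Int.ofNat 0, Int.ofNat 0, Int.negSucc 1, Int.ofNat 0, Int.ofNat 0, Int.ofNat 0, Int.ofNat 0, Int.ofNat 0, Int.ofNat 0, Int.ofNat 0],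
  [Int.ofNat 2, Int.ofNat 0, Int.ofNat 2, Int.negSucc 1, Int.ofNat 0, Int.negSucc 1, Int.ofNat 0, Int.ofNat 0, Int.ofNat 0, Int.negSucc 1, Int.ofNat 2, Int.ofNat 0, Int.ofNat 0, Int.ofNat 2, Int.ofNat 0, Int.ofNat 0, Int.negSucc 1, Int.ofNat 0, Int.ofNat 0, Int.ofNat 0, Int.ofNat 0, Int.ofNat 0, Int.ofNat 0, Int.ofNat 0],
  [Int.ofNat 0, Int.ofNat 2, Int.ofNat 0, Int.ofNat 2, Int.negSucc 1, Int.ofNat 0, Int.negSucc 1, Int.ofNat 0, Int.ofNat 0, Int.ofNat 0, Int.negSucc 1, Int.ofNat 2, Int.ofNat 0, Int.ofNat 0, Int.ofNat 2, Int.ofNat 0, Int.ofNat 0, Int.negSucc 1, Int.ofNat 0, Int.ofNat 0, Int.ofNat 0, Int.ofNat 0, Int.ofNat 0, Int.ofNat 0],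
  [Int.ofNat 1, Int.negSucc 0, Int.ofNat 1, Int.ofNat 1, Int.negSucc 0, Int.negSucc 0, Int.negSucc 0, Int.ofNat 1, Int.negSucc 0, Int.ofNat 1, Int.negSucc 0, Int.ofNat 1, Int.negSucc 0, Int.ofNat 1, Int.ofNat 1, Int.ofNat 1, Int.ofNat 1, Int.negSucc 2, Int.negSucc 0, Int.ofNat 1, Int.ofNat 1, Int.ofNat 1, Int.ofNat 1, Int.ofNat 1],
  [Int.ofNat 1, Int.negSucc 0, Int.negSucc 0, Int.negSucc 0, Int.ofNat 1, Int.negSucc 0, Int.ofNat 1, Int.negSucc 0, Int.ofNat 1, Int.negSucc 0, Int.ofNat 1, Int.ofNat 1, Int.ofNat 1, Int.ofNat 1, Int.negSucc 2, Int.negSucc 0, Int.ofNat 1, Int.ofNat 1, Int.ofNat 1, Int.ofNat 1, Int.ofNat 1, Int.negSucc 0, Int.ofNat 1, Int.ofNat 1],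
  [Int.negSucc 0, Int.ofNat 1, Int.ofNat 1, Int.ofNat 1, Int.negSucc 0, Int.ofNat 1, Int.ofNat 1, Int.negSucc 0, Int.negSucc 0, Int.negSucc 0, Int.ofNat 1, Int.negSucc 0, Int.negSucc 0, Int.negSucc 0, Int.negSucc 0, Int.negSucc 0, Int.negSucc 0, Int.ofNat 3, Int.negSucc 0, Int.ofNat 1, Int.ofNat 1, Int.negSucc 0, Int.negSucc 0, Int.negSucc 0],
  [Int.negSucc 0, Int.ofNat 1, Int.negSucc 0, Int.ofNat 1, Int.negSucc 0, Int.negSucc 0, Int.ofNat 1, Int.ofNat 1, Int.negSucc 0, Int.negSucc 0, Int.ofNat 1, Int.ofNat 3, Int.negSucc 0, Int.negSucc 0, Int.negSucc 0, Int.negSucc 0, Int.negSucc 0, Int.negSucc 0, Int.ofNat 1, Int.negSucc 0, Int.negSucc 0, Int.ofNat 1, Int.ofNat 1, Int.negSucc 0],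
  [Int.ofNat 0, Int.negSucc 1, Int.ofNat 0, Int.ofNat 2, Int.ofNat 0, Int.ofNat 0, Int.ofNat 0, Int.ofNat 0, Int.negSucc 1, Int.ofNat 0, Int.ofNat 2, Int.ofNat 2, Int.negSucc 1, Int.ofNat 0, Int.ofNat 0, Int.ofNat 0, Int.ofNat 0, Int.ofNat 0, Int.ofNat 0, Int.negSucc 1, Int.ofNat 0, Int.ofNat 0, Int.ofNat 2, Int.ofNat 0],
  [Int.ofNat 0, Int.negSucc 1, Int.ofNat 0, Int.ofNat 2, Int.ofNat 0, Int.ofNat 0, Int.ofNat 0, Int.ofNat 0, Int.negSucc 1, Int.ofNat 0, Int.negSucc 1, Int.ofNat 2, Int.negSucc 1, Int.ofNat 0, Int.ofNat 0, Int.ofNat 0, Int.ofNat 0, Int.ofNat 0, Int.ofNat 0, Int.negSucc 1, Int.ofNat 0, Int.ofNat 0, Int.negSucc 1, Int.ofNat 0],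
  [Int.ofNat 0, Int.ofNat 2, Int.negSucc 1, Int.ofNat 0, Int.negSucc 1, Int.ofNat 0, Int.ofNat 0, Int.ofNat 0, Int.ofNat 2, Int.negSucc 1, Int.ofNat 0, Int.ofNat 0, Int.negSucc 1, Int.ofNat 0, Int.ofNat 0, Int.negSucc 1, Int.ofNat 0, Int.ofNat 0, Int.ofNat 0, Int.ofNat 0, Int.ofNat 0, Int.ofNat 0, Int.negSucc 1, Int.ofNat 0],
  [Int.ofNat 0, Int.ofNat 2, Int.ofNat 2, Int.ofNat 0, Int.negSucc 1, Int.ofNat 0, Int.ofNat 0, Int.ofNat 0, Int.ofNat 2, Int.ofNat 2, Int.ofNat 0, Int.ofNat 0, Int.negSucc 1, Int.ofNat 0, Int.ofNat 0, Int.ofNat 2, Int.ofNat 0, Int.ofNat 0, Int.ofNat 0, Int.ofNat 0, Int.ofNat 0, Int.ofNat 0, Int.ofNat 2, Int.ofNat 0],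
  [Int.ofNat 2, Int.ofNat 0, Int.ofNat 0, Int.ofNat 0, Int.negSucc 1, Int.ofNat 0, Int.ofNat 0, Int.ofNat 0, Int.ofNat 2, Int.ofNat 0, Int.negSucc 1, Int.ofNat 0, Int.negSucc 1, Int.ofNat 0, Int.ofNat 0, Int.ofNat 0, Int.ofNat 0, Int.ofNat 0, Int.ofNat 0, Int.ofNat 0, Int.negSucc 1, Int.ofNat 0, Int.ofNat 2, Int.ofNat 2],
  [Int.ofNat 2, Int.ofNat 0, Int.ofNat 0, Int.ofNat 0, Int.ofNat 0, Int.ofNat 0, Int.ofNat 0, Int.ofNat 0, Int.ofNat 0, Int.negSucc 1, Int.ofNat 0, Int.ofNat 0, Int.ofNat 2, Int.ofNat 0, Int.ofNat 0, Int.ofNat 0, Int.ofNat 0, Int.ofNat 0, Int.negSucc 1, Int.ofNat 2, Int.negSucc 1, Int.negSucc 1, Int.ofNat 0, Int.ofNat 2],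
  [Int.ofNat 0, Int.ofNat 2, Int.ofNat 2, Int.ofNat 0, Int.ofNat 0, Int.ofNat 0, Int.ofNat 0, Int.ofNat 0, Int.ofNat 0, Int.ofNat 0, Int.ofNat 2, Int.ofNat 0, Int.ofNat 2, Int.ofNat 0, Int.ofNat 0, Int.ofNat 2, Int.ofNat 0, Int.ofNat 0, Int.negSucc 1, Int.ofNat 2, Int.ofNat 0, Int.negSucc 1, Int.ofNat 0, Int.ofNat 0],
  [Int.ofNat 0, Int.negSucc 1, Int.ofNat 0, Int.ofNat 0, Int.ofNat 2, Int.ofNat 2, Int.ofNat 0, Int.ofNat 0, Int.ofNat 0, Int.ofNat 0, Int.ofNat 0, Int.ofNat 0, Int.ofNat 0, Int.ofNat 2, Int.ofNat 0, Int.ofNat 2, Int.ofNat 0, Int.ofNat 0, Int.ofNat 2, Int.ofNat 0, Int.ofNat 0, Int.negSucc 1, Int.ofNat 2, Int.ofNat 0],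
  [Int.negSucc 0, Int.ofNat 1, Int.negSucc 0, Int.negSucc 0, Int.negSucc 0, Int.ofNat 1, Int.ofNat 1, Int.ofNat 1, Int.negSucc 0, Int.negSucc 0, Int.negSucc 0, Int.negSucc 0, Int.negSucc 0, Int.negSucc 0, Int.negSucc 0, Int.ofNat 1, Int.negSucc 2, Int.negSucc 0, Int.ofNat 1, Int.ofNat 1, Int.negSucc 0, Int.negSucc 0, Int.negSucc 0, Int.negSucc 0],
  [Int.ofNat 1, Int.negSucc 0, Int.negSucc 0, Int.negSucc 0, Int.ofNat 1, Int.ofNat 1, Int.ofNat 1, Int.negSucc 0, Int.negSucc 0, Int.negSucc 0, Int.negSucc 0, Int.negSucc 0, Int.negSucc 0, Int.negSucc 0, Int.ofNat 1, Int.negSucc 2, Int.negSucc 0, Int.ofNat 1, Int.ofNat 1, Int.negSucc 0, Int.negSucc 0, Int.negSucc 0, Int.negSucc 0, Int.negSucc 0],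
  [Int.negSucc 0, Int.negSucc 0, Int.ofNat 1, Int.negSucc 0, Int.ofNat 1, Int.ofNat 1, Int.ofNat 1, Int.ofNat 1, Int.negSucc 0, Int.ofNat 1, Int.ofNat 1, Int.ofNat 1, Int.negSucc 0, Int.negSucc 0, Int.ofNat 1, Int.negSucc 2, Int.negSucc 0, Int.ofNat 1, Int.negSucc 0, Int.negSucc 0, Int.negSucc 0, Int.ofNat 1, Int.negSucc 0, Int.negSucc 0],
  [Int.negSucc 0, Int.ofNat 1, Int.negSucc 0, Int.negSucc 0, Int.negSucc 0, Int.ofNat 1, Int.ofNat 1, Int.negSucc 0, Int.ofNat 1, Int.negSucc 0, Int.ofNat 1, Int.ofNat 1, Int.negSucc 0, Int.negSucc 0, Int.negSucc 0, Int.negSucc 2, Int.negSucc 0, Int.negSucc 0, Int.ofNat 1, Int.ofNat 1, Int.ofNat 1, Int.ofNat 1, Int.ofNat 1, Int.negSucc 0],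
  [Int.ofNat 1, Int.ofNat 1, Int.ofNat 1, Int.negSucc 0, Int.negSucc 0, Int.ofNat 1, Int.ofNat 1, Int.ofNat 1, Int.ofNat 1, Int.ofNat 1, Int.negSucc 0, Int.negSucc 0, Int.negSucc 0, Int.negSucc 0, Int.negSucc 0, Int.negSucc 2, Int.negSucc 0, Int.negSucc 0, Int.negSucc 0, Int.ofNat 1, Int.ofNat 1, Int.negSucc 0, Int.ofNat 1, Int.negSucc 0],
  [Int.ofNat 1, Int.ofNat 1, Int.ofNat 1, Int.ofNat 1, Int.negSucc 0, Int.negSucc 0, Int.ofNat 1, Int.ofNat 1, Int.ofNat 1, Int.ofNat 1, Int.ofNat 1, Int.negSucc 0, Int.negSucc 0, Int.negSucc 0, Int.negSucc 0, Int.negSucc 0, Int.negSucc 2, Int.negSucc 0, Int.negSucc 0, Int.negSucc 0, Int.ofNat 1, Int.ofNat 1, Int.negSucc 0, Int.negSucc 0],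
  [Int.ofNat 0, Int.ofNat 0, Int.ofNat 0, Int.ofNat 2, Int.ofNat 2, Int.ofNat 0, Int.ofNat 0, Int.ofNat 0, Int.ofNat 2, Int.ofNat 0, Int.ofNat 0, Int.ofNat 0, Int.ofNat 0, Int.ofNat 2, Int.ofNat 0, Int.negSucc 1, Int.ofNat 0, Int.ofNat 0, Int.ofNat 0, Int.negSucc 1, Int.ofNat 0, Int.ofNat 0, Int.ofNat 2, Int.ofNat 2],
  [Int.ofNat 2, Int.ofNat 2, Int.ofNat 0, Int.ofNat 0, Int.ofNat 0, Int.ofNat 2, Int.ofNat 0, Int.ofNat 0, Int.ofNat 0, Int.ofNat 0, Int.ofNat 2, Int.ofNat 0, Int.negSucc 1, Int.ofNat 0, Int.ofNat 0, Int.ofNat 0, Int.negSucc 1, Int.ofNat 0, Int.ofNat 0, Int.ofNat 2, Int.ofNat 0, Int.ofNat 0, Int.ofNat 0, Int.ofNat 2],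
  [Int.ofNat 1, Int.ofNat 1, Int.ofNat 3, Int.negSucc 0, Int.ofNat 1, Int.ofNat 1, Int.negSucc 0, Int.negSucc 0, Int.ofNat 1, Int.negSucc 0, Int.ofNat 1, Int.ofNat 1, Int.negSucc 0, Int.ofNat 1, Int.negSucc 0, Int.negSucc 0, Int.negSucc 0, Int.negSucc 0, Int.ofNat 1, Int.ofNat 1, Int.negSucc 0, Int.negSucc 0, Int.ofNat 1, Int.ofNat 1],
  [Int.ofNat 1, Int.negSucc 0, Int.ofNat 1, Int.negSucc 0, Int.ofNat 1, Int.negSucc 0, Int.ofNat 3, Int.ofNat 1, Int.negSucc 0, Int.ofNat 1, Int.negSucc 0, Int.negSucc 0, Int.negSucc 0, Int.negSucc 0, Int.ofNat 1, Int.negSucc 0, Int.ofNat 1, Int.negSucc 0, Int.ofNat 1, Int.ofNat 1, Int.negSucc 0, Int.ofNat 1, Int.ofNat 1, Int.ofNat 1],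
  [Int.ofNat 0, Int.ofNat 2, Int.ofNat 0, Int.ofNat 0, Int.ofNat 0, Int.ofNat 0, Int.ofNat 0, Int.negSucc 1, Int.ofNat 0, Int.ofNat 2, Int.ofNat 0, Int.ofNat 0, Int.ofNat 0, Int.negSucc 1, Int.ofNat 2, Int.ofNat 0, Int.ofNat 0, Int.ofNat 0, Int.ofNat 2, Int.negSucc 1, Int.ofNat 0, Int.negSucc 1, Int.ofNat 0, Int.ofNat 0],
  [Int.ofNat 0, Int.ofNat 2, Int.ofNat 0, Int.ofNat 0, Int.ofNat 0, Int.ofNat 0, Int.ofNat 0, Int.negSucc 1, Int.ofNat 0, Int.negSucc 1, Int.ofNat 0, Int.ofNat 0, Int.ofNat 0, Int.negSucc 1, Int.ofNat 2, Int.ofNat 0, Int.ofNat 0, Int.ofNat 0, Int.negSucc 1, Int.negSucc 1, Int.ofNat 0, Int.negSucc 1, Int.ofNat 0, Int.ofNat 0],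
  [Int.ofNat 0, Int.ofNat 0, Int.ofNat 0, Int.ofNat 0, Int.ofNat 2, Int.ofNat 0, Int.negSucc 1, Int.ofNat 0, Int.ofNat 0, Int.ofNat 0, Int.negSucc 1, Int.negSucc 1, Int.ofNat 0, Int.ofNat 0, Int.ofNat 0, Int.negSucc 1, Int.negSucc 1, Int.ofNat 0, Int.negSucc 1, Int.ofNat 0, Int.ofNat 0, Int.ofNat 2, Int.ofNat 0, Int.ofNat 0],
  [Int.ofNat 0, Int.ofNat 0, Int.ofNat 0, Int.ofNat 0, Int.negSucc 1, Int.ofNat 0, Int.ofNat 2, Int.ofNat 0, Int.ofNat 0, Int.ofNat 0, Int.negSucc 1, Int.negSucc 1, Int.ofNat 0, Int.ofNat 0, Int.ofNat 0, Int.negSucc 1, Int.ofNat 2, Int.ofNat 0, Int.ofNat 2, Int.ofNat 0, Int.ofNat 0, Int.ofNat 2, Int.ofNat 0, Int.ofNat 0],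
  [Int.ofNat 0, Int.ofNat 0, Int.negSucc 1, Int.negSucc 1, Int.ofNat 0, Int.ofNat 0, Int.ofNat 0, Int.ofNat 0, Int.ofNat 0, Int.ofNat 0, Int.ofNat 2, Int.ofNat 0, Int.ofNat 2, Int.ofNat 0, Int.ofNat 2, Int.ofNat 0, Int.negSucc 1, Int.negSucc 1, Int.ofNat 0, Int.ofNat 2, Int.ofNat 0, Int.ofNat 0, Int.ofNat 0, Int.ofNat 0],
  [Int.ofNat 0, Int.ofNat 0, Int.ofNat 2, Int.negSucc 1, Int.ofNat 0, Int.ofNat 0, Int.ofNat 0, Int.ofNat 0, Int.ofNat 0, Int.ofNat 0, Int.negSucc 1, Int.ofNat 0, Int.ofNat 2, Int.ofNat 0, Int.ofNat 2, Int.ofNat 0, Int.negSucc 1, Int.negSucc 1, Int.ofNat 0, Int.ofNat 2, Int.ofNat 0, Int.ofNat 0, Int.ofNat 0, Int.ofNat 0],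
  [Int.ofNat 0, Int.ofNat 0, Int.ofNat 0, Int.ofNat 2, Int.negSucc 1, Int.ofNat 0, Int.ofNat 0, Int.ofNat 0, Int.ofNat 0, Int.ofNat 0, Int.ofNat 0, Int.negSucc 1, Int.ofNat 0, Int.ofNat 2, Int.ofNat 0, Int.ofNat 2, Int.ofNat 0, Int.negSucc 1, Int.negSucc 1, Int.ofNat 0, Int.ofNat 2, Int.ofNat 0, Int.ofNat 0, Int.ofNat 0],
  [Int.ofNat 0, Int.ofNat 0, Int.ofNat 0, Int.ofNat 2, Int.negSucc 1, Int.ofNat 0, Int.ofNat 0, Int.ofNat 0, Int.ofNat 2, Int.negSucc 1, Int.negSucc 1, Int.ofNat 0, Int.ofNat 2, Int.ofNat 2, Int.ofNat 0, Int.ofNat 0, Int.ofNat 0, Int.negSucc 1, Int.ofNat 0, Int.ofNat 0, Int.ofNat 0, Int.ofNat 0, Int.ofNat 0, Int.ofNat 0],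
  [Int.ofNat 2, Int.negSucc 1, Int.ofNat 0, Int.ofNat 0, Int.ofNat 0, Int.ofNat 2, Int.negSucc 1, Int.negSucc 1, Int.ofNat 0, Int.ofNat 2, Int.ofNat 2, Int.ofNat 0, Int.ofNat 0, Int.ofNat 0, Int.negSucc 1, Int.ofNat 0, Int.ofNat 0, Int.ofNat 0, Int.ofNat 0, Int.ofNat 0, Int.ofNat 0, Int.ofNat 0, Int.ofNat 0, Int.ofNat 0],
  [Int.negSucc 1, Int.ofNat 2, Int.ofNat 0, Int.ofNat 0, Int.ofNat 0, Int.ofNat 2, Int.ofNat 0, Int.ofNat 0, Int.ofNat 0, Int.ofNat 0, Int.ofNat 0, Int.ofNat 0, Int.ofNat 0, Int.ofNat 0, Int.negSucc 1, Int.negSucc 1, Int.ofNat 0, Int.ofNat 0, Int.ofNat 0, Int.ofNat 2, Int.negSucc 1, Int.ofNat 2, Int.ofNat 0, Int.ofNat 0],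
  [Int.negSucc 1, Int.ofNat 0, Int.ofNat 0, Int.ofNat 0, Int.ofNat 0, Int.ofNat 0, Int.ofNat 0, Int.ofNat 0, Int.ofNat 0, Int.ofNat 0, Int.negSucc 1, Int.ofNat 0, Int.ofNat 0, Int.ofNat 0, Int.ofNat 0, Int.negSucc 1, Int.ofNat 0, Int.negSucc 1, Int.ofNat 2, Int.ofNat 0, Int.ofNat 2, Int.ofNat 2, Int.ofNat 2, Int.ofNat 0],
  [Int.ofNat 1, Int.negSucc 0, Int.negSucc 0, Int.ofNat 1, Int.negSucc 0, Int.ofNat 1, Int.negSucc 0, Int.negSucc 0, Int.negSucc 0, Int.ofNat 1, Int.negSucc 0, Int.negSucc 0, Int.negSucc 0, Int.negSucc 0, Int.ofNat 1, Int.negSucc 0, Int.negSucc 0, Int.negSucc 0, Int.ofNat 1, Int.negSucc 0, Int.ofNat 3, Int.ofNat 1, Int.ofNat 1, Int.negSucc 0],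
  [Int.ofNat 1, Int.negSucc 0, Int.ofNat 1, Int.ofNat 1, Int.negSucc 0, Int.negSucc 0, Int.ofNat 1, Int.negSucc 0, Int.negSucc 0, Int.negSucc 0, Int.ofNat 1, Int.negSucc 0, Int.negSucc 0, Int.negSucc 0, Int.ofNat 1, Int.ofNat 1, Int.negSucc 0, Int.negSucc 0, Int.negSucc 0, Int.negSucc 0, Int.ofNat 3, Int.ofNat 1, Int.negSucc 0, Int.negSucc 0],
  [Int.negSucc 0, Int.negSucc 0, Int.ofNat 1, Int.negSucc 0, Int.negSucc 0, Int.ofNat 1, Int.ofNat 3, Int.negSucc 0, Int.ofNat 1, Int.negSucc 0, Int.ofNat 1, Int.ofNat 1, Int.negSucc 0, Int.negSucc 0, Int.negSucc 0, Int.negSucc 0, Int.ofNat 1, Int.negSucc 0, Int.ofNat 1, Int.ofNat 1, Int.negSucc 0, Int.negSucc 0, Int.negSucc 0, Int.negSucc 0],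
  [Int.negSucc 0, Int.negSucc 0, Int.negSucc 0, Int.negSucc 0, Int.negSucc 0, Int.negSucc 0, Int.negSucc 2, Int.negSucc 0, Int.ofNat 1, Int.ofNat 1, Int.negSucc 0, Int.ofNat 1, Int.negSucc 0, Int.negSucc 0, Int.negSucc 0, Int.ofNat 1, Int.ofNat 1, Int.negSucc 0, Int.negSucc 0, Int.ofNat 1, Int.negSucc 0, Int.negSucc 0, Int.ofNat 1, Int.negSucc 0],
  [Int.negSucc 0, Int.negSucc 0, Int.negSucc 0, Int.ofNat 1, Int.negSucc 0, Int.ofNat 1, Int.negSucc 0, Int.ofNat 1, Int.ofNat 1, Int.ofNat 1, Int.negSucc 0, Int.ofNat 1, Int.negSucc 0, Int.negSucc 0, Int.ofNat 1, Int.ofNat 1, Int.ofNat 1, Int.ofNat 1, Int.negSucc 0, Int.ofNat 3, Int.negSucc 0, Int.ofNat 1, Int.ofNat 1, Int.negSucc 0],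
  [Int.negSucc 0, Int.negSucc 0, Int.negSucc 0, Int.ofNat 1, Int.negSucc 0, Int.ofNat 1, Int.negSucc 0, Int.ofNat 1, Int.ofNat 1, Int.negSucc 0, Int.ofNat 1, Int.ofNat 3, Int.ofNat 1, Int.ofNat 1, Int.ofNat 1, Int.ofNat 1, Int.negSucc 0, Int.ofNat 1, Int.negSucc 0, Int.ofNat 1, Int.negSucc 0, Int.negSucc 0, Int.ofNat 1, Int.negSucc 0],
  [Int.negSucc 0, Int.negSucc 0, Int.negSucc 0, Int.negSucc 0, Int.negSucc 0, Int.negSucc 0, Int.negSucc 0, Int.ofNat 1, Int.negSucc 0, Int.negSucc 0, Int.ofNat 1, Int.ofNat 1, Int.negSucc 0, Int.ofNat 1, Int.negSucc 0, Int.ofNat 1, Int.negSucc 0, Int.negSucc 0, Int.negSucc 2, Int.ofNat 1, Int.negSucc 0, Int.negSucc 0, Int.ofNat 1, Int.negSucc 0],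
  [Int.negSucc 0, Int.negSucc 0, Int.ofNat 1, Int.negSucc 0, Int.negSucc 0, Int.negSucc 0, Int.negSucc 0, Int.negSucc 0, Int.negSucc 0, Int.negSucc 0, Int.ofNat 1, Int.negSucc 0, Int.negSucc 0, Int.ofNat 1, Int.ofNat 1, Int.negSucc 0, Int.ofNat 1, Int.negSucc 0, Int.ofNat 1, Int.negSucc 0, Int.negSucc 0, Int.negSucc 2, Int.ofNat 1, Int.negSucc 0],
  [Int.ofNat 0, Int.ofNat 0, Int.negSucc 1, Int.ofNat 0, Int.negSucc 1, Int.ofNat 0, Int.ofNat 2, Int.ofNat 2, Int.ofNat 0, Int.ofNat 0, Int.ofNat 2, Int.ofNat 0, Int.ofNat 0, Int.ofNat 0, Int.ofNat 2, Int.ofNat 0, Int.ofNat 0, Int.ofNat 0, Int.ofNat 2, Int.ofNat 2, Int.ofNat 0, Int.ofNat 0, Int.ofNat 0, Int.ofNat 0],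
  [Int.ofNat 0, Int.negSucc 1, Int.ofNat 0, Int.negSucc 1, Int.ofNat 0, Int.ofNat 2, Int.ofNat 2, Int.ofNat 0, Int.ofNat 0, Int.ofNat 2, Int.ofNat 0, Int.ofNat 0, Int.ofNat 0, Int.ofNat 2, Int.ofNat 0, Int.ofNat 0, Int.ofNat 0, Int.ofNat 2, Int.ofNat 2, Int.ofNat 0, Int.ofNat 0, Int.ofNat 0, Int.ofNat 0, Int.ofNat 0],
  [Int.ofNat 0, Int.negSucc 1, Int.ofNat 0, Int.negSucc 1, Int.ofNat 0, Int.ofNat 2, Int.ofNat 2, Int.ofNat 0, Int.ofNat 0, Int.negSucc 1, Int.ofNat 0, Int.ofNat 0, Int.ofNat 0, Int.ofNat 2, Int.ofNat 0, Int.ofNat 0, Int.ofNat 0, Int.ofNat 2, Int.negSucc 1, Int.ofNat 0, Int.ofNat 0, Int.ofNat 0, Int.ofNat 0, Int.ofNat 0],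
  [Int.ofNat 0, Int.ofNat 0, Int.negSucc 1, Int.negSucc 1, Int.negSucc 1, Int.ofNat 0, Int.ofNat 0, Int.ofNat 0, Int.negSucc 1, Int.ofNat 0, Int.ofNat 0, Int.ofNat 0, Int.ofNat 2, Int.ofNat 0, Int.ofNat 0, Int.ofNat 0, Int.ofNat 0, Int.ofNat 0, Int.ofNat 2, Int.ofNat 2, Int.ofNat 2, Int.ofNat 0, Int.ofNat 0, Int.ofNat 0],
  [Int.ofNat 0, Int.ofNat 0, Int.ofNat 2, Int.negSucc 1, Int.negSucc 1, Int.ofNat 0, Int.ofNat 0, Int.ofNat 0, Int.negSucc 1, Int.ofNat 0, Int.ofNat 0, Int.ofNat 0, Int.ofNat 2, Int.ofNat 0, Int.ofNat 0, Int.ofNat 0, Int.ofNat 0, Int.ofNat 0, Int.negSucc 1, Int.ofNat 2, Int.ofNat 2, Int.ofNat 0, Int.ofNat 0, Int.ofNat 0],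
  [Int.ofNat 0, Int.ofNat 0, Int.ofNat 0, Int.ofNat 2, Int.negSucc 1, Int.negSucc 1, Int.ofNat 0, Int.ofNat 0, Int.ofNat 0, Int.negSucc 1, Int.ofNat 0, Int.ofNat 0, Int.ofNat 0, Int.ofNat 2, Int.ofNat 0, Int.ofNat 0, Int.ofNat 0, Int.ofNat 0, Int.ofNat 0, Int.negSucc 1, Int.ofNat 2, Int.ofNat 2, Int.ofNat 0, Int.ofNat 0],
  [Int.ofNat 0, Int.ofNat 0, Int.ofNat 0, Int.ofNat 2, Int.negSucc 1, Int.negSucc 1, Int.ofNat 0, Int.ofNat 0, Int.ofNat 0, Int.negSucc 1, Int.ofNat 0, Int.ofNat 0, Int.ofNat 0, Int.ofNat 2, Int.ofNat 0, Int.ofNat 0, Int.ofNat 0, Int.ofNat 0, Int.ofNat 0, Int.negSucc 1, Int.ofNat 2, Int.ofNat 2, Int.ofNat 0, Int.ofNat 0],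
  [Int.ofNat 2, Int.negSucc 1, Int.negSucc 1, Int.ofNat 0, Int.ofNat 0, Int.ofNat 0, Int.negSucc 1, Int.ofNat 0, Int.ofNat 0, Int.ofNat 0, Int.ofNat 2, Int.ofNat 0, Int.ofNat 0, Int.ofNat 0, Int.ofNat 0, Int.ofNat 0, Int.negSucc 1, Int.ofNat 2, Int.ofNat 2, Int.ofNat 0, Int.ofNat 0, Int.ofNat 0, Int.ofNat 0, Int.ofNat 0],
  [Int.negSucc 2, Int.ofNat 1, Int.ofNat 1, Int.negSucc 0, Int.ofNat 1, Int.negSucc 0, Int.negSucc 0, Int.ofNat 1, Int.negSucc 0, Int.negSucc 0, Int.ofNat 1, Int.negSucc 0, Int.negSucc 0, Int.ofNat 1, Int.negSucc 0, Int.negSucc 0, Int.negSucc 0, Int.ofNat 1, Int.ofNat 1, Int.ofNat 1, Int.negSucc 0, Int.ofNat 1, Int.ofNat 1, Int.negSucc 0],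
  [Int.negSucc 2, Int.negSucc 0, Int.ofNat 1, Int.negSucc 0, Int.ofNat 1, Int.ofNat 1, Int.ofNat 1, Int.ofNat 1, Int.negSucc 0, Int.ofNat 1, Int.negSucc 0, Int.ofNat 1, Int.negSucc 0, Int.negSucc 0, Int.ofNat 1, Int.negSucc 0, Int.negSucc 0, Int.negSucc 0, Int.ofNat 1, Int.negSucc 0, Int.ofNat 1, Int.negSucc 0, Int.ofNat 1, Int.negSucc 0],
  [Int.ofNat 1, Int.negSucc 0, Int.negSucc 2, Int.negSucc 0, Int.ofNat 1, Int.ofNat 1, Int.ofNat 1, Int.ofNat 1, Int.negSucc 0, Int.ofNat 1, Int.negSucc 0, Int.ofNat 1, Int.negSucc 0, Int.negSucc 0, Int.ofNat 1, Int.negSucc 0, Int.negSucc 0, Int.negSucc 0, Int.ofNat 1, Int.negSucc 0, Int.ofNat 1, Int.negSucc 0, Int.ofNat 1, Int.negSucc 0],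
  [Int.ofNat 1, Int.negSucc 0, Int.ofNat 3, Int.negSucc 0, Int.ofNat 1, Int.negSucc 0, Int.negSucc 0, Int.ofNat 1, Int.negSucc 0, Int.negSucc 0, Int.ofNat 1, Int.ofNat 1, Int.negSucc 0, Int.negSucc 0, Int.ofNat 1, Int.ofNat 1, Int.negSucc 0, Int.negSucc 0, Int.negSucc 0, Int.negSucc 0, Int.ofNat 1, Int.negSucc 0, Int.negSucc 0, Int.negSucc 0],
  [Int.ofNat 1, Int.negSucc 0, Int.ofNat 1, Int.negSucc 0, Int.ofNat 1, Int.negSucc 0, Int.negSucc 0, Int.negSucc 0, Int.negSucc 0, Int.ofNat 1, Int.negSucc 0, Int.ofNat 1, Int.ofNat 1, Int.ofNat 1, Int.negSucc 0, Int.negSucc 0, Int.negSucc 0, Int.negSucc 0, Int.negSucc 0, Int.ofNat 3, Int.ofNat 1, Int.negSucc 0, Int.negSucc 0, Int.negSucc 0],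
  [Int.negSucc 0, Int.ofNat 1, Int.negSucc 0, Int.ofNat 1, Int.negSucc 0, Int.negSucc 0, Int.ofNat 1, Int.negSucc 0, Int.ofNat 1, Int.negSucc 0, Int.negSucc 0, Int.ofNat 1, Int.negSucc 0, Int.negSucc 0, Int.negSucc 0, Int.negSucc 0, Int.ofNat 1, Int.negSucc 0, Int.ofNat 1, Int.ofNat 3, Int.ofNat 1, Int.negSucc 0, Int.negSucc 0, Int.negSucc 0],
  [Int.negSucc 0, Int.negSucc 0, Int.ofNat 1, Int.negSucc 0, Int.negSucc 0, Int.negSucc 0, Int.ofNat 3, Int.negSucc 0, Int.ofNat 1, Int.negSucc 0, Int.ofNat 1, Int.negSucc 0, Int.negSucc 0, Int.negSucc 0, Int.ofNat 1, Int.ofNat 1, Int.negSucc 0, Int.negSucc 0, Int.negSucc 0, Int.ofNat 1, Int.ofNat 1, Int.negSucc 0, Int.ofNat 1, Int.negSucc 0],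
  [Int.ofNat 1, Int.negSucc 0, Int.negSucc 0, Int.negSucc 0, Int.negSucc 0, Int.negSucc 0, Int.ofNat 3, Int.ofNat 1, Int.ofNat 1, Int.ofNat 1, Int.negSucc 0, Int.ofNat 1, Int.negSucc 0, Int.negSucc 0, Int.ofNat 1, Int.ofNat 1, Int.negSucc 0, Int.negSucc 0, Int.ofNat 1, Int.ofNat 1, Int.ofNat 1, Int.ofNat 1, Int.ofNat 1, Int.negSucc 0],
  [Int.ofNat 1, Int.ofNat 1, Int.negSucc 0, Int.negSucc 0, Int.negSucc 0, Int.negSucc 0, Int.negSucc 0, Int.ofNat 3, Int.ofNat 1, Int.ofNat 1, Int.ofNat 1, Int.negSucc 0, Int.ofNat 1, Int.negSucc 0, Int.negSucc 0, Int.ofNat 1, Int.ofNat 1, Int.negSucc 0, Int.negSucc 0, Int.ofNat 1, Int.ofNat 1, Int.ofNat 1, Int.ofNat 1, Int.negSucc 0],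
  [Int.negSucc 0, Int.negSucc 0, Int.ofNat 1, Int.ofNat 1, Int.negSucc 0, Int.ofNat 1, Int.negSucc 2, Int.ofNat 1, Int.ofNat 1, Int.negSucc 0, Int.negSucc 0, Int.negSucc 0, Int.ofNat 1, Int.negSucc 0, Int.ofNat 1, Int.negSucc 0, Int.ofNat 1, Int.ofNat 1, Int.negSucc 0, Int.negSucc 0, Int.negSucc 0, Int.negSucc 0, Int.ofNat 1, Int.ofNat 1],
  [Int.ofNat 1, Int.negSucc 0, Int.ofNat 1, Int.negSucc 2, Int.ofNat 1, Int.ofNat 1, Int.negSucc 0, Int.negSucc 0, Int.negSucc 0, Int.ofNat 1, Int.negSucc 0, Int.ofNat 1, Int.negSucc 0, Int.ofNat 1, Int.ofNat 1, Int.negSucc 0, Int.negSucc 0, Int.negSucc 0, Int.negSucc 0, Int.ofNat 1, Int.negSucc 0, Int.negSucc 0, Int.ofNat 1, Int.ofNat 1],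
  [Int.ofNat 0, Int.ofNat 2, Int.ofNat 0, Int.negSucc 1, Int.ofNat 0, Int.ofNat 2, Int.ofNat 0, Int.ofNat 0, Int.ofNat 0, Int.ofNat 2, Int.ofNat 0, Int.ofNat 2, Int.ofNat 0, Int.ofNat 0, Int.ofNat 2, Int.ofNat 0, Int.negSucc 1, Int.ofNat 0, Int.ofNat 0, Int.ofNat 2, Int.ofNat 0, Int.ofNat 0, Int.ofNat 0, Int.ofNat 0],
  [Int.ofNat 0, Int.ofNat 0, Int.ofNat 0, Int.negSucc 1, Int.ofNat 0, Int.ofNat 0, Int.ofNat 0, Int.ofNat 0, Int.ofNat 0, Int.ofNat 0, Int.ofNat 0, Int.ofNat 0, Int.ofNat 2, Int.negSucc 1, Int.ofNat 0, Int.ofNat 0, Int.ofNat 0, Int.ofNat 2, Int.ofNat 2, Int.ofNat 2, Int.ofNat 0, Int.ofNat 2, Int.ofNat 2, Int.ofNat 0],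
  [Int.ofNat 0, Int.ofNat 0, Int.ofNat 0, Int.negSucc 1, Int.ofNat 0, Int.ofNat 0, Int.negSucc 1, Int.negSucc 1, Int.negSucc 1, Int.ofNat 0, Int.ofNat 0, Int.negSucc 1, Int.ofNat 0, Int.negSucc 1, Int.ofNat 0, Int.ofNat 0, Int.ofNat 0, Int.ofNat 2, Int.ofNat 0, Int.ofNat 0, Int.ofNat 0, Int.ofNat 0, Int.ofNat 2, Int.ofNat 0],
  [Int.ofNat 0, Int.ofNat 0, Int.ofNat 0, Int.negSucc 1, Int.ofNat 0, Int.ofNat 0, Int.ofNat 2, Int.negSucc 1, Int.negSucc 1, Int.ofNat 0, Int.ofNat 0, Int.negSucc 1, Int.ofNat 0, Int.negSucc 1, Int.ofNat 0, Int.ofNat 0, Int.ofNat 0, Int.ofNat 2, Int.ofNat 0, Int.ofNat 0, Int.ofNat 0, Int.ofNat 0, Int.negSucc 1, Int.ofNat 0],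
  [Int.ofNat 0, Int.negSucc 1, Int.ofNat 0, Int.negSucc 1, Int.ofNat 0, Int.ofNat 0, Int.ofNat 0, Int.ofNat 0, Int.negSucc 1, Int.negSucc 1, Int.ofNat 0, Int.ofNat 0, Int.ofNat 0, Int.ofNat 2, Int.ofNat 0, Int.ofNat 0, Int.ofNat 2, Int.ofNat 0, Int.ofNat 0, Int.ofNat 0, Int.ofNat 0, Int.negSucc 1, Int.negSucc 1, Int.ofNat 0],
  [Int.ofNat 0, Int.negSucc 1, Int.ofNat 0, Int.negSucc 1, Int.ofNat 0, Int.ofNat 0, Int.ofNat 0, Int.ofNat 0, Int.negSucc 1, Int.ofNat 2, Int.ofNat 0, Int.ofNat 0, Int.ofNat 0, Int.ofNat 2, Int.ofNat 0, Int.ofNat 0, Int.ofNat 2, Int.ofNat 0, Int.ofNat 0, Int.ofNat 0, Int.ofNat 0, Int.negSucc 1, Int.ofNat 2, Int.ofNat 0],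
  [Int.negSucc 0, Int.ofNat 1, Int.negSucc 0, Int.negSucc 0, Int.negSucc 2, Int.ofNat 1, Int.ofNat 1, Int.ofNat 1, Int.negSucc 0, Int.ofNat 1, Int.negSucc 0, Int.ofNat 1, Int.ofNat 1, Int.negSucc 0, Int.ofNat 1, Int.negSucc 0, Int.negSucc 0, Int.ofNat 1, Int.ofNat 1, Int.ofNat 1, Int.negSucc 0, Int.negSucc 0, Int.negSucc 0, Int.negSucc 0],
  [Int.negSucc 0, Int.ofNat 1, Int.ofNat 1, Int.negSucc 0, Int.negSucc 0, Int.negSucc 0, Int.ofNat 1, Int.ofNat 1, Int.negSucc 0, Int.ofNat 1, Int.ofNat 1, Int.ofNat 1, Int.negSucc 0, Int.ofNat 1, Int.ofNat 1, Int.negSucc 0, Int.negSucc 0, Int.ofNat 1, Int.negSucc 2, Int.negSucc 0, Int.negSucc 0, Int.negSucc 0, Int.ofNat 1, Int.negSucc 0],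
  [Int.ofNat 1, Int.negSucc 0, Int.negSucc 0, Int.negSucc 0, Int.negSucc 0, Int.negSucc 0, Int.ofNat 1, Int.ofNat 1, Int.ofNat 1, Int.ofNat 1, Int.ofNat 1, Int.ofNat 3, Int.ofNat 1, Int.ofNat 1, Int.ofNat 1, Int.negSucc 0, Int.negSucc 0, Int.ofNat 1, Int.negSucc 0, Int.negSucc 0, Int.negSucc 0, Int.negSucc 0, Int.ofNat 1, Int.ofNat 1],
  [Int.negSucc 0, Int.negSucc 0, Int.ofNat 1, Int.ofNat 1, Int.negSucc 0, Int.negSucc 0, Int.negSucc 0, Int.negSucc 0, Int.negSucc 0, Int.ofNat 1, Int.ofNat 1, Int.ofNat 1, Int.ofNat 1, Int.ofNat 1, Int.ofNat 3, Int.ofNat 1, Int.ofNat 1, Int.ofNat 1, Int.negSucc 0, Int.negSucc 0, Int.ofNat 1, Int.negSucc 0, Int.negSucc 0, Int.ofNat 1],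
  [Int.ofNat 1, Int.ofNat 1, Int.negSucc 0, Int.negSucc 0, Int.negSucc 0, Int.negSucc 2, Int.ofNat 1, Int.ofNat 1, Int.negSucc 0, Int.negSucc 0, Int.negSucc 0, Int.ofNat 1, Int.ofNat 1, Int.ofNat 1, Int.ofNat 1, Int.negSucc 0, Int.ofNat 1, Int.negSucc 0, Int.negSucc 0, Int.ofNat 1, Int.negSucc 0, Int.ofNat 1, Int.negSucc 0, Int.negSucc 0],
  [Int.ofNat 1, Int.negSucc 0, Int.negSucc 0, Int.negSucc 0, Int.negSucc 2, Int.ofNat 1, Int.ofNat 1, Int.negSucc 0, Int.negSucc 0, Int.negSucc 0, Int.ofNat 1, Int.ofNat 1, Int.ofNat 1, Int.ofNat 1, Int.negSucc 0, Int.ofNat 1, Int.negSucc 0, Int.negSucc 0, Int.ofNat 1, Int.negSucc 0, Int.ofNat 1, Int.negSucc 0, Int.ofNat 1, Int.negSucc 0],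
  [Int.negSucc 0, Int.negSucc 0, Int.ofNat 1, Int.negSucc 0, Int.negSucc 2, Int.ofNat 1, Int.ofNat 1, Int.ofNat 1, Int.negSucc 0, Int.ofNat 1, Int.negSucc 0, Int.negSucc 0, Int.ofNat 1, Int.ofNat 1, Int.negSucc 0, Int.ofNat 1, Int.negSucc 0, Int.negSucc 0, Int.negSucc 0, Int.negSucc 0, Int.ofNat 1, Int.ofNat 1, Int.ofNat 1, Int.negSucc 0]]

set_option maxRecDepth 100000 in
theorem c1et15_chk : pmChk (List.replicate 14 [15, 0, 25, 26]).flatten nxL c1et15M 0 0 = true := by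
  decide +kernel

theorem c1et15_ne : wE letE2 (List.replicate 14 [15, 0, 25, 26]).flatten ≠ 1 ∧ wE letE2 (List.replicate 14 [15, 0, 25, 26]).flatten ≠ negElt :=
  ne_pm_of_chk nxL_mem c1et15_chk

set_option maxRecDepth 100000 in
def c1et16M : List (List ℤ) :=
  [[Int.negSucc 3, Int.ofNat 0, Int.ofNat 0, Int.ofNat 0, Int.ofNat 0, Int.ofNat 0, Int.ofNat 0, Int.ofNat 0, Int.ofNat 0, Int.ofNat 0, Int.ofNat 0, Int.ofNat 0, Int.ofNat 0, Int.ofNat 0, Int.ofNat 0, Int.ofNat 0, Int.ofNat 0, Int.ofNat 0, Int.ofNat 0, Int.ofNat 0, Int.ofNat 0, Int.ofNat 0, Int.ofNat 0, Int.ofNat 4],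
  [Int.ofNat 4, Int.ofNat 0, Int.ofNat 0, Int.ofNat 0, Int.ofNat 0, Int.ofNat 0, Int.ofNat 0, Int.ofNat 0, Int.ofNat 0, Int.ofNat 0, Int.ofNat 0, Int.ofNat 0, Int.ofNat 0, Int.ofNat 0, Int.ofNat 0, Int.ofNat 0, Int.ofNat 0, Int.ofNat 0, Int.ofNat 0, Int.ofNat 0, Int.ofNat 0, Int.ofNat 0, Int.ofNat 0, Int.ofNat 4],
  [Int.ofNat 0, Int.ofNat 4, Int.ofNat 0, Int.ofNat 0, Int.ofNat 0, Int.ofNat 0, Int.ofNat 0, Int.ofNat 0, Int.ofNat 0, Int.ofNat 0, Int.ofNat 0, Int.ofNat 0, Int.ofNat 0, Int.ofNat 0, Int.ofNat 0, Int.ofNat 0, Int.ofNat 0, Int.ofNat 0, Int.ofNat 0, Int.ofNat 0, Int.ofNat 0, Int.ofNat 0, Int.ofNat 0, Int.ofNat 4],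
  [Int.ofNat 4, Int.ofNat 0, Int.ofNat 4, Int.ofNat 0, Int.ofNat 0, Int.ofNat 0, Int.ofNat 0, Int.ofNat 0, Int.ofNat 0, Int.ofNat 0, Int.ofNat 0, Int.ofNat 0, Int.ofNat 0, Int.ofNat 0, Int.ofNat 0, Int.ofNat 0, Int.ofNat 0, Int.ofNat 0, Int.ofNat 0, Int.ofNat 0, Int.ofNat 0, Int.ofNat 0, Int.ofNat 0, Int.ofNat 0],
  [Int.ofNat 0, Int.ofNat 0, Int.ofNat 0, Int.ofNat 0, Int.ofNat 0, Int.ofNat 0, Int.ofNat 0, Int.ofNat 0, Int.ofNat 0, Int.ofNat 0, Int.ofNat 0, Int.ofNat 0, Int.ofNat 0, Int.ofNat 0, Int.ofNat 0, Int.ofNat 0, Int.ofNat 0, Int.ofNat 0, Int.ofNat 0, Int.ofNat 0, Int.ofNat 4, Int.ofNat 0, Int.ofNat 4, Int.ofNat 0],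
  [Int.ofNat 0, Int.ofNat 0, Int.ofNat 0, Int.ofNat 0, Int.negSucc 1, Int.ofNat 0, Int.ofNat 0, Int.ofNat 0, Int.ofNat 0, Int.negSucc 1, Int.negSucc 1, Int.ofNat 0, Int.ofNat 0, Int.negSucc 1, Int.ofNat 0, Int.negSucc 1, Int.negSucc 1, Int.ofNat 0, Int.ofNat 0, Int.ofNat 0, Int.ofNat 2, Int.ofNat 0, Int.ofNat 2, Int.ofNat 0],
  [Int.ofNat 0, Int.ofNat 0, Int.negSucc 1, Int.ofNat 0, Int.ofNat 0, Int.ofNat 0, Int.ofNat 0, Int.negSucc 1, Int.ofNat 0, Int.negSucc 1, Int.ofNat 2, Int.ofNat 0, Int.negSucc 1, Int.negSucc 1, Int.ofNat 2, Int.negSucc 1, Int.ofNat 0, Int.ofNat 0, Int.ofNat 0, Int.ofNat 0, Int.ofNat 0, Int.ofNat 0, Int.ofNat 0, Int.ofNat 0],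
  [Int.negSucc 0, Int.negSucc 0, Int.ofNat 1, Int.negSucc 0, Int.ofNat 1, Int.negSucc 0, Int.ofNat 1, Int.negSucc 0, Int.ofNat 1, Int.negSucc 0, Int.ofNat 3, Int.ofNat 1, Int.negSucc 0, Int.negSucc 0, Int.ofNat 1, Int.negSucc 0, Int.ofNat 1, Int.negSucc 0, Int.ofNat 1, Int.ofNat 1, Int.ofNat 1, Int.ofNat 1, Int.ofNat 1, Int.negSucc 0],
  [Int.negSucc 0, Int.negSucc 0, Int.negSucc 0, Int.negSucc 0, Int.ofNat 1, Int.ofNat 1, Int.negSucc 0, Int.negSucc 0, Int.ofNat 1, Int.ofNat 1, Int.negSucc 2, Int.ofNat 1, Int.negSucc 0, Int.negSucc 0, Int.ofNat 1, Int.ofNat 1, Int.ofNat 1, Int.negSucc 0, Int.negSucc 0, Int.ofNat 1, Int.ofNat 1, Int.ofNat 1, Int.negSucc 0, Int.negSucc 0],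
  [Int.negSucc 2, Int.ofNat 1, Int.ofNat 1, Int.ofNat 1, Int.ofNat 1, Int.negSucc 0, Int.ofNat 1, Int.negSucc 0, Int.ofNat 1, Int.ofNat 1, Int.negSucc 0, Int.negSucc 0, Int.ofNat 1, Int.ofNat 1, Int.negSucc 0, Int.negSucc 0, Int.ofNat 1, Int.negSucc 0, Int.ofNat 1, Int.negSucc 0, Int.negSucc 0, Int.negSucc 0, Int.negSucc 0, Int.negSucc 0],
  [Int.ofNat 3, Int.negSucc 0, Int.negSucc 0, Int.negSucc 0, Int.negSucc 0, Int.negSucc 0, Int.negSucc 0, Int.negSucc 0, Int.negSucc 0, Int.negSucc 0, Int.negSucc 0, Int.negSucc 0, Int.negSucc 0, Int.negSucc 0, Int.negSucc 0, Int.negSucc 0, Int.negSucc 0, Int.negSucc 0, Int.negSucc 0, Int.negSucc 0, Int.negSucc 0, Int.negSucc 0, Int.negSucc 0, Int.negSucc 0],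
  [Int.negSucc 0, Int.negSucc 0, Int.negSucc 0, Int.negSucc 0, Int.negSucc 0, Int.negSucc 0, Int.negSucc 0, Int.negSucc 0, Int.negSucc 0, Int.negSucc 0, Int.negSucc 0, Int.negSucc 0, Int.negSucc 0, Int.negSucc 0, Int.negSucc 0, Int.negSucc 0, Int.negSucc 0, Int.negSucc 0, Int.negSucc 0, Int.negSucc 0, Int.negSucc 0, Int.negSucc 0, Int.negSucc 0, Int.ofNat 3],
  [Int.ofNat 1, Int.negSucc 0, Int.ofNat 1, Int.negSucc 0, Int.negSucc 0, Int.negSucc 0, Int.negSucc 0, Int.ofNat 1, Int.negSucc 0, Int.ofNat 1, Int.ofNat 1, Int.ofNat 1, Int.negSucc 0, Int.negSucc 0, Int.negSucc 0, Int.negSucc 0, Int.negSucc 0, Int.negSucc 0, Int.ofNat 1, Int.negSucc 0, Int.negSucc 0, Int.ofNat 1, Int.negSucc 0, Int.ofNat 3],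
  [Int.negSucc 0, Int.ofNat 1, Int.negSucc 0, Int.ofNat 1, Int.negSucc 0, Int.negSucc 0, Int.negSucc 0, Int.negSucc 0, Int.ofNat 1, Int.negSucc 0, Int.ofNat 1, Int.ofNat 1, Int.ofNat 1, Int.negSucc 0, Int.negSucc 0, Int.negSucc 0, Int.negSucc 0, Int.negSucc 0, Int.negSucc 0, Int.ofNat 1, Int.negSucc 0, Int.negSucc 0, Int.ofNat 1, Int.ofNat 3],
  [Int.ofNat 2, Int.ofNat 0, Int.ofNat 2, Int.ofNat 2, Int.ofNat 0, Int.ofNat 0, Int.ofNat 0, Int.ofNat 0, Int.ofNat 0, Int.ofNat 0, Int.ofNat 2, Int.ofNat 0, Int.ofNat 0, Int.ofNat 0, Int.ofNat 0, Int.ofNat 0, Int.ofNat 0, Int.ofNat 0, Int.negSucc 1, Int.ofNat 2, Int.ofNat 0, Int.ofNat 0, Int.ofNat 2, Int.negSucc 1],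
  [Int.ofNat 2, Int.ofNat 0, Int.ofNat 0, Int.ofNat 0, Int.ofNat 0, Int.ofNat 0, Int.ofNat 0, Int.ofNat 2, Int.ofNat 0, Int.ofNat 0, Int.ofNat 0, Int.ofNat 0, Int.ofNat 0, Int.ofNat 0, Int.ofNat 0, Int.negSucc 1, Int.ofNat 2, Int.ofNat 0, Int.ofNat 0, Int.ofNat 2, Int.ofNat 2, Int.ofNat 0, Int.ofNat 2, Int.negSucc 1],
  [Int.negSucc 1, Int.ofNat 0, Int.ofNat 0, Int.ofNat 0, Int.negSucc 1, Int.ofNat 0, Int.negSucc 1, Int.ofNat 0, Int.ofNat 0, Int.ofNat 0, Int.ofNat 0, Int.ofNat 0, Int.ofNat 0, Int.negSucc 1, Int.ofNat 0, Int.negSucc 1, Int.ofNat 0, Int.ofNat 0, Int.ofNat 0, Int.ofNat 0, Int.ofNat 2, Int.negSucc 1, Int.ofNat 0, Int.ofNat 2],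
  [Int.negSucc 1, Int.negSucc 1, Int.negSucc 1, Int.ofNat 0, Int.ofNat 0, Int.ofNat 0, Int.ofNat 0, Int.ofNat 0, Int.ofNat 0, Int.negSucc 1, Int.ofNat 2, Int.ofNat 0, Int.ofNat 0, Int.ofNat 0, Int.ofNat 0, Int.negSucc 1, Int.ofNat 0, Int.ofNat 0, Int.ofNat 0, Int.ofNat 0, Int.negSucc 1, Int.ofNat 0, Int.ofNat 0, Int.ofNat 2],
  [Int.ofNat 0, Int.ofNat 0, Int.ofNat 0, Int.ofNat 0, Int.ofNat 0, Int.ofNat 0, Int.ofNat 0, Int.ofNat 0, Int.ofNat 0, Int.ofNat 0, Int.ofNat 4, Int.ofNat 0, Int.ofNat 0, Int.ofNat 0, Int.ofNat 0, Int.ofNat 0, Int.ofNat 0, Int.ofNat 0, Int.ofNat 0, Int.ofNat 0, Int.ofNat 0, Int.ofNat 0, Int.ofNat 0, Int.negSucc 3],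
  [Int.ofNat 0, Int.ofNat 0, Int.ofNat 0, Int.ofNat 0, Int.ofNat 0, Int.ofNat 0, Int.ofNat 0, Int.ofNat 0, Int.ofNat 0, Int.ofNat 0, Int.negSucc 3, Int.ofNat 0, Int.ofNat 0, Int.ofNat 0, Int.ofNat 0, Int.ofNat 0, Int.ofNat 0, Int.ofNat 0, Int.ofNat 0, Int.ofNat 0, Int.ofNat 0, Int.ofNat 0, Int.ofNat 0, Int.negSucc 3],
  [Int.ofNat 0, Int.ofNat 0, Int.ofNat 0, Int.ofNat 0, Int.ofNat 0, Int.negSucc 3, Int.ofNat 0, Int.ofNat 0, Int.ofNat 0, Int.ofNat 0, Int.ofNat 0, Int.ofNat 0, Int.ofNat 0, Int.ofNat 0, Int.ofNat 0, Int.ofNat 0, Int.ofNat 0, Int.ofNat 0, Int.ofNat 0, Int.ofNat 0, Int.ofNat 0, Int.ofNat 0, Int.ofNat 0, Int.negSucc 3],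
  [Int.ofNat 0, Int.ofNat 0, Int.ofNat 0, Int.ofNat 0, Int.ofNat 0, Int.ofNat 4, Int.ofNat 0, Int.ofNat 0, Int.ofNat 0, Int.ofNat 0, Int.ofNat 0, Int.ofNat 0, Int.ofNat 0, Int.ofNat 0, Int.ofNat 0, Int.ofNat 0, Int.ofNat 0, Int.ofNat 0, Int.ofNat 0, Int.ofNat 0, Int.ofNat 0, Int.ofNat 0, Int.ofNat 0, Int.negSucc 3],
  [Int.negSucc 1, Int.negSucc 1, Int.negSucc 1, Int.negSucc 1, Int.ofNat 0, Int.ofNat 2, Int.ofNat 0, Int.ofNat 0, Int.ofNat 0, Int.ofNat 0, Int.ofNat 0, Int.ofNat 0, Int.ofNat 0, Int.ofNat 0, Int.negSucc 1, Int.ofNat 0, Int.ofNat 0, Int.negSucc 1, Int.ofNat 0, Int.ofNat 0, Int.ofNat 0, Int.ofNat 0, Int.ofNat 0, Int.ofNat 2],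
  [Int.negSucc 1, Int.ofNat 0, Int.ofNat 0, Int.negSucc 1, Int.negSucc 1, Int.ofNat 0, Int.negSucc 1, Int.ofNat 2, Int.ofNat 0, Int.ofNat 0, Int.ofNat 0, Int.ofNat 0, Int.ofNat 0, Int.ofNat 0, Int.negSucc 1, Int.ofNat 0, Int.ofNat 0, Int.ofNat 0, Int.ofNat 0, Int.ofNat 0, Int.ofNat 0, Int.ofNat 0, Int.negSucc 1, Int.ofNat 2],
  [Int.ofNat 2, Int.ofNat 0, Int.ofNat 0, Int.ofNat 0, Int.ofNat 0, Int.ofNat 2, Int.negSucc 1, Int.ofNat 2, Int.ofNat 0, Int.ofNat 0, Int.ofNat 0, Int.ofNat 0, Int.ofNat 0, Int.ofNat 2, Int.ofNat 0, Int.ofNat 0, Int.ofNat 2, Int.ofNat 2, Int.ofNat 0, Int.ofNat 0, Int.ofNat 0, Int.ofNat 0, Int.ofNat 0, Int.negSucc 1],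
  [Int.ofNat 0, Int.ofNat 0, Int.ofNat 0, Int.ofNat 2, Int.ofNat 0, Int.ofNat 0, Int.ofNat 0, Int.ofNat 0, Int.ofNat 2, Int.negSucc 1, Int.ofNat 2, Int.ofNat 0, Int.ofNat 0, Int.ofNat 0, Int.ofNat 0, Int.ofNat 0, Int.ofNat 2, Int.ofNat 0, Int.ofNat 0, Int.ofNat 2, Int.ofNat 2, Int.ofNat 0, Int.ofNat 0, Int.negSucc 1],
  [Int.negSucc 0, Int.negSucc 0, Int.negSucc 0, Int.ofNat 1, Int.negSucc 0, Int.negSucc 0, Int.negSucc 0, Int.negSucc 0, Int.ofNat 1, Int.negSucc 2, Int.ofNat 1, Int.negSucc 0, Int.negSucc 0, Int.negSucc 0, Int.negSucc 0, Int.negSucc 0, Int.ofNat 1, Int.negSucc 0, Int.negSucc 0, Int.ofNat 1, Int.ofNat 1, Int.negSucc 0, Int.negSucc 0, Int.ofNat 1],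
  [Int.negSucc 0, Int.negSucc 0, Int.ofNat 1, Int.negSucc 0, Int.negSucc 0, Int.negSucc 0, Int.negSucc 0, Int.ofNat 1, Int.negSucc 2, Int.ofNat 1, Int.negSucc 0, Int.negSucc 0, Int.negSucc 0, Int.negSucc 0, Int.negSucc 0, Int.ofNat 1, Int.negSucc 0, Int.negSucc 0, Int.ofNat 1, Int.ofNat 1, Int.negSucc 0, Int.negSucc 0, Int.negSucc 0, Int.ofNat 1],
  [Int.ofNat 1, Int.negSucc 0, Int.negSucc 0, Int.negSucc 0, Int.negSucc 0, Int.negSucc 0, Int.negSucc 0, Int.negSucc 0, Int.negSucc 2, Int.negSucc 0, Int.ofNat 1, Int.ofNat 1, Int.negSucc 0, Int.negSucc 0, Int.negSucc 0, Int.ofNat 1, Int.negSucc 0, Int.negSucc 0, Int.negSucc 0, Int.ofNat 1, Int.negSucc 0, Int.ofNat 1, Int.negSucc 0, Int.ofNat 1],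
  [Int.ofNat 1, Int.negSucc 0, Int.negSucc 0, Int.negSucc 0, Int.negSucc 0, Int.ofNat 1, Int.negSucc 0, Int.negSucc 0, Int.negSucc 0, Int.negSucc 0, Int.ofNat 1, Int.negSucc 0, Int.negSucc 0, Int.negSucc 2, Int.ofNat 1, Int.ofNat 1, Int.negSucc 0, Int.negSucc 0, Int.negSucc 0, Int.negSucc 0, Int.negSucc 0, Int.negSucc 0, Int.ofNat 1, Int.ofNat 1],
  [Int.negSucc 0, Int.negSucc 0, Int.ofNat 1, Int.negSucc 0, Int.negSucc 0, Int.ofNat 1, Int.negSucc 0, Int.ofNat 1, Int.negSucc 0, Int.ofNat 1, Int.negSucc 0, Int.ofNat 1, Int.negSucc 0, Int.negSucc 2, Int.ofNat 1, Int.ofNat 1, Int.negSucc 0, Int.negSucc 0, Int.ofNat 1, Int.negSucc 0, Int.negSucc 0, Int.ofNat 1, Int.ofNat 1, Int.ofNat 1],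
  [Int.ofNat 1, Int.negSucc 0, Int.negSucc 0, Int.ofNat 1, Int.negSucc 0, Int.negSucc 0, Int.ofNat 1, Int.negSucc 0, Int.ofNat 1, Int.negSucc 0, Int.ofNat 1, Int.negSucc 0, Int.ofNat 1, Int.negSucc 0, Int.negSucc 2, Int.ofNat 1, Int.ofNat 1, Int.negSucc 0, Int.negSucc 0, Int.ofNat 1, Int.negSucc 0, Int.negSucc 0, Int.ofNat 1, Int.ofNat 1],
  [Int.negSucc 0, Int.ofNat 1, Int.ofNat 1, Int.ofNat 3, Int.negSucc 0, Int.ofNat 1, Int.ofNat 1, Int.negSucc 0, Int.ofNat 1, Int.negSucc 0, Int.ofNat 1, Int.negSucc 0, Int.ofNat 1, Int.negSucc 0, Int.negSucc 0, Int.ofNat 1, Int.ofNat 1, Int.ofNat 1, Int.negSucc 0, Int.ofNat 1, Int.negSucc 0, Int.negSucc 0, Int.ofNat 1, Int.negSucc 0],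
  [Int.ofNat 3, Int.negSucc 0, Int.ofNat 1, Int.ofNat 1, Int.negSucc 0, Int.ofNat 1, Int.negSucc 0, Int.ofNat 1, Int.negSucc 0, Int.ofNat 1, Int.negSucc 0, Int.negSucc 0, Int.ofNat 1, Int.ofNat 1, Int.ofNat 1, Int.negSucc 0, Int.ofNat 1, Int.negSucc 0, Int.negSucc 0, Int.ofNat 1, Int.negSucc 0, Int.ofNat 1, Int.ofNat 1, Int.negSucc 0],
  [Int.negSucc 1, Int.ofNat 2, Int.ofNat 0, Int.ofNat 0, Int.negSucc 1, Int.ofNat 0, Int.negSucc 1, Int.ofNat 0, Int.ofNat 0, Int.ofNat 2, Int.ofNat 0, Int.ofNat 0, Int.ofNat 2, Int.ofNat 0, Int.ofNat 0, Int.ofNat 0, Int.ofNat 0, Int.negSucc 1, Int.ofNat 0, Int.ofNat 0, Int.ofNat 0, Int.ofNat 0, Int.ofNat 0, Int.ofNat 2],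
  [Int.negSucc 1, Int.negSucc 1, Int.negSucc 1, Int.ofNat 0, Int.ofNat 0, Int.ofNat 0, Int.ofNat 0, Int.ofNat 0, Int.ofNat 2, Int.ofNat 0, Int.ofNat 0, Int.negSucc 1, Int.ofNat 2, Int.ofNat 0, Int.ofNat 0, Int.ofNat 0, Int.ofNat 0, Int.ofNat 0, Int.ofNat 2, Int.ofNat 0, Int.ofNat 0, Int.ofNat 0, Int.ofNat 0, Int.ofNat 2],
  [Int.ofNat 0, Int.ofNat 0, Int.ofNat 0, Int.ofNat 0, Int.ofNat 0, Int.ofNat 0, Int.ofNat 0, Int.ofNat 0, Int.ofNat 0, Int.ofNat 0, Int.ofNat 0, Int.negSucc 3, Int.ofNat 0, Int.ofNat 0, Int.ofNat 0, Int.ofNat 0, Int.ofNat 0, Int.ofNat 0, Int.ofNat 0, Int.ofNat 0, Int.ofNat 0, Int.ofNat 0, Int.ofNat 0, Int.negSucc 3],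
  [Int.ofNat 0, Int.ofNat 0, Int.ofNat 0, Int.ofNat 0, Int.ofNat 0, Int.ofNat 0, Int.ofNat 0, Int.ofNat 0, Int.ofNat 0, Int.ofNat 0, Int.ofNat 0, Int.negSucc 3, Int.ofNat 0, Int.ofNat 0, Int.ofNat 0, Int.ofNat 0, Int.ofNat 0, Int.ofNat 0, Int.ofNat 0, Int.ofNat 0, Int.ofNat 0, Int.ofNat 0, Int.ofNat 0, Int.negSucc 3],
  [Int.ofNat 0, Int.ofNat 0, Int.negSucc 3, Int.ofNat 0, Int.ofNat 0, Int.ofNat 0, Int.ofNat 0, Int.ofNat 0, Int.ofNat 0, Int.ofNat 0, Int.ofNat 0, Int.ofNat 0, Int.ofNat 0, Int.ofNat 0, Int.ofNat 0, Int.ofNat 0, Int.ofNat 0, Int.ofNat 0, Int.ofNat 0, Int.ofNat 0, Int.ofNat 0, Int.ofNat 0, Int.ofNat 0, Int.negSucc 3],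
  [Int.ofNat 0, Int.ofNat 0, Int.ofNat 4, Int.ofNat 0, Int.ofNat 0, Int.ofNat 0, Int.ofNat 0, Int.ofNat 0, Int.ofNat 0, Int.ofNat 0, Int.ofNat 0, Int.ofNat 0, Int.ofNat 0, Int.ofNat 0, Int.ofNat 0, Int.ofNat 0, Int.ofNat 0, Int.ofNat 0, Int.ofNat 0, Int.ofNat 0, Int.ofNat 0, Int.ofNat 0, Int.ofNat 0, Int.negSucc 3],
  [Int.negSucc 3, Int.ofNat 0, Int.ofNat 0, Int.ofNat 0, Int.ofNat 0, Int.ofNat 0, Int.ofNat 0, Int.ofNat 0, Int.ofNat 0, Int.ofNat 0, Int.ofNat 0, Int.ofNat 4, Int.ofNat 0, Int.ofNat 0, Int.ofNat 0, Int.ofNat 0, Int.ofNat 0, Int.ofNat 0, Int.ofNat 0, Int.ofNat 0, Int.ofNat 0, Int.ofNat 0, Int.ofNat 0, Int.ofNat 0],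
  [Int.ofNat 4, Int.ofNat 0, Int.ofNat 0, Int.ofNat 0, Int.ofNat 0, Int.ofNat 0, Int.ofNat 0, Int.ofNat 0, Int.ofNat 0, Int.ofNat 0, Int.ofNat 0, Int.negSucc 3, Int.ofNat 0, Int.ofNat 0, Int.ofNat 0, Int.ofNat 0, Int.ofNat 0, Int.ofNat 0, Int.ofNat 0, Int.ofNat 0, Int.ofNat 0, Int.ofNat 0, Int.ofNat 0, Int.ofNat 0],
  [Int.ofNat 0, Int.ofNat 4, Int.ofNat 0, Int.ofNat 0, Int.ofNat 0, Int.ofNat 0, Int.ofNat 0, Int.ofNat 0, Int.ofNat 0, Int.ofNat 0, Int.ofNat 0, Int.ofNat 0, Int.negSucc 3, Int.ofNat 0, Int.ofNat 0, Int.ofNat 0, Int.ofNat 0, Int.ofNat 0, Int.ofNat 0, Int.ofNat 0, Int.ofNat 0, Int.ofNat 0, Int.ofNat 0, Int.ofNat 0],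
  [Int.ofNat 2, Int.negSucc 1, Int.ofNat 2, Int.ofNat 0, Int.ofNat 0, Int.ofNat 0, Int.ofNat 0, Int.ofNat 0, Int.ofNat 2, Int.ofNat 0, Int.ofNat 0, Int.ofNat 2, Int.negSucc 1, Int.ofNat 0, Int.ofNat 0, Int.ofNat 0, Int.ofNat 0, Int.ofNat 0, Int.ofNat 2, Int.ofNat 0, Int.ofNat 0, Int.ofNat 0, Int.ofNat 0, Int.ofNat 2],
  [Int.ofNat 0, Int.ofNat 0, Int.ofNat 0, Int.ofNat 0, Int.ofNat 0, Int.ofNat 2, Int.ofNat 0, Int.ofNat 0, Int.ofNat 2, Int.negSucc 1, Int.ofNat 0, Int.ofNat 0, Int.ofNat 0, Int.ofNat 0, Int.ofNat 0, Int.ofNat 2, Int.ofNat 0, Int.ofNat 0, Int.ofNat 0, Int.ofNat 0, Int.ofNat 2, Int.negSucc 1, Int.ofNat 2, Int.ofNat 2],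
  [Int.ofNat 1, Int.ofNat 1, Int.ofNat 1, Int.negSucc 0, Int.negSucc 0, Int.ofNat 1, Int.ofNat 1, Int.ofNat 1, Int.ofNat 1, Int.negSucc 2, Int.negSucc 0, Int.negSucc 0, Int.negSucc 0, Int.negSucc 0, Int.negSucc 0, Int.ofNat 1, Int.negSucc 0, Int.negSucc 0, Int.negSucc 0, Int.ofNat 1, Int.ofNat 1, Int.negSucc 0, Int.ofNat 1, Int.negSucc 0],
  [Int.ofNat 1, Int.ofNat 1, Int.negSucc 0, Int.negSucc 0, Int.negSucc 0, Int.ofNat 1, Int.ofNat 1, Int.negSucc 0, Int.negSucc 0, Int.negSucc 0, Int.ofNat 1, Int.negSucc 0, Int.negSucc 2, Int.negSucc 0, Int.ofNat 1, Int.ofNat 1, Int.ofNat 1, Int.negSucc 0, Int.ofNat 1, Int.negSucc 0, Int.negSucc 0, Int.ofNat 1, Int.ofNat 1, Int.negSucc 0],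
  [Int.negSucc 0, Int.negSucc 0, Int.ofNat 1, Int.negSucc 0, Int.negSucc 0, Int.ofNat 1, Int.ofNat 1, Int.negSucc 0, Int.ofNat 1, Int.negSucc 0, Int.ofNat 1, Int.ofNat 1, Int.negSucc 0, Int.negSucc 0, Int.ofNat 1, Int.ofNat 1, Int.ofNat 1, Int.negSucc 0, Int.ofNat 3, Int.negSucc 0, Int.negSucc 0, Int.ofNat 1, Int.ofNat 1, Int.ofNat 1],
  [Int.negSucc 0, Int.negSucc 0, Int.negSucc 0, Int.negSucc 0, Int.negSucc 0, Int.negSucc 0, Int.negSucc 0, Int.negSucc 0, Int.ofNat 1, Int.ofNat 1, Int.negSucc 0, Int.ofNat 1, Int.negSucc 0, Int.negSucc 0, Int.ofNat 1, Int.negSucc 0, Int.ofNat 1, Int.negSucc 0, Int.negSucc 2, Int.negSucc 0, Int.negSucc 0, Int.ofNat 1, Int.negSucc 0, Int.ofNat 1],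
  [Int.negSucc 0, Int.negSucc 0, Int.negSucc 0, Int.negSucc 0, Int.negSucc 0, Int.negSucc 0, Int.negSucc 0, Int.ofNat 1, Int.ofNat 1, Int.negSucc 0, Int.negSucc 2, Int.negSucc 0, Int.negSucc 0, Int.ofNat 1, Int.negSucc 0, Int.ofNat 1, Int.negSucc 0, Int.ofNat 1, Int.negSucc 0, Int.negSucc 0, Int.ofNat 1, Int.negSucc 0, Int.negSucc 0, Int.ofNat 1],
  [Int.negSucc 0, Int.negSucc 0, Int.ofNat 1, Int.negSucc 0, Int.negSucc 0, Int.ofNat 1, Int.ofNat 1, Int.ofNat 1, Int.ofNat 1, Int.ofNat 1, Int.ofNat 3, Int.negSucc 0, Int.negSucc 0, Int.ofNat 1, Int.negSucc 0, Int.negSucc 0, Int.negSucc 0, Int.ofNat 1, Int.ofNat 1, Int.negSucc 0, Int.ofNat 1, Int.negSucc 0, Int.ofNat 1, Int.ofNat 1],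
  [Int.ofNat 1, Int.ofNat 1, Int.negSucc 0, Int.negSucc 0, Int.negSucc 0, Int.ofNat 1, Int.ofNat 1, Int.ofNat 1, Int.ofNat 1, Int.negSucc 0, Int.ofNat 1, Int.negSucc 0, Int.negSucc 0, Int.ofNat 1, Int.negSucc 0, Int.negSucc 2, Int.negSucc 0, Int.ofNat 1, Int.ofNat 1, Int.negSucc 0, Int.negSucc 0, Int.negSucc 0, Int.ofNat 1, Int.negSucc 0],
  [Int.ofNat 1, Int.ofNat 1, Int.ofNat 1, Int.negSucc 0, Int.negSucc 0, Int.negSucc 0, Int.ofNat 1, Int.ofNat 1, Int.negSucc 0, Int.negSucc 0, Int.ofNat 1, Int.negSucc 0, Int.ofNat 1, Int.negSucc 0, Int.ofNat 1, Int.negSucc 2, Int.ofNat 1, Int.negSucc 0, Int.negSucc 0, Int.ofNat 1, Int.ofNat 1, Int.negSucc 0, Int.negSucc 0, Int.negSucc 0],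
  [Int.ofNat 0, Int.ofNat 0, Int.ofNat 0, Int.ofNat 0, Int.ofNat 0, Int.ofNat 0, Int.ofNat 0, Int.ofNat 0, Int.ofNat 0, Int.ofNat 0, Int.ofNat 2, Int.ofNat 0, Int.ofNat 2, Int.ofNat 0, Int.ofNat 2, Int.negSucc 1, Int.ofNat 2, Int.ofNat 0, Int.ofNat 0, Int.ofNat 0, Int.ofNat 2, Int.negSucc 1, Int.ofNat 0, Int.ofNat 2],
  [Int.ofNat 2, Int.negSucc 1, Int.ofNat 0, Int.ofNat 0, Int.ofNat 0, Int.ofNat 0, Int.ofNat 0, Int.ofNat 0, Int.ofNat 0, Int.ofNat 0, Int.ofNat 0, Int.ofNat 0, Int.ofNat 0, Int.ofNat 2, Int.ofNat 0, Int.ofNat 2, Int.ofNat 0, Int.ofNat 2, Int.negSucc 1, Int.ofNat 2, Int.ofNat 0, Int.ofNat 0, Int.ofNat 0, Int.ofNat 2],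
  [Int.negSucc 0, Int.ofNat 3, Int.ofNat 1, Int.negSucc 0, Int.negSucc 0, Int.negSucc 0, Int.negSucc 0, Int.negSucc 0, Int.ofNat 1, Int.negSucc 0, Int.negSucc 0, Int.ofNat 1, Int.ofNat 1, Int.ofNat 1, Int.negSucc 0, Int.ofNat 1, Int.negSucc 0, Int.ofNat 1, Int.negSucc 0, Int.ofNat 1, Int.negSucc 0, Int.negSucc 0, Int.negSucc 0, Int.negSucc 0],
  [Int.ofNat 3, Int.ofNat 1, Int.negSucc 0, Int.negSucc 0, Int.negSucc 0, Int.negSucc 0, Int.negSucc 0, Int.ofNat 1, Int.negSucc 0, Int.negSucc 0, Int.ofNat 1, Int.ofNat 1, Int.ofNat 1, Int.negSucc 0, Int.ofNat 1, Int.negSucc 0, Int.ofNat 1, Int.negSucc 0, Int.ofNat 1, Int.negSucc 0, Int.negSucc 0, Int.negSucc 0, Int.negSucc 0, Int.negSucc 0],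
  [Int.negSucc 2, Int.ofNat 1, Int.ofNat 1, Int.negSucc 0, Int.negSucc 0, Int.negSucc 0, Int.negSucc 0, Int.negSucc 0, Int.negSucc 0, Int.ofNat 1, Int.negSucc 0, Int.negSucc 0, Int.ofNat 1, Int.negSucc 0, Int.ofNat 1, Int.negSucc 0, Int.ofNat 1, Int.negSucc 0, Int.negSucc 0, Int.negSucc 0, Int.negSucc 0, Int.ofNat 1, Int.negSucc 0, Int.negSucc 0],
  [Int.negSucc 2, Int.ofNat 1, Int.negSucc 0, Int.negSucc 0, Int.ofNat 1, Int.negSucc 0, Int.negSucc 0, Int.negSucc 0, Int.ofNat 1, Int.ofNat 1, Int.ofNat 1, Int.ofNat 1, Int.negSucc 0, Int.negSucc 0, Int.negSucc 0, Int.negSucc 0, Int.ofNat 1, Int.negSucc 0, Int.negSucc 0, Int.negSucc 0, Int.negSucc 0, Int.negSucc 0, Int.negSucc 0, Int.negSucc 0],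
  [Int.ofNat 3, Int.ofNat 1, Int.ofNat 1, Int.negSucc 0, Int.ofNat 1, Int.negSucc 0, Int.negSucc 0, Int.ofNat 1, Int.ofNat 1, Int.negSucc 0, Int.negSucc 0, Int.negSucc 0, Int.negSucc 0, Int.negSucc 0, Int.negSucc 0, Int.negSucc 0, Int.ofNat 1, Int.negSucc 0, Int.ofNat 1, Int.negSucc 0, Int.negSucc 0, Int.ofNat 1, Int.negSucc 0, Int.negSucc 0],
  [Int.negSucc 0, Int.ofNat 3, Int.ofNat 1, Int.ofNat 1, Int.negSucc 0, Int.ofNat 1, Int.negSucc 0, Int.negSucc 0, Int.ofNat 1, Int.ofNat 1, Int.negSucc 0, Int.negSucc 0, Int.negSucc 0, Int.negSucc 0, Int.negSucc 0, Int.negSucc 0, Int.negSucc 0, Int.ofNat 1, Int.negSucc 0, Int.ofNat 1, Int.negSucc 0, Int.negSucc 0, Int.ofNat 1, Int.negSucc 0],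
  [Int.ofNat 2, Int.negSucc 1, Int.ofNat 0, Int.ofNat 0, Int.ofNat 0, Int.ofNat 0, Int.ofNat 0, Int.ofNat 0, Int.ofNat 2, Int.ofNat 2, Int.ofNat 0, Int.ofNat 0, Int.ofNat 0, Int.ofNat 0, Int.negSucc 1, Int.ofNat 0, Int.ofNat 0, Int.ofNat 0, Int.ofNat 0, Int.ofNat 2, Int.ofNat 0, Int.ofNat 0, Int.ofNat 2, Int.ofNat 2],
  [Int.ofNat 0, Int.ofNat 0, Int.ofNat 0, Int.ofNat 0, Int.ofNat 0, Int.ofNat 2, Int.ofNat 2, Int.ofNat 0, Int.ofNat 0, Int.ofNat 0, Int.ofNat 0, Int.negSucc 1, Int.ofNat 0, Int.ofNat 0, Int.ofNat 0, Int.ofNat 0, Int.ofNat 2, Int.ofNat 0, Int.ofNat 0, Int.ofNat 2, Int.ofNat 2, Int.negSucc 1, Int.ofNat 0, Int.ofNat 2],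
  [Int.ofNat 1, Int.ofNat 1, Int.ofNat 1, Int.negSucc 0, Int.negSucc 0, Int.ofNat 1, Int.ofNat 1, Int.negSucc 0, Int.ofNat 1, Int.negSucc 0, Int.negSucc 0, Int.negSucc 0, Int.ofNat 1, Int.negSucc 0, Int.negSucc 0, Int.negSucc 0, Int.ofNat 1, Int.negSucc 0, Int.ofNat 1, Int.ofNat 1, Int.ofNat 1, Int.negSucc 2, Int.negSucc 0, Int.negSucc 0],
  [Int.ofNat 1, Int.ofNat 1, Int.negSucc 0, Int.negSucc 0, Int.ofNat 1, Int.negSucc 0, Int.ofNat 1, Int.negSucc 0, Int.ofNat 1, Int.negSucc 0, Int.ofNat 1, Int.negSucc 0, Int.negSucc 0, Int.ofNat 1, Int.negSucc 0, Int.negSucc 0, Int.ofNat 1, Int.negSucc 0, Int.ofNat 1, Int.negSucc 0, Int.negSucc 2, Int.ofNat 1, Int.ofNat 1, Int.negSucc 0],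
  [Int.negSucc 0, Int.negSucc 0, Int.ofNat 1, Int.ofNat 1, Int.negSucc 0, Int.ofNat 1, Int.ofNat 1, Int.negSucc 0, Int.ofNat 1, Int.ofNat 1, Int.ofNat 3, Int.negSucc 0, Int.negSucc 0, Int.negSucc 0, Int.ofNat 1, Int.ofNat 1, Int.negSucc 0, Int.ofNat 1, Int.ofNat 1, Int.negSucc 0, Int.negSucc 0, Int.ofNat 1, Int.negSucc 0, Int.ofNat 1],
  [Int.negSucc 0, Int.negSucc 0, Int.negSucc 0, Int.ofNat 1, Int.negSucc 0, Int.negSucc 0, Int.negSucc 0, Int.negSucc 0, Int.ofNat 1, Int.negSucc 0, Int.negSucc 2, Int.negSucc 0, Int.negSucc 0, Int.negSucc 0, Int.ofNat 1, Int.negSucc 0, Int.negSucc 0, Int.ofNat 1, Int.negSucc 0, Int.negSucc 0, Int.negSucc 0, Int.ofNat 1, Int.ofNat 1, Int.ofNat 1],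
  [Int.negSucc 2, Int.negSucc 0, Int.negSucc 0, Int.ofNat 1, Int.ofNat 1, Int.negSucc 0, Int.ofNat 1, Int.ofNat 1, Int.negSucc 0, Int.negSucc 0, Int.negSucc 0, Int.negSucc 0, Int.negSucc 0, Int.negSucc 0, Int.ofNat 1, Int.negSucc 0, Int.negSucc 0, Int.negSucc 0, Int.negSucc 0, Int.negSucc 0, Int.negSucc 0, Int.negSucc 0, Int.ofNat 1, Int.ofNat 1],
  [Int.ofNat 3, Int.ofNat 1, Int.ofNat 1, Int.negSucc 0, Int.negSucc 0, Int.negSucc 0, Int.negSucc 0, Int.ofNat 1, Int.ofNat 1, Int.ofNat 1, Int.negSucc 0, Int.negSucc 0, Int.ofNat 1, Int.ofNat 1, Int.ofNat 1, Int.negSucc 0, Int.ofNat 1, Int.negSucc 0, Int.ofNat 1, Int.negSucc 0, Int.negSucc 0, Int.negSucc 0, Int.ofNat 1, Int.ofNat 1],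
  [Int.ofNat 1, Int.ofNat 1, Int.negSucc 0, Int.negSucc 0, Int.negSucc 0, Int.ofNat 1, Int.negSucc 0, Int.ofNat 1, Int.negSucc 0, Int.negSucc 0, Int.ofNat 1, Int.ofNat 1, Int.negSucc 0, Int.ofNat 1, Int.ofNat 1, Int.negSucc 0, Int.negSucc 0, Int.negSucc 0, Int.ofNat 1, Int.negSucc 0, Int.ofNat 1, Int.ofNat 1, Int.ofNat 1, Int.ofNat 3],
  [Int.negSucc 0, Int.ofNat 1, Int.ofNat 1, Int.negSucc 0, Int.negSucc 0, Int.ofNat 1, Int.negSucc 0, Int.negSucc 0, Int.negSucc 0, Int.ofNat 1, Int.negSucc 0, Int.negSucc 0, Int.negSucc 0, Int.ofNat 1, Int.ofNat 1, Int.negSucc 0, Int.negSucc 0, Int.negSucc 0, Int.negSucc 0, Int.negSucc 0, Int.ofNat 1, Int.negSucc 0, Int.ofNat 1, Int.ofNat 3],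
  [Int.ofNat 1, Int.negSucc 0, Int.ofNat 1, Int.ofNat 1, Int.negSucc 0, Int.negSucc 0, Int.ofNat 1, Int.negSucc 0, Int.negSucc 0, Int.negSucc 0, Int.ofNat 1, Int.negSucc 0, Int.negSucc 0, Int.negSucc 0, Int.ofNat 1, Int.ofNat 1, Int.negSucc 0, Int.negSucc 0, Int.negSucc 0, Int.negSucc 0, Int.negSucc 0, Int.ofNat 1, Int.negSucc 0, Int.ofNat 3],
  [Int.ofNat 1, Int.ofNat 3, Int.ofNat 1, Int.ofNat 1, Int.ofNat 1, Int.negSucc 0, Int.ofNat 1, Int.negSucc 0, Int.ofNat 1, Int.negSucc 0, Int.ofNat 1, Int.ofNat 1, Int.ofNat 1, Int.ofNat 1, Int.ofNat 1, Int.ofNat 1, Int.ofNat 1, Int.negSucc 0, Int.ofNat 1, Int.negSucc 0, Int.negSucc 0, Int.ofNat 1, Int.ofNat 1, Int.negSucc 0],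
  [Int.ofNat 1, Int.ofNat 1, Int.negSucc 0, Int.ofNat 1, Int.negSucc 0, Int.ofNat 1, Int.negSucc 0, Int.ofNat 1, Int.ofNat 1, Int.ofNat 1, Int.ofNat 1, Int.ofNat 1, Int.ofNat 1, Int.ofNat 1, Int.negSucc 0, Int.ofNat 1, Int.negSucc 0, Int.negSucc 0, Int.ofNat 1, Int.ofNat 1, Int.ofNat 1, Int.ofNat 3, Int.ofNat 1, Int.negSucc 0],
  [Int.negSucc 0, Int.negSucc 0, Int.ofNat 1, Int.ofNat 1, Int.negSucc 0, Int.ofNat 1, Int.negSucc 2, Int.negSucc 0, Int.negSucc 0, Int.negSucc 0, Int.negSucc 0, Int.negSucc 0, Int.negSucc 0, Int.ofNat 1, Int.negSucc 0, Int.negSucc 0, Int.negSucc 0, Int.negSucc 0, Int.negSucc 0, Int.negSucc 0, Int.negSucc 0, Int.ofNat 1, Int.ofNat 1, Int.ofNat 1],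
  [Int.negSucc 0, Int.negSucc 2, Int.negSucc 0, Int.ofNat 1, Int.negSucc 0, Int.negSucc 0, Int.ofNat 1, Int.negSucc 0, Int.negSucc 0, Int.ofNat 1, Int.negSucc 0, Int.negSucc 0, Int.negSucc 0, Int.negSucc 0, Int.ofNat 1, Int.negSucc 0, Int.negSucc 0, Int.negSucc 0, Int.negSucc 0, Int.negSucc 0, Int.ofNat 1, Int.ofNat 1, Int.negSucc 0, Int.ofNat 1],
  [Int.negSucc 0, Int.ofNat 1, Int.negSucc 0, Int.ofNat 1, Int.ofNat 1, Int.negSucc 0, Int.ofNat 1, Int.negSucc 0, Int.ofNat 1, Int.ofNat 1, Int.negSucc 0, Int.ofNat 1, Int.ofNat 1, Int.ofNat 1, Int.ofNat 1, Int.negSucc 0, Int.ofNat 1, Int.negSucc 0, Int.ofNat 1, Int.negSucc 0, Int.ofNat 1, Int.ofNat 1, Int.ofNat 1, Int.negSucc 2],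
  [Int.negSucc 0, Int.ofNat 1, Int.ofNat 1, Int.ofNat 1, Int.ofNat 1, Int.ofNat 1, Int.negSucc 0, Int.negSucc 0, Int.ofNat 1, Int.negSucc 0, Int.ofNat 1, Int.ofNat 1, Int.ofNat 1, Int.ofNat 1, Int.ofNat 1, Int.ofNat 1, Int.ofNat 1, Int.negSucc 0, Int.negSucc 0, Int.negSucc 0, Int.ofNat 1, Int.ofNat 1, Int.negSucc 0, Int.negSucc 2],
  [Int.ofNat 1, Int.ofNat 1, Int.negSucc 0, Int.negSucc 0, Int.negSucc 0, Int.ofNat 1, Int.negSucc 0, Int.ofNat 1, Int.negSucc 0, Int.ofNat 1, Int.negSucc 0, Int.ofNat 1, Int.ofNat 1, Int.ofNat 1, Int.ofNat 1, Int.ofNat 1, Int.negSucc 0, Int.ofNat 1, Int.ofNat 1, Int.ofNat 1, Int.ofNat 1, Int.ofNat 1, Int.negSucc 0, Int.negSucc 2],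
  [Int.ofNat 1, Int.ofNat 1, Int.ofNat 1, Int.negSucc 0, Int.negSucc 0, Int.negSucc 0, Int.ofNat 1, Int.ofNat 1, Int.negSucc 0, Int.negSucc 0, Int.ofNat 1, Int.ofNat 1, Int.ofNat 1, Int.ofNat 1, Int.ofNat 1, Int.negSucc 0, Int.negSucc 0, Int.ofNat 1, Int.negSucc 0, Int.ofNat 1, Int.ofNat 1, Int.ofNat 1, Int.ofNat 1, Int.negSucc 2],
  [Int.negSucc 0, Int.negSucc 0, Int.negSucc 0, Int.negSucc 0, Int.negSucc 0, Int.negSucc 0, Int.negSucc 0, Int.negSucc 0, Int.negSucc 0, Int.negSucc 0, Int.ofNat 1, Int.ofNat 1, Int.ofNat 1, Int.ofNat 1, Int.ofNat 1, Int.negSucc 0, Int.negSucc 0, Int.ofNat 1, Int.negSucc 0, Int.negSucc 0, Int.ofNat 1, Int.negSucc 0, Int.ofNat 1, Int.ofNat 3],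
  [Int.negSucc 0, Int.negSucc 0, Int.negSucc 0, Int.negSucc 0, Int.negSucc 0, Int.negSucc 0, Int.negSucc 0, Int.negSucc 0, Int.negSucc 0, Int.ofNat 1, Int.negSucc 0, Int.negSucc 0, Int.negSucc 0, Int.negSucc 0, Int.ofNat 1, Int.negSucc 0, Int.ofNat 1, Int.ofNat 1, Int.negSucc 0, Int.ofNat 1, Int.ofNat 1, Int.ofNat 1, Int.ofNat 1, Int.ofNat 3],
  [Int.ofNat 1, Int.ofNat 1, Int.ofNat 1, Int.negSucc 0, Int.negSucc 0, Int.negSucc 0, Int.negSucc 0, Int.negSucc 0, Int.ofNat 1, Int.ofNat 1, Int.negSucc 0, Int.ofNat 1, Int.ofNat 1, Int.negSucc 0, Int.ofNat 1, Int.negSucc 0, Int.ofNat 1, Int.ofNat 1, Int.ofNat 1, Int.ofNat 1, Int.ofNat 1, Int.ofNat 1, Int.ofNat 1, Int.negSucc 2],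
  [Int.ofNat 1, Int.ofNat 1, Int.ofNat 1, Int.ofNat 1, Int.ofNat 1, Int.ofNat 1, Int.negSucc 0, Int.negSucc 0, Int.negSucc 0, Int.negSucc 0, Int.negSucc 0, Int.ofNat 1, Int.ofNat 1, Int.negSucc 0, Int.ofNat 1, Int.ofNat 1, Int.negSucc 0, Int.ofNat 1, Int.negSucc 0, Int.ofNat 1, Int.ofNat 1, Int.ofNat 1, Int.ofNat 1, Int.negSucc 2],
  [Int.negSucc 0, Int.negSucc 0, Int.negSucc 0, Int.negSucc 0, Int.ofNat 1, Int.negSucc 0, Int.negSucc 0, Int.negSucc 0, Int.negSucc 0, Int.negSucc 0, Int.negSucc 0, Int.ofNat 1, Int.ofNat 1, Int.negSucc 0, Int.negSucc 0, Int.ofNat 1, Int.negSucc 0, Int.negSucc 0, Int.negSucc 0, Int.ofNat 1, Int.ofNat 1, Int.ofNat 1, Int.ofNat 1, Int.ofNat 3],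
  [Int.negSucc 0, Int.negSucc 0, Int.negSucc 0, Int.ofNat 1, Int.negSucc 0, Int.negSucc 0, Int.negSucc 0, Int.negSucc 0, Int.negSucc 0, Int.negSucc 0, Int.ofNat 1, Int.ofNat 1, Int.negSucc 0, Int.negSucc 0, Int.ofNat 1, Int.negSucc 0, Int.negSucc 0, Int.negSucc 0, Int.ofNat 1, Int.ofNat 1, Int.ofNat 1, Int.ofNat 1, Int.negSucc 0, Int.ofNat 3],
  [Int.ofNat 1, Int.negSucc 0, Int.ofNat 1, Int.ofNat 1, Int.negSucc 0, Int.negSucc 0, Int.negSucc 0, Int.ofNat 1, Int.negSucc 0, Int.ofNat 1, Int.negSucc 0, Int.negSucc 0, Int.negSucc 0, Int.negSucc 0, Int.ofNat 1, Int.negSucc 0, Int.negSucc 0, Int.negSucc 0, Int.negSucc 0, Int.ofNat 1, Int.ofNat 1, Int.negSucc 0, Int.negSucc 0, Int.ofNat 3],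
  [Int.ofNat 1, Int.ofNat 1, Int.negSucc 0, Int.ofNat 1, Int.negSucc 0, Int.negSucc 0, Int.negSucc 0, Int.ofNat 1, Int.ofNat 1, Int.negSucc 0, Int.negSucc 0, Int.ofNat 1, Int.negSucc 0, Int.negSucc 0, Int.ofNat 1, Int.negSucc 0, Int.negSucc 0, Int.negSucc 0, Int.negSucc 0, Int.negSucc 0, Int.negSucc 0, Int.ofNat 1, Int.negSucc 0, Int.ofNat 3],
  [Int.negSucc 0, Int.ofNat 1, Int.ofNat 1, Int.ofNat 1, Int.negSucc 0, Int.negSucc 0, Int.negSucc 0, Int.negSucc 0, Int.ofNat 1, Int.ofNat 1, Int.ofNat 1, Int.negSucc 0, Int.negSucc 0, Int.negSucc 0, Int.ofNat 1, Int.negSucc 0, Int.negSucc 0, Int.negSucc 0, Int.ofNat 1, Int.negSucc 0, Int.negSucc 0, Int.negSucc 0, Int.negSucc 0, Int.ofNat 3],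
  [Int.negSucc 0, Int.negSucc 0, Int.ofNat 1, Int.ofNat 1, Int.ofNat 1, Int.negSucc 0, Int.negSucc 0, Int.negSucc 0, Int.negSucc 0, Int.ofNat 1, Int.ofNat 1, Int.ofNat 1, Int.negSucc 0, Int.negSucc 0, Int.negSucc 0, Int.ofNat 1, Int.negSucc 0, Int.negSucc 0, Int.negSucc 0, Int.ofNat 1, Int.negSucc 0, Int.negSucc 0, Int.negSucc 0, Int.ofNat 3],
  [Int.ofNat 2, Int.ofNat 2, Int.ofNat 0, Int.ofNat 2, Int.ofNat 2, Int.ofNat 0, Int.ofNat 0, Int.ofNat 0, Int.ofNat 0, Int.ofNat 0, Int.ofNat 0, Int.ofNat 2, Int.ofNat 0, Int.ofNat 0, Int.ofNat 0, Int.ofNat 0, Int.ofNat 0, Int.ofNat 0, Int.ofNat 0, Int.ofNat 2, Int.negSucc 1, Int.ofNat 0, Int.ofNat 0, Int.negSucc 1],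
  [Int.ofNat 2, Int.ofNat 2, Int.ofNat 0, Int.ofNat 0, Int.ofNat 0, Int.ofNat 0, Int.ofNat 0, Int.ofNat 0, Int.ofNat 2, Int.ofNat 0, Int.ofNat 0, Int.ofNat 0, Int.ofNat 0, Int.ofNat 0, Int.ofNat 0, Int.ofNat 0, Int.ofNat 2, Int.negSucc 1, Int.ofNat 0, Int.ofNat 0, Int.ofNat 2, Int.ofNat 2, Int.ofNat 0, Int.negSucc 1],
  [Int.negSucc 0, Int.negSucc 0, Int.ofNat 1, Int.ofNat 1, Int.negSucc 0, Int.ofNat 1, Int.negSucc 0, Int.negSucc 0, Int.ofNat 1, Int.negSucc 0, Int.negSucc 0, Int.negSucc 0, Int.negSucc 0, Int.negSucc 0, Int.ofNat 1, Int.negSucc 0, Int.ofNat 1, Int.negSucc 0, Int.negSucc 0, Int.negSucc 0, Int.ofNat 1, Int.ofNat 1, Int.negSucc 0, Int.ofNat 3],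
  [Int.negSucc 0, Int.negSucc 0, Int.negSucc 0, Int.ofNat 1, Int.negSucc 0, Int.negSucc 0, Int.ofNat 1, Int.negSucc 0, Int.negSucc 0, Int.negSucc 0, Int.ofNat 1, Int.negSucc 0, Int.negSucc 0, Int.ofNat 1, Int.negSucc 0, Int.negSucc 0, Int.ofNat 1, Int.ofNat 1, Int.negSucc 0, Int.negSucc 0, Int.ofNat 1, Int.ofNat 1, Int.negSucc 0, Int.ofNat 3],
  [Int.ofNat 1, Int.ofNat 1, Int.ofNat 1, Int.ofNat 1, Int.negSucc 0, Int.negSucc 0, Int.ofNat 1, Int.negSucc 0, Int.ofNat 1, Int.negSucc 0, Int.ofNat 1, Int.ofNat 1, Int.ofNat 1, Int.ofNat 1, Int.negSucc 0, Int.negSucc 0, Int.ofNat 1, Int.ofNat 1, Int.ofNat 1, Int.negSucc 0, Int.ofNat 1, Int.ofNat 1, Int.negSucc 0, Int.negSucc 2],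
  [Int.ofNat 1, Int.ofNat 1, Int.negSucc 0, Int.ofNat 1, Int.negSucc 0, Int.ofNat 1, Int.negSucc 0, Int.negSucc 0, Int.ofNat 1, Int.ofNat 1, Int.negSucc 0, Int.ofNat 1, Int.ofNat 1, Int.ofNat 1, Int.negSucc 0, Int.ofNat 1, Int.ofNat 1, Int.ofNat 1, Int.negSucc 0, Int.negSucc 0, Int.ofNat 1, Int.ofNat 1, Int.ofNat 1, Int.negSucc 2],
  [Int.negSucc 0, Int.ofNat 1, Int.ofNat 1, Int.ofNat 1, Int.negSucc 0, Int.negSucc 0, Int.ofNat 1, Int.ofNat 1, Int.ofNat 1, Int.ofNat 1, Int.ofNat 1, Int.negSucc 0, Int.ofNat 1, Int.negSucc 0, Int.ofNat 1, Int.negSucc 0, Int.negSucc 0, Int.ofNat 1, Int.ofNat 1, Int.negSucc 0, Int.ofNat 1, Int.ofNat 1, Int.ofNat 1, Int.negSucc 2],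
  [Int.ofNat 1, Int.negSucc 0, Int.negSucc 0, Int.negSucc 0, Int.ofNat 1, Int.negSucc 0, Int.negSucc 0, Int.ofNat 1, Int.negSucc 0, Int.negSucc 0, Int.ofNat 1, Int.negSucc 0, Int.negSucc 0, Int.ofNat 1, Int.ofNat 1, Int.negSucc 0, Int.ofNat 1, Int.ofNat 1, Int.negSucc 0, Int.negSucc 0, Int.ofNat 1, Int.ofNat 1, Int.ofNat 1, Int.negSucc 2],
  [Int.negSucc 2, Int.ofNat 1, Int.negSucc 0, Int.negSucc 0, Int.ofNat 1, Int.negSucc 0, Int.negSucc 0, Int.ofNat 1, Int.ofNat 1, Int.negSucc 0, Int.ofNat 1, Int.negSucc 0, Int.ofNat 1, Int.ofNat 1, Int.negSucc 0, Int.negSucc 0, Int.ofNat 1, Int.ofNat 1, Int.ofNat 1, Int.negSucc 0, Int.negSucc 0, Int.negSucc 0, Int.negSucc 0, Int.ofNat 1],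
  [Int.ofNat 3, Int.ofNat 1, Int.ofNat 1, Int.negSucc 0, Int.ofNat 1, Int.negSucc 0, Int.negSucc 0, Int.negSucc 0, Int.ofNat 1, Int.ofNat 1, Int.negSucc 0, Int.ofNat 1, Int.ofNat 1, Int.ofNat 1, Int.negSucc 0, Int.negSucc 0, Int.ofNat 1, Int.ofNat 1, Int.negSucc 0, Int.negSucc 0, Int.negSucc 0, Int.ofNat 1, Int.negSucc 0, Int.ofNat 1],
  [Int.negSucc 0, Int.ofNat 3, Int.ofNat 1, Int.ofNat 1, Int.negSucc 0, Int.ofNat 1, Int.negSucc 0, Int.negSucc 0, Int.negSucc 0, Int.ofNat 1, Int.ofNat 1, Int.negSucc 0, Int.ofNat 1, Int.ofNat 1, Int.ofNat 1, Int.negSucc 0, Int.negSucc 0, Int.ofNat 1, Int.ofNat 1, Int.negSucc 0, Int.negSucc 0, Int.negSucc 0, Int.ofNat 1, Int.ofNat 1],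
  [Int.ofNat 3, Int.negSucc 0, Int.ofNat 1, Int.negSucc 0, Int.negSucc 0, Int.negSucc 0, Int.ofNat 1, Int.ofNat 1, Int.negSucc 0, Int.ofNat 1, Int.ofNat 1, Int.negSucc 0, Int.ofNat 1, Int.ofNat 1, Int.negSucc 0, Int.negSucc 0, Int.negSucc 0, Int.negSucc 0, Int.ofNat 1, Int.ofNat 1, Int.negSucc 0, Int.ofNat 1, Int.ofNat 1, Int.ofNat 1],
  [Int.negSucc 0, Int.negSucc 0, Int.negSucc 0, Int.ofNat 1, Int.ofNat 1, Int.negSucc 0, Int.ofNat 1, Int.ofNat 1, Int.negSucc 0, Int.ofNat 1, Int.ofNat 1, Int.negSucc 0, Int.negSucc 0, Int.negSucc 0, Int.negSucc 0, Int.ofNat 1, Int.ofNat 1, Int.negSucc 0, Int.ofNat 1, Int.ofNat 1, Int.ofNat 3, Int.negSucc 0, Int.ofNat 1, Int.ofNat 1],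
  [Int.ofNat 0, Int.ofNat 0, Int.ofNat 0, Int.ofNat 2, Int.ofNat 0, Int.ofNat 0, Int.ofNat 0, Int.ofNat 0, Int.ofNat 0, Int.negSucc 1, Int.negSucc 1, Int.ofNat 0, Int.ofNat 0, Int.negSucc 1, Int.ofNat 0, Int.negSucc 1, Int.ofNat 0, Int.ofNat 0, Int.ofNat 2, Int.ofNat 0, Int.ofNat 0, Int.negSucc 1, Int.ofNat 0, Int.negSucc 1],
  [Int.ofNat 0, Int.ofNat 0, Int.ofNat 0, Int.ofNat 2, Int.ofNat 2, Int.ofNat 0, Int.ofNat 0, Int.negSucc 1, Int.ofNat 0, Int.negSucc 1, Int.ofNat 0, Int.ofNat 0, Int.negSucc 1, Int.ofNat 0, Int.ofNat 0, Int.negSucc 1, Int.ofNat 0, Int.ofNat 0, Int.ofNat 0, Int.ofNat 0, Int.negSucc 1, Int.ofNat 0, Int.ofNat 0, Int.negSucc 1],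
  [Int.negSucc 0, Int.negSucc 0, Int.negSucc 0, Int.ofNat 1, Int.ofNat 1, Int.negSucc 0, Int.ofNat 1, Int.negSucc 0, Int.ofNat 1, Int.ofNat 1, Int.ofNat 3, Int.ofNat 1, Int.negSucc 0, Int.negSucc 0, Int.negSucc 0, Int.ofNat 1, Int.negSucc 0, Int.negSucc 0, Int.ofNat 1, Int.ofNat 1, Int.ofNat 1, Int.ofNat 1, Int.negSucc 0, Int.ofNat 1],
  [Int.negSucc 0, Int.negSucc 0, Int.ofNat 1, Int.ofNat 1, Int.ofNat 1, Int.ofNat 1, Int.negSucc 0, Int.negSucc 0, Int.ofNat 1, Int.negSucc 0, Int.negSucc 2, Int.ofNat 1, Int.negSucc 0, Int.negSucc 0, Int.negSucc 0, Int.negSucc 0, Int.negSucc 0, Int.negSucc 0, Int.negSucc 0, Int.ofNat 1, Int.ofNat 1, Int.ofNat 1, Int.ofNat 1, Int.ofNat 1],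
  [Int.negSucc 0, Int.ofNat 1, Int.negSucc 0, Int.ofNat 1, Int.negSucc 0, Int.negSucc 2, Int.negSucc 0, Int.ofNat 1, Int.negSucc 0, Int.negSucc 0, Int.negSucc 0, Int.negSucc 0, Int.ofNat 1, Int.ofNat 1, Int.ofNat 1, Int.negSucc 0, Int.ofNat 1, Int.ofNat 1, Int.ofNat 1, Int.ofNat 1, Int.negSucc 0, Int.negSucc 0, Int.negSucc 0, Int.ofNat 1],
  [Int.negSucc 0, Int.ofNat 1, Int.ofNat 1, Int.ofNat 1, Int.negSucc 0, Int.ofNat 3, Int.ofNat 1, Int.ofNat 1, Int.negSucc 0, Int.ofNat 1, Int.ofNat 1, Int.negSucc 0, Int.ofNat 1, Int.ofNat 1, Int.ofNat 1, Int.ofNat 1, Int.ofNat 1, Int.ofNat 1, Int.negSucc 0, Int.ofNat 1, Int.negSucc 0, Int.negSucc 0, Int.ofNat 1, Int.ofNat 1],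
  [Int.ofNat 2, Int.ofNat 0, Int.ofNat 0, Int.negSucc 1, Int.negSucc 1, Int.ofNat 0, Int.ofNat 0, Int.ofNat 0, Int.ofNat 0, Int.ofNat 0, Int.ofNat 0, Int.ofNat 0, Int.ofNat 2, Int.ofNat 0, Int.negSucc 1, Int.ofNat 0, Int.ofNat 0, Int.negSucc 1, Int.ofNat 0, Int.ofNat 0, Int.negSucc 1, Int.negSucc 1, Int.ofNat 0, Int.ofNat 0],
  [Int.ofNat 2, Int.ofNat 0, Int.ofNat 0, Int.negSucc 1, Int.ofNat 0, Int.negSucc 1, Int.ofNat 0, Int.ofNat 0, Int.ofNat 0, Int.ofNat 2, Int.ofNat 0, Int.ofNat 0, Int.ofNat 0, Int.ofNat 0, Int.negSucc 1, Int.ofNat 0, Int.ofNat 0, Int.ofNat 0, Int.negSucc 1, Int.ofNat 0, Int.ofNat 0, Int.negSucc 1, Int.negSucc 1, Int.ofNat 0],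
  [Int.negSucc 0, Int.ofNat 1, Int.ofNat 1, Int.ofNat 1, Int.ofNat 1, Int.ofNat 1, Int.ofNat 1, Int.ofNat 1, Int.ofNat 1, Int.ofNat 1, Int.negSucc 0, Int.ofNat 1, Int.ofNat 1, Int.ofNat 1, Int.ofNat 1, Int.negSucc 0, Int.ofNat 1, Int.ofNat 3, Int.negSucc 0, Int.ofNat 1, Int.negSucc 0, Int.negSucc 0, Int.negSucc 0, Int.ofNat 1],
  [Int.negSucc 0, Int.negSucc 0, Int.negSucc 0, Int.negSucc 0, Int.ofNat 1, Int.ofNat 1, Int.ofNat 1, Int.ofNat 1, Int.ofNat 1, Int.ofNat 1, Int.ofNat 1, Int.ofNat 1, Int.ofNat 1, Int.negSucc 0, Int.ofNat 1, Int.ofNat 1, Int.ofNat 1, Int.ofNat 1, Int.negSucc 0, Int.ofNat 1, Int.ofNat 3, Int.negSucc 0, Int.ofNat 1, Int.ofNat 1],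
  [Int.ofNat 0, Int.ofNat 0, Int.ofNat 0, Int.negSucc 1, Int.ofNat 0, Int.ofNat 0, Int.ofNat 0, Int.ofNat 0, Int.ofNat 0, Int.negSucc 1, Int.negSucc 1, Int.ofNat 0, Int.ofNat 0, Int.negSucc 1, Int.ofNat 0, Int.negSucc 1, Int.ofNat 0, Int.ofNat 0, Int.negSucc 1, Int.ofNat 0, Int.ofNat 0, Int.negSucc 1, Int.ofNat 0, Int.negSucc 1],
  [Int.ofNat 0, Int.ofNat 0, Int.negSucc 1, Int.ofNat 0, Int.ofNat 0, Int.ofNat 0, Int.ofNat 0, Int.ofNat 0, Int.negSucc 1, Int.negSucc 1, Int.ofNat 0, Int.ofNat 0, Int.negSucc 1, Int.ofNat 0, Int.negSucc 1, Int.ofNat 0, Int.ofNat 0, Int.negSucc 1, Int.ofNat 0, Int.ofNat 0, Int.negSucc 1, Int.ofNat 0, Int.ofNat 0, Int.negSucc 1],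
  [Int.ofNat 0, Int.ofNat 0, Int.ofNat 2, Int.ofNat 0, Int.ofNat 0, Int.ofNat 0, Int.ofNat 0, Int.ofNat 0, Int.negSucc 1, Int.ofNat 2, Int.ofNat 0, Int.ofNat 0, Int.negSucc 1, Int.ofNat 0, Int.negSucc 1, Int.ofNat 0, Int.ofNat 0, Int.negSucc 1, Int.ofNat 0, Int.ofNat 0, Int.negSucc 1, Int.ofNat 0, Int.ofNat 0, Int.negSucc 1],
  [Int.ofNat 0, Int.ofNat 2, Int.ofNat 0, Int.ofNat 0, Int.ofNat 0, Int.ofNat 0, Int.ofNat 0, Int.negSucc 1, Int.ofNat 2, Int.ofNat 0, Int.ofNat 0, Int.negSucc 1, Int.ofNat 0, Int.negSucc 1, Int.ofNat 0, Int.ofNat 0, Int.negSucc 1, Int.ofNat 0, Int.ofNat 0, Int.negSucc 1, Int.ofNat 0, Int.ofNat 0, Int.ofNat 0, Int.negSucc 1],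
  [Int.ofNat 0, Int.ofNat 2, Int.ofNat 0, Int.ofNat 0, Int.ofNat 0, Int.ofNat 0, Int.ofNat 0, Int.ofNat 2, Int.ofNat 2, Int.ofNat 0, Int.ofNat 0, Int.ofNat 2, Int.ofNat 0, Int.negSucc 1, Int.ofNat 0, Int.ofNat 0, Int.negSucc 1, Int.ofNat 0, Int.ofNat 0, Int.negSucc 1, Int.ofNat 0, Int.ofNat 0, Int.ofNat 0, Int.negSucc 1],
  [Int.ofNat 0, Int.ofNat 0, Int.ofNat 2, Int.ofNat 0, Int.ofNat 0, Int.ofNat 0, Int.ofNat 0, Int.ofNat 0, Int.ofNat 2, Int.ofNat 2, Int.ofNat 0, Int.ofNat 0, Int.ofNat 2, Int.ofNat 0, Int.negSucc 1, Int.ofNat 0, Int.ofNat 0, Int.negSucc 1, Int.ofNat 0, Int.ofNat 0, Int.negSucc 1, Int.ofNat 0, Int.ofNat 0, Int.negSucc 1],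
  [Int.ofNat 0, Int.ofNat 0, Int.negSucc 1, Int.ofNat 2, Int.ofNat 0, Int.ofNat 2, Int.ofNat 0, Int.ofNat 0, Int.ofNat 0, Int.ofNat 2, Int.ofNat 0, Int.negSucc 1, Int.ofNat 0, Int.ofNat 0, Int.ofNat 0, Int.ofNat 0, Int.ofNat 0, Int.ofNat 0, Int.negSucc 1, Int.ofNat 0, Int.negSucc 1, Int.ofNat 0, Int.ofNat 0, Int.ofNat 2],
  [Int.ofNat 2, Int.ofNat 0, Int.ofNat 2, Int.ofNat 0, Int.ofNat 0, Int.ofNat 0, Int.ofNat 2, Int.ofNat 0, Int.negSucc 1, Int.ofNat 0, Int.ofNat 0, Int.ofNat 0, Int.ofNat 0, Int.ofNat 0, Int.ofNat 0, Int.negSucc 1, Int.ofNat 0, Int.negSucc 1, Int.ofNat 0, Int.ofNat 0, Int.ofNat 0, Int.ofNat 0, Int.negSucc 1, Int.ofNat 2],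
  [Int.ofNat 1, Int.ofNat 3, Int.ofNat 1, Int.ofNat 1, Int.ofNat 1, Int.ofNat 1, Int.ofNat 1, Int.negSucc 0, Int.negSucc 0, Int.ofNat 1, Int.ofNat 1, Int.ofNat 1, Int.ofNat 1, Int.ofNat 1, Int.ofNat 1, Int.negSucc 0, Int.ofNat 1, Int.negSucc 0, Int.ofNat 1, Int.negSucc 0, Int.ofNat 1, Int.negSucc 0, Int.negSucc 0, Int.ofNat 1],
  [Int.ofNat 1, Int.ofNat 1, Int.ofNat 1, Int.ofNat 1, Int.ofNat 1, Int.negSucc 0, Int.ofNat 1, Int.ofNat 1, Int.ofNat 1, Int.ofNat 1, Int.ofNat 1, Int.negSucc 0, Int.ofNat 1, Int.ofNat 1, Int.negSucc 0, Int.negSucc 0, Int.negSucc 0, Int.ofNat 1, Int.ofNat 3, Int.ofNat 1, Int.negSucc 0, Int.ofNat 1, Int.negSucc 0, Int.ofNat 1],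
  [Int.ofNat 1, Int.ofNat 1, Int.ofNat 1, Int.ofNat 1, Int.ofNat 1, Int.negSucc 0, Int.negSucc 0, Int.negSucc 0, Int.negSucc 0, Int.ofNat 1, Int.ofNat 1, Int.negSucc 2, Int.negSucc 0, Int.ofNat 1, Int.negSucc 0, Int.negSucc 0, Int.negSucc 0, Int.ofNat 1, Int.ofNat 1, Int.negSucc 0, Int.negSucc 0, Int.negSucc 0, Int.negSucc 0, Int.ofNat 1],
  [Int.ofNat 1, Int.ofNat 1, Int.negSucc 0, Int.ofNat 1, Int.ofNat 1, Int.ofNat 1, Int.ofNat 1, Int.negSucc 0, Int.negSucc 0, Int.negSucc 0, Int.negSucc 0, Int.negSucc 2, Int.negSucc 0, Int.ofNat 1, Int.negSucc 0, Int.ofNat 1, Int.negSucc 0, Int.ofNat 1, Int.negSucc 0, Int.negSucc 0, Int.negSucc 0, Int.negSucc 0, Int.ofNat 1, Int.ofNat 1],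
  [Int.negSucc 0, Int.negSucc 0, Int.negSucc 2, Int.negSucc 0, Int.negSucc 0, Int.ofNat 1, Int.negSucc 0, Int.ofNat 1, Int.ofNat 1, Int.negSucc 0, Int.ofNat 1, Int.negSucc 0, Int.ofNat 1, Int.ofNat 1, Int.ofNat 1, Int.negSucc 0, Int.negSucc 0, Int.negSucc 0, Int.negSucc 0, Int.negSucc 0, Int.ofNat 1, Int.ofNat 1, Int.ofNat 1, Int.ofNat 1],
  [Int.ofNat 1, Int.ofNat 1, Int.ofNat 3, Int.ofNat 1, Int.ofNat 1, Int.ofNat 1, Int.ofNat 1, Int.ofNat 1, Int.negSucc 0, Int.ofNat 1, Int.ofNat 1, Int.negSucc 0, Int.negSucc 0, Int.negSucc 0, Int.ofNat 1, Int.negSucc 0, Int.ofNat 1, Int.negSucc 0, Int.ofNat 1, Int.negSucc 0, Int.ofNat 1, Int.ofNat 1, Int.ofNat 1, Int.ofNat 1],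
  [Int.ofNat 1, Int.ofNat 1, Int.negSucc 0, Int.negSucc 0, Int.negSucc 0, Int.ofNat 1, Int.negSucc 0, Int.negSucc 0, Int.ofNat 1, Int.ofNat 1, Int.ofNat 1, Int.ofNat 3, Int.ofNat 1, Int.ofNat 1, Int.ofNat 1, Int.ofNat 1, Int.ofNat 1, Int.ofNat 1, Int.ofNat 1, Int.ofNat 1, Int.negSucc 0, Int.negSucc 0, Int.ofNat 1, Int.ofNat 1],
  [Int.negSucc 0, Int.ofNat 1, Int.ofNat 1, Int.negSucc 0, Int.negSucc 0, Int.ofNat 1, Int.negSucc 0, Int.ofNat 1, Int.ofNat 1, Int.negSucc 0, Int.negSucc 0, Int.negSucc 2, Int.ofNat 1, Int.ofNat 1, Int.ofNat 1, Int.ofNat 1, Int.ofNat 1, Int.ofNat 1, Int.negSucc 0, Int.ofNat 1, Int.negSucc 0, Int.ofNat 1, Int.ofNat 1, Int.ofNat 1],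
  [Int.ofNat 1, Int.negSucc 0, Int.ofNat 1, Int.ofNat 1, Int.negSucc 0, Int.negSucc 0, Int.ofNat 1, Int.negSucc 0, Int.ofNat 1, Int.ofNat 1, Int.negSucc 0, Int.negSucc 0, Int.negSucc 2, Int.ofNat 1, Int.ofNat 1, Int.ofNat 1, Int.ofNat 1, Int.ofNat 1, Int.ofNat 1, Int.negSucc 0, Int.ofNat 1, Int.negSucc 0, Int.ofNat 1, Int.ofNat 1],
  [Int.ofNat 0, Int.ofNat 2, Int.ofNat 0, Int.ofNat 0, Int.negSucc 1, Int.negSucc 1, Int.ofNat 2, Int.ofNat 0, Int.ofNat 2, Int.ofNat 0, Int.negSucc 1, Int.ofNat 0, Int.negSucc 1, Int.ofNat 0, Int.ofNat 0, Int.ofNat 0, Int.ofNat 0, Int.ofNat 0, Int.ofNat 2, Int.ofNat 0, Int.ofNat 0, Int.ofNat 0, Int.ofNat 0, Int.ofNat 0],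
  [Int.ofNat 0, Int.negSucc 1, Int.negSucc 1, Int.ofNat 2, Int.ofNat 0, Int.ofNat 2, Int.ofNat 0, Int.negSucc 1, Int.ofNat 0, Int.negSucc 1, Int.ofNat 0, Int.ofNat 0, Int.ofNat 0, Int.ofNat 0, Int.ofNat 0, Int.ofNat 2, Int.ofNat 0, Int.ofNat 0, Int.ofNat 0, Int.ofNat 0, Int.ofNat 0, Int.ofNat 2, Int.ofNat 0, Int.ofNat 0],
  [Int.negSucc 1, Int.ofNat 0, Int.ofNat 0, Int.ofNat 0, Int.ofNat 0, Int.ofNat 0, Int.ofNat 0, Int.negSucc 1, Int.ofNat 0, Int.negSucc 1, Int.ofNat 0, Int.ofNat 0, Int.ofNat 0, Int.ofNat 0, Int.negSucc 1, Int.ofNat 2, Int.ofNat 0, Int.negSucc 1, Int.ofNat 0, Int.ofNat 0, Int.ofNat 0, Int.ofNat 2, Int.ofNat 0, Int.negSucc 1],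
  [Int.negSucc 1, Int.ofNat 0, Int.ofNat 0, Int.ofNat 0, Int.ofNat 0, Int.negSucc 1, Int.ofNat 0, Int.ofNat 0, Int.ofNat 0, Int.ofNat 0, Int.ofNat 0, Int.negSucc 1, Int.negSucc 1, Int.ofNat 0, Int.ofNat 0, Int.ofNat 2, Int.ofNat 0, Int.negSucc 1, Int.ofNat 0, Int.ofNat 0, Int.ofNat 2, Int.ofNat 0, Int.ofNat 0, Int.negSucc 1],
  [Int.ofNat 0, Int.negSucc 1, Int.negSucc 1, Int.ofNat 2, Int.ofNat 0, Int.ofNat 0, Int.ofNat 0, Int.ofNat 0, Int.ofNat 2, Int.negSucc 1, Int.negSucc 1, Int.ofNat 0, Int.ofNat 0, Int.ofNat 0, Int.ofNat 2, Int.ofNat 0, Int.ofNat 0, Int.ofNat 0, Int.ofNat 2, Int.ofNat 0, Int.ofNat 0, Int.ofNat 0, Int.ofNat 0, Int.ofNat 0],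
  [Int.ofNat 0, Int.negSucc 1, Int.ofNat 2, Int.ofNat 2, Int.ofNat 0, Int.ofNat 0, Int.ofNat 0, Int.ofNat 0, Int.ofNat 2, Int.ofNat 2, Int.ofNat 2, Int.ofNat 0, Int.ofNat 0, Int.ofNat 0, Int.ofNat 2, Int.ofNat 0, Int.ofNat 0, Int.ofNat 0, Int.negSucc 1, Int.ofNat 0, Int.ofNat 0, Int.ofNat 0, Int.ofNat 0, Int.ofNat 0],
  [Int.ofNat 0, Int.ofNat 0, Int.ofNat 0, Int.ofNat 0, Int.ofNat 0, Int.ofNat 2, Int.ofNat 0, Int.ofNat 2, Int.ofNat 2, Int.ofNat 0, Int.negSucc 1, Int.ofNat 0, Int.ofNat 0, Int.ofNat 0, Int.ofNat 2, Int.ofNat 2, Int.ofNat 0, Int.ofNat 0, Int.ofNat 2, Int.ofNat 0, Int.ofNat 0, Int.negSucc 1, Int.ofNat 0, Int.ofNat 0],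
  [Int.ofNat 0, Int.ofNat 0, Int.ofNat 0, Int.ofNat 0, Int.ofNat 0, Int.negSucc 1, Int.ofNat 0, Int.ofNat 2, Int.ofNat 2, Int.ofNat 0, Int.ofNat 2, Int.ofNat 0, Int.ofNat 0, Int.ofNat 0, Int.ofNat 2, Int.negSucc 1, Int.ofNat 0, Int.ofNat 0, Int.negSucc 1, Int.ofNat 0, Int.ofNat 0, Int.negSucc 1, Int.ofNat 0, Int.ofNat 0],
  [Int.ofNat 0, Int.ofNat 0, Int.ofNat 0, Int.ofNat 0, Int.ofNat 0, Int.negSucc 1, Int.ofNat 0, Int.ofNat 2, Int.ofNat 2, Int.ofNat 0, Int.ofNat 2, Int.ofNat 0, Int.ofNat 0, Int.ofNat 0, Int.ofNat 2, Int.negSucc 1, Int.ofNat 0, Int.ofNat 0, Int.negSucc 1, Int.ofNat 0, Int.ofNat 0, Int.negSucc 1, Int.ofNat 0, Int.ofNat 0],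
  [Int.ofNat 0, Int.negSucc 1, Int.ofNat 0, Int.ofNat 0, Int.ofNat 0, Int.negSucc 1, Int.ofNat 0, Int.negSucc 1, Int.ofNat 0, Int.ofNat 0, Int.ofNat 2, Int.ofNat 0, Int.ofNat 2, Int.ofNat 0, Int.ofNat 0, Int.negSucc 1, Int.ofNat 0, Int.ofNat 0, Int.ofNat 0, Int.ofNat 0, Int.ofNat 2, Int.ofNat 0, Int.ofNat 2, Int.ofNat 0],
  [Int.negSucc 0, Int.ofNat 1, Int.negSucc 0, Int.ofNat 1, Int.negSucc 0, Int.negSucc 0, Int.ofNat 1, Int.negSucc 0, Int.negSucc 0, Int.negSucc 0, Int.ofNat 1, Int.negSucc 0, Int.ofNat 1, Int.negSucc 0, Int.ofNat 1, Int.negSucc 2, Int.negSucc 0, Int.ofNat 1, Int.negSucc 0, Int.ofNat 1, Int.ofNat 1, Int.ofNat 1, Int.ofNat 1, Int.negSucc 0],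
  [Int.ofNat 1, Int.ofNat 1, Int.ofNat 1, Int.negSucc 0, Int.ofNat 1, Int.negSucc 0, Int.ofNat 1, Int.negSucc 0, Int.negSucc 0, Int.ofNat 1, Int.negSucc 0, Int.negSucc 0, Int.negSucc 0, Int.ofNat 1, Int.negSucc 0, Int.ofNat 1, Int.negSucc 0, Int.ofNat 1, Int.negSucc 2, Int.negSucc 0, Int.ofNat 1, Int.negSucc 0, Int.ofNat 1, Int.negSucc 0],
  [Int.ofNat 0, Int.ofNat 0, Int.ofNat 0, Int.ofNat 0, Int.ofNat 0, Int.ofNat 0, Int.ofNat 2, Int.ofNat 0, Int.ofNat 2, Int.ofNat 0, Int.negSucc 1, Int.ofNat 2, Int.ofNat 2, Int.ofNat 0, Int.ofNat 0, Int.ofNat 0, Int.negSucc 1, Int.ofNat 2, Int.ofNat 0, Int.ofNat 0, Int.ofNat 0, Int.ofNat 0, Int.ofNat 0, Int.ofNat 2],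
  [Int.ofNat 0, Int.ofNat 0, Int.ofNat 0, Int.ofNat 0, Int.ofNat 0, Int.ofNat 2, Int.ofNat 0, Int.ofNat 2, Int.ofNat 0, Int.negSucc 1, Int.ofNat 2, Int.ofNat 2, Int.ofNat 0, Int.ofNat 0, Int.ofNat 0, Int.negSucc 1, Int.ofNat 2, Int.ofNat 0, Int.ofNat 0, Int.ofNat 0, Int.ofNat 0, Int.ofNat 0, Int.ofNat 0, Int.ofNat 2],
  [Int.ofNat 0, Int.ofNat 0, Int.ofNat 0, Int.ofNat 0, Int.ofNat 0, Int.ofNat 2, Int.ofNat 0, Int.negSucc 1, Int.ofNat 0, Int.ofNat 2, Int.negSucc 1, Int.negSucc 1, Int.ofNat 0, Int.ofNat 0, Int.ofNat 0, Int.negSucc 1, Int.ofNat 2, Int.ofNat 0, Int.ofNat 0, Int.ofNat 0, Int.ofNat 0, Int.ofNat 0, Int.ofNat 0, Int.ofNat 2],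
  [Int.ofNat 0, Int.ofNat 0, Int.ofNat 0, Int.ofNat 0, Int.ofNat 0, Int.negSucc 1, Int.ofNat 0, Int.ofNat 0, Int.ofNat 2, Int.ofNat 2, Int.ofNat 0, Int.ofNat 0, Int.ofNat 0, Int.ofNat 0, Int.ofNat 0, Int.negSucc 1, Int.ofNat 0, Int.ofNat 0, Int.ofNat 0, Int.ofNat 0, Int.ofNat 2, Int.negSucc 1, Int.negSucc 1, Int.ofNat 2],
  [Int.ofNat 0, Int.ofNat 0, Int.ofNat 0, Int.ofNat 0, Int.ofNat 0, Int.negSucc 1, Int.ofNat 0, Int.ofNat 0, Int.ofNat 2, Int.negSucc 1, Int.ofNat 0, Int.ofNat 0, Int.ofNat 0, Int.ofNat 0, Int.ofNat 0, Int.negSucc 1, Int.ofNat 0, Int.ofNat 0, Int.ofNat 0, Int.ofNat 0, Int.ofNat 2, Int.ofNat 2, Int.negSucc 1, Int.ofNat 2],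
  [Int.negSucc 1, Int.ofNat 0, Int.ofNat 0, Int.ofNat 0, Int.ofNat 0, Int.ofNat 0, Int.negSucc 1, Int.ofNat 0, Int.ofNat 0, Int.ofNat 2, Int.negSucc 1, Int.ofNat 0, Int.ofNat 0, Int.ofNat 0, Int.ofNat 0, Int.ofNat 0, Int.negSucc 1, Int.ofNat 0, Int.ofNat 0, Int.ofNat 0, Int.ofNat 0, Int.ofNat 2, Int.ofNat 2, Int.ofNat 2],
  [Int.ofNat 2, Int.ofNat 0, Int.ofNat 0, Int.ofNat 0, Int.ofNat 0, Int.ofNat 0, Int.negSucc 1, Int.ofNat 0, Int.ofNat 0, Int.ofNat 2, Int.negSucc 1, Int.ofNat 0, Int.ofNat 0, Int.ofNat 0, Int.ofNat 0, Int.ofNat 0, Int.negSucc 1, Int.ofNat 0, Int.ofNat 0, Int.ofNat 0, Int.ofNat 0, Int.ofNat 2, Int.ofNat 2, Int.negSucc 1],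
  [Int.ofNat 0, Int.ofNat 0, Int.ofNat 0, Int.negSucc 1, Int.ofNat 0, Int.ofNat 0, Int.ofNat 2, Int.negSucc 1, Int.ofNat 0, Int.ofNat 0, Int.ofNat 0, Int.ofNat 0, Int.ofNat 0, Int.negSucc 1, Int.ofNat 0, Int.ofNat 0, Int.ofNat 0, Int.ofNat 0, Int.ofNat 2, Int.ofNat 2, Int.ofNat 2, Int.ofNat 0, Int.ofNat 0, Int.negSucc 1],
  [Int.negSucc 0, Int.negSucc 0, Int.negSucc 0, Int.negSucc 0, Int.ofNat 1, Int.ofNat 1, Int.ofNat 1, Int.negSucc 2, Int.negSucc 0, Int.negSucc 0, Int.negSucc 0, Int.negSucc 0, Int.negSucc 0, Int.negSucc 0, Int.ofNat 1, Int.negSucc 0, Int.ofNat 1, Int.ofNat 1, Int.ofNat 1, Int.ofNat 1, Int.ofNat 1, Int.negSucc 0, Int.ofNat 1, Int.ofNat 1],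
  [Int.negSucc 0, Int.ofNat 1, Int.ofNat 1, Int.negSucc 0, Int.ofNat 1, Int.negSucc 2, Int.negSucc 0, Int.negSucc 0, Int.negSucc 0, Int.negSucc 0, Int.ofNat 1, Int.ofNat 1, Int.negSucc 0, Int.ofNat 1, Int.ofNat 1, Int.negSucc 0, Int.negSucc 0, Int.ofNat 1, Int.negSucc 0, Int.negSucc 0, Int.negSucc 0, Int.ofNat 1, Int.ofNat 1, Int.ofNat 1],
  [Int.ofNat 2, Int.ofNat 0, Int.ofNat 0, Int.ofNat 0, Int.ofNat 0, Int.negSucc 1, Int.ofNat 0, Int.ofNat 0, Int.ofNat 0, Int.ofNat 0, Int.ofNat 2, Int.ofNat 2, Int.ofNat 0, Int.ofNat 0, Int.ofNat 2, Int.ofNat 0, Int.negSucc 1, Int.ofNat 2, Int.ofNat 0, Int.ofNat 0, Int.ofNat 0, Int.ofNat 2, Int.ofNat 0, Int.ofNat 0],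
  [Int.ofNat 2, Int.ofNat 0, Int.ofNat 0, Int.ofNat 0, Int.ofNat 0, Int.ofNat 2, Int.ofNat 0, Int.ofNat 0, Int.ofNat 0, Int.ofNat 0, Int.negSucc 1, Int.ofNat 2, Int.ofNat 0, Int.ofNat 0, Int.ofNat 2, Int.ofNat 0, Int.negSucc 1, Int.ofNat 2, Int.ofNat 0, Int.ofNat 0, Int.ofNat 0, Int.ofNat 2, Int.ofNat 0, Int.ofNat 0],
  [Int.negSucc 1, Int.negSucc 1, Int.ofNat 2, Int.ofNat 0, Int.ofNat 2, Int.ofNat 0, Int.ofNat 2, Int.ofNat 0, Int.ofNat 2, Int.ofNat 0, Int.ofNat 0, Int.ofNat 0, Int.ofNat 0, Int.ofNat 0, Int.ofNat 2, Int.ofNat 0, Int.ofNat 0, Int.ofNat 0, Int.ofNat 0, Int.ofNat 0, Int.ofNat 2, Int.ofNat 0, Int.ofNat 0, Int.ofNat 0],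
  [Int.ofNat 2, Int.ofNat 2, Int.negSucc 1, Int.ofNat 0, Int.negSucc 1, Int.ofNat 0, Int.negSucc 1, Int.ofNat 0, Int.negSucc 1, Int.ofNat 0, Int.ofNat 0, Int.ofNat 0, Int.ofNat 0, Int.ofNat 0, Int.ofNat 2, Int.ofNat 0, Int.ofNat 0, Int.ofNat 0, Int.ofNat 0, Int.ofNat 0, Int.ofNat 2, Int.ofNat 0, Int.ofNat 0, Int.ofNat 0],
  [Int.ofNat 0, Int.ofNat 0, Int.ofNat 0, Int.ofNat 0, Int.ofNat 0, Int.ofNat 0, Int.ofNat 0, Int.ofNat 0, Int.ofNat 2, Int.ofNat 0, Int.ofNat 0, Int.negSucc 1, Int.ofNat 0, Int.ofNat 0, Int.ofNat 0, Int.ofNat 0, Int.ofNat 0, Int.negSucc 1, Int.ofNat 2, Int.negSucc 1, Int.negSucc 1, Int.ofNat 0, Int.ofNat 2, Int.ofNat 2],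
  [Int.ofNat 0, Int.ofNat 0, Int.ofNat 0, Int.ofNat 0, Int.ofNat 0, Int.ofNat 0, Int.ofNat 0, Int.ofNat 0, Int.ofNat 2, Int.ofNat 0, Int.ofNat 0, Int.ofNat 2, Int.ofNat 0, Int.ofNat 0, Int.ofNat 0, Int.ofNat 0, Int.ofNat 0, Int.negSucc 1, Int.negSucc 1, Int.negSucc 1, Int.negSucc 1, Int.ofNat 0, Int.ofNat 2, Int.ofNat 2],
  [Int.ofNat 2, Int.ofNat 0, Int.ofNat 0, Int.ofNat 0, Int.ofNat 0, Int.ofNat 0, Int.ofNat 0, Int.ofNat 0, Int.ofNat 0, Int.ofNat 2, Int.ofNat 0, Int.ofNat 0, Int.ofNat 2, Int.ofNat 0, Int.ofNat 0, Int.ofNat 0, Int.ofNat 0, Int.ofNat 0, Int.negSucc 1, Int.negSucc 1, Int.negSucc 1, Int.negSucc 1, Int.ofNat 0, Int.ofNat 2],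
  [Int.ofNat 0, Int.ofNat 2, Int.ofNat 2, Int.ofNat 0, Int.ofNat 0, Int.ofNat 0, Int.ofNat 2, Int.ofNat 2, Int.ofNat 0, Int.ofNat 2, Int.ofNat 0, Int.ofNat 0, Int.ofNat 2, Int.ofNat 0, Int.ofNat 0, Int.ofNat 0, Int.ofNat 0, Int.ofNat 0, Int.negSucc 1, Int.ofNat 0, Int.negSucc 1, Int.ofNat 0, Int.ofNat 0, Int.ofNat 0],
  [Int.ofNat 0, Int.ofNat 0, Int.ofNat 0, Int.ofNat 2, Int.ofNat 2, Int.ofNat 0, Int.ofNat 2, Int.ofNat 0, Int.ofNat 0, Int.ofNat 2, Int.ofNat 0, Int.ofNat 0, Int.ofNat 0, Int.ofNat 0, Int.ofNat 0, Int.negSucc 1, Int.ofNat 0, Int.negSucc 1, Int.ofNat 0, Int.ofNat 0, Int.ofNat 0, Int.ofNat 2, Int.ofNat 2, Int.ofNat 0],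
  [Int.ofNat 0, Int.ofNat 0, Int.ofNat 0, Int.ofNat 2, Int.ofNat 0, Int.ofNat 0, Int.ofNat 0, Int.negSucc 1, Int.ofNat 0, Int.ofNat 2, Int.ofNat 0, Int.ofNat 0, Int.ofNat 0, Int.negSucc 1, Int.ofNat 0, Int.negSucc 1, Int.negSucc 1, Int.negSucc 1, Int.ofNat 0, Int.negSucc 1, Int.ofNat 0, Int.ofNat 0, Int.ofNat 0, Int.ofNat 0],
  [Int.ofNat 0, Int.ofNat 0, Int.ofNat 0, Int.ofNat 2, Int.ofNat 0, Int.negSucc 1, Int.ofNat 0, Int.ofNat 0, Int.ofNat 0, Int.negSucc 1, Int.ofNat 0, Int.negSucc 1, Int.ofNat 2, Int.negSucc 1, Int.ofNat 0, Int.negSucc 1, Int.ofNat 0, Int.ofNat 0, Int.ofNat 0, Int.ofNat 0, Int.ofNat 0, Int.ofNat 0, Int.negSucc 1, Int.ofNat 0],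
  [Int.ofNat 0, Int.ofNat 0, Int.ofNat 0, Int.ofNat 2, Int.ofNat 2, Int.negSucc 1, Int.ofNat 0, Int.ofNat 0, Int.ofNat 0, Int.ofNat 0, Int.ofNat 2, Int.negSucc 1, Int.ofNat 2, Int.ofNat 0, Int.ofNat 0, Int.ofNat 0, Int.ofNat 2, Int.ofNat 0, Int.ofNat 0, Int.ofNat 0, Int.ofNat 2, Int.ofNat 0, Int.ofNat 0, Int.ofNat 0],
  [Int.ofNat 0, Int.ofNat 0, Int.ofNat 0, Int.ofNat 2, Int.ofNat 2, Int.ofNat 2, Int.ofNat 0, Int.ofNat 0, Int.ofNat 0, Int.ofNat 0, Int.negSucc 1, Int.negSucc 1, Int.ofNat 2, Int.ofNat 0, Int.ofNat 0, Int.ofNat 0, Int.ofNat 2, Int.ofNat 0, Int.ofNat 0, Int.ofNat 0, Int.ofNat 2, Int.ofNat 0, Int.ofNat 0, Int.ofNat 0],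
  [Int.ofNat 0, Int.ofNat 2, Int.ofNat 0, Int.ofNat 0, Int.ofNat 0, Int.negSucc 1, Int.ofNat 0, Int.ofNat 0, Int.ofNat 0, Int.ofNat 0, Int.ofNat 0, Int.ofNat 2, Int.ofNat 2, Int.negSucc 1, Int.ofNat 0, Int.ofNat 0, Int.ofNat 0, Int.ofNat 0, Int.ofNat 2, Int.ofNat 2, Int.ofNat 2, Int.ofNat 0, Int.ofNat 0, Int.ofNat 0],
  [Int.ofNat 0, Int.ofNat 2, Int.ofNat 0, Int.ofNat 0, Int.ofNat 0, Int.ofNat 2, Int.ofNat 0, Int.ofNat 0, Int.ofNat 0, Int.ofNat 0, Int.ofNat 0, Int.ofNat 2, Int.ofNat 2, Int.negSucc 1, Int.ofNat 0, Int.ofNat 0, Int.ofNat 0, Int.ofNat 0, Int.negSucc 1, Int.ofNat 2, Int.ofNat 2, Int.ofNat 0, Int.ofNat 0, Int.ofNat 0],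
  [Int.ofNat 1, Int.negSucc 0, Int.ofNat 1, Int.negSucc 0, Int.ofNat 1, Int.ofNat 1, Int.negSucc 0, Int.negSucc 0, Int.negSucc 0, Int.negSucc 0, Int.negSucc 0, Int.ofNat 1, Int.ofNat 1, Int.negSucc 0, Int.negSucc 0, Int.negSucc 0, Int.ofNat 1, Int.negSucc 0, Int.negSucc 2, Int.ofNat 1, Int.ofNat 1, Int.negSucc 0, Int.ofNat 1, Int.ofNat 1],
  [Int.ofNat 1, Int.negSucc 2, Int.negSucc 0, Int.negSucc 0, Int.ofNat 1, Int.negSucc 0, Int.negSucc 0, Int.ofNat 1, Int.ofNat 1, Int.ofNat 1, Int.negSucc 0, Int.ofNat 1, Int.negSucc 0, Int.negSucc 0, Int.negSucc 0, Int.negSucc 0, Int.negSucc 0, Int.ofNat 1, Int.ofNat 1, Int.ofNat 1, Int.negSucc 0, Int.ofNat 1, Int.negSucc 0, Int.ofNat 1],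
  [Int.negSucc 1, Int.ofNat 2, Int.ofNat 0, Int.ofNat 0, Int.ofNat 2, Int.ofNat 0, Int.negSucc 1, Int.ofNat 0, Int.ofNat 0, Int.ofNat 2, Int.ofNat 0, Int.ofNat 0, Int.negSucc 1, Int.ofNat 0, Int.ofNat 0, Int.ofNat 0, Int.ofNat 0, Int.ofNat 2, Int.ofNat 0, Int.ofNat 0, Int.ofNat 0, Int.ofNat 0, Int.ofNat 0, Int.negSucc 1],
  [Int.ofNat 0, Int.ofNat 0, Int.ofNat 0, Int.negSucc 1, Int.ofNat 2, Int.ofNat 0, Int.ofNat 0, Int.ofNat 2, Int.ofNat 0, Int.negSucc 1, Int.ofNat 0, Int.ofNat 0, Int.ofNat 2, Int.ofNat 0, Int.ofNat 0, Int.negSucc 1, Int.ofNat 0, Int.ofNat 0, Int.ofNat 0, Int.ofNat 0, Int.ofNat 2, Int.ofNat 0, Int.ofNat 0, Int.negSucc 1],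
  [Int.negSucc 0, Int.negSucc 0, Int.negSucc 0, Int.negSucc 0, Int.ofNat 1, Int.ofNat 1, Int.negSucc 0, Int.ofNat 1, Int.negSucc 0, Int.negSucc 0, Int.ofNat 1, Int.negSucc 0, Int.ofNat 1, Int.negSucc 0, Int.ofNat 1, Int.negSucc 0, Int.negSucc 0, Int.ofNat 1, Int.negSucc 0, Int.negSucc 0, Int.ofNat 3, Int.negSucc 0, Int.negSucc 0, Int.ofNat 1],
  [Int.negSucc 0, Int.negSucc 0, Int.negSucc 0, Int.ofNat 1, Int.ofNat 1, Int.negSucc 0, Int.ofNat 1, Int.negSucc 0, Int.negSucc 0, Int.ofNat 1, Int.negSucc 0, Int.ofNat 1, Int.negSucc 0, Int.ofNat 1, Int.negSucc 0, Int.negSucc 0, Int.ofNat 1, Int.negSucc 0, Int.negSucc 0, Int.ofNat 3, Int.negSucc 0, Int.negSucc 0, Int.negSucc 0, Int.ofNat 1],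
  [Int.ofNat 1, Int.negSucc 0, Int.ofNat 1, Int.ofNat 1, Int.ofNat 1, Int.negSucc 0, Int.ofNat 1, Int.ofNat 1, Int.negSucc 0, Int.negSucc 0, Int.ofNat 1, Int.negSucc 0, Int.negSucc 0, Int.ofNat 1, Int.negSucc 0, Int.negSucc 0, Int.ofNat 1, Int.negSucc 0, Int.ofNat 1, Int.ofNat 3, Int.negSucc 0, Int.ofNat 1, Int.negSucc 0, Int.ofNat 1],
  [Int.ofNat 1, Int.ofNat 1, Int.ofNat 1, Int.ofNat 1, Int.negSucc 0, Int.ofNat 1, Int.ofNat 1, Int.negSucc 0, Int.negSucc 0, Int.ofNat 1, Int.ofNat 1, Int.negSucc 0, Int.ofNat 1, Int.negSucc 0, Int.ofNat 3, Int.negSucc 0, Int.negSucc 0, Int.negSucc 0, Int.ofNat 1, Int.negSucc 0, Int.negSucc 0, Int.ofNat 1, Int.negSucc 0, Int.ofNat 1],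
  [Int.negSucc 0, Int.ofNat 1, Int.negSucc 0, Int.ofNat 1, Int.negSucc 0, Int.ofNat 1, Int.ofNat 1, Int.ofNat 1, Int.negSucc 0, Int.negSucc 0, Int.negSucc 0, Int.ofNat 1, Int.ofNat 1, Int.negSucc 0, Int.ofNat 3, Int.negSucc 0, Int.negSucc 0, Int.negSucc 0, Int.negSucc 0, Int.negSucc 0, Int.negSucc 0, Int.negSucc 0, Int.negSucc 0, Int.ofNat 1],
  [Int.negSucc 0, Int.negSucc 0, Int.ofNat 1, Int.negSucc 0, Int.ofNat 1, Int.negSucc 0, Int.ofNat 1, Int.ofNat 1, Int.ofNat 1, Int.negSucc 0, Int.negSucc 0, Int.negSucc 0, Int.ofNat 1, Int.ofNat 1, Int.negSucc 0, Int.ofNat 3, Int.negSucc 0, Int.negSucc 0, Int.negSucc 0, Int.negSucc 0, Int.negSucc 0, Int.negSucc 0, Int.negSucc 0, Int.ofNat 1],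
  [Int.ofNat 1, Int.ofNat 1, Int.negSucc 0, Int.ofNat 1, Int.ofNat 1, Int.ofNat 1, Int.ofNat 1, Int.ofNat 1, Int.ofNat 1, Int.negSucc 0, Int.negSucc 0, Int.negSucc 0, Int.ofNat 1, Int.ofNat 1, Int.ofNat 1, Int.ofNat 3, Int.negSucc 0, Int.ofNat 1, Int.negSucc 0, Int.negSucc 0, Int.negSucc 0, Int.negSucc 0, Int.negSucc 0, Int.negSucc 0],
  [Int.ofNat 1, Int.ofNat 1, Int.ofNat 1, Int.ofNat 1, Int.ofNat 1, Int.ofNat 1, Int.negSucc 0, Int.negSucc 0, Int.negSucc 0, Int.ofNat 1, Int.ofNat 1, Int.ofNat 1, Int.ofNat 3, Int.negSucc 0, Int.ofNat 1, Int.negSucc 0, Int.negSucc 0, Int.negSucc 0, Int.negSucc 0, Int.negSucc 0, Int.ofNat 1, Int.ofNat 1, Int.negSucc 0, Int.negSucc 0],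
  [Int.ofNat 0, Int.ofNat 0, Int.ofNat 0, Int.ofNat 0, Int.ofNat 2, Int.ofNat 0, Int.ofNat 0, Int.ofNat 0, Int.negSucc 1, Int.ofNat 0, Int.ofNat 0, Int.ofNat 0, Int.ofNat 2, Int.ofNat 0, Int.ofNat 0, Int.negSucc 1, Int.ofNat 0, Int.negSucc 1, Int.negSucc 1, Int.ofNat 0, Int.ofNat 0, Int.ofNat 2, Int.ofNat 0, Int.ofNat 2],
  [Int.ofNat 0, Int.ofNat 0, Int.ofNat 2, Int.ofNat 0, Int.negSucc 1, Int.ofNat 0, Int.ofNat 0, Int.ofNat 0, Int.ofNat 2, Int.ofNat 0, Int.ofNat 0, Int.negSucc 1, Int.ofNat 0, Int.ofNat 0, Int.ofNat 0, Int.negSucc 1, Int.negSucc 1, Int.ofNat 0, Int.ofNat 0, Int.ofNat 0, Int.ofNat 2, Int.ofNat 0, Int.ofNat 0, Int.ofNat 2],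
  [Int.ofNat 2, Int.ofNat 2, Int.ofNat 0, Int.ofNat 0, Int.ofNat 0, Int.ofNat 0, Int.ofNat 0, Int.ofNat 0, Int.ofNat 2, Int.ofNat 0, Int.ofNat 0, Int.negSucc 1, Int.ofNat 0, Int.ofNat 2, Int.ofNat 0, Int.negSucc 1, Int.ofNat 0, Int.ofNat 0, Int.ofNat 0, Int.ofNat 0, Int.ofNat 2, Int.ofNat 0, Int.ofNat 2, Int.ofNat 0],
  [Int.ofNat 2, Int.ofNat 2, Int.ofNat 0, Int.ofNat 0, Int.ofNat 0, Int.ofNat 0, Int.ofNat 0, Int.ofNat 0, Int.ofNat 2, Int.ofNat 0, Int.ofNat 0, Int.negSucc 1, Int.ofNat 0, Int.ofNat 2, Int.ofNat 0, Int.ofNat 2, Int.ofNat 0, Int.ofNat 0, Int.ofNat 0, Int.ofNat 0, Int.ofNat 2, Int.ofNat 0, Int.negSucc 1, Int.ofNat 0],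
  [Int.ofNat 0, Int.ofNat 0, Int.negSucc 1, Int.ofNat 2, Int.ofNat 0, Int.ofNat 0, Int.ofNat 0, Int.ofNat 0, Int.ofNat 0, Int.ofNat 2, Int.ofNat 2, Int.ofNat 0, Int.ofNat 2, Int.ofNat 0, Int.ofNat 0, Int.ofNat 0, Int.ofNat 0, Int.ofNat 0, Int.ofNat 0, Int.ofNat 0, Int.ofNat 2, Int.ofNat 2, Int.negSucc 1, Int.ofNat 0],
  [Int.ofNat 0, Int.ofNat 0, Int.ofNat 2, Int.negSucc 1, Int.ofNat 0, Int.ofNat 0, Int.ofNat 0, Int.ofNat 0, Int.ofNat 0, Int.negSucc 1, Int.ofNat 2, Int.ofNat 0, Int.negSucc 1, Int.ofNat 0, Int.ofNat 0, Int.ofNat 0, Int.ofNat 0, Int.ofNat 0, Int.ofNat 0, Int.ofNat 0, Int.ofNat 2, Int.ofNat 2, Int.negSucc 1, Int.ofNat 0],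
  [Int.ofNat 0, Int.negSucc 1, Int.ofNat 0, Int.ofNat 0, Int.ofNat 0, Int.negSucc 1, Int.ofNat 0, Int.ofNat 0, Int.ofNat 2, Int.ofNat 0, Int.ofNat 0, Int.ofNat 2, Int.ofNat 2, Int.ofNat 0, Int.ofNat 0, Int.negSucc 1, Int.ofNat 2, Int.ofNat 0, Int.ofNat 0, Int.ofNat 0, Int.ofNat 0, Int.negSucc 1, Int.ofNat 0, Int.ofNat 0],
  [Int.ofNat 0, Int.negSucc 1, Int.ofNat 0, Int.ofNat 0, Int.ofNat 0, Int.negSucc 1, Int.ofNat 0, Int.ofNat 0, Int.ofNat 2, Int.ofNat 0, Int.ofNat 0, Int.negSucc 1, Int.ofNat 2, Int.ofNat 0, Int.ofNat 0, Int.negSucc 1, Int.ofNat 2, Int.ofNat 0, Int.ofNat 0, Int.ofNat 0, Int.ofNat 0, Int.ofNat 2, Int.ofNat 0, Int.ofNat 0],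
  [Int.ofNat 0, Int.ofNat 0, Int.negSucc 1, Int.ofNat 0, Int.ofNat 0, Int.ofNat 0, Int.negSucc 1, Int.ofNat 0, Int.ofNat 0, Int.ofNat 2, Int.ofNat 0, Int.ofNat 0, Int.negSucc 1, Int.ofNat 2, Int.ofNat 0, Int.ofNat 0, Int.negSucc 1, Int.ofNat 2, Int.ofNat 0, Int.ofNat 0, Int.ofNat 0, Int.ofNat 0, Int.ofNat 2, Int.ofNat 0],
  [Int.negSucc 0, Int.negSucc 0, Int.ofNat 1, Int.negSucc 0, Int.negSucc 0, Int.negSucc 0, Int.negSucc 0, Int.ofNat 1, Int.ofNat 1, Int.ofNat 1, Int.negSucc 0, Int.ofNat 1, Int.negSucc 0, Int.ofNat 1, Int.negSucc 0, Int.negSucc 0, Int.negSucc 2, Int.ofNat 1, Int.ofNat 1, Int.ofNat 1, Int.negSucc 0, Int.ofNat 1, Int.ofNat 1, Int.negSucc 0],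
  [Int.negSucc 0, Int.negSucc 0, Int.negSucc 0, Int.negSucc 0, Int.ofNat 1, Int.ofNat 1, Int.ofNat 1, Int.negSucc 0, Int.ofNat 1, Int.negSucc 0, Int.ofNat 1, Int.negSucc 0, Int.negSucc 0, Int.negSucc 2, Int.ofNat 1, Int.ofNat 1, Int.ofNat 1, Int.negSucc 0, Int.ofNat 1, Int.ofNat 1, Int.negSucc 0, Int.negSucc 0, Int.ofNat 1, Int.negSucc 0],
  [Int.negSucc 0, Int.negSucc 0, Int.negSucc 0, Int.negSucc 0, Int.ofNat 1, Int.ofNat 1, Int.ofNat 1, Int.negSucc 0, Int.ofNat 1, Int.negSucc 0, Int.ofNat 1, Int.negSucc 0, Int.negSucc 0, Int.negSucc 2, Int.ofNat 1, Int.ofNat 1, Int.ofNat 1, Int.negSucc 0, Int.ofNat 1, Int.ofNat 1, Int.negSucc 0, Int.negSucc 0, Int.ofNat 1, Int.negSucc 0],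
  [Int.negSucc 0, Int.ofNat 1, Int.ofNat 1, Int.negSucc 0, Int.ofNat 1, Int.negSucc 0, Int.negSucc 0, Int.ofNat 1, Int.negSucc 0, Int.negSucc 2, Int.negSucc 0, Int.negSucc 0, Int.negSucc 0, Int.ofNat 1, Int.ofNat 1, Int.ofNat 1, Int.ofNat 1, Int.ofNat 1, Int.negSucc 0, Int.negSucc 0, Int.negSucc 0, Int.ofNat 1, Int.ofNat 1, Int.negSucc 0],
  [Int.ofNat 1, Int.negSucc 0, Int.negSucc 0, Int.negSucc 0, Int.negSucc 0, Int.negSucc 0, Int.negSucc 0, Int.ofNat 1, Int.ofNat 1, Int.negSucc 0, Int.ofNat 1, Int.ofNat 1, Int.ofNat 1, Int.negSucc 0, Int.ofNat 1, Int.ofNat 3, Int.negSucc 0, Int.ofNat 1, Int.ofNat 1, Int.negSucc 0, Int.ofNat 1, Int.ofNat 1, Int.negSucc 0, Int.ofNat 1],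
  [Int.ofNat 1, Int.negSucc 0, Int.ofNat 1, Int.negSucc 0, Int.negSucc 0, Int.ofNat 1, Int.ofNat 1, Int.ofNat 1, Int.ofNat 1, Int.ofNat 1, Int.negSucc 0, Int.ofNat 1, Int.ofNat 1, Int.negSucc 0, Int.ofNat 1, Int.negSucc 2, Int.negSucc 0, Int.ofNat 1, Int.negSucc 0, Int.negSucc 0, Int.ofNat 1, Int.ofNat 1, Int.ofNat 1, Int.ofNat 1],
  [Int.negSucc 2, Int.negSucc 0, Int.ofNat 1, Int.ofNat 1, Int.ofNat 1, Int.negSucc 0, Int.ofNat 1, Int.ofNat 1, Int.ofNat 1, Int.negSucc 0, Int.negSucc 0, Int.ofNat 1, Int.ofNat 1, Int.ofNat 1, Int.ofNat 1, Int.ofNat 1, Int.negSucc 0, Int.ofNat 1, Int.negSucc 0, Int.ofNat 1, Int.negSucc 0, Int.negSucc 0, Int.ofNat 1, Int.ofNat 1],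
  [Int.negSucc 2, Int.negSucc 0, Int.negSucc 0, Int.ofNat 1, Int.ofNat 1, Int.ofNat 1, Int.negSucc 0, Int.ofNat 1, Int.ofNat 1, Int.ofNat 1, Int.ofNat 1, Int.ofNat 1, Int.ofNat 1, Int.ofNat 1, Int.ofNat 1, Int.negSucc 0, Int.negSucc 0, Int.ofNat 1, Int.ofNat 1, Int.ofNat 1, Int.negSucc 0, Int.negSucc 0, Int.negSucc 0, Int.ofNat 1],
  [Int.ofNat 1, Int.negSucc 0, Int.negSucc 0, Int.negSucc 0, Int.ofNat 1, Int.negSucc 0, Int.negSucc 0, Int.ofNat 1, Int.negSucc 0, Int.ofNat 1, Int.ofNat 1, Int.negSucc 0, Int.negSucc 0, Int.ofNat 1, Int.negSucc 0, Int.negSucc 0, Int.negSucc 0, Int.negSucc 0, Int.negSucc 0, Int.ofNat 1, Int.negSucc 0, Int.negSucc 0, Int.negSucc 0, Int.negSucc 2],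
  [Int.ofNat 1, Int.negSucc 0, Int.negSucc 0, Int.negSucc 0, Int.negSucc 0, Int.negSucc 0, Int.negSucc 0, Int.negSucc 0, Int.negSucc 0, Int.negSucc 0, Int.ofNat 1, Int.ofNat 1, Int.negSucc 0, Int.ofNat 1, Int.negSucc 0, Int.negSucc 0, Int.ofNat 1, Int.negSucc 0, Int.ofNat 1, Int.negSucc 0, Int.ofNat 1, Int.negSucc 0, Int.negSucc 0, Int.negSucc 2],
  [Int.negSucc 2, Int.negSucc 0, Int.negSucc 0, Int.ofNat 1, Int.negSucc 0, Int.ofNat 1, Int.ofNat 1, Int.ofNat 1, Int.negSucc 0, Int.negSucc 0, Int.ofNat 1, Int.ofNat 1, Int.negSucc 0, Int.ofNat 1, Int.ofNat 1, Int.negSucc 0, Int.ofNat 1, Int.ofNat 1, Int.ofNat 1, Int.ofNat 1, Int.ofNat 1, Int.ofNat 1, Int.negSucc 0, Int.ofNat 1],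
  [Int.ofNat 1, Int.ofNat 1, Int.negSucc 0, Int.negSucc 2, Int.negSucc 0, Int.negSucc 0, Int.ofNat 1, Int.negSucc 0, Int.ofNat 1, Int.ofNat 1, Int.ofNat 1, Int.negSucc 0, Int.negSucc 0, Int.ofNat 1, Int.ofNat 1, Int.negSucc 0, Int.ofNat 1, Int.ofNat 1, Int.negSucc 0, Int.ofNat 1, Int.ofNat 1, Int.ofNat 1, Int.ofNat 1, Int.ofNat 1],
  [Int.ofNat 0, Int.ofNat 0, Int.ofNat 2, Int.negSucc 1, Int.negSucc 1, Int.ofNat 0, Int.ofNat 0, Int.negSucc 1, Int.ofNat 2, Int.ofNat 0, Int.ofNat 0, Int.ofNat 0, Int.ofNat 0, Int.ofNat 0, Int.ofNat 2, Int.negSucc 1, Int.ofNat 0, Int.ofNat 2, Int.ofNat 0, Int.ofNat 0, Int.ofNat 0, Int.ofNat 0, Int.ofNat 0, Int.ofNat 0],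
  [Int.ofNat 0, Int.ofNat 2, Int.negSucc 1, Int.negSucc 1, Int.ofNat 0, Int.ofNat 0, Int.negSucc 1, Int.ofNat 2, Int.ofNat 0, Int.ofNat 0, Int.ofNat 0, Int.ofNat 0, Int.ofNat 0, Int.ofNat 2, Int.negSucc 1, Int.ofNat 0, Int.ofNat 2, Int.ofNat 0, Int.ofNat 0, Int.ofNat 0, Int.ofNat 0, Int.ofNat 0, Int.ofNat 0, Int.ofNat 0],
  [Int.ofNat 0, Int.ofNat 2, Int.ofNat 2, Int.negSucc 1, Int.ofNat 0, Int.ofNat 0, Int.negSucc 1, Int.negSucc 1, Int.ofNat 0, Int.ofNat 0, Int.ofNat 0, Int.ofNat 0, Int.ofNat 0, Int.ofNat 2, Int.negSucc 1, Int.ofNat 0, Int.ofNat 2, Int.ofNat 0, Int.ofNat 0, Int.ofNat 0, Int.ofNat 0, Int.ofNat 0, Int.ofNat 0, Int.ofNat 0],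
  [Int.ofNat 0, Int.ofNat 2, Int.ofNat 0, Int.negSucc 1, Int.ofNat 2, Int.ofNat 0, Int.ofNat 0, Int.ofNat 0, Int.ofNat 0, Int.ofNat 2, Int.ofNat 0, Int.negSucc 1, Int.ofNat 2, Int.ofNat 0, Int.ofNat 0, Int.ofNat 0, Int.ofNat 0, Int.ofNat 0, Int.negSucc 1, Int.ofNat 0, Int.ofNat 0, Int.negSucc 1, Int.ofNat 0, Int.ofNat 0],
  [Int.ofNat 0, Int.ofNat 2, Int.ofNat 0, Int.negSucc 1, Int.ofNat 2, Int.ofNat 0, Int.ofNat 0, Int.ofNat 0, Int.ofNat 0, Int.negSucc 1, Int.ofNat 0, Int.ofNat 2, Int.ofNat 2, Int.ofNat 0, Int.ofNat 0, Int.ofNat 0, Int.ofNat 0, Int.ofNat 0, Int.ofNat 2, Int.ofNat 0, Int.ofNat 0, Int.ofNat 2, Int.ofNat 0, Int.ofNat 0],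
  [Int.ofNat 0, Int.ofNat 0, Int.ofNat 2, Int.ofNat 0, Int.negSucc 1, Int.ofNat 2, Int.ofNat 0, Int.ofNat 0, Int.ofNat 0, Int.ofNat 0, Int.negSucc 1, Int.ofNat 0, Int.ofNat 2, Int.ofNat 2, Int.ofNat 0, Int.ofNat 0, Int.ofNat 0, Int.ofNat 0, Int.ofNat 0, Int.ofNat 2, Int.ofNat 0, Int.ofNat 0, Int.ofNat 2, Int.ofNat 0],
  [Int.ofNat 1, Int.ofNat 1, Int.negSucc 0, Int.negSucc 0, Int.negSucc 2, Int.ofNat 1, Int.negSucc 0, Int.negSucc 0, Int.negSucc 0, Int.ofNat 1, Int.negSucc 0, Int.negSucc 0, Int.ofNat 1, Int.ofNat 1, Int.negSucc 0, Int.ofNat 1, Int.negSucc 0, Int.negSucc 0, Int.negSucc 0, Int.ofNat 1, Int.ofNat 1, Int.negSucc 0, Int.ofNat 1, Int.ofNat 1],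
  [Int.negSucc 0, Int.negSucc 2, Int.ofNat 1, Int.negSucc 0, Int.negSucc 0, Int.negSucc 0, Int.ofNat 1, Int.negSucc 0, Int.negSucc 0, Int.ofNat 1, Int.ofNat 1, Int.negSucc 0, Int.ofNat 1, Int.negSucc 0, Int.negSucc 0, Int.negSucc 0, Int.ofNat 1, Int.ofNat 1, Int.negSucc 0, Int.ofNat 1, Int.ofNat 1, Int.ofNat 1, Int.negSucc 0, Int.ofNat 1],
  [Int.ofNat 0, Int.ofNat 2, Int.negSucc 1, Int.ofNat 0, Int.ofNat 0, Int.ofNat 0, Int.ofNat 0, Int.negSucc 1, Int.ofNat 0, Int.ofNat 0, Int.ofNat 0, Int.ofNat 0, Int.ofNat 2, Int.ofNat 0, Int.ofNat 0, Int.negSucc 1, Int.ofNat 2, Int.ofNat 2, Int.ofNat 0, Int.ofNat 0, Int.ofNat 0, Int.ofNat 0, Int.ofNat 0, Int.negSucc 1],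
  [Int.ofNat 0, Int.ofNat 0, Int.ofNat 0, Int.ofNat 0, Int.ofNat 0, Int.negSucc 1, Int.negSucc 1, Int.ofNat 0, Int.ofNat 2, Int.ofNat 0, Int.ofNat 0, Int.ofNat 2, Int.ofNat 0, Int.ofNat 2, Int.ofNat 0, Int.negSucc 1, Int.ofNat 0, Int.ofNat 0, Int.ofNat 2, Int.ofNat 0, Int.ofNat 0, Int.ofNat 0, Int.ofNat 0, Int.negSucc 1],
  [Int.negSucc 0, Int.negSucc 0, Int.negSucc 0, Int.ofNat 1, Int.negSucc 0, Int.negSucc 0, Int.negSucc 0, Int.ofNat 1, Int.negSucc 0, Int.ofNat 1, Int.ofNat 1, Int.negSucc 0, Int.negSucc 2, Int.ofNat 1, Int.ofNat 1, Int.negSucc 0, Int.negSucc 0, Int.ofNat 1, Int.negSucc 0, Int.ofNat 1, Int.ofNat 1, Int.ofNat 1, Int.negSucc 0, Int.ofNat 1],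
  [Int.negSucc 0, Int.negSucc 0, Int.ofNat 1, Int.ofNat 1, Int.negSucc 0, Int.ofNat 1, Int.ofNat 1, Int.ofNat 1, Int.negSucc 0, Int.negSucc 0, Int.negSucc 0, Int.negSucc 0, Int.negSucc 2, Int.ofNat 1, Int.ofNat 1, Int.ofNat 1, Int.negSucc 0, Int.ofNat 1, Int.ofNat 1, Int.ofNat 1, Int.ofNat 1, Int.ofNat 1, Int.ofNat 1, Int.ofNat 1],
  [Int.negSucc 0, Int.negSucc 0, Int.negSucc 0, Int.negSucc 0, Int.ofNat 1, Int.ofNat 1, Int.ofNat 1, Int.ofNat 1, Int.ofNat 1, Int.ofNat 1, Int.ofNat 1, Int.ofNat 1, Int.ofNat 1, Int.negSucc 0, Int.ofNat 1, Int.ofNat 1, Int.ofNat 1, Int.negSucc 2, Int.negSucc 0, Int.ofNat 1, Int.negSucc 0, Int.negSucc 0, Int.ofNat 1, Int.ofNat 1],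
  [Int.ofNat 1, Int.ofNat 1, Int.ofNat 1, Int.ofNat 1, Int.negSucc 0, Int.ofNat 1, Int.negSucc 0, Int.ofNat 1, Int.negSucc 0, Int.negSucc 0, Int.ofNat 1, Int.ofNat 1, Int.negSucc 0, Int.ofNat 1, Int.ofNat 1, Int.ofNat 1, Int.negSucc 0, Int.negSucc 2, Int.ofNat 1, Int.ofNat 1, Int.negSucc 0, Int.negSucc 0, Int.ofNat 1, Int.ofNat 1],
  [Int.ofNat 1, Int.ofNat 1, Int.ofNat 1, Int.ofNat 1, Int.negSucc 2, Int.negSucc 0, Int.ofNat 1, Int.ofNat 1, Int.negSucc 0, Int.ofNat 1, Int.negSucc 0, Int.ofNat 1, Int.negSucc 0, Int.ofNat 1, Int.ofNat 1, Int.ofNat 1, Int.ofNat 1, Int.negSucc 0, Int.ofNat 1, Int.negSucc 0, Int.negSucc 0, Int.negSucc 0, Int.ofNat 1, Int.ofNat 1],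
  [Int.negSucc 0, Int.ofNat 1, Int.negSucc 0, Int.ofNat 1, Int.negSucc 2, Int.negSucc 0, Int.ofNat 1, Int.negSucc 0, Int.negSucc 0, Int.negSucc 0, Int.ofNat 1, Int.negSucc 0, Int.negSucc 0, Int.ofNat 1, Int.ofNat 1, Int.ofNat 1, Int.ofNat 1, Int.negSucc 0, Int.negSucc 0, Int.negSucc 0, Int.negSucc 0, Int.ofNat 1, Int.ofNat 1, Int.ofNat 1],
  [Int.ofNat 1, Int.negSucc 0, Int.ofNat 1, Int.negSucc 0, Int.ofNat 1, Int.negSucc 2, Int.negSucc 0, Int.ofNat 1, Int.negSucc 0, Int.negSucc 0, Int.negSucc 0, Int.ofNat 1, Int.negSucc 0, Int.negSucc 0, Int.ofNat 1, Int.ofNat 1, Int.ofNat 1, Int.ofNat 1, Int.negSucc 0, Int.negSucc 0, Int.negSucc 0, Int.negSucc 0, Int.ofNat 1, Int.ofNat 1],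
  [Int.ofNat 0, Int.ofNat 2, Int.ofNat 0, Int.ofNat 0, Int.ofNat 0, Int.negSucc 1, Int.ofNat 0, Int.ofNat 2, Int.ofNat 0, Int.ofNat 0, Int.ofNat 0, Int.ofNat 2, Int.ofNat 0, Int.negSucc 1, Int.ofNat 2, Int.ofNat 2, Int.ofNat 0, Int.ofNat 2, Int.ofNat 0, Int.ofNat 0, Int.ofNat 0, Int.ofNat 0, Int.ofNat 0, Int.ofNat 0],
  [Int.ofNat 0, Int.ofNat 0, Int.negSucc 1, Int.ofNat 0, Int.ofNat 2, Int.ofNat 0, Int.ofNat 0, Int.ofNat 0, Int.ofNat 2, Int.ofNat 0, Int.negSucc 1, Int.ofNat 2, Int.ofNat 2, Int.ofNat 0, Int.ofNat 2, Int.ofNat 0, Int.ofNat 0, Int.ofNat 0, Int.ofNat 0, Int.ofNat 0, Int.ofNat 0, Int.ofNat 2, Int.ofNat 0, Int.ofNat 0],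
  [Int.negSucc 0, Int.negSucc 0, Int.ofNat 1, Int.negSucc 0, Int.ofNat 1, Int.negSucc 0, Int.negSucc 0, Int.negSucc 0, Int.negSucc 0, Int.ofNat 1, Int.negSucc 0, Int.negSucc 0, Int.negSucc 0, Int.negSucc 0, Int.ofNat 1, Int.ofNat 1, Int.negSucc 0, Int.negSucc 0, Int.negSucc 2, Int.negSucc 0, Int.ofNat 1, Int.ofNat 1, Int.negSucc 0, Int.negSucc 0],
  [Int.negSucc 0, Int.negSucc 0, Int.ofNat 1, Int.negSucc 0, Int.negSucc 2, Int.negSucc 0, Int.ofNat 1, Int.negSucc 0, Int.negSucc 0, Int.negSucc 0, Int.ofNat 1, Int.negSucc 0, Int.ofNat 1, Int.negSucc 0, Int.negSucc 0, Int.ofNat 1, Int.negSucc 0, Int.ofNat 1, Int.negSucc 0, Int.negSucc 0, Int.ofNat 1, Int.negSucc 0, Int.negSucc 0, Int.negSucc 0],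
  [Int.ofNat 0, Int.ofNat 0, Int.negSucc 1, Int.ofNat 0, Int.ofNat 0, Int.ofNat 0, Int.ofNat 2, Int.ofNat 0, Int.ofNat 0, Int.negSucc 1, Int.ofNat 0, Int.ofNat 0, Int.ofNat 2, Int.ofNat 2, Int.ofNat 0, Int.ofNat 0, Int.ofNat 2, Int.ofNat 2, Int.ofNat 0, Int.ofNat 0, Int.ofNat 0, Int.ofNat 0, Int.ofNat 2, Int.ofNat 0],
  [Int.ofNat 0, Int.ofNat 0, Int.ofNat 2, Int.ofNat 0, Int.ofNat 0, Int.ofNat 0, Int.negSucc 1, Int.ofNat 0, Int.ofNat 0, Int.ofNat 2, Int.ofNat 0, Int.ofNat 0, Int.ofNat 2, Int.ofNat 2, Int.ofNat 0, Int.ofNat 0, Int.ofNat 2, Int.ofNat 2, Int.ofNat 0, Int.ofNat 0, Int.ofNat 0, Int.ofNat 0, Int.negSucc 1, Int.ofNat 0],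
  [Int.ofNat 0, Int.ofNat 0, Int.ofNat 0, Int.negSucc 1, Int.negSucc 1, Int.ofNat 0, Int.ofNat 0, Int.ofNat 0, Int.ofNat 2, Int.ofNat 2, Int.ofNat 0, Int.ofNat 2, Int.ofNat 0, Int.ofNat 0, Int.ofNat 2, Int.ofNat 0, Int.ofNat 0, Int.ofNat 0, Int.ofNat 0, Int.ofNat 0, Int.ofNat 2, Int.ofNat 0, Int.ofNat 2, Int.ofNat 0],
  [Int.ofNat 0, Int.ofNat 0, Int.ofNat 0, Int.negSucc 1, Int.negSucc 1, Int.ofNat 0, Int.ofNat 0, Int.ofNat 0, Int.ofNat 2, Int.negSucc 1, Int.ofNat 0, Int.ofNat 2, Int.ofNat 0, Int.ofNat 0, Int.ofNat 2, Int.ofNat 0, Int.ofNat 0, Int.ofNat 0, Int.ofNat 0, Int.ofNat 0, Int.ofNat 2, Int.ofNat 0, Int.negSucc 1, Int.ofNat 0],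
  [Int.ofNat 0, Int.ofNat 0, Int.ofNat 0, Int.negSucc 1, Int.ofNat 0, Int.ofNat 0, Int.ofNat 0, Int.ofNat 0, Int.ofNat 0, Int.negSucc 1, Int.ofNat 0, Int.ofNat 0, Int.negSucc 1, Int.ofNat 2, Int.ofNat 2, Int.ofNat 0, Int.ofNat 2, Int.ofNat 0, Int.negSucc 1, Int.ofNat 0, Int.ofNat 2, Int.ofNat 0, Int.ofNat 0, Int.ofNat 0],
  [Int.ofNat 0, Int.negSucc 1, Int.ofNat 0, Int.negSucc 1, Int.ofNat 0, Int.ofNat 0, Int.ofNat 0, Int.ofNat 0, Int.ofNat 2, Int.negSucc 1, Int.ofNat 0, Int.ofNat 0, Int.ofNat 0, Int.negSucc 1, Int.ofNat 0, Int.ofNat 0, Int.ofNat 2, Int.ofNat 0, Int.ofNat 0, Int.ofNat 0, Int.ofNat 0, Int.ofNat 2, Int.ofNat 2, Int.ofNat 0],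
  [Int.negSucc 0, Int.ofNat 1, Int.negSucc 0, Int.negSucc 0, Int.negSucc 0, Int.ofNat 1, Int.negSucc 0, Int.negSucc 0, Int.ofNat 1, Int.negSucc 0, Int.ofNat 1, Int.negSucc 0, Int.negSucc 0, Int.negSucc 2, Int.ofNat 1, Int.ofNat 1, Int.ofNat 1, Int.ofNat 1, Int.negSucc 0, Int.negSucc 0, Int.ofNat 1, Int.ofNat 1, Int.ofNat 1, Int.negSucc 0],
  [Int.ofNat 1, Int.ofNat 1, Int.ofNat 1, Int.negSucc 0, Int.ofNat 1, Int.negSucc 0, Int.negSucc 0, Int.negSucc 0, Int.ofNat 1, Int.negSucc 0, Int.negSucc 0, Int.ofNat 1, Int.negSucc 0, Int.ofNat 1, Int.negSucc 0, Int.negSucc 0, Int.negSucc 2, Int.ofNat 1, Int.ofNat 1, Int.ofNat 1, Int.ofNat 1, Int.negSucc 0, Int.negSucc 0, Int.negSucc 0],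
  [Int.ofNat 0, Int.ofNat 0, Int.ofNat 0, Int.ofNat 0, Int.ofNat 2, Int.ofNat 0, Int.ofNat 0, Int.ofNat 0, Int.ofNat 0, Int.ofNat 0, Int.ofNat 0, Int.ofNat 0, Int.negSucc 1, Int.ofNat 2, Int.ofNat 0, Int.ofNat 0, Int.negSucc 1, Int.ofNat 2, Int.ofNat 0, Int.ofNat 2, Int.ofNat 2, Int.ofNat 0, Int.ofNat 0, Int.ofNat 2],
  [Int.ofNat 0, Int.ofNat 0, Int.ofNat 0, Int.ofNat 2, Int.ofNat 0, Int.ofNat 0, Int.ofNat 0, Int.ofNat 0, Int.ofNat 0, Int.ofNat 0, Int.ofNat 0, Int.negSucc 1, Int.ofNat 2, Int.ofNat 0, Int.ofNat 0, Int.negSucc 1, Int.ofNat 2, Int.ofNat 0, Int.ofNat 2, Int.ofNat 2, Int.ofNat 0, Int.ofNat 0, Int.ofNat 0, Int.ofNat 2],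
  [Int.ofNat 0, Int.ofNat 0, Int.ofNat 0, Int.ofNat 2, Int.ofNat 0, Int.ofNat 0, Int.ofNat 0, Int.ofNat 0, Int.ofNat 0, Int.ofNat 0, Int.ofNat 0, Int.ofNat 2, Int.ofNat 2, Int.ofNat 0, Int.ofNat 0, Int.negSucc 1, Int.ofNat 2, Int.ofNat 0, Int.negSucc 1, Int.ofNat 2, Int.ofNat 0, Int.ofNat 0, Int.ofNat 0, Int.ofNat 2],
  [Int.ofNat 0, Int.ofNat 0, Int.negSucc 1, Int.ofNat 2, Int.ofNat 0, Int.ofNat 0, Int.ofNat 0, Int.ofNat 0, Int.ofNat 0, Int.ofNat 2, Int.ofNat 0, Int.ofNat 0, Int.ofNat 0, Int.ofNat 0, Int.ofNat 2, Int.negSucc 1, Int.ofNat 2, Int.ofNat 0, Int.ofNat 0, Int.ofNat 0, Int.ofNat 0, Int.ofNat 0, Int.ofNat 2, Int.ofNat 2],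
  [Int.ofNat 0, Int.ofNat 0, Int.ofNat 2, Int.ofNat 2, Int.ofNat 0, Int.ofNat 0, Int.ofNat 0, Int.ofNat 0, Int.ofNat 0, Int.negSucc 1, Int.ofNat 0, Int.ofNat 0, Int.ofNat 0, Int.ofNat 0, Int.ofNat 2, Int.negSucc 1, Int.ofNat 2, Int.ofNat 0, Int.ofNat 0, Int.ofNat 0, Int.ofNat 0, Int.ofNat 0, Int.ofNat 2, Int.ofNat 2],
  [Int.ofNat 2, Int.ofNat 0, Int.ofNat 0, Int.ofNat 2, Int.ofNat 2, Int.ofNat 0, Int.ofNat 0, Int.ofNat 0, Int.ofNat 0, Int.ofNat 0, Int.negSucc 1, Int.ofNat 0, Int.ofNat 0, Int.ofNat 0, Int.ofNat 0, Int.ofNat 2, Int.negSucc 1, Int.ofNat 2, Int.ofNat 0, Int.ofNat 0, Int.ofNat 0, Int.ofNat 0, Int.ofNat 0, Int.ofNat 2],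
  [Int.ofNat 0, Int.ofNat 2, Int.ofNat 2, Int.ofNat 0, Int.ofNat 2, Int.negSucc 1, Int.ofNat 0, Int.ofNat 0, Int.ofNat 0, Int.ofNat 0, Int.negSucc 1, Int.ofNat 0, Int.ofNat 0, Int.ofNat 0, Int.negSucc 1, Int.ofNat 2, Int.negSucc 1, Int.ofNat 0, Int.ofNat 0, Int.ofNat 0, Int.ofNat 0, Int.ofNat 0, Int.ofNat 0, Int.ofNat 0],
  [Int.ofNat 0, Int.ofNat 2, Int.negSucc 1, Int.ofNat 0, Int.ofNat 0, Int.ofNat 0, Int.ofNat 0, Int.negSucc 1, Int.ofNat 0, Int.ofNat 0, Int.ofNat 0, Int.negSucc 1, Int.ofNat 2, Int.negSucc 1, Int.ofNat 0, Int.ofNat 0, Int.ofNat 0, Int.ofNat 0, Int.ofNat 0, Int.ofNat 0, Int.ofNat 0, Int.ofNat 2, Int.ofNat 2, Int.ofNat 0],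
  [Int.ofNat 0, Int.negSucc 1, Int.ofNat 2, Int.ofNat 0, Int.ofNat 0, Int.ofNat 0, Int.ofNat 0, Int.negSucc 1, Int.ofNat 0, Int.ofNat 0, Int.ofNat 0, Int.negSucc 1, Int.ofNat 2, Int.negSucc 1, Int.ofNat 0, Int.ofNat 0, Int.ofNat 0, Int.ofNat 0, Int.ofNat 0, Int.ofNat 0, Int.ofNat 0, Int.ofNat 2, Int.ofNat 2, Int.ofNat 0],
  [Int.ofNat 0, Int.ofNat 0, Int.ofNat 0, Int.ofNat 0, Int.ofNat 0, Int.negSucc 1, Int.ofNat 2, Int.ofNat 0, Int.ofNat 2, Int.negSucc 1, Int.ofNat 0, Int.ofNat 0, Int.ofNat 0, Int.ofNat 0, Int.ofNat 2, Int.ofNat 0, Int.ofNat 0, Int.ofNat 0, Int.negSucc 1, Int.negSucc 1, Int.ofNat 2, Int.ofNat 0, Int.ofNat 0, Int.ofNat 0],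
  [Int.ofNat 0, Int.ofNat 0, Int.ofNat 0, Int.ofNat 0, Int.ofNat 0, Int.negSucc 1, Int.ofNat 2, Int.ofNat 0, Int.ofNat 2, Int.negSucc 1, Int.ofNat 0, Int.ofNat 0, Int.ofNat 0, Int.ofNat 0, Int.ofNat 2, Int.ofNat 0, Int.ofNat 0, Int.ofNat 0, Int.negSucc 1, Int.negSucc 1, Int.ofNat 2, Int.ofNat 0, Int.ofNat 0, Int.ofNat 0],
  [Int.ofNat 0, Int.ofNat 0, Int.ofNat 0, Int.ofNat 0, Int.ofNat 0, Int.ofNat 2, Int.negSucc 1, Int.ofNat 0, Int.ofNat 2, Int.ofNat 2, Int.ofNat 0, Int.ofNat 0, Int.ofNat 0, Int.ofNat 0, Int.ofNat 2, Int.ofNat 0, Int.ofNat 0, Int.ofNat 0, Int.ofNat 2, Int.negSucc 1, Int.ofNat 2, Int.ofNat 0, Int.ofNat 0, Int.ofNat 0],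
  [Int.ofNat 0, Int.ofNat 0, Int.ofNat 0, Int.ofNat 2, Int.ofNat 2, Int.negSucc 1, Int.ofNat 0, Int.ofNat 0, Int.ofNat 2, Int.ofNat 2, Int.ofNat 0, Int.ofNat 0, Int.ofNat 0, Int.ofNat 0, Int.ofNat 0, Int.ofNat 2, Int.negSucc 1, Int.ofNat 0, Int.ofNat 2, Int.ofNat 0, Int.ofNat 0, Int.ofNat 0, Int.ofNat 0, Int.ofNat 0],
  [Int.ofNat 0, Int.ofNat 0, Int.ofNat 0, Int.negSucc 1, Int.negSucc 1, Int.negSucc 1, Int.ofNat 0, Int.ofNat 0, Int.negSucc 1, Int.negSucc 1, Int.ofNat 0, Int.ofNat 0, Int.ofNat 0, Int.ofNat 0, Int.ofNat 0, Int.ofNat 2, Int.ofNat 2, Int.ofNat 0, Int.negSucc 1, Int.ofNat 0, Int.ofNat 0, Int.ofNat 0, Int.ofNat 0, Int.ofNat 0],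
  [Int.ofNat 0, Int.ofNat 0, Int.ofNat 0, Int.ofNat 2, Int.ofNat 0, Int.negSucc 1, Int.ofNat 0, Int.ofNat 0, Int.ofNat 0, Int.negSucc 1, Int.ofNat 2, Int.ofNat 0, Int.ofNat 0, Int.ofNat 0, Int.negSucc 1, Int.negSucc 1, Int.ofNat 0, Int.negSucc 1, Int.ofNat 0, Int.ofNat 0, Int.negSucc 1, Int.ofNat 0, Int.ofNat 0, Int.ofNat 0],
  [Int.ofNat 0, Int.ofNat 0, Int.ofNat 0, Int.ofNat 2, Int.ofNat 0, Int.negSucc 1, Int.ofNat 0, Int.ofNat 0, Int.ofNat 0, Int.ofNat 2, Int.negSucc 1, Int.ofNat 0, Int.ofNat 0, Int.ofNat 0, Int.negSucc 1, Int.negSucc 1, Int.ofNat 0, Int.negSucc 1, Int.ofNat 0, Int.ofNat 0, Int.negSucc 1, Int.ofNat 0, Int.ofNat 0, Int.ofNat 0],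
  [Int.ofNat 0, Int.ofNat 0, Int.ofNat 0, Int.ofNat 0, Int.ofNat 2, Int.ofNat 0, Int.negSucc 1, Int.ofNat 0, Int.ofNat 0, Int.ofNat 0, Int.ofNat 2, Int.negSucc 1, Int.ofNat 0, Int.ofNat 0, Int.ofNat 0, Int.negSucc 1, Int.negSucc 1, Int.ofNat 0, Int.negSucc 1, Int.ofNat 0, Int.ofNat 0, Int.negSucc 1, Int.ofNat 0, Int.ofNat 0],
  [Int.ofNat 0, Int.ofNat 0, Int.ofNat 0, Int.ofNat 0, Int.ofNat 2, Int.ofNat 0, Int.ofNat 0, Int.ofNat 2, Int.ofNat 2, Int.ofNat 0, Int.ofNat 2, Int.ofNat 0, Int.ofNat 2, Int.ofNat 0, Int.ofNat 0, Int.negSucc 1, Int.negSucc 1, Int.ofNat 0, Int.ofNat 0, Int.ofNat 2, Int.ofNat 0, Int.ofNat 0, Int.ofNat 0, Int.ofNat 0],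
  [Int.ofNat 0, Int.ofNat 2, Int.ofNat 0, Int.ofNat 0, Int.ofNat 2, Int.ofNat 2, Int.ofNat 0, Int.ofNat 2, Int.ofNat 0, Int.ofNat 2, Int.ofNat 0, Int.ofNat 0, Int.negSucc 1, Int.negSucc 1, Int.ofNat 0, Int.ofNat 0, Int.ofNat 2, Int.ofNat 0, Int.ofNat 0, Int.ofNat 0, Int.ofNat 0, Int.ofNat 0, Int.ofNat 0, Int.ofNat 0],
  [Int.ofNat 1, Int.negSucc 0, Int.ofNat 1, Int.negSucc 0, Int.ofNat 1, Int.ofNat 1, Int.negSucc 0, Int.ofNat 1, Int.ofNat 1, Int.ofNat 1, Int.negSucc 0, Int.ofNat 1, Int.negSucc 0, Int.negSucc 2, Int.negSucc 0, Int.negSucc 0, Int.ofNat 1, Int.negSucc 0, Int.ofNat 1, Int.negSucc 0, Int.negSucc 0, Int.negSucc 0, Int.negSucc 0, Int.ofNat 1],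
  [Int.ofNat 1, Int.negSucc 0, Int.ofNat 1, Int.negSucc 0, Int.ofNat 1, Int.ofNat 1, Int.ofNat 1, Int.negSucc 0, Int.negSucc 0, Int.negSucc 2, Int.negSucc 0, Int.negSucc 0, Int.ofNat 1, Int.ofNat 1, Int.negSucc 0, Int.negSucc 0, Int.ofNat 1, Int.negSucc 0, Int.negSucc 0, Int.ofNat 1, Int.negSucc 0, Int.ofNat 1, Int.negSucc 0, Int.ofNat 1],
  [Int.ofNat 0, Int.ofNat 2, Int.ofNat 0, Int.ofNat 0, Int.ofNat 0, Int.ofNat 2, Int.ofNat 0, Int.negSucc 1, Int.ofNat 0, Int.ofNat 0, Int.ofNat 2, Int.ofNat 0, Int.ofNat 2, Int.ofNat 0, Int.ofNat 0, Int.ofNat 2, Int.ofNat 0, Int.ofNat 0, Int.ofNat 0, Int.ofNat 0, Int.ofNat 2, Int.ofNat 0, Int.negSucc 1, Int.ofNat 0],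
  [Int.ofNat 0, Int.ofNat 2, Int.ofNat 0, Int.ofNat 0, Int.ofNat 0, Int.negSucc 1, Int.ofNat 0, Int.negSucc 1, Int.ofNat 0, Int.ofNat 0, Int.negSucc 1, Int.ofNat 0, Int.ofNat 2, Int.ofNat 0, Int.ofNat 0, Int.negSucc 1, Int.ofNat 0, Int.ofNat 0, Int.ofNat 0, Int.ofNat 0, Int.ofNat 2, Int.ofNat 0, Int.ofNat 2, Int.ofNat 0],
  [Int.negSucc 1, Int.ofNat 0, Int.negSucc 1, Int.ofNat 2, Int.ofNat 0, Int.negSucc 1, Int.ofNat 0, Int.ofNat 0, Int.ofNat 0, Int.ofNat 0, Int.ofNat 0, Int.ofNat 2, Int.ofNat 2, Int.ofNat 0, Int.ofNat 0, Int.ofNat 0, Int.ofNat 0, Int.ofNat 0, Int.ofNat 0, Int.negSucc 1, Int.ofNat 0, Int.ofNat 2, Int.ofNat 0, Int.ofNat 0],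
  [Int.negSucc 1, Int.ofNat 0, Int.ofNat 2, Int.ofNat 2, Int.ofNat 0, Int.ofNat 2, Int.ofNat 0, Int.ofNat 0, Int.ofNat 0, Int.ofNat 0, Int.ofNat 0, Int.ofNat 2, Int.ofNat 2, Int.ofNat 0, Int.ofNat 0, Int.ofNat 0, Int.ofNat 0, Int.ofNat 0, Int.ofNat 0, Int.negSucc 1, Int.ofNat 0, Int.ofNat 2, Int.ofNat 0, Int.ofNat 0],
  [Int.ofNat 2, Int.ofNat 0, Int.negSucc 1, Int.ofNat 0, Int.ofNat 0, Int.ofNat 0, Int.ofNat 0, Int.ofNat 0, Int.negSucc 1, Int.ofNat 0, Int.ofNat 0, Int.ofNat 0, Int.ofNat 0, Int.ofNat 0, Int.negSucc 1, Int.ofNat 0, Int.ofNat 0, Int.negSucc 1, Int.negSucc 1, Int.negSucc 1, Int.ofNat 0, Int.ofNat 2, Int.ofNat 0, Int.ofNat 0],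
  [Int.ofNat 2, Int.negSucc 1, Int.ofNat 0, Int.ofNat 0, Int.negSucc 1, Int.ofNat 2, Int.ofNat 0, Int.ofNat 0, Int.ofNat 0, Int.ofNat 0, Int.ofNat 0, Int.negSucc 1, Int.negSucc 1, Int.ofNat 0, Int.negSucc 1, Int.ofNat 0, Int.ofNat 0, Int.ofNat 0, Int.ofNat 0, Int.ofNat 0, Int.ofNat 0, Int.ofNat 0, Int.negSucc 1, Int.ofNat 0],
  [Int.negSucc 1, Int.ofNat 2, Int.ofNat 0, Int.ofNat 0, Int.ofNat 0, Int.ofNat 2, Int.ofNat 0, Int.ofNat 0, Int.ofNat 2, Int.ofNat 0, Int.ofNat 0, Int.ofNat 0, Int.ofNat 0, Int.ofNat 2, Int.negSucc 1, Int.ofNat 0, Int.ofNat 2, Int.ofNat 0, Int.ofNat 2, Int.ofNat 0, Int.ofNat 0, Int.ofNat 0, Int.ofNat 0, Int.ofNat 0],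
  [Int.ofNat 0, Int.ofNat 0, Int.ofNat 0, Int.negSucc 1, Int.ofNat 2, Int.ofNat 0, Int.ofNat 0, Int.ofNat 0, Int.ofNat 2, Int.ofNat 0, Int.ofNat 0, Int.ofNat 2, Int.ofNat 0, Int.ofNat 0, Int.ofNat 0, Int.ofNat 0, Int.ofNat 2, Int.negSucc 1, Int.ofNat 0, Int.ofNat 2, Int.ofNat 0, Int.ofNat 2, Int.ofNat 0, Int.ofNat 0],
  [Int.ofNat 0, Int.ofNat 0, Int.ofNat 0, Int.ofNat 0, Int.ofNat 0, Int.ofNat 2, Int.negSucc 1, Int.negSucc 1, Int.ofNat 0, Int.ofNat 0, Int.ofNat 0, Int.ofNat 0, Int.negSucc 1, Int.negSucc 1, Int.ofNat 2, Int.ofNat 0, Int.ofNat 0, Int.ofNat 0, Int.negSucc 1, Int.ofNat 0, Int.ofNat 0, Int.ofNat 0, Int.negSucc 1, Int.ofNat 0],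
  [Int.ofNat 0, Int.ofNat 0, Int.ofNat 0, Int.ofNat 0, Int.ofNat 2, Int.negSucc 1, Int.negSucc 1, Int.ofNat 0, Int.ofNat 0, Int.ofNat 0, Int.ofNat 0, Int.negSucc 1, Int.negSucc 1, Int.ofNat 2, Int.ofNat 0, Int.ofNat 0, Int.ofNat 0, Int.negSucc 1, Int.ofNat 0, Int.ofNat 0, Int.ofNat 0, Int.negSucc 1, Int.ofNat 0, Int.ofNat 0],
  [Int.ofNat 0, Int.ofNat 0, Int.ofNat 0, Int.ofNat 0, Int.ofNat 2, Int.negSucc 1, Int.negSucc 1, Int.ofNat 0, Int.ofNat 0, Int.ofNat 0, Int.ofNat 0, Int.ofNat 2, Int.negSucc 1, Int.ofNat 2, Int.ofNat 0, Int.ofNat 0, Int.ofNat 0, Int.negSucc 1, Int.ofNat 0, Int.ofNat 0, Int.ofNat 0, Int.ofNat 2, Int.ofNat 0, Int.ofNat 0],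
  [Int.ofNat 0, Int.ofNat 0, Int.ofNat 0, Int.ofNat 0, Int.ofNat 0, Int.ofNat 0, Int.ofNat 2, Int.ofNat 0, Int.ofNat 0, Int.ofNat 0, Int.ofNat 2, Int.ofNat 0, Int.ofNat 2, Int.ofNat 0, Int.ofNat 0, Int.ofNat 0, Int.negSucc 1, Int.ofNat 0, Int.negSucc 1, Int.negSucc 1, Int.negSucc 1, Int.ofNat 0, Int.ofNat 2, Int.ofNat 0],
  [Int.ofNat 0, Int.ofNat 0, Int.ofNat 0, Int.ofNat 0, Int.ofNat 0, Int.ofNat 0, Int.ofNat 2, Int.ofNat 0, Int.ofNat 0, Int.ofNat 0, Int.negSucc 1, Int.ofNat 0, Int.ofNat 2, Int.ofNat 0, Int.ofNat 0, Int.ofNat 0, Int.negSucc 1, Int.ofNat 0, Int.ofNat 2, Int.negSucc 1, Int.negSucc 1, Int.ofNat 0, Int.ofNat 2, Int.ofNat 0],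
  [Int.ofNat 2, Int.ofNat 0, Int.ofNat 0, Int.ofNat 0, Int.ofNat 0, Int.ofNat 0, Int.ofNat 0, Int.ofNat 2, Int.ofNat 0, Int.ofNat 0, Int.ofNat 0, Int.negSucc 1, Int.ofNat 0, Int.ofNat 2, Int.ofNat 0, Int.ofNat 0, Int.ofNat 0, Int.negSucc 1, Int.ofNat 0, Int.ofNat 2, Int.negSucc 1, Int.negSucc 1, Int.ofNat 0, Int.ofNat 0],
  [Int.negSucc 0, Int.ofNat 1, Int.ofNat 1, Int.ofNat 1, Int.negSucc 0, Int.ofNat 1, Int.negSucc 0, Int.ofNat 1, Int.ofNat 1, Int.ofNat 1, Int.ofNat 1, Int.negSucc 0, Int.ofNat 1, Int.ofNat 1, Int.ofNat 1, Int.ofNat 1, Int.negSucc 0, Int.negSucc 0, Int.ofNat 1, Int.ofNat 1, Int.negSucc 0, Int.negSucc 2, Int.negSucc 0, Int.ofNat 1],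
  [Int.ofNat 1, Int.negSucc 0, Int.ofNat 1, Int.negSucc 0, Int.ofNat 1, Int.ofNat 1, Int.ofNat 1, Int.ofNat 1, Int.negSucc 0, Int.ofNat 1, Int.ofNat 1, Int.ofNat 1, Int.ofNat 1, Int.negSucc 0, Int.negSucc 0, Int.ofNat 1, Int.ofNat 1, Int.negSucc 0, Int.negSucc 2, Int.negSucc 0, Int.negSucc 0, Int.ofNat 1, Int.ofNat 1, Int.ofNat 1],
  [Int.ofNat 0, Int.ofNat 2, Int.ofNat 0, Int.ofNat 0, Int.ofNat 0, Int.ofNat 2, Int.ofNat 0, Int.ofNat 0, Int.ofNat 0, Int.ofNat 0, Int.ofNat 0, Int.ofNat 2, Int.ofNat 2, Int.negSucc 1, Int.ofNat 0, Int.ofNat 0, Int.ofNat 0, Int.ofNat 0, Int.negSucc 1, Int.negSucc 1, Int.negSucc 1, Int.ofNat 0, Int.ofNat 0, Int.ofNat 0],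
  [Int.ofNat 0, Int.ofNat 0, Int.ofNat 0, Int.ofNat 0, Int.negSucc 1, Int.ofNat 0, Int.ofNat 0, Int.ofNat 0, Int.ofNat 2, Int.negSucc 1, Int.negSucc 1, Int.ofNat 0, Int.ofNat 0, Int.ofNat 0, Int.ofNat 0, Int.ofNat 0, Int.ofNat 0, Int.ofNat 0, Int.ofNat 2, Int.ofNat 2, Int.ofNat 0, Int.ofNat 2, Int.negSucc 1, Int.ofNat 0],
  [Int.ofNat 0, Int.ofNat 0, Int.ofNat 0, Int.ofNat 0, Int.ofNat 0, Int.ofNat 0, Int.negSucc 1, Int.negSucc 1, Int.ofNat 0, Int.ofNat 0, Int.ofNat 0, Int.negSucc 1, Int.negSucc 1, Int.ofNat 2, Int.ofNat 0, Int.ofNat 2, Int.ofNat 2, Int.ofNat 0, Int.ofNat 0, Int.ofNat 0, Int.ofNat 2, Int.ofNat 0, Int.ofNat 0, Int.ofNat 0],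
  [Int.ofNat 0, Int.ofNat 0, Int.ofNat 0, Int.ofNat 0, Int.ofNat 0, Int.ofNat 0, Int.ofNat 2, Int.negSucc 1, Int.ofNat 0, Int.ofNat 0, Int.ofNat 0, Int.negSucc 1, Int.negSucc 1, Int.ofNat 2, Int.ofNat 0, Int.negSucc 1, Int.ofNat 2, Int.ofNat 0, Int.ofNat 0, Int.ofNat 0, Int.ofNat 2, Int.ofNat 0, Int.ofNat 0, Int.ofNat 0],
  [Int.ofNat 0, Int.ofNat 2, Int.negSucc 1, Int.ofNat 0, Int.ofNat 0, Int.ofNat 2, Int.ofNat 0, Int.ofNat 0, Int.ofNat 0, Int.ofNat 2, Int.ofNat 2, Int.negSucc 1, Int.negSucc 1, Int.ofNat 0, Int.ofNat 0, Int.ofNat 0, Int.ofNat 0, Int.negSucc 1, Int.ofNat 0, Int.ofNat 0, Int.ofNat 0, Int.ofNat 0, Int.ofNat 0, Int.ofNat 0],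
  [Int.ofNat 0, Int.negSucc 1, Int.ofNat 2, Int.ofNat 0, Int.ofNat 0, Int.ofNat 2, Int.ofNat 0, Int.ofNat 0, Int.ofNat 0, Int.negSucc 1, Int.ofNat 2, Int.negSucc 1, Int.ofNat 2, Int.ofNat 0, Int.ofNat 0, Int.ofNat 0, Int.ofNat 0, Int.negSucc 1, Int.ofNat 0, Int.ofNat 0, Int.ofNat 0, Int.ofNat 0, Int.ofNat 0, Int.ofNat 0],
  [Int.ofNat 0, Int.ofNat 0, Int.negSucc 1, Int.ofNat 0, Int.negSucc 1, Int.negSucc 1, Int.ofNat 0, Int.ofNat 0, Int.ofNat 0, Int.ofNat 2, Int.ofNat 0, Int.ofNat 2, Int.ofNat 0, Int.ofNat 0, Int.ofNat 0, Int.ofNat 0, Int.ofNat 2, Int.ofNat 0, Int.ofNat 0, Int.ofNat 0, Int.ofNat 0, Int.ofNat 2, Int.negSucc 1, Int.ofNat 0],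
  [Int.ofNat 0, Int.ofNat 0, Int.ofNat 2, Int.ofNat 0, Int.negSucc 1, Int.negSucc 1, Int.ofNat 0, Int.ofNat 0, Int.ofNat 0, Int.negSucc 1, Int.ofNat 0, Int.negSucc 1, Int.ofNat 0, Int.ofNat 0, Int.ofNat 0, Int.ofNat 0, Int.ofNat 2, Int.ofNat 0, Int.ofNat 0, Int.ofNat 0, Int.ofNat 0, Int.negSucc 1, Int.negSucc 1, Int.ofNat 0],
  [Int.negSucc 1, Int.ofNat 0, Int.ofNat 0, Int.ofNat 2, Int.ofNat 0, Int.negSucc 1, Int.negSucc 1, Int.ofNat 0, Int.ofNat 0, Int.ofNat 0, Int.negSucc 1, Int.ofNat 0, Int.negSucc 1, Int.ofNat 0, Int.ofNat 0, Int.ofNat 0, Int.ofNat 0, Int.ofNat 2, Int.ofNat 0, Int.ofNat 0, Int.ofNat 0, Int.ofNat 0, Int.negSucc 1, Int.ofNat 0],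
  [Int.ofNat 1, Int.negSucc 0, Int.negSucc 0, Int.ofNat 1, Int.ofNat 1, Int.negSucc 2, Int.negSucc 0, Int.ofNat 1, Int.ofNat 1, Int.ofNat 1, Int.negSucc 0, Int.ofNat 1, Int.negSucc 0, Int.ofNat 1, Int.negSucc 0, Int.ofNat 1, Int.ofNat 1, Int.ofNat 1, Int.ofNat 1, Int.ofNat 1, Int.ofNat 1, Int.ofNat 1, Int.negSucc 0, Int.negSucc 0],
  [Int.ofNat 1, Int.ofNat 1, Int.negSucc 2, Int.negSucc 0, Int.ofNat 1, Int.ofNat 1, Int.ofNat 1, Int.negSucc 0, Int.ofNat 1, Int.negSucc 0, Int.ofNat 1, Int.negSucc 0, Int.ofNat 1, Int.ofNat 1, Int.ofNat 1, Int.ofNat 1, Int.ofNat 1, Int.ofNat 1, Int.ofNat 1, Int.negSucc 0, Int.ofNat 1, Int.negSucc 0, Int.negSucc 0, Int.negSucc 0],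
  [Int.negSucc 1, Int.negSucc 1, Int.ofNat 2, Int.negSucc 1, Int.ofNat 0, Int.ofNat 0, Int.ofNat 2, Int.ofNat 0, Int.ofNat 0, Int.negSucc 1, Int.ofNat 0, Int.negSucc 1, Int.ofNat 0, Int.ofNat 0, Int.ofNat 0, Int.ofNat 0, Int.ofNat 0, Int.ofNat 0, Int.ofNat 0, Int.ofNat 0, Int.ofNat 0, Int.ofNat 0, Int.negSucc 1, Int.ofNat 0],
  [Int.negSucc 1, Int.ofNat 2, Int.ofNat 0, Int.negSucc 1, Int.ofNat 0, Int.ofNat 0, Int.ofNat 2, Int.ofNat 0, Int.ofNat 0, Int.ofNat 0, Int.ofNat 0, Int.ofNat 0, Int.negSucc 1, Int.ofNat 0, Int.negSucc 1, Int.ofNat 0, Int.ofNat 0, Int.ofNat 0, Int.negSucc 1, Int.negSucc 1, Int.ofNat 0, Int.ofNat 0, Int.ofNat 0, Int.ofNat 0],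
  [Int.ofNat 2, Int.negSucc 1, Int.ofNat 0, Int.ofNat 0, Int.ofNat 0, Int.ofNat 2, Int.ofNat 2, Int.ofNat 0, Int.ofNat 2, Int.ofNat 0, Int.ofNat 0, Int.ofNat 2, Int.ofNat 0, Int.ofNat 0, Int.ofNat 0, Int.ofNat 0, Int.ofNat 0, Int.ofNat 2, Int.ofNat 0, Int.negSucc 1, Int.ofNat 0, Int.ofNat 0, Int.ofNat 0, Int.ofNat 0],
  [Int.ofNat 2, Int.negSucc 1, Int.ofNat 0, Int.ofNat 0, Int.ofNat 0, Int.negSucc 1, Int.negSucc 1, Int.ofNat 0, Int.ofNat 2, Int.ofNat 0, Int.ofNat 0, Int.ofNat 2, Int.ofNat 0, Int.ofNat 0, Int.ofNat 0, Int.ofNat 0, Int.ofNat 0, Int.ofNat 2, Int.ofNat 0, Int.negSucc 1, Int.ofNat 0, Int.ofNat 0, Int.ofNat 0, Int.ofNat 0],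
  [Int.ofNat 0, Int.ofNat 0, Int.ofNat 0, Int.ofNat 0, Int.negSucc 1, Int.ofNat 0, Int.ofNat 2, Int.ofNat 2, Int.ofNat 0, Int.ofNat 0, Int.ofNat 0, Int.ofNat 0, Int.ofNat 0, Int.ofNat 2, Int.ofNat 0, Int.ofNat 0, Int.negSucc 1, Int.ofNat 0, Int.ofNat 0, Int.negSucc 1, Int.ofNat 0, Int.negSucc 1, Int.ofNat 2, Int.ofNat 0],
  [Int.ofNat 0, Int.ofNat 0, Int.ofNat 0, Int.ofNat 0, Int.negSucc 1, Int.ofNat 0, Int.negSucc 1, Int.ofNat 2, Int.ofNat 0, Int.ofNat 0, Int.ofNat 0, Int.ofNat 0, Int.ofNat 0, Int.ofNat 2, Int.ofNat 0, Int.ofNat 0, Int.negSucc 1, Int.ofNat 0, Int.ofNat 0, Int.negSucc 1, Int.ofNat 0, Int.negSucc 1, Int.negSucc 1, Int.ofNat 0],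
  [Int.ofNat 0, Int.ofNat 0, Int.ofNat 0, Int.ofNat 0, Int.ofNat 0, Int.ofNat 0, Int.ofNat 0, Int.ofNat 4, Int.ofNat 0, Int.ofNat 0, Int.ofNat 0, Int.ofNat 0, Int.ofNat 0, Int.ofNat 4, Int.ofNat 0, Int.ofNat 0, Int.ofNat 0, Int.ofNat 0, Int.ofNat 0, Int.ofNat 0, Int.ofNat 0, Int.ofNat 0, Int.ofNat 0, Int.ofNat 0],
  [Int.ofNat 0, Int.ofNat 0, Int.ofNat 0, Int.ofNat 0, Int.ofNat 0, Int.ofNat 0, Int.ofNat 0, Int.ofNat 0, Int.ofNat 0, Int.ofNat 0, Int.ofNat 4, Int.ofNat 0, Int.ofNat 0, Int.ofNat 0, Int.ofNat 0, Int.ofNat 0, Int.ofNat 4, Int.ofNat 0, Int.ofNat 0, Int.ofNat 0, Int.ofNat 0, Int.ofNat 0, Int.ofNat 0, Int.ofNat 0],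
  [Int.ofNat 0, Int.ofNat 0, Int.ofNat 0, Int.ofNat 0, Int.negSucc 1, Int.ofNat 0, Int.ofNat 0, Int.ofNat 0, Int.ofNat 0, Int.negSucc 1, Int.ofNat 2, Int.ofNat 0, Int.ofNat 0, Int.negSucc 1, Int.ofNat 0, Int.negSucc 1, Int.ofNat 2, Int.ofNat 0, Int.ofNat 0, Int.ofNat 0, Int.negSucc 1, Int.ofNat 0, Int.negSucc 1, Int.ofNat 0],
  [Int.negSucc 1, Int.ofNat 0, Int.negSucc 1, Int.ofNat 0, Int.ofNat 0, Int.ofNat 0, Int.ofNat 0, Int.negSucc 1, Int.ofNat 0, Int.ofNat 0, Int.ofNat 0, Int.ofNat 0, Int.negSucc 1, Int.ofNat 2, Int.ofNat 0, Int.ofNat 0, Int.negSucc 1, Int.ofNat 0, Int.negSucc 1, Int.ofNat 2, Int.ofNat 0, Int.ofNat 0, Int.ofNat 0, Int.ofNat 0],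
  [Int.ofNat 0, Int.negSucc 1, Int.ofNat 0, Int.ofNat 0, Int.ofNat 0, Int.ofNat 0, Int.ofNat 0, Int.negSucc 1, Int.ofNat 2, Int.ofNat 0, Int.ofNat 0, Int.ofNat 2, Int.ofNat 0, Int.ofNat 2, Int.ofNat 0, Int.ofNat 0, Int.negSucc 1, Int.ofNat 0, Int.ofNat 0, Int.ofNat 2, Int.ofNat 0, Int.ofNat 0, Int.ofNat 0, Int.negSucc 1],
  [Int.negSucc 1, Int.ofNat 0, Int.ofNat 0, Int.ofNat 0, Int.ofNat 0, Int.ofNat 0, Int.negSucc 1, Int.ofNat 2, Int.ofNat 0, Int.ofNat 0, Int.ofNat 2, Int.ofNat 0, Int.ofNat 2, Int.ofNat 0, Int.ofNat 0, Int.negSucc 1, Int.ofNat 0, Int.ofNat 0, Int.ofNat 2, Int.ofNat 0, Int.ofNat 0, Int.ofNat 0, Int.ofNat 0, Int.negSucc 1],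
  [Int.ofNat 2, Int.ofNat 0, Int.ofNat 0, Int.ofNat 0, Int.ofNat 0, Int.ofNat 0, Int.negSucc 1, Int.negSucc 1, Int.ofNat 0, Int.ofNat 0, Int.negSucc 1, Int.ofNat 0, Int.ofNat 2, Int.ofNat 0, Int.ofNat 0, Int.negSucc 1, Int.ofNat 0, Int.ofNat 0, Int.negSucc 1, Int.ofNat 0, Int.ofNat 0, Int.ofNat 0, Int.ofNat 0, Int.negSucc 1],
  [Int.ofNat 2, Int.ofNat 0, Int.negSucc 1, Int.ofNat 0, Int.ofNat 0, Int.negSucc 1, Int.ofNat 0, Int.ofNat 0, Int.ofNat 0, Int.ofNat 0, Int.ofNat 0, Int.ofNat 0, Int.ofNat 0, Int.ofNat 0, Int.ofNat 0, Int.negSucc 1, Int.ofNat 2, Int.ofNat 0, Int.negSucc 1, Int.ofNat 0, Int.ofNat 0, Int.negSucc 1, Int.ofNat 0, Int.negSucc 1],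
  [Int.negSucc 1, Int.ofNat 0, Int.ofNat 2, Int.ofNat 0, Int.ofNat 0, Int.negSucc 1, Int.ofNat 0, Int.ofNat 0, Int.ofNat 0, Int.ofNat 0, Int.ofNat 0, Int.ofNat 0, Int.ofNat 0, Int.ofNat 0, Int.ofNat 0, Int.negSucc 1, Int.ofNat 2, Int.ofNat 0, Int.ofNat 2, Int.ofNat 0, Int.ofNat 0, Int.ofNat 2, Int.ofNat 0, Int.negSucc 1],
  [Int.ofNat 0, Int.negSucc 1, Int.ofNat 0, Int.ofNat 2, Int.ofNat 0, Int.ofNat 0, Int.negSucc 1, Int.ofNat 0, Int.ofNat 0, Int.ofNat 0, Int.ofNat 0, Int.ofNat 0, Int.ofNat 0, Int.ofNat 0, Int.ofNat 0, Int.ofNat 0, Int.negSucc 1, Int.ofNat 2, Int.ofNat 0, Int.ofNat 2, Int.ofNat 0, Int.ofNat 0, Int.ofNat 2, Int.negSucc 1],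
  [Int.negSucc 1, Int.ofNat 0, Int.negSucc 1, Int.ofNat 0, Int.ofNat 0, Int.negSucc 1, Int.negSucc 1, Int.ofNat 0, Int.ofNat 0, Int.ofNat 0, Int.ofNat 0, Int.ofNat 0, Int.ofNat 0, Int.ofNat 0, Int.negSucc 1, Int.ofNat 0, Int.negSucc 1, Int.ofNat 0, Int.ofNat 0, Int.ofNat 2, Int.ofNat 0, Int.ofNat 0, Int.ofNat 2, Int.ofNat 0],
  [Int.ofNat 0, Int.ofNat 0, Int.negSucc 1, Int.negSucc 1, Int.ofNat 0, Int.ofNat 0, Int.ofNat 0, Int.ofNat 0, Int.ofNat 0, Int.ofNat 0, Int.ofNat 0, Int.negSucc 1, Int.ofNat 0, Int.negSucc 1, Int.ofNat 0, Int.ofNat 0, Int.ofNat 2, Int.ofNat 0, Int.ofNat 0, Int.ofNat 2, Int.negSucc 1, Int.ofNat 0, Int.negSucc 1, Int.ofNat 0],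
  [Int.negSucc 0, Int.negSucc 0, Int.ofNat 1, Int.negSucc 0, Int.ofNat 1, Int.ofNat 1, Int.negSucc 0, Int.negSucc 0, Int.ofNat 1, Int.ofNat 1, Int.ofNat 1, Int.negSucc 0, Int.ofNat 1, Int.negSucc 0, Int.ofNat 1, Int.ofNat 1, Int.ofNat 3, Int.ofNat 1, Int.ofNat 1, Int.ofNat 1, Int.negSucc 0, Int.negSucc 0, Int.negSucc 0, Int.negSucc 0],
  [Int.negSucc 0, Int.negSucc 0, Int.ofNat 1, Int.negSucc 0, Int.ofNat 1, Int.negSucc 0, Int.ofNat 1, Int.ofNat 1, Int.ofNat 1, Int.negSucc 0, Int.negSucc 0, Int.ofNat 1, Int.ofNat 1, Int.ofNat 3, Int.negSucc 0, Int.ofNat 1, Int.ofNat 1, Int.ofNat 1, Int.negSucc 0, Int.negSucc 0, Int.negSucc 0, Int.ofNat 1, Int.ofNat 1, Int.negSucc 0],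
  [Int.ofNat 0, Int.ofNat 0, Int.negSucc 1, Int.ofNat 0, Int.negSucc 1, Int.ofNat 0, Int.ofNat 0, Int.ofNat 0, Int.ofNat 0, Int.ofNat 0, Int.ofNat 0, Int.ofNat 0, Int.ofNat 0, Int.ofNat 0, Int.ofNat 0, Int.ofNat 2, Int.negSucc 1, Int.ofNat 2, Int.negSucc 1, Int.negSucc 1, Int.ofNat 0, Int.ofNat 0, Int.negSucc 1, Int.ofNat 0],
  [Int.ofNat 0, Int.ofNat 0, Int.ofNat 2, Int.ofNat 0, Int.negSucc 1, Int.ofNat 0, Int.ofNat 0, Int.ofNat 0, Int.ofNat 0, Int.ofNat 0, Int.ofNat 0, Int.ofNat 0, Int.ofNat 0, Int.ofNat 0, Int.ofNat 0, Int.negSucc 1, Int.negSucc 1, Int.ofNat 2, Int.ofNat 2, Int.negSucc 1, Int.ofNat 0, Int.ofNat 0, Int.ofNat 2, Int.ofNat 0],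
  [Int.ofNat 0, Int.negSucc 1, Int.ofNat 0, Int.ofNat 0, Int.ofNat 0, Int.ofNat 0, Int.ofNat 0, Int.ofNat 0, Int.ofNat 0, Int.ofNat 0, Int.ofNat 0, Int.ofNat 0, Int.negSucc 1, Int.negSucc 1, Int.ofNat 2, Int.ofNat 2, Int.negSucc 1, Int.ofNat 0, Int.ofNat 0, Int.ofNat 2, Int.ofNat 0, Int.ofNat 0, Int.ofNat 2, Int.ofNat 0],
  [Int.ofNat 0, Int.ofNat 2, Int.ofNat 0, Int.ofNat 0, Int.ofNat 0, Int.ofNat 0, Int.ofNat 0, Int.ofNat 0, Int.ofNat 0, Int.ofNat 0, Int.ofNat 0, Int.ofNat 0, Int.ofNat 2, Int.ofNat 2, Int.ofNat 2, Int.ofNat 2, Int.ofNat 2, Int.ofNat 0, Int.ofNat 0, Int.ofNat 2, Int.ofNat 0, Int.ofNat 0, Int.ofNat 2, Int.ofNat 0],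
  [Int.ofNat 0, Int.ofNat 2, Int.ofNat 0, Int.ofNat 2, Int.ofNat 0, Int.ofNat 0, Int.ofNat 2, Int.ofNat 2, Int.ofNat 0, Int.ofNat 0, Int.ofNat 2, Int.ofNat 0, Int.ofNat 0, Int.ofNat 0, Int.ofNat 0, Int.ofNat 0, Int.ofNat 0, Int.ofNat 0, Int.ofNat 2, Int.ofNat 0, Int.ofNat 0, Int.ofNat 2, Int.ofNat 2, Int.ofNat 0],
  [Int.ofNat 0, Int.ofNat 2, Int.ofNat 0, Int.ofNat 2, Int.ofNat 0, Int.ofNat 0, Int.ofNat 2, Int.negSucc 1, Int.ofNat 0, Int.ofNat 0, Int.negSucc 1, Int.ofNat 0, Int.ofNat 0, Int.ofNat 0, Int.ofNat 0, Int.ofNat 0, Int.ofNat 0, Int.ofNat 0, Int.negSucc 1, Int.ofNat 0, Int.ofNat 0, Int.negSucc 1, Int.ofNat 2, Int.ofNat 0],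
  [Int.ofNat 2, Int.ofNat 0, Int.ofNat 2, Int.ofNat 0, Int.ofNat 2, Int.ofNat 0, Int.ofNat 0, Int.ofNat 2, Int.negSucc 1, Int.ofNat 0, Int.ofNat 0, Int.negSucc 1, Int.ofNat 0, Int.ofNat 0, Int.ofNat 0, Int.ofNat 0, Int.ofNat 0, Int.ofNat 0, Int.ofNat 0, Int.negSucc 1, Int.ofNat 0, Int.ofNat 0, Int.negSucc 1, Int.ofNat 0],
  [Int.ofNat 0, Int.ofNat 2, Int.ofNat 0, Int.ofNat 0, Int.ofNat 2, Int.ofNat 0, Int.ofNat 0, Int.ofNat 2, Int.ofNat 0, Int.ofNat 0, Int.ofNat 0, Int.ofNat 0, Int.ofNat 2, Int.ofNat 0, Int.ofNat 0, Int.ofNat 0, Int.ofNat 0, Int.ofNat 0, Int.ofNat 2, Int.negSucc 1, Int.ofNat 0, Int.ofNat 0, Int.negSucc 1, Int.ofNat 2],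
  [Int.ofNat 0, Int.ofNat 2, Int.ofNat 0, Int.ofNat 0, Int.ofNat 2, Int.ofNat 0, Int.ofNat 0, Int.ofNat 0, Int.ofNat 0, Int.ofNat 2, Int.ofNat 0, Int.ofNat 0, Int.ofNat 0, Int.ofNat 0, Int.ofNat 0, Int.ofNat 2, Int.negSucc 1, Int.ofNat 0, Int.ofNat 0, Int.negSucc 1, Int.ofNat 0, Int.ofNat 2, Int.ofNat 0, Int.ofNat 2],
  [Int.ofNat 2, Int.ofNat 0, Int.ofNat 2, Int.ofNat 0, Int.ofNat 2, Int.ofNat 0, Int.ofNat 0, Int.ofNat 0, Int.ofNat 0, Int.ofNat 0, Int.negSucc 1, Int.ofNat 0, Int.ofNat 0, Int.ofNat 0, Int.ofNat 0, Int.ofNat 0, Int.negSucc 1, Int.ofNat 0, Int.ofNat 0, Int.negSucc 1, Int.negSucc 1, Int.ofNat 2, Int.ofNat 0, Int.ofNat 0],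
  [Int.ofNat 2, Int.ofNat 0, Int.ofNat 2, Int.ofNat 0, Int.ofNat 0, Int.ofNat 0, Int.ofNat 2, Int.negSucc 1, Int.ofNat 0, Int.ofNat 0, Int.negSucc 1, Int.ofNat 0, Int.ofNat 0, Int.negSucc 1, Int.ofNat 0, Int.ofNat 0, Int.ofNat 0, Int.ofNat 0, Int.ofNat 0, Int.ofNat 0, Int.ofNat 2, Int.ofNat 0, Int.negSucc 1, Int.ofNat 0],
  [Int.ofNat 0, Int.ofNat 2, Int.ofNat 0, Int.ofNat 0, Int.ofNat 2, Int.ofNat 0, Int.ofNat 2, Int.negSucc 1, Int.ofNat 0, Int.ofNat 0, Int.negSucc 1, Int.ofNat 0, Int.ofNat 0, Int.ofNat 0, Int.ofNat 0, Int.ofNat 0, Int.ofNat 2, Int.ofNat 0, Int.ofNat 0, Int.ofNat 0, Int.ofNat 2, Int.ofNat 0, Int.ofNat 0, Int.ofNat 2],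
  [Int.ofNat 0, Int.ofNat 2, Int.ofNat 0, Int.ofNat 0, Int.ofNat 2, Int.ofNat 0, Int.negSucc 1, Int.negSucc 1, Int.ofNat 0, Int.ofNat 0, Int.ofNat 2, Int.ofNat 0, Int.ofNat 0, Int.ofNat 0, Int.ofNat 0, Int.ofNat 0, Int.ofNat 2, Int.ofNat 0, Int.ofNat 0, Int.ofNat 0, Int.ofNat 2, Int.ofNat 0, Int.ofNat 0, Int.ofNat 2],
  [Int.ofNat 0, Int.ofNat 2, Int.negSucc 1, Int.ofNat 0, Int.negSucc 1, Int.ofNat 2, Int.ofNat 0, Int.ofNat 0, Int.ofNat 0, Int.ofNat 0, Int.ofNat 0, Int.ofNat 0, Int.ofNat 2, Int.ofNat 0, Int.ofNat 0, Int.ofNat 0, Int.ofNat 0, Int.ofNat 0, Int.ofNat 0, Int.ofNat 0, Int.ofNat 2, Int.ofNat 2, Int.ofNat 0, Int.ofNat 2],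
  [Int.ofNat 0, Int.ofNat 2, Int.ofNat 2, Int.ofNat 0, Int.negSucc 1, Int.negSucc 1, Int.ofNat 0, Int.ofNat 0, Int.ofNat 0, Int.ofNat 0, Int.ofNat 0, Int.ofNat 0, Int.ofNat 2, Int.ofNat 0, Int.ofNat 0, Int.ofNat 0, Int.ofNat 0, Int.ofNat 0, Int.ofNat 0, Int.ofNat 0, Int.ofNat 2, Int.ofNat 2, Int.ofNat 0, Int.ofNat 2],
  [Int.ofNat 3, Int.ofNat 1, Int.ofNat 1, Int.ofNat 1, Int.negSucc 0, Int.negSucc 0, Int.negSucc 0, Int.negSucc 0, Int.negSucc 0, Int.negSucc 0, Int.negSucc 0, Int.negSucc 0, Int.ofNat 1, Int.ofNat 1, Int.ofNat 1, Int.negSucc 0, Int.ofNat 1, Int.ofNat 1, Int.negSucc 0, Int.negSucc 0, Int.ofNat 1, Int.ofNat 1, Int.ofNat 1, Int.ofNat 1],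
  [Int.ofNat 3, Int.negSucc 0, Int.negSucc 0, Int.ofNat 1, Int.ofNat 1, Int.ofNat 1, Int.ofNat 1, Int.negSucc 0, Int.ofNat 1, Int.ofNat 1, Int.negSucc 0, Int.negSucc 0, Int.negSucc 0, Int.negSucc 0, Int.ofNat 1, Int.negSucc 0, Int.ofNat 1, Int.negSucc 0, Int.negSucc 0, Int.ofNat 1, Int.negSucc 0, Int.ofNat 1, Int.ofNat 1, Int.ofNat 1],
  [Int.negSucc 1, Int.ofNat 2, Int.ofNat 2, Int.ofNat 0, Int.ofNat 0, Int.ofNat 0, Int.ofNat 0, Int.negSucc 1, Int.ofNat 2, Int.ofNat 2, Int.ofNat 0, Int.ofNat 0, Int.ofNat 0, Int.negSucc 1, Int.ofNat 0, Int.ofNat 0, Int.ofNat 0, Int.negSucc 1, Int.ofNat 0, Int.ofNat 0, Int.ofNat 0, Int.ofNat 0, Int.ofNat 0, Int.ofNat 0],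
  [Int.ofNat 0, Int.ofNat 0, Int.ofNat 0, Int.negSucc 1, Int.ofNat 2, Int.ofNat 2, Int.ofNat 0, Int.ofNat 0, Int.ofNat 0, Int.ofNat 0, Int.negSucc 1, Int.ofNat 2, Int.ofNat 2, Int.ofNat 0, Int.ofNat 0, Int.ofNat 0, Int.negSucc 1, Int.ofNat 0, Int.ofNat 0, Int.ofNat 0, Int.negSucc 1, Int.ofNat 0, Int.ofNat 0, Int.ofNat 0],
  [Int.ofNat 0, Int.ofNat 0, Int.ofNat 0, Int.negSucc 1, Int.ofNat 2, Int.ofNat 2, Int.ofNat 0, Int.ofNat 0, Int.negSucc 1, Int.ofNat 2, Int.ofNat 0, Int.ofNat 0, Int.ofNat 0, Int.ofNat 0, Int.ofNat 0, Int.ofNat 2, Int.negSucc 1, Int.ofNat 0, Int.negSucc 1, Int.ofNat 0, Int.ofNat 0, Int.ofNat 0, Int.ofNat 0, Int.ofNat 0],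
  [Int.ofNat 0, Int.ofNat 0, Int.negSucc 1, Int.ofNat 2, Int.ofNat 2, Int.ofNat 0, Int.ofNat 0, Int.negSucc 1, Int.ofNat 2, Int.ofNat 0, Int.ofNat 0, Int.ofNat 0, Int.ofNat 0, Int.ofNat 0, Int.ofNat 2, Int.negSucc 1, Int.ofNat 0, Int.negSucc 1, Int.ofNat 0, Int.ofNat 0, Int.ofNat 0, Int.ofNat 0, Int.ofNat 0, Int.ofNat 0],
  [Int.ofNat 0, Int.ofNat 0, Int.ofNat 2, Int.ofNat 2, Int.ofNat 2, Int.ofNat 0, Int.ofNat 0, Int.ofNat 2, Int.ofNat 2, Int.ofNat 0, Int.ofNat 0, Int.ofNat 0, Int.ofNat 0, Int.ofNat 0, Int.ofNat 2, Int.negSucc 1, Int.ofNat 0, Int.negSucc 1, Int.ofNat 0, Int.ofNat 0, Int.ofNat 0, Int.ofNat 0, Int.ofNat 0, Int.ofNat 0],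
  [Int.ofNat 0, Int.ofNat 2, Int.ofNat 0, Int.ofNat 2, Int.ofNat 0, Int.ofNat 0, Int.ofNat 2, Int.ofNat 0, Int.ofNat 0, Int.ofNat 0, Int.ofNat 0, Int.ofNat 2, Int.ofNat 0, Int.ofNat 2, Int.ofNat 0, Int.negSucc 1, Int.ofNat 0, Int.ofNat 0, Int.ofNat 0, Int.negSucc 1, Int.ofNat 0, Int.ofNat 2, Int.ofNat 0, Int.ofNat 0],
  [Int.ofNat 0, Int.ofNat 2, Int.ofNat 0, Int.ofNat 2, Int.ofNat 0, Int.ofNat 0, Int.ofNat 2, Int.ofNat 0, Int.ofNat 0, Int.ofNat 0, Int.ofNat 0, Int.negSucc 1, Int.ofNat 0, Int.ofNat 2, Int.ofNat 0, Int.negSucc 1, Int.ofNat 0, Int.ofNat 0, Int.ofNat 0, Int.negSucc 1, Int.ofNat 0, Int.negSucc 1, Int.ofNat 0, Int.ofNat 0],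
  [Int.ofNat 0, Int.ofNat 0, Int.ofNat 2, Int.ofNat 0, Int.ofNat 2, Int.ofNat 0, Int.ofNat 0, Int.ofNat 2, Int.ofNat 0, Int.ofNat 0, Int.ofNat 0, Int.ofNat 0, Int.negSucc 1, Int.ofNat 0, Int.ofNat 2, Int.ofNat 0, Int.negSucc 1, Int.ofNat 0, Int.ofNat 0, Int.ofNat 0, Int.negSucc 1, Int.ofNat 0, Int.negSucc 1, Int.ofNat 0],
  [Int.ofNat 1, Int.ofNat 1, Int.negSucc 0, Int.negSucc 0, Int.ofNat 3, Int.negSucc 0, Int.negSucc 0, Int.ofNat 1, Int.ofNat 1, Int.ofNat 1, Int.ofNat 1, Int.ofNat 1, Int.negSucc 0, Int.ofNat 1, Int.ofNat 1, Int.ofNat 1, Int.negSucc 0, Int.negSucc 0, Int.ofNat 1, Int.negSucc 0, Int.negSucc 0, Int.negSucc 0, Int.negSucc 0, Int.ofNat 1],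
  [Int.negSucc 0, Int.ofNat 3, Int.negSucc 0, Int.negSucc 0, Int.ofNat 1, Int.ofNat 1, Int.ofNat 1, Int.ofNat 1, Int.ofNat 1, Int.negSucc 0, Int.ofNat 1, Int.ofNat 1, Int.ofNat 1, Int.negSucc 0, Int.negSucc 0, Int.ofNat 1, Int.negSucc 0, Int.negSucc 0, Int.negSucc 0, Int.negSucc 0, Int.ofNat 1, Int.ofNat 1, Int.negSucc 0, Int.ofNat 1],
  [Int.ofNat 2, Int.negSucc 1, Int.ofNat 2, Int.ofNat 0, Int.ofNat 2, Int.ofNat 2, Int.ofNat 0, Int.ofNat 0, Int.ofNat 0, Int.negSucc 1, Int.ofNat 0, Int.ofNat 0, Int.ofNat 0, Int.ofNat 0, Int.ofNat 0, Int.ofNat 0, Int.ofNat 0, Int.ofNat 0, Int.negSucc 1, Int.negSucc 1, Int.ofNat 0, Int.ofNat 0, Int.ofNat 0, Int.ofNat 0],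
  [Int.ofNat 2, Int.ofNat 0, Int.ofNat 2, Int.ofNat 0, Int.negSucc 1, Int.ofNat 0, Int.ofNat 2, Int.ofNat 0, Int.ofNat 0, Int.ofNat 0, Int.ofNat 0, Int.ofNat 0, Int.negSucc 1, Int.ofNat 0, Int.ofNat 0, Int.ofNat 0, Int.ofNat 0, Int.ofNat 0, Int.negSucc 1, Int.ofNat 0, Int.ofNat 0, Int.ofNat 2, Int.negSucc 1, Int.ofNat 0],
  [Int.ofNat 0, Int.ofNat 2, Int.ofNat 0, Int.ofNat 0, Int.ofNat 0, Int.ofNat 0, Int.ofNat 0, Int.negSucc 1, Int.ofNat 2, Int.ofNat 0, Int.ofNat 0, Int.ofNat 2, Int.ofNat 0, Int.ofNat 2, Int.ofNat 0, Int.ofNat 0, Int.ofNat 2, Int.ofNat 0, Int.ofNat 0, Int.negSucc 1, Int.ofNat 0, Int.ofNat 0, Int.ofNat 0, Int.ofNat 2],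
  [Int.ofNat 0, Int.ofNat 2, Int.ofNat 0, Int.ofNat 0, Int.ofNat 0, Int.ofNat 0, Int.ofNat 0, Int.negSucc 1, Int.ofNat 2, Int.ofNat 0, Int.ofNat 0, Int.ofNat 2, Int.ofNat 0, Int.ofNat 2, Int.ofNat 0, Int.ofNat 0, Int.ofNat 2, Int.ofNat 0, Int.ofNat 0, Int.negSucc 1, Int.ofNat 0, Int.ofNat 0, Int.ofNat 0, Int.ofNat 2],
  [Int.ofNat 0, Int.ofNat 2, Int.ofNat 2, Int.ofNat 2, Int.ofNat 0, Int.ofNat 0, Int.ofNat 0, Int.ofNat 0, Int.ofNat 0, Int.ofNat 0, Int.ofNat 2, Int.negSucc 1, Int.ofNat 0, Int.ofNat 0, Int.ofNat 0, Int.ofNat 0, Int.negSucc 1, Int.ofNat 0, Int.ofNat 0, Int.ofNat 0, Int.ofNat 0, Int.ofNat 2, Int.ofNat 0, Int.ofNat 2],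
  [Int.ofNat 0, Int.negSucc 1, Int.negSucc 1, Int.negSucc 1, Int.ofNat 0, Int.ofNat 0, Int.ofNat 0, Int.ofNat 0, Int.ofNat 0, Int.ofNat 0, Int.ofNat 2, Int.negSucc 1, Int.ofNat 0, Int.ofNat 0, Int.ofNat 0, Int.ofNat 0, Int.ofNat 2, Int.ofNat 0, Int.ofNat 0, Int.ofNat 0, Int.ofNat 0, Int.ofNat 2, Int.ofNat 0, Int.ofNat 2],
  [Int.ofNat 2, Int.ofNat 0, Int.negSucc 1, Int.ofNat 0, Int.ofNat 0, Int.ofNat 0, Int.ofNat 0, Int.ofNat 0, Int.ofNat 0, Int.ofNat 0, Int.ofNat 2, Int.negSucc 1, Int.ofNat 2, Int.ofNat 0, Int.ofNat 0, Int.negSucc 1, Int.ofNat 2, Int.ofNat 0, Int.ofNat 0, Int.ofNat 0, Int.ofNat 0, Int.ofNat 0, Int.negSucc 1, Int.ofNat 0],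
  [Int.negSucc 1, Int.ofNat 0, Int.ofNat 2, Int.ofNat 0, Int.ofNat 0, Int.ofNat 0, Int.ofNat 0, Int.ofNat 0, Int.ofNat 0, Int.ofNat 0, Int.negSucc 1, Int.ofNat 2, Int.ofNat 2, Int.ofNat 0, Int.ofNat 0, Int.negSucc 1, Int.ofNat 2, Int.ofNat 0, Int.ofNat 0, Int.ofNat 0, Int.ofNat 0, Int.ofNat 0, Int.negSucc 1, Int.ofNat 0],
  [Int.negSucc 1, Int.negSucc 1, Int.ofNat 0, Int.ofNat 2, Int.ofNat 0, Int.ofNat 0, Int.ofNat 0, Int.ofNat 0, Int.ofNat 0, Int.ofNat 0, Int.ofNat 0, Int.negSucc 1, Int.ofNat 2, Int.ofNat 2, Int.ofNat 0, Int.ofNat 0, Int.negSucc 1, Int.ofNat 2, Int.ofNat 0, Int.ofNat 0, Int.ofNat 0, Int.ofNat 0, Int.ofNat 0, Int.ofNat 0],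
  [Int.ofNat 0, Int.ofNat 0, Int.negSucc 1, Int.ofNat 0, Int.ofNat 0, Int.negSucc 1, Int.ofNat 0, Int.ofNat 0, Int.ofNat 0, Int.ofNat 0, Int.ofNat 0, Int.negSucc 1, Int.ofNat 2, Int.ofNat 2, Int.negSucc 1, Int.ofNat 0, Int.negSucc 1, Int.ofNat 0, Int.ofNat 0, Int.ofNat 0, Int.ofNat 0, Int.ofNat 0, Int.ofNat 0, Int.negSucc 1],
  [Int.ofNat 0, Int.ofNat 0, Int.negSucc 1, Int.ofNat 0, Int.ofNat 0, Int.ofNat 0, Int.ofNat 0, Int.ofNat 0, Int.negSucc 1, Int.ofNat 2, Int.ofNat 2, Int.negSucc 1, Int.ofNat 0, Int.negSucc 1, Int.ofNat 0, Int.ofNat 0, Int.ofNat 0, Int.ofNat 0, Int.ofNat 0, Int.ofNat 0, Int.ofNat 0, Int.ofNat 0, Int.negSucc 1, Int.negSucc 1],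
  [Int.negSucc 1, Int.negSucc 1, Int.ofNat 0, Int.ofNat 0, Int.ofNat 2, Int.ofNat 0, Int.ofNat 0, Int.ofNat 0, Int.ofNat 0, Int.ofNat 0, Int.ofNat 0, Int.ofNat 0, Int.ofNat 2, Int.ofNat 0, Int.ofNat 0, Int.negSucc 1, Int.ofNat 2, Int.ofNat 0, Int.ofNat 2, Int.ofNat 0, Int.negSucc 1, Int.ofNat 0, Int.ofNat 0, Int.ofNat 0],
  [Int.negSucc 1, Int.ofNat 0, Int.ofNat 2, Int.ofNat 0, Int.ofNat 2, Int.ofNat 0, Int.ofNat 0, Int.ofNat 0, Int.ofNat 2, Int.ofNat 0, Int.negSucc 1, Int.ofNat 0, Int.ofNat 0, Int.ofNat 2, Int.ofNat 0, Int.negSucc 1, Int.ofNat 0, Int.ofNat 0, Int.negSucc 1, Int.ofNat 0, Int.ofNat 0, Int.ofNat 0, Int.ofNat 0, Int.ofNat 0],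
  [Int.ofNat 2, Int.ofNat 0, Int.negSucc 1, Int.ofNat 0, Int.ofNat 0, Int.ofNat 0, Int.ofNat 0, Int.ofNat 0, Int.ofNat 2, Int.ofNat 2, Int.ofNat 0, Int.ofNat 0, Int.ofNat 0, Int.ofNat 0, Int.ofNat 0, Int.ofNat 0, Int.negSucc 1, Int.ofNat 0, Int.negSucc 1, Int.ofNat 0, Int.ofNat 2, Int.ofNat 0, Int.negSucc 1, Int.ofNat 0],
  [Int.ofNat 2, Int.ofNat 0, Int.ofNat 2, Int.ofNat 0, Int.ofNat 0, Int.ofNat 0, Int.ofNat 0, Int.ofNat 0, Int.ofNat 2, Int.negSucc 1, Int.ofNat 0, Int.ofNat 0, Int.ofNat 0, Int.ofNat 0, Int.ofNat 0, Int.ofNat 0, Int.negSucc 1, Int.ofNat 0, Int.ofNat 2, Int.ofNat 0, Int.ofNat 2, Int.ofNat 0, Int.ofNat 2, Int.ofNat 0],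
  [Int.ofNat 0, Int.ofNat 0, Int.ofNat 0, Int.ofNat 2, Int.ofNat 0, Int.ofNat 0, Int.ofNat 2, Int.ofNat 2, Int.negSucc 1, Int.ofNat 0, Int.ofNat 2, Int.ofNat 0, Int.ofNat 2, Int.ofNat 0, Int.ofNat 2, Int.ofNat 0, Int.ofNat 0, Int.ofNat 0, Int.ofNat 0, Int.ofNat 0, Int.negSucc 1, Int.ofNat 0, Int.ofNat 0, Int.ofNat 0],
  [Int.ofNat 0, Int.ofNat 0, Int.ofNat 0, Int.ofNat 2, Int.ofNat 0, Int.ofNat 0, Int.negSucc 1, Int.ofNat 2, Int.negSucc 1, Int.ofNat 0, Int.negSucc 1, Int.ofNat 0, Int.ofNat 2, Int.ofNat 0, Int.ofNat 2, Int.ofNat 0, Int.ofNat 0, Int.ofNat 0, Int.ofNat 0, Int.ofNat 0, Int.negSucc 1, Int.ofNat 0, Int.ofNat 0, Int.ofNat 0],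
  [Int.ofNat 0, Int.ofNat 0, Int.ofNat 0, Int.ofNat 0, Int.ofNat 0, Int.negSucc 1, Int.negSucc 1, Int.ofNat 2, Int.negSucc 1, Int.ofNat 2, Int.ofNat 0, Int.ofNat 0, Int.ofNat 2, Int.ofNat 0, Int.ofNat 0, Int.ofNat 2, Int.ofNat 0, Int.negSucc 1, Int.ofNat 0, Int.ofNat 0, Int.ofNat 0, Int.ofNat 0, Int.ofNat 0, Int.ofNat 0],
  [Int.ofNat 0, Int.ofNat 0, Int.negSucc 1, Int.ofNat 0, Int.ofNat 0, Int.ofNat 0, Int.ofNat 0, Int.negSucc 1, Int.ofNat 0, Int.ofNat 2, Int.ofNat 2, Int.ofNat 0, Int.negSucc 1, Int.ofNat 2, Int.negSucc 1, Int.ofNat 2, Int.ofNat 0, Int.ofNat 0, Int.ofNat 0, Int.ofNat 0, Int.ofNat 0, Int.ofNat 0, Int.ofNat 0, Int.ofNat 0],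
  [Int.negSucc 0, Int.negSucc 0, Int.ofNat 1, Int.ofNat 1, Int.negSucc 0, Int.ofNat 1, Int.ofNat 1, Int.negSucc 0, Int.ofNat 1, Int.negSucc 0, Int.negSucc 0, Int.ofNat 1, Int.negSucc 0, Int.ofNat 1, Int.negSucc 0, Int.negSucc 0, Int.negSucc 0, Int.ofNat 1, Int.ofNat 1, Int.ofNat 1, Int.negSucc 2, Int.ofNat 1, Int.negSucc 0, Int.negSucc 0],
  [Int.negSucc 2, Int.ofNat 1, Int.negSucc 0, Int.negSucc 0, Int.negSucc 0, Int.ofNat 1, Int.ofNat 1, Int.negSucc 0, Int.ofNat 1, Int.ofNat 1, Int.negSucc 0, Int.ofNat 1, Int.negSucc 0, Int.negSucc 0, Int.ofNat 1, Int.negSucc 0, Int.ofNat 1, Int.negSucc 0, Int.negSucc 0, Int.negSucc 0, Int.ofNat 1, Int.ofNat 1, Int.ofNat 1, Int.negSucc 0],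
  [Int.ofNat 1, Int.negSucc 2, Int.negSucc 0, Int.negSucc 0, Int.negSucc 0, Int.ofNat 1, Int.ofNat 1, Int.negSucc 0, Int.ofNat 1, Int.ofNat 1, Int.negSucc 0, Int.ofNat 1, Int.negSucc 0, Int.negSucc 0, Int.ofNat 1, Int.negSucc 0, Int.ofNat 1, Int.negSucc 0, Int.negSucc 0, Int.negSucc 0, Int.ofNat 1, Int.ofNat 1, Int.ofNat 1, Int.negSucc 0],
  [Int.negSucc 2, Int.negSucc 0, Int.negSucc 0, Int.negSucc 0, Int.ofNat 1, Int.ofNat 1, Int.negSucc 0, Int.ofNat 1, Int.ofNat 1, Int.negSucc 0, Int.ofNat 1, Int.negSucc 0, Int.negSucc 0, Int.ofNat 1, Int.negSucc 0, Int.ofNat 1, Int.negSucc 0, Int.negSucc 0, Int.negSucc 0, Int.ofNat 1, Int.ofNat 1, Int.ofNat 1, Int.ofNat 1, Int.negSucc 0],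
  [Int.ofNat 3, Int.negSucc 0, Int.ofNat 1, Int.negSucc 0, Int.ofNat 1, Int.ofNat 1, Int.negSucc 0, Int.negSucc 0, Int.ofNat 1, Int.ofNat 1, Int.negSucc 0, Int.ofNat 1, Int.negSucc 0, Int.ofNat 1, Int.negSucc 0, Int.ofNat 1, Int.negSucc 0, Int.negSucc 0, Int.ofNat 1, Int.ofNat 1, Int.ofNat 1, Int.negSucc 0, Int.ofNat 1, Int.negSucc 0],
  [Int.ofNat 3, Int.ofNat 1, Int.ofNat 1, Int.negSucc 0, Int.negSucc 0, Int.negSucc 0, Int.ofNat 1, Int.ofNat 1, Int.ofNat 1, Int.negSucc 0, Int.negSucc 0, Int.negSucc 0, Int.ofNat 1, Int.ofNat 1, Int.ofNat 1, Int.ofNat 1, Int.negSucc 0, Int.ofNat 1, Int.negSucc 0, Int.negSucc 0, Int.ofNat 1, Int.negSucc 0, Int.ofNat 1, Int.negSucc 0],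
  [Int.negSucc 2, Int.ofNat 1, Int.negSucc 0, Int.negSucc 0, Int.negSucc 0, Int.negSucc 0, Int.ofNat 1, Int.negSucc 0, Int.ofNat 1, Int.ofNat 1, Int.ofNat 1, Int.ofNat 1, Int.ofNat 1, Int.ofNat 1, Int.ofNat 1, Int.ofNat 1, Int.negSucc 0, Int.ofNat 1, Int.ofNat 1, Int.negSucc 0, Int.ofNat 1, Int.ofNat 1, Int.ofNat 1, Int.negSucc 0],
  [Int.ofNat 1, Int.negSucc 2, Int.ofNat 1, Int.negSucc 0, Int.negSucc 0, Int.negSucc 0, Int.negSucc 0, Int.ofNat 1, Int.negSucc 0, Int.ofNat 1, Int.ofNat 1, Int.ofNat 1, Int.ofNat 1, Int.ofNat 1, Int.ofNat 1, Int.ofNat 1, Int.ofNat 1, Int.negSucc 0, Int.ofNat 1, Int.ofNat 1, Int.negSucc 0, Int.ofNat 1, Int.ofNat 1, Int.negSucc 0],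
  [Int.negSucc 1, Int.ofNat 2, Int.negSucc 1, Int.ofNat 0, Int.negSucc 1, Int.ofNat 0, Int.negSucc 1, Int.ofNat 0, Int.negSucc 1, Int.ofNat 0, Int.ofNat 0, Int.ofNat 0, Int.ofNat 0, Int.ofNat 0, Int.ofNat 2, Int.ofNat 0, Int.ofNat 0, Int.ofNat 0, Int.ofNat 0, Int.ofNat 0, Int.negSucc 1, Int.ofNat 0, Int.ofNat 0, Int.ofNat 0],
  [Int.ofNat 0, Int.negSucc 1, Int.ofNat 0, Int.negSucc 1, Int.ofNat 0, Int.negSucc 1, Int.ofNat 0, Int.ofNat 0, Int.ofNat 0, Int.ofNat 0, Int.ofNat 0, Int.ofNat 2, Int.ofNat 0, Int.ofNat 0, Int.ofNat 0, Int.ofNat 0, Int.ofNat 0, Int.negSucc 1, Int.ofNat 0, Int.ofNat 0, Int.negSucc 1, Int.ofNat 2, Int.negSucc 1, Int.ofNat 0],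
  [Int.negSucc 0, Int.ofNat 1, Int.negSucc 0, Int.ofNat 1, Int.ofNat 1, Int.ofNat 1, Int.negSucc 0, Int.negSucc 0, Int.negSucc 0, Int.ofNat 1, Int.ofNat 1, Int.ofNat 1, Int.negSucc 0, Int.ofNat 1, Int.ofNat 3, Int.ofNat 1, Int.ofNat 1, Int.ofNat 1, Int.negSucc 0, Int.negSucc 0, Int.negSucc 0, Int.ofNat 1, Int.negSucc 0, Int.negSucc 0],
  [Int.negSucc 0, Int.negSucc 0, Int.ofNat 1, Int.ofNat 1, Int.negSucc 0, Int.negSucc 0, Int.negSucc 0, Int.ofNat 1, Int.negSucc 0, Int.ofNat 1, Int.negSucc 0, Int.ofNat 1, Int.ofNat 1, Int.ofNat 1, Int.negSucc 0, Int.ofNat 1, Int.negSucc 0, Int.ofNat 3, Int.ofNat 1, Int.ofNat 1, Int.ofNat 1, Int.ofNat 1, Int.negSucc 0, Int.negSucc 0],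
  [Int.ofNat 0, Int.ofNat 0, Int.negSucc 1, Int.ofNat 0, Int.ofNat 0, Int.negSucc 1, Int.negSucc 1, Int.ofNat 0, Int.negSucc 1, Int.ofNat 0, Int.negSucc 1, Int.ofNat 0, Int.ofNat 0, Int.ofNat 2, Int.negSucc 1, Int.ofNat 0, Int.ofNat 0, Int.ofNat 2, Int.ofNat 0, Int.ofNat 0, Int.ofNat 0, Int.ofNat 0, Int.ofNat 0, Int.ofNat 0],
  [Int.ofNat 0, Int.ofNat 0, Int.ofNat 2, Int.ofNat 0, Int.ofNat 0, Int.ofNat 2, Int.ofNat 2, Int.ofNat 0, Int.negSucc 1, Int.ofNat 0, Int.ofNat 2, Int.ofNat 0, Int.ofNat 0, Int.ofNat 2, Int.negSucc 1, Int.ofNat 0, Int.ofNat 0, Int.ofNat 2, Int.ofNat 0, Int.ofNat 0, Int.ofNat 0, Int.ofNat 0, Int.ofNat 0, Int.ofNat 0],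
  [Int.ofNat 2, Int.ofNat 0, Int.ofNat 0, Int.negSucc 1, Int.negSucc 1, Int.ofNat 2, Int.ofNat 0, Int.ofNat 0, Int.ofNat 2, Int.ofNat 0, Int.ofNat 2, Int.ofNat 0, Int.ofNat 0, Int.ofNat 0, Int.ofNat 2, Int.ofNat 0, Int.ofNat 0, Int.ofNat 0, Int.ofNat 0, Int.ofNat 2, Int.ofNat 0, Int.ofNat 0, Int.ofNat 0, Int.ofNat 0],
  [Int.negSucc 1, Int.ofNat 0, Int.ofNat 0, Int.ofNat 2, Int.ofNat 2, Int.ofNat 2, Int.ofNat 0, Int.ofNat 0, Int.negSucc 1, Int.ofNat 0, Int.ofNat 2, Int.ofNat 0, Int.ofNat 0, Int.ofNat 0, Int.ofNat 2, Int.ofNat 0, Int.ofNat 0, Int.ofNat 0, Int.ofNat 0, Int.ofNat 2, Int.ofNat 0, Int.ofNat 0, Int.ofNat 0, Int.ofNat 0],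
  [Int.ofNat 0, Int.ofNat 0, Int.ofNat 0, Int.ofNat 0, Int.ofNat 0, Int.ofNat 0, Int.ofNat 2, Int.ofNat 0, Int.ofNat 0, Int.ofNat 2, Int.ofNat 0, Int.ofNat 0, Int.ofNat 0, Int.ofNat 0, Int.ofNat 0, Int.ofNat 2, Int.ofNat 2, Int.ofNat 2, Int.ofNat 2, Int.ofNat 0, Int.negSucc 1, Int.ofNat 0, Int.ofNat 0, Int.negSucc 1],
  [Int.ofNat 0, Int.ofNat 0, Int.ofNat 0, Int.ofNat 0, Int.ofNat 0, Int.ofNat 0, Int.ofNat 2, Int.ofNat 0, Int.ofNat 0, Int.negSucc 1, Int.ofNat 0, Int.ofNat 0, Int.ofNat 0, Int.ofNat 0, Int.ofNat 0, Int.ofNat 2, Int.ofNat 2, Int.ofNat 2, Int.negSucc 1, Int.ofNat 0, Int.negSucc 1, Int.ofNat 0, Int.ofNat 0, Int.negSucc 1],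
  [Int.ofNat 0, Int.ofNat 0, Int.ofNat 0, Int.ofNat 0, Int.ofNat 0, Int.ofNat 0, Int.ofNat 0, Int.ofNat 2, Int.ofNat 0, Int.ofNat 0, Int.negSucc 1, Int.ofNat 0, Int.ofNat 0, Int.ofNat 0, Int.ofNat 0, Int.ofNat 0, Int.ofNat 2, Int.ofNat 2, Int.ofNat 2, Int.negSucc 1, Int.ofNat 0, Int.negSucc 1, Int.ofNat 0, Int.negSucc 1],
  [Int.negSucc 0, Int.negSucc 0, Int.negSucc 0, Int.negSucc 0, Int.negSucc 0, Int.negSucc 0, Int.ofNat 1, Int.ofNat 3, Int.negSucc 0, Int.ofNat 1, Int.negSucc 0, Int.negSucc 0, Int.negSucc 0, Int.negSucc 0, Int.negSucc 0, Int.ofNat 1, Int.ofNat 1, Int.ofNat 1, Int.ofNat 1, Int.negSucc 0, Int.ofNat 1, Int.negSucc 0, Int.negSucc 0, Int.ofNat 1],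
  [Int.negSucc 0, Int.negSucc 0, Int.negSucc 0, Int.ofNat 1, Int.ofNat 3, Int.negSucc 0, Int.ofNat 1, Int.negSucc 0, Int.negSucc 0, Int.negSucc 0, Int.negSucc 0, Int.negSucc 0, Int.ofNat 1, Int.ofNat 1, Int.ofNat 1, Int.ofNat 1, Int.negSucc 0, Int.ofNat 1, Int.negSucc 0, Int.negSucc 0, Int.negSucc 0, Int.negSucc 0, Int.negSucc 0, Int.ofNat 1],
  [Int.ofNat 0, Int.ofNat 0, Int.ofNat 0, Int.ofNat 0, Int.ofNat 2, Int.negSucc 1, Int.ofNat 2, Int.ofNat 0, Int.ofNat 0, Int.ofNat 0, Int.ofNat 0, Int.ofNat 0, Int.ofNat 2, Int.ofNat 0, Int.ofNat 0, Int.ofNat 2, Int.negSucc 1, Int.ofNat 0, Int.ofNat 0, Int.ofNat 0, Int.ofNat 0, Int.ofNat 0, Int.negSucc 1, Int.negSucc 1],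
  [Int.ofNat 0, Int.ofNat 2, Int.ofNat 2, Int.ofNat 0, Int.ofNat 0, Int.ofNat 0, Int.ofNat 0, Int.ofNat 0, Int.ofNat 2, Int.ofNat 0, Int.ofNat 0, Int.ofNat 0, Int.ofNat 0, Int.negSucc 1, Int.negSucc 1, Int.ofNat 2, Int.ofNat 0, Int.ofNat 0, Int.ofNat 0, Int.ofNat 0, Int.ofNat 0, Int.negSucc 1, Int.ofNat 0, Int.negSucc 1],
  [Int.ofNat 1, Int.negSucc 0, Int.negSucc 0, Int.ofNat 1, Int.ofNat 1, Int.ofNat 1, Int.ofNat 1, Int.ofNat 1, Int.ofNat 1, Int.negSucc 0, Int.negSucc 0, Int.negSucc 0, Int.negSucc 0, Int.negSucc 0, Int.negSucc 0, Int.ofNat 1, Int.ofNat 1, Int.ofNat 1, Int.negSucc 0, Int.ofNat 1, Int.negSucc 0, Int.negSucc 0, Int.ofNat 1, Int.ofNat 3],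
  [Int.ofNat 1, Int.negSucc 0, Int.ofNat 1, Int.ofNat 1, Int.ofNat 1, Int.negSucc 0, Int.negSucc 0, Int.ofNat 1, Int.ofNat 1, Int.ofNat 1, Int.ofNat 1, Int.negSucc 0, Int.negSucc 0, Int.negSucc 0, Int.negSucc 0, Int.negSucc 0, Int.ofNat 1, Int.ofNat 1, Int.ofNat 1, Int.ofNat 1, Int.negSucc 0, Int.negSucc 0, Int.negSucc 0, Int.ofNat 3],
  [Int.negSucc 0, Int.ofNat 1, Int.ofNat 1, Int.negSucc 0, Int.negSucc 0, Int.ofNat 1, Int.ofNat 1, Int.ofNat 1, Int.ofNat 1, Int.negSucc 0, Int.ofNat 1, Int.negSucc 0, Int.negSucc 0, Int.negSucc 0, Int.ofNat 1, Int.negSucc 0, Int.ofNat 1, Int.negSucc 0, Int.ofNat 1, Int.negSucc 0, Int.ofNat 1, Int.negSucc 0, Int.ofNat 1, Int.ofNat 3],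
  [Int.negSucc 0, Int.ofNat 1, Int.negSucc 0, Int.negSucc 0, Int.negSucc 0, Int.negSucc 0, Int.negSucc 0, Int.ofNat 1, Int.ofNat 1, Int.ofNat 1, Int.negSucc 0, Int.negSucc 0, Int.negSucc 0, Int.negSucc 0, Int.ofNat 1, Int.ofNat 1, Int.ofNat 1, Int.negSucc 0, Int.negSucc 0, Int.negSucc 0, Int.ofNat 1, Int.negSucc 0, Int.negSucc 0, Int.ofNat 3],
  [Int.ofNat 2, Int.ofNat 0, Int.ofNat 2, Int.ofNat 0, Int.ofNat 0, Int.ofNat 0, Int.ofNat 0, Int.ofNat 2, Int.ofNat 2, Int.ofNat 0, Int.negSucc 1, Int.ofNat 0, Int.ofNat 0, Int.ofNat 0, Int.ofNat 2, Int.ofNat 0, Int.ofNat 2, Int.ofNat 0, Int.ofNat 0, Int.ofNat 0, Int.ofNat 0, Int.ofNat 0, Int.ofNat 0, Int.negSucc 1],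
  [Int.ofNat 2, Int.ofNat 0, Int.ofNat 0, Int.ofNat 0, Int.ofNat 2, Int.ofNat 0, Int.ofNat 0, Int.ofNat 0, Int.ofNat 2, Int.ofNat 0, Int.ofNat 2, Int.ofNat 0, Int.ofNat 2, Int.ofNat 0, Int.ofNat 0, Int.ofNat 0, Int.ofNat 0, Int.ofNat 0, Int.ofNat 0, Int.ofNat 0, Int.negSucc 1, Int.ofNat 0, Int.ofNat 2, Int.negSucc 1],
  [Int.negSucc 1, Int.ofNat 0, Int.ofNat 0, Int.ofNat 0, Int.ofNat 0, Int.ofNat 0, Int.ofNat 0, Int.ofNat 0, Int.ofNat 0, Int.ofNat 0, Int.ofNat 2, Int.negSucc 1, Int.ofNat 0, Int.negSucc 1, Int.ofNat 0, Int.ofNat 0, Int.negSucc 1, Int.ofNat 0, Int.negSucc 1, Int.ofNat 0, Int.negSucc 1, Int.ofNat 0, Int.ofNat 0, Int.ofNat 2],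
  [Int.negSucc 1, Int.ofNat 0, Int.ofNat 0, Int.negSucc 1, Int.ofNat 0, Int.ofNat 0, Int.ofNat 0, Int.ofNat 0, Int.ofNat 0, Int.ofNat 0, Int.ofNat 0, Int.ofNat 0, Int.ofNat 0, Int.ofNat 2, Int.negSucc 1, Int.ofNat 0, Int.negSucc 1, Int.ofNat 0, Int.ofNat 0, Int.negSucc 1, Int.ofNat 0, Int.negSucc 1, Int.ofNat 0, Int.ofNat 2],
  [Int.ofNat 2, Int.ofNat 0, Int.ofNat 0, Int.ofNat 0, Int.ofNat 0, Int.ofNat 2, Int.ofNat 2, Int.ofNat 2, Int.ofNat 0, Int.ofNat 0, Int.ofNat 0, Int.ofNat 0, Int.ofNat 0, Int.ofNat 2, Int.ofNat 0, Int.ofNat 0, Int.negSucc 1, Int.ofNat 2, Int.ofNat 0, Int.ofNat 0, Int.ofNat 0, Int.ofNat 0, Int.ofNat 0, Int.negSucc 1],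
  [Int.ofNat 0, Int.ofNat 0, Int.ofNat 0, Int.ofNat 0, Int.ofNat 2, Int.ofNat 2, Int.ofNat 2, Int.ofNat 0, Int.ofNat 0, Int.ofNat 0, Int.ofNat 0, Int.ofNat 0, Int.ofNat 2, Int.ofNat 0, Int.ofNat 0, Int.negSucc 1, Int.ofNat 2, Int.ofNat 0, Int.ofNat 0, Int.ofNat 0, Int.ofNat 0, Int.ofNat 0, Int.ofNat 2, Int.negSucc 1],
  [Int.ofNat 0, Int.ofNat 0, Int.ofNat 0, Int.ofNat 0, Int.ofNat 2, Int.ofNat 2, Int.ofNat 2, Int.ofNat 0, Int.ofNat 0, Int.ofNat 0, Int.ofNat 0, Int.ofNat 0, Int.ofNat 2, Int.ofNat 0, Int.ofNat 0, Int.negSucc 1, Int.ofNat 2, Int.ofNat 0, Int.ofNat 0, Int.ofNat 0, Int.ofNat 0, Int.ofNat 0, Int.ofNat 2, Int.negSucc 1],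
  [Int.ofNat 0, Int.ofNat 0, Int.ofNat 0, Int.ofNat 0, Int.ofNat 0, Int.ofNat 0, Int.ofNat 2, Int.ofNat 0, Int.ofNat 0, Int.ofNat 2, Int.ofNat 0, Int.ofNat 0, Int.ofNat 0, Int.ofNat 0, Int.ofNat 0, Int.negSucc 1, Int.ofNat 2, Int.ofNat 2, Int.ofNat 2, Int.ofNat 0, Int.ofNat 2, Int.ofNat 0, Int.ofNat 0, Int.negSucc 1],
  [Int.ofNat 0, Int.ofNat 0, Int.ofNat 0, Int.ofNat 0, Int.ofNat 0, Int.ofNat 0, Int.ofNat 2, Int.ofNat 0, Int.ofNat 0, Int.negSucc 1, Int.ofNat 0, Int.ofNat 0, Int.ofNat 0, Int.ofNat 0, Int.ofNat 0, Int.negSucc 1, Int.ofNat 2, Int.ofNat 2, Int.negSucc 1, Int.ofNat 0, Int.ofNat 2, Int.ofNat 0, Int.ofNat 0, Int.negSucc 1],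
  [Int.ofNat 0, Int.ofNat 0, Int.ofNat 0, Int.ofNat 0, Int.ofNat 0, Int.ofNat 0, Int.ofNat 0, Int.ofNat 2, Int.ofNat 0, Int.ofNat 0, Int.negSucc 1, Int.ofNat 0, Int.ofNat 0, Int.ofNat 0, Int.ofNat 0, Int.ofNat 0, Int.negSucc 1, Int.ofNat 2, Int.ofNat 2, Int.negSucc 1, Int.ofNat 0, Int.ofNat 2, Int.ofNat 0, Int.negSucc 1],
  [Int.negSucc 0, Int.negSucc 0, Int.negSucc 0, Int.negSucc 0, Int.ofNat 1, Int.negSucc 0, Int.negSucc 0, Int.ofNat 1, Int.negSucc 0, Int.ofNat 1, Int.negSucc 0, Int.negSucc 0, Int.negSucc 0, Int.ofNat 1, Int.negSucc 0, Int.ofNat 1, Int.negSucc 0, Int.ofNat 1, Int.ofNat 1, Int.negSucc 2, Int.ofNat 1, Int.ofNat 1, Int.ofNat 1, Int.ofNat 1],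
  [Int.negSucc 0, Int.ofNat 1, Int.negSucc 0, Int.negSucc 0, Int.ofNat 1, Int.negSucc 0, Int.ofNat 1, Int.negSucc 0, Int.negSucc 0, Int.negSucc 0, Int.ofNat 1, Int.negSucc 0, Int.ofNat 1, Int.negSucc 0, Int.ofNat 1, Int.ofNat 1, Int.negSucc 2, Int.ofNat 1, Int.ofNat 1, Int.ofNat 1, Int.negSucc 0, Int.negSucc 0, Int.negSucc 0, Int.ofNat 1],
  [Int.ofNat 1, Int.negSucc 0, Int.ofNat 1, Int.negSucc 0, Int.ofNat 3, Int.negSucc 0, Int.ofNat 1, Int.negSucc 0, Int.negSucc 0, Int.negSucc 0, Int.ofNat 1, Int.negSucc 0, Int.ofNat 1, Int.ofNat 1, Int.ofNat 1, Int.ofNat 1, Int.negSucc 0, Int.ofNat 1, Int.ofNat 1, Int.ofNat 1, Int.negSucc 0, Int.negSucc 0, Int.ofNat 1, Int.negSucc 0],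
  [Int.ofNat 1, Int.ofNat 1, Int.ofNat 3, Int.negSucc 0, Int.ofNat 1, Int.negSucc 0, Int.ofNat 1, Int.ofNat 1, Int.ofNat 1, Int.ofNat 1, Int.negSucc 0, Int.ofNat 1, Int.negSucc 0, Int.negSucc 0, Int.ofNat 1, Int.ofNat 1, Int.negSucc 0, Int.ofNat 1, Int.negSucc 0, Int.negSucc 0, Int.negSucc 0, Int.negSucc 0, Int.ofNat 1, Int.negSucc 0],
  [Int.ofNat 1, Int.ofNat 1, Int.negSucc 0, Int.negSucc 0, Int.ofNat 1, Int.negSucc 0, Int.ofNat 1, Int.ofNat 1, Int.ofNat 1, Int.ofNat 1, Int.negSucc 0, Int.ofNat 1, Int.negSucc 0, Int.negSucc 0, Int.ofNat 1, Int.ofNat 1, Int.negSucc 0, Int.ofNat 1, Int.negSucc 0, Int.negSucc 0, Int.negSucc 0, Int.negSucc 0, Int.ofNat 1, Int.ofNat 3],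
  [Int.ofNat 1, Int.ofNat 1, Int.ofNat 1, Int.negSucc 0, Int.ofNat 1, Int.ofNat 1, Int.negSucc 0, Int.ofNat 1, Int.ofNat 1, Int.negSucc 0, Int.ofNat 1, Int.ofNat 1, Int.negSucc 0, Int.negSucc 0, Int.ofNat 1, Int.negSucc 0, Int.negSucc 0, Int.ofNat 1, Int.ofNat 1, Int.negSucc 0, Int.negSucc 0, Int.negSucc 0, Int.negSucc 0, Int.ofNat 3],
  [Int.ofNat 1, Int.negSucc 0, Int.ofNat 1, Int.ofNat 1, Int.ofNat 1, Int.negSucc 0, Int.negSucc 0, Int.negSucc 0, Int.ofNat 1, Int.negSucc 0, Int.negSucc 0, Int.ofNat 1, Int.negSucc 0, Int.ofNat 1, Int.ofNat 1, Int.ofNat 1, Int.negSucc 0, Int.negSucc 0, Int.negSucc 0, Int.ofNat 1, Int.ofNat 1, Int.ofNat 1, Int.negSucc 0, Int.ofNat 3],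
  [Int.negSucc 0, Int.ofNat 1, Int.negSucc 0, Int.negSucc 0, Int.negSucc 0, Int.negSucc 0, Int.ofNat 1, Int.negSucc 0, Int.negSucc 0, Int.ofNat 1, Int.negSucc 0, Int.ofNat 1, Int.ofNat 1, Int.negSucc 0, Int.ofNat 1, Int.ofNat 1, Int.ofNat 1, Int.negSucc 0, Int.ofNat 1, Int.ofNat 1, Int.ofNat 1, Int.ofNat 1, Int.negSucc 0, Int.ofNat 3],
  [Int.ofNat 3, Int.negSucc 0, Int.ofNat 1, Int.ofNat 1, Int.negSucc 0, Int.ofNat 1, Int.ofNat 1, Int.negSucc 0, Int.ofNat 1, Int.negSucc 0, Int.ofNat 1, Int.negSucc 0, Int.ofNat 1, Int.negSucc 0, Int.ofNat 1, Int.negSucc 0, Int.negSucc 0, Int.negSucc 0, Int.ofNat 1, Int.ofNat 1, Int.negSucc 0, Int.ofNat 1, Int.ofNat 1, Int.negSucc 0],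
  [Int.negSucc 2, Int.negSucc 0, Int.negSucc 0, Int.ofNat 1, Int.negSucc 0, Int.ofNat 1, Int.ofNat 1, Int.ofNat 1, Int.ofNat 1, Int.ofNat 1, Int.negSucc 0, Int.ofNat 1, Int.ofNat 1, Int.negSucc 0, Int.ofNat 1, Int.negSucc 0, Int.negSucc 0, Int.negSucc 0, Int.negSucc 0, Int.ofNat 1, Int.negSucc 0, Int.negSucc 0, Int.ofNat 1, Int.negSucc 0],
  [Int.ofNat 1, Int.negSucc 2, Int.negSucc 0, Int.negSucc 0, Int.ofNat 1, Int.negSucc 0, Int.ofNat 1, Int.ofNat 1, Int.ofNat 1, Int.ofNat 1, Int.ofNat 1, Int.negSucc 0, Int.ofNat 1, Int.ofNat 1, Int.negSucc 0, Int.ofNat 1, Int.negSucc 0, Int.negSucc 0, Int.negSucc 0, Int.negSucc 0, Int.ofNat 1, Int.negSucc 0, Int.negSucc 0, Int.negSucc 0],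
  [Int.negSucc 2, Int.ofNat 1, Int.negSucc 0, Int.ofNat 1, Int.ofNat 1, Int.ofNat 1, Int.ofNat 1, Int.ofNat 1, Int.ofNat 1, Int.negSucc 0, Int.negSucc 0, Int.negSucc 0, Int.ofNat 1, Int.ofNat 1, Int.ofNat 1, Int.negSucc 0, Int.negSucc 0, Int.ofNat 1, Int.negSucc 0, Int.negSucc 0, Int.negSucc 0, Int.negSucc 0, Int.negSucc 0, Int.negSucc 0],
  [Int.ofNat 1, Int.ofNat 1, Int.ofNat 1, Int.ofNat 1, Int.ofNat 1, Int.ofNat 1, Int.negSucc 0, Int.negSucc 0, Int.negSucc 0, Int.ofNat 1, Int.ofNat 1, Int.ofNat 1, Int.negSucc 0, Int.negSucc 0, Int.ofNat 1, Int.negSucc 0, Int.negSucc 0, Int.negSucc 0, Int.negSucc 0, Int.negSucc 0, Int.negSucc 2, Int.ofNat 1, Int.negSucc 0, Int.negSucc 0],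
  [Int.ofNat 0, Int.ofNat 0, Int.ofNat 0, Int.ofNat 0, Int.ofNat 2, Int.ofNat 0, Int.ofNat 0, Int.ofNat 0, Int.ofNat 0, Int.ofNat 2, Int.ofNat 2, Int.ofNat 2, Int.ofNat 0, Int.ofNat 0, Int.ofNat 0, Int.ofNat 0, Int.ofNat 0, Int.negSucc 1, Int.ofNat 0, Int.ofNat 0, Int.negSucc 1, Int.ofNat 2, Int.ofNat 0, Int.ofNat 2],
  [Int.ofNat 0, Int.ofNat 0, Int.ofNat 2, Int.ofNat 0, Int.ofNat 0, Int.ofNat 0, Int.ofNat 0, Int.ofNat 2, Int.ofNat 0, Int.ofNat 0, Int.negSucc 1, Int.negSucc 1, Int.ofNat 2, Int.ofNat 0, Int.ofNat 0, Int.ofNat 0, Int.ofNat 0, Int.ofNat 0, Int.ofNat 0, Int.ofNat 2, Int.ofNat 2, Int.ofNat 0, Int.ofNat 0, Int.ofNat 2],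
  [Int.ofNat 2, Int.ofNat 2, Int.ofNat 0, Int.ofNat 0, Int.ofNat 0, Int.ofNat 0, Int.negSucc 1, Int.ofNat 0, Int.ofNat 0, Int.ofNat 0, Int.negSucc 1, Int.negSucc 1, Int.ofNat 2, Int.ofNat 0, Int.ofNat 0, Int.ofNat 0, Int.ofNat 0, Int.ofNat 0, Int.ofNat 0, Int.ofNat 0, Int.ofNat 2, Int.negSucc 1, Int.ofNat 0, Int.ofNat 0],
  [Int.ofNat 2, Int.ofNat 2, Int.ofNat 0, Int.ofNat 0, Int.ofNat 0, Int.ofNat 0, Int.ofNat 2, Int.ofNat 0, Int.ofNat 0, Int.ofNat 0, Int.ofNat 2, Int.negSucc 1, Int.ofNat 2, Int.ofNat 0, Int.ofNat 0, Int.ofNat 0, Int.ofNat 0, Int.ofNat 0, Int.ofNat 0, Int.ofNat 0, Int.ofNat 2, Int.negSucc 1, Int.ofNat 0, Int.ofNat 0],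
  [Int.ofNat 0, Int.ofNat 0, Int.ofNat 0, Int.ofNat 0, Int.ofNat 2, Int.ofNat 2, Int.ofNat 2, Int.ofNat 0, Int.ofNat 0, Int.ofNat 0, Int.ofNat 0, Int.ofNat 2, Int.ofNat 2, Int.negSucc 1, Int.ofNat 0, Int.ofNat 0, Int.ofNat 0, Int.negSucc 1, Int.ofNat 0, Int.ofNat 0, Int.ofNat 0, Int.ofNat 2, Int.ofNat 0, Int.ofNat 0],
  [Int.ofNat 0, Int.ofNat 0, Int.ofNat 0, Int.ofNat 0, Int.ofNat 2, Int.negSucc 1, Int.negSucc 1, Int.ofNat 0, Int.ofNat 0, Int.ofNat 0, Int.ofNat 0, Int.ofNat 2, Int.ofNat 2, Int.negSucc 1, Int.ofNat 0, Int.ofNat 0, Int.ofNat 0, Int.negSucc 1, Int.ofNat 0, Int.ofNat 0, Int.ofNat 0, Int.ofNat 2, Int.ofNat 0, Int.ofNat 0],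
  [Int.ofNat 0, Int.ofNat 0, Int.ofNat 0, Int.ofNat 2, Int.ofNat 2, Int.ofNat 0, Int.negSucc 1, Int.ofNat 0, Int.negSucc 1, Int.ofNat 0, Int.ofNat 0, Int.ofNat 0, Int.ofNat 0, Int.negSucc 1, Int.ofNat 2, Int.ofNat 0, Int.ofNat 0, Int.ofNat 0, Int.negSucc 1, Int.ofNat 0, Int.ofNat 0, Int.ofNat 2, Int.ofNat 0, Int.ofNat 0],
  [Int.ofNat 0, Int.negSucc 1, Int.negSucc 1, Int.ofNat 2, Int.ofNat 0, Int.ofNat 2, Int.ofNat 0, Int.ofNat 0, Int.ofNat 0, Int.ofNat 0, Int.ofNat 0, Int.ofNat 0, Int.negSucc 1, Int.ofNat 0, Int.ofNat 0, Int.ofNat 0, Int.negSucc 1, Int.ofNat 0, Int.ofNat 2, Int.ofNat 0, Int.ofNat 0, Int.ofNat 0, Int.ofNat 2, Int.ofNat 0],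
  [Int.negSucc 1, Int.ofNat 0, Int.ofNat 0, Int.ofNat 0, Int.ofNat 0, Int.ofNat 0, Int.ofNat 0, Int.ofNat 0, Int.ofNat 0, Int.ofNat 0, Int.ofNat 0, Int.ofNat 0, Int.negSucc 1, Int.ofNat 0, Int.negSucc 1, Int.ofNat 0, Int.negSucc 1, Int.negSucc 1, Int.ofNat 2, Int.ofNat 0, Int.ofNat 0, Int.ofNat 0, Int.ofNat 2, Int.negSucc 1],
  [Int.ofNat 0, Int.ofNat 0, Int.ofNat 2, Int.negSucc 1, Int.ofNat 0, Int.ofNat 0, Int.ofNat 0, Int.ofNat 0, Int.ofNat 0, Int.ofNat 0, Int.ofNat 0, Int.ofNat 0, Int.ofNat 0, Int.ofNat 0, Int.ofNat 0, Int.negSucc 1, Int.ofNat 0, Int.negSucc 1, Int.ofNat 0, Int.negSucc 1, Int.negSucc 1, Int.ofNat 2, Int.ofNat 0, Int.negSucc 1],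
  [Int.ofNat 0, Int.ofNat 0, Int.negSucc 1, Int.ofNat 0, Int.ofNat 0, Int.ofNat 2, Int.ofNat 0, Int.ofNat 0, Int.ofNat 0, Int.ofNat 2, Int.ofNat 2, Int.ofNat 0, Int.ofNat 0, Int.ofNat 0, Int.ofNat 2, Int.ofNat 0, Int.ofNat 0, Int.ofNat 0, Int.ofNat 0, Int.negSucc 1, Int.ofNat 0, Int.ofNat 2, Int.ofNat 0, Int.ofNat 2],
  [Int.ofNat 0, Int.negSucc 1, Int.ofNat 0, Int.ofNat 0, Int.ofNat 2, Int.ofNat 0, Int.ofNat 0, Int.ofNat 0, Int.ofNat 2, Int.ofNat 2, Int.ofNat 0, Int.ofNat 0, Int.ofNat 0, Int.ofNat 2, Int.ofNat 0, Int.ofNat 0, Int.ofNat 0, Int.ofNat 0, Int.negSucc 1, Int.ofNat 0, Int.ofNat 2, Int.ofNat 0, Int.ofNat 0, Int.ofNat 2],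
  [Int.ofNat 0, Int.negSucc 1, Int.ofNat 0, Int.ofNat 0, Int.ofNat 2, Int.ofNat 0, Int.ofNat 0, Int.ofNat 0, Int.ofNat 2, Int.negSucc 1, Int.ofNat 0, Int.ofNat 0, Int.ofNat 0, Int.ofNat 2, Int.ofNat 0, Int.ofNat 0, Int.ofNat 0, Int.ofNat 0, Int.ofNat 2, Int.ofNat 0, Int.ofNat 2, Int.ofNat 0, Int.ofNat 0, Int.ofNat 2]]

set_option maxRecDepth 100000 in
theorem c1et16_chk : pmChk (List.replicate 14 [16, 0, 25, 26]).flatten nxL c1et16M 0 0 = true := by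
  decide +kernel

theorem c1et16_ne : wE letE2 (List.replicate 14 [16, 0, 25, 26]).flatten ≠ 1 ∧ wE letE2 (List.replicate 14 [16, 0, 25, 26]).flatten ≠ negElt :=
  ne_pm_of_chk nxL_mem c1et16_chk

set_option maxRecDepth 100000 in
def c1et17M : List (List ℤ) :=
  [[Int.negSucc 3, Int.ofNat 0, Int.ofNat 0, Int.ofNat 0, Int.ofNat 0, Int.ofNat 0, Int.ofNat 0, Int.ofNat 0, Int.ofNat 0, Int.ofNat 0, Int.ofNat 0, Int.ofNat 0, Int.ofNat 0, Int.ofNat 0, Int.ofNat 0, Int.ofNat 0, Int.ofNat 0, Int.ofNat 0, Int.ofNat 0, Int.ofNat 0, Int.ofNat 0, Int.ofNat 0, Int.ofNat 0, Int.ofNat 4],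
  [Int.ofNat 4, Int.ofNat 0, Int.ofNat 0, Int.ofNat 0, Int.ofNat 0, Int.ofNat 0, Int.ofNat 0, Int.ofNat 0, Int.ofNat 0, Int.ofNat 0, Int.ofNat 0, Int.ofNat 0, Int.ofNat 0, Int.ofNat 0, Int.ofNat 0, Int.ofNat 0, Int.ofNat 0, Int.ofNat 0, Int.ofNat 0, Int.ofNat 0, Int.ofNat 0, Int.ofNat 0, Int.ofNat 0, Int.ofNat 4],
  [Int.ofNat 0, Int.ofNat 4, Int.ofNat 0, Int.ofNat 0, Int.ofNat 0, Int.ofNat 0, Int.ofNat 0, Int.ofNat 0, Int.ofNat 0, Int.ofNat 0, Int.ofNat 0, Int.ofNat 0, Int.ofNat 0, Int.ofNat 0, Int.ofNat 0, Int.ofNat 0, Int.ofNat 0, Int.ofNat 0, Int.ofNat 0, Int.ofNat 0, Int.ofNat 0, Int.ofNat 0, Int.ofNat 0, Int.ofNat 4],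
  [Int.ofNat 4, Int.ofNat 0, Int.ofNat 4, Int.ofNat 0, Int.ofNat 0, Int.ofNat 0, Int.ofNat 0, Int.ofNat 0, Int.ofNat 0, Int.ofNat 0, Int.ofNat 0, Int.ofNat 0, Int.ofNat 0, Int.ofNat 0, Int.ofNat 0, Int.ofNat 0, Int.ofNat 0, Int.ofNat 0, Int.ofNat 0, Int.ofNat 0, Int.ofNat 0, Int.ofNat 0, Int.ofNat 0, Int.ofNat 0],
  [Int.ofNat 0, Int.ofNat 0, Int.ofNat 0, Int.ofNat 0, Int.ofNat 0, Int.ofNat 0, Int.ofNat 0, Int.ofNat 0, Int.ofNat 0, Int.ofNat 0, Int.ofNat 0, Int.ofNat 0, Int.ofNat 0, Int.ofNat 0, Int.ofNat 0, Int.ofNat 0, Int.ofNat 0, Int.ofNat 0, Int.ofNat 0, Int.ofNat 0, Int.ofNat 4, Int.ofNat 0, Int.ofNat 4, Int.ofNat 0],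
  [Int.ofNat 0, Int.ofNat 0, Int.ofNat 0, Int.ofNat 0, Int.negSucc 1, Int.ofNat 0, Int.ofNat 0, Int.ofNat 0, Int.ofNat 0, Int.negSucc 1, Int.negSucc 1, Int.ofNat 0, Int.ofNat 0, Int.negSucc 1, Int.ofNat 0, Int.negSucc 1, Int.negSucc 1, Int.ofNat 0, Int.ofNat 0, Int.ofNat 0, Int.ofNat 2, Int.ofNat 0, Int.ofNat 2, Int.ofNat 0],
  [Int.ofNat 0, Int.ofNat 0, Int.negSucc 1, Int.ofNat 0, Int.ofNat 0, Int.ofNat 0, Int.ofNat 0, Int.negSucc 1, Int.ofNat 0, Int.negSucc 1, Int.ofNat 2, Int.ofNat 0, Int.negSucc 1, Int.negSucc 1, Int.ofNat 2, Int.negSucc 1, Int.ofNat 0, Int.ofNat 0, Int.ofNat 0, Int.ofNat 0, Int.ofNat 0, Int.ofNat 0, Int.ofNat 0, Int.ofNat 0],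
  [Int.negSucc 0, Int.negSucc 0, Int.ofNat 1, Int.negSucc 0, Int.ofNat 1, Int.negSucc 0, Int.ofNat 1, Int.negSucc 0, Int.ofNat 1, Int.negSucc 0, Int.ofNat 3, Int.ofNat 1, Int.negSucc 0, Int.negSucc 0, Int.ofNat 1, Int.negSucc 0, Int.ofNat 1, Int.negSucc 0, Int.ofNat 1, Int.ofNat 1, Int.ofNat 1, Int.ofNat 1, Int.ofNat 1, Int.negSucc 0],
  [Int.negSucc 0, Int.negSucc 0, Int.negSucc 0, Int.negSucc 0, Int.ofNat 1, Int.ofNat 1, Int.negSucc 0, Int.negSucc 0, Int.ofNat 1, Int.ofNat 1, Int.negSucc 2, Int.ofNat 1, Int.negSucc 0, Int.negSucc 0, Int.ofNat 1, Int.ofNat 1, Int.ofNat 1, Int.negSucc 0, Int.negSucc 0, Int.ofNat 1, Int.ofNat 1, Int.ofNat 1, Int.negSucc 0, Int.negSucc 0],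
  [Int.negSucc 2, Int.ofNat 1, Int.ofNat 1, Int.ofNat 1, Int.ofNat 1, Int.negSucc 0, Int.ofNat 1, Int.negSucc 0, Int.ofNat 1, Int.ofNat 1, Int.negSucc 0, Int.negSucc 0, Int.ofNat 1, Int.ofNat 1, Int.negSucc 0, Int.negSucc 0, Int.ofNat 1, Int.negSucc 0, Int.ofNat 1, Int.negSucc 0, Int.negSucc 0, Int.negSucc 0, Int.negSucc 0, Int.negSucc 0],
  [Int.ofNat 3, Int.negSucc 0, Int.negSucc 0, Int.negSucc 0, Int.negSucc 0, Int.negSucc 0, Int.negSucc 0, Int.negSucc 0, Int.negSucc 0, Int.negSucc 0, Int.negSucc 0, Int.negSucc 0, Int.negSucc 0, Int.negSucc 0, Int.negSucc 0, Int.negSucc 0, Int.negSucc 0, Int.negSucc 0, Int.negSucc 0, Int.negSucc 0, Int.negSucc 0, Int.negSucc 0, Int.negSucc 0, Int.negSucc 0],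
  [Int.negSucc 0, Int.negSucc 0, Int.negSucc 0, Int.negSucc 0, Int.negSucc 0, Int.negSucc 0, Int.negSucc 0, Int.negSucc 0, Int.negSucc 0, Int.negSucc 0, Int.negSucc 0, Int.negSucc 0, Int.negSucc 0, Int.negSucc 0, Int.negSucc 0, Int.negSucc 0, Int.negSucc 0, Int.negSucc 0, Int.negSucc 0, Int.negSucc 0, Int.negSucc 0, Int.negSucc 0, Int.negSucc 0, Int.ofNat 3],
  [Int.ofNat 1, Int.negSucc 0, Int.ofNat 1, Int.negSucc 0, Int.negSucc 0, Int.negSucc 0, Int.negSucc 0, Int.ofNat 1, Int.negSucc 0, Int.ofNat 1, Int.ofNat 1, Int.ofNat 1, Int.negSucc 0, Int.negSucc 0, Int.negSucc 0, Int.negSucc 0, Int.negSucc 0, Int.negSucc 0, Int.ofNat 1, Int.negSucc 0, Int.negSucc 0, Int.ofNat 1, Int.negSucc 0, Int.ofNat 3],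
  [Int.negSucc 0, Int.ofNat 1, Int.negSucc 0, Int.ofNat 1, Int.negSucc 0, Int.negSucc 0, Int.negSucc 0, Int.negSucc 0, Int.ofNat 1, Int.negSucc 0, Int.ofNat 1, Int.ofNat 1, Int.ofNat 1, Int.negSucc 0, Int.negSucc 0, Int.negSucc 0, Int.negSucc 0, Int.negSucc 0, Int.negSucc 0, Int.ofNat 1, Int.negSucc 0, Int.negSucc 0, Int.ofNat 1, Int.ofNat 3],
  [Int.ofNat 2, Int.ofNat 0, Int.ofNat 2, Int.ofNat 2, Int.ofNat 0, Int.ofNat 0, Int.ofNat 0, Int.ofNat 0, Int.ofNat 0, Int.ofNat 0, Int.ofNat 2, Int.ofNat 0, Int.ofNat 0, Int.ofNat 0, Int.ofNat 0, Int.ofNat 0, Int.ofNat 0, Int.ofNat 0, Int.negSucc 1, Int.ofNat 2, Int.ofNat 0, Int.ofNat 0, Int.ofNat 2, Int.negSucc 1],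
  [Int.ofNat 2, Int.ofNat 0, Int.ofNat 0, Int.ofNat 0, Int.ofNat 0, Int.ofNat 0, Int.ofNat 0, Int.ofNat 2, Int.ofNat 0, Int.ofNat 0, Int.ofNat 0, Int.ofNat 0, Int.ofNat 0, Int.ofNat 0, Int.ofNat 0, Int.negSucc 1, Int.ofNat 2, Int.ofNat 0, Int.ofNat 0, Int.ofNat 2, Int.ofNat 2, Int.ofNat 0, Int.ofNat 2, Int.negSucc 1],
  [Int.negSucc 1, Int.ofNat 0, Int.ofNat 0, Int.ofNat 0, Int.negSucc 1, Int.ofNat 0, Int.negSucc 1, Int.ofNat 0, Int.ofNat 0, Int.ofNat 0, Int.ofNat 0, Int.ofNat 0, Int.ofNat 0, Int.negSucc 1, Int.ofNat 0, Int.negSucc 1, Int.ofNat 0, Int.ofNat 0, Int.ofNat 0, Int.ofNat 0, Int.ofNat 2, Int.negSucc 1, Int.ofNat 0, Int.ofNat 2],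
  [Int.negSucc 1, Int.negSucc 1, Int.negSucc 1, Int.ofNat 0, Int.ofNat 0, Int.ofNat 0, Int.ofNat 0, Int.ofNat 0, Int.ofNat 0, Int.negSucc 1, Int.ofNat 2, Int.ofNat 0, Int.ofNat 0, Int.ofNat 0, Int.ofNat 0, Int.negSucc 1, Int.ofNat 0, Int.ofNat 0, Int.ofNat 0, Int.ofNat 0, Int.negSucc 1, Int.ofNat 0, Int.ofNat 0, Int.ofNat 2],
  [Int.ofNat 0, Int.ofNat 0, Int.ofNat 0, Int.ofNat 0, Int.ofNat 0, Int.ofNat 0, Int.ofNat 0, Int.ofNat 0, Int.ofNat 0, Int.ofNat 0, Int.ofNat 4, Int.ofNat 0, Int.ofNat 0, Int.ofNat 0, Int.ofNat 0, Int.ofNat 0, Int.ofNat 0, Int.ofNat 0, Int.ofNat 0, Int.ofNat 0, Int.ofNat 0, Int.ofNat 0, Int.ofNat 0, Int.negSucc 3],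
  [Int.ofNat 0, Int.ofNat 0, Int.ofNat 0, Int.ofNat 0, Int.ofNat 0, Int.ofNat 0, Int.ofNat 0, Int.ofNat 0, Int.ofNat 0, Int.ofNat 0, Int.negSucc 3, Int.ofNat 0, Int.ofNat 0, Int.ofNat 0, Int.ofNat 0, Int.ofNat 0, Int.ofNat 0, Int.ofNat 0, Int.ofNat 0, Int.ofNat 0, Int.ofNat 0, Int.ofNat 0, Int.ofNat 0, Int.negSucc 3],
  [Int.negSucc 3, Int.ofNat 0, Int.ofNat 0, Int.ofNat 0, Int.ofNat 0, Int.ofNat 0, Int.ofNat 0, Int.ofNat 0, Int.ofNat 0, Int.ofNat 0, Int.ofNat 0, Int.ofNat 0, Int.ofNat 0, Int.ofNat 0, Int.ofNat 0, Int.ofNat 0, Int.ofNat 0, Int.ofNat 0, Int.ofNat 0, Int.ofNat 0, Int.ofNat 0, Int.ofNat 0, Int.ofNat 0, Int.negSucc 3],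
  [Int.negSucc 3, Int.ofNat 0, Int.ofNat 0, Int.ofNat 0, Int.ofNat 0, Int.ofNat 0, Int.ofNat 0, Int.ofNat 0, Int.ofNat 0, Int.ofNat 0, Int.ofNat 0, Int.ofNat 0, Int.ofNat 0, Int.ofNat 0, Int.ofNat 0, Int.ofNat 0, Int.ofNat 0, Int.ofNat 0, Int.ofNat 0, Int.ofNat 0, Int.ofNat 0, Int.ofNat 0, Int.ofNat 0, Int.negSucc 3],
  [Int.ofNat 0, Int.negSucc 3, Int.negSucc 3, Int.ofNat 0, Int.ofNat 0, Int.ofNat 0, Int.ofNat 0, Int.ofNat 0, Int.ofNat 0, Int.ofNat 0, Int.ofNat 0, Int.ofNat 0, Int.ofNat 0, Int.ofNat 0, Int.ofNat 0, Int.ofNat 0, Int.ofNat 0, Int.ofNat 0, Int.ofNat 0, Int.ofNat 0, Int.ofNat 0, Int.ofNat 0, Int.ofNat 0, Int.ofNat 0],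
  [Int.ofNat 0, Int.ofNat 0, Int.ofNat 0, Int.ofNat 0, Int.negSucc 3, Int.ofNat 0, Int.negSucc 3, Int.ofNat 0, Int.ofNat 0, Int.ofNat 0, Int.ofNat 0, Int.ofNat 0, Int.ofNat 0, Int.ofNat 0, Int.ofNat 0, Int.ofNat 0, Int.ofNat 0, Int.ofNat 0, Int.ofNat 0, Int.ofNat 0, Int.ofNat 0, Int.ofNat 0, Int.ofNat 0, Int.ofNat 0],
  [Int.ofNat 0, Int.ofNat 0, Int.ofNat 0, Int.ofNat 0, Int.negSucc 1, Int.ofNat 0, Int.negSucc 1, Int.ofNat 2, Int.ofNat 0, Int.ofNat 0, Int.ofNat 0, Int.ofNat 0, Int.ofNat 0, Int.ofNat 2, Int.ofNat 0, Int.ofNat 0, Int.ofNat 2, Int.ofNat 0, Int.ofNat 0, Int.ofNat 2, Int.ofNat 0, Int.ofNat 2, Int.ofNat 2, Int.ofNat 0],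
  [Int.ofNat 0, Int.ofNat 2, Int.ofNat 2, Int.ofNat 0, Int.ofNat 0, Int.ofNat 0, Int.ofNat 0, Int.negSucc 1, Int.ofNat 0, Int.negSucc 1, Int.ofNat 2, Int.ofNat 0, Int.ofNat 0, Int.ofNat 0, Int.ofNat 0, Int.ofNat 0, Int.ofNat 2, Int.ofNat 0, Int.ofNat 0, Int.ofNat 2, Int.ofNat 0, Int.ofNat 0, Int.ofNat 2, Int.ofNat 0],
  [Int.ofNat 2, Int.ofNat 0, Int.ofNat 0, Int.ofNat 0, Int.negSucc 1, Int.ofNat 0, Int.ofNat 0, Int.negSucc 1, Int.ofNat 0, Int.negSucc 1, Int.ofNat 2, Int.ofNat 0, Int.ofNat 0, Int.negSucc 1, Int.ofNat 0, Int.ofNat 0, Int.ofNat 0, Int.ofNat 0, Int.ofNat 0, Int.ofNat 2, Int.ofNat 0, Int.ofNat 0, Int.ofNat 0, Int.ofNat 2],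
  [Int.ofNat 0, Int.ofNat 0, Int.ofNat 0, Int.negSucc 1, Int.ofNat 0, Int.ofNat 0, Int.negSucc 1, Int.ofNat 0, Int.negSucc 1, Int.ofNat 2, Int.ofNat 0, Int.ofNat 0, Int.negSucc 1, Int.ofNat 0, Int.ofNat 0, Int.ofNat 0, Int.ofNat 0, Int.ofNat 0, Int.ofNat 2, Int.ofNat 0, Int.ofNat 0, Int.ofNat 0, Int.ofNat 2, Int.ofNat 2],
  [Int.ofNat 0, Int.ofNat 0, Int.ofNat 0, Int.negSucc 1, Int.ofNat 0, Int.ofNat 0, Int.negSucc 1, Int.ofNat 0, Int.negSucc 1, Int.negSucc 1, Int.ofNat 0, Int.ofNat 0, Int.negSucc 1, Int.ofNat 0, Int.ofNat 0, Int.ofNat 0, Int.ofNat 0, Int.ofNat 0, Int.negSucc 1, Int.ofNat 0, Int.ofNat 0, Int.ofNat 0, Int.ofNat 2, Int.ofNat 2],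
  [Int.ofNat 0, Int.ofNat 0, Int.negSucc 1, Int.negSucc 1, Int.ofNat 0, Int.ofNat 0, Int.ofNat 0, Int.ofNat 0, Int.negSucc 1, Int.ofNat 0, Int.ofNat 0, Int.ofNat 0, Int.ofNat 0, Int.negSucc 1, Int.ofNat 0, Int.ofNat 0, Int.negSucc 1, Int.ofNat 2, Int.negSucc 1, Int.ofNat 0, Int.ofNat 0, Int.ofNat 0, Int.ofNat 0, Int.ofNat 2],
  [Int.ofNat 0, Int.ofNat 0, Int.ofNat 2, Int.negSucc 1, Int.ofNat 0, Int.ofNat 0, Int.ofNat 0, Int.ofNat 0, Int.negSucc 1, Int.ofNat 0, Int.ofNat 0, Int.ofNat 0, Int.ofNat 0, Int.negSucc 1, Int.ofNat 0, Int.ofNat 0, Int.negSucc 1, Int.ofNat 2, Int.ofNat 2, Int.ofNat 0, Int.ofNat 0, Int.ofNat 0, Int.ofNat 0, Int.ofNat 2],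
  [Int.ofNat 0, Int.ofNat 0, Int.ofNat 0, Int.ofNat 2, Int.negSucc 1, Int.ofNat 0, Int.ofNat 0, Int.ofNat 0, Int.ofNat 0, Int.negSucc 1, Int.ofNat 0, Int.ofNat 0, Int.ofNat 0, Int.ofNat 0, Int.negSucc 1, Int.ofNat 0, Int.ofNat 0, Int.negSucc 1, Int.ofNat 2, Int.ofNat 2, Int.ofNat 0, Int.ofNat 0, Int.ofNat 0, Int.ofNat 2],
  [Int.ofNat 1, Int.ofNat 1, Int.ofNat 1, Int.ofNat 3, Int.negSucc 0, Int.ofNat 1, Int.negSucc 0, Int.negSucc 0, Int.negSucc 0, Int.negSucc 0, Int.ofNat 1, Int.negSucc 0, Int.negSucc 0, Int.ofNat 1, Int.negSucc 0, Int.ofNat 1, Int.ofNat 1, Int.negSucc 0, Int.ofNat 1, Int.ofNat 1, Int.ofNat 1, Int.negSucc 0, Int.ofNat 1, Int.negSucc 0],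
  [Int.ofNat 3, Int.negSucc 0, Int.ofNat 1, Int.negSucc 0, Int.negSucc 0, Int.negSucc 0, Int.negSucc 0, Int.ofNat 1, Int.negSucc 0, Int.negSucc 0, Int.ofNat 1, Int.negSucc 0, Int.ofNat 1, Int.ofNat 1, Int.negSucc 0, Int.ofNat 1, Int.ofNat 1, Int.ofNat 1, Int.negSucc 0, Int.ofNat 1, Int.ofNat 1, Int.ofNat 1, Int.ofNat 1, Int.negSucc 0],
  [Int.negSucc 1, Int.ofNat 2, Int.ofNat 0, Int.ofNat 0, Int.negSucc 1, Int.ofNat 0, Int.negSucc 1, Int.ofNat 0, Int.ofNat 0, Int.negSucc 1, Int.ofNat 0, Int.ofNat 0, Int.ofNat 2, Int.ofNat 0, Int.ofNat 0, Int.ofNat 0, Int.ofNat 0, Int.ofNat 2, Int.ofNat 0, Int.ofNat 0, Int.ofNat 0, Int.ofNat 0, Int.ofNat 0, Int.ofNat 2],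
  [Int.negSucc 1, Int.negSucc 1, Int.negSucc 1, Int.ofNat 0, Int.ofNat 0, Int.ofNat 0, Int.ofNat 0, Int.ofNat 0, Int.ofNat 2, Int.ofNat 0, Int.ofNat 0, Int.ofNat 2, Int.negSucc 1, Int.ofNat 0, Int.ofNat 0, Int.ofNat 0, Int.ofNat 0, Int.ofNat 0, Int.ofNat 2, Int.ofNat 0, Int.ofNat 0, Int.ofNat 0, Int.ofNat 0, Int.ofNat 2],
  [Int.ofNat 0, Int.ofNat 0, Int.ofNat 0, Int.ofNat 0, Int.ofNat 0, Int.ofNat 0, Int.ofNat 0, Int.ofNat 0, Int.ofNat 0, Int.ofNat 0, Int.ofNat 0, Int.ofNat 0, Int.negSucc 3, Int.ofNat 0, Int.ofNat 0, Int.ofNat 0, Int.ofNat 0, Int.ofNat 0, Int.ofNat 0, Int.ofNat 0, Int.ofNat 0, Int.ofNat 0, Int.ofNat 0, Int.negSucc 3],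
  [Int.ofNat 0, Int.ofNat 0, Int.ofNat 0, Int.ofNat 0, Int.ofNat 0, Int.ofNat 0, Int.ofNat 0, Int.ofNat 0, Int.ofNat 0, Int.ofNat 0, Int.ofNat 0, Int.ofNat 0, Int.negSucc 3, Int.ofNat 0, Int.ofNat 0, Int.ofNat 0, Int.ofNat 0, Int.ofNat 0, Int.ofNat 0, Int.ofNat 0, Int.ofNat 0, Int.ofNat 0, Int.ofNat 0, Int.negSucc 3],
  [Int.ofNat 0, Int.ofNat 0, Int.ofNat 0, Int.ofNat 0, Int.ofNat 0, Int.ofNat 0, Int.ofNat 0, Int.ofNat 0, Int.ofNat 0, Int.ofNat 0, Int.ofNat 0, Int.ofNat 0, Int.ofNat 0, Int.ofNat 0, Int.ofNat 0, Int.ofNat 0, Int.ofNat 0, Int.negSucc 3, Int.ofNat 0, Int.ofNat 0, Int.ofNat 0, Int.ofNat 0, Int.ofNat 0, Int.negSucc 3],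
  [Int.ofNat 0, Int.ofNat 0, Int.ofNat 0, Int.ofNat 0, Int.ofNat 0, Int.ofNat 0, Int.ofNat 0, Int.ofNat 0, Int.ofNat 0, Int.ofNat 0, Int.ofNat 0, Int.ofNat 0, Int.ofNat 0, Int.ofNat 0, Int.ofNat 0, Int.ofNat 0, Int.ofNat 0, Int.negSucc 3, Int.ofNat 0, Int.ofNat 0, Int.ofNat 0, Int.ofNat 0, Int.ofNat 0, Int.negSucc 3],
  [Int.negSucc 3, Int.ofNat 0, Int.ofNat 0, Int.ofNat 0, Int.negSucc 3, Int.ofNat 0, Int.ofNat 0, Int.ofNat 0, Int.ofNat 0, Int.ofNat 0, Int.ofNat 0, Int.ofNat 0, Int.ofNat 0, Int.ofNat 0, Int.ofNat 0, Int.ofNat 0, Int.ofNat 0, Int.ofNat 0, Int.ofNat 0, Int.ofNat 0, Int.ofNat 0, Int.ofNat 0, Int.ofNat 0, Int.ofNat 0],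
  [Int.ofNat 4, Int.ofNat 0, Int.ofNat 0, Int.ofNat 0, Int.negSucc 3, Int.ofNat 0, Int.ofNat 0, Int.ofNat 0, Int.ofNat 0, Int.ofNat 0, Int.ofNat 0, Int.ofNat 0, Int.ofNat 0, Int.ofNat 0, Int.ofNat 0, Int.ofNat 0, Int.ofNat 0, Int.ofNat 0, Int.ofNat 0, Int.ofNat 0, Int.ofNat 0, Int.ofNat 0, Int.ofNat 0, Int.ofNat 0],
  [Int.ofNat 0, Int.ofNat 4, Int.ofNat 0, Int.ofNat 0, Int.ofNat 0, Int.negSucc 3, Int.ofNat 0, Int.ofNat 0, Int.ofNat 0, Int.ofNat 0, Int.ofNat 0, Int.ofNat 0, Int.ofNat 0, Int.ofNat 0, Int.ofNat 0, Int.ofNat 0, Int.ofNat 0, Int.ofNat 0, Int.ofNat 0, Int.ofNat 0, Int.ofNat 0, Int.ofNat 0, Int.ofNat 0, Int.ofNat 0],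
  [Int.ofNat 2, Int.negSucc 1, Int.ofNat 2, Int.ofNat 2, Int.ofNat 0, Int.negSucc 1, Int.ofNat 0, Int.ofNat 0, Int.ofNat 0, Int.ofNat 0, Int.ofNat 0, Int.ofNat 0, Int.ofNat 0, Int.ofNat 0, Int.ofNat 2, Int.ofNat 0, Int.ofNat 0, Int.ofNat 2, Int.ofNat 0, Int.ofNat 0, Int.ofNat 0, Int.ofNat 0, Int.ofNat 0, Int.ofNat 2],
  [Int.ofNat 2, Int.ofNat 0, Int.negSucc 1, Int.ofNat 0, Int.ofNat 0, Int.ofNat 0, Int.ofNat 0, Int.ofNat 0, Int.ofNat 0, Int.ofNat 0, Int.ofNat 0, Int.ofNat 2, Int.ofNat 0, Int.ofNat 0, Int.ofNat 2, Int.ofNat 0, Int.ofNat 0, Int.ofNat 0, Int.ofNat 0, Int.ofNat 0, Int.ofNat 2, Int.negSucc 1, Int.ofNat 2, Int.ofNat 2],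
  [Int.negSucc 0, Int.ofNat 1, Int.ofNat 3, Int.negSucc 0, Int.negSucc 0, Int.negSucc 0, Int.ofNat 1, Int.ofNat 1, Int.negSucc 0, Int.negSucc 0, Int.negSucc 0, Int.ofNat 1, Int.negSucc 0, Int.negSucc 0, Int.ofNat 1, Int.negSucc 0, Int.negSucc 0, Int.negSucc 0, Int.negSucc 0, Int.ofNat 1, Int.ofNat 1, Int.negSucc 0, Int.ofNat 1, Int.negSucc 0],
  [Int.negSucc 0, Int.ofNat 1, Int.negSucc 0, Int.negSucc 0, Int.negSucc 0, Int.ofNat 1, Int.ofNat 3, Int.negSucc 0, Int.negSucc 0, Int.negSucc 0, Int.ofNat 1, Int.negSucc 0, Int.negSucc 0, Int.negSucc 0, Int.ofNat 1, Int.negSucc 0, Int.negSucc 0, Int.ofNat 1, Int.ofNat 1, Int.ofNat 1, Int.negSucc 0, Int.negSucc 0, Int.ofNat 1, Int.negSucc 0],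
  [Int.ofNat 0, Int.negSucc 1, Int.ofNat 0, Int.negSucc 1, Int.ofNat 0, Int.ofNat 0, Int.ofNat 2, Int.negSucc 1, Int.ofNat 0, Int.ofNat 0, Int.ofNat 2, Int.ofNat 0, Int.ofNat 0, Int.ofNat 0, Int.ofNat 0, Int.ofNat 0, Int.ofNat 0, Int.ofNat 0, Int.ofNat 2, Int.ofNat 0, Int.ofNat 0, Int.negSucc 1, Int.ofNat 2, Int.ofNat 0],
  [Int.ofNat 0, Int.negSucc 1, Int.ofNat 0, Int.negSucc 1, Int.ofNat 0, Int.ofNat 0, Int.negSucc 1, Int.negSucc 1, Int.ofNat 0, Int.ofNat 0, Int.negSucc 1, Int.ofNat 0, Int.ofNat 0, Int.ofNat 0, Int.ofNat 0, Int.ofNat 0, Int.ofNat 0, Int.ofNat 0, Int.negSucc 1, Int.ofNat 0, Int.ofNat 0, Int.negSucc 1, Int.negSucc 1, Int.ofNat 0],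
  [Int.negSucc 1, Int.ofNat 0, Int.negSucc 1, Int.ofNat 0, Int.ofNat 0, Int.negSucc 1, Int.ofNat 0, Int.ofNat 0, Int.negSucc 1, Int.negSucc 1, Int.ofNat 0, Int.negSucc 1, Int.ofNat 0, Int.ofNat 0, Int.negSucc 1, Int.negSucc 1, Int.ofNat 0, Int.ofNat 0, Int.ofNat 0, Int.ofNat 0, Int.ofNat 0, Int.ofNat 0, Int.ofNat 0, Int.ofNat 0],
  [Int.negSucc 1, Int.ofNat 0, Int.ofNat 2, Int.ofNat 0, Int.ofNat 0, Int.ofNat 2, Int.ofNat 0, Int.ofNat 0, Int.negSucc 1, Int.ofNat 2, Int.ofNat 0, Int.negSucc 1, Int.ofNat 0, Int.ofNat 0, Int.negSucc 1, Int.ofNat 2, Int.ofNat 0, Int.ofNat 0, Int.ofNat 0, Int.ofNat 0, Int.ofNat 0, Int.ofNat 0, Int.ofNat 0, Int.ofNat 0],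
  [Int.ofNat 2, Int.ofNat 0, Int.negSucc 1, Int.ofNat 0, Int.ofNat 0, Int.ofNat 2, Int.ofNat 0, Int.ofNat 0, Int.ofNat 0, Int.ofNat 0, Int.negSucc 1, Int.ofNat 0, Int.ofNat 2, Int.ofNat 0, Int.negSucc 1, Int.ofNat 0, Int.ofNat 0, Int.ofNat 0, Int.ofNat 2, Int.ofNat 0, Int.negSucc 1, Int.ofNat 0, Int.ofNat 0, Int.ofNat 0],
  [Int.ofNat 2, Int.ofNat 2, Int.ofNat 0, Int.ofNat 0, Int.negSucc 1, Int.ofNat 0, Int.ofNat 0, Int.ofNat 2, Int.ofNat 0, Int.ofNat 2, Int.ofNat 0, Int.ofNat 0, Int.ofNat 0, Int.ofNat 0, Int.ofNat 0, Int.ofNat 0, Int.ofNat 0, Int.ofNat 0, Int.ofNat 0, Int.ofNat 0, Int.negSucc 1, Int.negSucc 1, Int.negSucc 1, Int.ofNat 0],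
  [Int.ofNat 0, Int.ofNat 0, Int.ofNat 2, Int.ofNat 0, Int.ofNat 0, Int.ofNat 0, Int.ofNat 0, Int.ofNat 2, Int.ofNat 0, Int.ofNat 2, Int.ofNat 0, Int.ofNat 0, Int.ofNat 0, Int.ofNat 2, Int.ofNat 0, Int.ofNat 0, Int.ofNat 2, Int.ofNat 0, Int.ofNat 0, Int.ofNat 0, Int.negSucc 1, Int.negSucc 1, Int.ofNat 0, Int.ofNat 2],
  [Int.negSucc 1, Int.negSucc 1, Int.ofNat 0, Int.ofNat 0, Int.ofNat 0, Int.ofNat 2, Int.ofNat 0, Int.ofNat 0, Int.ofNat 0, Int.ofNat 0, Int.ofNat 2, Int.ofNat 0, Int.ofNat 2, Int.ofNat 0, Int.ofNat 0, Int.ofNat 0, Int.ofNat 2, Int.ofNat 0, Int.ofNat 0, Int.ofNat 2, Int.ofNat 0, Int.ofNat 0, Int.ofNat 0, Int.ofNat 2],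
  [Int.ofNat 1, Int.ofNat 1, Int.negSucc 0, Int.negSucc 0, Int.negSucc 0, Int.ofNat 1, Int.negSucc 0, Int.negSucc 0, Int.negSucc 0, Int.negSucc 0, Int.ofNat 1, Int.negSucc 0, Int.ofNat 1, Int.negSucc 0, Int.negSucc 0, Int.negSucc 0, Int.ofNat 1, Int.negSucc 0, Int.negSucc 0, Int.ofNat 1, Int.negSucc 0, Int.negSucc 0, Int.negSucc 0, Int.negSucc 2],
  [Int.ofNat 1, Int.negSucc 0, Int.negSucc 0, Int.negSucc 0, Int.ofNat 1, Int.negSucc 0, Int.negSucc 0, Int.negSucc 0, Int.negSucc 0, Int.ofNat 1, Int.negSucc 0, Int.ofNat 1, Int.negSucc 0, Int.negSucc 0, Int.negSucc 0, Int.ofNat 1, Int.negSucc 0, Int.negSucc 0, Int.ofNat 1, Int.negSucc 0, Int.negSucc 0, Int.negSucc 0, Int.ofNat 1, Int.negSucc 2],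
  [Int.negSucc 0, Int.negSucc 0, Int.ofNat 1, Int.negSucc 0, Int.ofNat 1, Int.negSucc 0, Int.negSucc 0, Int.ofNat 1, Int.negSucc 0, Int.negSucc 0, Int.ofNat 1, Int.negSucc 0, Int.negSucc 0, Int.negSucc 0, Int.negSucc 0, Int.ofNat 1, Int.negSucc 0, Int.negSucc 0, Int.negSucc 0, Int.negSucc 0, Int.negSucc 0, Int.ofNat 1, Int.ofNat 1, Int.negSucc 2],
  [Int.negSucc 0, Int.ofNat 1, Int.negSucc 0, Int.negSucc 0, Int.negSucc 0, Int.ofNat 1, Int.ofNat 1, Int.negSucc 0, Int.negSucc 0, Int.negSucc 0, Int.ofNat 1, Int.negSucc 0, Int.negSucc 0, Int.negSucc 0, Int.negSucc 0, Int.ofNat 1, Int.negSucc 0, Int.ofNat 1, Int.negSucc 0, Int.negSucc 0, Int.negSucc 0, Int.ofNat 1, Int.negSucc 0, Int.negSucc 2],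
  [Int.ofNat 1, Int.ofNat 1, Int.ofNat 1, Int.negSucc 0, Int.negSucc 0, Int.ofNat 1, Int.ofNat 1, Int.ofNat 1, Int.negSucc 0, Int.ofNat 1, Int.negSucc 0, Int.ofNat 1, Int.negSucc 0, Int.negSucc 0, Int.negSucc 0, Int.ofNat 1, Int.negSucc 0, Int.ofNat 1, Int.ofNat 1, Int.negSucc 0, Int.negSucc 0, Int.negSucc 0, Int.negSucc 0, Int.negSucc 2],
  [Int.negSucc 0, Int.ofNat 1, Int.ofNat 1, Int.ofNat 1, Int.negSucc 0, Int.negSucc 0, Int.ofNat 1, Int.ofNat 1, Int.ofNat 1, Int.negSucc 0, Int.ofNat 1, Int.negSucc 0, Int.ofNat 1, Int.negSucc 0, Int.negSucc 0, Int.negSucc 0, Int.ofNat 1, Int.negSucc 0, Int.ofNat 1, Int.ofNat 1, Int.negSucc 0, Int.negSucc 0, Int.negSucc 0, Int.negSucc 2],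
  [Int.ofNat 0, Int.negSucc 1, Int.negSucc 1, Int.ofNat 2, Int.ofNat 0, Int.ofNat 0, Int.ofNat 0, Int.ofNat 0, Int.ofNat 0, Int.ofNat 0, Int.ofNat 2, Int.negSucc 1, Int.ofNat 0, Int.ofNat 0, Int.ofNat 0, Int.ofNat 0, Int.ofNat 2, Int.ofNat 0, Int.ofNat 0, Int.ofNat 0, Int.ofNat 0, Int.negSucc 1, Int.ofNat 0, Int.ofNat 2],
  [Int.ofNat 2, Int.ofNat 0, Int.ofNat 0, Int.ofNat 0, Int.ofNat 0, Int.ofNat 0, Int.ofNat 0, Int.ofNat 2, Int.negSucc 1, Int.ofNat 0, Int.ofNat 0, Int.ofNat 0, Int.ofNat 0, Int.ofNat 2, Int.ofNat 0, Int.ofNat 0, Int.ofNat 0, Int.ofNat 0, Int.negSucc 1, Int.ofNat 0, Int.ofNat 0, Int.negSucc 1, Int.negSucc 1, Int.ofNat 2],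
  [Int.ofNat 0, Int.ofNat 2, Int.ofNat 2, Int.ofNat 0, Int.ofNat 0, Int.ofNat 0, Int.ofNat 0, Int.ofNat 2, Int.ofNat 0, Int.ofNat 0, Int.ofNat 0, Int.ofNat 2, Int.ofNat 2, Int.ofNat 2, Int.ofNat 0, Int.ofNat 0, Int.ofNat 0, Int.ofNat 0, Int.ofNat 0, Int.ofNat 0, Int.ofNat 0, Int.negSucc 1, Int.negSucc 1, Int.ofNat 0],
  [Int.ofNat 0, Int.ofNat 0, Int.ofNat 0, Int.ofNat 0, Int.ofNat 0, Int.ofNat 2, Int.ofNat 2, Int.ofNat 0, Int.ofNat 2, Int.ofNat 2, Int.ofNat 0, Int.ofNat 0, Int.ofNat 0, Int.ofNat 0, Int.negSucc 1, Int.ofNat 0, Int.ofNat 0, Int.ofNat 0, Int.ofNat 2, Int.ofNat 2, Int.negSucc 1, Int.ofNat 0, Int.ofNat 0, Int.ofNat 0],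
  [Int.ofNat 0, Int.ofNat 0, Int.ofNat 0, Int.ofNat 0, Int.ofNat 0, Int.ofNat 2, Int.ofNat 0, Int.negSucc 1, Int.ofNat 0, Int.ofNat 2, Int.ofNat 0, Int.negSucc 1, Int.negSucc 1, Int.ofNat 0, Int.negSucc 1, Int.ofNat 0, Int.ofNat 0, Int.ofNat 0, Int.ofNat 0, Int.ofNat 0, Int.negSucc 1, Int.negSucc 1, Int.ofNat 0, Int.ofNat 0],
  [Int.ofNat 0, Int.ofNat 0, Int.ofNat 0, Int.ofNat 0, Int.ofNat 0, Int.negSucc 1, Int.ofNat 0, Int.negSucc 1, Int.ofNat 0, Int.negSucc 1, Int.ofNat 0, Int.negSucc 1, Int.negSucc 1, Int.ofNat 0, Int.negSucc 1, Int.ofNat 0, Int.ofNat 0, Int.ofNat 0, Int.ofNat 0, Int.ofNat 0, Int.negSucc 1, Int.negSucc 1, Int.ofNat 0, Int.ofNat 0],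
  [Int.ofNat 0, Int.ofNat 0, Int.negSucc 1, Int.ofNat 0, Int.negSucc 1, Int.ofNat 0, Int.negSucc 1, Int.ofNat 0, Int.negSucc 1, Int.negSucc 1, Int.ofNat 0, Int.negSucc 1, Int.ofNat 0, Int.ofNat 0, Int.ofNat 0, Int.ofNat 0, Int.ofNat 0, Int.negSucc 1, Int.negSucc 1, Int.ofNat 0, Int.ofNat 0, Int.ofNat 0, Int.ofNat 0, Int.ofNat 0],
  [Int.ofNat 0, Int.ofNat 0, Int.ofNat 2, Int.ofNat 0, Int.ofNat 2, Int.ofNat 0, Int.ofNat 2, Int.ofNat 0, Int.ofNat 2, Int.ofNat 2, Int.ofNat 0, Int.negSucc 1, Int.ofNat 0, Int.ofNat 0, Int.ofNat 0, Int.ofNat 0, Int.ofNat 0, Int.negSucc 1, Int.ofNat 2, Int.ofNat 0, Int.ofNat 0, Int.ofNat 0, Int.ofNat 0, Int.ofNat 0],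
  [Int.ofNat 0, Int.ofNat 0, Int.negSucc 1, Int.ofNat 0, Int.negSucc 1, Int.ofNat 2, Int.ofNat 0, Int.ofNat 0, Int.ofNat 0, Int.ofNat 0, Int.ofNat 0, Int.ofNat 2, Int.ofNat 0, Int.ofNat 0, Int.ofNat 2, Int.ofNat 0, Int.ofNat 0, Int.ofNat 2, Int.ofNat 0, Int.ofNat 2, Int.ofNat 2, Int.ofNat 0, Int.ofNat 0, Int.ofNat 0],
  [Int.ofNat 0, Int.ofNat 0, Int.ofNat 2, Int.ofNat 0, Int.negSucc 1, Int.ofNat 2, Int.ofNat 0, Int.ofNat 0, Int.ofNat 0, Int.ofNat 0, Int.ofNat 0, Int.negSucc 1, Int.ofNat 0, Int.ofNat 0, Int.ofNat 2, Int.ofNat 0, Int.ofNat 0, Int.ofNat 2, Int.ofNat 0, Int.ofNat 2, Int.ofNat 2, Int.ofNat 0, Int.ofNat 0, Int.ofNat 0],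
  [Int.ofNat 0, Int.ofNat 0, Int.ofNat 0, Int.ofNat 2, Int.ofNat 0, Int.negSucc 1, Int.ofNat 2, Int.ofNat 0, Int.ofNat 0, Int.ofNat 0, Int.ofNat 0, Int.ofNat 0, Int.negSucc 1, Int.ofNat 0, Int.ofNat 0, Int.ofNat 2, Int.ofNat 0, Int.ofNat 0, Int.ofNat 2, Int.ofNat 0, Int.ofNat 2, Int.ofNat 2, Int.ofNat 0, Int.ofNat 0],
  [Int.ofNat 0, Int.ofNat 0, Int.ofNat 0, Int.ofNat 2, Int.ofNat 0, Int.negSucc 1, Int.ofNat 0, Int.negSucc 1, Int.ofNat 0, Int.negSucc 1, Int.negSucc 1, Int.ofNat 0, Int.negSucc 1, Int.ofNat 0, Int.ofNat 0, Int.ofNat 0, Int.ofNat 0, Int.ofNat 0, Int.ofNat 2, Int.negSucc 1, Int.ofNat 0, Int.ofNat 0, Int.ofNat 0, Int.ofNat 0],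
  [Int.ofNat 2, Int.ofNat 0, Int.negSucc 1, Int.ofNat 0, Int.negSucc 1, Int.ofNat 0, Int.negSucc 1, Int.negSucc 1, Int.ofNat 0, Int.negSucc 1, Int.ofNat 0, Int.ofNat 0, Int.ofNat 0, Int.ofNat 0, Int.ofNat 0, Int.ofNat 2, Int.negSucc 1, Int.ofNat 0, Int.ofNat 0, Int.ofNat 0, Int.ofNat 0, Int.ofNat 0, Int.ofNat 0, Int.ofNat 0],
  [Int.negSucc 1, Int.ofNat 0, Int.ofNat 2, Int.ofNat 0, Int.ofNat 0, Int.ofNat 0, Int.ofNat 0, Int.ofNat 0, Int.ofNat 0, Int.negSucc 1, Int.ofNat 0, Int.ofNat 0, Int.ofNat 0, Int.ofNat 2, Int.ofNat 0, Int.ofNat 2, Int.ofNat 0, Int.ofNat 0, Int.ofNat 0, Int.ofNat 2, Int.ofNat 0, Int.ofNat 2, Int.ofNat 2, Int.ofNat 0],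
  [Int.negSucc 1, Int.ofNat 0, Int.ofNat 0, Int.ofNat 0, Int.ofNat 0, Int.ofNat 0, Int.ofNat 2, Int.ofNat 0, Int.ofNat 0, Int.ofNat 2, Int.ofNat 0, Int.ofNat 0, Int.negSucc 1, Int.ofNat 0, Int.ofNat 2, Int.ofNat 2, Int.ofNat 0, Int.ofNat 0, Int.ofNat 0, Int.ofNat 0, Int.ofNat 2, Int.ofNat 0, Int.ofNat 2, Int.ofNat 0],
  [Int.ofNat 1, Int.negSucc 0, Int.negSucc 0, Int.negSucc 0, Int.negSucc 0, Int.negSucc 0, Int.ofNat 1, Int.negSucc 0, Int.ofNat 1, Int.negSucc 0, Int.negSucc 2, Int.ofNat 1, Int.negSucc 0, Int.negSucc 0, Int.ofNat 1, Int.negSucc 0, Int.negSucc 0, Int.negSucc 0, Int.ofNat 1, Int.negSucc 0, Int.negSucc 0, Int.negSucc 0, Int.ofNat 1, Int.negSucc 0],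
  [Int.ofNat 1, Int.negSucc 0, Int.ofNat 1, Int.negSucc 0, Int.negSucc 0, Int.ofNat 1, Int.negSucc 0, Int.negSucc 0, Int.ofNat 1, Int.ofNat 1, Int.ofNat 3, Int.ofNat 1, Int.negSucc 0, Int.negSucc 0, Int.ofNat 1, Int.ofNat 1, Int.negSucc 0, Int.negSucc 0, Int.negSucc 0, Int.negSucc 0, Int.negSucc 0, Int.negSucc 0, Int.negSucc 0, Int.negSucc 0],
  [Int.ofNat 3, Int.negSucc 0, Int.negSucc 0, Int.negSucc 0, Int.negSucc 0, Int.negSucc 0, Int.ofNat 1, Int.negSucc 0, Int.negSucc 0, Int.negSucc 0, Int.ofNat 1, Int.negSucc 0, Int.ofNat 1, Int.negSucc 0, Int.negSucc 0, Int.negSucc 0, Int.ofNat 1, Int.negSucc 0, Int.ofNat 1, Int.ofNat 1, Int.ofNat 1, Int.negSucc 0, Int.ofNat 1, Int.negSucc 0],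
  [Int.ofNat 3, Int.negSucc 0, Int.ofNat 1, Int.negSucc 0, Int.negSucc 0, Int.ofNat 1, Int.negSucc 0, Int.negSucc 0, Int.negSucc 0, Int.ofNat 1, Int.negSucc 0, Int.negSucc 0, Int.ofNat 1, Int.negSucc 0, Int.negSucc 0, Int.ofNat 1, Int.ofNat 1, Int.negSucc 0, Int.negSucc 0, Int.ofNat 1, Int.ofNat 1, Int.negSucc 0, Int.negSucc 0, Int.negSucc 0],
  [Int.negSucc 1, Int.ofNat 2, Int.ofNat 0, Int.ofNat 0, Int.ofNat 0, Int.ofNat 2, Int.ofNat 0, Int.ofNat 0, Int.ofNat 0, Int.ofNat 0, Int.negSucc 1, Int.ofNat 0, Int.ofNat 2, Int.ofNat 0, Int.ofNat 0, Int.ofNat 0, Int.ofNat 2, Int.ofNat 0, Int.ofNat 0, Int.ofNat 2, Int.ofNat 0, Int.ofNat 0, Int.ofNat 0, Int.ofNat 2],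
  [Int.negSucc 1, Int.ofNat 0, Int.ofNat 0, Int.ofNat 0, Int.ofNat 0, Int.ofNat 0, Int.ofNat 2, Int.ofNat 2, Int.ofNat 2, Int.ofNat 2, Int.ofNat 0, Int.ofNat 2, Int.ofNat 0, Int.ofNat 0, Int.ofNat 0, Int.ofNat 0, Int.ofNat 0, Int.ofNat 0, Int.ofNat 0, Int.ofNat 0, Int.negSucc 1, Int.ofNat 0, Int.ofNat 0, Int.ofNat 2],
  [Int.ofNat 2, Int.ofNat 0, Int.ofNat 0, Int.ofNat 0, Int.ofNat 0, Int.ofNat 0, Int.ofNat 0, Int.ofNat 0, Int.ofNat 0, Int.ofNat 2, Int.ofNat 0, Int.ofNat 0, Int.negSucc 1, Int.ofNat 0, Int.ofNat 0, Int.ofNat 0, Int.ofNat 0, Int.ofNat 0, Int.negSucc 1, Int.negSucc 1, Int.negSucc 1, Int.negSucc 1, Int.ofNat 0, Int.negSucc 1],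
  [Int.negSucc 1, Int.negSucc 1, Int.ofNat 0, Int.ofNat 2, Int.ofNat 0, Int.ofNat 0, Int.ofNat 0, Int.ofNat 0, Int.ofNat 0, Int.ofNat 0, Int.ofNat 0, Int.ofNat 0, Int.ofNat 2, Int.ofNat 0, Int.ofNat 0, Int.negSucc 1, Int.ofNat 0, Int.ofNat 0, Int.ofNat 0, Int.ofNat 0, Int.ofNat 0, Int.negSucc 1, Int.negSucc 1, Int.negSucc 1],
  [Int.negSucc 0, Int.negSucc 0, Int.negSucc 2, Int.ofNat 1, Int.ofNat 1, Int.negSucc 0, Int.ofNat 1, Int.ofNat 1, Int.negSucc 0, Int.ofNat 1, Int.ofNat 1, Int.negSucc 0, Int.ofNat 1, Int.ofNat 1, Int.negSucc 0, Int.negSucc 0, Int.ofNat 1, Int.negSucc 0, Int.negSucc 0, Int.ofNat 1, Int.ofNat 1, Int.negSucc 0, Int.negSucc 0, Int.negSucc 0],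
  [Int.negSucc 0, Int.negSucc 2, Int.ofNat 1, Int.ofNat 1, Int.negSucc 0, Int.ofNat 1, Int.ofNat 1, Int.negSucc 0, Int.ofNat 1, Int.ofNat 1, Int.negSucc 0, Int.ofNat 1, Int.ofNat 1, Int.negSucc 0, Int.negSucc 0, Int.ofNat 1, Int.negSucc 0, Int.negSucc 0, Int.ofNat 1, Int.ofNat 1, Int.negSucc 0, Int.negSucc 0, Int.negSucc 0, Int.negSucc 0],
  [Int.ofNat 1, Int.negSucc 2, Int.negSucc 0, Int.ofNat 1, Int.negSucc 0, Int.ofNat 1, Int.ofNat 1, Int.ofNat 1, Int.ofNat 1, Int.negSucc 0, Int.ofNat 1, Int.negSucc 0, Int.ofNat 1, Int.negSucc 0, Int.negSucc 0, Int.ofNat 1, Int.negSucc 0, Int.negSucc 0, Int.negSucc 0, Int.ofNat 1, Int.negSucc 0, Int.ofNat 1, Int.negSucc 0, Int.negSucc 0],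
  [Int.ofNat 1, Int.negSucc 0, Int.negSucc 0, Int.ofNat 1, Int.negSucc 2, Int.ofNat 1, Int.negSucc 0, Int.negSucc 0, Int.negSucc 0, Int.negSucc 0, Int.ofNat 1, Int.negSucc 0, Int.negSucc 0, Int.ofNat 1, Int.ofNat 1, Int.ofNat 1, Int.ofNat 1, Int.negSucc 0, Int.ofNat 1, Int.negSucc 0, Int.ofNat 1, Int.ofNat 1, Int.negSucc 0, Int.negSucc 0],
  [Int.negSucc 0, Int.negSucc 0, Int.ofNat 1, Int.ofNat 1, Int.negSucc 2, Int.ofNat 1, Int.negSucc 0, Int.ofNat 1, Int.negSucc 0, Int.ofNat 1, Int.negSucc 0, Int.ofNat 1, Int.negSucc 0, Int.ofNat 1, Int.ofNat 1, Int.ofNat 1, Int.ofNat 1, Int.negSucc 0, Int.negSucc 0, Int.negSucc 0, Int.ofNat 1, Int.negSucc 0, Int.negSucc 0, Int.negSucc 0],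
  [Int.negSucc 0, Int.negSucc 0, Int.negSucc 0, Int.ofNat 1, Int.ofNat 1, Int.negSucc 2, Int.ofNat 1, Int.negSucc 0, Int.ofNat 1, Int.negSucc 0, Int.ofNat 1, Int.negSucc 0, Int.ofNat 1, Int.negSucc 0, Int.ofNat 1, Int.ofNat 1, Int.ofNat 1, Int.ofNat 1, Int.negSucc 0, Int.negSucc 0, Int.negSucc 0, Int.ofNat 1, Int.negSucc 0, Int.negSucc 0],
  [Int.negSucc 0, Int.negSucc 0, Int.negSucc 0, Int.ofNat 1, Int.ofNat 1, Int.negSucc 2, Int.ofNat 1, Int.negSucc 0, Int.ofNat 1, Int.negSucc 0, Int.ofNat 1, Int.negSucc 0, Int.ofNat 1, Int.negSucc 0, Int.ofNat 1, Int.ofNat 1, Int.ofNat 1, Int.ofNat 1, Int.negSucc 0, Int.negSucc 0, Int.negSucc 0, Int.ofNat 1, Int.negSucc 0, Int.negSucc 0],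
  [Int.ofNat 1, Int.ofNat 1, Int.negSucc 2, Int.ofNat 1, Int.negSucc 0, Int.ofNat 1, Int.negSucc 0, Int.ofNat 1, Int.negSucc 0, Int.ofNat 1, Int.negSucc 0, Int.ofNat 1, Int.ofNat 1, Int.ofNat 1, Int.ofNat 1, Int.negSucc 0, Int.negSucc 0, Int.negSucc 0, Int.ofNat 1, Int.negSucc 0, Int.negSucc 0, Int.negSucc 0, Int.negSucc 0, Int.negSucc 0],
  [Int.negSucc 1, Int.negSucc 1, Int.ofNat 2, Int.ofNat 0, Int.ofNat 0, Int.ofNat 0, Int.ofNat 0, Int.ofNat 2, Int.negSucc 1, Int.ofNat 2, Int.ofNat 0, Int.ofNat 0, Int.ofNat 0, Int.ofNat 2, Int.ofNat 0, Int.ofNat 0, Int.ofNat 0, Int.negSucc 1, Int.ofNat 0, Int.ofNat 0, Int.ofNat 0, Int.ofNat 0, Int.ofNat 0, Int.ofNat 0],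
  [Int.negSucc 1, Int.ofNat 0, Int.ofNat 0, Int.ofNat 0, Int.ofNat 0, Int.ofNat 2, Int.ofNat 2, Int.ofNat 0, Int.ofNat 0, Int.ofNat 2, Int.ofNat 0, Int.negSucc 1, Int.ofNat 2, Int.ofNat 0, Int.ofNat 0, Int.ofNat 0, Int.negSucc 1, Int.ofNat 0, Int.negSucc 1, Int.ofNat 0, Int.ofNat 0, Int.ofNat 0, Int.ofNat 0, Int.ofNat 0],
  [Int.ofNat 1, Int.negSucc 0, Int.negSucc 0, Int.negSucc 0, Int.ofNat 1, Int.ofNat 1, Int.ofNat 1, Int.negSucc 0, Int.ofNat 1, Int.ofNat 1, Int.negSucc 0, Int.negSucc 0, Int.ofNat 3, Int.ofNat 1, Int.negSucc 0, Int.negSucc 0, Int.negSucc 0, Int.negSucc 0, Int.negSucc 0, Int.negSucc 0, Int.negSucc 0, Int.negSucc 0, Int.ofNat 1, Int.negSucc 0],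
  [Int.ofNat 1, Int.negSucc 0, Int.ofNat 1, Int.negSucc 0, Int.ofNat 1, Int.negSucc 0, Int.negSucc 0, Int.negSucc 0, Int.ofNat 1, Int.negSucc 0, Int.ofNat 1, Int.negSucc 0, Int.ofNat 3, Int.ofNat 1, Int.negSucc 0, Int.ofNat 1, Int.negSucc 0, Int.negSucc 0, Int.ofNat 1, Int.negSucc 0, Int.negSucc 0, Int.negSucc 0, Int.negSucc 0, Int.negSucc 0],
  [Int.ofNat 1, Int.negSucc 0, Int.negSucc 0, Int.ofNat 1, Int.negSucc 0, Int.negSucc 0, Int.negSucc 0, Int.negSucc 0, Int.negSucc 0, Int.negSucc 0, Int.ofNat 1, Int.negSucc 0, Int.ofNat 1, Int.ofNat 1, Int.negSucc 0, Int.ofNat 1, Int.negSucc 0, Int.ofNat 3, Int.negSucc 0, Int.ofNat 1, Int.ofNat 1, Int.negSucc 0, Int.negSucc 0, Int.negSucc 0],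
  [Int.negSucc 0, Int.ofNat 1, Int.ofNat 1, Int.negSucc 0, Int.ofNat 1, Int.negSucc 0, Int.ofNat 1, Int.negSucc 0, Int.ofNat 1, Int.ofNat 1, Int.ofNat 1, Int.negSucc 0, Int.negSucc 0, Int.negSucc 0, Int.negSucc 0, Int.ofNat 1, Int.ofNat 1, Int.ofNat 3, Int.ofNat 1, Int.ofNat 1, Int.ofNat 1, Int.negSucc 0, Int.negSucc 0, Int.negSucc 0],
  [Int.negSucc 0, Int.negSucc 0, Int.negSucc 0, Int.ofNat 1, Int.ofNat 3, Int.ofNat 1, Int.ofNat 1, Int.negSucc 0, Int.ofNat 1, Int.negSucc 0, Int.ofNat 1, Int.ofNat 1, Int.negSucc 0, Int.negSucc 0, Int.ofNat 1, Int.negSucc 0, Int.ofNat 1, Int.ofNat 1, Int.negSucc 0, Int.ofNat 1, Int.ofNat 1, Int.negSucc 0, Int.ofNat 1, Int.negSucc 0],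
  [Int.ofNat 1, Int.negSucc 0, Int.ofNat 1, Int.ofNat 1, Int.ofNat 3, Int.ofNat 1, Int.ofNat 1, Int.ofNat 1, Int.ofNat 1, Int.ofNat 1, Int.negSucc 0, Int.negSucc 0, Int.negSucc 0, Int.negSucc 0, Int.ofNat 1, Int.negSucc 0, Int.ofNat 1, Int.ofNat 1, Int.ofNat 1, Int.ofNat 1, Int.ofNat 1, Int.ofNat 1, Int.ofNat 1, Int.negSucc 0],
  [Int.ofNat 1, Int.ofNat 1, Int.negSucc 0, Int.ofNat 1, Int.ofNat 1, Int.ofNat 3, Int.ofNat 1, Int.ofNat 1, Int.ofNat 1, Int.ofNat 1, Int.ofNat 1, Int.negSucc 0, Int.negSucc 0, Int.negSucc 0, Int.negSucc 0, Int.ofNat 1, Int.negSucc 0, Int.ofNat 1, Int.ofNat 1, Int.ofNat 1, Int.ofNat 1, Int.ofNat 1, Int.ofNat 1, Int.negSucc 0],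
  [Int.negSucc 0, Int.negSucc 0, Int.ofNat 1, Int.negSucc 0, Int.ofNat 1, Int.ofNat 1, Int.negSucc 0, Int.negSucc 0, Int.ofNat 1, Int.negSucc 0, Int.negSucc 0, Int.negSucc 0, Int.negSucc 0, Int.negSucc 0, Int.negSucc 2, Int.negSucc 0, Int.negSucc 0, Int.negSucc 0, Int.ofNat 1, Int.negSucc 0, Int.negSucc 0, Int.negSucc 0, Int.ofNat 1, Int.ofNat 1],
  [Int.negSucc 0, Int.ofNat 1, Int.ofNat 1, Int.negSucc 0, Int.negSucc 0, Int.ofNat 1, Int.negSucc 0, Int.negSucc 0, Int.negSucc 0, Int.negSucc 0, Int.negSucc 0, Int.negSucc 2, Int.negSucc 0, Int.negSucc 0, Int.negSucc 0, Int.ofNat 1, Int.negSucc 0, Int.negSucc 0, Int.negSucc 0, Int.ofNat 1, Int.negSucc 0, Int.negSucc 0, Int.ofNat 1, Int.ofNat 1],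
  [Int.ofNat 2, Int.ofNat 0, Int.ofNat 0, Int.ofNat 0, Int.ofNat 0, Int.ofNat 2, Int.ofNat 0, Int.ofNat 0, Int.ofNat 2, Int.ofNat 0, Int.ofNat 0, Int.ofNat 0, Int.ofNat 2, Int.ofNat 0, Int.ofNat 0, Int.ofNat 2, Int.ofNat 0, Int.ofNat 0, Int.ofNat 2, Int.ofNat 2, Int.ofNat 0, Int.ofNat 0, Int.ofNat 2, Int.ofNat 0],
  [Int.ofNat 2, Int.ofNat 0, Int.ofNat 0, Int.ofNat 0, Int.ofNat 2, Int.ofNat 0, Int.ofNat 0, Int.ofNat 0, Int.ofNat 2, Int.ofNat 0, Int.ofNat 0, Int.ofNat 0, Int.ofNat 0, Int.ofNat 0, Int.ofNat 2, Int.ofNat 2, Int.ofNat 2, Int.ofNat 0, Int.ofNat 0, Int.ofNat 0, Int.ofNat 0, Int.ofNat 2, Int.ofNat 2, Int.ofNat 0],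
  [Int.negSucc 0, Int.ofNat 1, Int.ofNat 1, Int.negSucc 0, Int.negSucc 0, Int.negSucc 0, Int.negSucc 0, Int.negSucc 0, Int.ofNat 1, Int.negSucc 0, Int.negSucc 0, Int.negSucc 0, Int.negSucc 0, Int.negSucc 2, Int.ofNat 1, Int.ofNat 1, Int.negSucc 0, Int.negSucc 0, Int.negSucc 0, Int.negSucc 0, Int.negSucc 0, Int.ofNat 1, Int.negSucc 0, Int.ofNat 1],
  [Int.negSucc 0, Int.ofNat 1, Int.negSucc 0, Int.negSucc 0, Int.negSucc 0, Int.ofNat 1, Int.ofNat 1, Int.negSucc 0, Int.ofNat 1, Int.ofNat 1, Int.ofNat 1, Int.negSucc 0, Int.negSucc 0, Int.negSucc 2, Int.ofNat 1, Int.negSucc 0, Int.negSucc 0, Int.negSucc 0, Int.ofNat 1, Int.negSucc 0, Int.negSucc 0, Int.ofNat 1, Int.ofNat 1, Int.ofNat 1],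
  [Int.ofNat 1, Int.negSucc 0, Int.ofNat 1, Int.negSucc 2, Int.negSucc 0, Int.negSucc 0, Int.ofNat 1, Int.negSucc 0, Int.ofNat 1, Int.ofNat 1, Int.ofNat 1, Int.ofNat 1, Int.negSucc 0, Int.negSucc 0, Int.negSucc 0, Int.ofNat 1, Int.ofNat 1, Int.negSucc 0, Int.ofNat 1, Int.negSucc 0, Int.negSucc 0, Int.negSucc 0, Int.negSucc 0, Int.ofNat 1],
  [Int.ofNat 1, Int.negSucc 0, Int.negSucc 0, Int.negSucc 2, Int.negSucc 0, Int.ofNat 1, Int.negSucc 0, Int.negSucc 0, Int.ofNat 1, Int.negSucc 0, Int.negSucc 0, Int.ofNat 1, Int.negSucc 0, Int.negSucc 0, Int.negSucc 0, Int.negSucc 0, Int.ofNat 1, Int.negSucc 0, Int.negSucc 0, Int.negSucc 0, Int.negSucc 0, Int.negSucc 0, Int.ofNat 1, Int.ofNat 1],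
  [Int.negSucc 0, Int.ofNat 1, Int.ofNat 1, Int.negSucc 0, Int.negSucc 0, Int.ofNat 3, Int.ofNat 1, Int.ofNat 1, Int.ofNat 1, Int.ofNat 1, Int.ofNat 1, Int.ofNat 1, Int.negSucc 0, Int.negSucc 0, Int.ofNat 1, Int.ofNat 1, Int.ofNat 1, Int.ofNat 1, Int.negSucc 0, Int.ofNat 1, Int.ofNat 1, Int.ofNat 1, Int.ofNat 1, Int.negSucc 0],
  [Int.negSucc 0, Int.negSucc 0, Int.ofNat 1, Int.negSucc 0, Int.ofNat 1, Int.ofNat 1, Int.ofNat 1, Int.ofNat 3, Int.ofNat 1, Int.negSucc 0, Int.ofNat 1, Int.ofNat 1, Int.ofNat 1, Int.ofNat 1, Int.ofNat 1, Int.ofNat 1, Int.negSucc 0, Int.ofNat 1, Int.negSucc 0, Int.ofNat 1, Int.ofNat 1, Int.ofNat 1, Int.ofNat 1, Int.negSucc 0],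
  [Int.ofNat 0, Int.ofNat 0, Int.negSucc 1, Int.negSucc 1, Int.ofNat 0, Int.ofNat 0, Int.negSucc 1, Int.ofNat 0, Int.ofNat 0, Int.negSucc 1, Int.ofNat 0, Int.ofNat 0, Int.ofNat 0, Int.ofNat 0, Int.ofNat 0, Int.ofNat 0, Int.negSucc 1, Int.ofNat 0, Int.negSucc 1, Int.negSucc 1, Int.ofNat 0, Int.negSucc 1, Int.ofNat 0, Int.ofNat 0],
  [Int.ofNat 0, Int.negSucc 1, Int.ofNat 0, Int.ofNat 0, Int.ofNat 0, Int.negSucc 1, Int.negSucc 1, Int.ofNat 0, Int.ofNat 0, Int.negSucc 1, Int.ofNat 0, Int.ofNat 0, Int.negSucc 1, Int.ofNat 0, Int.ofNat 0, Int.ofNat 0, Int.ofNat 0, Int.ofNat 0, Int.ofNat 0, Int.negSucc 1, Int.ofNat 0, Int.negSucc 1, Int.negSucc 1, Int.ofNat 0],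
  [Int.negSucc 0, Int.ofNat 1, Int.negSucc 0, Int.ofNat 1, Int.ofNat 1, Int.negSucc 0, Int.ofNat 1, Int.ofNat 3, Int.ofNat 1, Int.negSucc 0, Int.ofNat 1, Int.ofNat 1, Int.negSucc 0, Int.ofNat 1, Int.ofNat 1, Int.ofNat 1, Int.ofNat 1, Int.ofNat 1, Int.ofNat 1, Int.ofNat 1, Int.ofNat 1, Int.ofNat 1, Int.negSucc 0, Int.negSucc 0],
  [Int.ofNat 1, Int.negSucc 0, Int.ofNat 1, Int.ofNat 1, Int.negSucc 0, Int.ofNat 1, Int.ofNat 3, Int.ofNat 1, Int.negSucc 0, Int.ofNat 1, Int.ofNat 1, Int.negSucc 0, Int.ofNat 1, Int.ofNat 1, Int.ofNat 1, Int.ofNat 1, Int.ofNat 1, Int.ofNat 1, Int.ofNat 1, Int.ofNat 1, Int.ofNat 1, Int.negSucc 0, Int.negSucc 0, Int.negSucc 0],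
  [Int.negSucc 0, Int.negSucc 0, Int.negSucc 0, Int.ofNat 1, Int.negSucc 0, Int.ofNat 1, Int.ofNat 3, Int.negSucc 0, Int.negSucc 0, Int.negSucc 0, Int.negSucc 0, Int.ofNat 1, Int.ofNat 1, Int.ofNat 1, Int.ofNat 1, Int.ofNat 1, Int.ofNat 1, Int.ofNat 1, Int.negSucc 0, Int.ofNat 1, Int.ofNat 1, Int.ofNat 1, Int.negSucc 0, Int.negSucc 0],
  [Int.negSucc 0, Int.negSucc 0, Int.negSucc 0, Int.ofNat 1, Int.negSucc 0, Int.negSucc 0, Int.negSucc 0, Int.ofNat 1, Int.negSucc 0, Int.ofNat 1, Int.ofNat 1, Int.ofNat 1, Int.ofNat 1, Int.negSucc 0, Int.ofNat 1, Int.ofNat 1, Int.ofNat 1, Int.negSucc 0, Int.ofNat 3, Int.ofNat 1, Int.ofNat 1, Int.negSucc 0, Int.ofNat 1, Int.negSucc 0],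
  [Int.ofNat 1, Int.negSucc 0, Int.ofNat 1, Int.ofNat 1, Int.negSucc 0, Int.negSucc 0, Int.negSucc 0, Int.negSucc 0, Int.negSucc 0, Int.negSucc 0, Int.negSucc 0, Int.negSucc 0, Int.ofNat 1, Int.negSucc 0, Int.ofNat 1, Int.ofNat 1, Int.ofNat 1, Int.negSucc 0, Int.negSucc 2, Int.ofNat 1, Int.ofNat 1, Int.ofNat 1, Int.ofNat 1, Int.negSucc 0],
  [Int.ofNat 1, Int.ofNat 1, Int.negSucc 0, Int.ofNat 1, Int.ofNat 1, Int.negSucc 0, Int.negSucc 0, Int.negSucc 0, Int.negSucc 0, Int.negSucc 0, Int.negSucc 0, Int.negSucc 0, Int.negSucc 0, Int.ofNat 1, Int.negSucc 0, Int.ofNat 1, Int.ofNat 1, Int.ofNat 1, Int.negSucc 0, Int.negSucc 2, Int.ofNat 1, Int.ofNat 1, Int.ofNat 1, Int.negSucc 0],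
  [Int.negSucc 0, Int.negSucc 0, Int.ofNat 1, Int.ofNat 1, Int.negSucc 0, Int.negSucc 0, Int.ofNat 1, Int.ofNat 1, Int.ofNat 1, Int.negSucc 0, Int.negSucc 0, Int.ofNat 1, Int.ofNat 1, Int.negSucc 0, Int.negSucc 0, Int.ofNat 1, Int.negSucc 0, Int.ofNat 1, Int.ofNat 1, Int.negSucc 0, Int.ofNat 1, Int.ofNat 3, Int.negSucc 0, Int.ofNat 1],
  [Int.ofNat 1, Int.negSucc 0, Int.negSucc 0, Int.ofNat 1, Int.ofNat 1, Int.ofNat 1, Int.negSucc 0, Int.negSucc 0, Int.ofNat 1, Int.ofNat 1, Int.negSucc 0, Int.negSucc 0, Int.ofNat 1, Int.negSucc 0, Int.ofNat 1, Int.ofNat 1, Int.negSucc 0, Int.ofNat 1, Int.ofNat 3, Int.negSucc 0, Int.negSucc 0, Int.negSucc 0, Int.ofNat 1, Int.ofNat 1],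
  [Int.negSucc 0, Int.ofNat 1, Int.ofNat 1, Int.negSucc 0, Int.ofNat 1, Int.negSucc 0, Int.ofNat 1, Int.ofNat 1, Int.negSucc 0, Int.ofNat 1, Int.negSucc 0, Int.negSucc 2, Int.negSucc 0, Int.negSucc 0, Int.negSucc 0, Int.ofNat 1, Int.negSucc 0, Int.negSucc 0, Int.ofNat 1, Int.ofNat 1, Int.negSucc 0, Int.ofNat 1, Int.ofNat 1, Int.negSucc 0],
  [Int.negSucc 0, Int.ofNat 1, Int.ofNat 1, Int.negSucc 0, Int.ofNat 1, Int.ofNat 1, Int.ofNat 1, Int.negSucc 0, Int.negSucc 0, Int.negSucc 0, Int.negSucc 0, Int.negSucc 0, Int.ofNat 1, Int.negSucc 0, Int.ofNat 1, Int.ofNat 1, Int.negSucc 0, Int.negSucc 0, Int.ofNat 1, Int.negSucc 2, Int.ofNat 1, Int.negSucc 0, Int.ofNat 1, Int.negSucc 0],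
  [Int.ofNat 1, Int.negSucc 0, Int.negSucc 0, Int.negSucc 0, Int.ofNat 1, Int.ofNat 1, Int.ofNat 3, Int.ofNat 1, Int.negSucc 0, Int.negSucc 0, Int.negSucc 0, Int.negSucc 0, Int.ofNat 1, Int.negSucc 0, Int.ofNat 1, Int.ofNat 1, Int.negSucc 0, Int.negSucc 0, Int.ofNat 1, Int.negSucc 0, Int.ofNat 1, Int.ofNat 1, Int.ofNat 1, Int.ofNat 1],
  [Int.ofNat 1, Int.negSucc 0, Int.ofNat 1, Int.negSucc 0, Int.ofNat 1, Int.negSucc 0, Int.negSucc 2, Int.ofNat 1, Int.negSucc 0, Int.ofNat 1, Int.ofNat 1, Int.negSucc 0, Int.ofNat 1, Int.negSucc 0, Int.ofNat 1, Int.negSucc 0, Int.negSucc 0, Int.negSucc 0, Int.negSucc 0, Int.negSucc 0, Int.ofNat 1, Int.ofNat 1, Int.negSucc 0, Int.ofNat 1],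
  [Int.ofNat 1, Int.negSucc 0, Int.negSucc 0, Int.negSucc 0, Int.ofNat 1, Int.negSucc 2, Int.ofNat 1, Int.negSucc 0, Int.negSucc 0, Int.ofNat 1, Int.negSucc 0, Int.ofNat 1, Int.negSucc 0, Int.ofNat 1, Int.negSucc 0, Int.negSucc 0, Int.negSucc 0, Int.ofNat 1, Int.ofNat 1, Int.ofNat 1, Int.ofNat 1, Int.negSucc 0, Int.negSucc 0, Int.ofNat 1],
  [Int.negSucc 0, Int.ofNat 1, Int.ofNat 1, Int.ofNat 1, Int.negSucc 0, Int.negSucc 2, Int.negSucc 0, Int.negSucc 0, Int.ofNat 1, Int.negSucc 0, Int.negSucc 0, Int.ofNat 1, Int.ofNat 1, Int.negSucc 0, Int.negSucc 0, Int.negSucc 0, Int.ofNat 1, Int.ofNat 1, Int.negSucc 0, Int.ofNat 1, Int.ofNat 1, Int.negSucc 0, Int.negSucc 0, Int.ofNat 1],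
  [Int.ofNat 1, Int.negSucc 0, Int.ofNat 1, Int.negSucc 0, Int.ofNat 1, Int.negSucc 0, Int.ofNat 1, Int.negSucc 0, Int.ofNat 1, Int.negSucc 2, Int.ofNat 1, Int.ofNat 1, Int.negSucc 0, Int.negSucc 0, Int.negSucc 0, Int.ofNat 1, Int.negSucc 0, Int.negSucc 0, Int.negSucc 0, Int.negSucc 0, Int.ofNat 1, Int.ofNat 1, Int.ofNat 1, Int.negSucc 0],
  [Int.negSucc 0, Int.negSucc 0, Int.negSucc 0, Int.negSucc 0, Int.ofNat 1, Int.negSucc 0, Int.ofNat 1, Int.ofNat 1, Int.ofNat 1, Int.ofNat 3, Int.negSucc 0, Int.negSucc 0, Int.negSucc 0, Int.negSucc 0, Int.negSucc 0, Int.ofNat 1, Int.negSucc 0, Int.negSucc 0, Int.ofNat 1, Int.negSucc 0, Int.ofNat 1, Int.negSucc 0, Int.ofNat 1, Int.negSucc 0],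
  [Int.ofNat 1, Int.negSucc 0, Int.negSucc 0, Int.negSucc 0, Int.negSucc 0, Int.ofNat 1, Int.negSucc 0, Int.ofNat 1, Int.ofNat 1, Int.ofNat 1, Int.ofNat 3, Int.negSucc 0, Int.negSucc 0, Int.negSucc 0, Int.negSucc 0, Int.negSucc 0, Int.ofNat 1, Int.negSucc 0, Int.negSucc 0, Int.ofNat 1, Int.negSucc 0, Int.ofNat 1, Int.negSucc 0, Int.negSucc 0],
  [Int.negSucc 1, Int.ofNat 0, Int.ofNat 0, Int.ofNat 0, Int.ofNat 0, Int.ofNat 2, Int.negSucc 1, Int.ofNat 0, Int.ofNat 2, Int.ofNat 0, Int.ofNat 2, Int.ofNat 0, Int.ofNat 0, Int.ofNat 0, Int.ofNat 0, Int.negSucc 1, Int.ofNat 2, Int.ofNat 0, Int.ofNat 0, Int.ofNat 0, Int.negSucc 1, Int.ofNat 0, Int.ofNat 0, Int.ofNat 0],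
  [Int.ofNat 0, Int.ofNat 0, Int.ofNat 2, Int.negSucc 1, Int.ofNat 0, Int.ofNat 2, Int.ofNat 0, Int.ofNat 2, Int.ofNat 0, Int.ofNat 0, Int.ofNat 0, Int.ofNat 0, Int.negSucc 1, Int.ofNat 2, Int.ofNat 0, Int.ofNat 0, Int.ofNat 0, Int.negSucc 1, Int.ofNat 0, Int.ofNat 0, Int.negSucc 1, Int.ofNat 0, Int.ofNat 0, Int.ofNat 0],
  [Int.ofNat 1, Int.ofNat 1, Int.negSucc 0, Int.negSucc 0, Int.negSucc 0, Int.ofNat 3, Int.negSucc 0, Int.ofNat 1, Int.ofNat 1, Int.ofNat 1, Int.ofNat 1, Int.ofNat 1, Int.negSucc 0, Int.ofNat 1, Int.ofNat 1, Int.ofNat 1, Int.negSucc 0, Int.negSucc 0, Int.ofNat 1, Int.negSucc 0, Int.negSucc 0, Int.negSucc 0, Int.negSucc 0, Int.ofNat 1],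
  [Int.ofNat 1, Int.negSucc 0, Int.negSucc 0, Int.negSucc 0, Int.ofNat 1, Int.ofNat 1, Int.negSucc 0, Int.ofNat 1, Int.negSucc 0, Int.ofNat 1, Int.negSucc 0, Int.negSucc 0, Int.ofNat 1, Int.negSucc 0, Int.negSucc 0, Int.ofNat 1, Int.ofNat 1, Int.ofNat 1, Int.ofNat 1, Int.ofNat 1, Int.negSucc 0, Int.ofNat 3, Int.negSucc 0, Int.ofNat 1],
  [Int.negSucc 0, Int.ofNat 1, Int.ofNat 1, Int.negSucc 0, Int.ofNat 1, Int.ofNat 1, Int.negSucc 2, Int.negSucc 0, Int.negSucc 0, Int.ofNat 1, Int.negSucc 0, Int.negSucc 0, Int.ofNat 1, Int.negSucc 0, Int.negSucc 0, Int.ofNat 1, Int.ofNat 1, Int.ofNat 1, Int.ofNat 1, Int.negSucc 0, Int.negSucc 0, Int.ofNat 1, Int.negSucc 0, Int.negSucc 0],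
  [Int.negSucc 0, Int.ofNat 1, Int.negSucc 0, Int.negSucc 0, Int.ofNat 1, Int.negSucc 0, Int.ofNat 3, Int.negSucc 0, Int.negSucc 0, Int.negSucc 0, Int.ofNat 1, Int.negSucc 0, Int.ofNat 1, Int.negSucc 0, Int.negSucc 0, Int.negSucc 0, Int.ofNat 1, Int.ofNat 1, Int.negSucc 0, Int.negSucc 0, Int.negSucc 0, Int.ofNat 1, Int.ofNat 1, Int.negSucc 0],
  [Int.ofNat 1, Int.ofNat 1, Int.ofNat 1, Int.negSucc 0, Int.negSucc 0, Int.negSucc 0, Int.negSucc 0, Int.ofNat 1, Int.ofNat 1, Int.ofNat 1, Int.negSucc 0, Int.ofNat 3, Int.negSucc 0, Int.ofNat 1, Int.negSucc 0, Int.negSucc 0, Int.negSucc 0, Int.ofNat 1, Int.negSucc 0, Int.negSucc 0, Int.negSucc 0, Int.negSucc 0, Int.negSucc 0, Int.negSucc 0],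
  [Int.ofNat 1, Int.ofNat 1, Int.negSucc 0, Int.negSucc 0, Int.negSucc 0, Int.ofNat 1, Int.ofNat 1, Int.ofNat 1, Int.ofNat 1, Int.negSucc 0, Int.ofNat 1, Int.ofNat 3, Int.negSucc 0, Int.ofNat 1, Int.negSucc 0, Int.ofNat 1, Int.negSucc 0, Int.ofNat 1, Int.ofNat 1, Int.negSucc 0, Int.negSucc 0, Int.negSucc 0, Int.ofNat 1, Int.negSucc 0],
  [Int.negSucc 0, Int.negSucc 0, Int.ofNat 1, Int.negSucc 0, Int.negSucc 0, Int.ofNat 1, Int.ofNat 1, Int.ofNat 1, Int.negSucc 0, Int.negSucc 0, Int.ofNat 1, Int.ofNat 1, Int.negSucc 2, Int.ofNat 1, Int.negSucc 0, Int.ofNat 1, Int.negSucc 0, Int.ofNat 1, Int.negSucc 0, Int.negSucc 0, Int.negSucc 0, Int.negSucc 0, Int.ofNat 1, Int.ofNat 1],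
  [Int.negSucc 0, Int.negSucc 0, Int.ofNat 1, Int.negSucc 0, Int.ofNat 1, Int.negSucc 0, Int.negSucc 0, Int.ofNat 1, Int.negSucc 0, Int.negSucc 2, Int.ofNat 1, Int.negSucc 0, Int.negSucc 0, Int.negSucc 0, Int.ofNat 1, Int.ofNat 1, Int.ofNat 1, Int.ofNat 1, Int.negSucc 0, Int.ofNat 1, Int.ofNat 1, Int.negSucc 0, Int.negSucc 0, Int.ofNat 1],
  [Int.ofNat 1, Int.ofNat 1, Int.negSucc 0, Int.negSucc 0, Int.ofNat 1, Int.negSucc 0, Int.negSucc 0, Int.ofNat 1, Int.ofNat 1, Int.negSucc 2, Int.ofNat 1, Int.ofNat 1, Int.ofNat 1, Int.negSucc 0, Int.ofNat 1, Int.ofNat 1, Int.ofNat 1, Int.ofNat 1, Int.ofNat 1, Int.ofNat 1, Int.ofNat 1, Int.negSucc 0, Int.negSucc 0, Int.negSucc 0],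
  [Int.ofNat 1, Int.negSucc 0, Int.negSucc 0, Int.ofNat 1, Int.ofNat 1, Int.negSucc 0, Int.negSucc 0, Int.ofNat 1, Int.negSucc 0, Int.negSucc 0, Int.ofNat 1, Int.ofNat 1, Int.negSucc 2, Int.ofNat 1, Int.ofNat 1, Int.ofNat 1, Int.negSucc 0, Int.ofNat 1, Int.ofNat 1, Int.ofNat 1, Int.ofNat 1, Int.ofNat 1, Int.ofNat 1, Int.negSucc 0],
  [Int.negSucc 1, Int.ofNat 0, Int.ofNat 0, Int.ofNat 0, Int.ofNat 0, Int.negSucc 1, Int.negSucc 1, Int.ofNat 0, Int.ofNat 0, Int.negSucc 1, Int.ofNat 0, Int.ofNat 2, Int.negSucc 1, Int.ofNat 0, Int.ofNat 0, Int.ofNat 0, Int.negSucc 1, Int.ofNat 0, Int.ofNat 2, Int.ofNat 0, Int.ofNat 0, Int.ofNat 0, Int.ofNat 0, Int.ofNat 0],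
  [Int.ofNat 0, Int.ofNat 0, Int.ofNat 0, Int.ofNat 0, Int.negSucc 1, Int.negSucc 1, Int.ofNat 0, Int.ofNat 0, Int.negSucc 1, Int.ofNat 0, Int.ofNat 2, Int.negSucc 1, Int.ofNat 0, Int.ofNat 0, Int.ofNat 0, Int.negSucc 1, Int.ofNat 0, Int.ofNat 2, Int.ofNat 0, Int.ofNat 0, Int.ofNat 0, Int.ofNat 0, Int.negSucc 1, Int.ofNat 0],
  [Int.ofNat 0, Int.ofNat 0, Int.ofNat 0, Int.ofNat 0, Int.negSucc 1, Int.negSucc 1, Int.ofNat 0, Int.ofNat 0, Int.negSucc 1, Int.ofNat 0, Int.negSucc 1, Int.ofNat 2, Int.ofNat 0, Int.ofNat 0, Int.ofNat 0, Int.negSucc 1, Int.ofNat 0, Int.ofNat 2, Int.ofNat 0, Int.ofNat 0, Int.ofNat 0, Int.ofNat 0, Int.negSucc 1, Int.ofNat 0],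
  [Int.ofNat 0, Int.ofNat 0, Int.ofNat 0, Int.ofNat 0, Int.ofNat 0, Int.negSucc 1, Int.negSucc 1, Int.ofNat 0, Int.ofNat 0, Int.ofNat 0, Int.ofNat 0, Int.ofNat 0, Int.ofNat 0, Int.negSucc 1, Int.ofNat 0, Int.negSucc 1, Int.ofNat 0, Int.negSucc 1, Int.ofNat 0, Int.ofNat 2, Int.negSucc 1, Int.ofNat 0, Int.ofNat 2, Int.ofNat 0],
  [Int.ofNat 0, Int.ofNat 0, Int.ofNat 0, Int.ofNat 0, Int.ofNat 0, Int.negSucc 1, Int.negSucc 1, Int.ofNat 0, Int.ofNat 0, Int.ofNat 0, Int.ofNat 0, Int.ofNat 0, Int.ofNat 0, Int.negSucc 1, Int.ofNat 0, Int.negSucc 1, Int.ofNat 0, Int.negSucc 1, Int.ofNat 0, Int.ofNat 2, Int.negSucc 1, Int.ofNat 0, Int.ofNat 2, Int.ofNat 0],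
  [Int.ofNat 2, Int.ofNat 0, Int.ofNat 0, Int.ofNat 0, Int.ofNat 0, Int.ofNat 0, Int.negSucc 1, Int.negSucc 1, Int.ofNat 0, Int.ofNat 0, Int.ofNat 0, Int.ofNat 0, Int.ofNat 0, Int.ofNat 0, Int.negSucc 1, Int.ofNat 0, Int.negSucc 1, Int.ofNat 0, Int.negSucc 1, Int.ofNat 0, Int.ofNat 2, Int.negSucc 1, Int.ofNat 0, Int.ofNat 0],
  [Int.negSucc 0, Int.ofNat 1, Int.ofNat 1, Int.ofNat 1, Int.ofNat 1, Int.ofNat 1, Int.ofNat 1, Int.ofNat 1, Int.ofNat 1, Int.negSucc 0, Int.negSucc 0, Int.ofNat 1, Int.ofNat 1, Int.ofNat 1, Int.negSucc 0, Int.negSucc 0, Int.negSucc 0, Int.ofNat 1, Int.negSucc 0, Int.ofNat 3, Int.ofNat 1, Int.ofNat 1, Int.ofNat 1, Int.ofNat 1],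
  [Int.ofNat 1, Int.ofNat 1, Int.ofNat 1, Int.ofNat 1, Int.ofNat 1, Int.ofNat 1, Int.negSucc 0, Int.negSucc 0, Int.ofNat 1, Int.ofNat 1, Int.ofNat 1, Int.negSucc 0, Int.negSucc 0, Int.negSucc 0, Int.ofNat 1, Int.negSucc 0, Int.ofNat 3, Int.ofNat 1, Int.ofNat 1, Int.ofNat 1, Int.negSucc 0, Int.ofNat 1, Int.ofNat 1, Int.ofNat 1],
  [Int.ofNat 1, Int.ofNat 1, Int.ofNat 1, Int.negSucc 0, Int.negSucc 0, Int.negSucc 0, Int.negSucc 0, Int.negSucc 0, Int.ofNat 1, Int.ofNat 1, Int.ofNat 1, Int.negSucc 0, Int.negSucc 0, Int.negSucc 2, Int.negSucc 0, Int.negSucc 0, Int.ofNat 1, Int.negSucc 0, Int.ofNat 1, Int.ofNat 1, Int.negSucc 0, Int.ofNat 1, Int.negSucc 0, Int.ofNat 1],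
  [Int.ofNat 1, Int.negSucc 0, Int.negSucc 0, Int.negSucc 0, Int.ofNat 1, Int.negSucc 0, Int.ofNat 1, Int.ofNat 1, Int.negSucc 0, Int.negSucc 2, Int.negSucc 0, Int.negSucc 0, Int.ofNat 1, Int.ofNat 1, Int.negSucc 0, Int.negSucc 0, Int.ofNat 1, Int.negSucc 0, Int.ofNat 1, Int.negSucc 0, Int.ofNat 1, Int.negSucc 0, Int.ofNat 1, Int.ofNat 1],
  [Int.negSucc 0, Int.ofNat 1, Int.ofNat 1, Int.ofNat 1, Int.negSucc 0, Int.ofNat 1, Int.ofNat 1, Int.ofNat 1, Int.negSucc 0, Int.negSucc 0, Int.ofNat 1, Int.negSucc 0, Int.ofNat 1, Int.negSucc 0, Int.ofNat 1, Int.ofNat 1, Int.negSucc 0, Int.ofNat 1, Int.ofNat 1, Int.negSucc 0, Int.ofNat 3, Int.negSucc 0, Int.negSucc 0, Int.negSucc 0],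
  [Int.negSucc 0, Int.ofNat 1, Int.negSucc 0, Int.ofNat 1, Int.negSucc 0, Int.negSucc 0, Int.negSucc 0, Int.ofNat 1, Int.negSucc 0, Int.ofNat 1, Int.negSucc 0, Int.negSucc 0, Int.ofNat 1, Int.negSucc 0, Int.ofNat 1, Int.negSucc 0, Int.negSucc 0, Int.ofNat 1, Int.negSucc 0, Int.negSucc 0, Int.ofNat 3, Int.negSucc 0, Int.ofNat 1, Int.negSucc 0],
  [Int.negSucc 0, Int.negSucc 0, Int.negSucc 0, Int.negSucc 0, Int.ofNat 1, Int.negSucc 0, Int.negSucc 0, Int.ofNat 1, Int.negSucc 0, Int.ofNat 3, Int.negSucc 0, Int.ofNat 1, Int.negSucc 0, Int.negSucc 0, Int.ofNat 1, Int.negSucc 0, Int.negSucc 0, Int.ofNat 1, Int.ofNat 1, Int.negSucc 0, Int.negSucc 0, Int.ofNat 1, Int.ofNat 1, Int.negSucc 0],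
  [Int.ofNat 1, Int.ofNat 1, Int.ofNat 1, Int.ofNat 1, Int.negSucc 0, Int.negSucc 0, Int.ofNat 1, Int.ofNat 1, Int.ofNat 1, Int.negSucc 2, Int.negSucc 0, Int.ofNat 1, Int.ofNat 1, Int.ofNat 1, Int.ofNat 1, Int.negSucc 0, Int.ofNat 1, Int.ofNat 1, Int.negSucc 0, Int.negSucc 0, Int.negSucc 0, Int.ofNat 1, Int.ofNat 1, Int.negSucc 0],
  [Int.negSucc 0, Int.ofNat 1, Int.ofNat 1, Int.negSucc 0, Int.ofNat 1, Int.negSucc 2, Int.negSucc 0, Int.ofNat 1, Int.negSucc 0, Int.negSucc 0, Int.ofNat 1, Int.ofNat 1, Int.ofNat 1, Int.ofNat 1, Int.negSucc 0, Int.ofNat 1, Int.negSucc 0, Int.negSucc 0, Int.ofNat 1, Int.ofNat 1, Int.ofNat 1, Int.ofNat 1, Int.ofNat 1, Int.ofNat 1],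
  [Int.ofNat 1, Int.ofNat 1, Int.negSucc 0, Int.negSucc 0, Int.ofNat 1, Int.negSucc 2, Int.negSucc 0, Int.negSucc 0, Int.negSucc 0, Int.ofNat 1, Int.negSucc 0, Int.negSucc 0, Int.ofNat 1, Int.ofNat 1, Int.negSucc 0, Int.ofNat 1, Int.negSucc 0, Int.negSucc 0, Int.negSucc 0, Int.ofNat 1, Int.ofNat 1, Int.negSucc 0, Int.ofNat 1, Int.ofNat 1],
  [Int.ofNat 1, Int.ofNat 1, Int.ofNat 1, Int.negSucc 0, Int.negSucc 0, Int.ofNat 1, Int.negSucc 2, Int.negSucc 0, Int.negSucc 0, Int.negSucc 0, Int.ofNat 1, Int.negSucc 0, Int.negSucc 0, Int.ofNat 1, Int.ofNat 1, Int.negSucc 0, Int.ofNat 1, Int.negSucc 0, Int.negSucc 0, Int.negSucc 0, Int.ofNat 1, Int.ofNat 1, Int.negSucc 0, Int.ofNat 1],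
  [Int.ofNat 1, Int.ofNat 1, Int.ofNat 1, Int.negSucc 0, Int.negSucc 0, Int.ofNat 1, Int.negSucc 0, Int.ofNat 1, Int.ofNat 1, Int.negSucc 0, Int.ofNat 1, Int.ofNat 1, Int.ofNat 1, Int.ofNat 1, Int.ofNat 1, Int.negSucc 0, Int.ofNat 1, Int.negSucc 0, Int.ofNat 1, Int.ofNat 1, Int.ofNat 1, Int.ofNat 3, Int.negSucc 0, Int.ofNat 1],
  [Int.negSucc 0, Int.negSucc 0, Int.ofNat 1, Int.negSucc 0, Int.ofNat 1, Int.ofNat 1, Int.negSucc 0, Int.ofNat 1, Int.ofNat 1, Int.ofNat 1, Int.ofNat 1, Int.ofNat 1, Int.negSucc 0, Int.ofNat 1, Int.negSucc 0, Int.ofNat 1, Int.ofNat 1, Int.ofNat 1, Int.ofNat 3, Int.negSucc 0, Int.ofNat 1, Int.ofNat 1, Int.ofNat 1, Int.ofNat 1],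
  [Int.ofNat 1, Int.ofNat 1, Int.negSucc 0, Int.negSucc 0, Int.negSucc 0, Int.ofNat 1, Int.negSucc 0, Int.ofNat 1, Int.negSucc 0, Int.negSucc 0, Int.negSucc 0, Int.negSucc 0, Int.negSucc 2, Int.negSucc 0, Int.negSucc 0, Int.negSucc 0, Int.negSucc 0, Int.ofNat 1, Int.ofNat 1, Int.negSucc 0, Int.negSucc 0, Int.ofNat 1, Int.negSucc 0, Int.negSucc 0],
  [Int.ofNat 1, Int.negSucc 0, Int.negSucc 0, Int.negSucc 0, Int.ofNat 1, Int.ofNat 1, Int.negSucc 0, Int.negSucc 0, Int.negSucc 2, Int.negSucc 0, Int.negSucc 0, Int.ofNat 1, Int.negSucc 0, Int.negSucc 0, Int.negSucc 0, Int.negSucc 0, Int.negSucc 0, Int.negSucc 0, Int.ofNat 1, Int.negSucc 0, Int.ofNat 1, Int.ofNat 1, Int.negSucc 0, Int.negSucc 0],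
  [Int.negSucc 1, Int.ofNat 0, Int.ofNat 0, Int.ofNat 0, Int.ofNat 2, Int.ofNat 2, Int.ofNat 0, Int.ofNat 0, Int.negSucc 1, Int.ofNat 0, Int.ofNat 0, Int.ofNat 2, Int.ofNat 0, Int.ofNat 0, Int.ofNat 0, Int.ofNat 0, Int.ofNat 0, Int.ofNat 0, Int.ofNat 2, Int.ofNat 0, Int.ofNat 2, Int.ofNat 2, Int.ofNat 0, Int.ofNat 0],
  [Int.negSucc 1, Int.ofNat 0, Int.ofNat 0, Int.ofNat 0, Int.ofNat 2, Int.negSucc 1, Int.ofNat 0, Int.ofNat 0, Int.negSucc 1, Int.ofNat 0, Int.ofNat 0, Int.ofNat 2, Int.ofNat 0, Int.ofNat 0, Int.ofNat 0, Int.ofNat 0, Int.ofNat 0, Int.ofNat 0, Int.negSucc 1, Int.ofNat 0, Int.ofNat 2, Int.ofNat 2, Int.ofNat 0, Int.ofNat 0],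
  [Int.ofNat 0, Int.ofNat 0, Int.ofNat 0, Int.ofNat 0, Int.ofNat 0, Int.ofNat 0, Int.negSucc 1, Int.ofNat 0, Int.ofNat 2, Int.ofNat 0, Int.negSucc 1, Int.ofNat 0, Int.negSucc 1, Int.ofNat 2, Int.ofNat 0, Int.negSucc 1, Int.ofNat 0, Int.ofNat 0, Int.ofNat 0, Int.ofNat 0, Int.ofNat 0, Int.ofNat 2, Int.ofNat 2, Int.ofNat 0],
  [Int.ofNat 0, Int.ofNat 0, Int.ofNat 0, Int.ofNat 0, Int.ofNat 0, Int.ofNat 0, Int.ofNat 2, Int.ofNat 0, Int.ofNat 2, Int.ofNat 0, Int.ofNat 2, Int.ofNat 0, Int.negSucc 1, Int.ofNat 2, Int.ofNat 0, Int.ofNat 2, Int.ofNat 0, Int.ofNat 0, Int.ofNat 0, Int.ofNat 0, Int.ofNat 0, Int.ofNat 2, Int.negSucc 1, Int.ofNat 0],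
  [Int.ofNat 0, Int.ofNat 0, Int.ofNat 0, Int.ofNat 0, Int.ofNat 0, Int.ofNat 0, Int.ofNat 0, Int.negSucc 1, Int.ofNat 2, Int.negSucc 1, Int.ofNat 0, Int.ofNat 0, Int.negSucc 1, Int.ofNat 2, Int.ofNat 0, Int.ofNat 0, Int.ofNat 0, Int.ofNat 0, Int.ofNat 0, Int.negSucc 1, Int.negSucc 1, Int.ofNat 0, Int.negSucc 1, Int.ofNat 0],
  [Int.ofNat 0, Int.ofNat 0, Int.ofNat 0, Int.ofNat 0, Int.ofNat 0, Int.ofNat 0, Int.ofNat 0, Int.ofNat 0, Int.ofNat 0, Int.negSucc 1, Int.negSucc 1, Int.negSucc 1, Int.ofNat 2, Int.negSucc 1, Int.ofNat 0, Int.ofNat 0, Int.ofNat 2, Int.ofNat 0, Int.ofNat 0, Int.negSucc 1, Int.ofNat 0, Int.negSucc 1, Int.ofNat 0, Int.ofNat 0],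
  [Int.ofNat 0, Int.ofNat 0, Int.ofNat 0, Int.ofNat 0, Int.ofNat 0, Int.ofNat 0, Int.ofNat 2, Int.ofNat 2, Int.ofNat 0, Int.ofNat 0, Int.ofNat 0, Int.negSucc 1, Int.ofNat 2, Int.negSucc 1, Int.ofNat 0, Int.ofNat 2, Int.ofNat 2, Int.ofNat 0, Int.ofNat 0, Int.ofNat 0, Int.ofNat 2, Int.ofNat 0, Int.ofNat 0, Int.ofNat 0],
  [Int.ofNat 2, Int.ofNat 0, Int.ofNat 0, Int.ofNat 0, Int.ofNat 0, Int.ofNat 0, Int.ofNat 0, Int.ofNat 0, Int.ofNat 0, Int.ofNat 2, Int.ofNat 2, Int.ofNat 0, Int.ofNat 0, Int.ofNat 0, Int.negSucc 1, Int.ofNat 2, Int.negSucc 1, Int.ofNat 0, Int.ofNat 2, Int.ofNat 2, Int.ofNat 0, Int.ofNat 0, Int.ofNat 0, Int.ofNat 0],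
  [Int.negSucc 0, Int.ofNat 1, Int.ofNat 1, Int.ofNat 1, Int.ofNat 1, Int.ofNat 1, Int.negSucc 0, Int.negSucc 0, Int.negSucc 0, Int.negSucc 0, Int.negSucc 0, Int.negSucc 0, Int.negSucc 0, Int.ofNat 1, Int.negSucc 0, Int.negSucc 0, Int.negSucc 0, Int.ofNat 1, Int.ofNat 1, Int.ofNat 1, Int.negSucc 2, Int.negSucc 0, Int.ofNat 1, Int.ofNat 1],
  [Int.ofNat 1, Int.ofNat 1, Int.ofNat 1, Int.ofNat 1, Int.ofNat 1, Int.negSucc 0, Int.negSucc 0, Int.negSucc 0, Int.negSucc 0, Int.negSucc 0, Int.negSucc 0, Int.negSucc 0, Int.ofNat 1, Int.negSucc 0, Int.negSucc 0, Int.negSucc 0, Int.ofNat 1, Int.ofNat 1, Int.ofNat 1, Int.negSucc 2, Int.negSucc 0, Int.ofNat 1, Int.negSucc 0, Int.ofNat 1],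
  [Int.negSucc 0, Int.ofNat 1, Int.negSucc 0, Int.ofNat 1, Int.ofNat 1, Int.negSucc 0, Int.negSucc 0, Int.ofNat 1, Int.negSucc 0, Int.ofNat 1, Int.ofNat 1, Int.ofNat 1, Int.ofNat 1, Int.negSucc 0, Int.negSucc 0, Int.negSucc 0, Int.ofNat 1, Int.ofNat 1, Int.negSucc 0, Int.negSucc 2, Int.negSucc 0, Int.negSucc 0, Int.negSucc 0, Int.ofNat 1],
  [Int.negSucc 0, Int.negSucc 0, Int.negSucc 0, Int.ofNat 1, Int.ofNat 1, Int.ofNat 1, Int.ofNat 1, Int.negSucc 0, Int.ofNat 1, Int.ofNat 1, Int.negSucc 0, Int.negSucc 0, Int.negSucc 0, Int.negSucc 0, Int.negSucc 2, Int.negSucc 0, Int.ofNat 1, Int.negSucc 0, Int.negSucc 0, Int.ofNat 1, Int.negSucc 0, Int.ofNat 1, Int.ofNat 1, Int.ofNat 1],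
  [Int.ofNat 1, Int.negSucc 0, Int.ofNat 1, Int.ofNat 1, Int.ofNat 1, Int.ofNat 1, Int.ofNat 1, Int.ofNat 1, Int.ofNat 1, Int.negSucc 0, Int.ofNat 1, Int.ofNat 1, Int.negSucc 0, Int.negSucc 0, Int.negSucc 2, Int.negSucc 0, Int.ofNat 1, Int.negSucc 0, Int.ofNat 1, Int.ofNat 1, Int.negSucc 0, Int.negSucc 0, Int.ofNat 1, Int.ofNat 1],
  [Int.ofNat 1, Int.ofNat 1, Int.negSucc 0, Int.ofNat 1, Int.ofNat 1, Int.ofNat 1, Int.ofNat 1, Int.ofNat 1, Int.ofNat 1, Int.ofNat 1, Int.negSucc 0, Int.ofNat 1, Int.ofNat 1, Int.negSucc 0, Int.negSucc 0, Int.negSucc 2, Int.negSucc 0, Int.ofNat 1, Int.negSucc 0, Int.ofNat 1, Int.ofNat 1, Int.negSucc 0, Int.negSucc 0, Int.ofNat 1],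
  [Int.ofNat 0, Int.ofNat 0, Int.ofNat 2, Int.ofNat 0, Int.ofNat 2, Int.ofNat 0, Int.ofNat 0, Int.ofNat 0, Int.ofNat 0, Int.ofNat 2, Int.ofNat 0, Int.ofNat 0, Int.ofNat 0, Int.ofNat 0, Int.negSucc 1, Int.negSucc 1, Int.ofNat 0, Int.ofNat 0, Int.negSucc 1, Int.ofNat 0, Int.ofNat 2, Int.negSucc 1, Int.ofNat 0, Int.ofNat 0],
  [Int.ofNat 0, Int.ofNat 2, Int.ofNat 0, Int.ofNat 0, Int.ofNat 0, Int.ofNat 0, Int.ofNat 2, Int.ofNat 0, Int.ofNat 0, Int.ofNat 0, Int.ofNat 0, Int.negSucc 1, Int.negSucc 1, Int.ofNat 0, Int.ofNat 0, Int.negSucc 1, Int.ofNat 0, Int.ofNat 2, Int.negSucc 1, Int.ofNat 0, Int.ofNat 0, Int.ofNat 0, Int.ofNat 2, Int.ofNat 0],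
  [Int.ofNat 1, Int.negSucc 0, Int.ofNat 1, Int.negSucc 0, Int.negSucc 0, Int.negSucc 0, Int.ofNat 1, Int.negSucc 0, Int.ofNat 3, Int.ofNat 1, Int.ofNat 1, Int.ofNat 1, Int.ofNat 1, Int.negSucc 0, Int.negSucc 0, Int.negSucc 0, Int.negSucc 0, Int.ofNat 1, Int.ofNat 1, Int.negSucc 0, Int.ofNat 1, Int.negSucc 0, Int.ofNat 1, Int.ofNat 1],
  [Int.ofNat 1, Int.ofNat 1, Int.negSucc 0, Int.negSucc 0, Int.ofNat 1, Int.negSucc 0, Int.ofNat 1, Int.ofNat 1, Int.ofNat 1, Int.negSucc 0, Int.ofNat 1, Int.ofNat 1, Int.ofNat 1, Int.negSucc 0, Int.ofNat 1, Int.negSucc 0, Int.ofNat 3, Int.negSucc 0, Int.negSucc 0, Int.ofNat 1, Int.negSucc 0, Int.negSucc 0, Int.negSucc 0, Int.ofNat 1],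
  [Int.ofNat 0, Int.ofNat 0, Int.ofNat 2, Int.ofNat 0, Int.ofNat 0, Int.ofNat 0, Int.ofNat 0, Int.ofNat 0, Int.ofNat 0, Int.ofNat 0, Int.ofNat 2, Int.ofNat 0, Int.ofNat 0, Int.negSucc 1, Int.ofNat 2, Int.ofNat 0, Int.ofNat 2, Int.ofNat 0, Int.negSucc 1, Int.ofNat 0, Int.ofNat 0, Int.negSucc 1, Int.negSucc 1, Int.ofNat 0],
  [Int.ofNat 0, Int.ofNat 0, Int.negSucc 1, Int.ofNat 0, Int.ofNat 0, Int.ofNat 0, Int.ofNat 0, Int.ofNat 0, Int.ofNat 0, Int.ofNat 0, Int.negSucc 1, Int.ofNat 0, Int.ofNat 0, Int.negSucc 1, Int.ofNat 2, Int.ofNat 0, Int.ofNat 2, Int.ofNat 0, Int.ofNat 2, Int.ofNat 0, Int.ofNat 0, Int.negSucc 1, Int.ofNat 2, Int.ofNat 0],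
  [Int.negSucc 1, Int.ofNat 2, Int.ofNat 0, Int.ofNat 0, Int.ofNat 2, Int.ofNat 0, Int.negSucc 1, Int.ofNat 0, Int.ofNat 0, Int.ofNat 0, Int.negSucc 1, Int.ofNat 0, Int.ofNat 0, Int.ofNat 0, Int.ofNat 0, Int.ofNat 2, Int.ofNat 0, Int.ofNat 0, Int.ofNat 0, Int.negSucc 1, Int.ofNat 0, Int.ofNat 0, Int.ofNat 2, Int.ofNat 0],
  [Int.ofNat 2, Int.negSucc 1, Int.ofNat 0, Int.ofNat 0, Int.negSucc 1, Int.ofNat 0, Int.ofNat 2, Int.ofNat 0, Int.ofNat 0, Int.ofNat 0, Int.negSucc 1, Int.ofNat 0, Int.ofNat 0, Int.ofNat 0, Int.ofNat 0, Int.ofNat 2, Int.ofNat 0, Int.ofNat 0, Int.ofNat 0, Int.negSucc 1, Int.ofNat 0, Int.ofNat 0, Int.ofNat 2, Int.ofNat 0],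
  [Int.ofNat 0, Int.ofNat 2, Int.ofNat 0, Int.ofNat 2, Int.ofNat 0, Int.ofNat 0, Int.negSucc 1, Int.ofNat 0, Int.ofNat 0, Int.ofNat 0, Int.ofNat 0, Int.ofNat 0, Int.ofNat 0, Int.ofNat 0, Int.ofNat 0, Int.ofNat 0, Int.negSucc 1, Int.negSucc 1, Int.ofNat 0, Int.ofNat 2, Int.ofNat 0, Int.ofNat 0, Int.negSucc 1, Int.ofNat 2],
  [Int.ofNat 0, Int.ofNat 2, Int.ofNat 0, Int.ofNat 2, Int.ofNat 0, Int.ofNat 0, Int.negSucc 1, Int.ofNat 0, Int.ofNat 0, Int.ofNat 0, Int.ofNat 0, Int.ofNat 0, Int.ofNat 0, Int.ofNat 0, Int.ofNat 0, Int.ofNat 0, Int.negSucc 1, Int.negSucc 1, Int.ofNat 0, Int.ofNat 2, Int.ofNat 0, Int.ofNat 0, Int.negSucc 1, Int.ofNat 2],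
  [Int.negSucc 1, Int.ofNat 0, Int.ofNat 2, Int.ofNat 0, Int.ofNat 2, Int.ofNat 0, Int.ofNat 0, Int.negSucc 1, Int.ofNat 0, Int.ofNat 0, Int.ofNat 0, Int.ofNat 0, Int.ofNat 0, Int.ofNat 0, Int.ofNat 0, Int.ofNat 0, Int.ofNat 0, Int.negSucc 1, Int.negSucc 1, Int.ofNat 0, Int.ofNat 2, Int.ofNat 0, Int.ofNat 0, Int.ofNat 2],
  [Int.ofNat 3, Int.ofNat 1, Int.negSucc 0, Int.ofNat 1, Int.ofNat 1, Int.ofNat 1, Int.ofNat 1, Int.negSucc 0, Int.ofNat 1, Int.negSucc 0, Int.negSucc 0, Int.ofNat 1, Int.ofNat 1, Int.negSucc 0, Int.ofNat 1, Int.negSucc 0, Int.negSucc 0, Int.negSucc 0, Int.negSucc 0, Int.ofNat 1, Int.ofNat 1, Int.ofNat 1, Int.negSucc 0, Int.negSucc 0],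
  [Int.ofNat 1, Int.ofNat 1, Int.ofNat 1, Int.ofNat 1, Int.negSucc 0, Int.ofNat 1, Int.negSucc 0, Int.negSucc 0, Int.ofNat 1, Int.ofNat 1, Int.negSucc 0, Int.ofNat 1, Int.negSucc 0, Int.negSucc 0, Int.negSucc 0, Int.negSucc 0, Int.ofNat 1, Int.ofNat 1, Int.ofNat 1, Int.negSucc 0, Int.ofNat 3, Int.ofNat 1, Int.negSucc 0, Int.negSucc 0],
  [Int.ofNat 0, Int.ofNat 0, Int.ofNat 0, Int.ofNat 0, Int.ofNat 0, Int.ofNat 0, Int.ofNat 0, Int.ofNat 0, Int.ofNat 0, Int.ofNat 0, Int.negSucc 1, Int.ofNat 0, Int.negSucc 1, Int.ofNat 0, Int.negSucc 1, Int.negSucc 1, Int.ofNat 2, Int.ofNat 0, Int.ofNat 0, Int.ofNat 0, Int.ofNat 2, Int.ofNat 2, Int.ofNat 0, Int.ofNat 2],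
  [Int.ofNat 0, Int.ofNat 0, Int.ofNat 0, Int.ofNat 0, Int.ofNat 0, Int.ofNat 0, Int.ofNat 0, Int.negSucc 1, Int.negSucc 1, Int.ofNat 0, Int.ofNat 2, Int.ofNat 0, Int.ofNat 0, Int.ofNat 2, Int.ofNat 0, Int.negSucc 1, Int.ofNat 0, Int.negSucc 1, Int.ofNat 0, Int.ofNat 0, Int.ofNat 2, Int.ofNat 0, Int.ofNat 0, Int.ofNat 2],
  [Int.ofNat 1, Int.ofNat 1, Int.ofNat 1, Int.ofNat 1, Int.negSucc 0, Int.ofNat 1, Int.ofNat 1, Int.negSucc 0, Int.negSucc 0, Int.negSucc 0, Int.ofNat 1, Int.ofNat 1, Int.ofNat 1, Int.ofNat 1, Int.ofNat 1, Int.negSucc 2, Int.negSucc 0, Int.negSucc 0, Int.ofNat 1, Int.ofNat 1, Int.ofNat 1, Int.ofNat 1, Int.negSucc 0, Int.negSucc 0],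
  [Int.ofNat 1, Int.ofNat 1, Int.negSucc 0, Int.ofNat 1, Int.negSucc 0, Int.negSucc 0, Int.negSucc 0, Int.negSucc 0, Int.negSucc 0, Int.ofNat 1, Int.negSucc 0, Int.ofNat 1, Int.ofNat 1, Int.ofNat 1, Int.ofNat 1, Int.ofNat 3, Int.negSucc 0, Int.negSucc 0, Int.negSucc 0, Int.ofNat 1, Int.ofNat 1, Int.ofNat 1, Int.ofNat 1, Int.negSucc 0],
  [Int.negSucc 0, Int.negSucc 0, Int.ofNat 1, Int.ofNat 1, Int.ofNat 1, Int.negSucc 0, Int.negSucc 0, Int.negSucc 0, Int.ofNat 1, Int.ofNat 1, Int.negSucc 0, Int.negSucc 0, Int.ofNat 1, Int.negSucc 0, Int.ofNat 1, Int.negSucc 0, Int.ofNat 1, Int.ofNat 1, Int.ofNat 1, Int.negSucc 0, Int.ofNat 3, Int.ofNat 1, Int.ofNat 1, Int.negSucc 0],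
  [Int.negSucc 0, Int.negSucc 0, Int.negSucc 0, Int.ofNat 1, Int.ofNat 1, Int.ofNat 1, Int.ofNat 1, Int.negSucc 0, Int.ofNat 1, Int.negSucc 0, Int.ofNat 1, Int.negSucc 0, Int.ofNat 1, Int.negSucc 0, Int.ofNat 1, Int.ofNat 1, Int.ofNat 1, Int.ofNat 1, Int.negSucc 0, Int.negSucc 0, Int.ofNat 3, Int.ofNat 1, Int.negSucc 0, Int.negSucc 0],
  [Int.negSucc 0, Int.negSucc 0, Int.negSucc 0, Int.negSucc 0, Int.ofNat 1, Int.negSucc 0, Int.ofNat 1, Int.negSucc 0, Int.ofNat 1, Int.negSucc 2, Int.negSucc 0, Int.negSucc 0, Int.ofNat 1, Int.negSucc 0, Int.negSucc 0, Int.negSucc 0, Int.ofNat 1, Int.negSucc 0, Int.negSucc 0, Int.negSucc 0, Int.ofNat 1, Int.ofNat 1, Int.negSucc 0, Int.negSucc 0],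
  [Int.negSucc 0, Int.negSucc 0, Int.ofNat 1, Int.negSucc 0, Int.negSucc 0, Int.ofNat 1, Int.negSucc 0, Int.negSucc 0, Int.ofNat 1, Int.ofNat 1, Int.negSucc 0, Int.negSucc 0, Int.ofNat 1, Int.negSucc 2, Int.negSucc 0, Int.negSucc 0, Int.negSucc 0, Int.negSucc 0, Int.ofNat 1, Int.negSucc 0, Int.negSucc 0, Int.ofNat 1, Int.negSucc 0, Int.negSucc 0],
  [Int.ofNat 0, Int.ofNat 0, Int.negSucc 1, Int.ofNat 0, Int.ofNat 2, Int.ofNat 2, Int.ofNat 0, Int.ofNat 0, Int.ofNat 0, Int.ofNat 2, Int.ofNat 0, Int.negSucc 1, Int.ofNat 0, Int.ofNat 0, Int.ofNat 0, Int.ofNat 0, Int.ofNat 2, Int.ofNat 0, Int.ofNat 0, Int.ofNat 0, Int.ofNat 0, Int.ofNat 2, Int.ofNat 2, Int.ofNat 0],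
  [Int.ofNat 0, Int.ofNat 2, Int.ofNat 2, Int.ofNat 0, Int.ofNat 0, Int.negSucc 1, Int.ofNat 0, Int.ofNat 2, Int.ofNat 2, Int.ofNat 0, Int.ofNat 0, Int.ofNat 0, Int.ofNat 2, Int.ofNat 0, Int.negSucc 1, Int.ofNat 0, Int.ofNat 0, Int.ofNat 0, Int.ofNat 0, Int.ofNat 2, Int.ofNat 0, Int.ofNat 0, Int.ofNat 0, Int.ofNat 0],
  [Int.ofNat 2, Int.ofNat 0, Int.ofNat 0, Int.ofNat 2, Int.ofNat 0, Int.ofNat 0, Int.negSucc 1, Int.ofNat 0, Int.ofNat 0, Int.ofNat 0, Int.ofNat 0, Int.negSucc 1, Int.ofNat 0, Int.ofNat 0, Int.ofNat 0, Int.ofNat 0, Int.ofNat 0, Int.ofNat 2, Int.negSucc 1, Int.ofNat 0, Int.ofNat 0, Int.negSucc 1, Int.ofNat 0, Int.ofNat 2],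
  [Int.ofNat 0, Int.ofNat 0, Int.ofNat 2, Int.ofNat 0, Int.ofNat 0, Int.negSucc 1, Int.ofNat 0, Int.ofNat 0, Int.ofNat 0, Int.ofNat 0, Int.negSucc 1, Int.ofNat 0, Int.ofNat 0, Int.ofNat 0, Int.ofNat 0, Int.ofNat 0, Int.ofNat 2, Int.negSucc 1, Int.ofNat 0, Int.ofNat 0, Int.negSucc 1, Int.ofNat 0, Int.ofNat 2, Int.ofNat 2],
  [Int.ofNat 0, Int.ofNat 0, Int.negSucc 1, Int.ofNat 0, Int.ofNat 0, Int.negSucc 1, Int.ofNat 0, Int.ofNat 0, Int.ofNat 0, Int.ofNat 0, Int.ofNat 2, Int.ofNat 0, Int.ofNat 0, Int.ofNat 0, Int.ofNat 0, Int.ofNat 0, Int.ofNat 2, Int.negSucc 1, Int.ofNat 0, Int.ofNat 0, Int.negSucc 1, Int.ofNat 0, Int.ofNat 2, Int.ofNat 2],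
  [Int.ofNat 0, Int.negSucc 1, Int.ofNat 0, Int.ofNat 0, Int.ofNat 0, Int.ofNat 2, Int.ofNat 0, Int.negSucc 1, Int.ofNat 0, Int.ofNat 2, Int.ofNat 0, Int.ofNat 0, Int.ofNat 0, Int.ofNat 0, Int.ofNat 0, Int.ofNat 0, Int.ofNat 0, Int.ofNat 2, Int.ofNat 0, Int.negSucc 1, Int.negSucc 1, Int.ofNat 0, Int.ofNat 0, Int.ofNat 2],
  [Int.ofNat 0, Int.negSucc 1, Int.ofNat 0, Int.ofNat 0, Int.ofNat 0, Int.ofNat 2, Int.ofNat 0, Int.ofNat 2, Int.ofNat 0, Int.negSucc 1, Int.ofNat 0, Int.ofNat 0, Int.ofNat 0, Int.ofNat 0, Int.ofNat 0, Int.ofNat 0, Int.ofNat 0, Int.ofNat 2, Int.ofNat 0, Int.negSucc 1, Int.negSucc 1, Int.ofNat 0, Int.ofNat 0, Int.ofNat 2],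
  [Int.ofNat 0, Int.ofNat 0, Int.negSucc 1, Int.ofNat 0, Int.ofNat 0, Int.ofNat 0, Int.ofNat 2, Int.ofNat 0, Int.ofNat 2, Int.ofNat 0, Int.negSucc 1, Int.ofNat 0, Int.ofNat 0, Int.ofNat 0, Int.ofNat 0, Int.ofNat 0, Int.ofNat 0, Int.ofNat 0, Int.ofNat 2, Int.ofNat 0, Int.negSucc 1, Int.negSucc 1, Int.ofNat 0, Int.ofNat 2],
  [Int.ofNat 0, Int.ofNat 0, Int.ofNat 2, Int.ofNat 0, Int.ofNat 0, Int.ofNat 0, Int.ofNat 2, Int.ofNat 0, Int.ofNat 0, Int.ofNat 2, Int.ofNat 0, Int.negSucc 1, Int.negSucc 1, Int.ofNat 0, Int.ofNat 0, Int.ofNat 2, Int.ofNat 0, Int.ofNat 0, Int.ofNat 0, Int.ofNat 0, Int.ofNat 0, Int.negSucc 1, Int.ofNat 0, Int.negSucc 1],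
  [Int.ofNat 0, Int.ofNat 0, Int.ofNat 0, Int.ofNat 2, Int.ofNat 0, Int.ofNat 0, Int.ofNat 2, Int.ofNat 0, Int.negSucc 1, Int.negSucc 1, Int.ofNat 0, Int.ofNat 0, Int.ofNat 2, Int.ofNat 0, Int.ofNat 0, Int.ofNat 0, Int.ofNat 0, Int.ofNat 0, Int.negSucc 1, Int.ofNat 0, Int.ofNat 0, Int.ofNat 0, Int.ofNat 2, Int.negSucc 1],
  [Int.negSucc 0, Int.negSucc 0, Int.negSucc 0, Int.ofNat 1, Int.negSucc 0, Int.negSucc 0, Int.ofNat 1, Int.negSucc 0, Int.negSucc 0, Int.negSucc 0, Int.ofNat 1, Int.ofNat 1, Int.ofNat 3, Int.negSucc 0, Int.negSucc 0, Int.ofNat 1, Int.negSucc 0, Int.negSucc 0, Int.negSucc 0, Int.negSucc 0, Int.ofNat 1, Int.negSucc 0, Int.ofNat 1, Int.ofNat 1],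
  [Int.negSucc 0, Int.ofNat 1, Int.negSucc 0, Int.ofNat 1, Int.negSucc 0, Int.negSucc 0, Int.negSucc 0, Int.ofNat 1, Int.ofNat 3, Int.negSucc 0, Int.ofNat 1, Int.negSucc 0, Int.negSucc 0, Int.negSucc 0, Int.ofNat 1, Int.ofNat 1, Int.negSucc 0, Int.negSucc 0, Int.negSucc 0, Int.ofNat 1, Int.negSucc 0, Int.negSucc 0, Int.negSucc 0, Int.ofNat 1],
  [Int.ofNat 1, Int.negSucc 0, Int.ofNat 1, Int.ofNat 1, Int.ofNat 1, Int.negSucc 0, Int.negSucc 0, Int.ofNat 1, Int.ofNat 3, Int.negSucc 0, Int.ofNat 1, Int.negSucc 0, Int.negSucc 0, Int.ofNat 1, Int.ofNat 1, Int.ofNat 1, Int.ofNat 1, Int.negSucc 0, Int.negSucc 0, Int.ofNat 1, Int.negSucc 0, Int.negSucc 0, Int.ofNat 1, Int.negSucc 0],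
  [Int.ofNat 1, Int.negSucc 0, Int.negSucc 0, Int.ofNat 1, Int.ofNat 1, Int.ofNat 1, Int.ofNat 1, Int.ofNat 1, Int.ofNat 3, Int.ofNat 1, Int.negSucc 0, Int.negSucc 0, Int.negSucc 0, Int.ofNat 1, Int.ofNat 1, Int.negSucc 0, Int.ofNat 1, Int.negSucc 0, Int.ofNat 1, Int.ofNat 1, Int.negSucc 0, Int.negSucc 0, Int.negSucc 0, Int.negSucc 0],
  [Int.negSucc 0, Int.ofNat 1, Int.negSucc 0, Int.ofNat 3, Int.ofNat 1, Int.ofNat 1, Int.negSucc 0, Int.ofNat 1, Int.ofNat 1, Int.negSucc 0, Int.ofNat 1, Int.ofNat 1, Int.negSucc 0, Int.ofNat 1, Int.negSucc 0, Int.ofNat 1, Int.ofNat 1, Int.negSucc 0, Int.ofNat 1, Int.negSucc 0, Int.ofNat 1, Int.negSucc 0, Int.negSucc 0, Int.negSucc 0],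
  [Int.ofNat 1, Int.negSucc 0, Int.ofNat 1, Int.negSucc 2, Int.negSucc 0, Int.ofNat 1, Int.ofNat 1, Int.ofNat 1, Int.negSucc 0, Int.ofNat 1, Int.ofNat 1, Int.ofNat 1, Int.ofNat 1, Int.negSucc 0, Int.negSucc 0, Int.ofNat 1, Int.negSucc 0, Int.negSucc 0, Int.negSucc 0, Int.negSucc 0, Int.ofNat 1, Int.negSucc 0, Int.negSucc 0, Int.negSucc 0],
  [Int.negSucc 0, Int.negSucc 0, Int.ofNat 1, Int.ofNat 1, Int.negSucc 0, Int.ofNat 1, Int.negSucc 0, Int.negSucc 0, Int.ofNat 1, Int.ofNat 1, Int.negSucc 0, Int.ofNat 1, Int.negSucc 0, Int.ofNat 1, Int.negSucc 0, Int.negSucc 2, Int.ofNat 1, Int.negSucc 0, Int.negSucc 0, Int.ofNat 1, Int.negSucc 0, Int.ofNat 1, Int.negSucc 0, Int.ofNat 1],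
  [Int.ofNat 1, Int.negSucc 0, Int.negSucc 0, Int.ofNat 1, Int.negSucc 0, Int.ofNat 1, Int.negSucc 0, Int.ofNat 1, Int.ofNat 1, Int.negSucc 0, Int.ofNat 1, Int.negSucc 0, Int.negSucc 0, Int.ofNat 1, Int.negSucc 0, Int.negSucc 2, Int.ofNat 1, Int.negSucc 0, Int.ofNat 1, Int.ofNat 1, Int.negSucc 0, Int.negSucc 0, Int.negSucc 0, Int.ofNat 1],
  [Int.negSucc 0, Int.ofNat 1, Int.negSucc 0, Int.negSucc 0, Int.ofNat 1, Int.negSucc 0, Int.ofNat 1, Int.negSucc 0, Int.ofNat 1, Int.ofNat 1, Int.negSucc 0, Int.ofNat 1, Int.negSucc 0, Int.negSucc 0, Int.ofNat 1, Int.negSucc 0, Int.negSucc 2, Int.ofNat 1, Int.negSucc 0, Int.ofNat 1, Int.ofNat 1, Int.negSucc 0, Int.negSucc 0, Int.ofNat 1],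
  [Int.ofNat 1, Int.negSucc 0, Int.ofNat 1, Int.negSucc 0, Int.ofNat 3, Int.negSucc 0, Int.ofNat 1, Int.negSucc 0, Int.ofNat 1, Int.ofNat 1, Int.negSucc 0, Int.ofNat 1, Int.negSucc 0, Int.ofNat 1, Int.ofNat 1, Int.negSucc 0, Int.negSucc 0, Int.ofNat 1, Int.negSucc 0, Int.ofNat 1, Int.ofNat 1, Int.negSucc 0, Int.ofNat 1, Int.negSucc 0],
  [Int.negSucc 0, Int.ofNat 3, Int.negSucc 0, Int.ofNat 1, Int.negSucc 0, Int.ofNat 1, Int.ofNat 1, Int.negSucc 0, Int.ofNat 1, Int.negSucc 0, Int.ofNat 1, Int.ofNat 1, Int.negSucc 0, Int.negSucc 0, Int.ofNat 1, Int.negSucc 0, Int.ofNat 1, Int.ofNat 1, Int.negSucc 0, Int.ofNat 1, Int.ofNat 1, Int.negSucc 0, Int.ofNat 1, Int.negSucc 0],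
  [Int.ofNat 1, Int.negSucc 2, Int.ofNat 1, Int.negSucc 0, Int.negSucc 0, Int.negSucc 0, Int.ofNat 1, Int.negSucc 0, Int.ofNat 1, Int.negSucc 0, Int.ofNat 1, Int.ofNat 1, Int.negSucc 0, Int.negSucc 0, Int.negSucc 0, Int.negSucc 0, Int.ofNat 1, Int.negSucc 0, Int.negSucc 0, Int.ofNat 1, Int.ofNat 1, Int.negSucc 0, Int.ofNat 1, Int.ofNat 1],
  [Int.ofNat 1, Int.ofNat 1, Int.negSucc 0, Int.negSucc 0, Int.negSucc 0, Int.negSucc 0, Int.ofNat 1, Int.ofNat 1, Int.negSucc 0, Int.negSucc 0, Int.ofNat 1, Int.negSucc 0, Int.negSucc 0, Int.ofNat 1, Int.ofNat 1, Int.negSucc 0, Int.ofNat 1, Int.negSucc 0, Int.negSucc 2, Int.ofNat 1, Int.negSucc 0, Int.negSucc 0, Int.ofNat 1, Int.ofNat 1],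
  [Int.ofNat 0, Int.ofNat 0, Int.ofNat 2, Int.ofNat 0, Int.negSucc 1, Int.ofNat 0, Int.ofNat 0, Int.ofNat 0, Int.ofNat 2, Int.ofNat 0, Int.ofNat 2, Int.ofNat 2, Int.ofNat 2, Int.ofNat 0, Int.ofNat 2, Int.ofNat 0, Int.ofNat 0, Int.ofNat 0, Int.ofNat 0, Int.ofNat 0, Int.ofNat 0, Int.negSucc 1, Int.ofNat 0, Int.ofNat 0],
  [Int.ofNat 0, Int.ofNat 0, Int.negSucc 1, Int.ofNat 0, Int.negSucc 1, Int.ofNat 0, Int.ofNat 0, Int.ofNat 0, Int.ofNat 2, Int.ofNat 0, Int.negSucc 1, Int.ofNat 2, Int.ofNat 2, Int.ofNat 0, Int.ofNat 2, Int.ofNat 0, Int.ofNat 0, Int.ofNat 0, Int.ofNat 0, Int.ofNat 0, Int.ofNat 0, Int.negSucc 1, Int.ofNat 0, Int.ofNat 0],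
  [Int.negSucc 1, Int.ofNat 0, Int.ofNat 0, Int.ofNat 0, Int.ofNat 0, Int.ofNat 0, Int.ofNat 0, Int.ofNat 0, Int.negSucc 1, Int.ofNat 0, Int.ofNat 2, Int.ofNat 0, Int.ofNat 0, Int.negSucc 1, Int.ofNat 0, Int.ofNat 0, Int.ofNat 2, Int.ofNat 2, Int.ofNat 0, Int.negSucc 1, Int.ofNat 0, Int.ofNat 0, Int.ofNat 2, Int.ofNat 0],
  [Int.negSucc 1, Int.ofNat 0, Int.ofNat 0, Int.ofNat 0, Int.ofNat 0, Int.ofNat 0, Int.ofNat 0, Int.ofNat 0, Int.negSucc 1, Int.ofNat 0, Int.negSucc 1, Int.ofNat 0, Int.ofNat 0, Int.negSucc 1, Int.ofNat 0, Int.ofNat 0, Int.ofNat 2, Int.ofNat 2, Int.ofNat 0, Int.negSucc 1, Int.ofNat 0, Int.ofNat 0, Int.negSucc 1, Int.ofNat 0],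
  [Int.ofNat 1, Int.negSucc 0, Int.negSucc 0, Int.negSucc 0, Int.ofNat 1, Int.negSucc 0, Int.ofNat 1, Int.ofNat 1, Int.negSucc 0, Int.ofNat 1, Int.negSucc 0, Int.ofNat 1, Int.ofNat 1, Int.negSucc 0, Int.negSucc 0, Int.ofNat 1, Int.ofNat 3, Int.ofNat 1, Int.ofNat 1, Int.negSucc 0, Int.ofNat 1, Int.ofNat 1, Int.negSucc 0, Int.negSucc 0],
  [Int.ofNat 1, Int.ofNat 1, Int.ofNat 1, Int.negSucc 0, Int.negSucc 0, Int.ofNat 1, Int.negSucc 0, Int.negSucc 0, Int.ofNat 3, Int.ofNat 1, Int.ofNat 1, Int.negSucc 0, Int.negSucc 0, Int.ofNat 1, Int.ofNat 1, Int.ofNat 1, Int.negSucc 0, Int.ofNat 1, Int.ofNat 1, Int.negSucc 0, Int.negSucc 0, Int.ofNat 1, Int.negSucc 0, Int.negSucc 0],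
  [Int.ofNat 0, Int.ofNat 0, Int.ofNat 0, Int.negSucc 1, Int.ofNat 0, Int.ofNat 0, Int.ofNat 0, Int.ofNat 0, Int.ofNat 2, Int.ofNat 0, Int.ofNat 0, Int.negSucc 1, Int.negSucc 1, Int.ofNat 2, Int.ofNat 0, Int.ofNat 0, Int.ofNat 0, Int.ofNat 0, Int.ofNat 0, Int.ofNat 0, Int.negSucc 1, Int.ofNat 2, Int.ofNat 0, Int.ofNat 2],
  [Int.negSucc 1, Int.ofNat 2, Int.ofNat 0, Int.ofNat 0, Int.ofNat 0, Int.ofNat 0, Int.negSucc 1, Int.ofNat 0, Int.ofNat 0, Int.ofNat 0, Int.ofNat 0, Int.ofNat 2, Int.ofNat 0, Int.ofNat 0, Int.negSucc 1, Int.negSucc 1, Int.ofNat 2, Int.ofNat 0, Int.ofNat 0, Int.ofNat 0, Int.ofNat 0, Int.ofNat 0, Int.ofNat 0, Int.ofNat 2],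
  [Int.ofNat 3, Int.negSucc 0, Int.ofNat 1, Int.ofNat 1, Int.negSucc 0, Int.ofNat 1, Int.negSucc 0, Int.ofNat 1, Int.negSucc 0, Int.ofNat 1, Int.ofNat 1, Int.ofNat 1, Int.negSucc 0, Int.negSucc 0, Int.negSucc 0, Int.negSucc 0, Int.ofNat 1, Int.ofNat 1, Int.negSucc 0, Int.ofNat 1, Int.ofNat 1, Int.ofNat 1, Int.negSucc 0, Int.negSucc 0],
  [Int.negSucc 0, Int.ofNat 1, Int.ofNat 1, Int.negSucc 0, Int.ofNat 1, Int.negSucc 0, Int.ofNat 1, Int.negSucc 0, Int.ofNat 1, Int.ofNat 1, Int.ofNat 1, Int.negSucc 0, Int.negSucc 0, Int.negSucc 0, Int.negSucc 0, Int.ofNat 1, Int.ofNat 1, Int.negSucc 0, Int.ofNat 1, Int.ofNat 1, Int.ofNat 1, Int.negSucc 0, Int.ofNat 3, Int.negSucc 0],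
  [Int.ofNat 1, Int.ofNat 1, Int.negSucc 0, Int.negSucc 0, Int.ofNat 1, Int.negSucc 0, Int.ofNat 1, Int.ofNat 1, Int.ofNat 1, Int.negSucc 0, Int.negSucc 0, Int.ofNat 1, Int.negSucc 0, Int.negSucc 0, Int.negSucc 0, Int.ofNat 1, Int.ofNat 1, Int.negSucc 0, Int.negSucc 0, Int.ofNat 1, Int.ofNat 1, Int.ofNat 1, Int.ofNat 3, Int.negSucc 0],
  [Int.ofNat 1, Int.negSucc 0, Int.negSucc 0, Int.negSucc 0, Int.ofNat 1, Int.negSucc 0, Int.ofNat 1, Int.ofNat 1, Int.negSucc 0, Int.ofNat 1, Int.ofNat 1, Int.negSucc 0, Int.negSucc 0, Int.ofNat 1, Int.ofNat 1, Int.ofNat 1, Int.negSucc 0, Int.ofNat 3, Int.ofNat 1, Int.negSucc 0, Int.negSucc 0, Int.ofNat 1, Int.ofNat 1, Int.negSucc 0],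
  [Int.negSucc 0, Int.negSucc 0, Int.ofNat 1, Int.negSucc 0, Int.ofNat 1, Int.negSucc 0, Int.ofNat 1, Int.negSucc 0, Int.negSucc 0, Int.negSucc 0, Int.negSucc 0, Int.ofNat 1, Int.negSucc 0, Int.ofNat 1, Int.ofNat 1, Int.ofNat 1, Int.negSucc 0, Int.ofNat 3, Int.negSucc 0, Int.negSucc 0, Int.negSucc 0, Int.negSucc 0, Int.ofNat 1, Int.negSucc 0],
  [Int.ofNat 1, Int.negSucc 0, Int.negSucc 0, Int.ofNat 1, Int.negSucc 0, Int.ofNat 1, Int.negSucc 0, Int.ofNat 1, Int.negSucc 0, Int.negSucc 0, Int.negSucc 0, Int.negSucc 0, Int.ofNat 1, Int.negSucc 0, Int.ofNat 1, Int.ofNat 1, Int.ofNat 1, Int.negSucc 0, Int.ofNat 3, Int.negSucc 0, Int.negSucc 0, Int.negSucc 0, Int.negSucc 0, Int.negSucc 0],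
  [Int.negSucc 1, Int.ofNat 0, Int.ofNat 0, Int.ofNat 0, Int.ofNat 0, Int.ofNat 0, Int.ofNat 0, Int.ofNat 2, Int.negSucc 1, Int.ofNat 0, Int.ofNat 0, Int.negSucc 1, Int.ofNat 0, Int.ofNat 0, Int.ofNat 0, Int.ofNat 2, Int.ofNat 2, Int.negSucc 1, Int.ofNat 2, Int.ofNat 0, Int.ofNat 0, Int.ofNat 0, Int.ofNat 0, Int.ofNat 0],
  [Int.ofNat 0, Int.ofNat 0, Int.ofNat 0, Int.ofNat 0, Int.ofNat 2, Int.negSucc 1, Int.ofNat 0, Int.ofNat 0, Int.negSucc 1, Int.ofNat 0, Int.ofNat 0, Int.ofNat 0, Int.ofNat 2, Int.ofNat 2, Int.negSucc 1, Int.ofNat 2, Int.ofNat 0, Int.ofNat 0, Int.ofNat 0, Int.ofNat 0, Int.negSucc 1, Int.ofNat 0, Int.ofNat 0, Int.ofNat 0],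
  [Int.ofNat 0, Int.ofNat 0, Int.ofNat 0, Int.ofNat 2, Int.ofNat 0, Int.ofNat 0, Int.ofNat 0, Int.ofNat 0, Int.negSucc 1, Int.ofNat 0, Int.ofNat 0, Int.ofNat 0, Int.ofNat 2, Int.ofNat 0, Int.ofNat 0, Int.ofNat 2, Int.negSucc 1, Int.ofNat 2, Int.ofNat 0, Int.ofNat 0, Int.negSucc 1, Int.ofNat 0, Int.negSucc 1, Int.ofNat 0],
  [Int.ofNat 0, Int.ofNat 0, Int.ofNat 0, Int.ofNat 2, Int.ofNat 0, Int.ofNat 0, Int.ofNat 0, Int.ofNat 0, Int.ofNat 2, Int.ofNat 0, Int.negSucc 1, Int.ofNat 2, Int.ofNat 0, Int.negSucc 1, Int.negSucc 1, Int.ofNat 2, Int.negSucc 1, Int.ofNat 0, Int.ofNat 0, Int.ofNat 0, Int.ofNat 0, Int.ofNat 0, Int.ofNat 0, Int.ofNat 0],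
  [Int.ofNat 0, Int.ofNat 0, Int.ofNat 0, Int.ofNat 2, Int.ofNat 2, Int.ofNat 0, Int.ofNat 0, Int.ofNat 0, Int.ofNat 0, Int.ofNat 0, Int.negSucc 1, Int.ofNat 0, Int.negSucc 1, Int.ofNat 0, Int.negSucc 1, Int.ofNat 2, Int.ofNat 0, Int.ofNat 0, Int.negSucc 1, Int.ofNat 0, Int.ofNat 0, Int.ofNat 0, Int.ofNat 2, Int.ofNat 0],
  [Int.ofNat 0, Int.ofNat 0, Int.ofNat 0, Int.ofNat 2, Int.ofNat 2, Int.ofNat 0, Int.ofNat 0, Int.ofNat 0, Int.ofNat 0, Int.ofNat 0, Int.ofNat 2, Int.ofNat 0, Int.negSucc 1, Int.ofNat 0, Int.negSucc 1, Int.negSucc 1, Int.ofNat 0, Int.ofNat 0, Int.ofNat 2, Int.ofNat 0, Int.ofNat 0, Int.ofNat 0, Int.negSucc 1, Int.ofNat 0],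
  [Int.ofNat 2, Int.ofNat 0, Int.ofNat 0, Int.ofNat 0, Int.negSucc 1, Int.ofNat 0, Int.ofNat 0, Int.ofNat 2, Int.ofNat 0, Int.ofNat 0, Int.ofNat 0, Int.ofNat 0, Int.negSucc 1, Int.ofNat 2, Int.ofNat 0, Int.ofNat 2, Int.ofNat 0, Int.negSucc 1, Int.ofNat 0, Int.ofNat 0, Int.ofNat 0, Int.ofNat 0, Int.negSucc 1, Int.ofNat 0],
  [Int.negSucc 1, Int.ofNat 0, Int.ofNat 0, Int.ofNat 0, Int.ofNat 2, Int.ofNat 0, Int.ofNat 0, Int.ofNat 2, Int.ofNat 0, Int.ofNat 0, Int.ofNat 0, Int.ofNat 0, Int.ofNat 2, Int.negSucc 1, Int.ofNat 0, Int.ofNat 2, Int.ofNat 0, Int.negSucc 1, Int.ofNat 0, Int.ofNat 0, Int.ofNat 0, Int.ofNat 0, Int.negSucc 1, Int.ofNat 0],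
  [Int.ofNat 0, Int.negSucc 1, Int.ofNat 0, Int.ofNat 2, Int.negSucc 1, Int.ofNat 0, Int.ofNat 0, Int.negSucc 1, Int.ofNat 0, Int.ofNat 0, Int.ofNat 0, Int.ofNat 0, Int.ofNat 0, Int.ofNat 2, Int.ofNat 0, Int.ofNat 0, Int.ofNat 0, Int.ofNat 2, Int.ofNat 0, Int.ofNat 0, Int.ofNat 0, Int.ofNat 2, Int.ofNat 0, Int.negSucc 1],
  [Int.ofNat 0, Int.negSucc 1, Int.ofNat 0, Int.ofNat 2, Int.negSucc 1, Int.ofNat 0, Int.ofNat 0, Int.ofNat 2, Int.ofNat 0, Int.ofNat 0, Int.ofNat 0, Int.ofNat 0, Int.ofNat 0, Int.ofNat 2, Int.ofNat 0, Int.ofNat 0, Int.ofNat 0, Int.ofNat 2, Int.ofNat 0, Int.ofNat 0, Int.ofNat 0, Int.negSucc 1, Int.ofNat 0, Int.negSucc 1],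
  [Int.ofNat 0, Int.ofNat 0, Int.negSucc 1, Int.ofNat 0, Int.ofNat 2, Int.negSucc 1, Int.ofNat 0, Int.ofNat 0, Int.ofNat 2, Int.ofNat 0, Int.ofNat 0, Int.ofNat 0, Int.ofNat 0, Int.ofNat 0, Int.ofNat 2, Int.ofNat 0, Int.ofNat 0, Int.ofNat 0, Int.ofNat 2, Int.ofNat 0, Int.ofNat 0, Int.ofNat 0, Int.negSucc 1, Int.negSucc 1],
  [Int.negSucc 1, Int.negSucc 1, Int.ofNat 0, Int.ofNat 0, Int.ofNat 2, Int.negSucc 1, Int.ofNat 0, Int.ofNat 0, Int.ofNat 0, Int.ofNat 0, Int.ofNat 0, Int.negSucc 1, Int.negSucc 1, Int.ofNat 0, Int.ofNat 2, Int.ofNat 0, Int.ofNat 0, Int.ofNat 0, Int.ofNat 0, Int.ofNat 0, Int.ofNat 0, Int.ofNat 0, Int.negSucc 1, Int.ofNat 0],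
  [Int.ofNat 0, Int.ofNat 2, Int.negSucc 1, Int.ofNat 0, Int.ofNat 0, Int.ofNat 0, Int.ofNat 0, Int.ofNat 0, Int.negSucc 1, Int.negSucc 1, Int.ofNat 0, Int.ofNat 2, Int.ofNat 0, Int.ofNat 0, Int.ofNat 0, Int.ofNat 0, Int.ofNat 0, Int.ofNat 0, Int.ofNat 0, Int.negSucc 1, Int.negSucc 1, Int.negSucc 1, Int.ofNat 0, Int.ofNat 0],
  [Int.ofNat 0, Int.negSucc 1, Int.ofNat 2, Int.ofNat 0, Int.ofNat 0, Int.ofNat 0, Int.ofNat 2, Int.ofNat 2, Int.negSucc 1, Int.ofNat 0, Int.ofNat 2, Int.ofNat 2, Int.ofNat 0, Int.ofNat 0, Int.ofNat 0, Int.ofNat 2, Int.ofNat 0, Int.ofNat 0, Int.ofNat 0, Int.ofNat 0, Int.ofNat 0, Int.ofNat 0, Int.ofNat 0, Int.ofNat 0],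
  [Int.ofNat 0, Int.ofNat 2, Int.ofNat 0, Int.ofNat 0, Int.ofNat 0, Int.ofNat 2, Int.ofNat 2, Int.ofNat 2, Int.ofNat 0, Int.ofNat 0, Int.ofNat 0, Int.ofNat 0, Int.ofNat 0, Int.ofNat 0, Int.ofNat 0, Int.ofNat 2, Int.negSucc 1, Int.ofNat 0, Int.negSucc 1, Int.ofNat 2, Int.ofNat 0, Int.ofNat 0, Int.ofNat 0, Int.ofNat 0],
  [Int.ofNat 1, Int.negSucc 0, Int.ofNat 1, Int.negSucc 0, Int.ofNat 1, Int.ofNat 1, Int.negSucc 0, Int.negSucc 0, Int.ofNat 1, Int.negSucc 0, Int.negSucc 0, Int.ofNat 1, Int.ofNat 1, Int.ofNat 1, Int.negSucc 0, Int.ofNat 1, Int.negSucc 0, Int.negSucc 0, Int.negSucc 0, Int.negSucc 0, Int.negSucc 0, Int.negSucc 2, Int.ofNat 1, Int.ofNat 1],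
  [Int.ofNat 1, Int.negSucc 0, Int.negSucc 0, Int.negSucc 0, Int.ofNat 1, Int.negSucc 0, Int.ofNat 1, Int.negSucc 0, Int.ofNat 1, Int.ofNat 1, Int.ofNat 1, Int.ofNat 1, Int.ofNat 1, Int.ofNat 1, Int.negSucc 0, Int.negSucc 0, Int.negSucc 0, Int.negSucc 0, Int.ofNat 1, Int.negSucc 0, Int.negSucc 0, Int.negSucc 2, Int.negSucc 0, Int.ofNat 1],
  [Int.ofNat 1, Int.negSucc 0, Int.negSucc 0, Int.ofNat 1, Int.negSucc 0, Int.negSucc 0, Int.negSucc 0, Int.negSucc 0, Int.negSucc 2, Int.negSucc 0, Int.ofNat 1, Int.ofNat 1, Int.ofNat 1, Int.ofNat 1, Int.negSucc 0, Int.ofNat 1, Int.negSucc 0, Int.ofNat 1, Int.ofNat 1, Int.negSucc 0, Int.negSucc 0, Int.negSucc 0, Int.ofNat 1, Int.ofNat 1],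
  [Int.ofNat 1, Int.negSucc 0, Int.ofNat 1, Int.ofNat 1, Int.negSucc 0, Int.ofNat 1, Int.ofNat 1, Int.negSucc 0, Int.negSucc 2, Int.ofNat 1, Int.negSucc 0, Int.ofNat 1, Int.ofNat 1, Int.ofNat 1, Int.negSucc 0, Int.negSucc 0, Int.negSucc 0, Int.ofNat 1, Int.negSucc 0, Int.negSucc 0, Int.negSucc 0, Int.negSucc 0, Int.negSucc 0, Int.ofNat 1],
  [Int.ofNat 0, Int.ofNat 2, Int.ofNat 0, Int.ofNat 0, Int.ofNat 0, Int.ofNat 0, Int.ofNat 2, Int.ofNat 0, Int.negSucc 1, Int.ofNat 2, Int.ofNat 0, Int.ofNat 2, Int.ofNat 2, Int.ofNat 2, Int.negSucc 1, Int.ofNat 0, Int.ofNat 0, Int.ofNat 0, Int.ofNat 0, Int.ofNat 0, Int.ofNat 0, Int.ofNat 0, Int.ofNat 0, Int.ofNat 0],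
  [Int.ofNat 0, Int.ofNat 0, Int.ofNat 2, Int.ofNat 0, Int.ofNat 0, Int.ofNat 0, Int.ofNat 2, Int.ofNat 0, Int.ofNat 0, Int.ofNat 2, Int.ofNat 0, Int.ofNat 0, Int.negSucc 1, Int.ofNat 2, Int.ofNat 0, Int.ofNat 0, Int.ofNat 2, Int.ofNat 2, Int.ofNat 0, Int.ofNat 0, Int.ofNat 0, Int.ofNat 0, Int.negSucc 1, Int.ofNat 0],
  [Int.ofNat 1, Int.ofNat 1, Int.negSucc 0, Int.negSucc 0, Int.negSucc 0, Int.negSucc 0, Int.ofNat 1, Int.negSucc 0, Int.ofNat 1, Int.ofNat 1, Int.negSucc 0, Int.ofNat 1, Int.negSucc 0, Int.ofNat 1, Int.negSucc 0, Int.negSucc 0, Int.ofNat 1, Int.ofNat 1, Int.ofNat 1, Int.negSucc 0, Int.negSucc 0, Int.negSucc 0, Int.negSucc 2, Int.ofNat 1],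
  [Int.negSucc 0, Int.negSucc 0, Int.negSucc 2, Int.ofNat 1, Int.ofNat 1, Int.negSucc 0, Int.negSucc 0, Int.negSucc 0, Int.negSucc 0, Int.ofNat 1, Int.negSucc 0, Int.ofNat 1, Int.ofNat 1, Int.negSucc 0, Int.ofNat 1, Int.negSucc 0, Int.ofNat 1, Int.negSucc 0, Int.negSucc 0, Int.ofNat 1, Int.ofNat 1, Int.ofNat 1, Int.negSucc 0, Int.ofNat 1],
  [Int.negSucc 0, Int.negSucc 0, Int.ofNat 1, Int.ofNat 1, Int.ofNat 1, Int.negSucc 0, Int.negSucc 0, Int.negSucc 0, Int.negSucc 0, Int.ofNat 1, Int.negSucc 0, Int.ofNat 1, Int.ofNat 1, Int.negSucc 0, Int.ofNat 1, Int.negSucc 0, Int.ofNat 1, Int.negSucc 0, Int.negSucc 0, Int.ofNat 1, Int.ofNat 1, Int.ofNat 1, Int.negSucc 0, Int.negSucc 2],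
  [Int.negSucc 0, Int.ofNat 1, Int.ofNat 1, Int.ofNat 1, Int.negSucc 0, Int.negSucc 0, Int.negSucc 0, Int.negSucc 0, Int.ofNat 1, Int.negSucc 0, Int.ofNat 1, Int.ofNat 1, Int.negSucc 0, Int.ofNat 1, Int.negSucc 0, Int.ofNat 1, Int.negSucc 0, Int.negSucc 0, Int.ofNat 1, Int.ofNat 1, Int.ofNat 1, Int.negSucc 0, Int.negSucc 0, Int.negSucc 2],
  [Int.ofNat 1, Int.ofNat 1, Int.negSucc 0, Int.ofNat 1, Int.negSucc 0, Int.negSucc 0, Int.negSucc 0, Int.ofNat 1, Int.ofNat 1, Int.ofNat 1, Int.negSucc 0, Int.negSucc 0, Int.negSucc 0, Int.ofNat 1, Int.negSucc 0, Int.ofNat 1, Int.negSucc 0, Int.negSucc 0, Int.negSucc 0, Int.ofNat 1, Int.ofNat 1, Int.ofNat 1, Int.negSucc 0, Int.negSucc 2],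
  [Int.ofNat 1, Int.negSucc 0, Int.negSucc 0, Int.ofNat 1, Int.ofNat 1, Int.negSucc 0, Int.negSucc 0, Int.ofNat 1, Int.ofNat 1, Int.negSucc 0, Int.ofNat 1, Int.negSucc 0, Int.ofNat 1, Int.ofNat 1, Int.ofNat 1, Int.ofNat 1, Int.negSucc 0, Int.negSucc 0, Int.negSucc 0, Int.negSucc 0, Int.negSucc 0, Int.ofNat 1, Int.negSucc 0, Int.negSucc 2],
  [Int.negSucc 0, Int.negSucc 0, Int.ofNat 1, Int.ofNat 1, Int.ofNat 1, Int.negSucc 0, Int.negSucc 0, Int.negSucc 0, Int.ofNat 1, Int.ofNat 1, Int.negSucc 0, Int.ofNat 1, Int.ofNat 1, Int.ofNat 1, Int.ofNat 1, Int.ofNat 1, Int.negSucc 0, Int.negSucc 0, Int.ofNat 1, Int.negSucc 0, Int.negSucc 0, Int.negSucc 0, Int.negSucc 0, Int.negSucc 2],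
  [Int.negSucc 0, Int.negSucc 0, Int.negSucc 0, Int.ofNat 1, Int.ofNat 1, Int.ofNat 1, Int.negSucc 0, Int.negSucc 0, Int.negSucc 0, Int.ofNat 1, Int.ofNat 1, Int.negSucc 0, Int.ofNat 1, Int.ofNat 1, Int.ofNat 1, Int.ofNat 1, Int.ofNat 1, Int.negSucc 0, Int.negSucc 0, Int.ofNat 1, Int.negSucc 0, Int.negSucc 0, Int.negSucc 0, Int.negSucc 2],
  [Int.negSucc 1, Int.negSucc 1, Int.negSucc 1, Int.ofNat 0, Int.ofNat 0, Int.ofNat 0, Int.ofNat 0, Int.ofNat 0, Int.ofNat 0, Int.ofNat 0, Int.ofNat 0, Int.ofNat 0, Int.ofNat 2, Int.ofNat 0, Int.ofNat 0, Int.ofNat 0, Int.ofNat 0, Int.negSucc 1, Int.ofNat 0, Int.ofNat 2, Int.negSucc 1, Int.ofNat 0, Int.negSucc 1, Int.ofNat 0],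
  [Int.ofNat 0, Int.ofNat 0, Int.ofNat 0, Int.ofNat 0, Int.ofNat 0, Int.ofNat 0, Int.ofNat 0, Int.ofNat 0, Int.ofNat 0, Int.ofNat 2, Int.ofNat 0, Int.ofNat 0, Int.ofNat 0, Int.ofNat 0, Int.negSucc 1, Int.ofNat 0, Int.ofNat 2, Int.negSucc 1, Int.ofNat 0, Int.negSucc 1, Int.negSucc 1, Int.negSucc 1, Int.negSucc 1, Int.ofNat 0],
  [Int.ofNat 0, Int.ofNat 0, Int.ofNat 0, Int.ofNat 2, Int.ofNat 0, Int.ofNat 2, Int.ofNat 2, Int.ofNat 2, Int.ofNat 0, Int.ofNat 2, Int.ofNat 0, Int.ofNat 0, Int.ofNat 0, Int.ofNat 0, Int.ofNat 0, Int.ofNat 0, Int.ofNat 2, Int.ofNat 0, Int.ofNat 0, Int.ofNat 0, Int.negSucc 1, Int.ofNat 0, Int.negSucc 1, Int.ofNat 0],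
  [Int.ofNat 0, Int.ofNat 2, Int.ofNat 0, Int.ofNat 2, Int.ofNat 0, Int.ofNat 2, Int.ofNat 0, Int.ofNat 0, Int.ofNat 0, Int.ofNat 0, Int.negSucc 1, Int.ofNat 0, Int.ofNat 2, Int.ofNat 2, Int.negSucc 1, Int.ofNat 0, Int.ofNat 0, Int.ofNat 0, Int.ofNat 0, Int.ofNat 0, Int.ofNat 0, Int.ofNat 2, Int.ofNat 0, Int.ofNat 0],
  [Int.ofNat 1, Int.negSucc 0, Int.ofNat 1, Int.ofNat 1, Int.negSucc 0, Int.ofNat 1, Int.negSucc 0, Int.negSucc 0, Int.negSucc 0, Int.ofNat 1, Int.negSucc 0, Int.negSucc 0, Int.ofNat 1, Int.ofNat 1, Int.negSucc 2, Int.ofNat 1, Int.negSucc 0, Int.negSucc 0, Int.negSucc 0, Int.negSucc 0, Int.ofNat 1, Int.ofNat 1, Int.negSucc 0, Int.ofNat 1],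
  [Int.ofNat 1, Int.negSucc 0, Int.negSucc 0, Int.ofNat 1, Int.negSucc 0, Int.negSucc 0, Int.ofNat 1, Int.negSucc 0, Int.negSucc 0, Int.negSucc 0, Int.ofNat 1, Int.negSucc 0, Int.ofNat 1, Int.ofNat 1, Int.negSucc 2, Int.negSucc 0, Int.negSucc 0, Int.negSucc 0, Int.ofNat 1, Int.negSucc 0, Int.ofNat 1, Int.ofNat 1, Int.ofNat 1, Int.ofNat 1],
  [Int.ofNat 1, Int.negSucc 0, Int.negSucc 0, Int.negSucc 0, Int.negSucc 2, Int.ofNat 1, Int.ofNat 1, Int.ofNat 1, Int.negSucc 0, Int.ofNat 1, Int.ofNat 1, Int.negSucc 0, Int.negSucc 0, Int.negSucc 0, Int.negSucc 0, Int.ofNat 1, Int.negSucc 0, Int.ofNat 1, Int.negSucc 0, Int.negSucc 0, Int.ofNat 1, Int.negSucc 0, Int.ofNat 1, Int.ofNat 1],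
  [Int.negSucc 0, Int.ofNat 1, Int.ofNat 1, Int.ofNat 1, Int.ofNat 3, Int.ofNat 1, Int.negSucc 0, Int.ofNat 1, Int.ofNat 1, Int.negSucc 0, Int.ofNat 1, Int.negSucc 0, Int.ofNat 1, Int.ofNat 1, Int.negSucc 0, Int.ofNat 1, Int.ofNat 1, Int.ofNat 1, Int.ofNat 1, Int.negSucc 0, Int.ofNat 1, Int.negSucc 0, Int.ofNat 1, Int.ofNat 1],
  [Int.ofNat 1, Int.ofNat 1, Int.negSucc 0, Int.ofNat 1, Int.ofNat 1, Int.negSucc 0, Int.negSucc 0, Int.ofNat 1, Int.ofNat 1, Int.ofNat 1, Int.ofNat 1, Int.ofNat 1, Int.negSucc 0, Int.ofNat 1, Int.ofNat 1, Int.ofNat 1, Int.ofNat 1, Int.ofNat 3, Int.negSucc 0, Int.negSucc 0, Int.ofNat 1, Int.ofNat 1, Int.ofNat 1, Int.negSucc 0],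
  [Int.negSucc 0, Int.ofNat 1, Int.ofNat 1, Int.ofNat 1, Int.ofNat 1, Int.negSucc 0, Int.negSucc 0, Int.negSucc 0, Int.ofNat 1, Int.negSucc 0, Int.negSucc 0, Int.negSucc 0, Int.negSucc 0, Int.ofNat 1, Int.ofNat 1, Int.ofNat 1, Int.ofNat 1, Int.ofNat 3, Int.ofNat 1, Int.negSucc 0, Int.ofNat 1, Int.negSucc 0, Int.ofNat 1, Int.negSucc 0],
  [Int.ofNat 1, Int.negSucc 0, Int.ofNat 1, Int.ofNat 1, Int.ofNat 1, Int.ofNat 1, Int.negSucc 0, Int.negSucc 0, Int.negSucc 0, Int.ofNat 1, Int.negSucc 0, Int.negSucc 0, Int.negSucc 0, Int.negSucc 0, Int.ofNat 1, Int.ofNat 1, Int.ofNat 1, Int.ofNat 1, Int.ofNat 3, Int.ofNat 1, Int.negSucc 0, Int.ofNat 1, Int.negSucc 0, Int.negSucc 0],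
  [Int.negSucc 0, Int.ofNat 1, Int.negSucc 0, Int.negSucc 0, Int.ofNat 1, Int.negSucc 0, Int.negSucc 0, Int.negSucc 0, Int.negSucc 0, Int.ofNat 1, Int.negSucc 0, Int.negSucc 0, Int.negSucc 0, Int.negSucc 0, Int.negSucc 0, Int.ofNat 1, Int.ofNat 1, Int.negSucc 0, Int.ofNat 3, Int.ofNat 1, Int.negSucc 0, Int.ofNat 1, Int.negSucc 0, Int.ofNat 1],
  [Int.negSucc 0, Int.ofNat 1, Int.negSucc 0, Int.negSucc 0, Int.negSucc 0, Int.negSucc 0, Int.ofNat 1, Int.negSucc 0, Int.negSucc 0, Int.negSucc 0, Int.negSucc 0, Int.negSucc 0, Int.ofNat 1, Int.ofNat 1, Int.negSucc 0, Int.ofNat 3, Int.ofNat 1, Int.negSucc 0, Int.ofNat 1, Int.negSucc 0, Int.negSucc 0, Int.ofNat 1, Int.negSucc 0, Int.ofNat 1],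
  [Int.ofNat 1, Int.negSucc 0, Int.ofNat 1, Int.ofNat 1, Int.negSucc 0, Int.ofNat 1, Int.ofNat 1, Int.negSucc 0, Int.negSucc 0, Int.negSucc 0, Int.negSucc 0, Int.negSucc 0, Int.ofNat 1, Int.ofNat 1, Int.ofNat 1, Int.ofNat 3, Int.ofNat 1, Int.ofNat 1, Int.ofNat 1, Int.negSucc 0, Int.negSucc 0, Int.ofNat 1, Int.negSucc 0, Int.negSucc 0],
  [Int.ofNat 1, Int.ofNat 1, Int.negSucc 0, Int.ofNat 1, Int.ofNat 1, Int.negSucc 0, Int.ofNat 1, Int.negSucc 0, Int.ofNat 1, Int.ofNat 1, Int.negSucc 0, Int.ofNat 1, Int.negSucc 0, Int.ofNat 1, Int.negSucc 0, Int.ofNat 3, Int.negSucc 0, Int.ofNat 1, Int.negSucc 0, Int.negSucc 0, Int.ofNat 1, Int.ofNat 1, Int.negSucc 0, Int.negSucc 0],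
  [Int.negSucc 0, Int.negSucc 0, Int.ofNat 1, Int.ofNat 1, Int.ofNat 1, Int.negSucc 0, Int.ofNat 1, Int.negSucc 0, Int.ofNat 1, Int.negSucc 0, Int.negSucc 2, Int.ofNat 1, Int.negSucc 0, Int.ofNat 1, Int.negSucc 0, Int.ofNat 1, Int.negSucc 0, Int.ofNat 1, Int.negSucc 0, Int.negSucc 0, Int.negSucc 0, Int.ofNat 1, Int.negSucc 0, Int.ofNat 1],
  [Int.negSucc 0, Int.negSucc 0, Int.negSucc 0, Int.ofNat 1, Int.ofNat 1, Int.ofNat 1, Int.negSucc 0, Int.negSucc 0, Int.ofNat 1, Int.ofNat 1, Int.ofNat 3, Int.ofNat 1, Int.negSucc 0, Int.ofNat 1, Int.negSucc 0, Int.negSucc 0, Int.negSucc 0, Int.ofNat 1, Int.ofNat 1, Int.negSucc 0, Int.negSucc 0, Int.ofNat 1, Int.ofNat 1, Int.ofNat 1],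
  [Int.ofNat 3, Int.negSucc 0, Int.ofNat 1, Int.ofNat 1, Int.negSucc 0, Int.negSucc 0, Int.ofNat 1, Int.ofNat 1, Int.ofNat 1, Int.negSucc 0, Int.ofNat 1, Int.negSucc 0, Int.negSucc 0, Int.ofNat 1, Int.ofNat 1, Int.ofNat 1, Int.negSucc 0, Int.negSucc 0, Int.ofNat 1, Int.negSucc 0, Int.negSucc 0, Int.negSucc 0, Int.ofNat 1, Int.ofNat 1],
  [Int.ofNat 3, Int.negSucc 0, Int.negSucc 0, Int.ofNat 1, Int.negSucc 0, Int.ofNat 1, Int.negSucc 0, Int.ofNat 1, Int.ofNat 1, Int.ofNat 1, Int.negSucc 0, Int.negSucc 0, Int.negSucc 0, Int.ofNat 1, Int.ofNat 1, Int.negSucc 0, Int.negSucc 0, Int.negSucc 0, Int.negSucc 0, Int.negSucc 0, Int.negSucc 0, Int.negSucc 0, Int.negSucc 0, Int.ofNat 1],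
  [Int.negSucc 1, Int.ofNat 2, Int.ofNat 2, Int.ofNat 0, Int.ofNat 0, Int.ofNat 0, Int.ofNat 0, Int.ofNat 2, Int.ofNat 2, Int.ofNat 2, Int.ofNat 0, Int.ofNat 0, Int.ofNat 0, Int.ofNat 2, Int.ofNat 0, Int.ofNat 0, Int.ofNat 0, Int.negSucc 1, Int.ofNat 0, Int.ofNat 0, Int.ofNat 0, Int.ofNat 0, Int.ofNat 0, Int.ofNat 0],
  [Int.negSucc 1, Int.ofNat 0, Int.ofNat 0, Int.ofNat 0, Int.ofNat 2, Int.ofNat 0, Int.ofNat 2, Int.ofNat 0, Int.ofNat 0, Int.ofNat 0, Int.ofNat 2, Int.ofNat 0, Int.ofNat 2, Int.ofNat 2, Int.negSucc 1, Int.ofNat 0, Int.ofNat 2, Int.ofNat 0, Int.ofNat 0, Int.ofNat 0, Int.ofNat 0, Int.ofNat 0, Int.ofNat 0, Int.ofNat 0],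
  [Int.ofNat 1, Int.negSucc 0, Int.negSucc 0, Int.ofNat 1, Int.negSucc 0, Int.ofNat 1, Int.ofNat 1, Int.negSucc 0, Int.negSucc 0, Int.negSucc 0, Int.ofNat 1, Int.negSucc 0, Int.ofNat 1, Int.negSucc 0, Int.negSucc 0, Int.negSucc 0, Int.negSucc 0, Int.ofNat 1, Int.negSucc 0, Int.negSucc 0, Int.negSucc 0, Int.negSucc 0, Int.negSucc 2, Int.negSucc 0],
  [Int.negSucc 0, Int.negSucc 0, Int.negSucc 2, Int.ofNat 1, Int.negSucc 0, Int.negSucc 0, Int.ofNat 1, Int.negSucc 0, Int.ofNat 1, Int.ofNat 1, Int.negSucc 0, Int.negSucc 0, Int.negSucc 0, Int.ofNat 1, Int.negSucc 0, Int.ofNat 1, Int.negSucc 0, Int.negSucc 0, Int.negSucc 0, Int.negSucc 0, Int.ofNat 1, Int.negSucc 0, Int.negSucc 0, Int.negSucc 0],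
  [Int.negSucc 1, Int.negSucc 1, Int.ofNat 0, Int.ofNat 2, Int.ofNat 0, Int.ofNat 0, Int.ofNat 2, Int.ofNat 0, Int.ofNat 2, Int.ofNat 0, Int.negSucc 1, Int.ofNat 0, Int.ofNat 0, Int.ofNat 2, Int.ofNat 0, Int.ofNat 0, Int.ofNat 0, Int.ofNat 0, Int.ofNat 0, Int.ofNat 0, Int.ofNat 0, Int.ofNat 0, Int.ofNat 0, Int.negSucc 1],
  [Int.negSucc 1, Int.ofNat 0, Int.ofNat 2, Int.ofNat 0, Int.ofNat 0, Int.ofNat 2, Int.ofNat 0, Int.ofNat 2, Int.ofNat 0, Int.negSucc 1, Int.ofNat 0, Int.ofNat 0, Int.ofNat 2, Int.ofNat 0, Int.ofNat 0, Int.ofNat 0, Int.ofNat 0, Int.ofNat 0, Int.ofNat 0, Int.ofNat 0, Int.ofNat 0, Int.ofNat 0, Int.negSucc 1, Int.negSucc 1],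
  [Int.ofNat 2, Int.ofNat 0, Int.negSucc 1, Int.ofNat 0, Int.ofNat 0, Int.ofNat 2, Int.ofNat 0, Int.negSucc 1, Int.ofNat 0, Int.ofNat 2, Int.ofNat 0, Int.ofNat 0, Int.ofNat 2, Int.ofNat 0, Int.ofNat 0, Int.ofNat 0, Int.ofNat 0, Int.ofNat 0, Int.ofNat 0, Int.ofNat 0, Int.ofNat 0, Int.ofNat 0, Int.negSucc 1, Int.negSucc 1],
  [Int.ofNat 2, Int.negSucc 1, Int.ofNat 0, Int.ofNat 0, Int.ofNat 0, Int.ofNat 0, Int.ofNat 0, Int.ofNat 0, Int.ofNat 2, Int.ofNat 0, Int.ofNat 0, Int.ofNat 0, Int.ofNat 0, Int.ofNat 0, Int.ofNat 0, Int.ofNat 0, Int.ofNat 2, Int.negSucc 1, Int.ofNat 0, Int.ofNat 0, Int.ofNat 2, Int.negSucc 1, Int.ofNat 0, Int.negSucc 1],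
  [Int.negSucc 1, Int.negSucc 1, Int.ofNat 0, Int.ofNat 0, Int.ofNat 0, Int.ofNat 0, Int.ofNat 0, Int.ofNat 0, Int.ofNat 2, Int.ofNat 0, Int.ofNat 0, Int.ofNat 0, Int.ofNat 0, Int.ofNat 0, Int.ofNat 0, Int.ofNat 0, Int.ofNat 2, Int.negSucc 1, Int.ofNat 0, Int.ofNat 0, Int.ofNat 2, Int.ofNat 2, Int.ofNat 0, Int.negSucc 1],
  [Int.ofNat 0, Int.negSucc 1, Int.negSucc 1, Int.ofNat 0, Int.ofNat 0, Int.ofNat 0, Int.ofNat 0, Int.ofNat 0, Int.ofNat 0, Int.ofNat 2, Int.ofNat 0, Int.ofNat 0, Int.ofNat 0, Int.ofNat 0, Int.ofNat 0, Int.ofNat 0, Int.ofNat 0, Int.ofNat 2, Int.negSucc 1, Int.ofNat 0, Int.ofNat 0, Int.ofNat 2, Int.ofNat 2, Int.negSucc 1],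
  [Int.negSucc 2, Int.negSucc 0, Int.negSucc 0, Int.negSucc 0, Int.negSucc 0, Int.negSucc 0, Int.negSucc 0, Int.negSucc 0, Int.ofNat 1, Int.ofNat 1, Int.negSucc 0, Int.ofNat 1, Int.ofNat 1, Int.negSucc 0, Int.negSucc 0, Int.negSucc 0, Int.negSucc 0, Int.ofNat 1, Int.negSucc 0, Int.negSucc 0, Int.negSucc 0, Int.ofNat 1, Int.ofNat 1, Int.negSucc 0],
  [Int.negSucc 0, Int.negSucc 0, Int.negSucc 0, Int.negSucc 0, Int.negSucc 0, Int.ofNat 1, Int.ofNat 1, Int.negSucc 0, Int.ofNat 1, Int.ofNat 1, Int.negSucc 0, Int.negSucc 0, Int.negSucc 0, Int.negSucc 0, Int.ofNat 1, Int.negSucc 0, Int.negSucc 0, Int.negSucc 0, Int.ofNat 1, Int.ofNat 1, Int.negSucc 2, Int.negSucc 0, Int.negSucc 0, Int.negSucc 0],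
  [Int.negSucc 0, Int.negSucc 0, Int.negSucc 0, Int.negSucc 0, Int.ofNat 1, Int.ofNat 1, Int.ofNat 1, Int.negSucc 0, Int.ofNat 1, Int.ofNat 3, Int.ofNat 1, Int.negSucc 0, Int.negSucc 0, Int.ofNat 1, Int.ofNat 1, Int.ofNat 1, Int.ofNat 1, Int.negSucc 0, Int.ofNat 1, Int.ofNat 1, Int.negSucc 0, Int.negSucc 0, Int.ofNat 1, Int.negSucc 0],
  [Int.negSucc 0, Int.ofNat 1, Int.ofNat 1, Int.negSucc 0, Int.ofNat 1, Int.negSucc 0, Int.negSucc 0, Int.ofNat 1, Int.negSucc 0, Int.ofNat 1, Int.negSucc 0, Int.negSucc 0, Int.ofNat 3, Int.ofNat 1, Int.ofNat 1, Int.ofNat 1, Int.ofNat 1, Int.ofNat 1, Int.negSucc 0, Int.negSucc 0, Int.negSucc 0, Int.ofNat 1, Int.ofNat 1, Int.negSucc 0],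
  [Int.ofNat 1, Int.negSucc 0, Int.negSucc 0, Int.negSucc 0, Int.negSucc 0, Int.negSucc 0, Int.negSucc 0, Int.ofNat 1, Int.negSucc 0, Int.ofNat 1, Int.negSucc 0, Int.negSucc 0, Int.ofNat 3, Int.negSucc 0, Int.ofNat 1, Int.ofNat 1, Int.negSucc 0, Int.ofNat 1, Int.negSucc 0, Int.negSucc 0, Int.negSucc 0, Int.ofNat 1, Int.negSucc 0, Int.ofNat 1],
  [Int.ofNat 1, Int.negSucc 0, Int.ofNat 1, Int.negSucc 0, Int.negSucc 0, Int.ofNat 1, Int.ofNat 1, Int.ofNat 1, Int.negSucc 0, Int.negSucc 0, Int.ofNat 1, Int.negSucc 0, Int.ofNat 3, Int.negSucc 0, Int.ofNat 1, Int.negSucc 0, Int.negSucc 0, Int.ofNat 1, Int.ofNat 1, Int.negSucc 0, Int.negSucc 0, Int.ofNat 1, Int.ofNat 1, Int.ofNat 1],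
  [Int.ofNat 1, Int.negSucc 0, Int.negSucc 0, Int.negSucc 0, Int.ofNat 1, Int.ofNat 1, Int.ofNat 1, Int.negSucc 0, Int.ofNat 1, Int.negSucc 0, Int.negSucc 0, Int.ofNat 1, Int.negSucc 0, Int.negSucc 0, Int.ofNat 1, Int.ofNat 1, Int.negSucc 0, Int.ofNat 3, Int.negSucc 0, Int.ofNat 1, Int.ofNat 1, Int.negSucc 0, Int.ofNat 1, Int.ofNat 1],
  [Int.negSucc 0, Int.ofNat 1, Int.ofNat 1, Int.ofNat 1, Int.negSucc 0, Int.ofNat 1, Int.negSucc 0, Int.negSucc 0, Int.negSucc 0, Int.ofNat 1, Int.negSucc 0, Int.ofNat 1, Int.ofNat 1, Int.ofNat 1, Int.ofNat 1, Int.ofNat 1, Int.ofNat 1, Int.ofNat 3, Int.ofNat 1, Int.ofNat 1, Int.ofNat 1, Int.negSucc 0, Int.ofNat 1, Int.ofNat 1],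
  [Int.ofNat 1, Int.ofNat 1, Int.ofNat 1, Int.ofNat 1, Int.ofNat 3, Int.ofNat 1, Int.ofNat 1, Int.ofNat 1, Int.ofNat 1, Int.ofNat 1, Int.ofNat 1, Int.ofNat 1, Int.negSucc 0, Int.negSucc 0, Int.ofNat 1, Int.ofNat 1, Int.negSucc 0, Int.negSucc 0, Int.ofNat 1, Int.negSucc 0, Int.negSucc 0, Int.ofNat 1, Int.ofNat 1, Int.negSucc 0],
  [Int.negSucc 0, Int.ofNat 1, Int.negSucc 0, Int.ofNat 1, Int.ofNat 3, Int.ofNat 1, Int.ofNat 1, Int.negSucc 0, Int.ofNat 1, Int.negSucc 0, Int.negSucc 0, Int.negSucc 0, Int.negSucc 0, Int.negSucc 0, Int.ofNat 1, Int.ofNat 1, Int.negSucc 0, Int.negSucc 0, Int.negSucc 0, Int.negSucc 0, Int.negSucc 0, Int.negSucc 0, Int.ofNat 1, Int.negSucc 0],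
  [Int.ofNat 1, Int.negSucc 0, Int.ofNat 1, Int.negSucc 0, Int.ofNat 1, Int.ofNat 3, Int.ofNat 1, Int.ofNat 1, Int.negSucc 0, Int.ofNat 1, Int.negSucc 0, Int.negSucc 0, Int.negSucc 0, Int.negSucc 0, Int.negSucc 0, Int.ofNat 1, Int.ofNat 1, Int.negSucc 0, Int.negSucc 0, Int.negSucc 0, Int.negSucc 0, Int.negSucc 0, Int.negSucc 0, Int.negSucc 0],
  [Int.negSucc 0, Int.ofNat 1, Int.negSucc 0, Int.negSucc 0, Int.ofNat 1, Int.ofNat 3, Int.ofNat 1, Int.ofNat 1, Int.ofNat 1, Int.ofNat 1, Int.negSucc 0, Int.ofNat 1, Int.ofNat 1, Int.negSucc 0, Int.negSucc 0, Int.ofNat 1, Int.ofNat 1, Int.negSucc 0, Int.ofNat 1, Int.negSucc 0, Int.negSucc 0, Int.negSucc 0, Int.negSucc 0, Int.ofNat 1],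
  [Int.negSucc 0, Int.ofNat 1, Int.ofNat 3, Int.ofNat 1, Int.ofNat 1, Int.ofNat 1, Int.ofNat 1, Int.negSucc 0, Int.ofNat 1, Int.ofNat 1, Int.negSucc 0, Int.negSucc 0, Int.ofNat 1, Int.ofNat 1, Int.negSucc 0, Int.ofNat 1, Int.negSucc 0, Int.negSucc 0, Int.negSucc 0, Int.negSucc 0, Int.negSucc 0, Int.ofNat 1, Int.negSucc 0, Int.ofNat 1],
  [Int.ofNat 3, Int.ofNat 1, Int.negSucc 0, Int.ofNat 1, Int.ofNat 1, Int.ofNat 1, Int.ofNat 1, Int.negSucc 0, Int.ofNat 1, Int.ofNat 1, Int.negSucc 0, Int.negSucc 0, Int.ofNat 1, Int.ofNat 1, Int.negSucc 0, Int.ofNat 1, Int.negSucc 0, Int.negSucc 0, Int.negSucc 0, Int.negSucc 0, Int.negSucc 0, Int.ofNat 1, Int.negSucc 0, Int.ofNat 1],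
  [Int.ofNat 3, Int.ofNat 1, Int.ofNat 1, Int.ofNat 1, Int.negSucc 0, Int.negSucc 0, Int.negSucc 0, Int.negSucc 0, Int.ofNat 1, Int.ofNat 1, Int.negSucc 0, Int.negSucc 0, Int.ofNat 1, Int.negSucc 0, Int.negSucc 0, Int.ofNat 1, Int.ofNat 1, Int.negSucc 0, Int.ofNat 1, Int.negSucc 0, Int.ofNat 1, Int.ofNat 1, Int.negSucc 0, Int.ofNat 1],
  [Int.ofNat 0, Int.ofNat 2, Int.ofNat 2, Int.ofNat 2, Int.ofNat 0, Int.ofNat 0, Int.ofNat 0, Int.ofNat 0, Int.ofNat 0, Int.ofNat 0, Int.negSucc 1, Int.negSucc 1, Int.ofNat 0, Int.ofNat 0, Int.ofNat 0, Int.ofNat 0, Int.ofNat 2, Int.ofNat 0, Int.ofNat 0, Int.ofNat 0, Int.ofNat 0, Int.ofNat 2, Int.ofNat 0, Int.ofNat 2],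
  [Int.ofNat 0, Int.ofNat 2, Int.negSucc 1, Int.ofNat 2, Int.ofNat 0, Int.ofNat 0, Int.ofNat 0, Int.ofNat 0, Int.ofNat 0, Int.ofNat 0, Int.ofNat 2, Int.negSucc 1, Int.ofNat 0, Int.ofNat 0, Int.ofNat 0, Int.ofNat 0, Int.ofNat 2, Int.ofNat 0, Int.ofNat 0, Int.ofNat 0, Int.ofNat 0, Int.ofNat 2, Int.ofNat 0, Int.ofNat 2],
  [Int.ofNat 2, Int.ofNat 2, Int.ofNat 0, Int.ofNat 0, Int.ofNat 0, Int.ofNat 0, Int.ofNat 0, Int.ofNat 0, Int.ofNat 2, Int.ofNat 2, Int.ofNat 0, Int.ofNat 0, Int.ofNat 0, Int.ofNat 0, Int.ofNat 2, Int.ofNat 0, Int.ofNat 0, Int.ofNat 0, Int.ofNat 0, Int.negSucc 1, Int.ofNat 0, Int.ofNat 0, Int.negSucc 1, Int.ofNat 2],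
  [Int.ofNat 2, Int.ofNat 2, Int.ofNat 0, Int.ofNat 0, Int.ofNat 0, Int.ofNat 0, Int.ofNat 0, Int.ofNat 0, Int.ofNat 2, Int.negSucc 1, Int.ofNat 0, Int.ofNat 0, Int.ofNat 0, Int.ofNat 0, Int.ofNat 2, Int.ofNat 0, Int.ofNat 0, Int.ofNat 0, Int.ofNat 0, Int.negSucc 1, Int.ofNat 0, Int.ofNat 0, Int.ofNat 2, Int.ofNat 2],
  [Int.ofNat 1, Int.ofNat 1, Int.ofNat 3, Int.negSucc 0, Int.negSucc 0, Int.negSucc 0, Int.ofNat 1, Int.ofNat 1, Int.ofNat 1, Int.negSucc 0, Int.ofNat 1, Int.negSucc 0, Int.negSucc 0, Int.negSucc 0, Int.ofNat 1, Int.ofNat 1, Int.negSucc 0, Int.negSucc 0, Int.negSucc 0, Int.negSucc 0, Int.ofNat 1, Int.ofNat 1, Int.ofNat 1, Int.ofNat 1],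
  [Int.ofNat 1, Int.negSucc 0, Int.ofNat 1, Int.negSucc 0, Int.ofNat 3, Int.ofNat 1, Int.ofNat 1, Int.negSucc 0, Int.negSucc 0, Int.negSucc 0, Int.ofNat 1, Int.negSucc 0, Int.ofNat 1, Int.negSucc 0, Int.negSucc 0, Int.ofNat 1, Int.negSucc 0, Int.negSucc 0, Int.negSucc 0, Int.ofNat 1, Int.ofNat 1, Int.ofNat 1, Int.ofNat 1, Int.ofNat 1],
  [Int.ofNat 0, Int.ofNat 2, Int.ofNat 0, Int.ofNat 0, Int.ofNat 2, Int.ofNat 2, Int.ofNat 0, Int.negSucc 1, Int.ofNat 0, Int.negSucc 1, Int.ofNat 0, Int.ofNat 0, Int.ofNat 2, Int.negSucc 1, Int.ofNat 0, Int.ofNat 0, Int.negSucc 1, Int.ofNat 0, Int.ofNat 0, Int.ofNat 0, Int.ofNat 0, Int.ofNat 0, Int.ofNat 0, Int.ofNat 0],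
  [Int.ofNat 0, Int.ofNat 0, Int.ofNat 0, Int.ofNat 0, Int.ofNat 2, Int.ofNat 0, Int.ofNat 0, Int.ofNat 2, Int.ofNat 2, Int.ofNat 0, Int.negSucc 1, Int.ofNat 0, Int.negSucc 1, Int.ofNat 0, Int.ofNat 0, Int.ofNat 2, Int.negSucc 1, Int.ofNat 0, Int.ofNat 0, Int.negSucc 1, Int.ofNat 0, Int.ofNat 0, Int.ofNat 0, Int.ofNat 0],
  [Int.ofNat 0, Int.ofNat 0, Int.ofNat 0, Int.ofNat 0, Int.ofNat 2, Int.ofNat 0, Int.ofNat 0, Int.ofNat 2, Int.ofNat 2, Int.ofNat 0, Int.negSucc 1, Int.ofNat 0, Int.negSucc 1, Int.ofNat 0, Int.ofNat 0, Int.ofNat 2, Int.negSucc 1, Int.ofNat 0, Int.ofNat 0, Int.negSucc 1, Int.ofNat 0, Int.ofNat 0, Int.ofNat 0, Int.ofNat 0],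
  [Int.ofNat 0, Int.ofNat 0, Int.ofNat 0, Int.ofNat 2, Int.ofNat 0, Int.ofNat 0, Int.ofNat 2, Int.ofNat 2, Int.ofNat 0, Int.negSucc 1, Int.ofNat 0, Int.negSucc 1, Int.ofNat 0, Int.ofNat 0, Int.ofNat 2, Int.negSucc 1, Int.ofNat 0, Int.ofNat 0, Int.negSucc 1, Int.ofNat 0, Int.ofNat 0, Int.ofNat 0, Int.ofNat 0, Int.ofNat 0],
  [Int.ofNat 0, Int.ofNat 0, Int.ofNat 0, Int.ofNat 2, Int.ofNat 0, Int.ofNat 0, Int.ofNat 2, Int.negSucc 1, Int.ofNat 0, Int.ofNat 2, Int.ofNat 0, Int.ofNat 2, Int.ofNat 0, Int.ofNat 0, Int.ofNat 2, Int.negSucc 1, Int.ofNat 0, Int.ofNat 0, Int.ofNat 2, Int.ofNat 0, Int.ofNat 0, Int.ofNat 0, Int.ofNat 0, Int.ofNat 0],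
  [Int.ofNat 0, Int.ofNat 0, Int.ofNat 2, Int.ofNat 2, Int.ofNat 0, Int.ofNat 0, Int.ofNat 0, Int.ofNat 0, Int.ofNat 2, Int.ofNat 0, Int.ofNat 0, Int.ofNat 2, Int.ofNat 0, Int.ofNat 0, Int.ofNat 0, Int.negSucc 1, Int.ofNat 0, Int.ofNat 0, Int.ofNat 2, Int.ofNat 0, Int.ofNat 0, Int.negSucc 1, Int.ofNat 2, Int.ofNat 0],
  [Int.ofNat 0, Int.ofNat 0, Int.negSucc 1, Int.ofNat 2, Int.ofNat 0, Int.ofNat 0, Int.ofNat 0, Int.ofNat 0, Int.ofNat 2, Int.ofNat 0, Int.ofNat 0, Int.negSucc 1, Int.ofNat 0, Int.ofNat 0, Int.ofNat 0, Int.negSucc 1, Int.ofNat 0, Int.ofNat 0, Int.negSucc 1, Int.ofNat 0, Int.ofNat 0, Int.ofNat 2, Int.ofNat 2, Int.ofNat 0],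
  [Int.ofNat 2, Int.ofNat 0, Int.ofNat 0, Int.negSucc 1, Int.ofNat 2, Int.ofNat 0, Int.ofNat 0, Int.ofNat 0, Int.ofNat 0, Int.ofNat 2, Int.ofNat 0, Int.ofNat 0, Int.negSucc 1, Int.ofNat 0, Int.ofNat 0, Int.ofNat 0, Int.negSucc 1, Int.ofNat 0, Int.ofNat 0, Int.negSucc 1, Int.ofNat 0, Int.ofNat 0, Int.ofNat 2, Int.ofNat 0],
  [Int.negSucc 0, Int.ofNat 1, Int.ofNat 1, Int.negSucc 0, Int.ofNat 1, Int.ofNat 1, Int.ofNat 1, Int.ofNat 1, Int.ofNat 1, Int.ofNat 1, Int.negSucc 0, Int.ofNat 1, Int.negSucc 0, Int.negSucc 0, Int.ofNat 1, Int.negSucc 0, Int.negSucc 2, Int.ofNat 1, Int.ofNat 1, Int.negSucc 0, Int.negSucc 0, Int.ofNat 1, Int.ofNat 1, Int.ofNat 1],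
  [Int.negSucc 0, Int.ofNat 1, Int.ofNat 1, Int.ofNat 1, Int.ofNat 1, Int.ofNat 1, Int.ofNat 1, Int.negSucc 0, Int.ofNat 1, Int.negSucc 0, Int.negSucc 0, Int.ofNat 1, Int.negSucc 0, Int.negSucc 2, Int.ofNat 1, Int.ofNat 1, Int.negSucc 0, Int.negSucc 0, Int.ofNat 1, Int.ofNat 1, Int.negSucc 0, Int.ofNat 1, Int.ofNat 1, Int.ofNat 1],
  [Int.ofNat 2, Int.ofNat 0, Int.ofNat 0, Int.ofNat 0, Int.ofNat 2, Int.ofNat 0, Int.ofNat 0, Int.negSucc 1, Int.ofNat 0, Int.ofNat 0, Int.ofNat 0, Int.ofNat 0, Int.negSucc 1, Int.negSucc 1, Int.ofNat 0, Int.ofNat 2, Int.ofNat 0, Int.negSucc 1, Int.ofNat 0, Int.ofNat 0, Int.ofNat 0, Int.ofNat 0, Int.ofNat 2, Int.ofNat 0],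
  [Int.ofNat 2, Int.ofNat 0, Int.ofNat 2, Int.ofNat 0, Int.ofNat 0, Int.negSucc 1, Int.ofNat 0, Int.ofNat 0, Int.negSucc 1, Int.negSucc 1, Int.ofNat 0, Int.negSucc 1, Int.ofNat 0, Int.ofNat 0, Int.ofNat 2, Int.ofNat 2, Int.ofNat 0, Int.ofNat 0, Int.ofNat 0, Int.ofNat 0, Int.ofNat 0, Int.ofNat 0, Int.ofNat 0, Int.ofNat 0],
  [Int.ofNat 0, Int.ofNat 2, Int.ofNat 0, Int.ofNat 0, Int.ofNat 0, Int.negSucc 1, Int.ofNat 0, Int.ofNat 0, Int.ofNat 0, Int.negSucc 1, Int.ofNat 0, Int.ofNat 0, Int.ofNat 2, Int.ofNat 0, Int.ofNat 2, Int.ofNat 2, Int.ofNat 0, Int.ofNat 0, Int.ofNat 2, Int.ofNat 0, Int.ofNat 0, Int.ofNat 0, Int.ofNat 0, Int.ofNat 2],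
  [Int.ofNat 0, Int.ofNat 2, Int.ofNat 0, Int.ofNat 0, Int.ofNat 0, Int.ofNat 2, Int.ofNat 0, Int.ofNat 0, Int.ofNat 0, Int.ofNat 2, Int.ofNat 0, Int.ofNat 0, Int.ofNat 2, Int.ofNat 0, Int.ofNat 2, Int.negSucc 1, Int.ofNat 0, Int.ofNat 0, Int.negSucc 1, Int.ofNat 0, Int.ofNat 0, Int.ofNat 0, Int.ofNat 0, Int.ofNat 2],
  [Int.ofNat 0, Int.ofNat 0, Int.ofNat 0, Int.ofNat 0, Int.ofNat 2, Int.ofNat 0, Int.ofNat 0, Int.ofNat 0, Int.ofNat 2, Int.ofNat 0, Int.ofNat 0, Int.ofNat 0, Int.negSucc 1, Int.ofNat 0, Int.ofNat 0, Int.negSucc 1, Int.ofNat 0, Int.ofNat 2, Int.ofNat 2, Int.ofNat 0, Int.ofNat 0, Int.ofNat 2, Int.ofNat 0, Int.ofNat 2],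
  [Int.ofNat 0, Int.ofNat 0, Int.ofNat 0, Int.ofNat 0, Int.negSucc 1, Int.ofNat 0, Int.ofNat 0, Int.ofNat 0, Int.negSucc 1, Int.ofNat 0, Int.ofNat 0, Int.ofNat 0, Int.ofNat 2, Int.ofNat 0, Int.ofNat 0, Int.negSucc 1, Int.ofNat 0, Int.ofNat 2, Int.negSucc 1, Int.ofNat 0, Int.ofNat 0, Int.ofNat 2, Int.ofNat 0, Int.ofNat 2],
  [Int.ofNat 2, Int.ofNat 0, Int.ofNat 0, Int.negSucc 1, Int.ofNat 2, Int.ofNat 0, Int.ofNat 0, Int.ofNat 0, Int.ofNat 0, Int.ofNat 0, Int.ofNat 0, Int.ofNat 0, Int.ofNat 2, Int.ofNat 0, Int.negSucc 1, Int.ofNat 0, Int.ofNat 0, Int.negSucc 1, Int.ofNat 0, Int.ofNat 0, Int.negSucc 1, Int.ofNat 2, Int.ofNat 0, Int.ofNat 0],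
  [Int.negSucc 1, Int.ofNat 0, Int.ofNat 0, Int.negSucc 1, Int.ofNat 2, Int.ofNat 0, Int.ofNat 0, Int.ofNat 0, Int.ofNat 0, Int.ofNat 0, Int.ofNat 0, Int.ofNat 0, Int.ofNat 2, Int.ofNat 0, Int.negSucc 1, Int.ofNat 0, Int.ofNat 0, Int.negSucc 1, Int.ofNat 0, Int.ofNat 0, Int.negSucc 1, Int.negSucc 1, Int.ofNat 0, Int.ofNat 0],
  [Int.ofNat 0, Int.negSucc 1, Int.ofNat 0, Int.ofNat 0, Int.negSucc 1, Int.ofNat 2, Int.ofNat 0, Int.ofNat 0, Int.ofNat 0, Int.ofNat 0, Int.ofNat 0, Int.ofNat 0, Int.ofNat 0, Int.ofNat 2, Int.ofNat 0, Int.negSucc 1, Int.ofNat 0, Int.ofNat 0, Int.negSucc 1, Int.ofNat 0, Int.ofNat 0, Int.negSucc 1, Int.negSucc 1, Int.ofNat 0],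
  [Int.negSucc 0, Int.ofNat 1, Int.negSucc 0, Int.negSucc 0, Int.negSucc 0, Int.ofNat 1, Int.ofNat 1, Int.ofNat 1, Int.ofNat 1, Int.ofNat 1, Int.ofNat 1, Int.ofNat 1, Int.ofNat 1, Int.ofNat 3, Int.negSucc 0, Int.negSucc 0, Int.ofNat 1, Int.negSucc 0, Int.negSucc 0, Int.ofNat 1, Int.ofNat 1, Int.negSucc 0, Int.negSucc 0, Int.negSucc 0],
  [Int.negSucc 0, Int.negSucc 0, Int.ofNat 1, Int.ofNat 1, Int.ofNat 1, Int.ofNat 1, Int.ofNat 1, Int.ofNat 1, Int.ofNat 1, Int.ofNat 1, Int.ofNat 3, Int.negSucc 0, Int.negSucc 0, Int.ofNat 1, Int.negSucc 0, Int.negSucc 0, Int.ofNat 1, Int.ofNat 1, Int.negSucc 0, Int.negSucc 0, Int.negSucc 0, Int.ofNat 1, Int.negSucc 0, Int.negSucc 0],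
  [Int.ofNat 0, Int.ofNat 0, Int.negSucc 1, Int.ofNat 0, Int.ofNat 0, Int.ofNat 0, Int.ofNat 0, Int.ofNat 0, Int.ofNat 2, Int.ofNat 0, Int.ofNat 2, Int.ofNat 0, Int.ofNat 0, Int.ofNat 0, Int.negSucc 1, Int.negSucc 1, Int.ofNat 0, Int.ofNat 0, Int.ofNat 0, Int.negSucc 1, Int.negSucc 1, Int.ofNat 0, Int.negSucc 1, Int.ofNat 0],
  [Int.ofNat 0, Int.ofNat 0, Int.ofNat 0, Int.ofNat 0, Int.ofNat 0, Int.ofNat 0, Int.negSucc 1, Int.ofNat 2, Int.ofNat 0, Int.ofNat 0, Int.negSucc 1, Int.ofNat 0, Int.ofNat 0, Int.ofNat 0, Int.negSucc 1, Int.negSucc 1, Int.ofNat 2, Int.negSucc 1, Int.ofNat 0, Int.ofNat 0, Int.ofNat 0, Int.ofNat 0, Int.negSucc 1, Int.ofNat 0],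
  [Int.ofNat 0, Int.ofNat 0, Int.ofNat 0, Int.ofNat 2, Int.ofNat 0, Int.ofNat 2, Int.negSucc 1, Int.ofNat 2, Int.ofNat 0, Int.ofNat 2, Int.ofNat 0, Int.ofNat 0, Int.ofNat 0, Int.ofNat 0, Int.ofNat 0, Int.ofNat 0, Int.ofNat 2, Int.ofNat 0, Int.ofNat 0, Int.ofNat 0, Int.ofNat 2, Int.ofNat 0, Int.negSucc 1, Int.ofNat 0],
  [Int.ofNat 0, Int.ofNat 0, Int.ofNat 0, Int.ofNat 2, Int.ofNat 0, Int.negSucc 1, Int.ofNat 2, Int.ofNat 2, Int.ofNat 0, Int.negSucc 1, Int.ofNat 0, Int.ofNat 0, Int.ofNat 0, Int.ofNat 0, Int.ofNat 0, Int.ofNat 0, Int.ofNat 2, Int.ofNat 0, Int.ofNat 0, Int.ofNat 0, Int.ofNat 2, Int.ofNat 0, Int.ofNat 2, Int.ofNat 0],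
  [Int.ofNat 0, Int.ofNat 2, Int.ofNat 2, Int.ofNat 0, Int.ofNat 0, Int.ofNat 2, Int.negSucc 1, Int.ofNat 0, Int.ofNat 0, Int.ofNat 0, Int.ofNat 0, Int.ofNat 2, Int.ofNat 0, Int.ofNat 0, Int.ofNat 2, Int.ofNat 0, Int.ofNat 0, Int.ofNat 0, Int.negSucc 1, Int.ofNat 0, Int.ofNat 0, Int.ofNat 2, Int.ofNat 0, Int.ofNat 0],
  [Int.ofNat 0, Int.ofNat 2, Int.negSucc 1, Int.ofNat 0, Int.ofNat 0, Int.negSucc 1, Int.ofNat 2, Int.ofNat 0, Int.ofNat 0, Int.ofNat 0, Int.ofNat 0, Int.ofNat 2, Int.ofNat 0, Int.ofNat 0, Int.ofNat 2, Int.ofNat 0, Int.ofNat 0, Int.ofNat 0, Int.ofNat 2, Int.ofNat 0, Int.ofNat 0, Int.ofNat 2, Int.ofNat 0, Int.ofNat 0],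
  [Int.ofNat 0, Int.negSucc 1, Int.ofNat 2, Int.ofNat 0, Int.ofNat 0, Int.negSucc 1, Int.ofNat 0, Int.negSucc 1, Int.negSucc 1, Int.ofNat 0, Int.ofNat 0, Int.ofNat 0, Int.negSucc 1, Int.ofNat 0, Int.ofNat 2, Int.ofNat 0, Int.ofNat 0, Int.ofNat 0, Int.ofNat 0, Int.negSucc 1, Int.ofNat 0, Int.ofNat 0, Int.ofNat 0, Int.ofNat 0],
  [Int.ofNat 0, Int.ofNat 0, Int.ofNat 0, Int.ofNat 0, Int.ofNat 2, Int.ofNat 0, Int.negSucc 1, Int.negSucc 1, Int.ofNat 0, Int.negSucc 1, Int.negSucc 1, Int.negSucc 1, Int.negSucc 1, Int.ofNat 0, Int.ofNat 0, Int.ofNat 0, Int.ofNat 0, Int.ofNat 0, Int.ofNat 0, Int.ofNat 0, Int.ofNat 0, Int.ofNat 0, Int.ofNat 2, Int.ofNat 0],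
  [Int.ofNat 0, Int.ofNat 0, Int.ofNat 0, Int.ofNat 0, Int.ofNat 0, Int.ofNat 0, Int.ofNat 0, Int.ofNat 0, Int.ofNat 2, Int.ofNat 0, Int.ofNat 0, Int.ofNat 0, Int.ofNat 0, Int.negSucc 1, Int.ofNat 0, Int.ofNat 2, Int.negSucc 1, Int.ofNat 0, Int.ofNat 2, Int.ofNat 2, Int.ofNat 2, Int.ofNat 2, Int.ofNat 0, Int.ofNat 0],
  [Int.ofNat 2, Int.ofNat 2, Int.ofNat 0, Int.ofNat 0, Int.ofNat 0, Int.ofNat 0, Int.ofNat 0, Int.ofNat 0, Int.ofNat 0, Int.ofNat 0, Int.ofNat 0, Int.ofNat 2, Int.ofNat 0, Int.ofNat 0, Int.ofNat 0, Int.ofNat 0, Int.negSucc 1, Int.ofNat 0, Int.ofNat 2, Int.negSucc 1, Int.ofNat 0, Int.ofNat 2, Int.ofNat 2, Int.ofNat 0],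
  [Int.ofNat 0, Int.ofNat 0, Int.ofNat 2, Int.ofNat 0, Int.ofNat 0, Int.ofNat 0, Int.ofNat 0, Int.ofNat 0, Int.negSucc 1, Int.ofNat 0, Int.ofNat 0, Int.ofNat 0, Int.negSucc 1, Int.ofNat 0, Int.ofNat 0, Int.ofNat 0, Int.negSucc 1, Int.ofNat 0, Int.ofNat 0, Int.negSucc 1, Int.ofNat 0, Int.ofNat 2, Int.ofNat 2, Int.ofNat 2],
  [Int.ofNat 0, Int.ofNat 2, Int.ofNat 0, Int.ofNat 0, Int.ofNat 0, Int.ofNat 0, Int.ofNat 0, Int.negSucc 1, Int.ofNat 0, Int.ofNat 0, Int.ofNat 0, Int.negSucc 1, Int.ofNat 0, Int.ofNat 0, Int.ofNat 0, Int.negSucc 1, Int.ofNat 0, Int.ofNat 0, Int.negSucc 1, Int.ofNat 0, Int.ofNat 2, Int.ofNat 2, Int.ofNat 0, Int.ofNat 2],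
  [Int.ofNat 0, Int.ofNat 2, Int.ofNat 0, Int.ofNat 0, Int.ofNat 0, Int.ofNat 0, Int.ofNat 0, Int.ofNat 2, Int.ofNat 0, Int.ofNat 0, Int.ofNat 0, Int.ofNat 2, Int.ofNat 0, Int.ofNat 0, Int.ofNat 0, Int.negSucc 1, Int.ofNat 0, Int.ofNat 0, Int.ofNat 2, Int.ofNat 0, Int.ofNat 2, Int.negSucc 1, Int.ofNat 0, Int.ofNat 2],
  [Int.ofNat 0, Int.ofNat 0, Int.ofNat 2, Int.ofNat 0, Int.ofNat 2, Int.ofNat 0, Int.ofNat 0, Int.ofNat 2, Int.ofNat 0, Int.ofNat 0, Int.negSucc 1, Int.ofNat 0, Int.ofNat 0, Int.ofNat 0, Int.ofNat 0, Int.negSucc 1, Int.ofNat 0, Int.ofNat 0, Int.ofNat 0, Int.ofNat 0, Int.ofNat 0, Int.ofNat 2, Int.ofNat 2, Int.ofNat 2],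
  [Int.ofNat 0, Int.ofNat 0, Int.negSucc 1, Int.ofNat 0, Int.ofNat 2, Int.ofNat 0, Int.ofNat 0, Int.negSucc 1, Int.ofNat 0, Int.ofNat 0, Int.ofNat 2, Int.ofNat 0, Int.ofNat 0, Int.ofNat 0, Int.ofNat 0, Int.negSucc 1, Int.ofNat 0, Int.ofNat 0, Int.ofNat 0, Int.ofNat 0, Int.ofNat 0, Int.negSucc 1, Int.ofNat 2, Int.ofNat 2],
  [Int.ofNat 2, Int.ofNat 0, Int.ofNat 0, Int.negSucc 1, Int.ofNat 0, Int.ofNat 2, Int.ofNat 0, Int.ofNat 0, Int.negSucc 1, Int.ofNat 0, Int.ofNat 0, Int.ofNat 2, Int.ofNat 0, Int.ofNat 0, Int.ofNat 0, Int.ofNat 0, Int.negSucc 1, Int.ofNat 0, Int.ofNat 0, Int.ofNat 0, Int.ofNat 0, Int.ofNat 0, Int.negSucc 1, Int.ofNat 2],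
  [Int.ofNat 0, Int.ofNat 2, Int.ofNat 2, Int.negSucc 1, Int.ofNat 2, Int.ofNat 2, Int.ofNat 0, Int.ofNat 0, Int.negSucc 1, Int.ofNat 0, Int.ofNat 0, Int.ofNat 2, Int.ofNat 0, Int.ofNat 2, Int.ofNat 0, Int.ofNat 0, Int.ofNat 0, Int.ofNat 0, Int.ofNat 0, Int.ofNat 0, Int.ofNat 0, Int.ofNat 0, Int.ofNat 0, Int.ofNat 0],
  [Int.negSucc 1, Int.ofNat 2, Int.ofNat 2, Int.ofNat 0, Int.ofNat 0, Int.negSucc 1, Int.ofNat 0, Int.ofNat 0, Int.ofNat 2, Int.ofNat 0, Int.ofNat 2, Int.ofNat 0, Int.ofNat 0, Int.ofNat 0, Int.ofNat 0, Int.ofNat 0, Int.ofNat 0, Int.ofNat 0, Int.ofNat 0, Int.ofNat 0, Int.ofNat 0, Int.ofNat 2, Int.ofNat 2, Int.ofNat 0],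
  [Int.ofNat 3, Int.negSucc 0, Int.negSucc 0, Int.ofNat 1, Int.negSucc 0, Int.negSucc 0, Int.negSucc 0, Int.negSucc 0, Int.ofNat 1, Int.negSucc 0, Int.ofNat 1, Int.negSucc 0, Int.negSucc 0, Int.negSucc 0, Int.ofNat 1, Int.negSucc 0, Int.negSucc 0, Int.ofNat 1, Int.negSucc 0, Int.negSucc 0, Int.negSucc 0, Int.ofNat 1, Int.ofNat 1, Int.ofNat 1],
  [Int.ofNat 3, Int.negSucc 0, Int.negSucc 0, Int.ofNat 1, Int.negSucc 0, Int.negSucc 0, Int.negSucc 0, Int.ofNat 1, Int.negSucc 0, Int.negSucc 0, Int.negSucc 0, Int.ofNat 1, Int.negSucc 0, Int.negSucc 0, Int.ofNat 1, Int.negSucc 0, Int.ofNat 1, Int.ofNat 1, Int.negSucc 0, Int.negSucc 0, Int.ofNat 1, Int.negSucc 0, Int.negSucc 0, Int.ofNat 1],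
  [Int.negSucc 1, Int.ofNat 2, Int.ofNat 2, Int.ofNat 0, Int.ofNat 0, Int.negSucc 1, Int.ofNat 0, Int.ofNat 2, Int.ofNat 0, Int.ofNat 0, Int.ofNat 0, Int.ofNat 2, Int.ofNat 0, Int.ofNat 0, Int.ofNat 0, Int.ofNat 0, Int.ofNat 2, Int.ofNat 0, Int.ofNat 0, Int.ofNat 0, Int.ofNat 2, Int.ofNat 0, Int.ofNat 0, Int.ofNat 0],
  [Int.negSucc 1, Int.ofNat 2, Int.negSucc 1, Int.ofNat 0, Int.ofNat 0, Int.ofNat 2, Int.ofNat 0, Int.ofNat 2, Int.ofNat 0, Int.ofNat 0, Int.ofNat 0, Int.ofNat 2, Int.ofNat 0, Int.ofNat 0, Int.ofNat 0, Int.ofNat 0, Int.ofNat 2, Int.ofNat 0, Int.ofNat 0, Int.ofNat 0, Int.ofNat 2, Int.ofNat 0, Int.ofNat 0, Int.ofNat 0],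
  [Int.ofNat 0, Int.ofNat 2, Int.ofNat 2, Int.ofNat 0, Int.ofNat 0, Int.ofNat 0, Int.ofNat 0, Int.ofNat 0, Int.ofNat 2, Int.ofNat 2, Int.ofNat 0, Int.ofNat 2, Int.ofNat 0, Int.ofNat 0, Int.ofNat 0, Int.ofNat 0, Int.ofNat 0, Int.ofNat 0, Int.ofNat 0, Int.negSucc 1, Int.negSucc 1, Int.ofNat 2, Int.ofNat 0, Int.ofNat 0],
  [Int.ofNat 0, Int.negSucc 1, Int.negSucc 1, Int.ofNat 0, Int.ofNat 0, Int.ofNat 0, Int.ofNat 0, Int.ofNat 0, Int.negSucc 1, Int.negSucc 1, Int.ofNat 0, Int.ofNat 2, Int.ofNat 0, Int.ofNat 0, Int.ofNat 0, Int.ofNat 0, Int.ofNat 0, Int.ofNat 0, Int.ofNat 0, Int.negSucc 1, Int.negSucc 1, Int.ofNat 2, Int.ofNat 0, Int.ofNat 0],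
  [Int.ofNat 0, Int.ofNat 0, Int.ofNat 2, Int.ofNat 0, Int.ofNat 0, Int.negSucc 1, Int.negSucc 1, Int.ofNat 0, Int.negSucc 1, Int.ofNat 0, Int.ofNat 0, Int.negSucc 1, Int.ofNat 2, Int.ofNat 0, Int.ofNat 0, Int.ofNat 0, Int.ofNat 0, Int.ofNat 0, Int.ofNat 0, Int.ofNat 0, Int.negSucc 1, Int.ofNat 0, Int.negSucc 1, Int.ofNat 0],
  [Int.ofNat 0, Int.ofNat 0, Int.negSucc 1, Int.ofNat 0, Int.ofNat 0, Int.negSucc 1, Int.negSucc 1, Int.ofNat 0, Int.negSucc 1, Int.ofNat 0, Int.ofNat 0, Int.ofNat 2, Int.ofNat 2, Int.ofNat 0, Int.ofNat 0, Int.ofNat 0, Int.ofNat 0, Int.ofNat 0, Int.ofNat 0, Int.ofNat 0, Int.negSucc 1, Int.ofNat 0, Int.negSucc 1, Int.ofNat 0],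
  [Int.negSucc 1, Int.ofNat 0, Int.ofNat 0, Int.negSucc 1, Int.ofNat 0, Int.ofNat 0, Int.negSucc 1, Int.negSucc 1, Int.ofNat 0, Int.negSucc 1, Int.ofNat 0, Int.ofNat 0, Int.ofNat 2, Int.ofNat 2, Int.ofNat 0, Int.ofNat 0, Int.ofNat 0, Int.ofNat 0, Int.ofNat 0, Int.ofNat 0, Int.ofNat 0, Int.negSucc 1, Int.ofNat 0, Int.ofNat 0],
  [Int.ofNat 1, Int.negSucc 0, Int.negSucc 0, Int.negSucc 0, Int.negSucc 0, Int.ofNat 1, Int.ofNat 1, Int.ofNat 1, Int.negSucc 0, Int.negSucc 0, Int.ofNat 1, Int.negSucc 0, Int.ofNat 1, Int.ofNat 1, Int.ofNat 1, Int.ofNat 1, Int.negSucc 0, Int.ofNat 1, Int.negSucc 0, Int.ofNat 3, Int.ofNat 1, Int.ofNat 1, Int.negSucc 0, Int.negSucc 0],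
  [Int.negSucc 0, Int.negSucc 0, Int.ofNat 1, Int.ofNat 1, Int.ofNat 1, Int.negSucc 0, Int.negSucc 0, Int.ofNat 1, Int.negSucc 0, Int.ofNat 1, Int.ofNat 1, Int.ofNat 1, Int.ofNat 1, Int.negSucc 0, Int.ofNat 1, Int.negSucc 0, Int.ofNat 3, Int.ofNat 1, Int.ofNat 1, Int.negSucc 0, Int.ofNat 1, Int.negSucc 0, Int.negSucc 0, Int.negSucc 0],
  [Int.ofNat 0, Int.ofNat 0, Int.negSucc 1, Int.ofNat 0, Int.ofNat 0, Int.negSucc 1, Int.ofNat 0, Int.ofNat 2, Int.negSucc 1, Int.ofNat 0, Int.ofNat 0, Int.ofNat 0, Int.ofNat 0, Int.negSucc 1, Int.ofNat 0, Int.negSucc 1, Int.ofNat 2, Int.ofNat 0, Int.ofNat 0, Int.ofNat 0, Int.ofNat 0, Int.ofNat 0, Int.negSucc 1, Int.ofNat 0],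
  [Int.ofNat 0, Int.ofNat 0, Int.ofNat 0, Int.ofNat 0, Int.ofNat 0, Int.ofNat 2, Int.negSucc 1, Int.ofNat 0, Int.ofNat 0, Int.negSucc 1, Int.ofNat 0, Int.ofNat 0, Int.ofNat 0, Int.ofNat 2, Int.negSucc 1, Int.negSucc 1, Int.negSucc 1, Int.ofNat 0, Int.ofNat 0, Int.ofNat 0, Int.ofNat 0, Int.negSucc 1, Int.ofNat 0, Int.ofNat 0],
  [Int.ofNat 0, Int.ofNat 0, Int.ofNat 0, Int.ofNat 0, Int.ofNat 0, Int.ofNat 2, Int.ofNat 0, Int.ofNat 2, Int.ofNat 0, Int.ofNat 0, Int.ofNat 2, Int.ofNat 0, Int.ofNat 0, Int.ofNat 2, Int.negSucc 1, Int.ofNat 0, Int.negSucc 1, Int.ofNat 0, Int.ofNat 0, Int.ofNat 2, Int.ofNat 2, Int.ofNat 0, Int.ofNat 0, Int.ofNat 0],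
  [Int.ofNat 0, Int.ofNat 0, Int.ofNat 0, Int.ofNat 0, Int.ofNat 0, Int.negSucc 1, Int.ofNat 0, Int.ofNat 2, Int.ofNat 0, Int.ofNat 0, Int.negSucc 1, Int.ofNat 0, Int.ofNat 0, Int.ofNat 2, Int.negSucc 1, Int.ofNat 0, Int.negSucc 1, Int.ofNat 0, Int.ofNat 0, Int.ofNat 2, Int.ofNat 2, Int.ofNat 0, Int.ofNat 0, Int.ofNat 0],
  [Int.negSucc 1, Int.negSucc 1, Int.ofNat 0, Int.ofNat 2, Int.ofNat 2, Int.ofNat 2, Int.negSucc 1, Int.ofNat 0, Int.ofNat 0, Int.ofNat 0, Int.ofNat 0, Int.ofNat 0, Int.ofNat 0, Int.ofNat 0, Int.ofNat 0, Int.ofNat 0, Int.negSucc 1, Int.ofNat 0, Int.ofNat 0, Int.ofNat 0, Int.ofNat 0, Int.ofNat 2, Int.ofNat 0, Int.ofNat 0],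
  [Int.negSucc 1, Int.negSucc 1, Int.ofNat 0, Int.ofNat 2, Int.ofNat 2, Int.negSucc 1, Int.ofNat 2, Int.ofNat 0, Int.ofNat 0, Int.ofNat 0, Int.ofNat 0, Int.ofNat 0, Int.ofNat 0, Int.ofNat 0, Int.ofNat 0, Int.ofNat 0, Int.negSucc 1, Int.ofNat 0, Int.ofNat 0, Int.ofNat 0, Int.ofNat 0, Int.ofNat 2, Int.ofNat 0, Int.ofNat 0],
  [Int.ofNat 0, Int.ofNat 0, Int.negSucc 1, Int.ofNat 2, Int.ofNat 2, Int.negSucc 1, Int.ofNat 0, Int.negSucc 1, Int.ofNat 0, Int.ofNat 0, Int.ofNat 0, Int.ofNat 0, Int.ofNat 0, Int.ofNat 0, Int.ofNat 0, Int.ofNat 0, Int.negSucc 1, Int.ofNat 0, Int.ofNat 0, Int.negSucc 1, Int.ofNat 0, Int.ofNat 0, Int.ofNat 0, Int.negSucc 1],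
  [Int.ofNat 0, Int.ofNat 0, Int.ofNat 0, Int.ofNat 2, Int.negSucc 1, Int.ofNat 0, Int.ofNat 0, Int.negSucc 1, Int.negSucc 1, Int.ofNat 0, Int.negSucc 1, Int.negSucc 1, Int.ofNat 0, Int.ofNat 0, Int.ofNat 0, Int.ofNat 0, Int.ofNat 0, Int.ofNat 0, Int.ofNat 2, Int.ofNat 0, Int.ofNat 0, Int.ofNat 0, Int.ofNat 0, Int.negSucc 1],
  [Int.negSucc 0, Int.negSucc 0, Int.negSucc 0, Int.ofNat 1, Int.negSucc 0, Int.negSucc 0, Int.ofNat 1, Int.negSucc 0, Int.negSucc 0, Int.ofNat 1, Int.negSucc 0, Int.negSucc 0, Int.ofNat 1, Int.ofNat 1, Int.negSucc 0, Int.ofNat 1, Int.ofNat 1, Int.negSucc 0, Int.ofNat 3, Int.ofNat 1, Int.ofNat 1, Int.ofNat 1, Int.ofNat 1, Int.ofNat 1],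
  [Int.ofNat 1, Int.ofNat 1, Int.ofNat 1, Int.negSucc 0, Int.negSucc 0, Int.negSucc 0, Int.ofNat 1, Int.negSucc 0, Int.negSucc 0, Int.ofNat 1, Int.negSucc 0, Int.negSucc 0, Int.ofNat 1, Int.negSucc 0, Int.negSucc 0, Int.ofNat 1, Int.ofNat 1, Int.negSucc 0, Int.ofNat 1, Int.ofNat 1, Int.negSucc 0, Int.ofNat 3, Int.ofNat 1, Int.ofNat 1],
  [Int.ofNat 1, Int.ofNat 1, Int.ofNat 1, Int.ofNat 1, Int.negSucc 0, Int.ofNat 1, Int.negSucc 0, Int.negSucc 2, Int.negSucc 0, Int.ofNat 1, Int.negSucc 0, Int.negSucc 0, Int.ofNat 1, Int.negSucc 0, Int.ofNat 1, Int.ofNat 1, Int.ofNat 1, Int.ofNat 1, Int.ofNat 1, Int.negSucc 0, Int.negSucc 0, Int.ofNat 1, Int.ofNat 1, Int.ofNat 1],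
  [Int.ofNat 1, Int.ofNat 1, Int.ofNat 1, Int.negSucc 0, Int.ofNat 1, Int.negSucc 0, Int.negSucc 2, Int.negSucc 0, Int.ofNat 1, Int.negSucc 0, Int.negSucc 0, Int.ofNat 1, Int.negSucc 0, Int.ofNat 1, Int.ofNat 1, Int.ofNat 1, Int.ofNat 1, Int.ofNat 1, Int.negSucc 0, Int.negSucc 0, Int.ofNat 1, Int.ofNat 1, Int.ofNat 1, Int.ofNat 1],
  [Int.negSucc 0, Int.ofNat 1, Int.negSucc 0, Int.negSucc 0, Int.ofNat 1, Int.negSucc 0, Int.negSucc 2, Int.ofNat 1, Int.ofNat 1, Int.ofNat 1, Int.ofNat 1, Int.negSucc 0, Int.negSucc 0, Int.ofNat 1, Int.ofNat 1, Int.ofNat 1, Int.ofNat 1, Int.ofNat 1, Int.ofNat 1, Int.negSucc 0, Int.ofNat 1, Int.negSucc 0, Int.ofNat 1, Int.ofNat 1],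
  [Int.negSucc 0, Int.negSucc 0, Int.ofNat 1, Int.negSucc 0, Int.ofNat 1, Int.ofNat 1, Int.ofNat 1, Int.ofNat 1, Int.ofNat 1, Int.ofNat 1, Int.negSucc 0, Int.ofNat 1, Int.ofNat 1, Int.ofNat 1, Int.negSucc 0, Int.ofNat 1, Int.negSucc 0, Int.ofNat 1, Int.negSucc 2, Int.ofNat 1, Int.negSucc 0, Int.ofNat 1, Int.negSucc 0, Int.ofNat 1],
  [Int.ofNat 1, Int.negSucc 0, Int.negSucc 0, Int.negSucc 0, Int.ofNat 1, Int.ofNat 1, Int.ofNat 1, Int.negSucc 0, Int.ofNat 1, Int.negSucc 0, Int.ofNat 1, Int.negSucc 0, Int.ofNat 1, Int.ofNat 1, Int.negSucc 0, Int.ofNat 1, Int.negSucc 0, Int.ofNat 1, Int.ofNat 3, Int.ofNat 1, Int.negSucc 0, Int.negSucc 0, Int.negSucc 0, Int.ofNat 1],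
  [Int.negSucc 0, Int.ofNat 1, Int.negSucc 0, Int.negSucc 0, Int.negSucc 0, Int.ofNat 1, Int.ofNat 1, Int.ofNat 1, Int.negSucc 0, Int.ofNat 1, Int.negSucc 0, Int.ofNat 1, Int.negSucc 0, Int.ofNat 1, Int.ofNat 1, Int.negSucc 0, Int.ofNat 1, Int.negSucc 0, Int.ofNat 1, Int.ofNat 3, Int.ofNat 1, Int.negSucc 0, Int.negSucc 0, Int.ofNat 1],
  [Int.ofNat 1, Int.negSucc 0, Int.ofNat 1, Int.negSucc 0, Int.negSucc 0, Int.ofNat 1, Int.negSucc 0, Int.negSucc 0, Int.negSucc 0, Int.ofNat 1, Int.negSucc 0, Int.ofNat 1, Int.negSucc 0, Int.ofNat 1, Int.ofNat 1, Int.negSucc 0, Int.ofNat 1, Int.negSucc 0, Int.ofNat 1, Int.ofNat 1, Int.ofNat 1, Int.negSucc 2, Int.negSucc 0, Int.negSucc 0],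
  [Int.negSucc 0, Int.negSucc 0, Int.ofNat 1, Int.negSucc 0, Int.negSucc 0, Int.negSucc 0, Int.ofNat 1, Int.negSucc 0, Int.ofNat 1, Int.negSucc 0, Int.ofNat 1, Int.ofNat 1, Int.negSucc 0, Int.ofNat 1, Int.negSucc 0, Int.ofNat 1, Int.ofNat 1, Int.ofNat 1, Int.negSucc 2, Int.negSucc 0, Int.ofNat 1, Int.negSucc 0, Int.ofNat 1, Int.negSucc 0],
  [Int.ofNat 0, Int.ofNat 0, Int.negSucc 1, Int.ofNat 0, Int.negSucc 1, Int.ofNat 0, Int.ofNat 2, Int.ofNat 0, Int.ofNat 2, Int.negSucc 1, Int.ofNat 0, Int.ofNat 2, Int.ofNat 0, Int.ofNat 0, Int.ofNat 0, Int.ofNat 0, Int.ofNat 0, Int.ofNat 2, Int.negSucc 1, Int.ofNat 0, Int.ofNat 0, Int.ofNat 0, Int.ofNat 0, Int.ofNat 0],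
  [Int.ofNat 0, Int.ofNat 2, Int.negSucc 1, Int.ofNat 0, Int.negSucc 1, Int.ofNat 0, Int.negSucc 1, Int.ofNat 0, Int.ofNat 0, Int.ofNat 0, Int.ofNat 0, Int.ofNat 2, Int.negSucc 1, Int.ofNat 0, Int.ofNat 0, Int.ofNat 0, Int.ofNat 2, Int.ofNat 0, Int.ofNat 0, Int.ofNat 2, Int.ofNat 0, Int.ofNat 0, Int.ofNat 0, Int.ofNat 0],
  [Int.ofNat 0, Int.negSucc 1, Int.ofNat 2, Int.ofNat 0, Int.negSucc 1, Int.ofNat 0, Int.negSucc 1, Int.ofNat 0, Int.ofNat 0, Int.ofNat 0, Int.ofNat 0, Int.ofNat 2, Int.negSucc 1, Int.ofNat 0, Int.ofNat 0, Int.ofNat 0, Int.ofNat 2, Int.ofNat 0, Int.ofNat 0, Int.ofNat 2, Int.ofNat 0, Int.ofNat 0, Int.ofNat 0, Int.ofNat 0],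
  [Int.ofNat 0, Int.negSucc 1, Int.negSucc 1, Int.ofNat 0, Int.negSucc 1, Int.ofNat 0, Int.ofNat 2, Int.ofNat 0, Int.ofNat 0, Int.ofNat 0, Int.ofNat 0, Int.ofNat 2, Int.negSucc 1, Int.ofNat 0, Int.ofNat 0, Int.ofNat 0, Int.ofNat 2, Int.ofNat 0, Int.ofNat 0, Int.ofNat 2, Int.ofNat 0, Int.ofNat 0, Int.ofNat 0, Int.ofNat 0],
  [Int.ofNat 0, Int.ofNat 2, Int.ofNat 2, Int.ofNat 0, Int.ofNat 0, Int.ofNat 2, Int.ofNat 0, Int.ofNat 0, Int.ofNat 0, Int.ofNat 0, Int.ofNat 0, Int.ofNat 0, Int.ofNat 0, Int.negSucc 1, Int.ofNat 0, Int.ofNat 0, Int.ofNat 2, Int.negSucc 1, Int.ofNat 0, Int.negSucc 1, Int.ofNat 0, Int.negSucc 1, Int.ofNat 0, Int.ofNat 0],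
  [Int.ofNat 0, Int.negSucc 1, Int.negSucc 1, Int.ofNat 0, Int.ofNat 0, Int.ofNat 2, Int.ofNat 0, Int.ofNat 0, Int.ofNat 0, Int.ofNat 0, Int.ofNat 0, Int.ofNat 0, Int.ofNat 0, Int.ofNat 2, Int.ofNat 0, Int.ofNat 0, Int.negSucc 1, Int.negSucc 1, Int.ofNat 0, Int.negSucc 1, Int.ofNat 0, Int.negSucc 1, Int.ofNat 0, Int.ofNat 0],
  [Int.ofNat 0, Int.ofNat 0, Int.ofNat 0, Int.ofNat 0, Int.negSucc 1, Int.ofNat 0, Int.negSucc 1, Int.ofNat 2, Int.ofNat 0, Int.ofNat 2, Int.negSucc 1, Int.negSucc 1, Int.negSucc 1, Int.ofNat 0, Int.ofNat 0, Int.ofNat 0, Int.ofNat 0, Int.ofNat 0, Int.ofNat 0, Int.ofNat 0, Int.ofNat 0, Int.ofNat 0, Int.negSucc 1, Int.ofNat 0],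
  [Int.ofNat 0, Int.ofNat 0, Int.ofNat 0, Int.ofNat 0, Int.negSucc 1, Int.ofNat 0, Int.negSucc 1, Int.negSucc 1, Int.ofNat 0, Int.negSucc 1, Int.ofNat 2, Int.ofNat 2, Int.negSucc 1, Int.ofNat 0, Int.ofNat 0, Int.ofNat 0, Int.ofNat 0, Int.ofNat 0, Int.ofNat 0, Int.ofNat 0, Int.ofNat 0, Int.ofNat 0, Int.negSucc 1, Int.ofNat 0],
  [Int.negSucc 1, Int.ofNat 0, Int.ofNat 0, Int.ofNat 0, Int.ofNat 0, Int.negSucc 1, Int.ofNat 0, Int.negSucc 1, Int.negSucc 1, Int.ofNat 0, Int.negSucc 1, Int.ofNat 2, Int.ofNat 2, Int.negSucc 1, Int.ofNat 0, Int.ofNat 0, Int.ofNat 0, Int.ofNat 0, Int.ofNat 0, Int.ofNat 0, Int.ofNat 0, Int.ofNat 0, Int.ofNat 0, Int.ofNat 0],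
  [Int.ofNat 1, Int.negSucc 0, Int.negSucc 0, Int.ofNat 1, Int.ofNat 1, Int.negSucc 0, Int.ofNat 1, Int.negSucc 0, Int.negSucc 2, Int.ofNat 1, Int.negSucc 0, Int.ofNat 1, Int.ofNat 1, Int.negSucc 0, Int.ofNat 1, Int.ofNat 1, Int.ofNat 1, Int.ofNat 1, Int.negSucc 0, Int.ofNat 1, Int.ofNat 1, Int.ofNat 1, Int.ofNat 1, Int.negSucc 0],
  [Int.ofNat 1, Int.ofNat 1, Int.negSucc 0, Int.ofNat 1, Int.negSucc 0, Int.negSucc 2, Int.ofNat 1, Int.negSucc 0, Int.ofNat 1, Int.ofNat 1, Int.negSucc 0, Int.ofNat 1, Int.ofNat 1, Int.ofNat 1, Int.ofNat 1, Int.negSucc 0, Int.ofNat 1, Int.ofNat 1, Int.ofNat 1, Int.ofNat 1, Int.ofNat 1, Int.negSucc 0, Int.negSucc 0, Int.negSucc 0],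
  [Int.negSucc 0, Int.negSucc 0, Int.ofNat 1, Int.ofNat 1, Int.negSucc 0, Int.negSucc 2, Int.ofNat 1, Int.negSucc 0, Int.negSucc 0, Int.ofNat 1, Int.negSucc 0, Int.negSucc 0, Int.negSucc 0, Int.ofNat 1, Int.ofNat 1, Int.negSucc 0, Int.ofNat 1, Int.ofNat 1, Int.negSucc 0, Int.ofNat 1, Int.ofNat 1, Int.negSucc 0, Int.negSucc 0, Int.ofNat 1],
  [Int.negSucc 0, Int.ofNat 1, Int.negSucc 0, Int.ofNat 1, Int.negSucc 0, Int.negSucc 0, Int.ofNat 1, Int.negSucc 0, Int.negSucc 0, Int.ofNat 1, Int.ofNat 1, Int.ofNat 1, Int.ofNat 1, Int.ofNat 1, Int.negSucc 0, Int.negSucc 0, Int.negSucc 0, Int.ofNat 1, Int.negSucc 0, Int.negSucc 0, Int.negSucc 0, Int.negSucc 2, Int.ofNat 1, Int.ofNat 1],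
  [Int.ofNat 1, Int.negSucc 0, Int.ofNat 1, Int.ofNat 1, Int.negSucc 0, Int.negSucc 0, Int.ofNat 3, Int.ofNat 1, Int.negSucc 0, Int.ofNat 1, Int.ofNat 1, Int.ofNat 1, Int.ofNat 1, Int.ofNat 1, Int.negSucc 0, Int.negSucc 0, Int.negSucc 0, Int.ofNat 1, Int.negSucc 0, Int.ofNat 1, Int.negSucc 0, Int.negSucc 0, Int.ofNat 1, Int.negSucc 0],
  [Int.ofNat 1, Int.negSucc 0, Int.negSucc 0, Int.ofNat 1, Int.negSucc 0, Int.ofNat 1, Int.negSucc 2, Int.ofNat 1, Int.negSucc 0, Int.negSucc 0, Int.negSucc 0, Int.ofNat 1, Int.ofNat 1, Int.ofNat 1, Int.negSucc 0, Int.ofNat 1, Int.negSucc 0, Int.ofNat 1, Int.ofNat 1, Int.ofNat 1, Int.negSucc 0, Int.negSucc 0, Int.negSucc 0, Int.negSucc 0],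
  [Int.negSucc 0, Int.negSucc 0, Int.negSucc 0, Int.ofNat 1, Int.ofNat 1, Int.ofNat 1, Int.ofNat 1, Int.ofNat 1, Int.negSucc 0, Int.negSucc 0, Int.negSucc 0, Int.negSucc 2, Int.ofNat 1, Int.negSucc 0, Int.ofNat 1, Int.ofNat 1, Int.negSucc 0, Int.ofNat 1, Int.negSucc 0, Int.negSucc 0, Int.ofNat 1, Int.negSucc 0, Int.ofNat 1, Int.negSucc 0],
  [Int.negSucc 0, Int.negSucc 0, Int.ofNat 1, Int.ofNat 1, Int.ofNat 1, Int.negSucc 0, Int.negSucc 0, Int.ofNat 1, Int.negSucc 0, Int.ofNat 1, Int.ofNat 1, Int.negSucc 2, Int.ofNat 1, Int.negSucc 0, Int.ofNat 1, Int.negSucc 0, Int.negSucc 0, Int.ofNat 1, Int.ofNat 1, Int.negSucc 0, Int.ofNat 1, Int.negSucc 0, Int.negSucc 0, Int.negSucc 0],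
  [Int.ofNat 0, Int.ofNat 0, Int.negSucc 1, Int.ofNat 0, Int.ofNat 2, Int.negSucc 1, Int.ofNat 0, Int.ofNat 2, Int.ofNat 0, Int.ofNat 0, Int.ofNat 0, Int.negSucc 1, Int.ofNat 2, Int.ofNat 0, Int.ofNat 0, Int.negSucc 1, Int.ofNat 0, Int.ofNat 0, Int.ofNat 2, Int.ofNat 0, Int.ofNat 0, Int.ofNat 0, Int.ofNat 0, Int.ofNat 0],
  [Int.ofNat 0, Int.ofNat 2, Int.ofNat 0, Int.ofNat 0, Int.negSucc 1, Int.ofNat 0, Int.ofNat 0, Int.negSucc 1, Int.ofNat 0, Int.ofNat 2, Int.ofNat 2, Int.ofNat 0, Int.ofNat 0, Int.ofNat 0, Int.ofNat 0, Int.negSucc 1, Int.ofNat 0, Int.negSucc 1, Int.ofNat 2, Int.ofNat 0, Int.ofNat 0, Int.ofNat 0, Int.ofNat 0, Int.ofNat 0],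
  [Int.ofNat 1, Int.negSucc 0, Int.ofNat 1, Int.ofNat 1, Int.negSucc 0, Int.ofNat 1, Int.ofNat 1, Int.negSucc 0, Int.negSucc 0, Int.ofNat 1, Int.ofNat 1, Int.negSucc 0, Int.negSucc 0, Int.ofNat 1, Int.ofNat 1, Int.negSucc 2, Int.ofNat 1, Int.negSucc 0, Int.ofNat 1, Int.ofNat 1, Int.negSucc 0, Int.ofNat 1, Int.ofNat 1, Int.ofNat 1],
  [Int.negSucc 0, Int.ofNat 1, Int.ofNat 1, Int.ofNat 1, Int.negSucc 0, Int.ofNat 1, Int.ofNat 1, Int.negSucc 0, Int.ofNat 1, Int.ofNat 1, Int.negSucc 0, Int.negSucc 0, Int.ofNat 1, Int.ofNat 1, Int.negSucc 0, Int.negSucc 0, Int.ofNat 1, Int.ofNat 1, Int.negSucc 2, Int.ofNat 1, Int.negSucc 0, Int.ofNat 1, Int.ofNat 1, Int.ofNat 1],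
  [Int.ofNat 2, Int.ofNat 0, Int.ofNat 0, Int.ofNat 0, Int.negSucc 1, Int.ofNat 0, Int.ofNat 0, Int.negSucc 1, Int.ofNat 2, Int.ofNat 2, Int.ofNat 0, Int.ofNat 0, Int.ofNat 2, Int.ofNat 0, Int.negSucc 1, Int.ofNat 0, Int.ofNat 0, Int.ofNat 0, Int.negSucc 1, Int.ofNat 0, Int.ofNat 0, Int.ofNat 0, Int.ofNat 0, Int.ofNat 0],
  [Int.ofNat 0, Int.ofNat 0, Int.ofNat 0, Int.negSucc 1, Int.ofNat 0, Int.ofNat 0, Int.negSucc 1, Int.ofNat 2, Int.ofNat 2, Int.ofNat 0, Int.ofNat 0, Int.ofNat 2, Int.ofNat 0, Int.negSucc 1, Int.ofNat 0, Int.ofNat 0, Int.ofNat 0, Int.negSucc 1, Int.ofNat 0, Int.ofNat 0, Int.ofNat 0, Int.ofNat 0, Int.ofNat 2, Int.ofNat 0],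
  [Int.ofNat 0, Int.ofNat 0, Int.ofNat 0, Int.negSucc 1, Int.ofNat 0, Int.ofNat 0, Int.negSucc 1, Int.negSucc 1, Int.ofNat 2, Int.ofNat 0, Int.ofNat 0, Int.negSucc 1, Int.ofNat 0, Int.negSucc 1, Int.ofNat 0, Int.ofNat 0, Int.ofNat 0, Int.negSucc 1, Int.ofNat 0, Int.ofNat 0, Int.ofNat 0, Int.ofNat 0, Int.ofNat 2, Int.ofNat 0]]

set_option maxRecDepth 100000 in
theorem c1et17_chk : pmChk (List.replicate 14 [17, 0, 25, 26]).flatten nxL c1et17M 0 0 = true := by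
  decide +kernel

theorem c1et17_ne : wE letE2 (List.replicate 14 [17, 0, 25, 26]).flatten ≠ 1 ∧ wE letE2 (List.replicate 14 [17, 0, 25, 26]).flatten ≠ negElt :=
  ne_pm_of_chk nxL_mem c1et17_chk

set_option maxRecDepth 100000 in
def c1et18M : List (List ℤ) :=
  [[Int.negSucc 3, Int.ofNat 0, Int.ofNat 0, Int.ofNat 0, Int.ofNat 0, Int.ofNat 0, Int.ofNat 0, Int.ofNat 0, Int.ofNat 0, Int.ofNat 0, Int.ofNat 0, Int.ofNat 0, Int.ofNat 0, Int.ofNat 0, Int.ofNat 0, Int.ofNat 0, Int.ofNat 0, Int.ofNat 0, Int.ofNat 0, Int.ofNat 0, Int.ofNat 0, Int.ofNat 0, Int.ofNat 0, Int.ofNat 4],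
  [Int.ofNat 4, Int.ofNat 0, Int.ofNat 0, Int.ofNat 0, Int.ofNat 0, Int.ofNat 0, Int.ofNat 0, Int.ofNat 0, Int.ofNat 0, Int.ofNat 0, Int.ofNat 0, Int.ofNat 0, Int.ofNat 0, Int.ofNat 0, Int.ofNat 0, Int.ofNat 0, Int.ofNat 0, Int.ofNat 0, Int.ofNat 0, Int.ofNat 0, Int.ofNat 0, Int.ofNat 0, Int.ofNat 0, Int.ofNat 4],
  [Int.ofNat 0, Int.ofNat 4, Int.ofNat 0, Int.ofNat 0, Int.ofNat 0, Int.ofNat 0, Int.ofNat 0, Int.ofNat 0, Int.ofNat 0, Int.ofNat 0, Int.ofNat 0, Int.ofNat 0, Int.ofNat 0, Int.ofNat 0, Int.ofNat 0, Int.ofNat 0, Int.ofNat 0, Int.ofNat 0, Int.ofNat 0, Int.ofNat 0, Int.ofNat 0, Int.ofNat 0, Int.ofNat 0, Int.ofNat 4],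
  [Int.ofNat 4, Int.ofNat 0, Int.ofNat 4, Int.ofNat 0, Int.ofNat 0, Int.ofNat 0, Int.ofNat 0, Int.ofNat 0, Int.ofNat 0, Int.ofNat 0, Int.ofNat 0, Int.ofNat 0, Int.ofNat 0, Int.ofNat 0, Int.ofNat 0, Int.ofNat 0, Int.ofNat 0, Int.ofNat 0, Int.ofNat 0, Int.ofNat 0, Int.ofNat 0, Int.ofNat 0, Int.ofNat 0, Int.ofNat 0],
  [Int.ofNat 0, Int.ofNat 0, Int.ofNat 0, Int.ofNat 0, Int.ofNat 0, Int.ofNat 0, Int.ofNat 0, Int.ofNat 0, Int.ofNat 0, Int.ofNat 0, Int.ofNat 0, Int.ofNat 0, Int.ofNat 0, Int.ofNat 0, Int.ofNat 0, Int.ofNat 0, Int.ofNat 0, Int.ofNat 0, Int.ofNat 0, Int.ofNat 0, Int.ofNat 4, Int.ofNat 0, Int.ofNat 4, Int.ofNat 0],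
  [Int.ofNat 0, Int.ofNat 0, Int.ofNat 0, Int.ofNat 0, Int.negSucc 1, Int.ofNat 0, Int.ofNat 0, Int.ofNat 0, Int.ofNat 0, Int.negSucc 1, Int.negSucc 1, Int.ofNat 0, Int.ofNat 0, Int.negSucc 1, Int.ofNat 0, Int.negSucc 1, Int.negSucc 1, Int.ofNat 0, Int.ofNat 0, Int.ofNat 0, Int.ofNat 2, Int.ofNat 0, Int.ofNat 2, Int.ofNat 0],
  [Int.ofNat 0, Int.ofNat 0, Int.negSucc 1, Int.ofNat 0, Int.ofNat 0, Int.ofNat 0, Int.ofNat 0, Int.negSucc 1, Int.ofNat 0, Int.negSucc 1, Int.ofNat 2, Int.ofNat 0, Int.negSucc 1, Int.negSucc 1, Int.ofNat 2, Int.negSucc 1, Int.ofNat 0, Int.ofNat 0, Int.ofNat 0, Int.ofNat 0, Int.ofNat 0, Int.ofNat 0, Int.ofNat 0, Int.ofNat 0],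
  [Int.negSucc 0, Int.negSucc 0, Int.ofNat 1, Int.negSucc 0, Int.ofNat 1, Int.negSucc 0, Int.ofNat 1, Int.negSucc 0, Int.ofNat 1, Int.negSucc 0, Int.ofNat 3, Int.ofNat 1, Int.negSucc 0, Int.negSucc 0, Int.ofNat 1, Int.negSucc 0, Int.ofNat 1, Int.negSucc 0, Int.ofNat 1, Int.ofNat 1, Int.ofNat 1, Int.ofNat 1, Int.ofNat 1, Int.negSucc 0],
  [Int.negSucc 0, Int.negSucc 0, Int.negSucc 0, Int.negSucc 0, Int.ofNat 1, Int.ofNat 1, Int.negSucc 0, Int.negSucc 0, Int.ofNat 1, Int.ofNat 1, Int.negSucc 2, Int.ofNat 1, Int.negSucc 0, Int.negSucc 0, Int.ofNat 1, Int.ofNat 1, Int.ofNat 1, Int.negSucc 0, Int.negSucc 0, Int.ofNat 1, Int.ofNat 1, Int.ofNat 1, Int.negSucc 0, Int.negSucc 0],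
  [Int.negSucc 2, Int.ofNat 1, Int.ofNat 1, Int.ofNat 1, Int.ofNat 1, Int.negSucc 0, Int.ofNat 1, Int.negSucc 0, Int.ofNat 1, Int.ofNat 1, Int.negSucc 0, Int.negSucc 0, Int.ofNat 1, Int.ofNat 1, Int.negSucc 0, Int.negSucc 0, Int.ofNat 1, Int.negSucc 0, Int.ofNat 1, Int.negSucc 0, Int.negSucc 0, Int.negSucc 0, Int.negSucc 0, Int.negSucc 0],
  [Int.ofNat 3, Int.negSucc 0, Int.negSucc 0, Int.negSucc 0, Int.negSucc 0, Int.negSucc 0, Int.negSucc 0, Int.negSucc 0, Int.negSucc 0, Int.negSucc 0, Int.negSucc 0, Int.negSucc 0, Int.negSucc 0, Int.negSucc 0, Int.negSucc 0, Int.negSucc 0, Int.negSucc 0, Int.negSucc 0, Int.negSucc 0, Int.negSucc 0, Int.negSucc 0, Int.negSucc 0, Int.negSucc 0, Int.negSucc 0],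
  [Int.negSucc 0, Int.negSucc 0, Int.negSucc 0, Int.negSucc 0, Int.negSucc 0, Int.negSucc 0, Int.negSucc 0, Int.negSucc 0, Int.negSucc 0, Int.negSucc 0, Int.negSucc 0, Int.negSucc 0, Int.negSucc 0, Int.negSucc 0, Int.negSucc 0, Int.negSucc 0, Int.negSucc 0, Int.negSucc 0, Int.negSucc 0, Int.negSucc 0, Int.negSucc 0, Int.negSucc 0, Int.negSucc 0, Int.ofNat 3],
  [Int.ofNat 1, Int.negSucc 0, Int.ofNat 1, Int.negSucc 0, Int.negSucc 0, Int.negSucc 0, Int.negSucc 0, Int.ofNat 1, Int.negSucc 0, Int.ofNat 1, Int.ofNat 1, Int.ofNat 1, Int.negSucc 0, Int.negSucc 0, Int.negSucc 0, Int.negSucc 0, Int.negSucc 0, Int.negSucc 0, Int.ofNat 1, Int.negSucc 0, Int.negSucc 0, Int.ofNat 1, Int.negSucc 0, Int.ofNat 3],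
  [Int.negSucc 0, Int.ofNat 1, Int.negSucc 0, Int.ofNat 1, Int.negSucc 0, Int.negSucc 0, Int.negSucc 0, Int.negSucc 0, Int.ofNat 1, Int.negSucc 0, Int.ofNat 1, Int.ofNat 1, Int.ofNat 1, Int.negSucc 0, Int.negSucc 0, Int.negSucc 0, Int.negSucc 0, Int.negSucc 0, Int.negSucc 0, Int.ofNat 1, Int.negSucc 0, Int.negSucc 0, Int.ofNat 1, Int.ofNat 3],
  [Int.ofNat 2, Int.ofNat 0, Int.ofNat 2, Int.ofNat 2, Int.ofNat 0, Int.ofNat 0, Int.ofNat 0, Int.ofNat 0, Int.ofNat 0, Int.ofNat 0, Int.ofNat 2, Int.ofNat 0, Int.ofNat 0, Int.ofNat 0, Int.ofNat 0, Int.ofNat 0, Int.ofNat 0, Int.ofNat 0, Int.negSucc 1, Int.ofNat 2, Int.ofNat 0, Int.ofNat 0, Int.ofNat 2, Int.negSucc 1],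
  [Int.ofNat 2, Int.ofNat 0, Int.ofNat 0, Int.ofNat 0, Int.ofNat 0, Int.ofNat 0, Int.ofNat 0, Int.ofNat 2, Int.ofNat 0, Int.ofNat 0, Int.ofNat 0, Int.ofNat 0, Int.ofNat 0, Int.ofNat 0, Int.ofNat 0, Int.negSucc 1, Int.ofNat 2, Int.ofNat 0, Int.ofNat 0, Int.ofNat 2, Int.ofNat 2, Int.ofNat 0, Int.ofNat 2, Int.negSucc 1],
  [Int.negSucc 1, Int.ofNat 0, Int.ofNat 0, Int.ofNat 0, Int.negSucc 1, Int.ofNat 0, Int.negSucc 1, Int.ofNat 0, Int.ofNat 0, Int.ofNat 0, Int.ofNat 0, Int.ofNat 0, Int.ofNat 0, Int.negSucc 1, Int.ofNat 0, Int.negSucc 1, Int.ofNat 0, Int.ofNat 0, Int.ofNat 0, Int.ofNat 0, Int.ofNat 2, Int.negSucc 1, Int.ofNat 0, Int.ofNat 2],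
  [Int.negSucc 1, Int.negSucc 1, Int.negSucc 1, Int.ofNat 0, Int.ofNat 0, Int.ofNat 0, Int.ofNat 0, Int.ofNat 0, Int.ofNat 0, Int.negSucc 1, Int.ofNat 2, Int.ofNat 0, Int.ofNat 0, Int.ofNat 0, Int.ofNat 0, Int.negSucc 1, Int.ofNat 0, Int.ofNat 0, Int.ofNat 0, Int.ofNat 0, Int.negSucc 1, Int.ofNat 0, Int.ofNat 0, Int.ofNat 2],
  [Int.ofNat 0, Int.ofNat 0, Int.ofNat 0, Int.ofNat 0, Int.ofNat 0, Int.ofNat 0, Int.ofNat 0, Int.ofNat 0, Int.ofNat 0, Int.ofNat 0, Int.ofNat 4, Int.ofNat 0, Int.ofNat 0, Int.ofNat 0, Int.ofNat 0, Int.ofNat 0, Int.ofNat 0, Int.ofNat 0, Int.ofNat 0, Int.ofNat 0, Int.ofNat 0, Int.ofNat 0, Int.ofNat 0, Int.negSucc 3],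
  [Int.ofNat 0, Int.ofNat 0, Int.ofNat 0, Int.ofNat 0, Int.ofNat 0, Int.ofNat 0, Int.ofNat 0, Int.ofNat 0, Int.ofNat 0, Int.ofNat 0, Int.negSucc 3, Int.ofNat 0, Int.ofNat 0, Int.ofNat 0, Int.ofNat 0, Int.ofNat 0, Int.ofNat 0, Int.ofNat 0, Int.ofNat 0, Int.ofNat 0, Int.ofNat 0, Int.ofNat 0, Int.ofNat 0, Int.negSucc 3],
  [Int.ofNat 0, Int.ofNat 0, Int.ofNat 0, Int.ofNat 0, Int.ofNat 0, Int.ofNat 0, Int.ofNat 0, Int.ofNat 0, Int.ofNat 0, Int.ofNat 0, Int.ofNat 0, Int.ofNat 0, Int.ofNat 0, Int.ofNat 0, Int.ofNat 0, Int.ofNat 0, Int.ofNat 0, Int.ofNat 0, Int.ofNat 0, Int.ofNat 0, Int.negSucc 3, Int.ofNat 0, Int.ofNat 0, Int.negSucc 3],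
  [Int.ofNat 0, Int.ofNat 0, Int.ofNat 0, Int.ofNat 0, Int.ofNat 0, Int.ofNat 0, Int.ofNat 0, Int.ofNat 0, Int.ofNat 0, Int.ofNat 0, Int.ofNat 0, Int.ofNat 0, Int.ofNat 0, Int.ofNat 0, Int.ofNat 0, Int.ofNat 0, Int.ofNat 0, Int.ofNat 0, Int.ofNat 0, Int.ofNat 0, Int.negSucc 3, Int.ofNat 0, Int.ofNat 0, Int.negSucc 3],
  [Int.negSucc 1, Int.negSucc 1, Int.negSucc 1, Int.ofNat 0, Int.ofNat 0, Int.ofNat 0, Int.ofNat 0, Int.ofNat 0, Int.ofNat 0, Int.ofNat 2, Int.ofNat 2, Int.ofNat 0, Int.ofNat 0, Int.ofNat 0, Int.ofNat 0, Int.ofNat 2, Int.ofNat 0, Int.ofNat 0, Int.ofNat 0, Int.ofNat 0, Int.negSucc 1, Int.ofNat 0, Int.ofNat 0, Int.ofNat 2],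
  [Int.negSucc 1, Int.ofNat 0, Int.ofNat 0, Int.ofNat 0, Int.negSucc 1, Int.ofNat 0, Int.negSucc 1, Int.ofNat 0, Int.ofNat 0, Int.ofNat 0, Int.ofNat 0, Int.ofNat 0, Int.ofNat 0, Int.ofNat 2, Int.ofNat 0, Int.ofNat 2, Int.ofNat 0, Int.ofNat 0, Int.ofNat 0, Int.ofNat 0, Int.ofNat 2, Int.negSucc 1, Int.ofNat 0, Int.ofNat 2],
  [Int.ofNat 2, Int.ofNat 0, Int.ofNat 0, Int.ofNat 0, Int.negSucc 1, Int.ofNat 0, Int.ofNat 0, Int.ofNat 2, Int.ofNat 0, Int.negSucc 1, Int.negSucc 1, Int.ofNat 0, Int.ofNat 0, Int.ofNat 2, Int.ofNat 0, Int.ofNat 0, Int.ofNat 0, Int.ofNat 0, Int.ofNat 0, Int.ofNat 2, Int.ofNat 0, Int.ofNat 0, Int.ofNat 0, Int.negSucc 1],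
  [Int.ofNat 0, Int.ofNat 0, Int.ofNat 0, Int.ofNat 2, Int.ofNat 0, Int.ofNat 0, Int.ofNat 0, Int.negSucc 1, Int.ofNat 0, Int.ofNat 0, Int.ofNat 2, Int.ofNat 0, Int.negSucc 1, Int.negSucc 1, Int.ofNat 0, Int.ofNat 0, Int.ofNat 2, Int.ofNat 0, Int.ofNat 0, Int.ofNat 0, Int.ofNat 0, Int.ofNat 0, Int.ofNat 2, Int.negSucc 1],
  [Int.negSucc 0, Int.negSucc 0, Int.negSucc 0, Int.ofNat 1, Int.negSucc 0, Int.negSucc 0, Int.ofNat 1, Int.negSucc 0, Int.ofNat 1, Int.negSucc 0, Int.ofNat 1, Int.ofNat 1, Int.negSucc 0, Int.negSucc 2, Int.negSucc 0, Int.negSucc 0, Int.ofNat 1, Int.negSucc 0, Int.ofNat 1, Int.ofNat 1, Int.negSucc 0, Int.ofNat 1, Int.ofNat 1, Int.ofNat 1],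
  [Int.negSucc 0, Int.negSucc 0, Int.ofNat 1, Int.negSucc 0, Int.negSucc 0, Int.ofNat 1, Int.negSucc 0, Int.ofNat 1, Int.negSucc 0, Int.ofNat 1, Int.ofNat 1, Int.negSucc 0, Int.negSucc 2, Int.negSucc 0, Int.negSucc 0, Int.ofNat 1, Int.negSucc 0, Int.ofNat 1, Int.ofNat 1, Int.negSucc 0, Int.ofNat 1, Int.ofNat 1, Int.negSucc 0, Int.ofNat 1],
  [Int.ofNat 1, Int.negSucc 0, Int.negSucc 0, Int.negSucc 0, Int.negSucc 0, Int.ofNat 1, Int.negSucc 0, Int.negSucc 0, Int.negSucc 0, Int.negSucc 0, Int.negSucc 0, Int.ofNat 1, Int.negSucc 2, Int.negSucc 0, Int.negSucc 0, Int.ofNat 1, Int.negSucc 0, Int.ofNat 1, Int.negSucc 0, Int.negSucc 0, Int.ofNat 1, Int.negSucc 0, Int.negSucc 0, Int.ofNat 1],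
  [Int.ofNat 1, Int.negSucc 0, Int.negSucc 0, Int.negSucc 0, Int.negSucc 0, Int.negSucc 0, Int.negSucc 0, Int.ofNat 1, Int.negSucc 0, Int.negSucc 0, Int.negSucc 0, Int.negSucc 0, Int.negSucc 0, Int.negSucc 0, Int.negSucc 0, Int.ofNat 1, Int.negSucc 2, Int.negSucc 0, Int.negSucc 0, Int.ofNat 1, Int.ofNat 1, Int.negSucc 0, Int.ofNat 1, Int.ofNat 1],
  [Int.negSucc 0, Int.negSucc 0, Int.ofNat 1, Int.negSucc 0, Int.negSucc 0, Int.negSucc 0, Int.negSucc 0, Int.negSucc 0, Int.negSucc 0, Int.ofNat 1, Int.ofNat 1, Int.ofNat 1, Int.negSucc 0, Int.negSucc 0, Int.negSucc 0, Int.ofNat 1, Int.negSucc 2, Int.negSucc 0, Int.ofNat 1, Int.ofNat 1, Int.ofNat 1, Int.ofNat 1, Int.ofNat 1, Int.ofNat 1],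
  [Int.ofNat 1, Int.negSucc 0, Int.negSucc 0, Int.ofNat 1, Int.negSucc 0, Int.negSucc 0, Int.negSucc 0, Int.negSucc 0, Int.negSucc 0, Int.negSucc 0, Int.ofNat 1, Int.ofNat 1, Int.ofNat 1, Int.negSucc 0, Int.negSucc 0, Int.negSucc 0, Int.ofNat 1, Int.negSucc 2, Int.negSucc 0, Int.ofNat 1, Int.ofNat 1, Int.ofNat 1, Int.ofNat 1, Int.ofNat 1],
  [Int.negSucc 0, Int.ofNat 1, Int.ofNat 1, Int.ofNat 3, Int.negSucc 0, Int.ofNat 1, Int.negSucc 0, Int.negSucc 0, Int.negSucc 0, Int.negSucc 0, Int.ofNat 1, Int.ofNat 1, Int.ofNat 1, Int.negSucc 0, Int.ofNat 1, Int.negSucc 0, Int.ofNat 1, Int.negSucc 0, Int.negSucc 0, Int.ofNat 1, Int.ofNat 1, Int.ofNat 1, Int.ofNat 1, Int.negSucc 0],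
  [Int.ofNat 3, Int.negSucc 0, Int.ofNat 1, Int.negSucc 0, Int.negSucc 0, Int.negSucc 0, Int.negSucc 0, Int.ofNat 1, Int.ofNat 1, Int.ofNat 1, Int.negSucc 0, Int.ofNat 1, Int.negSucc 0, Int.ofNat 1, Int.negSucc 0, Int.negSucc 0, Int.ofNat 1, Int.ofNat 1, Int.ofNat 1, Int.ofNat 1, Int.negSucc 0, Int.ofNat 1, Int.ofNat 1, Int.negSucc 0],
  [Int.negSucc 1, Int.ofNat 2, Int.ofNat 0, Int.ofNat 0, Int.negSucc 1, Int.ofNat 0, Int.negSucc 1, Int.ofNat 0, Int.ofNat 0, Int.ofNat 2, Int.ofNat 0, Int.ofNat 0, Int.negSucc 1, Int.ofNat 0, Int.ofNat 0, Int.ofNat 0, Int.ofNat 0, Int.ofNat 2, Int.ofNat 0, Int.ofNat 0, Int.ofNat 0, Int.ofNat 0, Int.ofNat 0, Int.ofNat 2],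
  [Int.negSucc 1, Int.negSucc 1, Int.negSucc 1, Int.ofNat 0, Int.ofNat 0, Int.ofNat 0, Int.ofNat 0, Int.ofNat 0, Int.negSucc 1, Int.ofNat 0, Int.ofNat 0, Int.ofNat 2, Int.ofNat 2, Int.ofNat 0, Int.ofNat 0, Int.ofNat 0, Int.ofNat 0, Int.ofNat 0, Int.ofNat 2, Int.ofNat 0, Int.ofNat 0, Int.ofNat 0, Int.ofNat 0, Int.ofNat 2],
  [Int.ofNat 0, Int.ofNat 0, Int.ofNat 0, Int.ofNat 0, Int.ofNat 0, Int.ofNat 0, Int.ofNat 0, Int.ofNat 0, Int.negSucc 3, Int.ofNat 0, Int.ofNat 0, Int.ofNat 0, Int.ofNat 0, Int.ofNat 0, Int.ofNat 0, Int.ofNat 0, Int.ofNat 0, Int.ofNat 0, Int.ofNat 0, Int.ofNat 0, Int.ofNat 0, Int.ofNat 0, Int.ofNat 0, Int.negSucc 3],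
  [Int.ofNat 0, Int.ofNat 0, Int.ofNat 0, Int.ofNat 0, Int.ofNat 0, Int.ofNat 0, Int.ofNat 0, Int.ofNat 0, Int.negSucc 3, Int.ofNat 0, Int.ofNat 0, Int.ofNat 0, Int.ofNat 0, Int.ofNat 0, Int.ofNat 0, Int.ofNat 0, Int.ofNat 0, Int.ofNat 0, Int.ofNat 0, Int.ofNat 0, Int.ofNat 0, Int.ofNat 0, Int.ofNat 0, Int.negSucc 3],
  [Int.ofNat 0, Int.ofNat 0, Int.ofNat 0, Int.negSucc 3, Int.ofNat 0, Int.ofNat 0, Int.ofNat 0, Int.ofNat 0, Int.ofNat 0, Int.ofNat 0, Int.ofNat 0, Int.ofNat 0, Int.ofNat 0, Int.ofNat 0, Int.ofNat 0, Int.ofNat 0, Int.ofNat 0, Int.ofNat 0, Int.ofNat 0, Int.ofNat 0, Int.ofNat 0, Int.ofNat 0, Int.ofNat 0, Int.negSucc 3],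
  [Int.ofNat 0, Int.ofNat 0, Int.ofNat 0, Int.ofNat 4, Int.ofNat 0, Int.ofNat 0, Int.ofNat 0, Int.ofNat 0, Int.ofNat 0, Int.ofNat 0, Int.ofNat 0, Int.ofNat 0, Int.ofNat 0, Int.ofNat 0, Int.ofNat 0, Int.ofNat 0, Int.ofNat 0, Int.ofNat 0, Int.ofNat 0, Int.ofNat 0, Int.ofNat 0, Int.ofNat 0, Int.ofNat 0, Int.negSucc 3],
  [Int.negSucc 3, Int.ofNat 0, Int.ofNat 0, Int.ofNat 0, Int.ofNat 0, Int.ofNat 0, Int.ofNat 0, Int.ofNat 0, Int.ofNat 0, Int.ofNat 0, Int.ofNat 0, Int.ofNat 0, Int.ofNat 0, Int.ofNat 0, Int.ofNat 0, Int.ofNat 4, Int.ofNat 0, Int.ofNat 0, Int.ofNat 0, Int.ofNat 0, Int.ofNat 0, Int.ofNat 0, Int.ofNat 0, Int.ofNat 0],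
  [Int.ofNat 4, Int.ofNat 0, Int.ofNat 0, Int.ofNat 0, Int.ofNat 0, Int.ofNat 0, Int.ofNat 0, Int.ofNat 0, Int.ofNat 0, Int.ofNat 0, Int.ofNat 0, Int.ofNat 0, Int.ofNat 0, Int.ofNat 0, Int.ofNat 0, Int.ofNat 4, Int.ofNat 0, Int.ofNat 0, Int.ofNat 0, Int.ofNat 0, Int.ofNat 0, Int.ofNat 0, Int.ofNat 0, Int.ofNat 0],
  [Int.ofNat 0, Int.ofNat 4, Int.ofNat 0, Int.ofNat 0, Int.ofNat 0, Int.ofNat 0, Int.ofNat 0, Int.ofNat 0, Int.ofNat 0, Int.ofNat 0, Int.ofNat 0, Int.ofNat 0, Int.ofNat 0, Int.ofNat 0, Int.ofNat 0, Int.ofNat 0, Int.ofNat 4, Int.ofNat 0, Int.ofNat 0, Int.ofNat 0, Int.ofNat 0, Int.ofNat 0, Int.ofNat 0, Int.ofNat 0],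
  [Int.ofNat 2, Int.negSucc 1, Int.ofNat 2, Int.ofNat 0, Int.negSucc 1, Int.ofNat 0, Int.ofNat 0, Int.ofNat 0, Int.ofNat 0, Int.ofNat 0, Int.ofNat 0, Int.ofNat 0, Int.ofNat 0, Int.negSucc 1, Int.ofNat 0, Int.ofNat 0, Int.ofNat 2, Int.ofNat 0, Int.ofNat 0, Int.ofNat 0, Int.ofNat 0, Int.ofNat 0, Int.negSucc 1, Int.ofNat 2],
  [Int.ofNat 0, Int.negSucc 1, Int.ofNat 0, Int.ofNat 0, Int.ofNat 0, Int.ofNat 0, Int.ofNat 0, Int.ofNat 0, Int.ofNat 0, Int.ofNat 0, Int.negSucc 1, Int.ofNat 0, Int.ofNat 0, Int.ofNat 2, Int.ofNat 0, Int.ofNat 0, Int.ofNat 0, Int.ofNat 0, Int.ofNat 0, Int.negSucc 1, Int.ofNat 2, Int.negSucc 1, Int.ofNat 2, Int.ofNat 2],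
  [Int.ofNat 0, Int.ofNat 2, Int.ofNat 0, Int.ofNat 0, Int.negSucc 1, Int.ofNat 0, Int.ofNat 2, Int.ofNat 2, Int.ofNat 0, Int.ofNat 0, Int.negSucc 1, Int.ofNat 0, Int.ofNat 0, Int.ofNat 0, Int.ofNat 0, Int.ofNat 0, Int.negSucc 1, Int.ofNat 0, Int.ofNat 0, Int.ofNat 0, Int.ofNat 2, Int.ofNat 0, Int.ofNat 0, Int.negSucc 1],
  [Int.ofNat 0, Int.ofNat 2, Int.negSucc 1, Int.ofNat 0, Int.ofNat 0, Int.ofNat 2, Int.ofNat 0, Int.negSucc 1, Int.ofNat 0, Int.ofNat 0, Int.ofNat 2, Int.ofNat 0, Int.ofNat 0, Int.negSucc 1, Int.ofNat 0, Int.ofNat 0, Int.ofNat 0, Int.ofNat 0, Int.ofNat 2, Int.ofNat 0, Int.ofNat 0, Int.ofNat 0, Int.ofNat 0, Int.negSucc 1],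
  [Int.negSucc 0, Int.negSucc 2, Int.ofNat 1, Int.negSucc 0, Int.ofNat 1, Int.ofNat 1, Int.ofNat 1, Int.negSucc 0, Int.negSucc 0, Int.negSucc 0, Int.ofNat 1, Int.negSucc 0, Int.negSucc 0, Int.negSucc 0, Int.negSucc 0, Int.negSucc 0, Int.ofNat 1, Int.negSucc 0, Int.ofNat 1, Int.ofNat 1, Int.negSucc 0, Int.ofNat 1, Int.ofNat 1, Int.ofNat 1],
  [Int.negSucc 0, Int.negSucc 2, Int.negSucc 0, Int.negSucc 0, Int.ofNat 1, Int.negSucc 0, Int.negSucc 0, Int.negSucc 0, Int.negSucc 0, Int.ofNat 1, Int.negSucc 0, Int.negSucc 0, Int.negSucc 0, Int.negSucc 0, Int.negSucc 0, Int.ofNat 1, Int.ofNat 1, Int.negSucc 0, Int.negSucc 0, Int.ofNat 1, Int.negSucc 0, Int.ofNat 1, Int.negSucc 0, Int.ofNat 1],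
  [Int.negSucc 0, Int.ofNat 1, Int.negSucc 0, Int.negSucc 2, Int.negSucc 0, Int.negSucc 0, Int.negSucc 0, Int.negSucc 0, Int.negSucc 0, Int.negSucc 0, Int.negSucc 0, Int.ofNat 1, Int.negSucc 0, Int.ofNat 1, Int.ofNat 1, Int.negSucc 0, Int.negSucc 0, Int.negSucc 0, Int.ofNat 1, Int.negSucc 0, Int.negSucc 0, Int.negSucc 0, Int.ofNat 1, Int.ofNat 1],
  [Int.negSucc 0, Int.ofNat 1, Int.ofNat 1, Int.negSucc 2, Int.negSucc 0, Int.ofNat 1, Int.ofNat 1, Int.negSucc 0, Int.negSucc 0, Int.ofNat 1, Int.ofNat 1, Int.ofNat 1, Int.negSucc 0, Int.ofNat 1, Int.ofNat 1, Int.ofNat 1, Int.negSucc 0, Int.negSucc 0, Int.negSucc 0, Int.negSucc 0, Int.negSucc 0, Int.negSucc 0, Int.negSucc 0, Int.ofNat 1],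
  [Int.ofNat 2, Int.ofNat 0, Int.ofNat 0, Int.negSucc 1, Int.ofNat 0, Int.ofNat 2, Int.ofNat 2, Int.ofNat 0, Int.ofNat 0, Int.ofNat 0, Int.ofNat 0, Int.ofNat 2, Int.ofNat 0, Int.ofNat 2, Int.ofNat 2, Int.ofNat 0, Int.ofNat 0, Int.ofNat 0, Int.ofNat 0, Int.ofNat 0, Int.negSucc 1, Int.ofNat 0, Int.ofNat 0, Int.ofNat 0],
  [Int.ofNat 2, Int.ofNat 0, Int.ofNat 2, Int.negSucc 1, Int.ofNat 0, Int.ofNat 0, Int.ofNat 0, Int.ofNat 2, Int.ofNat 0, Int.ofNat 0, Int.ofNat 0, Int.ofNat 0, Int.ofNat 0, Int.ofNat 0, Int.ofNat 0, Int.ofNat 0, Int.ofNat 2, Int.ofNat 2, Int.ofNat 0, Int.ofNat 0, Int.ofNat 0, Int.negSucc 1, Int.ofNat 2, Int.ofNat 0],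
  [Int.ofNat 0, Int.ofNat 2, Int.ofNat 0, Int.negSucc 1, Int.negSucc 1, Int.ofNat 0, Int.ofNat 0, Int.ofNat 2, Int.ofNat 0, Int.ofNat 0, Int.ofNat 0, Int.ofNat 0, Int.ofNat 0, Int.negSucc 1, Int.ofNat 0, Int.ofNat 0, Int.ofNat 0, Int.ofNat 2, Int.ofNat 0, Int.ofNat 0, Int.ofNat 0, Int.negSucc 1, Int.ofNat 0, Int.ofNat 2],
  [Int.ofNat 0, Int.negSucc 1, Int.ofNat 0, Int.ofNat 0, Int.ofNat 2, Int.ofNat 0, Int.negSucc 1, Int.negSucc 1, Int.ofNat 0, Int.ofNat 0, Int.ofNat 2, Int.ofNat 0, Int.ofNat 0, Int.ofNat 0, Int.ofNat 0, Int.ofNat 0, Int.negSucc 1, Int.ofNat 0, Int.ofNat 0, Int.ofNat 0, Int.ofNat 2, Int.ofNat 0, Int.ofNat 0, Int.ofNat 2],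
  [Int.ofNat 0, Int.ofNat 2, Int.ofNat 0, Int.ofNat 0, Int.ofNat 2, Int.ofNat 0, Int.ofNat 0, Int.ofNat 0, Int.ofNat 0, Int.negSucc 1, Int.ofNat 0, Int.ofNat 0, Int.ofNat 0, Int.ofNat 0, Int.ofNat 0, Int.negSucc 1, Int.negSucc 1, Int.ofNat 0, Int.ofNat 0, Int.ofNat 2, Int.ofNat 0, Int.ofNat 2, Int.ofNat 0, Int.negSucc 1],
  [Int.ofNat 2, Int.ofNat 0, Int.ofNat 0, Int.ofNat 2, Int.ofNat 0, Int.ofNat 0, Int.ofNat 0, Int.ofNat 0, Int.negSucc 1, Int.ofNat 0, Int.ofNat 0, Int.ofNat 0, Int.ofNat 0, Int.ofNat 0, Int.negSucc 1, Int.negSucc 1, Int.ofNat 0, Int.ofNat 0, Int.ofNat 2, Int.ofNat 0, Int.ofNat 2, Int.ofNat 0, Int.ofNat 0, Int.negSucc 1],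
  [Int.negSucc 1, Int.ofNat 0, Int.ofNat 0, Int.ofNat 2, Int.ofNat 0, Int.ofNat 0, Int.ofNat 0, Int.ofNat 0, Int.negSucc 1, Int.ofNat 0, Int.ofNat 0, Int.ofNat 0, Int.ofNat 0, Int.ofNat 0, Int.negSucc 1, Int.negSucc 1, Int.ofNat 0, Int.ofNat 0, Int.negSucc 1, Int.ofNat 0, Int.ofNat 2, Int.ofNat 0, Int.ofNat 0, Int.negSucc 1],
  [Int.negSucc 1, Int.ofNat 0, Int.negSucc 1, Int.ofNat 2, Int.ofNat 0, Int.ofNat 0, Int.ofNat 0, Int.ofNat 2, Int.ofNat 0, Int.ofNat 0, Int.ofNat 0, Int.negSucc 1, Int.ofNat 0, Int.negSucc 1, Int.ofNat 0, Int.negSucc 1, Int.ofNat 0, Int.ofNat 0, Int.ofNat 0, Int.ofNat 0, Int.ofNat 0, Int.ofNat 0, Int.ofNat 0, Int.negSucc 1],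
  [Int.ofNat 2, Int.ofNat 0, Int.ofNat 2, Int.ofNat 2, Int.ofNat 0, Int.ofNat 0, Int.ofNat 0, Int.negSucc 1, Int.ofNat 0, Int.ofNat 0, Int.ofNat 0, Int.ofNat 2, Int.ofNat 0, Int.negSucc 1, Int.ofNat 0, Int.negSucc 1, Int.ofNat 0, Int.ofNat 0, Int.ofNat 0, Int.ofNat 0, Int.ofNat 0, Int.ofNat 0, Int.ofNat 0, Int.negSucc 1],
  [Int.ofNat 0, Int.ofNat 2, Int.ofNat 0, Int.ofNat 2, Int.ofNat 2, Int.ofNat 0, Int.ofNat 0, Int.ofNat 0, Int.negSucc 1, Int.ofNat 0, Int.ofNat 0, Int.ofNat 0, Int.ofNat 2, Int.ofNat 0, Int.negSucc 1, Int.ofNat 0, Int.negSucc 1, Int.ofNat 0, Int.ofNat 0, Int.ofNat 0, Int.ofNat 0, Int.ofNat 0, Int.ofNat 0, Int.negSucc 1],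
  [Int.ofNat 0, Int.negSucc 1, Int.ofNat 0, Int.ofNat 2, Int.ofNat 2, Int.ofNat 0, Int.ofNat 0, Int.ofNat 0, Int.negSucc 1, Int.ofNat 0, Int.ofNat 0, Int.ofNat 0, Int.ofNat 2, Int.ofNat 0, Int.negSucc 1, Int.ofNat 0, Int.negSucc 1, Int.ofNat 0, Int.ofNat 0, Int.ofNat 0, Int.ofNat 0, Int.ofNat 0, Int.ofNat 0, Int.ofNat 2],
  [Int.ofNat 2, Int.ofNat 2, Int.ofNat 0, Int.ofNat 0, Int.ofNat 0, Int.negSucc 1, Int.ofNat 0, Int.ofNat 0, Int.ofNat 0, Int.ofNat 2, Int.ofNat 0, Int.negSucc 1, Int.ofNat 0, Int.negSucc 1, Int.ofNat 0, Int.ofNat 0, Int.ofNat 0, Int.ofNat 0, Int.ofNat 0, Int.ofNat 0, Int.ofNat 0, Int.negSucc 1, Int.ofNat 0, Int.ofNat 2],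
  [Int.ofNat 1, Int.ofNat 1, Int.ofNat 3, Int.ofNat 1, Int.ofNat 1, Int.negSucc 0, Int.ofNat 1, Int.ofNat 1, Int.ofNat 1, Int.ofNat 1, Int.negSucc 0, Int.negSucc 0, Int.ofNat 1, Int.negSucc 0, Int.ofNat 1, Int.negSucc 0, Int.ofNat 1, Int.ofNat 1, Int.ofNat 1, Int.ofNat 1, Int.negSucc 0, Int.negSucc 0, Int.ofNat 1, Int.ofNat 1],
  [Int.ofNat 1, Int.ofNat 1, Int.ofNat 1, Int.ofNat 1, Int.ofNat 1, Int.ofNat 1, Int.ofNat 3, Int.negSucc 0, Int.ofNat 1, Int.negSucc 0, Int.negSucc 0, Int.ofNat 1, Int.ofNat 1, Int.ofNat 1, Int.ofNat 1, Int.negSucc 0, Int.ofNat 1, Int.ofNat 1, Int.ofNat 1, Int.negSucc 0, Int.negSucc 0, Int.negSucc 0, Int.ofNat 1, Int.ofNat 1],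
  [Int.ofNat 1, Int.ofNat 1, Int.ofNat 1, Int.negSucc 0, Int.negSucc 0, Int.negSucc 0, Int.ofNat 3, Int.negSucc 0, Int.negSucc 0, Int.ofNat 1, Int.ofNat 1, Int.negSucc 0, Int.negSucc 0, Int.negSucc 0, Int.negSucc 0, Int.ofNat 1, Int.negSucc 0, Int.negSucc 0, Int.negSucc 0, Int.negSucc 0, Int.ofNat 1, Int.negSucc 0, Int.negSucc 0, Int.ofNat 1],
  [Int.ofNat 1, Int.ofNat 1, Int.negSucc 0, Int.negSucc 0, Int.negSucc 0, Int.ofNat 1, Int.negSucc 2, Int.negSucc 0, Int.negSucc 0, Int.negSucc 0, Int.negSucc 0, Int.negSucc 0, Int.negSucc 0, Int.negSucc 0, Int.negSucc 0, Int.negSucc 0, Int.negSucc 0, Int.negSucc 0, Int.ofNat 1, Int.negSucc 0, Int.ofNat 1, Int.negSucc 0, Int.ofNat 1, Int.ofNat 1],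
  [Int.negSucc 0, Int.negSucc 0, Int.negSucc 0, Int.negSucc 0, Int.negSucc 0, Int.negSucc 2, Int.negSucc 0, Int.negSucc 0, Int.ofNat 1, Int.ofNat 1, Int.negSucc 0, Int.negSucc 0, Int.negSucc 0, Int.negSucc 0, Int.negSucc 0, Int.ofNat 1, Int.negSucc 0, Int.negSucc 0, Int.negSucc 0, Int.negSucc 0, Int.ofNat 1, Int.ofNat 1, Int.ofNat 1, Int.ofNat 1],
  [Int.ofNat 1, Int.ofNat 1, Int.ofNat 1, Int.ofNat 1, Int.ofNat 1, Int.negSucc 2, Int.ofNat 1, Int.negSucc 0, Int.negSucc 0, Int.negSucc 0, Int.negSucc 0, Int.negSucc 0, Int.ofNat 1, Int.ofNat 1, Int.negSucc 0, Int.ofNat 1, Int.ofNat 1, Int.negSucc 0, Int.ofNat 1, Int.negSucc 0, Int.ofNat 1, Int.ofNat 1, Int.ofNat 1, Int.ofNat 1],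
  [Int.ofNat 1, Int.ofNat 1, Int.negSucc 0, Int.ofNat 1, Int.negSucc 0, Int.negSucc 0, Int.negSucc 0, Int.ofNat 1, Int.ofNat 1, Int.negSucc 2, Int.ofNat 1, Int.ofNat 1, Int.ofNat 1, Int.negSucc 0, Int.ofNat 1, Int.ofNat 1, Int.negSucc 0, Int.ofNat 1, Int.negSucc 0, Int.ofNat 1, Int.negSucc 0, Int.ofNat 1, Int.ofNat 1, Int.ofNat 1],
  [Int.negSucc 0, Int.ofNat 1, Int.ofNat 1, Int.ofNat 1, Int.negSucc 0, Int.negSucc 0, Int.negSucc 0, Int.negSucc 0, Int.ofNat 1, Int.ofNat 3, Int.negSucc 0, Int.negSucc 0, Int.ofNat 1, Int.negSucc 0, Int.ofNat 1, Int.ofNat 1, Int.negSucc 0, Int.ofNat 1, Int.ofNat 1, Int.ofNat 1, Int.negSucc 0, Int.negSucc 0, Int.ofNat 1, Int.ofNat 1],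
  [Int.ofNat 1, Int.negSucc 0, Int.ofNat 1, Int.ofNat 1, Int.ofNat 1, Int.negSucc 0, Int.negSucc 0, Int.negSucc 0, Int.negSucc 0, Int.ofNat 1, Int.ofNat 3, Int.negSucc 0, Int.negSucc 0, Int.ofNat 1, Int.negSucc 0, Int.ofNat 1, Int.ofNat 1, Int.negSucc 0, Int.ofNat 1, Int.ofNat 1, Int.ofNat 1, Int.negSucc 0, Int.negSucc 0, Int.ofNat 1],
  [Int.ofNat 0, Int.ofNat 2, Int.ofNat 0, Int.ofNat 2, Int.ofNat 0, Int.ofNat 0, Int.ofNat 0, Int.ofNat 0, Int.ofNat 0, Int.negSucc 1, Int.ofNat 0, Int.ofNat 0, Int.ofNat 0, Int.ofNat 0, Int.ofNat 0, Int.negSucc 1, Int.ofNat 0, Int.ofNat 0, Int.ofNat 2, Int.ofNat 2, Int.negSucc 1, Int.ofNat 0, Int.negSucc 1, Int.ofNat 0],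
  [Int.ofNat 2, Int.ofNat 0, Int.ofNat 0, Int.ofNat 0, Int.ofNat 0, Int.ofNat 0, Int.negSucc 1, Int.ofNat 0, Int.ofNat 0, Int.ofNat 0, Int.ofNat 0, Int.ofNat 0, Int.negSucc 1, Int.ofNat 0, Int.ofNat 0, Int.ofNat 2, Int.ofNat 2, Int.negSucc 1, Int.ofNat 0, Int.negSucc 1, Int.ofNat 0, Int.ofNat 2, Int.ofNat 0, Int.ofNat 0],
  [Int.negSucc 0, Int.ofNat 1, Int.ofNat 1, Int.ofNat 1, Int.negSucc 0, Int.ofNat 1, Int.negSucc 0, Int.ofNat 1, Int.ofNat 1, Int.negSucc 0, Int.negSucc 0, Int.ofNat 1, Int.negSucc 0, Int.negSucc 0, Int.ofNat 1, Int.ofNat 1, Int.ofNat 1, Int.negSucc 0, Int.ofNat 1, Int.negSucc 0, Int.negSucc 0, Int.ofNat 3, Int.negSucc 0, Int.ofNat 1],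
  [Int.negSucc 0, Int.negSucc 0, Int.negSucc 0, Int.ofNat 1, Int.ofNat 1, Int.ofNat 1, Int.ofNat 1, Int.negSucc 0, Int.negSucc 0, Int.negSucc 0, Int.negSucc 0, Int.negSucc 0, Int.negSucc 0, Int.ofNat 1, Int.negSucc 0, Int.ofNat 1, Int.ofNat 1, Int.ofNat 1, Int.ofNat 1, Int.ofNat 1, Int.ofNat 3, Int.ofNat 1, Int.negSucc 0, Int.ofNat 1],
  [Int.ofNat 0, Int.ofNat 0, Int.ofNat 0, Int.ofNat 0, Int.ofNat 0, Int.ofNat 0, Int.ofNat 0, Int.negSucc 1, Int.ofNat 0, Int.negSucc 1, Int.negSucc 1, Int.ofNat 0, Int.ofNat 0, Int.ofNat 0, Int.negSucc 1, Int.ofNat 0, Int.ofNat 0, Int.ofNat 0, Int.ofNat 2, Int.ofNat 0, Int.ofNat 2, Int.ofNat 0, Int.negSucc 1, Int.negSucc 1],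
  [Int.ofNat 0, Int.ofNat 0, Int.ofNat 0, Int.ofNat 0, Int.ofNat 0, Int.ofNat 0, Int.ofNat 0, Int.negSucc 1, Int.ofNat 0, Int.ofNat 2, Int.ofNat 2, Int.ofNat 0, Int.ofNat 0, Int.ofNat 0, Int.negSucc 1, Int.ofNat 0, Int.ofNat 0, Int.ofNat 0, Int.negSucc 1, Int.ofNat 0, Int.ofNat 2, Int.ofNat 0, Int.ofNat 2, Int.negSucc 1],
  [Int.negSucc 1, Int.ofNat 0, Int.ofNat 0, Int.ofNat 0, Int.negSucc 1, Int.ofNat 2, Int.ofNat 0, Int.ofNat 0, Int.ofNat 0, Int.ofNat 2, Int.ofNat 0, Int.ofNat 0, Int.ofNat 0, Int.ofNat 0, Int.ofNat 2, Int.ofNat 0, Int.negSucc 1, Int.ofNat 0, Int.ofNat 0, Int.ofNat 0, Int.ofNat 2, Int.ofNat 0, Int.ofNat 0, Int.negSucc 1],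
  [Int.negSucc 1, Int.ofNat 0, Int.ofNat 0, Int.ofNat 0, Int.negSucc 1, Int.negSucc 1, Int.ofNat 0, Int.ofNat 0, Int.ofNat 0, Int.negSucc 1, Int.ofNat 0, Int.ofNat 0, Int.ofNat 0, Int.ofNat 0, Int.ofNat 2, Int.ofNat 0, Int.negSucc 1, Int.ofNat 0, Int.ofNat 0, Int.ofNat 0, Int.ofNat 2, Int.ofNat 0, Int.ofNat 0, Int.negSucc 1],
  [Int.ofNat 0, Int.negSucc 1, Int.negSucc 1, Int.ofNat 0, Int.ofNat 0, Int.negSucc 1, Int.ofNat 0, Int.ofNat 0, Int.ofNat 0, Int.negSucc 1, Int.ofNat 0, Int.ofNat 0, Int.ofNat 0, Int.ofNat 2, Int.ofNat 2, Int.ofNat 0, Int.ofNat 0, Int.ofNat 0, Int.ofNat 0, Int.ofNat 0, Int.ofNat 2, Int.ofNat 0, Int.ofNat 2, Int.ofNat 0],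
  [Int.ofNat 0, Int.ofNat 0, Int.ofNat 0, Int.ofNat 0, Int.negSucc 1, Int.ofNat 0, Int.negSucc 1, Int.negSucc 1, Int.ofNat 0, Int.ofNat 0, Int.ofNat 0, Int.ofNat 0, Int.ofNat 0, Int.negSucc 1, Int.ofNat 0, Int.ofNat 0, Int.ofNat 2, Int.ofNat 0, Int.ofNat 0, Int.ofNat 2, Int.ofNat 0, Int.ofNat 2, Int.ofNat 2, Int.ofNat 0],
  [Int.ofNat 0, Int.ofNat 0, Int.ofNat 0, Int.ofNat 0, Int.negSucc 1, Int.ofNat 0, Int.negSucc 1, Int.negSucc 1, Int.ofNat 0, Int.ofNat 0, Int.ofNat 0, Int.ofNat 0, Int.ofNat 0, Int.negSucc 1, Int.ofNat 0, Int.ofNat 0, Int.ofNat 2, Int.ofNat 0, Int.ofNat 0, Int.ofNat 2, Int.ofNat 0, Int.ofNat 2, Int.ofNat 2, Int.ofNat 0],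
  [Int.ofNat 0, Int.ofNat 2, Int.ofNat 2, Int.ofNat 0, Int.ofNat 0, Int.ofNat 0, Int.ofNat 0, Int.negSucc 1, Int.ofNat 0, Int.negSucc 1, Int.negSucc 1, Int.ofNat 0, Int.ofNat 0, Int.ofNat 0, Int.ofNat 0, Int.ofNat 0, Int.negSucc 1, Int.ofNat 0, Int.ofNat 0, Int.ofNat 2, Int.ofNat 0, Int.ofNat 0, Int.ofNat 2, Int.ofNat 0],
  [Int.ofNat 2, Int.ofNat 0, Int.ofNat 0, Int.ofNat 0, Int.ofNat 0, Int.ofNat 0, Int.ofNat 0, Int.negSucc 1, Int.ofNat 0, Int.ofNat 0, Int.ofNat 0, Int.ofNat 0, Int.ofNat 0, Int.ofNat 0, Int.ofNat 0, Int.ofNat 2, Int.negSucc 1, Int.ofNat 0, Int.ofNat 0, Int.ofNat 2, Int.ofNat 2, Int.ofNat 0, Int.ofNat 2, Int.ofNat 2],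
  [Int.ofNat 0, Int.ofNat 0, Int.ofNat 0, Int.ofNat 0, Int.ofNat 0, Int.ofNat 0, Int.negSucc 1, Int.ofNat 0, Int.ofNat 0, Int.ofNat 0, Int.ofNat 0, Int.ofNat 0, Int.ofNat 0, Int.ofNat 0, Int.ofNat 2, Int.negSucc 1, Int.ofNat 0, Int.ofNat 0, Int.ofNat 2, Int.ofNat 2, Int.ofNat 0, Int.ofNat 2, Int.ofNat 2, Int.ofNat 2],
  [Int.ofNat 0, Int.ofNat 0, Int.ofNat 0, Int.ofNat 0, Int.ofNat 0, Int.ofNat 0, Int.negSucc 1, Int.ofNat 0, Int.ofNat 0, Int.ofNat 0, Int.ofNat 0, Int.ofNat 0, Int.ofNat 0, Int.ofNat 0, Int.ofNat 2, Int.negSucc 1, Int.ofNat 0, Int.ofNat 0, Int.negSucc 1, Int.ofNat 2, Int.ofNat 0, Int.negSucc 1, Int.ofNat 2, Int.ofNat 2],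
  [Int.ofNat 0, Int.ofNat 0, Int.negSucc 1, Int.ofNat 0, Int.ofNat 0, Int.ofNat 0, Int.ofNat 0, Int.ofNat 0, Int.ofNat 0, Int.ofNat 0, Int.negSucc 1, Int.ofNat 2, Int.ofNat 0, Int.ofNat 0, Int.ofNat 2, Int.negSucc 1, Int.ofNat 0, Int.ofNat 2, Int.negSucc 1, Int.ofNat 0, Int.ofNat 0, Int.ofNat 0, Int.ofNat 0, Int.ofNat 2],
  [Int.ofNat 0, Int.ofNat 0, Int.ofNat 2, Int.ofNat 0, Int.ofNat 0, Int.ofNat 0, Int.ofNat 0, Int.ofNat 0, Int.ofNat 0, Int.ofNat 0, Int.ofNat 2, Int.negSucc 1, Int.ofNat 0, Int.ofNat 0, Int.ofNat 2, Int.negSucc 1, Int.ofNat 0, Int.ofNat 2, Int.ofNat 2, Int.ofNat 0, Int.ofNat 0, Int.ofNat 0, Int.ofNat 0, Int.ofNat 2],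
  [Int.ofNat 0, Int.ofNat 0, Int.ofNat 0, Int.ofNat 2, Int.ofNat 0, Int.ofNat 0, Int.ofNat 0, Int.ofNat 0, Int.ofNat 0, Int.ofNat 0, Int.ofNat 0, Int.ofNat 2, Int.negSucc 1, Int.ofNat 0, Int.ofNat 0, Int.ofNat 2, Int.negSucc 1, Int.ofNat 0, Int.ofNat 2, Int.ofNat 2, Int.ofNat 0, Int.ofNat 0, Int.ofNat 0, Int.ofNat 2],
  [Int.ofNat 1, Int.ofNat 1, Int.ofNat 1, Int.ofNat 1, Int.ofNat 1, Int.negSucc 0, Int.negSucc 0, Int.negSucc 0, Int.negSucc 0, Int.negSucc 0, Int.negSucc 0, Int.ofNat 1, Int.negSucc 2, Int.ofNat 1, Int.negSucc 0, Int.ofNat 1, Int.negSucc 0, Int.negSucc 0, Int.ofNat 1, Int.ofNat 1, Int.negSucc 0, Int.negSucc 0, Int.ofNat 1, Int.negSucc 0],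
  [Int.ofNat 1, Int.ofNat 1, Int.negSucc 0, Int.negSucc 0, Int.negSucc 0, Int.negSucc 0, Int.negSucc 0, Int.negSucc 0, Int.ofNat 1, Int.negSucc 2, Int.ofNat 1, Int.negSucc 0, Int.ofNat 1, Int.negSucc 0, Int.negSucc 0, Int.ofNat 1, Int.ofNat 1, Int.negSucc 0, Int.negSucc 0, Int.ofNat 1, Int.ofNat 1, Int.ofNat 1, Int.ofNat 1, Int.negSucc 0],
  [Int.negSucc 0, Int.negSucc 0, Int.ofNat 1, Int.ofNat 1, Int.negSucc 0, Int.ofNat 1, Int.negSucc 0, Int.negSucc 0, Int.ofNat 1, Int.negSucc 2, Int.ofNat 1, Int.negSucc 0, Int.ofNat 1, Int.negSucc 0, Int.ofNat 1, Int.ofNat 1, Int.ofNat 1, Int.ofNat 1, Int.negSucc 0, Int.ofNat 1, Int.ofNat 1, Int.ofNat 1, Int.ofNat 1, Int.ofNat 1],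
  [Int.negSucc 0, Int.negSucc 0, Int.negSucc 0, Int.ofNat 1, Int.negSucc 0, Int.negSucc 0, Int.ofNat 1, Int.ofNat 1, Int.ofNat 1, Int.negSucc 0, Int.ofNat 1, Int.ofNat 1, Int.negSucc 2, Int.ofNat 1, Int.ofNat 1, Int.ofNat 1, Int.ofNat 1, Int.ofNat 1, Int.negSucc 0, Int.negSucc 0, Int.ofNat 1, Int.ofNat 1, Int.ofNat 1, Int.ofNat 1],
  [Int.ofNat 0, Int.ofNat 0, Int.ofNat 0, Int.ofNat 0, Int.negSucc 1, Int.negSucc 1, Int.ofNat 0, Int.ofNat 0, Int.ofNat 2, Int.negSucc 1, Int.ofNat 0, Int.ofNat 2, Int.negSucc 1, Int.ofNat 0, Int.ofNat 0, Int.ofNat 0, Int.ofNat 0, Int.ofNat 0, Int.ofNat 0, Int.negSucc 1, Int.ofNat 0, Int.ofNat 0, Int.ofNat 0, Int.negSucc 1],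
  [Int.ofNat 0, Int.ofNat 0, Int.ofNat 0, Int.ofNat 0, Int.negSucc 1, Int.ofNat 2, Int.ofNat 0, Int.ofNat 0, Int.ofNat 2, Int.ofNat 2, Int.ofNat 0, Int.ofNat 2, Int.negSucc 1, Int.ofNat 0, Int.ofNat 0, Int.ofNat 0, Int.ofNat 0, Int.ofNat 0, Int.ofNat 0, Int.negSucc 1, Int.ofNat 0, Int.ofNat 0, Int.ofNat 0, Int.negSucc 1],
  [Int.ofNat 0, Int.ofNat 0, Int.ofNat 2, Int.ofNat 2, Int.ofNat 0, Int.ofNat 0, Int.ofNat 0, Int.ofNat 0, Int.ofNat 2, Int.ofNat 0, Int.ofNat 0, Int.ofNat 0, Int.ofNat 0, Int.negSucc 1, Int.ofNat 0, Int.ofNat 0, Int.negSucc 1, Int.negSucc 1, Int.ofNat 2, Int.ofNat 0, Int.ofNat 0, Int.ofNat 0, Int.ofNat 0, Int.negSucc 1],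
  [Int.ofNat 0, Int.ofNat 0, Int.negSucc 1, Int.negSucc 1, Int.ofNat 0, Int.ofNat 0, Int.ofNat 0, Int.ofNat 0, Int.negSucc 1, Int.ofNat 0, Int.ofNat 0, Int.ofNat 0, Int.ofNat 0, Int.ofNat 2, Int.ofNat 0, Int.ofNat 0, Int.ofNat 2, Int.negSucc 1, Int.negSucc 1, Int.ofNat 0, Int.ofNat 0, Int.ofNat 0, Int.ofNat 0, Int.negSucc 1],
  [Int.negSucc 1, Int.ofNat 0, Int.ofNat 0, Int.ofNat 0, Int.negSucc 1, Int.ofNat 0, Int.ofNat 0, Int.ofNat 2, Int.ofNat 0, Int.ofNat 0, Int.ofNat 2, Int.negSucc 1, Int.ofNat 0, Int.ofNat 0, Int.negSucc 1, Int.negSucc 1, Int.ofNat 0, Int.ofNat 0, Int.ofNat 0, Int.ofNat 0, Int.negSucc 1, Int.ofNat 0, Int.ofNat 0, Int.ofNat 0],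
  [Int.ofNat 2, Int.ofNat 0, Int.ofNat 0, Int.ofNat 0, Int.negSucc 1, Int.ofNat 0, Int.ofNat 0, Int.negSucc 1, Int.ofNat 0, Int.ofNat 0, Int.negSucc 1, Int.ofNat 2, Int.ofNat 0, Int.ofNat 0, Int.negSucc 1, Int.negSucc 1, Int.ofNat 0, Int.ofNat 0, Int.ofNat 0, Int.ofNat 0, Int.negSucc 1, Int.ofNat 0, Int.ofNat 0, Int.ofNat 0],
  [Int.ofNat 0, Int.ofNat 2, Int.ofNat 0, Int.ofNat 0, Int.ofNat 0, Int.negSucc 1, Int.ofNat 0, Int.ofNat 0, Int.negSucc 1, Int.ofNat 0, Int.ofNat 0, Int.negSucc 1, Int.ofNat 2, Int.ofNat 0, Int.ofNat 0, Int.negSucc 1, Int.negSucc 1, Int.ofNat 0, Int.ofNat 0, Int.ofNat 0, Int.ofNat 0, Int.negSucc 1, Int.ofNat 0, Int.ofNat 0],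
  [Int.ofNat 1, Int.negSucc 0, Int.ofNat 1, Int.ofNat 1, Int.ofNat 1, Int.negSucc 0, Int.ofNat 1, Int.ofNat 1, Int.negSucc 0, Int.ofNat 1, Int.ofNat 1, Int.negSucc 0, Int.ofNat 3, Int.ofNat 1, Int.ofNat 1, Int.negSucc 0, Int.negSucc 0, Int.ofNat 1, Int.ofNat 1, Int.ofNat 1, Int.ofNat 1, Int.negSucc 0, Int.ofNat 1, Int.ofNat 1],
  [Int.ofNat 1, Int.ofNat 1, Int.negSucc 0, Int.ofNat 1, Int.ofNat 1, Int.negSucc 0, Int.ofNat 1, Int.ofNat 1, Int.negSucc 0, Int.ofNat 3, Int.ofNat 1, Int.ofNat 1, Int.negSucc 0, Int.negSucc 0, Int.ofNat 1, Int.ofNat 1, Int.ofNat 1, Int.ofNat 1, Int.negSucc 0, Int.ofNat 1, Int.ofNat 1, Int.negSucc 0, Int.ofNat 1, Int.ofNat 1],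
  [Int.ofNat 0, Int.ofNat 0, Int.ofNat 2, Int.ofNat 0, Int.ofNat 0, Int.negSucc 1, Int.ofNat 0, Int.ofNat 0, Int.ofNat 0, Int.ofNat 0, Int.negSucc 1, Int.ofNat 2, Int.ofNat 0, Int.negSucc 1, Int.ofNat 0, Int.negSucc 1, Int.ofNat 0, Int.ofNat 0, Int.ofNat 0, Int.ofNat 0, Int.negSucc 1, Int.negSucc 1, Int.ofNat 0, Int.ofNat 0],
  [Int.ofNat 0, Int.ofNat 0, Int.ofNat 0, Int.ofNat 0, Int.ofNat 0, Int.ofNat 0, Int.ofNat 2, Int.negSucc 1, Int.ofNat 0, Int.negSucc 1, Int.negSucc 1, Int.ofNat 0, Int.ofNat 0, Int.ofNat 0, Int.ofNat 0, Int.negSucc 1, Int.ofNat 0, Int.ofNat 0, Int.ofNat 0, Int.ofNat 2, Int.negSucc 1, Int.negSucc 1, Int.ofNat 0, Int.ofNat 0],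
  [Int.ofNat 0, Int.ofNat 0, Int.ofNat 0, Int.ofNat 0, Int.ofNat 0, Int.ofNat 0, Int.ofNat 2, Int.negSucc 1, Int.ofNat 0, Int.ofNat 2, Int.ofNat 2, Int.ofNat 0, Int.ofNat 0, Int.ofNat 0, Int.ofNat 0, Int.ofNat 2, Int.ofNat 0, Int.ofNat 0, Int.ofNat 0, Int.ofNat 2, Int.ofNat 2, Int.negSucc 1, Int.ofNat 0, Int.ofNat 0],
  [Int.ofNat 0, Int.ofNat 0, Int.ofNat 0, Int.ofNat 0, Int.ofNat 0, Int.ofNat 0, Int.negSucc 1, Int.negSucc 1, Int.ofNat 0, Int.negSucc 1, Int.negSucc 1, Int.ofNat 0, Int.ofNat 0, Int.ofNat 0, Int.ofNat 0, Int.negSucc 1, Int.ofNat 0, Int.ofNat 0, Int.ofNat 0, Int.ofNat 2, Int.ofNat 2, Int.negSucc 1, Int.ofNat 0, Int.ofNat 0],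
  [Int.negSucc 1, Int.negSucc 1, Int.ofNat 0, Int.ofNat 0, Int.ofNat 0, Int.ofNat 0, Int.ofNat 0, Int.ofNat 0, Int.ofNat 0, Int.ofNat 2, Int.ofNat 0, Int.ofNat 2, Int.ofNat 0, Int.ofNat 0, Int.negSucc 1, Int.ofNat 0, Int.ofNat 0, Int.negSucc 1, Int.negSucc 1, Int.ofNat 0, Int.negSucc 1, Int.ofNat 0, Int.ofNat 0, Int.ofNat 0],
  [Int.negSucc 1, Int.negSucc 1, Int.ofNat 0, Int.ofNat 0, Int.ofNat 0, Int.ofNat 0, Int.ofNat 0, Int.ofNat 0, Int.ofNat 0, Int.negSucc 1, Int.ofNat 0, Int.ofNat 2, Int.ofNat 0, Int.ofNat 0, Int.negSucc 1, Int.ofNat 0, Int.ofNat 0, Int.negSucc 1, Int.ofNat 2, Int.ofNat 0, Int.negSucc 1, Int.ofNat 0, Int.ofNat 0, Int.ofNat 0],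
  [Int.ofNat 0, Int.ofNat 0, Int.negSucc 1, Int.ofNat 2, Int.ofNat 0, Int.ofNat 2, Int.ofNat 0, Int.ofNat 0, Int.negSucc 1, Int.ofNat 0, Int.ofNat 2, Int.ofNat 0, Int.negSucc 1, Int.ofNat 0, Int.ofNat 0, Int.ofNat 2, Int.ofNat 0, Int.ofNat 0, Int.ofNat 0, Int.ofNat 0, Int.ofNat 0, Int.ofNat 0, Int.ofNat 0, Int.negSucc 1],
  [Int.ofNat 0, Int.ofNat 0, Int.ofNat 0, Int.ofNat 2, Int.negSucc 1, Int.ofNat 0, Int.ofNat 0, Int.ofNat 2, Int.ofNat 0, Int.negSucc 1, Int.ofNat 0, Int.ofNat 0, Int.negSucc 1, Int.ofNat 0, Int.ofNat 0, Int.ofNat 2, Int.ofNat 0, Int.ofNat 0, Int.ofNat 0, Int.ofNat 0, Int.ofNat 2, Int.ofNat 0, Int.ofNat 0, Int.negSucc 1],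
  [Int.negSucc 0, Int.negSucc 0, Int.negSucc 0, Int.ofNat 1, Int.negSucc 0, Int.negSucc 0, Int.negSucc 0, Int.ofNat 1, Int.ofNat 1, Int.negSucc 2, Int.negSucc 0, Int.ofNat 1, Int.negSucc 0, Int.ofNat 1, Int.negSucc 0, Int.ofNat 1, Int.ofNat 1, Int.negSucc 0, Int.ofNat 1, Int.negSucc 0, Int.ofNat 1, Int.negSucc 0, Int.ofNat 1, Int.ofNat 1],
  [Int.ofNat 1, Int.negSucc 0, Int.ofNat 1, Int.negSucc 0, Int.negSucc 0, Int.negSucc 0, Int.ofNat 1, Int.negSucc 0, Int.negSucc 0, Int.negSucc 0, Int.ofNat 1, Int.ofNat 1, Int.negSucc 2, Int.negSucc 0, Int.ofNat 1, Int.negSucc 0, Int.ofNat 1, Int.negSucc 0, Int.ofNat 1, Int.ofNat 1, Int.negSucc 0, Int.ofNat 1, Int.negSucc 0, Int.ofNat 1],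
  [Int.ofNat 0, Int.ofNat 2, Int.ofNat 0, Int.ofNat 0, Int.ofNat 0, Int.ofNat 0, Int.ofNat 0, Int.negSucc 1, Int.ofNat 0, Int.ofNat 0, Int.ofNat 2, Int.ofNat 2, Int.negSucc 1, Int.ofNat 0, Int.ofNat 2, Int.ofNat 0, Int.ofNat 2, Int.ofNat 0, Int.ofNat 2, Int.ofNat 0, Int.ofNat 0, Int.ofNat 0, Int.ofNat 0, Int.ofNat 0],
  [Int.ofNat 2, Int.ofNat 0, Int.ofNat 0, Int.ofNat 0, Int.ofNat 0, Int.ofNat 0, Int.negSucc 1, Int.ofNat 0, Int.ofNat 0, Int.ofNat 2, Int.ofNat 2, Int.negSucc 1, Int.ofNat 0, Int.ofNat 2, Int.ofNat 0, Int.ofNat 2, Int.ofNat 0, Int.ofNat 2, Int.ofNat 0, Int.ofNat 0, Int.ofNat 0, Int.ofNat 0, Int.ofNat 0, Int.ofNat 0],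
  [Int.negSucc 1, Int.ofNat 0, Int.ofNat 0, Int.ofNat 0, Int.ofNat 0, Int.ofNat 0, Int.negSucc 1, Int.ofNat 0, Int.ofNat 0, Int.negSucc 1, Int.negSucc 1, Int.ofNat 2, Int.ofNat 0, Int.ofNat 2, Int.ofNat 0, Int.ofNat 2, Int.ofNat 0, Int.ofNat 2, Int.ofNat 0, Int.ofNat 0, Int.ofNat 0, Int.ofNat 0, Int.ofNat 0, Int.ofNat 0],
  [Int.negSucc 1, Int.ofNat 0, Int.ofNat 0, Int.ofNat 0, Int.ofNat 0, Int.negSucc 1, Int.ofNat 0, Int.ofNat 0, Int.negSucc 1, Int.ofNat 0, Int.ofNat 0, Int.ofNat 0, Int.ofNat 2, Int.ofNat 0, Int.ofNat 0, Int.ofNat 2, Int.ofNat 0, Int.ofNat 0, Int.negSucc 1, Int.ofNat 2, Int.ofNat 0, Int.ofNat 0, Int.ofNat 2, Int.ofNat 0],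
  [Int.ofNat 2, Int.ofNat 0, Int.ofNat 0, Int.ofNat 0, Int.ofNat 0, Int.negSucc 1, Int.ofNat 0, Int.ofNat 0, Int.negSucc 1, Int.ofNat 0, Int.ofNat 0, Int.ofNat 0, Int.ofNat 2, Int.ofNat 0, Int.ofNat 0, Int.ofNat 2, Int.ofNat 0, Int.ofNat 0, Int.ofNat 2, Int.ofNat 2, Int.ofNat 0, Int.ofNat 0, Int.ofNat 2, Int.ofNat 0],
  [Int.ofNat 2, Int.ofNat 2, Int.ofNat 0, Int.ofNat 0, Int.ofNat 0, Int.ofNat 0, Int.negSucc 1, Int.ofNat 0, Int.ofNat 0, Int.negSucc 1, Int.ofNat 0, Int.ofNat 0, Int.ofNat 0, Int.ofNat 2, Int.ofNat 0, Int.ofNat 0, Int.ofNat 2, Int.ofNat 0, Int.ofNat 0, Int.ofNat 2, Int.ofNat 2, Int.ofNat 0, Int.ofNat 0, Int.ofNat 0],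
  [Int.ofNat 0, Int.ofNat 0, Int.ofNat 2, Int.ofNat 0, Int.negSucc 1, Int.ofNat 0, Int.negSucc 1, Int.ofNat 0, Int.ofNat 0, Int.negSucc 1, Int.ofNat 0, Int.ofNat 0, Int.ofNat 0, Int.ofNat 0, Int.ofNat 0, Int.ofNat 0, Int.ofNat 0, Int.ofNat 0, Int.ofNat 0, Int.ofNat 2, Int.ofNat 2, Int.ofNat 0, Int.negSucc 1, Int.ofNat 2],
  [Int.ofNat 0, Int.negSucc 1, Int.ofNat 0, Int.negSucc 1, Int.ofNat 0, Int.ofNat 0, Int.negSucc 1, Int.ofNat 0, Int.ofNat 0, Int.ofNat 0, Int.ofNat 0, Int.ofNat 0, Int.ofNat 0, Int.ofNat 0, Int.ofNat 0, Int.ofNat 0, Int.ofNat 2, Int.ofNat 2, Int.ofNat 0, Int.negSucc 1, Int.ofNat 0, Int.ofNat 0, Int.ofNat 2, Int.ofNat 2],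
  [Int.ofNat 0, Int.ofNat 2, Int.ofNat 0, Int.negSucc 1, Int.negSucc 1, Int.ofNat 0, Int.ofNat 0, Int.ofNat 2, Int.ofNat 0, Int.ofNat 0, Int.ofNat 0, Int.ofNat 0, Int.ofNat 0, Int.negSucc 1, Int.ofNat 0, Int.ofNat 0, Int.ofNat 0, Int.ofNat 2, Int.ofNat 0, Int.ofNat 0, Int.ofNat 0, Int.ofNat 2, Int.ofNat 0, Int.negSucc 1],
  [Int.ofNat 0, Int.ofNat 0, Int.negSucc 1, Int.negSucc 1, Int.ofNat 0, Int.ofNat 2, Int.ofNat 0, Int.ofNat 0, Int.ofNat 0, Int.negSucc 1, Int.ofNat 0, Int.ofNat 2, Int.ofNat 0, Int.ofNat 0, Int.ofNat 0, Int.ofNat 0, Int.ofNat 0, Int.ofNat 0, Int.ofNat 2, Int.ofNat 0, Int.ofNat 2, Int.ofNat 0, Int.ofNat 0, Int.negSucc 1],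
  [Int.negSucc 1, Int.negSucc 1, Int.ofNat 0, Int.negSucc 1, Int.ofNat 0, Int.ofNat 2, Int.ofNat 0, Int.ofNat 0, Int.negSucc 1, Int.negSucc 1, Int.ofNat 0, Int.ofNat 0, Int.negSucc 1, Int.ofNat 0, Int.ofNat 0, Int.ofNat 0, Int.ofNat 0, Int.ofNat 0, Int.ofNat 0, Int.ofNat 0, Int.ofNat 2, Int.ofNat 0, Int.ofNat 0, Int.ofNat 0],
  [Int.negSucc 1, Int.negSucc 1, Int.ofNat 0, Int.negSucc 1, Int.ofNat 0, Int.negSucc 1, Int.ofNat 0, Int.ofNat 0, Int.negSucc 1, Int.ofNat 2, Int.ofNat 0, Int.ofNat 0, Int.negSucc 1, Int.ofNat 0, Int.ofNat 0, Int.ofNat 0, Int.ofNat 0, Int.ofNat 0, Int.ofNat 0, Int.ofNat 0, Int.ofNat 2, Int.ofNat 0, Int.ofNat 0, Int.ofNat 0],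
  [Int.ofNat 0, Int.ofNat 0, Int.ofNat 0, Int.negSucc 1, Int.ofNat 0, Int.ofNat 0, Int.ofNat 0, Int.negSucc 1, Int.negSucc 1, Int.ofNat 2, Int.ofNat 0, Int.ofNat 0, Int.ofNat 0, Int.ofNat 0, Int.ofNat 0, Int.ofNat 0, Int.ofNat 0, Int.negSucc 1, Int.ofNat 2, Int.ofNat 0, Int.negSucc 1, Int.negSucc 1, Int.ofNat 0, Int.ofNat 0],
  [Int.ofNat 0, Int.ofNat 0, Int.ofNat 0, Int.ofNat 2, Int.ofNat 0, Int.ofNat 0, Int.ofNat 0, Int.negSucc 1, Int.ofNat 2, Int.negSucc 1, Int.ofNat 0, Int.ofNat 0, Int.ofNat 0, Int.ofNat 0, Int.ofNat 0, Int.ofNat 0, Int.ofNat 0, Int.negSucc 1, Int.negSucc 1, Int.ofNat 0, Int.negSucc 1, Int.negSucc 1, Int.ofNat 0, Int.ofNat 0],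
  [Int.ofNat 0, Int.ofNat 0, Int.ofNat 0, Int.ofNat 0, Int.negSucc 1, Int.negSucc 1, Int.ofNat 0, Int.ofNat 0, Int.negSucc 1, Int.ofNat 0, Int.ofNat 0, Int.ofNat 0, Int.negSucc 1, Int.negSucc 1, Int.negSucc 1, Int.ofNat 2, Int.ofNat 0, Int.ofNat 0, Int.ofNat 0, Int.ofNat 0, Int.ofNat 2, Int.ofNat 0, Int.ofNat 0, Int.ofNat 0],
  [Int.ofNat 0, Int.ofNat 0, Int.ofNat 0, Int.ofNat 0, Int.negSucc 1, Int.negSucc 1, Int.ofNat 0, Int.ofNat 0, Int.negSucc 1, Int.ofNat 0, Int.ofNat 0, Int.ofNat 0, Int.negSucc 1, Int.negSucc 1, Int.negSucc 1, Int.ofNat 2, Int.ofNat 0, Int.ofNat 0, Int.ofNat 0, Int.ofNat 0, Int.ofNat 2, Int.ofNat 0, Int.ofNat 0, Int.ofNat 0],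
  [Int.ofNat 0, Int.ofNat 0, Int.ofNat 0, Int.ofNat 0, Int.ofNat 0, Int.negSucc 1, Int.negSucc 1, Int.ofNat 0, Int.ofNat 0, Int.negSucc 1, Int.ofNat 0, Int.ofNat 0, Int.ofNat 0, Int.negSucc 1, Int.negSucc 1, Int.negSucc 1, Int.ofNat 2, Int.ofNat 0, Int.ofNat 0, Int.ofNat 0, Int.ofNat 0, Int.ofNat 2, Int.ofNat 0, Int.ofNat 0],
  [Int.ofNat 0, Int.ofNat 0, Int.ofNat 0, Int.ofNat 2, Int.ofNat 0, Int.ofNat 0, Int.negSucc 1, Int.ofNat 0, Int.ofNat 0, Int.ofNat 0, Int.ofNat 2, Int.ofNat 0, Int.ofNat 0, Int.negSucc 1, Int.ofNat 0, Int.ofNat 0, Int.ofNat 2, Int.ofNat 2, Int.ofNat 0, Int.ofNat 0, Int.ofNat 2, Int.ofNat 2, Int.ofNat 0, Int.ofNat 0],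
  [Int.ofNat 2, Int.ofNat 0, Int.ofNat 0, Int.negSucc 1, Int.ofNat 0, Int.ofNat 0, Int.ofNat 0, Int.ofNat 2, Int.ofNat 0, Int.ofNat 0, Int.negSucc 1, Int.ofNat 0, Int.ofNat 0, Int.ofNat 2, Int.ofNat 2, Int.ofNat 0, Int.ofNat 0, Int.ofNat 2, Int.ofNat 2, Int.ofNat 0, Int.ofNat 0, Int.ofNat 0, Int.ofNat 0, Int.ofNat 0],
  [Int.negSucc 0, Int.ofNat 1, Int.ofNat 1, Int.negSucc 2, Int.negSucc 0, Int.negSucc 0, Int.negSucc 0, Int.ofNat 1, Int.negSucc 0, Int.ofNat 1, Int.negSucc 0, Int.negSucc 0, Int.negSucc 0, Int.ofNat 1, Int.ofNat 1, Int.ofNat 1, Int.negSucc 0, Int.ofNat 1, Int.ofNat 1, Int.negSucc 0, Int.ofNat 1, Int.negSucc 0, Int.negSucc 0, Int.ofNat 1],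
  [Int.negSucc 0, Int.negSucc 0, Int.negSucc 0, Int.negSucc 2, Int.ofNat 1, Int.ofNat 1, Int.ofNat 1, Int.negSucc 0, Int.negSucc 0, Int.ofNat 1, Int.ofNat 1, Int.ofNat 1, Int.ofNat 1, Int.negSucc 0, Int.negSucc 0, Int.ofNat 1, Int.negSucc 0, Int.ofNat 1, Int.ofNat 1, Int.negSucc 0, Int.negSucc 0, Int.negSucc 0, Int.negSucc 0, Int.ofNat 1],
  [Int.ofNat 0, Int.ofNat 0, Int.ofNat 0, Int.negSucc 1, Int.ofNat 2, Int.ofNat 2, Int.ofNat 2, Int.ofNat 0, Int.negSucc 1, Int.ofNat 0, Int.ofNat 0, Int.ofNat 0, Int.ofNat 0, Int.ofNat 0, Int.ofNat 0, Int.ofNat 0, Int.ofNat 0, Int.ofNat 2, Int.ofNat 0, Int.ofNat 0, Int.negSucc 1, Int.ofNat 0, Int.ofNat 0, Int.negSucc 1],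
  [Int.ofNat 0, Int.ofNat 0, Int.ofNat 0, Int.negSucc 1, Int.ofNat 2, Int.negSucc 1, Int.negSucc 1, Int.ofNat 0, Int.negSucc 1, Int.ofNat 0, Int.ofNat 0, Int.ofNat 0, Int.ofNat 0, Int.ofNat 0, Int.ofNat 0, Int.ofNat 0, Int.ofNat 0, Int.ofNat 2, Int.ofNat 0, Int.ofNat 0, Int.negSucc 1, Int.ofNat 0, Int.ofNat 0, Int.negSucc 1],
  [Int.ofNat 0, Int.ofNat 0, Int.ofNat 0, Int.ofNat 0, Int.ofNat 0, Int.ofNat 0, Int.ofNat 0, Int.ofNat 0, Int.ofNat 0, Int.negSucc 1, Int.ofNat 2, Int.ofNat 0, Int.negSucc 1, Int.ofNat 0, Int.ofNat 0, Int.negSucc 1, Int.ofNat 0, Int.negSucc 1, Int.ofNat 0, Int.negSucc 1, Int.ofNat 0, Int.ofNat 0, Int.ofNat 2, Int.negSucc 1],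
  [Int.ofNat 0, Int.ofNat 0, Int.ofNat 0, Int.ofNat 0, Int.ofNat 0, Int.ofNat 0, Int.ofNat 0, Int.ofNat 0, Int.ofNat 0, Int.ofNat 2, Int.negSucc 1, Int.ofNat 0, Int.negSucc 1, Int.ofNat 0, Int.ofNat 0, Int.ofNat 2, Int.ofNat 0, Int.negSucc 1, Int.ofNat 0, Int.negSucc 1, Int.ofNat 0, Int.ofNat 0, Int.negSucc 1, Int.negSucc 1],
  [Int.negSucc 0, Int.negSucc 0, Int.negSucc 0, Int.ofNat 1, Int.ofNat 1, Int.ofNat 1, Int.ofNat 1, Int.ofNat 1, Int.ofNat 1, Int.ofNat 1, Int.negSucc 2, Int.ofNat 1, Int.negSucc 0, Int.ofNat 1, Int.ofNat 1, Int.ofNat 1, Int.ofNat 1, Int.negSucc 0, Int.ofNat 1, Int.negSucc 0, Int.negSucc 0, Int.ofNat 1, Int.negSucc 0, Int.ofNat 1],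
  [Int.negSucc 0, Int.ofNat 1, Int.ofNat 1, Int.ofNat 1, Int.negSucc 0, Int.ofNat 1, Int.negSucc 0, Int.ofNat 1, Int.ofNat 1, Int.negSucc 0, Int.ofNat 1, Int.negSucc 0, Int.ofNat 1, Int.ofNat 1, Int.negSucc 0, Int.ofNat 1, Int.ofNat 1, Int.ofNat 1, Int.ofNat 1, Int.negSucc 0, Int.negSucc 2, Int.negSucc 0, Int.ofNat 1, Int.ofNat 1],
  [Int.ofNat 2, Int.ofNat 0, Int.ofNat 0, Int.ofNat 0, Int.negSucc 1, Int.ofNat 0, Int.ofNat 0, Int.ofNat 2, Int.ofNat 0, Int.ofNat 0, Int.ofNat 2, Int.negSucc 1, Int.ofNat 0, Int.ofNat 0, Int.negSucc 1, Int.ofNat 2, Int.ofNat 0, Int.ofNat 0, Int.ofNat 0, Int.ofNat 0, Int.negSucc 1, Int.ofNat 0, Int.ofNat 0, Int.ofNat 0],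
  [Int.negSucc 1, Int.ofNat 0, Int.ofNat 0, Int.ofNat 2, Int.ofNat 0, Int.ofNat 0, Int.ofNat 0, Int.negSucc 1, Int.ofNat 0, Int.ofNat 0, Int.ofNat 2, Int.ofNat 0, Int.ofNat 0, Int.ofNat 2, Int.negSucc 1, Int.ofNat 0, Int.ofNat 0, Int.negSucc 1, Int.ofNat 2, Int.ofNat 0, Int.ofNat 0, Int.ofNat 0, Int.ofNat 0, Int.ofNat 0],
  [Int.ofNat 1, Int.negSucc 0, Int.negSucc 0, Int.ofNat 3, Int.negSucc 0, Int.ofNat 1, Int.ofNat 1, Int.negSucc 0, Int.negSucc 0, Int.negSucc 0, Int.ofNat 1, Int.negSucc 0, Int.negSucc 0, Int.ofNat 1, Int.negSucc 0, Int.negSucc 0, Int.negSucc 0, Int.negSucc 0, Int.ofNat 1, Int.ofNat 1, Int.negSucc 0, Int.ofNat 1, Int.negSucc 0, Int.negSucc 0],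
  [Int.negSucc 0, Int.negSucc 0, Int.ofNat 3, Int.negSucc 0, Int.ofNat 1, Int.ofNat 1, Int.negSucc 0, Int.negSucc 0, Int.negSucc 0, Int.ofNat 1, Int.negSucc 0, Int.negSucc 0, Int.ofNat 1, Int.negSucc 0, Int.negSucc 0, Int.negSucc 0, Int.negSucc 0, Int.ofNat 1, Int.ofNat 1, Int.negSucc 0, Int.ofNat 1, Int.negSucc 0, Int.ofNat 1, Int.negSucc 0],
  [Int.ofNat 1, Int.negSucc 0, Int.negSucc 2, Int.negSucc 0, Int.ofNat 1, Int.ofNat 1, Int.negSucc 0, Int.ofNat 1, Int.negSucc 0, Int.negSucc 0, Int.ofNat 1, Int.ofNat 1, Int.ofNat 1, Int.negSucc 0, Int.negSucc 0, Int.negSucc 0, Int.negSucc 0, Int.ofNat 1, Int.negSucc 0, Int.negSucc 0, Int.ofNat 1, Int.ofNat 1, Int.ofNat 1, Int.negSucc 0],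
  [Int.ofNat 1, Int.negSucc 2, Int.negSucc 0, Int.negSucc 0, Int.negSucc 0, Int.ofNat 1, Int.ofNat 1, Int.ofNat 1, Int.negSucc 0, Int.negSucc 0, Int.ofNat 1, Int.negSucc 0, Int.negSucc 0, Int.negSucc 0, Int.negSucc 0, Int.negSucc 0, Int.ofNat 1, Int.ofNat 1, Int.negSucc 0, Int.ofNat 1, Int.ofNat 1, Int.ofNat 1, Int.ofNat 1, Int.negSucc 0],
  [Int.negSucc 0, Int.negSucc 2, Int.ofNat 1, Int.negSucc 0, Int.negSucc 0, Int.ofNat 1, Int.ofNat 1, Int.negSucc 0, Int.negSucc 0, Int.ofNat 1, Int.negSucc 0, Int.ofNat 1, Int.negSucc 0, Int.negSucc 0, Int.negSucc 0, Int.negSucc 0, Int.ofNat 1, Int.ofNat 1, Int.ofNat 1, Int.ofNat 1, Int.ofNat 1, Int.negSucc 0, Int.ofNat 1, Int.negSucc 0],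
  [Int.ofNat 1, Int.negSucc 0, Int.negSucc 2, Int.ofNat 1, Int.negSucc 0, Int.negSucc 0, Int.ofNat 1, Int.ofNat 1, Int.negSucc 0, Int.negSucc 0, Int.ofNat 1, Int.negSucc 0, Int.ofNat 1, Int.negSucc 0, Int.negSucc 0, Int.negSucc 0, Int.negSucc 0, Int.ofNat 1, Int.ofNat 1, Int.ofNat 1, Int.ofNat 1, Int.ofNat 1, Int.negSucc 0, Int.negSucc 0],
  [Int.negSucc 2, Int.negSucc 0, Int.ofNat 1, Int.ofNat 1, Int.ofNat 1, Int.negSucc 0, Int.negSucc 0, Int.negSucc 0, Int.negSucc 0, Int.negSucc 0, Int.ofNat 1, Int.negSucc 0, Int.ofNat 1, Int.ofNat 1, Int.negSucc 0, Int.negSucc 0, Int.ofNat 1, Int.ofNat 1, Int.ofNat 1, Int.negSucc 0, Int.ofNat 1, Int.negSucc 0, Int.ofNat 1, Int.negSucc 0],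
  [Int.ofNat 1, Int.ofNat 1, Int.negSucc 0, Int.negSucc 0, Int.negSucc 0, Int.negSucc 0, Int.negSucc 0, Int.ofNat 1, Int.negSucc 0, Int.ofNat 1, Int.ofNat 1, Int.negSucc 0, Int.negSucc 0, Int.ofNat 1, Int.ofNat 1, Int.ofNat 1, Int.negSucc 0, Int.ofNat 1, Int.negSucc 0, Int.ofNat 1, Int.negSucc 2, Int.negSucc 0, Int.ofNat 1, Int.negSucc 0],
  [Int.negSucc 0, Int.negSucc 0, Int.ofNat 1, Int.negSucc 0, Int.negSucc 0, Int.negSucc 0, Int.negSucc 0, Int.ofNat 1, Int.ofNat 1, Int.ofNat 1, Int.ofNat 1, Int.ofNat 1, Int.ofNat 1, Int.ofNat 1, Int.ofNat 1, Int.ofNat 1, Int.negSucc 0, Int.ofNat 1, Int.ofNat 1, Int.ofNat 1, Int.negSucc 2, Int.negSucc 0, Int.ofNat 1, Int.ofNat 1],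
  [Int.negSucc 0, Int.negSucc 0, Int.negSucc 0, Int.negSucc 0, Int.ofNat 1, Int.ofNat 1, Int.ofNat 1, Int.ofNat 1, Int.ofNat 1, Int.ofNat 1, Int.negSucc 2, Int.ofNat 1, Int.ofNat 1, Int.negSucc 0, Int.ofNat 1, Int.ofNat 1, Int.ofNat 1, Int.ofNat 1, Int.negSucc 0, Int.ofNat 1, Int.negSucc 0, Int.negSucc 0, Int.ofNat 1, Int.ofNat 1],
  [Int.ofNat 0, Int.ofNat 0, Int.ofNat 0, Int.negSucc 1, Int.ofNat 0, Int.ofNat 0, Int.ofNat 0, Int.ofNat 0, Int.ofNat 0, Int.ofNat 2, Int.negSucc 1, Int.ofNat 0, Int.ofNat 0, Int.negSucc 1, Int.ofNat 0, Int.ofNat 2, Int.ofNat 0, Int.ofNat 0, Int.negSucc 1, Int.ofNat 0, Int.ofNat 0, Int.negSucc 1, Int.ofNat 0, Int.negSucc 1],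
  [Int.ofNat 0, Int.ofNat 0, Int.ofNat 0, Int.negSucc 1, Int.ofNat 0, Int.ofNat 0, Int.ofNat 0, Int.ofNat 0, Int.ofNat 0, Int.negSucc 1, Int.ofNat 2, Int.ofNat 0, Int.ofNat 0, Int.negSucc 1, Int.ofNat 0, Int.negSucc 1, Int.ofNat 0, Int.ofNat 0, Int.ofNat 2, Int.ofNat 0, Int.ofNat 0, Int.negSucc 1, Int.ofNat 0, Int.negSucc 1],
  [Int.ofNat 2, Int.ofNat 0, Int.ofNat 0, Int.ofNat 0, Int.ofNat 0, Int.ofNat 0, Int.negSucc 1, Int.negSucc 1, Int.ofNat 0, Int.ofNat 0, Int.negSucc 1, Int.ofNat 0, Int.negSucc 1, Int.ofNat 0, Int.ofNat 0, Int.ofNat 2, Int.ofNat 0, Int.ofNat 0, Int.negSucc 1, Int.ofNat 0, Int.ofNat 0, Int.ofNat 0, Int.ofNat 0, Int.negSucc 1],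
  [Int.negSucc 1, Int.ofNat 0, Int.ofNat 0, Int.ofNat 0, Int.ofNat 0, Int.ofNat 0, Int.ofNat 2, Int.negSucc 1, Int.ofNat 0, Int.ofNat 0, Int.negSucc 1, Int.ofNat 0, Int.ofNat 2, Int.ofNat 0, Int.ofNat 0, Int.ofNat 2, Int.ofNat 0, Int.ofNat 0, Int.ofNat 2, Int.ofNat 0, Int.ofNat 0, Int.ofNat 0, Int.ofNat 0, Int.negSucc 1],
  [Int.negSucc 1, Int.ofNat 0, Int.ofNat 0, Int.ofNat 2, Int.ofNat 0, Int.ofNat 0, Int.ofNat 0, Int.ofNat 0, Int.ofNat 0, Int.ofNat 0, Int.ofNat 0, Int.ofNat 0, Int.ofNat 0, Int.negSucc 1, Int.ofNat 2, Int.ofNat 0, Int.negSucc 1, Int.ofNat 0, Int.ofNat 0, Int.ofNat 2, Int.ofNat 0, Int.ofNat 2, Int.ofNat 0, Int.negSucc 1],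
  [Int.ofNat 2, Int.ofNat 0, Int.ofNat 0, Int.ofNat 2, Int.ofNat 0, Int.ofNat 0, Int.ofNat 0, Int.ofNat 0, Int.ofNat 0, Int.ofNat 0, Int.ofNat 0, Int.ofNat 0, Int.ofNat 0, Int.negSucc 1, Int.ofNat 2, Int.ofNat 0, Int.negSucc 1, Int.ofNat 0, Int.ofNat 0, Int.ofNat 2, Int.ofNat 0, Int.negSucc 1, Int.ofNat 0, Int.negSucc 1],
  [Int.ofNat 0, Int.ofNat 2, Int.ofNat 0, Int.ofNat 0, Int.ofNat 2, Int.ofNat 0, Int.ofNat 0, Int.ofNat 0, Int.ofNat 0, Int.ofNat 0, Int.ofNat 0, Int.ofNat 0, Int.ofNat 0, Int.ofNat 0, Int.negSucc 1, Int.ofNat 2, Int.ofNat 0, Int.negSucc 1, Int.ofNat 0, Int.ofNat 0, Int.ofNat 2, Int.ofNat 0, Int.negSucc 1, Int.negSucc 1],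
  [Int.ofNat 0, Int.negSucc 1, Int.ofNat 0, Int.ofNat 2, Int.ofNat 2, Int.ofNat 2, Int.ofNat 0, Int.ofNat 0, Int.ofNat 0, Int.negSucc 1, Int.negSucc 1, Int.ofNat 0, Int.ofNat 0, Int.ofNat 0, Int.ofNat 0, Int.ofNat 0, Int.ofNat 0, Int.ofNat 0, Int.ofNat 0, Int.ofNat 0, Int.ofNat 0, Int.ofNat 0, Int.negSucc 1, Int.ofNat 2],
  [Int.ofNat 2, Int.ofNat 2, Int.ofNat 2, Int.ofNat 0, Int.ofNat 0, Int.ofNat 0, Int.negSucc 1, Int.negSucc 1, Int.ofNat 0, Int.ofNat 0, Int.ofNat 0, Int.ofNat 0, Int.ofNat 0, Int.ofNat 0, Int.ofNat 0, Int.ofNat 0, Int.ofNat 0, Int.ofNat 0, Int.ofNat 0, Int.negSucc 1, Int.ofNat 0, Int.negSucc 1, Int.ofNat 0, Int.ofNat 2],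
  [Int.ofNat 2, Int.ofNat 2, Int.ofNat 2, Int.ofNat 0, Int.ofNat 0, Int.ofNat 0, Int.ofNat 2, Int.ofNat 2, Int.ofNat 0, Int.ofNat 0, Int.ofNat 0, Int.ofNat 0, Int.ofNat 0, Int.ofNat 0, Int.ofNat 0, Int.ofNat 0, Int.ofNat 0, Int.ofNat 0, Int.ofNat 0, Int.ofNat 2, Int.ofNat 0, Int.ofNat 2, Int.ofNat 0, Int.ofNat 2],
  [Int.ofNat 2, Int.ofNat 2, Int.ofNat 0, Int.ofNat 0, Int.ofNat 0, Int.ofNat 2, Int.ofNat 2, Int.ofNat 0, Int.ofNat 0, Int.ofNat 0, Int.ofNat 0, Int.ofNat 0, Int.ofNat 0, Int.ofNat 0, Int.ofNat 0, Int.ofNat 0, Int.ofNat 0, Int.ofNat 0, Int.ofNat 2, Int.ofNat 0, Int.ofNat 2, Int.ofNat 0, Int.ofNat 2, Int.ofNat 2],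
  [Int.ofNat 1, Int.ofNat 1, Int.ofNat 3, Int.negSucc 0, Int.negSucc 0, Int.ofNat 1, Int.ofNat 1, Int.negSucc 0, Int.negSucc 0, Int.negSucc 0, Int.negSucc 0, Int.negSucc 0, Int.negSucc 0, Int.negSucc 0, Int.negSucc 0, Int.negSucc 0, Int.negSucc 0, Int.negSucc 0, Int.ofNat 1, Int.negSucc 0, Int.ofNat 1, Int.negSucc 0, Int.ofNat 1, Int.ofNat 1],
  [Int.ofNat 1, Int.ofNat 1, Int.negSucc 2, Int.negSucc 0, Int.negSucc 0, Int.negSucc 0, Int.negSucc 0, Int.negSucc 0, Int.negSucc 0, Int.ofNat 1, Int.ofNat 1, Int.negSucc 0, Int.negSucc 0, Int.negSucc 0, Int.negSucc 0, Int.ofNat 1, Int.negSucc 0, Int.negSucc 0, Int.negSucc 0, Int.negSucc 0, Int.ofNat 1, Int.negSucc 0, Int.negSucc 0, Int.ofNat 1],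
  [Int.negSucc 0, Int.ofNat 1, Int.negSucc 0, Int.ofNat 1, Int.negSucc 0, Int.negSucc 0, Int.negSucc 2, Int.negSucc 0, Int.negSucc 0, Int.ofNat 1, Int.negSucc 0, Int.negSucc 0, Int.negSucc 0, Int.negSucc 0, Int.ofNat 1, Int.negSucc 0, Int.negSucc 0, Int.negSucc 0, Int.negSucc 0, Int.negSucc 0, Int.ofNat 1, Int.ofNat 1, Int.negSucc 0, Int.ofNat 1],
  [Int.negSucc 0, Int.ofNat 1, Int.ofNat 1, Int.ofNat 1, Int.negSucc 0, Int.ofNat 1, Int.ofNat 3, Int.negSucc 0, Int.negSucc 0, Int.negSucc 0, Int.ofNat 1, Int.negSucc 0, Int.negSucc 0, Int.negSucc 0, Int.ofNat 1, Int.ofNat 1, Int.negSucc 0, Int.negSucc 0, Int.ofNat 1, Int.negSucc 0, Int.ofNat 1, Int.ofNat 1, Int.ofNat 1, Int.ofNat 1],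
  [Int.ofNat 2, Int.ofNat 0, Int.ofNat 0, Int.ofNat 0, Int.ofNat 0, Int.ofNat 0, Int.ofNat 2, Int.negSucc 1, Int.ofNat 0, Int.negSucc 1, Int.ofNat 0, Int.ofNat 0, Int.ofNat 0, Int.ofNat 0, Int.ofNat 0, Int.ofNat 0, Int.ofNat 0, Int.negSucc 1, Int.ofNat 2, Int.negSucc 1, Int.ofNat 0, Int.ofNat 0, Int.ofNat 2, Int.ofNat 0],
  [Int.ofNat 2, Int.ofNat 2, Int.ofNat 2, Int.ofNat 0, Int.ofNat 0, Int.ofNat 0, Int.ofNat 0, Int.ofNat 0, Int.ofNat 0, Int.ofNat 0, Int.negSucc 1, Int.negSucc 1, Int.ofNat 0, Int.negSucc 1, Int.negSucc 1, Int.ofNat 0, Int.ofNat 0, Int.ofNat 0, Int.ofNat 0, Int.ofNat 2, Int.ofNat 0, Int.ofNat 0, Int.ofNat 0, Int.ofNat 0],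
  [Int.ofNat 1, Int.ofNat 1, Int.ofNat 1, Int.ofNat 1, Int.ofNat 1, Int.ofNat 1, Int.negSucc 0, Int.negSucc 0, Int.ofNat 1, Int.ofNat 1, Int.negSucc 0, Int.negSucc 0, Int.ofNat 1, Int.negSucc 0, Int.negSucc 0, Int.ofNat 1, Int.ofNat 1, Int.ofNat 1, Int.ofNat 1, Int.ofNat 1, Int.ofNat 1, Int.negSucc 0, Int.ofNat 1, Int.ofNat 3],
  [Int.ofNat 1, Int.negSucc 0, Int.ofNat 1, Int.ofNat 1, Int.ofNat 1, Int.ofNat 1, Int.ofNat 1, Int.ofNat 1, Int.ofNat 1, Int.negSucc 0, Int.negSucc 0, Int.ofNat 1, Int.ofNat 1, Int.negSucc 0, Int.negSucc 0, Int.ofNat 1, Int.negSucc 0, Int.negSucc 0, Int.ofNat 1, Int.ofNat 1, Int.ofNat 1, Int.ofNat 1, Int.ofNat 1, Int.ofNat 3],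
  [Int.ofNat 1, Int.ofNat 3, Int.ofNat 1, Int.ofNat 1, Int.ofNat 1, Int.ofNat 1, Int.negSucc 0, Int.negSucc 0, Int.negSucc 0, Int.negSucc 0, Int.negSucc 0, Int.negSucc 0, Int.negSucc 0, Int.negSucc 0, Int.negSucc 0, Int.ofNat 1, Int.negSucc 0, Int.negSucc 0, Int.negSucc 0, Int.negSucc 0, Int.ofNat 1, Int.negSucc 0, Int.ofNat 1, Int.negSucc 0],
  [Int.ofNat 3, Int.ofNat 1, Int.ofNat 1, Int.ofNat 1, Int.ofNat 1, Int.negSucc 0, Int.negSucc 0, Int.negSucc 0, Int.negSucc 0, Int.negSucc 0, Int.negSucc 0, Int.negSucc 0, Int.negSucc 0, Int.negSucc 0, Int.ofNat 1, Int.negSucc 0, Int.negSucc 0, Int.negSucc 0, Int.negSucc 0, Int.ofNat 1, Int.negSucc 0, Int.ofNat 1, Int.ofNat 1, Int.negSucc 0],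
  [Int.negSucc 2, Int.ofNat 1, Int.negSucc 0, Int.ofNat 1, Int.ofNat 1, Int.negSucc 0, Int.negSucc 0, Int.ofNat 1, Int.negSucc 0, Int.ofNat 1, Int.ofNat 1, Int.ofNat 1, Int.negSucc 0, Int.negSucc 0, Int.ofNat 1, Int.negSucc 0, Int.negSucc 0, Int.negSucc 0, Int.ofNat 1, Int.ofNat 1, Int.negSucc 0, Int.negSucc 0, Int.ofNat 1, Int.negSucc 0],
  [Int.negSucc 2, Int.negSucc 0, Int.ofNat 1, Int.ofNat 1, Int.ofNat 1, Int.ofNat 1, Int.ofNat 1, Int.negSucc 0, Int.ofNat 1, Int.negSucc 0, Int.negSucc 0, Int.ofNat 1, Int.negSucc 0, Int.negSucc 0, Int.ofNat 1, Int.negSucc 0, Int.negSucc 0, Int.ofNat 1, Int.negSucc 0, Int.negSucc 0, Int.negSucc 0, Int.ofNat 1, Int.ofNat 1, Int.negSucc 0],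
  [Int.ofNat 3, Int.negSucc 0, Int.negSucc 0, Int.ofNat 1, Int.ofNat 1, Int.ofNat 1, Int.ofNat 1, Int.ofNat 1, Int.ofNat 1, Int.ofNat 1, Int.ofNat 1, Int.negSucc 0, Int.negSucc 0, Int.negSucc 0, Int.ofNat 1, Int.negSucc 0, Int.negSucc 0, Int.ofNat 1, Int.ofNat 1, Int.negSucc 0, Int.negSucc 0, Int.negSucc 0, Int.ofNat 1, Int.negSucc 0],
  [Int.ofNat 1, Int.ofNat 3, Int.negSucc 0, Int.negSucc 0, Int.ofNat 1, Int.ofNat 1, Int.ofNat 1, Int.ofNat 1, Int.ofNat 1, Int.ofNat 1, Int.ofNat 1, Int.ofNat 1, Int.negSucc 0, Int.negSucc 0, Int.negSucc 0, Int.ofNat 1, Int.negSucc 0, Int.negSucc 0, Int.ofNat 1, Int.ofNat 1, Int.negSucc 0, Int.negSucc 0, Int.negSucc 0, Int.negSucc 0],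
  [Int.ofNat 0, Int.negSucc 1, Int.ofNat 2, Int.ofNat 0, Int.ofNat 2, Int.ofNat 2, Int.ofNat 0, Int.ofNat 0, Int.ofNat 0, Int.ofNat 0, Int.ofNat 0, Int.ofNat 0, Int.negSucc 1, Int.ofNat 0, Int.ofNat 0, Int.ofNat 0, Int.ofNat 0, Int.ofNat 0, Int.ofNat 0, Int.ofNat 0, Int.negSucc 1, Int.negSucc 1, Int.ofNat 0, Int.ofNat 2],
  [Int.ofNat 0, Int.ofNat 2, Int.ofNat 2, Int.ofNat 0, Int.ofNat 0, Int.ofNat 0, Int.ofNat 0, Int.ofNat 0, Int.ofNat 0, Int.negSucc 1, Int.ofNat 0, Int.ofNat 0, Int.ofNat 0, Int.ofNat 0, Int.ofNat 0, Int.ofNat 0, Int.ofNat 0, Int.negSucc 1, Int.negSucc 1, Int.ofNat 0, Int.ofNat 0, Int.negSucc 1, Int.ofNat 2, Int.ofNat 2],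
  [Int.ofNat 3, Int.ofNat 1, Int.ofNat 1, Int.ofNat 1, Int.negSucc 0, Int.ofNat 1, Int.ofNat 1, Int.ofNat 1, Int.ofNat 1, Int.negSucc 0, Int.ofNat 1, Int.ofNat 1, Int.ofNat 1, Int.negSucc 0, Int.ofNat 1, Int.ofNat 1, Int.negSucc 0, Int.negSucc 0, Int.negSucc 0, Int.ofNat 1, Int.ofNat 1, Int.negSucc 0, Int.ofNat 1, Int.ofNat 1],
  [Int.ofNat 3, Int.ofNat 1, Int.negSucc 0, Int.ofNat 1, Int.negSucc 0, Int.ofNat 1, Int.ofNat 1, Int.ofNat 1, Int.ofNat 1, Int.negSucc 0, Int.ofNat 1, Int.negSucc 0, Int.negSucc 0, Int.negSucc 0, Int.ofNat 1, Int.ofNat 1, Int.ofNat 1, Int.ofNat 1, Int.ofNat 1, Int.ofNat 1, Int.negSucc 0, Int.ofNat 1, Int.ofNat 1, Int.ofNat 1],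
  [Int.negSucc 0, Int.ofNat 1, Int.ofNat 3, Int.negSucc 0, Int.negSucc 0, Int.negSucc 0, Int.negSucc 0, Int.negSucc 0, Int.ofNat 1, Int.negSucc 0, Int.ofNat 1, Int.negSucc 0, Int.negSucc 0, Int.negSucc 0, Int.negSucc 0, Int.ofNat 1, Int.ofNat 1, Int.negSucc 0, Int.ofNat 1, Int.negSucc 0, Int.negSucc 0, Int.negSucc 0, Int.ofNat 1, Int.ofNat 1],
  [Int.negSucc 0, Int.ofNat 1, Int.negSucc 2, Int.negSucc 0, Int.negSucc 0, Int.ofNat 1, Int.ofNat 1, Int.negSucc 0, Int.ofNat 1, Int.ofNat 1, Int.negSucc 0, Int.negSucc 0, Int.negSucc 0, Int.negSucc 0, Int.negSucc 0, Int.negSucc 0, Int.ofNat 1, Int.negSucc 0, Int.negSucc 0, Int.negSucc 0, Int.negSucc 0, Int.negSucc 0, Int.negSucc 0, Int.ofNat 1],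
  [Int.negSucc 0, Int.ofNat 1, Int.negSucc 0, Int.ofNat 1, Int.negSucc 0, Int.ofNat 1, Int.negSucc 0, Int.negSucc 0, Int.ofNat 1, Int.negSucc 0, Int.negSucc 0, Int.negSucc 0, Int.negSucc 0, Int.negSucc 0, Int.negSucc 0, Int.negSucc 0, Int.negSucc 0, Int.negSucc 0, Int.ofNat 1, Int.negSucc 2, Int.negSucc 0, Int.ofNat 1, Int.negSucc 0, Int.ofNat 1],
  [Int.ofNat 1, Int.negSucc 0, Int.ofNat 1, Int.negSucc 0, Int.ofNat 1, Int.ofNat 1, Int.ofNat 1, Int.negSucc 0, Int.negSucc 0, Int.ofNat 1, Int.negSucc 0, Int.negSucc 0, Int.ofNat 1, Int.ofNat 1, Int.negSucc 0, Int.negSucc 0, Int.ofNat 1, Int.negSucc 0, Int.negSucc 0, Int.negSucc 2, Int.negSucc 0, Int.ofNat 1, Int.negSucc 0, Int.ofNat 1],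
  [Int.ofNat 1, Int.negSucc 0, Int.negSucc 0, Int.negSucc 0, Int.negSucc 0, Int.ofNat 1, Int.negSucc 2, Int.ofNat 1, Int.negSucc 0, Int.ofNat 1, Int.ofNat 1, Int.ofNat 1, Int.ofNat 1, Int.negSucc 0, Int.negSucc 0, Int.negSucc 0, Int.negSucc 0, Int.ofNat 1, Int.negSucc 0, Int.ofNat 1, Int.negSucc 0, Int.ofNat 1, Int.negSucc 0, Int.ofNat 1],
  [Int.negSucc 0, Int.negSucc 0, Int.ofNat 1, Int.negSucc 0, Int.negSucc 0, Int.ofNat 1, Int.negSucc 2, Int.negSucc 0, Int.negSucc 0, Int.negSucc 0, Int.negSucc 0, Int.negSucc 0, Int.ofNat 1, Int.negSucc 0, Int.negSucc 0, Int.negSucc 0, Int.negSucc 0, Int.ofNat 1, Int.ofNat 1, Int.ofNat 1, Int.negSucc 0, Int.negSucc 0, Int.negSucc 0, Int.ofNat 1],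
  [Int.negSucc 0, Int.negSucc 0, Int.negSucc 0, Int.ofNat 1, Int.negSucc 0, Int.negSucc 0, Int.ofNat 1, Int.negSucc 2, Int.negSucc 0, Int.negSucc 0, Int.negSucc 0, Int.negSucc 0, Int.negSucc 0, Int.ofNat 1, Int.negSucc 0, Int.negSucc 0, Int.negSucc 0, Int.negSucc 0, Int.ofNat 1, Int.ofNat 1, Int.ofNat 1, Int.negSucc 0, Int.negSucc 0, Int.ofNat 1],
  [Int.ofNat 0, Int.ofNat 0, Int.ofNat 0, Int.ofNat 2, Int.ofNat 0, Int.ofNat 0, Int.ofNat 2, Int.negSucc 1, Int.ofNat 0, Int.ofNat 0, Int.ofNat 0, Int.ofNat 0, Int.ofNat 0, Int.ofNat 2, Int.ofNat 0, Int.ofNat 0, Int.ofNat 0, Int.ofNat 0, Int.ofNat 2, Int.ofNat 2, Int.ofNat 2, Int.ofNat 0, Int.ofNat 0, Int.negSucc 1],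
  [Int.ofNat 2, Int.ofNat 0, Int.ofNat 0, Int.ofNat 2, Int.negSucc 1, Int.ofNat 0, Int.ofNat 0, Int.ofNat 0, Int.ofNat 0, Int.ofNat 0, Int.ofNat 2, Int.ofNat 0, Int.ofNat 0, Int.ofNat 0, Int.ofNat 0, Int.ofNat 2, Int.ofNat 2, Int.ofNat 2, Int.ofNat 0, Int.ofNat 0, Int.ofNat 0, Int.ofNat 0, Int.ofNat 0, Int.negSucc 1],
  [Int.negSucc 1, Int.ofNat 0, Int.ofNat 0, Int.ofNat 0, Int.negSucc 1, Int.negSucc 1, Int.ofNat 0, Int.ofNat 0, Int.ofNat 0, Int.negSucc 1, Int.ofNat 0, Int.ofNat 0, Int.ofNat 0, Int.ofNat 0, Int.negSucc 1, Int.ofNat 0, Int.ofNat 2, Int.ofNat 0, Int.ofNat 0, Int.ofNat 0, Int.negSucc 1, Int.ofNat 0, Int.ofNat 0, Int.ofNat 2],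
  [Int.negSucc 1, Int.ofNat 0, Int.negSucc 1, Int.ofNat 0, Int.ofNat 0, Int.ofNat 0, Int.ofNat 0, Int.ofNat 0, Int.ofNat 0, Int.ofNat 0, Int.negSucc 1, Int.ofNat 0, Int.negSucc 1, Int.ofNat 2, Int.ofNat 0, Int.ofNat 0, Int.ofNat 0, Int.negSucc 1, Int.ofNat 0, Int.ofNat 0, Int.ofNat 0, Int.negSucc 1, Int.ofNat 0, Int.ofNat 2],
  [Int.ofNat 1, Int.negSucc 0, Int.ofNat 1, Int.ofNat 1, Int.negSucc 0, Int.ofNat 1, Int.ofNat 1, Int.ofNat 1, Int.ofNat 1, Int.ofNat 1, Int.negSucc 0, Int.ofNat 1, Int.negSucc 0, Int.ofNat 1, Int.ofNat 1, Int.ofNat 1, Int.negSucc 0, Int.negSucc 0, Int.ofNat 1, Int.ofNat 1, Int.ofNat 1, Int.negSucc 0, Int.negSucc 0, Int.negSucc 2],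
  [Int.ofNat 1, Int.negSucc 0, Int.negSucc 0, Int.ofNat 1, Int.negSucc 0, Int.negSucc 0, Int.negSucc 0, Int.ofNat 1, Int.ofNat 1, Int.negSucc 0, Int.ofNat 1, Int.ofNat 1, Int.negSucc 0, Int.ofNat 1, Int.ofNat 1, Int.negSucc 0, Int.negSucc 0, Int.negSucc 0, Int.negSucc 0, Int.ofNat 1, Int.ofNat 1, Int.negSucc 0, Int.ofNat 1, Int.negSucc 2],
  [Int.ofNat 1, Int.negSucc 0, Int.ofNat 1, Int.negSucc 0, Int.ofNat 1, Int.ofNat 1, Int.negSucc 0, Int.ofNat 1, Int.negSucc 0, Int.ofNat 1, Int.negSucc 0, Int.ofNat 1, Int.negSucc 0, Int.negSucc 0, Int.negSucc 0, Int.ofNat 1, Int.negSucc 0, Int.negSucc 0, Int.negSucc 0, Int.ofNat 1, Int.ofNat 1, Int.ofNat 1, Int.negSucc 0, Int.negSucc 2],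
  [Int.ofNat 1, Int.negSucc 0, Int.negSucc 0, Int.negSucc 0, Int.ofNat 1, Int.negSucc 0, Int.ofNat 1, Int.ofNat 1, Int.negSucc 0, Int.negSucc 0, Int.ofNat 1, Int.ofNat 1, Int.negSucc 0, Int.negSucc 0, Int.negSucc 0, Int.negSucc 0, Int.negSucc 0, Int.negSucc 0, Int.ofNat 1, Int.ofNat 1, Int.ofNat 1, Int.ofNat 1, Int.ofNat 1, Int.negSucc 2],
  [Int.negSucc 2, Int.negSucc 0, Int.negSucc 0, Int.ofNat 1, Int.ofNat 1, Int.ofNat 1, Int.negSucc 0, Int.negSucc 0, Int.negSucc 0, Int.negSucc 0, Int.ofNat 1, Int.ofNat 1, Int.negSucc 0, Int.negSucc 0, Int.ofNat 1, Int.negSucc 0, Int.negSucc 0, Int.ofNat 1, Int.ofNat 1, Int.negSucc 0, Int.ofNat 1, Int.negSucc 0, Int.ofNat 1, Int.ofNat 1],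
  [Int.negSucc 2, Int.ofNat 1, Int.negSucc 0, Int.ofNat 1, Int.negSucc 0, Int.negSucc 0, Int.negSucc 0, Int.ofNat 1, Int.negSucc 0, Int.negSucc 0, Int.negSucc 0, Int.negSucc 0, Int.negSucc 0, Int.negSucc 0, Int.ofNat 1, Int.negSucc 0, Int.negSucc 0, Int.ofNat 1, Int.ofNat 1, Int.ofNat 1, Int.ofNat 1, Int.ofNat 1, Int.ofNat 1, Int.ofNat 1],
  [Int.ofNat 2, Int.negSucc 1, Int.ofNat 0, Int.ofNat 0, Int.ofNat 0, Int.negSucc 1, Int.negSucc 1, Int.ofNat 0, Int.ofNat 0, Int.ofNat 0, Int.ofNat 0, Int.ofNat 0, Int.ofNat 0, Int.ofNat 0, Int.ofNat 0, Int.ofNat 0, Int.ofNat 0, Int.ofNat 0, Int.ofNat 2, Int.ofNat 0, Int.ofNat 2, Int.ofNat 0, Int.ofNat 2, Int.negSucc 1],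
  [Int.ofNat 2, Int.ofNat 0, Int.ofNat 2, Int.ofNat 2, Int.negSucc 1, Int.ofNat 0, Int.ofNat 0, Int.ofNat 0, Int.negSucc 1, Int.negSucc 1, Int.ofNat 0, Int.ofNat 0, Int.ofNat 0, Int.ofNat 0, Int.ofNat 0, Int.ofNat 0, Int.ofNat 0, Int.ofNat 0, Int.ofNat 0, Int.ofNat 0, Int.ofNat 0, Int.ofNat 2, Int.ofNat 0, Int.negSucc 1],
  [Int.negSucc 0, Int.ofNat 1, Int.negSucc 0, Int.ofNat 1, Int.negSucc 0, Int.negSucc 0, Int.negSucc 0, Int.negSucc 0, Int.negSucc 0, Int.negSucc 0, Int.ofNat 1, Int.ofNat 1, Int.ofNat 1, Int.ofNat 1, Int.negSucc 0, Int.ofNat 1, Int.ofNat 1, Int.negSucc 0, Int.ofNat 1, Int.negSucc 0, Int.ofNat 1, Int.ofNat 1, Int.ofNat 1, Int.ofNat 3],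
  [Int.ofNat 1, Int.negSucc 0, Int.ofNat 1, Int.negSucc 0, Int.negSucc 0, Int.negSucc 0, Int.negSucc 0, Int.negSucc 0, Int.negSucc 0, Int.ofNat 1, Int.ofNat 1, Int.ofNat 1, Int.ofNat 1, Int.negSucc 0, Int.ofNat 1, Int.ofNat 1, Int.negSucc 0, Int.ofNat 1, Int.negSucc 0, Int.ofNat 1, Int.ofNat 1, Int.ofNat 1, Int.negSucc 0, Int.ofNat 3],
  [Int.negSucc 0, Int.negSucc 0, Int.negSucc 0, Int.negSucc 0, Int.negSucc 0, Int.negSucc 0, Int.negSucc 0, Int.ofNat 1, Int.negSucc 0, Int.negSucc 0, Int.negSucc 0, Int.negSucc 0, Int.ofNat 1, Int.negSucc 0, Int.ofNat 1, Int.ofNat 1, Int.negSucc 0, Int.ofNat 1, Int.ofNat 1, Int.ofNat 1, Int.ofNat 1, Int.negSucc 0, Int.negSucc 0, Int.ofNat 3],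
  [Int.negSucc 0, Int.negSucc 0, Int.ofNat 1, Int.negSucc 0, Int.negSucc 0, Int.negSucc 0, Int.negSucc 0, Int.ofNat 1, Int.negSucc 0, Int.negSucc 0, Int.negSucc 0, Int.ofNat 1, Int.negSucc 0, Int.negSucc 0, Int.ofNat 1, Int.ofNat 1, Int.ofNat 1, Int.negSucc 0, Int.negSucc 0, Int.ofNat 1, Int.negSucc 0, Int.ofNat 1, Int.negSucc 0, Int.ofNat 3],
  [Int.ofNat 1, Int.negSucc 0, Int.negSucc 0, Int.negSucc 0, Int.negSucc 0, Int.negSucc 0, Int.negSucc 0, Int.negSucc 0, Int.negSucc 0, Int.ofNat 1, Int.ofNat 1, Int.negSucc 0, Int.negSucc 0, Int.negSucc 0, Int.ofNat 1, Int.ofNat 1, Int.ofNat 1, Int.negSucc 0, Int.ofNat 1, Int.ofNat 1, Int.negSucc 0, Int.negSucc 0, Int.negSucc 0, Int.ofNat 3],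
  [Int.negSucc 0, Int.ofNat 1, Int.negSucc 0, Int.negSucc 0, Int.negSucc 0, Int.negSucc 0, Int.negSucc 0, Int.negSucc 0, Int.negSucc 0, Int.negSucc 0, Int.ofNat 1, Int.ofNat 1, Int.negSucc 0, Int.negSucc 0, Int.negSucc 0, Int.ofNat 1, Int.ofNat 1, Int.ofNat 1, Int.negSucc 0, Int.ofNat 1, Int.ofNat 1, Int.negSucc 0, Int.negSucc 0, Int.ofNat 3],
  [Int.ofNat 2, Int.ofNat 0, Int.ofNat 2, Int.ofNat 0, Int.ofNat 0, Int.ofNat 0, Int.ofNat 0, Int.ofNat 0, Int.ofNat 0, Int.negSucc 1, Int.ofNat 0, Int.ofNat 2, Int.ofNat 0, Int.ofNat 0, Int.ofNat 0, Int.ofNat 0, Int.ofNat 2, Int.ofNat 2, Int.ofNat 0, Int.ofNat 2, Int.ofNat 0, Int.ofNat 0, Int.ofNat 0, Int.negSucc 1],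
  [Int.ofNat 0, Int.ofNat 0, Int.ofNat 0, Int.ofNat 0, Int.ofNat 0, Int.ofNat 0, Int.negSucc 1, Int.ofNat 0, Int.ofNat 2, Int.ofNat 0, Int.ofNat 0, Int.ofNat 0, Int.ofNat 0, Int.ofNat 2, Int.ofNat 2, Int.ofNat 0, Int.ofNat 2, Int.ofNat 0, Int.ofNat 0, Int.ofNat 0, Int.ofNat 2, Int.ofNat 0, Int.ofNat 2, Int.negSucc 1],
  [Int.negSucc 0, Int.negSucc 0, Int.negSucc 0, Int.negSucc 0, Int.negSucc 2, Int.negSucc 0, Int.negSucc 0, Int.ofNat 1, Int.ofNat 1, Int.negSucc 0, Int.negSucc 0, Int.negSucc 0, Int.negSucc 0, Int.negSucc 0, Int.ofNat 1, Int.negSucc 0, Int.negSucc 0, Int.negSucc 0, Int.negSucc 0, Int.ofNat 1, Int.ofNat 1, Int.ofNat 1, Int.negSucc 0, Int.ofNat 1],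
  [Int.negSucc 0, Int.negSucc 0, Int.negSucc 2, Int.negSucc 0, Int.negSucc 0, Int.ofNat 1, Int.negSucc 0, Int.negSucc 0, Int.negSucc 0, Int.negSucc 0, Int.ofNat 1, Int.negSucc 0, Int.negSucc 0, Int.negSucc 0, Int.negSucc 0, Int.negSucc 0, Int.ofNat 1, Int.ofNat 1, Int.negSucc 0, Int.negSucc 0, Int.ofNat 1, Int.negSucc 0, Int.ofNat 1, Int.ofNat 1],
  [Int.negSucc 0, Int.negSucc 0, Int.ofNat 1, Int.negSucc 0, Int.negSucc 0, Int.ofNat 1, Int.ofNat 1, Int.ofNat 1, Int.ofNat 1, Int.negSucc 0, Int.ofNat 1, Int.ofNat 1, Int.ofNat 1, Int.negSucc 0, Int.negSucc 0, Int.negSucc 0, Int.ofNat 1, Int.ofNat 1, Int.ofNat 1, Int.ofNat 1, Int.ofNat 1, Int.ofNat 1, Int.ofNat 1, Int.negSucc 2],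
  [Int.negSucc 0, Int.negSucc 0, Int.negSucc 0, Int.negSucc 0, Int.negSucc 0, Int.negSucc 0, Int.negSucc 0, Int.ofNat 1, Int.ofNat 1, Int.ofNat 1, Int.negSucc 0, Int.ofNat 1, Int.ofNat 1, Int.negSucc 0, Int.negSucc 0, Int.ofNat 1, Int.ofNat 1, Int.ofNat 1, Int.negSucc 0, Int.ofNat 1, Int.ofNat 1, Int.ofNat 1, Int.negSucc 0, Int.negSucc 2],
  [Int.negSucc 0, Int.ofNat 1, Int.ofNat 1, Int.ofNat 1, Int.negSucc 0, Int.negSucc 0, Int.ofNat 1, Int.negSucc 0, Int.negSucc 0, Int.ofNat 1, Int.negSucc 0, Int.ofNat 1, Int.ofNat 1, Int.negSucc 0, Int.ofNat 1, Int.negSucc 0, Int.ofNat 1, Int.ofNat 1, Int.ofNat 1, Int.negSucc 0, Int.negSucc 0, Int.negSucc 0, Int.negSucc 0, Int.negSucc 2],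
  [Int.ofNat 1, Int.negSucc 0, Int.negSucc 0, Int.negSucc 0, Int.ofNat 1, Int.negSucc 0, Int.negSucc 0, Int.negSucc 0, Int.ofNat 1, Int.negSucc 0, Int.negSucc 0, Int.ofNat 1, Int.negSucc 0, Int.ofNat 1, Int.ofNat 1, Int.negSucc 0, Int.negSucc 0, Int.ofNat 1, Int.negSucc 0, Int.negSucc 0, Int.negSucc 0, Int.negSucc 0, Int.negSucc 0, Int.negSucc 2],
  [Int.negSucc 2, Int.negSucc 0, Int.ofNat 1, Int.negSucc 0, Int.ofNat 1, Int.negSucc 0, Int.negSucc 0, Int.ofNat 1, Int.negSucc 0, Int.negSucc 0, Int.negSucc 0, Int.negSucc 0, Int.negSucc 0, Int.negSucc 0, Int.negSucc 0, Int.negSucc 0, Int.negSucc 0, Int.ofNat 1, Int.ofNat 1, Int.negSucc 0, Int.ofNat 1, Int.negSucc 0, Int.negSucc 0, Int.ofNat 1],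
  [Int.ofNat 3, Int.negSucc 0, Int.negSucc 0, Int.negSucc 0, Int.ofNat 1, Int.negSucc 0, Int.negSucc 0, Int.negSucc 0, Int.negSucc 0, Int.ofNat 1, Int.ofNat 1, Int.ofNat 1, Int.negSucc 0, Int.negSucc 0, Int.negSucc 0, Int.negSucc 0, Int.negSucc 0, Int.ofNat 1, Int.negSucc 0, Int.negSucc 0, Int.ofNat 1, Int.ofNat 1, Int.negSucc 0, Int.ofNat 1],
  [Int.negSucc 0, Int.ofNat 3, Int.negSucc 0, Int.negSucc 0, Int.negSucc 0, Int.ofNat 1, Int.negSucc 0, Int.negSucc 0, Int.negSucc 0, Int.negSucc 0, Int.ofNat 1, Int.ofNat 1, Int.ofNat 1, Int.negSucc 0, Int.negSucc 0, Int.negSucc 0, Int.negSucc 0, Int.negSucc 0, Int.ofNat 1, Int.negSucc 0, Int.negSucc 0, Int.ofNat 1, Int.ofNat 1, Int.ofNat 1],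
  [Int.ofNat 2, Int.negSucc 1, Int.ofNat 2, Int.ofNat 0, Int.ofNat 0, Int.ofNat 2, Int.ofNat 0, Int.ofNat 0, Int.negSucc 1, Int.ofNat 0, Int.ofNat 2, Int.ofNat 0, Int.ofNat 0, Int.ofNat 0, Int.ofNat 0, Int.ofNat 0, Int.ofNat 0, Int.ofNat 0, Int.ofNat 0, Int.ofNat 0, Int.ofNat 0, Int.ofNat 2, Int.ofNat 2, Int.ofNat 0],
  [Int.ofNat 0, Int.ofNat 0, Int.ofNat 2, Int.ofNat 0, Int.ofNat 0, Int.negSucc 1, Int.ofNat 0, Int.ofNat 2, Int.ofNat 0, Int.ofNat 0, Int.ofNat 0, Int.ofNat 0, Int.ofNat 0, Int.ofNat 0, Int.ofNat 0, Int.ofNat 0, Int.ofNat 0, Int.ofNat 0, Int.ofNat 2, Int.ofNat 2, Int.ofNat 2, Int.negSucc 1, Int.ofNat 2, Int.ofNat 0],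
  [Int.ofNat 1, Int.ofNat 1, Int.negSucc 0, Int.ofNat 1, Int.negSucc 0, Int.negSucc 0, Int.negSucc 0, Int.ofNat 1, Int.negSucc 0, Int.negSucc 0, Int.negSucc 0, Int.negSucc 0, Int.negSucc 0, Int.negSucc 0, Int.ofNat 1, Int.negSucc 0, Int.negSucc 0, Int.ofNat 1, Int.ofNat 1, Int.ofNat 1, Int.ofNat 1, Int.negSucc 2, Int.ofNat 1, Int.ofNat 1],
  [Int.ofNat 1, Int.negSucc 0, Int.negSucc 0, Int.ofNat 1, Int.ofNat 1, Int.ofNat 1, Int.negSucc 0, Int.negSucc 0, Int.negSucc 0, Int.negSucc 0, Int.ofNat 1, Int.ofNat 1, Int.negSucc 0, Int.negSucc 0, Int.ofNat 1, Int.negSucc 0, Int.negSucc 0, Int.ofNat 1, Int.ofNat 1, Int.negSucc 0, Int.negSucc 2, Int.negSucc 0, Int.ofNat 1, Int.ofNat 1],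
  [Int.negSucc 0, Int.ofNat 1, Int.ofNat 1, Int.negSucc 0, Int.ofNat 1, Int.negSucc 0, Int.ofNat 1, Int.ofNat 1, Int.negSucc 0, Int.ofNat 1, Int.ofNat 3, Int.ofNat 1, Int.negSucc 0, Int.negSucc 0, Int.negSucc 0, Int.ofNat 1, Int.negSucc 0, Int.negSucc 0, Int.ofNat 1, Int.ofNat 1, Int.negSucc 0, Int.ofNat 1, Int.ofNat 1, Int.negSucc 0],
  [Int.negSucc 0, Int.ofNat 1, Int.negSucc 0, Int.negSucc 0, Int.ofNat 1, Int.ofNat 1, Int.negSucc 0, Int.ofNat 1, Int.negSucc 0, Int.negSucc 0, Int.negSucc 2, Int.ofNat 1, Int.negSucc 0, Int.negSucc 0, Int.negSucc 0, Int.negSucc 0, Int.negSucc 0, Int.negSucc 0, Int.negSucc 0, Int.ofNat 1, Int.negSucc 0, Int.ofNat 1, Int.negSucc 0, Int.negSucc 0],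
  [Int.ofNat 1, Int.negSucc 0, Int.negSucc 0, Int.ofNat 1, Int.negSucc 0, Int.negSucc 0, Int.negSucc 0, Int.ofNat 1, Int.negSucc 0, Int.negSucc 0, Int.negSucc 0, Int.ofNat 1, Int.ofNat 1, Int.negSucc 0, Int.negSucc 0, Int.negSucc 0, Int.negSucc 0, Int.negSucc 0, Int.ofNat 1, Int.negSucc 0, Int.negSucc 2, Int.negSucc 0, Int.ofNat 1, Int.negSucc 0],
  [Int.ofNat 1, Int.negSucc 0, Int.ofNat 1, Int.ofNat 1, Int.negSucc 0, Int.ofNat 1, Int.ofNat 1, Int.ofNat 1, Int.negSucc 0, Int.ofNat 1, Int.ofNat 1, Int.ofNat 1, Int.ofNat 1, Int.negSucc 0, Int.negSucc 0, Int.ofNat 1, Int.negSucc 0, Int.negSucc 0, Int.negSucc 0, Int.negSucc 0, Int.negSucc 2, Int.negSucc 0, Int.negSucc 0, Int.negSucc 0],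
  [Int.negSucc 0, Int.ofNat 1, Int.negSucc 0, Int.ofNat 1, Int.ofNat 1, Int.ofNat 1, Int.ofNat 1, Int.ofNat 1, Int.negSucc 0, Int.ofNat 1, Int.ofNat 1, Int.ofNat 1, Int.ofNat 1, Int.ofNat 1, Int.negSucc 0, Int.ofNat 1, Int.ofNat 1, Int.negSucc 0, Int.negSucc 0, Int.negSucc 0, Int.negSucc 2, Int.negSucc 0, Int.ofNat 1, Int.ofNat 1],
  [Int.negSucc 0, Int.negSucc 0, Int.ofNat 1, Int.ofNat 1, Int.negSucc 0, Int.negSucc 0, Int.ofNat 1, Int.ofNat 1, Int.ofNat 1, Int.ofNat 1, Int.ofNat 1, Int.negSucc 0, Int.negSucc 0, Int.ofNat 1, Int.negSucc 0, Int.ofNat 1, Int.ofNat 1, Int.ofNat 1, Int.ofNat 1, Int.ofNat 1, Int.ofNat 1, Int.negSucc 2, Int.negSucc 0, Int.ofNat 1],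
  [Int.ofNat 1, Int.ofNat 1, Int.negSucc 0, Int.ofNat 1, Int.negSucc 0, Int.negSucc 0, Int.ofNat 1, Int.ofNat 1, Int.ofNat 1, Int.negSucc 0, Int.negSucc 0, Int.negSucc 0, Int.negSucc 0, Int.ofNat 1, Int.negSucc 0, Int.negSucc 0, Int.ofNat 1, Int.ofNat 1, Int.ofNat 1, Int.ofNat 1, Int.negSucc 0, Int.negSucc 2, Int.negSucc 0, Int.negSucc 0],
  [Int.negSucc 0, Int.negSucc 2, Int.negSucc 0, Int.ofNat 1, Int.ofNat 1, Int.negSucc 0, Int.ofNat 1, Int.negSucc 0, Int.negSucc 0, Int.ofNat 1, Int.ofNat 1, Int.ofNat 1, Int.negSucc 0, Int.negSucc 0, Int.negSucc 0, Int.negSucc 0, Int.ofNat 1, Int.negSucc 0, Int.negSucc 0, Int.ofNat 1, Int.ofNat 1, Int.ofNat 1, Int.ofNat 1, Int.negSucc 0],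
  [Int.negSucc 1, Int.ofNat 0, Int.negSucc 1, Int.ofNat 2, Int.ofNat 0, Int.ofNat 0, Int.ofNat 0, Int.negSucc 1, Int.ofNat 0, Int.ofNat 0, Int.ofNat 0, Int.ofNat 2, Int.ofNat 0, Int.negSucc 1, Int.ofNat 0, Int.negSucc 1, Int.ofNat 0, Int.ofNat 0, Int.ofNat 0, Int.ofNat 0, Int.ofNat 0, Int.ofNat 0, Int.ofNat 0, Int.negSucc 1],
  [Int.ofNat 0, Int.negSucc 1, Int.ofNat 2, Int.ofNat 0, Int.ofNat 0, Int.ofNat 0, Int.negSucc 1, Int.ofNat 0, Int.ofNat 0, Int.ofNat 0, Int.ofNat 2, Int.ofNat 0, Int.negSucc 1, Int.ofNat 0, Int.negSucc 1, Int.ofNat 0, Int.ofNat 0, Int.ofNat 0, Int.ofNat 0, Int.ofNat 0, Int.ofNat 0, Int.ofNat 0, Int.negSucc 1, Int.negSucc 1],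
  [Int.ofNat 0, Int.negSucc 1, Int.negSucc 1, Int.ofNat 0, Int.ofNat 0, Int.ofNat 0, Int.negSucc 1, Int.ofNat 0, Int.ofNat 0, Int.ofNat 0, Int.negSucc 1, Int.ofNat 0, Int.negSucc 1, Int.ofNat 0, Int.negSucc 1, Int.ofNat 0, Int.ofNat 0, Int.ofNat 0, Int.ofNat 0, Int.ofNat 0, Int.ofNat 0, Int.ofNat 0, Int.negSucc 1, Int.negSucc 1],
  [Int.ofNat 0, Int.negSucc 1, Int.ofNat 0, Int.ofNat 0, Int.negSucc 1, Int.negSucc 1, Int.ofNat 0, Int.ofNat 0, Int.ofNat 0, Int.ofNat 0, Int.ofNat 0, Int.negSucc 1, Int.ofNat 0, Int.ofNat 0, Int.ofNat 0, Int.ofNat 0, Int.negSucc 1, Int.negSucc 1, Int.negSucc 1, Int.ofNat 0, Int.ofNat 0, Int.ofNat 0, Int.ofNat 0, Int.negSucc 1],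
  [Int.ofNat 0, Int.negSucc 1, Int.ofNat 0, Int.ofNat 0, Int.negSucc 1, Int.negSucc 1, Int.ofNat 0, Int.ofNat 0, Int.ofNat 0, Int.ofNat 0, Int.ofNat 0, Int.ofNat 2, Int.ofNat 0, Int.ofNat 0, Int.ofNat 0, Int.ofNat 0, Int.negSucc 1, Int.negSucc 1, Int.ofNat 2, Int.ofNat 0, Int.ofNat 0, Int.ofNat 0, Int.ofNat 0, Int.negSucc 1],
  [Int.ofNat 0, Int.ofNat 0, Int.negSucc 1, Int.ofNat 0, Int.ofNat 0, Int.negSucc 1, Int.negSucc 1, Int.ofNat 0, Int.ofNat 0, Int.ofNat 0, Int.ofNat 0, Int.ofNat 0, Int.ofNat 2, Int.ofNat 0, Int.ofNat 0, Int.ofNat 0, Int.ofNat 0, Int.negSucc 1, Int.negSucc 1, Int.ofNat 2, Int.ofNat 0, Int.ofNat 0, Int.ofNat 0, Int.negSucc 1],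
  [Int.negSucc 1, Int.negSucc 1, Int.ofNat 0, Int.ofNat 2, Int.ofNat 0, Int.ofNat 0, Int.negSucc 1, Int.ofNat 0, Int.ofNat 0, Int.ofNat 0, Int.ofNat 0, Int.ofNat 0, Int.ofNat 2, Int.ofNat 0, Int.ofNat 2, Int.ofNat 0, Int.ofNat 0, Int.ofNat 0, Int.negSucc 1, Int.ofNat 2, Int.ofNat 0, Int.ofNat 0, Int.ofNat 0, Int.ofNat 0],
  [Int.ofNat 2, Int.ofNat 0, Int.ofNat 0, Int.negSucc 1, Int.ofNat 0, Int.ofNat 0, Int.ofNat 0, Int.ofNat 0, Int.ofNat 0, Int.ofNat 2, Int.ofNat 0, Int.ofNat 2, Int.ofNat 0, Int.ofNat 0, Int.ofNat 0, Int.negSucc 1, Int.ofNat 2, Int.ofNat 0, Int.ofNat 0, Int.ofNat 0, Int.negSucc 1, Int.negSucc 1, Int.ofNat 0, Int.ofNat 0],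
  [Int.negSucc 0, Int.ofNat 1, Int.ofNat 1, Int.negSucc 0, Int.negSucc 0, Int.ofNat 1, Int.ofNat 1, Int.ofNat 1, Int.negSucc 0, Int.ofNat 3, Int.ofNat 1, Int.ofNat 1, Int.negSucc 0, Int.negSucc 0, Int.ofNat 1, Int.negSucc 0, Int.ofNat 1, Int.ofNat 1, Int.negSucc 0, Int.ofNat 1, Int.negSucc 0, Int.negSucc 0, Int.negSucc 0, Int.ofNat 1],
  [Int.negSucc 0, Int.ofNat 1, Int.negSucc 0, Int.negSucc 0, Int.negSucc 0, Int.ofNat 1, Int.ofNat 1, Int.ofNat 1, Int.negSucc 0, Int.negSucc 0, Int.negSucc 0, Int.ofNat 1, Int.ofNat 3, Int.ofNat 1, Int.negSucc 0, Int.negSucc 0, Int.negSucc 0, Int.ofNat 1, Int.ofNat 1, Int.ofNat 1, Int.negSucc 0, Int.ofNat 1, Int.ofNat 1, Int.ofNat 1],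
  [Int.ofNat 1, Int.negSucc 0, Int.ofNat 1, Int.negSucc 0, Int.negSucc 0, Int.ofNat 1, Int.negSucc 0, Int.negSucc 0, Int.negSucc 2, Int.ofNat 1, Int.ofNat 1, Int.negSucc 0, Int.ofNat 1, Int.ofNat 1, Int.negSucc 0, Int.ofNat 1, Int.negSucc 0, Int.ofNat 1, Int.negSucc 0, Int.negSucc 0, Int.ofNat 1, Int.negSucc 0, Int.ofNat 1, Int.negSucc 0],
  [Int.ofNat 1, Int.negSucc 0, Int.negSucc 0, Int.negSucc 0, Int.negSucc 0, Int.negSucc 0, Int.ofNat 1, Int.negSucc 0, Int.negSucc 2, Int.negSucc 0, Int.negSucc 0, Int.negSucc 0, Int.ofNat 1, Int.ofNat 1, Int.negSucc 0, Int.negSucc 0, Int.negSucc 0, Int.ofNat 1, Int.ofNat 1, Int.negSucc 0, Int.ofNat 1, Int.negSucc 0, Int.negSucc 0, Int.negSucc 0],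
  [Int.negSucc 0, Int.negSucc 0, Int.negSucc 0, Int.negSucc 2, Int.negSucc 0, Int.ofNat 1, Int.negSucc 0, Int.negSucc 0, Int.negSucc 0, Int.ofNat 1, Int.ofNat 1, Int.negSucc 0, Int.negSucc 0, Int.negSucc 0, Int.ofNat 1, Int.ofNat 1, Int.negSucc 0, Int.ofNat 1, Int.negSucc 0, Int.negSucc 0, Int.ofNat 1, Int.negSucc 0, Int.negSucc 0, Int.negSucc 0],
  [Int.ofNat 1, Int.ofNat 1, Int.ofNat 1, Int.ofNat 3, Int.ofNat 1, Int.ofNat 1, Int.ofNat 1, Int.negSucc 0, Int.ofNat 1, Int.negSucc 0, Int.ofNat 1, Int.negSucc 0, Int.ofNat 1, Int.ofNat 1, Int.ofNat 1, Int.ofNat 1, Int.ofNat 1, Int.ofNat 1, Int.ofNat 1, Int.negSucc 0, Int.ofNat 1, Int.negSucc 0, Int.negSucc 0, Int.negSucc 0],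
  [Int.negSucc 0, Int.negSucc 0, Int.negSucc 0, Int.ofNat 1, Int.ofNat 1, Int.negSucc 0, Int.negSucc 0, Int.ofNat 1, Int.ofNat 1, Int.ofNat 1, Int.ofNat 1, Int.ofNat 1, Int.negSucc 0, Int.negSucc 0, Int.ofNat 1, Int.ofNat 3, Int.ofNat 1, Int.ofNat 1, Int.ofNat 1, Int.ofNat 1, Int.ofNat 1, Int.ofNat 1, Int.ofNat 1, Int.ofNat 1],
  [Int.ofNat 1, Int.negSucc 0, Int.ofNat 1, Int.ofNat 1, Int.ofNat 1, Int.negSucc 0, Int.negSucc 0, Int.negSucc 0, Int.ofNat 1, Int.negSucc 0, Int.negSucc 0, Int.negSucc 0, Int.negSucc 0, Int.negSucc 0, Int.ofNat 1, Int.ofNat 3, Int.ofNat 1, Int.ofNat 1, Int.negSucc 0, Int.ofNat 1, Int.ofNat 1, Int.negSucc 0, Int.ofNat 1, Int.ofNat 1],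
  [Int.ofNat 1, Int.ofNat 1, Int.negSucc 0, Int.ofNat 1, Int.ofNat 1, Int.ofNat 1, Int.negSucc 0, Int.negSucc 0, Int.negSucc 0, Int.ofNat 1, Int.negSucc 0, Int.negSucc 0, Int.negSucc 0, Int.negSucc 0, Int.negSucc 0, Int.ofNat 1, Int.ofNat 3, Int.ofNat 1, Int.ofNat 1, Int.negSucc 0, Int.ofNat 1, Int.ofNat 1, Int.negSucc 0, Int.ofNat 1],
  [Int.ofNat 0, Int.ofNat 0, Int.ofNat 2, Int.ofNat 0, Int.ofNat 0, Int.ofNat 0, Int.ofNat 0, Int.ofNat 0, Int.ofNat 0, Int.ofNat 0, Int.negSucc 1, Int.ofNat 0, Int.ofNat 0, Int.negSucc 1, Int.negSucc 1, Int.ofNat 0, Int.ofNat 2, Int.ofNat 0, Int.ofNat 2, Int.ofNat 0, Int.ofNat 0, Int.ofNat 2, Int.negSucc 1, Int.ofNat 0],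
  [Int.ofNat 0, Int.ofNat 0, Int.ofNat 0, Int.ofNat 0, Int.ofNat 0, Int.ofNat 0, Int.ofNat 0, Int.negSucc 1, Int.ofNat 0, Int.ofNat 0, Int.negSucc 1, Int.negSucc 1, Int.ofNat 0, Int.ofNat 2, Int.ofNat 0, Int.ofNat 2, Int.ofNat 0, Int.ofNat 0, Int.ofNat 2, Int.negSucc 1, Int.ofNat 0, Int.ofNat 0, Int.ofNat 2, Int.ofNat 0],
  [Int.ofNat 0, Int.ofNat 0, Int.ofNat 0, Int.ofNat 0, Int.negSucc 1, Int.ofNat 0, Int.ofNat 2, Int.ofNat 0, Int.ofNat 0, Int.ofNat 0, Int.negSucc 1, Int.negSucc 1, Int.ofNat 0, Int.ofNat 0, Int.ofNat 0, Int.ofNat 2, Int.negSucc 1, Int.ofNat 0, Int.ofNat 2, Int.ofNat 0, Int.ofNat 0, Int.ofNat 2, Int.ofNat 0, Int.ofNat 0],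
  [Int.ofNat 0, Int.ofNat 2, Int.negSucc 1, Int.ofNat 0, Int.ofNat 2, Int.ofNat 0, Int.ofNat 0, Int.negSucc 1, Int.ofNat 0, Int.ofNat 0, Int.ofNat 0, Int.ofNat 0, Int.ofNat 0, Int.negSucc 1, Int.ofNat 0, Int.ofNat 2, Int.ofNat 0, Int.ofNat 0, Int.ofNat 0, Int.negSucc 1, Int.ofNat 2, Int.ofNat 0, Int.ofNat 0, Int.ofNat 0],
  [Int.ofNat 0, Int.negSucc 1, Int.ofNat 2, Int.ofNat 0, Int.ofNat 2, Int.ofNat 0, Int.ofNat 2, Int.ofNat 0, Int.ofNat 0, Int.negSucc 1, Int.negSucc 1, Int.ofNat 0, Int.ofNat 0, Int.negSucc 1, Int.ofNat 0, Int.ofNat 0, Int.ofNat 0, Int.ofNat 0, Int.ofNat 0, Int.ofNat 0, Int.ofNat 0, Int.ofNat 2, Int.ofNat 0, Int.ofNat 0],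
  [Int.ofNat 0, Int.negSucc 1, Int.negSucc 1, Int.ofNat 0, Int.ofNat 2, Int.ofNat 0, Int.negSucc 1, Int.ofNat 0, Int.ofNat 0, Int.ofNat 2, Int.ofNat 2, Int.ofNat 0, Int.ofNat 0, Int.negSucc 1, Int.ofNat 0, Int.ofNat 0, Int.ofNat 0, Int.ofNat 0, Int.ofNat 0, Int.ofNat 0, Int.ofNat 0, Int.ofNat 2, Int.ofNat 0, Int.ofNat 0],
  [Int.ofNat 0, Int.ofNat 0, Int.negSucc 1, Int.negSucc 1, Int.ofNat 0, Int.ofNat 0, Int.negSucc 1, Int.ofNat 0, Int.ofNat 0, Int.ofNat 0, Int.ofNat 0, Int.ofNat 0, Int.ofNat 0, Int.ofNat 0, Int.ofNat 2, Int.ofNat 0, Int.ofNat 0, Int.negSucc 1, Int.ofNat 2, Int.ofNat 0, Int.ofNat 2, Int.ofNat 0, Int.ofNat 2, Int.ofNat 0],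
  [Int.ofNat 0, Int.ofNat 0, Int.ofNat 2, Int.negSucc 1, Int.ofNat 0, Int.ofNat 0, Int.ofNat 2, Int.ofNat 0, Int.ofNat 0, Int.ofNat 0, Int.ofNat 0, Int.ofNat 0, Int.ofNat 0, Int.ofNat 0, Int.ofNat 2, Int.ofNat 0, Int.ofNat 0, Int.negSucc 1, Int.negSucc 1, Int.ofNat 0, Int.ofNat 2, Int.ofNat 0, Int.negSucc 1, Int.ofNat 0],
  [Int.ofNat 1, Int.ofNat 1, Int.negSucc 0, Int.negSucc 0, Int.ofNat 1, Int.ofNat 1, Int.ofNat 1, Int.negSucc 0, Int.ofNat 1, Int.negSucc 0, Int.negSucc 0, Int.ofNat 1, Int.ofNat 1, Int.ofNat 1, Int.ofNat 3, Int.negSucc 0, Int.ofNat 1, Int.negSucc 0, Int.negSucc 0, Int.negSucc 0, Int.ofNat 1, Int.negSucc 0, Int.negSucc 0, Int.ofNat 1],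
  [Int.ofNat 1, Int.negSucc 0, Int.ofNat 1, Int.negSucc 0, Int.negSucc 0, Int.negSucc 0, Int.ofNat 1, Int.ofNat 1, Int.ofNat 1, Int.ofNat 1, Int.negSucc 0, Int.negSucc 0, Int.ofNat 1, Int.negSucc 0, Int.negSucc 0, Int.negSucc 0, Int.ofNat 1, Int.ofNat 1, Int.ofNat 1, Int.negSucc 0, Int.negSucc 0, Int.ofNat 1, Int.ofNat 3, Int.ofNat 1],
  [Int.ofNat 0, Int.ofNat 2, Int.ofNat 0, Int.ofNat 0, Int.negSucc 1, Int.ofNat 0, Int.ofNat 0, Int.ofNat 0, Int.ofNat 0, Int.ofNat 2, Int.ofNat 0, Int.negSucc 1, Int.ofNat 0, Int.negSucc 1, Int.ofNat 0, Int.ofNat 0, Int.ofNat 0, Int.ofNat 2, Int.ofNat 0, Int.negSucc 1, Int.ofNat 0, Int.ofNat 0, Int.ofNat 2, Int.ofNat 0],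
  [Int.ofNat 0, Int.ofNat 0, Int.ofNat 2, Int.ofNat 0, Int.ofNat 2, Int.ofNat 0, Int.ofNat 0, Int.negSucc 1, Int.ofNat 0, Int.ofNat 0, Int.ofNat 0, Int.ofNat 0, Int.ofNat 2, Int.ofNat 0, Int.negSucc 1, Int.ofNat 0, Int.negSucc 1, Int.ofNat 0, Int.ofNat 0, Int.ofNat 0, Int.ofNat 2, Int.ofNat 0, Int.negSucc 1, Int.ofNat 0],
  [Int.ofNat 1, Int.ofNat 1, Int.negSucc 0, Int.ofNat 1, Int.ofNat 3, Int.ofNat 1, Int.ofNat 1, Int.negSucc 0, Int.negSucc 0, Int.negSucc 0, Int.negSucc 0, Int.negSucc 0, Int.ofNat 1, Int.ofNat 1, Int.negSucc 0, Int.negSucc 0, Int.negSucc 0, Int.ofNat 1, Int.negSucc 0, Int.ofNat 1, Int.ofNat 1, Int.ofNat 1, Int.negSucc 0, Int.ofNat 1],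
  [Int.ofNat 1, Int.negSucc 0, Int.ofNat 1, Int.ofNat 3, Int.ofNat 1, Int.ofNat 1, Int.negSucc 0, Int.negSucc 0, Int.negSucc 0, Int.negSucc 0, Int.negSucc 0, Int.ofNat 1, Int.ofNat 1, Int.negSucc 0, Int.negSucc 0, Int.negSucc 0, Int.ofNat 1, Int.negSucc 0, Int.ofNat 1, Int.ofNat 1, Int.ofNat 1, Int.negSucc 0, Int.ofNat 1, Int.ofNat 1],
  [Int.negSucc 0, Int.negSucc 0, Int.negSucc 0, Int.ofNat 3, Int.ofNat 1, Int.ofNat 1, Int.negSucc 0, Int.ofNat 1, Int.negSucc 0, Int.ofNat 1, Int.ofNat 1, Int.negSucc 0, Int.ofNat 1, Int.negSucc 0, Int.negSucc 0, Int.negSucc 0, Int.ofNat 1, Int.negSucc 0, Int.negSucc 0, Int.ofNat 1, Int.ofNat 1, Int.ofNat 1, Int.ofNat 1, Int.ofNat 1],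
  [Int.negSucc 0, Int.negSucc 0, Int.negSucc 0, Int.ofNat 3, Int.negSucc 0, Int.ofNat 1, Int.ofNat 1, Int.ofNat 1, Int.ofNat 1, Int.ofNat 1, Int.ofNat 1, Int.negSucc 0, Int.negSucc 0, Int.negSucc 0, Int.ofNat 1, Int.negSucc 0, Int.ofNat 1, Int.ofNat 1, Int.negSucc 0, Int.negSucc 0, Int.ofNat 1, Int.ofNat 1, Int.negSucc 0, Int.ofNat 1],
  [Int.ofNat 1, Int.negSucc 0, Int.ofNat 1, Int.ofNat 3, Int.negSucc 0, Int.ofNat 1, Int.ofNat 1, Int.negSucc 0, Int.ofNat 1, Int.negSucc 0, Int.negSucc 0, Int.ofNat 1, Int.negSucc 0, Int.negSucc 0, Int.ofNat 1, Int.negSucc 0, Int.ofNat 1, Int.ofNat 1, Int.ofNat 1, Int.negSucc 0, Int.ofNat 1, Int.negSucc 0, Int.negSucc 0, Int.ofNat 1],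
  [Int.negSucc 0, Int.ofNat 1, Int.negSucc 0, Int.ofNat 1, Int.ofNat 3, Int.negSucc 0, Int.ofNat 1, Int.ofNat 1, Int.negSucc 0, Int.ofNat 1, Int.negSucc 0, Int.negSucc 0, Int.ofNat 1, Int.negSucc 0, Int.negSucc 0, Int.ofNat 1, Int.negSucc 0, Int.ofNat 1, Int.ofNat 1, Int.ofNat 1, Int.negSucc 0, Int.ofNat 1, Int.negSucc 0, Int.ofNat 1],
  [Int.ofNat 1, Int.negSucc 0, Int.ofNat 1, Int.ofNat 1, Int.ofNat 3, Int.negSucc 0, Int.negSucc 0, Int.negSucc 0, Int.negSucc 0, Int.ofNat 1, Int.negSucc 0, Int.negSucc 0, Int.ofNat 1, Int.negSucc 0, Int.negSucc 0, Int.ofNat 1, Int.negSucc 0, Int.ofNat 1, Int.ofNat 1, Int.negSucc 0, Int.negSucc 0, Int.negSucc 0, Int.negSucc 0, Int.negSucc 0],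
  [Int.ofNat 1, Int.ofNat 3, Int.negSucc 0, Int.negSucc 0, Int.negSucc 0, Int.negSucc 0, Int.ofNat 1, Int.negSucc 0, Int.negSucc 0, Int.ofNat 1, Int.negSucc 0, Int.negSucc 0, Int.ofNat 1, Int.negSucc 0, Int.ofNat 1, Int.ofNat 1, Int.negSucc 0, Int.negSucc 0, Int.negSucc 0, Int.negSucc 0, Int.ofNat 1, Int.negSucc 0, Int.ofNat 1, Int.negSucc 0],
  [Int.ofNat 0, Int.negSucc 1, Int.ofNat 2, Int.ofNat 0, Int.ofNat 0, Int.ofNat 0, Int.ofNat 2, Int.ofNat 0, Int.ofNat 0, Int.ofNat 0, Int.negSucc 1, Int.ofNat 0, Int.ofNat 2, Int.ofNat 0, Int.ofNat 2, Int.ofNat 0, Int.ofNat 0, Int.ofNat 0, Int.ofNat 0, Int.ofNat 0, Int.ofNat 0, Int.ofNat 0, Int.ofNat 2, Int.ofNat 2],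
  [Int.ofNat 0, Int.ofNat 2, Int.ofNat 0, Int.ofNat 0, Int.ofNat 0, Int.ofNat 0, Int.ofNat 2, Int.negSucc 1, Int.ofNat 2, Int.ofNat 0, Int.ofNat 0, Int.ofNat 0, Int.ofNat 0, Int.ofNat 0, Int.ofNat 2, Int.ofNat 0, Int.ofNat 0, Int.ofNat 2, Int.negSucc 1, Int.ofNat 0, Int.ofNat 0, Int.ofNat 0, Int.ofNat 0, Int.ofNat 2],
  [Int.ofNat 2, Int.ofNat 0, Int.ofNat 2, Int.negSucc 1, Int.ofNat 0, Int.negSucc 1, Int.ofNat 2, Int.negSucc 1, Int.ofNat 2, Int.ofNat 0, Int.ofNat 0, Int.ofNat 0, Int.ofNat 0, Int.ofNat 0, Int.ofNat 0, Int.ofNat 0, Int.ofNat 0, Int.ofNat 0, Int.negSucc 1, Int.ofNat 0, Int.ofNat 0, Int.ofNat 0, Int.ofNat 0, Int.ofNat 0],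
  [Int.ofNat 2, Int.ofNat 0, Int.negSucc 1, Int.negSucc 1, Int.ofNat 0, Int.ofNat 2, Int.negSucc 1, Int.negSucc 1, Int.ofNat 2, Int.ofNat 0, Int.ofNat 0, Int.ofNat 0, Int.ofNat 0, Int.ofNat 0, Int.ofNat 0, Int.ofNat 0, Int.ofNat 0, Int.ofNat 0, Int.ofNat 2, Int.ofNat 0, Int.ofNat 0, Int.ofNat 0, Int.ofNat 0, Int.ofNat 0],
  [Int.ofNat 0, Int.ofNat 0, Int.ofNat 0, Int.ofNat 2, Int.ofNat 0, Int.negSucc 1, Int.ofNat 0, Int.negSucc 1, Int.ofNat 2, Int.ofNat 0, Int.ofNat 0, Int.negSucc 1, Int.ofNat 0, Int.ofNat 0, Int.ofNat 0, Int.ofNat 2, Int.ofNat 0, Int.ofNat 0, Int.ofNat 0, Int.negSucc 1, Int.ofNat 2, Int.ofNat 0, Int.ofNat 0, Int.ofNat 0],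
  [Int.ofNat 0, Int.ofNat 0, Int.ofNat 0, Int.negSucc 1, Int.ofNat 0, Int.negSucc 1, Int.ofNat 0, Int.negSucc 1, Int.negSucc 1, Int.ofNat 0, Int.ofNat 0, Int.negSucc 1, Int.ofNat 0, Int.ofNat 0, Int.ofNat 0, Int.ofNat 2, Int.ofNat 0, Int.ofNat 0, Int.ofNat 0, Int.negSucc 1, Int.ofNat 2, Int.ofNat 0, Int.ofNat 0, Int.ofNat 0],
  [Int.ofNat 0, Int.ofNat 0, Int.negSucc 1, Int.ofNat 2, Int.ofNat 0, Int.ofNat 0, Int.negSucc 1, Int.ofNat 0, Int.ofNat 2, Int.negSucc 1, Int.ofNat 0, Int.ofNat 0, Int.ofNat 0, Int.negSucc 1, Int.ofNat 0, Int.negSucc 1, Int.ofNat 0, Int.ofNat 0, Int.ofNat 0, Int.ofNat 0, Int.negSucc 1, Int.ofNat 0, Int.ofNat 0, Int.ofNat 0],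
  [Int.ofNat 0, Int.ofNat 0, Int.ofNat 2, Int.ofNat 2, Int.ofNat 0, Int.ofNat 0, Int.negSucc 1, Int.ofNat 0, Int.ofNat 2, Int.ofNat 2, Int.ofNat 0, Int.ofNat 0, Int.ofNat 0, Int.negSucc 1, Int.ofNat 0, Int.negSucc 1, Int.ofNat 0, Int.ofNat 0, Int.ofNat 0, Int.ofNat 0, Int.negSucc 1, Int.ofNat 0, Int.ofNat 0, Int.ofNat 0],
  [Int.ofNat 0, Int.ofNat 0, Int.ofNat 0, Int.ofNat 2, Int.ofNat 2, Int.ofNat 0, Int.ofNat 0, Int.negSucc 1, Int.ofNat 0, Int.ofNat 2, Int.ofNat 2, Int.ofNat 0, Int.ofNat 0, Int.ofNat 0, Int.negSucc 1, Int.ofNat 0, Int.negSucc 1, Int.ofNat 0, Int.ofNat 0, Int.ofNat 0, Int.ofNat 0, Int.negSucc 1, Int.ofNat 0, Int.ofNat 0],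
  [Int.ofNat 0, Int.ofNat 0, Int.ofNat 0, Int.ofNat 2, Int.ofNat 2, Int.ofNat 0, Int.ofNat 2, Int.ofNat 0, Int.ofNat 0, Int.ofNat 0, Int.ofNat 0, Int.ofNat 0, Int.ofNat 0, Int.ofNat 0, Int.negSucc 1, Int.negSucc 1, Int.negSucc 1, Int.ofNat 0, Int.ofNat 0, Int.ofNat 2, Int.negSucc 1, Int.ofNat 0, Int.ofNat 0, Int.ofNat 0],
  [Int.ofNat 2, Int.ofNat 2, Int.ofNat 0, Int.ofNat 2, Int.ofNat 0, Int.ofNat 0, Int.ofNat 0, Int.ofNat 0, Int.ofNat 0, Int.ofNat 0, Int.ofNat 0, Int.negSucc 1, Int.negSucc 1, Int.negSucc 1, Int.ofNat 0, Int.ofNat 0, Int.ofNat 2, Int.negSucc 1, Int.ofNat 0, Int.ofNat 0, Int.ofNat 0, Int.ofNat 0, Int.ofNat 0, Int.ofNat 0],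
  [Int.ofNat 0, Int.ofNat 0, Int.ofNat 2, Int.ofNat 2, Int.ofNat 0, Int.ofNat 0, Int.ofNat 0, Int.ofNat 0, Int.ofNat 2, Int.ofNat 0, Int.ofNat 0, Int.ofNat 0, Int.ofNat 0, Int.negSucc 1, Int.ofNat 0, Int.ofNat 0, Int.ofNat 2, Int.negSucc 1, Int.ofNat 2, Int.ofNat 0, Int.ofNat 0, Int.ofNat 0, Int.ofNat 0, Int.ofNat 2],
  [Int.ofNat 0, Int.ofNat 0, Int.ofNat 0, Int.ofNat 2, Int.ofNat 2, Int.ofNat 0, Int.ofNat 2, Int.ofNat 0, Int.ofNat 0, Int.negSucc 1, Int.ofNat 0, Int.negSucc 1, Int.ofNat 0, Int.ofNat 2, Int.ofNat 0, Int.ofNat 0, Int.ofNat 2, Int.ofNat 0, Int.ofNat 0, Int.ofNat 0, Int.ofNat 0, Int.ofNat 0, Int.ofNat 0, Int.ofNat 2],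
  [Int.ofNat 1, Int.ofNat 1, Int.ofNat 1, Int.ofNat 1, Int.negSucc 0, Int.negSucc 0, Int.ofNat 1, Int.negSucc 0, Int.ofNat 1, Int.negSucc 0, Int.ofNat 1, Int.negSucc 0, Int.ofNat 1, Int.negSucc 0, Int.negSucc 0, Int.ofNat 1, Int.negSucc 0, Int.negSucc 0, Int.ofNat 1, Int.negSucc 0, Int.ofNat 1, Int.negSucc 0, Int.negSucc 2, Int.negSucc 0],
  [Int.ofNat 1, Int.ofNat 1, Int.negSucc 0, Int.ofNat 1, Int.negSucc 0, Int.ofNat 1, Int.negSucc 0, Int.negSucc 0, Int.ofNat 1, Int.ofNat 1, Int.negSucc 0, Int.negSucc 0, Int.ofNat 1, Int.negSucc 0, Int.negSucc 0, Int.negSucc 0, Int.negSucc 0, Int.negSucc 0, Int.negSucc 0, Int.negSucc 0, Int.ofNat 1, Int.negSucc 0, Int.ofNat 3, Int.negSucc 0],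
  [Int.negSucc 0, Int.negSucc 0, Int.negSucc 0, Int.ofNat 1, Int.negSucc 0, Int.ofNat 3, Int.negSucc 0, Int.negSucc 0, Int.ofNat 1, Int.ofNat 1, Int.negSucc 0, Int.negSucc 0, Int.ofNat 1, Int.negSucc 0, Int.ofNat 1, Int.ofNat 1, Int.negSucc 0, Int.negSucc 0, Int.negSucc 0, Int.ofNat 1, Int.negSucc 0, Int.ofNat 1, Int.negSucc 0, Int.negSucc 0],
  [Int.negSucc 0, Int.negSucc 0, Int.ofNat 1, Int.ofNat 1, Int.negSucc 0, Int.negSucc 2, Int.ofNat 1, Int.negSucc 0, Int.ofNat 1, Int.negSucc 0, Int.ofNat 1, Int.negSucc 0, Int.ofNat 1, Int.negSucc 0, Int.ofNat 1, Int.negSucc 0, Int.negSucc 0, Int.negSucc 0, Int.ofNat 1, Int.ofNat 1, Int.negSucc 0, Int.ofNat 1, Int.ofNat 1, Int.negSucc 0],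
  [Int.ofNat 0, Int.ofNat 0, Int.negSucc 1, Int.ofNat 2, Int.ofNat 0, Int.negSucc 1, Int.ofNat 0, Int.negSucc 1, Int.ofNat 0, Int.ofNat 0, Int.ofNat 2, Int.negSucc 1, Int.ofNat 0, Int.ofNat 0, Int.ofNat 2, Int.ofNat 0, Int.ofNat 0, Int.ofNat 0, Int.ofNat 0, Int.ofNat 0, Int.ofNat 0, Int.ofNat 0, Int.ofNat 2, Int.ofNat 0],
  [Int.ofNat 0, Int.ofNat 0, Int.ofNat 0, Int.ofNat 2, Int.negSucc 1, Int.ofNat 0, Int.ofNat 0, Int.negSucc 1, Int.ofNat 0, Int.ofNat 0, Int.negSucc 1, Int.ofNat 0, Int.ofNat 0, Int.ofNat 0, Int.ofNat 0, Int.ofNat 0, Int.ofNat 0, Int.negSucc 1, Int.ofNat 0, Int.ofNat 2, Int.ofNat 2, Int.ofNat 0, Int.ofNat 2, Int.ofNat 0],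
  [Int.ofNat 0, Int.ofNat 0, Int.ofNat 0, Int.ofNat 2, Int.negSucc 1, Int.ofNat 0, Int.ofNat 0, Int.negSucc 1, Int.ofNat 0, Int.ofNat 0, Int.negSucc 1, Int.ofNat 0, Int.ofNat 0, Int.ofNat 0, Int.ofNat 0, Int.ofNat 0, Int.ofNat 0, Int.negSucc 1, Int.ofNat 0, Int.ofNat 2, Int.ofNat 2, Int.ofNat 0, Int.ofNat 2, Int.ofNat 0],
  [Int.ofNat 2, Int.ofNat 0, Int.ofNat 2, Int.ofNat 0, Int.ofNat 0, Int.ofNat 0, Int.ofNat 2, Int.negSucc 1, Int.ofNat 0, Int.ofNat 0, Int.negSucc 1, Int.ofNat 0, Int.ofNat 0, Int.negSucc 1, Int.ofNat 0, Int.ofNat 0, Int.ofNat 0, Int.ofNat 0, Int.ofNat 0, Int.ofNat 0, Int.negSucc 1, Int.ofNat 0, Int.ofNat 2, Int.ofNat 0],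
  [Int.ofNat 0, Int.ofNat 2, Int.ofNat 0, Int.ofNat 0, Int.ofNat 0, Int.ofNat 0, Int.ofNat 2, Int.negSucc 1, Int.ofNat 0, Int.ofNat 2, Int.ofNat 0, Int.ofNat 0, Int.ofNat 0, Int.negSucc 1, Int.ofNat 0, Int.ofNat 2, Int.ofNat 0, Int.ofNat 0, Int.ofNat 0, Int.ofNat 0, Int.ofNat 0, Int.ofNat 0, Int.ofNat 2, Int.ofNat 2],
  [Int.ofNat 2, Int.ofNat 0, Int.ofNat 0, Int.ofNat 0, Int.ofNat 0, Int.ofNat 2, Int.negSucc 1, Int.ofNat 0, Int.ofNat 2, Int.ofNat 0, Int.ofNat 0, Int.ofNat 0, Int.negSucc 1, Int.ofNat 0, Int.ofNat 2, Int.ofNat 0, Int.ofNat 0, Int.ofNat 0, Int.ofNat 0, Int.ofNat 0, Int.ofNat 0, Int.ofNat 2, Int.ofNat 0, Int.ofNat 2],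
  [Int.negSucc 1, Int.ofNat 0, Int.ofNat 0, Int.ofNat 0, Int.ofNat 0, Int.ofNat 2, Int.negSucc 1, Int.ofNat 0, Int.ofNat 2, Int.ofNat 0, Int.ofNat 0, Int.ofNat 0, Int.negSucc 1, Int.ofNat 0, Int.ofNat 2, Int.ofNat 0, Int.ofNat 0, Int.ofNat 0, Int.ofNat 0, Int.ofNat 0, Int.ofNat 0, Int.negSucc 1, Int.ofNat 0, Int.ofNat 2],
  [Int.negSucc 1, Int.ofNat 0, Int.ofNat 0, Int.ofNat 0, Int.ofNat 0, Int.ofNat 0, Int.ofNat 0, Int.ofNat 0, Int.ofNat 0, Int.ofNat 0, Int.negSucc 1, Int.ofNat 2, Int.ofNat 0, Int.ofNat 2, Int.ofNat 0, Int.ofNat 0, Int.negSucc 1, Int.ofNat 0, Int.negSucc 1, Int.ofNat 0, Int.ofNat 2, Int.ofNat 0, Int.ofNat 0, Int.ofNat 2],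
  [Int.ofNat 2, Int.ofNat 0, Int.ofNat 0, Int.ofNat 0, Int.ofNat 0, Int.ofNat 0, Int.ofNat 0, Int.ofNat 0, Int.ofNat 0, Int.ofNat 0, Int.ofNat 2, Int.negSucc 1, Int.ofNat 0, Int.ofNat 2, Int.ofNat 0, Int.ofNat 0, Int.negSucc 1, Int.ofNat 0, Int.ofNat 2, Int.ofNat 0, Int.ofNat 2, Int.ofNat 0, Int.ofNat 0, Int.ofNat 2],
  [Int.ofNat 0, Int.ofNat 2, Int.ofNat 0, Int.ofNat 0, Int.ofNat 0, Int.ofNat 0, Int.ofNat 0, Int.ofNat 0, Int.ofNat 0, Int.ofNat 0, Int.ofNat 0, Int.ofNat 2, Int.negSucc 1, Int.ofNat 0, Int.ofNat 2, Int.ofNat 0, Int.ofNat 0, Int.negSucc 1, Int.ofNat 0, Int.ofNat 2, Int.ofNat 0, Int.ofNat 2, Int.ofNat 0, Int.ofNat 2],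
  [Int.ofNat 2, Int.ofNat 0, Int.ofNat 2, Int.ofNat 0, Int.ofNat 0, Int.ofNat 0, Int.negSucc 1, Int.negSucc 1, Int.ofNat 0, Int.ofNat 0, Int.ofNat 0, Int.ofNat 2, Int.negSucc 1, Int.ofNat 0, Int.ofNat 2, Int.ofNat 0, Int.ofNat 0, Int.negSucc 1, Int.ofNat 0, Int.ofNat 0, Int.ofNat 0, Int.ofNat 0, Int.ofNat 0, Int.ofNat 0],
  [Int.ofNat 0, Int.ofNat 0, Int.ofNat 0, Int.negSucc 1, Int.negSucc 1, Int.ofNat 0, Int.ofNat 0, Int.ofNat 0, Int.ofNat 2, Int.negSucc 1, Int.ofNat 0, Int.ofNat 2, Int.ofNat 0, Int.ofNat 0, Int.negSucc 1, Int.ofNat 0, Int.ofNat 0, Int.ofNat 0, Int.ofNat 0, Int.ofNat 0, Int.ofNat 2, Int.ofNat 0, Int.ofNat 2, Int.ofNat 0],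
  [Int.ofNat 0, Int.ofNat 0, Int.ofNat 0, Int.ofNat 0, Int.negSucc 1, Int.ofNat 2, Int.ofNat 0, Int.ofNat 0, Int.ofNat 0, Int.negSucc 1, Int.ofNat 0, Int.ofNat 0, Int.negSucc 1, Int.ofNat 0, Int.ofNat 0, Int.ofNat 0, Int.ofNat 0, Int.ofNat 2, Int.negSucc 1, Int.ofNat 0, Int.ofNat 2, Int.ofNat 0, Int.ofNat 2, Int.ofNat 0],
  [Int.ofNat 0, Int.ofNat 0, Int.negSucc 1, Int.ofNat 0, Int.negSucc 1, Int.ofNat 0, Int.ofNat 0, Int.ofNat 0, Int.negSucc 1, Int.ofNat 0, Int.ofNat 2, Int.ofNat 2, Int.negSucc 1, Int.ofNat 0, Int.ofNat 2, Int.ofNat 0, Int.ofNat 0, Int.ofNat 0, Int.ofNat 0, Int.ofNat 0, Int.ofNat 0, Int.ofNat 2, Int.ofNat 0, Int.ofNat 0],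
  [Int.negSucc 0, Int.negSucc 0, Int.ofNat 1, Int.negSucc 0, Int.negSucc 0, Int.negSucc 0, Int.negSucc 0, Int.negSucc 0, Int.negSucc 0, Int.negSucc 0, Int.ofNat 1, Int.ofNat 3, Int.negSucc 0, Int.ofNat 1, Int.ofNat 1, Int.negSucc 0, Int.ofNat 1, Int.negSucc 0, Int.ofNat 1, Int.negSucc 0, Int.negSucc 0, Int.ofNat 1, Int.ofNat 1, Int.negSucc 0],
  [Int.negSucc 0, Int.negSucc 0, Int.negSucc 0, Int.negSucc 0, Int.negSucc 0, Int.ofNat 1, Int.ofNat 1, Int.negSucc 0, Int.negSucc 0, Int.ofNat 1, Int.negSucc 0, Int.ofNat 3, Int.negSucc 0, Int.ofNat 1, Int.ofNat 1, Int.ofNat 1, Int.ofNat 1, Int.negSucc 0, Int.negSucc 0, Int.negSucc 0, Int.negSucc 0, Int.ofNat 1, Int.negSucc 0, Int.negSucc 0],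
  [Int.negSucc 0, Int.ofNat 1, Int.ofNat 3, Int.negSucc 0, Int.ofNat 1, Int.ofNat 1, Int.ofNat 1, Int.negSucc 0, Int.ofNat 1, Int.negSucc 0, Int.ofNat 1, Int.negSucc 0, Int.ofNat 1, Int.negSucc 0, Int.negSucc 0, Int.negSucc 0, Int.negSucc 0, Int.negSucc 0, Int.ofNat 1, Int.negSucc 0, Int.negSucc 0, Int.negSucc 0, Int.negSucc 0, Int.negSucc 0],
  [Int.ofNat 1, Int.negSucc 0, Int.negSucc 2, Int.ofNat 1, Int.negSucc 0, Int.ofNat 1, Int.negSucc 0, Int.negSucc 0, Int.negSucc 0, Int.ofNat 1, Int.ofNat 1, Int.negSucc 0, Int.negSucc 0, Int.ofNat 1, Int.negSucc 0, Int.negSucc 0, Int.ofNat 1, Int.negSucc 0, Int.negSucc 0, Int.negSucc 0, Int.negSucc 0, Int.negSucc 0, Int.negSucc 0, Int.negSucc 0],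
  [Int.negSucc 0, Int.negSucc 0, Int.negSucc 0, Int.negSucc 0, Int.negSucc 0, Int.ofNat 1, Int.negSucc 0, Int.ofNat 1, Int.negSucc 0, Int.ofNat 1, Int.ofNat 1, Int.negSucc 2, Int.negSucc 0, Int.negSucc 0, Int.negSucc 0, Int.ofNat 1, Int.ofNat 1, Int.negSucc 0, Int.negSucc 0, Int.negSucc 0, Int.negSucc 0, Int.negSucc 0, Int.negSucc 0, Int.ofNat 1],
  [Int.ofNat 1, Int.negSucc 0, Int.ofNat 1, Int.negSucc 0, Int.negSucc 0, Int.ofNat 1, Int.negSucc 0, Int.negSucc 0, Int.negSucc 0, Int.negSucc 0, Int.negSucc 0, Int.ofNat 3, Int.negSucc 0, Int.negSucc 0, Int.negSucc 0, Int.ofNat 1, Int.ofNat 1, Int.negSucc 0, Int.ofNat 1, Int.negSucc 0, Int.negSucc 0, Int.ofNat 1, Int.negSucc 0, Int.ofNat 1],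
  [Int.negSucc 0, Int.ofNat 1, Int.negSucc 0, Int.ofNat 1, Int.negSucc 0, Int.negSucc 0, Int.ofNat 1, Int.negSucc 0, Int.negSucc 0, Int.negSucc 0, Int.negSucc 0, Int.negSucc 0, Int.ofNat 3, Int.negSucc 0, Int.negSucc 0, Int.negSucc 0, Int.ofNat 1, Int.ofNat 1, Int.negSucc 0, Int.ofNat 1, Int.negSucc 0, Int.negSucc 0, Int.ofNat 1, Int.ofNat 1],
  [Int.ofNat 1, Int.negSucc 0, Int.ofNat 1, Int.ofNat 1, Int.negSucc 0, Int.negSucc 0, Int.ofNat 1, Int.negSucc 0, Int.negSucc 0, Int.ofNat 1, Int.ofNat 1, Int.negSucc 0, Int.ofNat 3, Int.negSucc 0, Int.negSucc 0, Int.ofNat 1, Int.ofNat 1, Int.ofNat 1, Int.negSucc 0, Int.ofNat 1, Int.ofNat 1, Int.negSucc 0, Int.ofNat 1, Int.negSucc 0],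
  [Int.ofNat 1, Int.negSucc 0, Int.negSucc 0, Int.ofNat 1, Int.negSucc 0, Int.negSucc 0, Int.ofNat 1, Int.ofNat 1, Int.negSucc 0, Int.ofNat 3, Int.negSucc 0, Int.negSucc 0, Int.ofNat 1, Int.ofNat 1, Int.ofNat 1, Int.negSucc 0, Int.ofNat 1, Int.ofNat 1, Int.negSucc 0, Int.ofNat 1, Int.ofNat 1, Int.negSucc 0, Int.ofNat 1, Int.negSucc 0],
  [Int.negSucc 1, Int.ofNat 0, Int.ofNat 0, Int.ofNat 0, Int.negSucc 1, Int.negSucc 1, Int.ofNat 0, Int.ofNat 0, Int.ofNat 0, Int.ofNat 2, Int.negSucc 1, Int.ofNat 0, Int.ofNat 2, Int.ofNat 0, Int.ofNat 0, Int.negSucc 1, Int.ofNat 0, Int.ofNat 0, Int.ofNat 0, Int.ofNat 0, Int.ofNat 0, Int.negSucc 1, Int.ofNat 0, Int.ofNat 0],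
  [Int.negSucc 1, Int.ofNat 0, Int.negSucc 1, Int.ofNat 0, Int.ofNat 0, Int.ofNat 0, Int.ofNat 0, Int.negSucc 1, Int.ofNat 2, Int.ofNat 0, Int.ofNat 0, Int.ofNat 0, Int.ofNat 2, Int.ofNat 0, Int.ofNat 0, Int.negSucc 1, Int.ofNat 0, Int.ofNat 0, Int.ofNat 0, Int.ofNat 0, Int.negSucc 1, Int.negSucc 1, Int.ofNat 0, Int.ofNat 0],
  [Int.ofNat 0, Int.negSucc 1, Int.ofNat 0, Int.ofNat 0, Int.ofNat 0, Int.ofNat 0, Int.ofNat 2, Int.ofNat 0, Int.ofNat 0, Int.ofNat 2, Int.ofNat 2, Int.negSucc 1, Int.ofNat 0, Int.ofNat 0, Int.ofNat 0, Int.ofNat 0, Int.ofNat 0, Int.ofNat 0, Int.negSucc 1, Int.ofNat 2, Int.ofNat 0, Int.ofNat 0, Int.ofNat 0, Int.negSucc 1],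
  [Int.ofNat 0, Int.negSucc 1, Int.ofNat 0, Int.ofNat 0, Int.ofNat 0, Int.ofNat 0, Int.negSucc 1, Int.ofNat 0, Int.ofNat 0, Int.negSucc 1, Int.negSucc 1, Int.negSucc 1, Int.ofNat 0, Int.ofNat 0, Int.ofNat 0, Int.ofNat 0, Int.ofNat 0, Int.ofNat 0, Int.ofNat 2, Int.ofNat 2, Int.ofNat 0, Int.ofNat 0, Int.ofNat 0, Int.negSucc 1],
  [Int.ofNat 0, Int.ofNat 0, Int.ofNat 0, Int.negSucc 1, Int.ofNat 0, Int.ofNat 0, Int.ofNat 0, Int.negSucc 1, Int.ofNat 0, Int.ofNat 0, Int.ofNat 0, Int.ofNat 2, Int.ofNat 0, Int.ofNat 0, Int.negSucc 1, Int.ofNat 0, Int.ofNat 2, Int.negSucc 1, Int.ofNat 0, Int.ofNat 0, Int.negSucc 1, Int.ofNat 0, Int.ofNat 0, Int.negSucc 1],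
  [Int.ofNat 0, Int.ofNat 0, Int.ofNat 0, Int.negSucc 1, Int.ofNat 0, Int.ofNat 0, Int.ofNat 0, Int.negSucc 1, Int.ofNat 0, Int.ofNat 0, Int.ofNat 0, Int.ofNat 2, Int.ofNat 0, Int.ofNat 0, Int.negSucc 1, Int.ofNat 0, Int.ofNat 2, Int.negSucc 1, Int.ofNat 0, Int.ofNat 0, Int.negSucc 1, Int.ofNat 0, Int.ofNat 0, Int.negSucc 1],
  [Int.negSucc 0, Int.negSucc 0, Int.negSucc 0, Int.ofNat 1, Int.negSucc 0, Int.ofNat 3, Int.ofNat 1, Int.negSucc 0, Int.negSucc 0, Int.ofNat 1, Int.ofNat 1, Int.ofNat 1, Int.negSucc 0, Int.negSucc 0, Int.ofNat 1, Int.ofNat 1, Int.ofNat 1, Int.ofNat 1, Int.negSucc 0, Int.ofNat 1, Int.negSucc 0, Int.ofNat 1, Int.negSucc 0, Int.ofNat 1],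
  [Int.negSucc 0, Int.negSucc 0, Int.ofNat 1, Int.ofNat 1, Int.negSucc 0, Int.ofNat 1, Int.negSucc 0, Int.ofNat 3, Int.ofNat 1, Int.negSucc 0, Int.negSucc 0, Int.ofNat 1, Int.negSucc 0, Int.ofNat 1, Int.ofNat 1, Int.ofNat 1, Int.negSucc 0, Int.ofNat 1, Int.negSucc 0, Int.negSucc 0, Int.ofNat 1, Int.negSucc 0, Int.ofNat 1, Int.ofNat 1],
  [Int.ofNat 1, Int.ofNat 1, Int.negSucc 0, Int.negSucc 0, Int.negSucc 0, Int.negSucc 0, Int.negSucc 0, Int.ofNat 3, Int.ofNat 1, Int.negSucc 0, Int.negSucc 0, Int.ofNat 1, Int.negSucc 0, Int.ofNat 1, Int.negSucc 0, Int.ofNat 1, Int.negSucc 0, Int.negSucc 0, Int.negSucc 0, Int.negSucc 0, Int.ofNat 1, Int.negSucc 0, Int.ofNat 1, Int.negSucc 0],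
  [Int.ofNat 1, Int.negSucc 0, Int.ofNat 1, Int.ofNat 1, Int.ofNat 1, Int.negSucc 0, Int.negSucc 0, Int.negSucc 0, Int.negSucc 0, Int.negSucc 0, Int.ofNat 3, Int.ofNat 1, Int.negSucc 0, Int.negSucc 0, Int.ofNat 1, Int.negSucc 0, Int.ofNat 1, Int.negSucc 0, Int.ofNat 1, Int.negSucc 0, Int.negSucc 0, Int.negSucc 0, Int.negSucc 0, Int.negSucc 0],
  [Int.negSucc 0, Int.ofNat 1, Int.negSucc 0, Int.ofNat 1, Int.ofNat 1, Int.negSucc 0, Int.ofNat 1, Int.ofNat 1, Int.negSucc 0, Int.negSucc 0, Int.ofNat 3, Int.ofNat 1, Int.negSucc 0, Int.negSucc 0, Int.ofNat 1, Int.negSucc 0, Int.ofNat 1, Int.negSucc 0, Int.ofNat 1, Int.ofNat 1, Int.negSucc 0, Int.ofNat 1, Int.negSucc 0, Int.ofNat 1],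
  [Int.ofNat 1, Int.negSucc 0, Int.ofNat 1, Int.ofNat 1, Int.negSucc 0, Int.ofNat 1, Int.ofNat 1, Int.negSucc 0, Int.negSucc 0, Int.ofNat 3, Int.ofNat 1, Int.negSucc 0, Int.negSucc 0, Int.ofNat 1, Int.negSucc 0, Int.ofNat 1, Int.negSucc 0, Int.ofNat 1, Int.ofNat 1, Int.negSucc 0, Int.ofNat 1, Int.negSucc 0, Int.negSucc 0, Int.ofNat 1],
  [Int.negSucc 0, Int.negSucc 0, Int.negSucc 0, Int.ofNat 1, Int.negSucc 0, Int.ofNat 1, Int.ofNat 1, Int.ofNat 1, Int.negSucc 0, Int.negSucc 2, Int.negSucc 0, Int.ofNat 1, Int.negSucc 0, Int.ofNat 1, Int.negSucc 0, Int.ofNat 1, Int.negSucc 0, Int.ofNat 1, Int.negSucc 0, Int.negSucc 0, Int.ofNat 1, Int.ofNat 1, Int.negSucc 0, Int.ofNat 1],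
  [Int.negSucc 0, Int.negSucc 0, Int.negSucc 0, Int.ofNat 1, Int.negSucc 0, Int.negSucc 0, Int.negSucc 0, Int.ofNat 1, Int.negSucc 2, Int.negSucc 0, Int.ofNat 1, Int.negSucc 0, Int.ofNat 1, Int.negSucc 0, Int.negSucc 0, Int.ofNat 1, Int.negSucc 0, Int.negSucc 0, Int.ofNat 1, Int.ofNat 1, Int.ofNat 1, Int.ofNat 1, Int.ofNat 1, Int.ofNat 1],
  [Int.ofNat 1, Int.negSucc 0, Int.ofNat 1, Int.ofNat 1, Int.negSucc 0, Int.negSucc 0, Int.negSucc 0, Int.negSucc 0, Int.negSucc 2, Int.ofNat 1, Int.negSucc 0, Int.ofNat 1, Int.ofNat 1, Int.negSucc 0, Int.negSucc 0, Int.ofNat 1, Int.negSucc 0, Int.negSucc 0, Int.negSucc 0, Int.ofNat 1, Int.ofNat 1, Int.negSucc 0, Int.ofNat 1, Int.ofNat 1],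
  [Int.ofNat 1, Int.ofNat 1, Int.negSucc 0, Int.ofNat 1, Int.ofNat 1, Int.negSucc 0, Int.negSucc 0, Int.negSucc 0, Int.negSucc 0, Int.negSucc 2, Int.ofNat 1, Int.negSucc 0, Int.ofNat 1, Int.ofNat 1, Int.negSucc 0, Int.negSucc 0, Int.ofNat 1, Int.negSucc 0, Int.negSucc 0, Int.negSucc 0, Int.ofNat 1, Int.ofNat 1, Int.negSucc 0, Int.ofNat 1],
  [Int.ofNat 0, Int.ofNat 0, Int.ofNat 2, Int.ofNat 2, Int.ofNat 0, Int.ofNat 0, Int.ofNat 0, Int.ofNat 0, Int.ofNat 0, Int.negSucc 1, Int.ofNat 2, Int.ofNat 0, Int.ofNat 2, Int.ofNat 0, Int.ofNat 0, Int.ofNat 0, Int.ofNat 0, Int.ofNat 0, Int.ofNat 0, Int.ofNat 0, Int.ofNat 2, Int.ofNat 2, Int.negSucc 1, Int.ofNat 0],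
  [Int.ofNat 2, Int.ofNat 0, Int.ofNat 0, Int.ofNat 0, Int.ofNat 0, Int.ofNat 0, Int.negSucc 1, Int.ofNat 2, Int.ofNat 0, Int.ofNat 2, Int.ofNat 0, Int.ofNat 0, Int.ofNat 0, Int.ofNat 0, Int.ofNat 0, Int.ofNat 0, Int.ofNat 0, Int.ofNat 2, Int.ofNat 2, Int.negSucc 1, Int.ofNat 0, Int.ofNat 0, Int.ofNat 2, Int.ofNat 0],
  [Int.negSucc 0, Int.ofNat 1, Int.ofNat 1, Int.negSucc 0, Int.negSucc 0, Int.negSucc 0, Int.negSucc 0, Int.ofNat 3, Int.negSucc 0, Int.ofNat 1, Int.negSucc 0, Int.negSucc 0, Int.negSucc 0, Int.negSucc 0, Int.negSucc 0, Int.negSucc 0, Int.negSucc 0, Int.ofNat 1, Int.ofNat 1, Int.negSucc 0, Int.negSucc 0, Int.ofNat 1, Int.ofNat 1, Int.ofNat 1],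
  [Int.negSucc 0, Int.negSucc 0, Int.negSucc 0, Int.negSucc 0, Int.ofNat 1, Int.ofNat 3, Int.ofNat 1, Int.negSucc 0, Int.negSucc 0, Int.negSucc 0, Int.negSucc 0, Int.ofNat 1, Int.ofNat 1, Int.negSucc 0, Int.ofNat 1, Int.negSucc 0, Int.negSucc 0, Int.negSucc 0, Int.ofNat 1, Int.negSucc 0, Int.ofNat 1, Int.negSucc 0, Int.negSucc 0, Int.ofNat 1],
  [Int.ofNat 0, Int.ofNat 0, Int.ofNat 0, Int.negSucc 1, Int.ofNat 2, Int.ofNat 2, Int.ofNat 2, Int.ofNat 0, Int.negSucc 1, Int.ofNat 0, Int.ofNat 0, Int.ofNat 0, Int.ofNat 0, Int.ofNat 0, Int.ofNat 0, Int.ofNat 0, Int.ofNat 0, Int.negSucc 1, Int.ofNat 0, Int.ofNat 0, Int.ofNat 2, Int.ofNat 0, Int.ofNat 0, Int.negSucc 1],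
  [Int.ofNat 0, Int.ofNat 0, Int.ofNat 0, Int.negSucc 1, Int.ofNat 2, Int.negSucc 1, Int.negSucc 1, Int.ofNat 0, Int.negSucc 1, Int.ofNat 0, Int.ofNat 0, Int.ofNat 0, Int.ofNat 0, Int.ofNat 0, Int.ofNat 0, Int.ofNat 0, Int.ofNat 0, Int.negSucc 1, Int.ofNat 0, Int.ofNat 0, Int.ofNat 2, Int.ofNat 0, Int.ofNat 0, Int.negSucc 1],
  [Int.ofNat 0, Int.ofNat 0, Int.ofNat 0, Int.negSucc 1, Int.ofNat 0, Int.negSucc 1, Int.ofNat 0, Int.negSucc 1, Int.negSucc 1, Int.ofNat 2, Int.ofNat 0, Int.ofNat 0, Int.ofNat 0, Int.ofNat 2, Int.negSucc 1, Int.ofNat 0, Int.ofNat 0, Int.ofNat 0, Int.ofNat 0, Int.ofNat 0, Int.ofNat 0, Int.ofNat 0, Int.ofNat 0, Int.negSucc 1],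
  [Int.ofNat 0, Int.ofNat 0, Int.ofNat 0, Int.ofNat 2, Int.ofNat 0, Int.negSucc 1, Int.ofNat 0, Int.negSucc 1, Int.ofNat 2, Int.negSucc 1, Int.ofNat 0, Int.ofNat 0, Int.ofNat 0, Int.negSucc 1, Int.negSucc 1, Int.ofNat 0, Int.ofNat 0, Int.ofNat 0, Int.ofNat 0, Int.ofNat 0, Int.ofNat 0, Int.ofNat 0, Int.ofNat 0, Int.negSucc 1],
  [Int.negSucc 1, Int.ofNat 0, Int.ofNat 0, Int.ofNat 0, Int.ofNat 0, Int.negSucc 1, Int.ofNat 0, Int.negSucc 1, Int.ofNat 0, Int.negSucc 1, Int.ofNat 0, Int.ofNat 0, Int.ofNat 0, Int.negSucc 1, Int.ofNat 0, Int.ofNat 2, Int.ofNat 0, Int.ofNat 0, Int.negSucc 1, Int.ofNat 0, Int.ofNat 2, Int.ofNat 0, Int.ofNat 0, Int.ofNat 0],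
  [Int.ofNat 2, Int.ofNat 0, Int.ofNat 0, Int.ofNat 0, Int.ofNat 0, Int.negSucc 1, Int.ofNat 0, Int.ofNat 2, Int.ofNat 0, Int.ofNat 2, Int.ofNat 0, Int.ofNat 0, Int.ofNat 0, Int.negSucc 1, Int.ofNat 0, Int.ofNat 2, Int.ofNat 0, Int.ofNat 0, Int.ofNat 2, Int.ofNat 0, Int.ofNat 2, Int.ofNat 0, Int.ofNat 0, Int.ofNat 0],
  [Int.ofNat 0, Int.ofNat 2, Int.ofNat 0, Int.ofNat 0, Int.ofNat 0, Int.ofNat 0, Int.negSucc 1, Int.ofNat 0, Int.ofNat 2, Int.ofNat 0, Int.ofNat 2, Int.ofNat 0, Int.ofNat 0, Int.ofNat 0, Int.negSucc 1, Int.ofNat 0, Int.ofNat 2, Int.ofNat 0, Int.ofNat 0, Int.ofNat 2, Int.ofNat 0, Int.ofNat 2, Int.ofNat 0, Int.ofNat 0],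
  [Int.ofNat 1, Int.negSucc 0, Int.ofNat 1, Int.ofNat 1, Int.negSucc 0, Int.ofNat 1, Int.negSucc 2, Int.negSucc 0, Int.ofNat 1, Int.negSucc 0, Int.ofNat 1, Int.negSucc 0, Int.negSucc 0, Int.negSucc 0, Int.negSucc 0, Int.negSucc 0, Int.ofNat 1, Int.ofNat 1, Int.negSucc 0, Int.ofNat 1, Int.negSucc 0, Int.ofNat 1, Int.negSucc 0, Int.ofNat 1],
  [Int.ofNat 1, Int.negSucc 0, Int.ofNat 1, Int.negSucc 2, Int.negSucc 0, Int.ofNat 1, Int.negSucc 0, Int.ofNat 1, Int.negSucc 0, Int.negSucc 0, Int.negSucc 0, Int.negSucc 0, Int.negSucc 0, Int.ofNat 1, Int.ofNat 1, Int.negSucc 0, Int.ofNat 1, Int.negSucc 0, Int.ofNat 1, Int.negSucc 0, Int.ofNat 1, Int.negSucc 0, Int.ofNat 1, Int.ofNat 1],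
  [Int.ofNat 0, Int.ofNat 2, Int.ofNat 0, Int.negSucc 1, Int.negSucc 1, Int.ofNat 2, Int.ofNat 0, Int.ofNat 2, Int.ofNat 0, Int.ofNat 0, Int.ofNat 0, Int.ofNat 0, Int.ofNat 0, Int.ofNat 0, Int.ofNat 2, Int.ofNat 0, Int.ofNat 0, Int.ofNat 0, Int.ofNat 2, Int.ofNat 0, Int.ofNat 2, Int.ofNat 0, Int.ofNat 0, Int.ofNat 0],
  [Int.ofNat 0, Int.ofNat 0, Int.negSucc 1, Int.negSucc 1, Int.ofNat 2, Int.ofNat 2, Int.ofNat 0, Int.ofNat 0, Int.ofNat 0, Int.ofNat 0, Int.ofNat 2, Int.ofNat 0, Int.ofNat 0, Int.ofNat 0, Int.ofNat 0, Int.ofNat 0, Int.ofNat 0, Int.ofNat 2, Int.ofNat 2, Int.ofNat 0, Int.ofNat 0, Int.ofNat 2, Int.ofNat 0, Int.ofNat 0],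
  [Int.negSucc 0, Int.negSucc 0, Int.ofNat 1, Int.negSucc 2, Int.ofNat 1, Int.ofNat 1, Int.negSucc 0, Int.negSucc 0, Int.negSucc 0, Int.negSucc 0, Int.ofNat 1, Int.negSucc 0, Int.negSucc 0, Int.negSucc 0, Int.negSucc 0, Int.negSucc 0, Int.negSucc 0, Int.ofNat 1, Int.ofNat 1, Int.negSucc 0, Int.negSucc 0, Int.ofNat 1, Int.negSucc 0, Int.negSucc 0],
  [Int.negSucc 0, Int.negSucc 0, Int.negSucc 0, Int.negSucc 2, Int.ofNat 1, Int.negSucc 0, Int.ofNat 1, Int.negSucc 0, Int.negSucc 0, Int.ofNat 1, Int.negSucc 0, Int.negSucc 0, Int.negSucc 0, Int.negSucc 0, Int.negSucc 0, Int.ofNat 1, Int.negSucc 0, Int.ofNat 1, Int.negSucc 0, Int.negSucc 0, Int.negSucc 0, Int.ofNat 1, Int.ofNat 1, Int.negSucc 0],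
  [Int.negSucc 0, Int.ofNat 1, Int.negSucc 0, Int.negSucc 0, Int.negSucc 0, Int.ofNat 1, Int.negSucc 0, Int.negSucc 0, Int.negSucc 0, Int.negSucc 0, Int.ofNat 1, Int.negSucc 0, Int.negSucc 0, Int.negSucc 0, Int.ofNat 1, Int.negSucc 0, Int.negSucc 0, Int.ofNat 1, Int.ofNat 1, Int.negSucc 2, Int.negSucc 0, Int.negSucc 0, Int.ofNat 1, Int.negSucc 0],
  [Int.negSucc 0, Int.ofNat 1, Int.ofNat 1, Int.negSucc 0, Int.negSucc 0, Int.negSucc 0, Int.ofNat 1, Int.negSucc 0, Int.negSucc 0, Int.ofNat 1, Int.negSucc 0, Int.negSucc 0, Int.negSucc 0, Int.negSucc 0, Int.ofNat 1, Int.ofNat 1, Int.negSucc 0, Int.ofNat 1, Int.negSucc 0, Int.negSucc 2, Int.negSucc 0, Int.negSucc 0, Int.negSucc 0, Int.negSucc 0],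
  [Int.ofNat 1, Int.negSucc 0, Int.negSucc 0, Int.negSucc 0, Int.ofNat 1, Int.negSucc 0, Int.ofNat 3, Int.ofNat 1, Int.ofNat 1, Int.ofNat 1, Int.negSucc 0, Int.ofNat 1, Int.ofNat 1, Int.ofNat 1, Int.ofNat 1, Int.ofNat 1, Int.ofNat 1, Int.ofNat 1, Int.ofNat 1, Int.negSucc 0, Int.negSucc 0, Int.ofNat 1, Int.ofNat 1, Int.ofNat 1],
  [Int.ofNat 1, Int.ofNat 1, Int.ofNat 3, Int.negSucc 0, Int.negSucc 0, Int.ofNat 1, Int.negSucc 0, Int.negSucc 0, Int.ofNat 1, Int.ofNat 1, Int.ofNat 1, Int.negSucc 0, Int.ofNat 1, Int.ofNat 1, Int.ofNat 1, Int.ofNat 1, Int.ofNat 1, Int.ofNat 1, Int.ofNat 1, Int.ofNat 1, Int.negSucc 0, Int.negSucc 0, Int.ofNat 1, Int.ofNat 1],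
  [Int.ofNat 2, Int.ofNat 2, Int.ofNat 0, Int.negSucc 1, Int.negSucc 1, Int.ofNat 0, Int.ofNat 0, Int.ofNat 0, Int.ofNat 0, Int.ofNat 0, Int.ofNat 0, Int.negSucc 1, Int.ofNat 0, Int.ofNat 0, Int.ofNat 0, Int.ofNat 0, Int.ofNat 0, Int.ofNat 0, Int.ofNat 0, Int.ofNat 2, Int.negSucc 1, Int.ofNat 0, Int.ofNat 0, Int.ofNat 2],
  [Int.negSucc 1, Int.ofNat 0, Int.ofNat 0, Int.ofNat 2, Int.ofNat 2, Int.ofNat 0, Int.negSucc 1, Int.negSucc 1, Int.ofNat 0, Int.ofNat 0, Int.ofNat 0, Int.ofNat 0, Int.ofNat 0, Int.ofNat 0, Int.negSucc 1, Int.ofNat 0, Int.ofNat 0, Int.ofNat 0, Int.ofNat 0, Int.ofNat 0, Int.ofNat 0, Int.ofNat 0, Int.ofNat 2, Int.ofNat 2],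
  [Int.ofNat 2, Int.ofNat 0, Int.ofNat 0, Int.ofNat 2, Int.ofNat 0, Int.ofNat 0, Int.ofNat 0, Int.ofNat 0, Int.ofNat 0, Int.ofNat 0, Int.ofNat 0, Int.ofNat 0, Int.ofNat 0, Int.negSucc 1, Int.negSucc 1, Int.ofNat 0, Int.negSucc 1, Int.ofNat 0, Int.ofNat 0, Int.ofNat 2, Int.ofNat 0, Int.ofNat 2, Int.ofNat 0, Int.negSucc 1],
  [Int.ofNat 0, Int.ofNat 0, Int.ofNat 2, Int.ofNat 0, Int.ofNat 0, Int.ofNat 0, Int.ofNat 0, Int.ofNat 0, Int.ofNat 0, Int.ofNat 0, Int.ofNat 0, Int.ofNat 0, Int.negSucc 1, Int.negSucc 1, Int.ofNat 0, Int.negSucc 1, Int.ofNat 0, Int.ofNat 0, Int.ofNat 2, Int.ofNat 0, Int.ofNat 2, Int.ofNat 0, Int.ofNat 2, Int.negSucc 1],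
  [Int.ofNat 0, Int.ofNat 0, Int.negSucc 1, Int.ofNat 0, Int.ofNat 0, Int.ofNat 0, Int.ofNat 0, Int.ofNat 0, Int.ofNat 0, Int.ofNat 0, Int.ofNat 0, Int.ofNat 0, Int.negSucc 1, Int.negSucc 1, Int.ofNat 0, Int.negSucc 1, Int.ofNat 0, Int.ofNat 0, Int.negSucc 1, Int.ofNat 0, Int.ofNat 2, Int.ofNat 0, Int.ofNat 2, Int.negSucc 1],
  [Int.ofNat 0, Int.negSucc 1, Int.negSucc 1, Int.ofNat 0, Int.ofNat 0, Int.ofNat 0, Int.ofNat 0, Int.ofNat 2, Int.ofNat 0, Int.ofNat 0, Int.ofNat 0, Int.ofNat 0, Int.negSucc 1, Int.ofNat 0, Int.ofNat 0, Int.negSucc 1, Int.negSucc 1, Int.ofNat 2, Int.ofNat 0, Int.ofNat 0, Int.ofNat 0, Int.ofNat 0, Int.ofNat 0, Int.negSucc 1],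
  [Int.ofNat 0, Int.negSucc 1, Int.ofNat 2, Int.ofNat 0, Int.ofNat 0, Int.ofNat 0, Int.ofNat 0, Int.negSucc 1, Int.ofNat 0, Int.ofNat 0, Int.ofNat 0, Int.ofNat 0, Int.negSucc 1, Int.ofNat 0, Int.ofNat 0, Int.negSucc 1, Int.negSucc 1, Int.ofNat 2, Int.ofNat 0, Int.ofNat 0, Int.ofNat 0, Int.ofNat 0, Int.ofNat 0, Int.negSucc 1],
  [Int.ofNat 0, Int.ofNat 0, Int.negSucc 1, Int.ofNat 2, Int.ofNat 0, Int.ofNat 0, Int.ofNat 0, Int.ofNat 0, Int.negSucc 1, Int.ofNat 0, Int.ofNat 0, Int.ofNat 0, Int.ofNat 0, Int.negSucc 1, Int.ofNat 0, Int.ofNat 0, Int.negSucc 1, Int.negSucc 1, Int.ofNat 2, Int.ofNat 0, Int.ofNat 0, Int.ofNat 0, Int.ofNat 0, Int.negSucc 1],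
  [Int.negSucc 1, Int.negSucc 1, Int.ofNat 0, Int.ofNat 2, Int.ofNat 2, Int.ofNat 0, Int.ofNat 0, Int.ofNat 0, Int.negSucc 1, Int.ofNat 0, Int.ofNat 0, Int.ofNat 0, Int.ofNat 0, Int.ofNat 0, Int.ofNat 0, Int.ofNat 0, Int.ofNat 0, Int.negSucc 1, Int.ofNat 2, Int.ofNat 0, Int.ofNat 0, Int.ofNat 0, Int.ofNat 2, Int.ofNat 0],
  [Int.ofNat 2, Int.ofNat 2, Int.ofNat 0, Int.ofNat 0, Int.ofNat 0, Int.negSucc 1, Int.ofNat 0, Int.ofNat 0, Int.ofNat 0, Int.ofNat 0, Int.ofNat 0, Int.ofNat 0, Int.ofNat 0, Int.ofNat 0, Int.negSucc 1, Int.ofNat 2, Int.ofNat 0, Int.ofNat 0, Int.ofNat 0, Int.ofNat 2, Int.negSucc 1, Int.negSucc 1, Int.ofNat 0, Int.ofNat 0],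
  [Int.ofNat 0, Int.ofNat 0, Int.ofNat 2, Int.ofNat 2, Int.ofNat 0, Int.ofNat 0, Int.ofNat 0, Int.ofNat 0, Int.ofNat 0, Int.ofNat 0, Int.ofNat 0, Int.ofNat 0, Int.ofNat 0, Int.ofNat 0, Int.ofNat 0, Int.ofNat 2, Int.ofNat 0, Int.ofNat 2, Int.ofNat 0, Int.ofNat 2, Int.negSucc 1, Int.negSucc 1, Int.ofNat 0, Int.ofNat 2],
  [Int.ofNat 0, Int.ofNat 0, Int.ofNat 0, Int.ofNat 2, Int.ofNat 0, Int.ofNat 0, Int.ofNat 2, Int.ofNat 0, Int.ofNat 0, Int.ofNat 0, Int.negSucc 1, Int.ofNat 2, Int.ofNat 0, Int.ofNat 0, Int.ofNat 0, Int.ofNat 2, Int.ofNat 0, Int.ofNat 0, Int.ofNat 0, Int.ofNat 0, Int.negSucc 1, Int.ofNat 0, Int.ofNat 2, Int.ofNat 2],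
  [Int.ofNat 1, Int.ofNat 1, Int.ofNat 1, Int.ofNat 1, Int.negSucc 0, Int.negSucc 0, Int.ofNat 1, Int.negSucc 0, Int.negSucc 0, Int.ofNat 1, Int.negSucc 0, Int.ofNat 1, Int.negSucc 0, Int.negSucc 0, Int.negSucc 0, Int.ofNat 3, Int.negSucc 0, Int.negSucc 0, Int.negSucc 0, Int.negSucc 0, Int.negSucc 0, Int.negSucc 0, Int.ofNat 1, Int.negSucc 0],
  [Int.ofNat 1, Int.ofNat 1, Int.negSucc 0, Int.ofNat 1, Int.negSucc 0, Int.ofNat 1, Int.negSucc 0, Int.negSucc 0, Int.negSucc 0, Int.negSucc 0, Int.ofNat 1, Int.ofNat 1, Int.negSucc 0, Int.negSucc 0, Int.negSucc 0, Int.negSucc 2, Int.negSucc 0, Int.negSucc 0, Int.ofNat 1, Int.negSucc 0, Int.negSucc 0, Int.negSucc 0, Int.negSucc 0, Int.negSucc 0],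
  [Int.ofNat 1, Int.negSucc 0, Int.ofNat 1, Int.negSucc 0, Int.negSucc 0, Int.negSucc 0, Int.negSucc 0, Int.ofNat 1, Int.ofNat 1, Int.negSucc 0, Int.negSucc 0, Int.negSucc 0, Int.negSucc 2, Int.negSucc 0, Int.negSucc 0, Int.ofNat 1, Int.negSucc 0, Int.negSucc 0, Int.negSucc 0, Int.negSucc 0, Int.ofNat 1, Int.ofNat 1, Int.negSucc 0, Int.negSucc 0],
  [Int.negSucc 0, Int.ofNat 1, Int.negSucc 0, Int.ofNat 1, Int.ofNat 1, Int.negSucc 0, Int.ofNat 1, Int.ofNat 1, Int.negSucc 0, Int.ofNat 1, Int.negSucc 0, Int.negSucc 0, Int.ofNat 3, Int.ofNat 1, Int.negSucc 0, Int.ofNat 1, Int.ofNat 1, Int.negSucc 0, Int.ofNat 1, Int.negSucc 0, Int.ofNat 1, Int.ofNat 1, Int.negSucc 0, Int.negSucc 0],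
  [Int.negSucc 0, Int.negSucc 0, Int.negSucc 0, Int.ofNat 1, Int.negSucc 0, Int.ofNat 1, Int.negSucc 0, Int.ofNat 1, Int.ofNat 1, Int.negSucc 0, Int.ofNat 1, Int.negSucc 0, Int.ofNat 1, Int.ofNat 1, Int.ofNat 1, Int.ofNat 1, Int.negSucc 0, Int.ofNat 1, Int.negSucc 0, Int.ofNat 1, Int.negSucc 0, Int.ofNat 3, Int.ofNat 1, Int.negSucc 0],
  [Int.ofNat 1, Int.negSucc 0, Int.ofNat 1, Int.ofNat 1, Int.negSucc 0, Int.ofNat 1, Int.negSucc 0, Int.negSucc 0, Int.ofNat 1, Int.ofNat 1, Int.negSucc 0, Int.ofNat 1, Int.ofNat 1, Int.ofNat 1, Int.ofNat 1, Int.ofNat 1, Int.negSucc 0, Int.ofNat 1, Int.ofNat 1, Int.ofNat 1, Int.negSucc 0, Int.negSucc 2, Int.ofNat 1, Int.negSucc 0],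
  [Int.ofNat 1, Int.ofNat 1, Int.negSucc 0, Int.ofNat 1, Int.ofNat 1, Int.negSucc 0, Int.ofNat 1, Int.negSucc 0, Int.negSucc 0, Int.ofNat 1, Int.ofNat 1, Int.negSucc 0, Int.ofNat 1, Int.ofNat 1, Int.ofNat 1, Int.ofNat 1, Int.ofNat 1, Int.negSucc 0, Int.ofNat 1, Int.ofNat 1, Int.ofNat 1, Int.negSucc 0, Int.negSucc 2, Int.negSucc 0],
  [Int.negSucc 0, Int.negSucc 0, Int.ofNat 1, Int.ofNat 1, Int.ofNat 1, Int.negSucc 0, Int.ofNat 1, Int.negSucc 0, Int.negSucc 0, Int.negSucc 0, Int.negSucc 0, Int.negSucc 0, Int.ofNat 1, Int.ofNat 1, Int.ofNat 1, Int.negSucc 0, Int.ofNat 1, Int.negSucc 0, Int.ofNat 1, Int.ofNat 1, Int.negSucc 0, Int.negSucc 0, Int.negSucc 2, Int.ofNat 1],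
  [Int.ofNat 1, Int.ofNat 1, Int.negSucc 0, Int.ofNat 1, Int.negSucc 0, Int.negSucc 0, Int.negSucc 0, Int.negSucc 0, Int.negSucc 0, Int.ofNat 1, Int.ofNat 1, Int.ofNat 1, Int.negSucc 0, Int.ofNat 1, Int.negSucc 0, Int.ofNat 1, Int.ofNat 1, Int.negSucc 0, Int.negSucc 0, Int.negSucc 2, Int.negSucc 0, Int.negSucc 0, Int.ofNat 1, Int.ofNat 1],
  [Int.ofNat 0, Int.ofNat 0, Int.ofNat 2, Int.ofNat 2, Int.negSucc 1, Int.ofNat 0, Int.ofNat 2, Int.ofNat 2, Int.ofNat 0, Int.ofNat 0, Int.ofNat 0, Int.ofNat 2, Int.ofNat 0, Int.ofNat 0, Int.ofNat 0, Int.ofNat 0, Int.ofNat 0, Int.ofNat 0, Int.ofNat 0, Int.ofNat 0, Int.negSucc 1, Int.ofNat 2, Int.ofNat 0, Int.ofNat 0],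
  [Int.ofNat 0, Int.ofNat 2, Int.negSucc 1, Int.ofNat 2, Int.ofNat 0, Int.ofNat 2, Int.ofNat 2, Int.ofNat 0, Int.ofNat 0, Int.ofNat 0, Int.negSucc 1, Int.ofNat 0, Int.ofNat 0, Int.ofNat 0, Int.ofNat 0, Int.ofNat 0, Int.ofNat 0, Int.ofNat 0, Int.ofNat 0, Int.ofNat 2, Int.ofNat 2, Int.ofNat 0, Int.ofNat 0, Int.ofNat 0],
  [Int.ofNat 0, Int.negSucc 1, Int.ofNat 2, Int.ofNat 0, Int.ofNat 0, Int.ofNat 0, Int.ofNat 0, Int.negSucc 1, Int.ofNat 0, Int.ofNat 0, Int.negSucc 1, Int.ofNat 0, Int.ofNat 0, Int.ofNat 0, Int.negSucc 1, Int.ofNat 0, Int.ofNat 0, Int.negSucc 1, Int.ofNat 0, Int.ofNat 0, Int.ofNat 2, Int.negSucc 1, Int.ofNat 0, Int.ofNat 0],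
  [Int.ofNat 0, Int.negSucc 1, Int.negSucc 1, Int.ofNat 0, Int.ofNat 0, Int.ofNat 0, Int.ofNat 0, Int.negSucc 1, Int.ofNat 0, Int.ofNat 0, Int.ofNat 2, Int.ofNat 0, Int.ofNat 0, Int.ofNat 0, Int.negSucc 1, Int.ofNat 0, Int.ofNat 0, Int.negSucc 1, Int.ofNat 0, Int.ofNat 0, Int.ofNat 2, Int.negSucc 1, Int.ofNat 0, Int.ofNat 0],
  [Int.negSucc 1, Int.ofNat 0, Int.ofNat 0, Int.negSucc 1, Int.negSucc 1, Int.ofNat 0, Int.negSucc 1, Int.ofNat 0, Int.ofNat 0, Int.ofNat 2, Int.negSucc 1, Int.ofNat 0, Int.ofNat 0, Int.ofNat 0, Int.ofNat 0, Int.ofNat 0, Int.ofNat 0, Int.ofNat 0, Int.negSucc 1, Int.ofNat 0, Int.ofNat 2, Int.ofNat 0, Int.ofNat 0, Int.ofNat 0],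
  [Int.negSucc 1, Int.ofNat 0, Int.ofNat 0, Int.negSucc 1, Int.negSucc 1, Int.ofNat 0, Int.ofNat 2, Int.ofNat 0, Int.ofNat 0, Int.negSucc 1, Int.ofNat 2, Int.ofNat 0, Int.ofNat 0, Int.ofNat 0, Int.ofNat 0, Int.ofNat 0, Int.ofNat 0, Int.ofNat 0, Int.ofNat 2, Int.ofNat 0, Int.ofNat 2, Int.ofNat 0, Int.ofNat 0, Int.ofNat 0],
  [Int.ofNat 1, Int.negSucc 0, Int.negSucc 0, Int.negSucc 0, Int.negSucc 0, Int.ofNat 1, Int.ofNat 1, Int.negSucc 0, Int.negSucc 0, Int.negSucc 2, Int.ofNat 1, Int.negSucc 0, Int.negSucc 0, Int.ofNat 1, Int.ofNat 1, Int.negSucc 0, Int.ofNat 1, Int.ofNat 1, Int.ofNat 1, Int.negSucc 0, Int.ofNat 1, Int.negSucc 0, Int.ofNat 1, Int.negSucc 0],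
  [Int.ofNat 1, Int.ofNat 1, Int.ofNat 1, Int.negSucc 0, Int.negSucc 0, Int.negSucc 0, Int.negSucc 0, Int.ofNat 1, Int.ofNat 1, Int.negSucc 0, Int.negSucc 0, Int.negSucc 0, Int.negSucc 0, Int.negSucc 2, Int.ofNat 1, Int.negSucc 0, Int.ofNat 1, Int.negSucc 0, Int.negSucc 0, Int.ofNat 1, Int.ofNat 1, Int.ofNat 1, Int.ofNat 1, Int.negSucc 0],
  [Int.ofNat 0, Int.ofNat 0, Int.ofNat 0, Int.ofNat 0, Int.ofNat 0, Int.ofNat 0, Int.negSucc 1, Int.ofNat 0, Int.ofNat 2, Int.ofNat 0, Int.ofNat 0, Int.ofNat 0, Int.ofNat 0, Int.negSucc 1, Int.ofNat 2, Int.ofNat 0, Int.ofNat 2, Int.ofNat 0, Int.ofNat 0, Int.ofNat 0, Int.ofNat 2, Int.ofNat 0, Int.ofNat 2, Int.ofNat 2],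
  [Int.ofNat 2, Int.ofNat 0, Int.ofNat 2, Int.ofNat 0, Int.ofNat 0, Int.ofNat 0, Int.ofNat 0, Int.ofNat 0, Int.ofNat 0, Int.negSucc 1, Int.ofNat 0, Int.ofNat 2, Int.ofNat 0, Int.ofNat 0, Int.ofNat 0, Int.ofNat 0, Int.negSucc 1, Int.ofNat 2, Int.ofNat 0, Int.ofNat 2, Int.ofNat 0, Int.ofNat 0, Int.ofNat 0, Int.ofNat 2],
  [Int.ofNat 1, Int.ofNat 3, Int.ofNat 1, Int.negSucc 0, Int.ofNat 1, Int.negSucc 0, Int.negSucc 0, Int.negSucc 0, Int.negSucc 0, Int.negSucc 0, Int.ofNat 1, Int.ofNat 1, Int.negSucc 0, Int.ofNat 1, Int.negSucc 0, Int.ofNat 1, Int.negSucc 0, Int.ofNat 1, Int.negSucc 0, Int.ofNat 1, Int.ofNat 1, Int.negSucc 0, Int.ofNat 1, Int.ofNat 1],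
  [Int.ofNat 3, Int.ofNat 1, Int.negSucc 0, Int.ofNat 1, Int.negSucc 0, Int.negSucc 0, Int.negSucc 0, Int.negSucc 0, Int.negSucc 0, Int.ofNat 1, Int.ofNat 1, Int.negSucc 0, Int.ofNat 1, Int.negSucc 0, Int.ofNat 1, Int.negSucc 0, Int.ofNat 1, Int.negSucc 0, Int.ofNat 1, Int.ofNat 1, Int.negSucc 0, Int.ofNat 1, Int.ofNat 1, Int.ofNat 1],
  [Int.negSucc 2, Int.ofNat 1, Int.ofNat 1, Int.ofNat 1, Int.negSucc 0, Int.negSucc 0, Int.negSucc 0, Int.ofNat 1, Int.negSucc 0, Int.negSucc 0, Int.negSucc 0, Int.ofNat 1, Int.ofNat 1, Int.negSucc 0, Int.ofNat 1, Int.negSucc 0, Int.ofNat 1, Int.negSucc 0, Int.negSucc 0, Int.ofNat 1, Int.negSucc 0, Int.negSucc 0, Int.ofNat 1, Int.ofNat 1],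
  [Int.negSucc 2, Int.ofNat 1, Int.negSucc 0, Int.ofNat 1, Int.ofNat 1, Int.negSucc 0, Int.negSucc 0, Int.negSucc 0, Int.negSucc 0, Int.ofNat 1, Int.negSucc 0, Int.ofNat 1, Int.negSucc 0, Int.negSucc 0, Int.ofNat 1, Int.negSucc 0, Int.ofNat 1, Int.ofNat 1, Int.negSucc 0, Int.negSucc 0, Int.negSucc 0, Int.ofNat 1, Int.ofNat 1, Int.ofNat 1],
  [Int.ofNat 3, Int.ofNat 1, Int.ofNat 1, Int.ofNat 1, Int.ofNat 1, Int.negSucc 0, Int.negSucc 0, Int.ofNat 1, Int.negSucc 0, Int.negSucc 0, Int.ofNat 1, Int.negSucc 0, Int.negSucc 0, Int.negSucc 0, Int.ofNat 1, Int.negSucc 0, Int.ofNat 1, Int.ofNat 1, Int.ofNat 1, Int.negSucc 0, Int.negSucc 0, Int.negSucc 0, Int.ofNat 1, Int.ofNat 1],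
  [Int.ofNat 1, Int.ofNat 3, Int.ofNat 1, Int.ofNat 1, Int.ofNat 1, Int.ofNat 1, Int.negSucc 0, Int.negSucc 0, Int.ofNat 1, Int.negSucc 0, Int.negSucc 0, Int.ofNat 1, Int.negSucc 0, Int.negSucc 0, Int.negSucc 0, Int.ofNat 1, Int.negSucc 0, Int.ofNat 1, Int.ofNat 1, Int.ofNat 1, Int.negSucc 0, Int.negSucc 0, Int.negSucc 0, Int.ofNat 1],
  [Int.ofNat 2, Int.ofNat 0, Int.ofNat 2, Int.ofNat 0, Int.ofNat 2, Int.ofNat 0, Int.ofNat 0, Int.ofNat 0, Int.ofNat 0, Int.ofNat 0, Int.ofNat 0, Int.ofNat 0, Int.negSucc 1, Int.ofNat 0, Int.negSucc 1, Int.ofNat 2, Int.ofNat 0, Int.ofNat 0, Int.ofNat 0, Int.ofNat 2, Int.ofNat 0, Int.ofNat 0, Int.ofNat 0, Int.ofNat 2],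
  [Int.ofNat 0, Int.ofNat 2, Int.ofNat 0, Int.ofNat 0, Int.ofNat 0, Int.ofNat 0, Int.ofNat 0, Int.ofNat 0, Int.ofNat 0, Int.negSucc 1, Int.ofNat 0, Int.negSucc 1, Int.ofNat 2, Int.ofNat 0, Int.ofNat 0, Int.ofNat 0, Int.ofNat 2, Int.ofNat 0, Int.ofNat 0, Int.ofNat 0, Int.ofNat 2, Int.ofNat 0, Int.ofNat 2, Int.ofNat 2],
  [Int.ofNat 2, Int.ofNat 0, Int.ofNat 2, Int.ofNat 0, Int.negSucc 1, Int.ofNat 0, Int.ofNat 0, Int.ofNat 0, Int.ofNat 0, Int.negSucc 1, Int.ofNat 0, Int.negSucc 1, Int.ofNat 2, Int.negSucc 1, Int.ofNat 0, Int.ofNat 0, Int.ofNat 0, Int.ofNat 0, Int.ofNat 0, Int.ofNat 0, Int.ofNat 2, Int.ofNat 0, Int.ofNat 0, Int.ofNat 0],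
  [Int.ofNat 2, Int.ofNat 0, Int.negSucc 1, Int.ofNat 0, Int.ofNat 0, Int.ofNat 0, Int.ofNat 2, Int.ofNat 0, Int.ofNat 2, Int.negSucc 1, Int.ofNat 2, Int.ofNat 0, Int.negSucc 1, Int.ofNat 0, Int.ofNat 0, Int.ofNat 0, Int.ofNat 0, Int.ofNat 0, Int.ofNat 0, Int.negSucc 1, Int.ofNat 0, Int.ofNat 0, Int.ofNat 0, Int.ofNat 0],
  [Int.negSucc 1, Int.ofNat 0, Int.ofNat 2, Int.ofNat 0, Int.ofNat 0, Int.ofNat 0, Int.ofNat 2, Int.ofNat 0, Int.ofNat 2, Int.negSucc 1, Int.ofNat 2, Int.ofNat 0, Int.negSucc 1, Int.ofNat 0, Int.ofNat 0, Int.ofNat 0, Int.ofNat 0, Int.ofNat 0, Int.ofNat 0, Int.negSucc 1, Int.ofNat 0, Int.ofNat 0, Int.ofNat 0, Int.ofNat 0],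
  [Int.negSucc 1, Int.ofNat 0, Int.negSucc 1, Int.ofNat 0, Int.ofNat 0, Int.ofNat 0, Int.negSucc 1, Int.ofNat 0, Int.ofNat 2, Int.ofNat 2, Int.negSucc 1, Int.ofNat 0, Int.negSucc 1, Int.ofNat 0, Int.ofNat 0, Int.ofNat 0, Int.ofNat 0, Int.ofNat 0, Int.ofNat 0, Int.negSucc 1, Int.ofNat 0, Int.ofNat 0, Int.ofNat 0, Int.ofNat 0],
  [Int.negSucc 1, Int.ofNat 0, Int.ofNat 0, Int.ofNat 2, Int.ofNat 0, Int.negSucc 1, Int.ofNat 0, Int.ofNat 0, Int.ofNat 0, Int.ofNat 0, Int.ofNat 0, Int.ofNat 0, Int.ofNat 0, Int.ofNat 0, Int.ofNat 0, Int.ofNat 0, Int.negSucc 1, Int.negSucc 1, Int.ofNat 2, Int.negSucc 1, Int.negSucc 1, Int.ofNat 0, Int.ofNat 0, Int.ofNat 0],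
  [Int.ofNat 2, Int.ofNat 0, Int.ofNat 0, Int.negSucc 1, Int.ofNat 0, Int.negSucc 1, Int.ofNat 0, Int.ofNat 0, Int.ofNat 0, Int.ofNat 0, Int.ofNat 0, Int.ofNat 0, Int.ofNat 0, Int.ofNat 0, Int.ofNat 0, Int.ofNat 0, Int.ofNat 2, Int.negSucc 1, Int.negSucc 1, Int.negSucc 1, Int.negSucc 1, Int.ofNat 0, Int.ofNat 0, Int.ofNat 0],
  [Int.ofNat 0, Int.ofNat 0, Int.ofNat 0, Int.ofNat 0, Int.negSucc 1, Int.ofNat 0, Int.negSucc 1, Int.ofNat 0, Int.negSucc 1, Int.negSucc 1, Int.ofNat 2, Int.ofNat 0, Int.ofNat 0, Int.ofNat 0, Int.negSucc 1, Int.negSucc 1, Int.ofNat 0, Int.ofNat 0, Int.ofNat 0, Int.ofNat 0, Int.ofNat 0, Int.ofNat 0, Int.ofNat 0, Int.ofNat 2],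
  [Int.ofNat 0, Int.ofNat 0, Int.ofNat 0, Int.ofNat 0, Int.negSucc 1, Int.ofNat 0, Int.negSucc 1, Int.ofNat 0, Int.negSucc 1, Int.ofNat 2, Int.negSucc 1, Int.ofNat 0, Int.ofNat 0, Int.ofNat 0, Int.negSucc 1, Int.negSucc 1, Int.ofNat 0, Int.ofNat 0, Int.ofNat 0, Int.ofNat 0, Int.ofNat 0, Int.ofNat 0, Int.ofNat 0, Int.ofNat 2],
  [Int.ofNat 0, Int.ofNat 0, Int.ofNat 0, Int.ofNat 0, Int.ofNat 0, Int.negSucc 1, Int.ofNat 0, Int.negSucc 1, Int.ofNat 0, Int.negSucc 1, Int.ofNat 2, Int.negSucc 1, Int.ofNat 0, Int.ofNat 0, Int.ofNat 0, Int.negSucc 1, Int.negSucc 1, Int.ofNat 0, Int.ofNat 0, Int.ofNat 0, Int.ofNat 0, Int.ofNat 0, Int.ofNat 0, Int.ofNat 2],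
  [Int.ofNat 1, Int.ofNat 1, Int.ofNat 1, Int.ofNat 1, Int.ofNat 1, Int.negSucc 0, Int.ofNat 1, Int.negSucc 0, Int.ofNat 1, Int.negSucc 0, Int.ofNat 3, Int.negSucc 0, Int.ofNat 1, Int.ofNat 1, Int.ofNat 1, Int.negSucc 0, Int.negSucc 0, Int.ofNat 1, Int.ofNat 1, Int.ofNat 1, Int.ofNat 1, Int.ofNat 1, Int.ofNat 1, Int.negSucc 0],
  [Int.ofNat 1, Int.ofNat 1, Int.negSucc 0, Int.ofNat 1, Int.negSucc 0, Int.ofNat 1, Int.negSucc 0, Int.ofNat 3, Int.negSucc 0, Int.ofNat 1, Int.ofNat 1, Int.ofNat 1, Int.negSucc 0, Int.negSucc 0, Int.ofNat 1, Int.ofNat 1, Int.ofNat 1, Int.ofNat 1, Int.ofNat 1, Int.ofNat 1, Int.ofNat 1, Int.ofNat 1, Int.ofNat 1, Int.negSucc 0],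
  [Int.negSucc 0, Int.negSucc 0, Int.ofNat 1, Int.negSucc 0, Int.negSucc 0, Int.negSucc 0, Int.negSucc 2, Int.ofNat 1, Int.negSucc 0, Int.negSucc 0, Int.negSucc 0, Int.ofNat 1, Int.negSucc 0, Int.negSucc 0, Int.negSucc 0, Int.negSucc 0, Int.ofNat 1, Int.negSucc 0, Int.ofNat 1, Int.negSucc 0, Int.negSucc 0, Int.negSucc 0, Int.ofNat 1, Int.ofNat 1],
  [Int.negSucc 0, Int.negSucc 2, Int.negSucc 0, Int.negSucc 0, Int.ofNat 1, Int.ofNat 1, Int.ofNat 1, Int.negSucc 0, Int.negSucc 0, Int.negSucc 0, Int.negSucc 0, Int.negSucc 0, Int.negSucc 0, Int.ofNat 1, Int.ofNat 1, Int.negSucc 0, Int.negSucc 0, Int.negSucc 0, Int.negSucc 0, Int.ofNat 1, Int.negSucc 0, Int.negSucc 0, Int.negSucc 0, Int.ofNat 1],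
  [Int.negSucc 0, Int.ofNat 1, Int.negSucc 0, Int.negSucc 0, Int.ofNat 1, Int.ofNat 1, Int.ofNat 1, Int.negSucc 0, Int.ofNat 1, Int.ofNat 1, Int.ofNat 1, Int.ofNat 1, Int.ofNat 1, Int.ofNat 1, Int.ofNat 1, Int.ofNat 1, Int.negSucc 0, Int.negSucc 0, Int.ofNat 1, Int.ofNat 1, Int.ofNat 1, Int.negSucc 0, Int.negSucc 0, Int.negSucc 2],
  [Int.negSucc 0, Int.ofNat 1, Int.ofNat 1, Int.negSucc 0, Int.ofNat 1, Int.negSucc 0, Int.negSucc 0, Int.negSucc 0, Int.ofNat 1, Int.negSucc 0, Int.negSucc 0, Int.ofNat 1, Int.ofNat 1, Int.ofNat 1, Int.ofNat 1, Int.negSucc 0, Int.negSucc 0, Int.negSucc 0, Int.negSucc 0, Int.ofNat 1, Int.ofNat 1, Int.negSucc 0, Int.ofNat 1, Int.negSucc 2],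
  [Int.negSucc 0, Int.negSucc 0, Int.ofNat 1, Int.ofNat 1, Int.ofNat 1, Int.ofNat 1, Int.ofNat 1, Int.ofNat 1, Int.ofNat 1, Int.ofNat 1, Int.negSucc 0, Int.ofNat 1, Int.negSucc 0, Int.negSucc 0, Int.negSucc 0, Int.ofNat 1, Int.negSucc 0, Int.negSucc 0, Int.negSucc 0, Int.negSucc 0, Int.negSucc 0, Int.negSucc 0, Int.ofNat 1, Int.negSucc 2],
  [Int.negSucc 0, Int.negSucc 0, Int.negSucc 0, Int.ofNat 1, Int.ofNat 1, Int.negSucc 0, Int.negSucc 0, Int.ofNat 1, Int.ofNat 1, Int.negSucc 0, Int.ofNat 1, Int.ofNat 1, Int.negSucc 0, Int.negSucc 0, Int.negSucc 0, Int.negSucc 0, Int.negSucc 0, Int.negSucc 0, Int.ofNat 1, Int.negSucc 0, Int.negSucc 0, Int.negSucc 0, Int.negSucc 0, Int.negSucc 2],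
  [Int.negSucc 1, Int.negSucc 1, Int.negSucc 1, Int.ofNat 2, Int.ofNat 2, Int.ofNat 0, Int.ofNat 0, Int.ofNat 2, Int.ofNat 0, Int.ofNat 0, Int.ofNat 2, Int.ofNat 0, Int.negSucc 1, Int.ofNat 0, Int.ofNat 0, Int.ofNat 0, Int.ofNat 0, Int.ofNat 0, Int.ofNat 0, Int.ofNat 0, Int.ofNat 0, Int.ofNat 0, Int.ofNat 0, Int.ofNat 0],
  [Int.negSucc 1, Int.ofNat 0, Int.ofNat 0, Int.ofNat 2, Int.negSucc 1, Int.ofNat 0, Int.negSucc 1, Int.ofNat 0, Int.ofNat 0, Int.negSucc 1, Int.ofNat 2, Int.ofNat 0, Int.ofNat 0, Int.ofNat 0, Int.ofNat 0, Int.ofNat 0, Int.ofNat 0, Int.ofNat 0, Int.ofNat 2, Int.ofNat 0, Int.ofNat 2, Int.ofNat 0, Int.ofNat 0, Int.ofNat 0],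
  [Int.ofNat 1, Int.negSucc 0, Int.negSucc 0, Int.ofNat 1, Int.negSucc 0, Int.negSucc 0, Int.negSucc 0, Int.ofNat 1, Int.negSucc 0, Int.negSucc 2, Int.ofNat 1, Int.negSucc 0, Int.negSucc 0, Int.ofNat 1, Int.negSucc 0, Int.negSucc 0, Int.ofNat 1, Int.negSucc 0, Int.ofNat 1, Int.ofNat 1, Int.ofNat 1, Int.ofNat 1, Int.ofNat 1, Int.negSucc 0],
  [Int.ofNat 1, Int.ofNat 1, Int.ofNat 1, Int.ofNat 1, Int.negSucc 0, Int.negSucc 0, Int.ofNat 1, Int.negSucc 0, Int.negSucc 0, Int.negSucc 0, Int.ofNat 1, Int.negSucc 0, Int.negSucc 2, Int.ofNat 1, Int.negSucc 0, Int.negSucc 0, Int.ofNat 1, Int.negSucc 0, Int.negSucc 0, Int.ofNat 1, Int.negSucc 0, Int.ofNat 1, Int.ofNat 1, Int.negSucc 0],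
  [Int.ofNat 0, Int.ofNat 0, Int.ofNat 0, Int.ofNat 2, Int.negSucc 1, Int.ofNat 0, Int.ofNat 0, Int.negSucc 1, Int.ofNat 2, Int.ofNat 0, Int.ofNat 2, Int.ofNat 2, Int.ofNat 0, Int.ofNat 0, Int.ofNat 0, Int.ofNat 0, Int.ofNat 0, Int.ofNat 0, Int.ofNat 2, Int.ofNat 0, Int.ofNat 0, Int.ofNat 0, Int.ofNat 0, Int.ofNat 2],
  [Int.ofNat 0, Int.ofNat 0, Int.ofNat 2, Int.negSucc 1, Int.ofNat 0, Int.ofNat 0, Int.negSucc 1, Int.ofNat 2, Int.ofNat 0, Int.ofNat 2, Int.ofNat 2, Int.ofNat 0, Int.ofNat 0, Int.ofNat 0, Int.ofNat 0, Int.ofNat 0, Int.ofNat 0, Int.ofNat 2, Int.ofNat 0, Int.ofNat 0, Int.ofNat 0, Int.ofNat 0, Int.ofNat 0, Int.ofNat 2],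
  [Int.ofNat 0, Int.ofNat 0, Int.negSucc 1, Int.negSucc 1, Int.ofNat 0, Int.ofNat 0, Int.negSucc 1, Int.negSucc 1, Int.ofNat 0, Int.negSucc 1, Int.negSucc 1, Int.ofNat 0, Int.ofNat 0, Int.ofNat 0, Int.ofNat 0, Int.ofNat 0, Int.ofNat 0, Int.ofNat 2, Int.ofNat 0, Int.ofNat 0, Int.ofNat 0, Int.ofNat 0, Int.ofNat 0, Int.ofNat 2]]

set_option maxRecDepth 100000 in
theorem c1et18_chk : pmChk (List.replicate 14 [18, 0, 25, 26]).flatten nxL c1et18M 0 0 = true := by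
  decide +kernel

theorem c1et18_ne : wE letE2 (List.replicate 14 [18, 0, 25, 26]).flatten ≠ 1 ∧ wE letE2 (List.replicate 14 [18, 0, 25, 26]).flatten ≠ negElt :=
  ne_pm_of_chk nxL_mem c1et18_chk

set_option maxRecDepth 100000 in
def c1et19M : List (List ℤ) :=
  [[Int.negSucc 3, Int.ofNat 0, Int.ofNat 0, Int.ofNat 0, Int.ofNat 0, Int.ofNat 0, Int.ofNat 0, Int.ofNat 0, Int.ofNat 0, Int.ofNat 0, Int.ofNat 0, Int.ofNat 0, Int.ofNat 0, Int.ofNat 0, Int.ofNat 0, Int.ofNat 0, Int.ofNat 0, Int.ofNat 0, Int.ofNat 0, Int.ofNat 0, Int.ofNat 0, Int.ofNat 0, Int.ofNat 0, Int.ofNat 4],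
  [Int.ofNat 4, Int.ofNat 0, Int.ofNat 0, Int.ofNat 0, Int.ofNat 0, Int.ofNat 0, Int.ofNat 0, Int.ofNat 0, Int.ofNat 0, Int.ofNat 0, Int.ofNat 0, Int.ofNat 0, Int.ofNat 0, Int.ofNat 0, Int.ofNat 0, Int.ofNat 0, Int.ofNat 0, Int.ofNat 0, Int.ofNat 0, Int.ofNat 0, Int.ofNat 0, Int.ofNat 0, Int.ofNat 0, Int.ofNat 4],
  [Int.ofNat 0, Int.ofNat 4, Int.ofNat 0, Int.ofNat 0, Int.ofNat 0, Int.ofNat 0, Int.ofNat 0, Int.ofNat 0, Int.ofNat 0, Int.ofNat 0, Int.ofNat 0, Int.ofNat 0, Int.ofNat 0, Int.ofNat 0, Int.ofNat 0, Int.ofNat 0, Int.ofNat 0, Int.ofNat 0, Int.ofNat 0, Int.ofNat 0, Int.ofNat 0, Int.ofNat 0, Int.ofNat 0, Int.ofNat 4],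
  [Int.ofNat 4, Int.ofNat 0, Int.ofNat 4, Int.ofNat 0, Int.ofNat 0, Int.ofNat 0, Int.ofNat 0, Int.ofNat 0, Int.ofNat 0, Int.ofNat 0, Int.ofNat 0, Int.ofNat 0, Int.ofNat 0, Int.ofNat 0, Int.ofNat 0, Int.ofNat 0, Int.ofNat 0, Int.ofNat 0, Int.ofNat 0, Int.ofNat 0, Int.ofNat 0, Int.ofNat 0, Int.ofNat 0, Int.ofNat 0],
  [Int.ofNat 0, Int.ofNat 0, Int.ofNat 0, Int.ofNat 0, Int.ofNat 0, Int.ofNat 0, Int.ofNat 0, Int.ofNat 0, Int.ofNat 0, Int.ofNat 0, Int.ofNat 0, Int.ofNat 0, Int.ofNat 0, Int.ofNat 0, Int.ofNat 0, Int.ofNat 0, Int.ofNat 0, Int.ofNat 0, Int.ofNat 0, Int.ofNat 0, Int.ofNat 4, Int.ofNat 0, Int.ofNat 4, Int.ofNat 0],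
  [Int.ofNat 0, Int.ofNat 0, Int.ofNat 0, Int.ofNat 0, Int.negSucc 1, Int.ofNat 0, Int.ofNat 0, Int.ofNat 0, Int.ofNat 0, Int.negSucc 1, Int.negSucc 1, Int.ofNat 0, Int.ofNat 0, Int.negSucc 1, Int.ofNat 0, Int.negSucc 1, Int.negSucc 1, Int.ofNat 0, Int.ofNat 0, Int.ofNat 0, Int.ofNat 2, Int.ofNat 0, Int.ofNat 2, Int.ofNat 0],
  [Int.ofNat 0, Int.ofNat 0, Int.negSucc 1, Int.ofNat 0, Int.ofNat 0, Int.ofNat 0, Int.ofNat 0, Int.negSucc 1, Int.ofNat 0, Int.negSucc 1, Int.ofNat 2, Int.ofNat 0, Int.negSucc 1, Int.negSucc 1, Int.ofNat 2, Int.negSucc 1, Int.ofNat 0, Int.ofNat 0, Int.ofNat 0, Int.ofNat 0, Int.ofNat 0, Int.ofNat 0, Int.ofNat 0, Int.ofNat 0],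
  [Int.negSucc 0, Int.negSucc 0, Int.ofNat 1, Int.negSucc 0, Int.ofNat 1, Int.negSucc 0, Int.ofNat 1, Int.negSucc 0, Int.ofNat 1, Int.negSucc 0, Int.ofNat 3, Int.ofNat 1, Int.negSucc 0, Int.negSucc 0, Int.ofNat 1, Int.negSucc 0, Int.ofNat 1, Int.negSucc 0, Int.ofNat 1, Int.ofNat 1, Int.ofNat 1, Int.ofNat 1, Int.ofNat 1, Int.negSucc 0],
  [Int.negSucc 0, Int.negSucc 0, Int.negSucc 0, Int.negSucc 0, Int.ofNat 1, Int.ofNat 1, Int.negSucc 0, Int.negSucc 0, Int.ofNat 1, Int.ofNat 1, Int.negSucc 2, Int.ofNat 1, Int.negSucc 0, Int.negSucc 0, Int.ofNat 1, Int.ofNat 1, Int.ofNat 1, Int.negSucc 0, Int.negSucc 0, Int.ofNat 1, Int.ofNat 1, Int.ofNat 1, Int.negSucc 0, Int.negSucc 0],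
  [Int.negSucc 2, Int.ofNat 1, Int.ofNat 1, Int.ofNat 1, Int.ofNat 1, Int.negSucc 0, Int.ofNat 1, Int.negSucc 0, Int.ofNat 1, Int.ofNat 1, Int.negSucc 0, Int.negSucc 0, Int.ofNat 1, Int.ofNat 1, Int.negSucc 0, Int.negSucc 0, Int.ofNat 1, Int.negSucc 0, Int.ofNat 1, Int.negSucc 0, Int.negSucc 0, Int.negSucc 0, Int.negSucc 0, Int.negSucc 0],
  [Int.ofNat 3, Int.negSucc 0, Int.negSucc 0, Int.negSucc 0, Int.negSucc 0, Int.negSucc 0, Int.negSucc 0, Int.negSucc 0, Int.negSucc 0, Int.negSucc 0, Int.negSucc 0, Int.negSucc 0, Int.negSucc 0, Int.negSucc 0, Int.negSucc 0, Int.negSucc 0, Int.negSucc 0, Int.negSucc 0, Int.negSucc 0, Int.negSucc 0, Int.negSucc 0, Int.negSucc 0, Int.negSucc 0, Int.negSucc 0],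
  [Int.negSucc 0, Int.negSucc 0, Int.negSucc 0, Int.negSucc 0, Int.negSucc 0, Int.negSucc 0, Int.negSucc 0, Int.negSucc 0, Int.negSucc 0, Int.negSucc 0, Int.negSucc 0, Int.negSucc 0, Int.negSucc 0, Int.negSucc 0, Int.negSucc 0, Int.negSucc 0, Int.negSucc 0, Int.negSucc 0, Int.negSucc 0, Int.negSucc 0, Int.negSucc 0, Int.negSucc 0, Int.negSucc 0, Int.ofNat 3],
  [Int.ofNat 1, Int.negSucc 0, Int.ofNat 1, Int.negSucc 0, Int.negSucc 0, Int.negSucc 0, Int.negSucc 0, Int.ofNat 1, Int.negSucc 0, Int.ofNat 1, Int.ofNat 1, Int.ofNat 1, Int.negSucc 0, Int.negSucc 0, Int.negSucc 0, Int.negSucc 0, Int.negSucc 0, Int.negSucc 0, Int.ofNat 1, Int.negSucc 0, Int.negSucc 0, Int.ofNat 1, Int.negSucc 0, Int.ofNat 3],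
  [Int.negSucc 0, Int.ofNat 1, Int.negSucc 0, Int.ofNat 1, Int.negSucc 0, Int.negSucc 0, Int.negSucc 0, Int.negSucc 0, Int.ofNat 1, Int.negSucc 0, Int.ofNat 1, Int.ofNat 1, Int.ofNat 1, Int.negSucc 0, Int.negSucc 0, Int.negSucc 0, Int.negSucc 0, Int.negSucc 0, Int.negSucc 0, Int.ofNat 1, Int.negSucc 0, Int.negSucc 0, Int.ofNat 1, Int.ofNat 3],
  [Int.ofNat 2, Int.ofNat 0, Int.ofNat 2, Int.ofNat 2, Int.ofNat 0, Int.ofNat 0, Int.ofNat 0, Int.ofNat 0, Int.ofNat 0, Int.ofNat 0, Int.ofNat 2, Int.ofNat 0, Int.ofNat 0, Int.ofNat 0, Int.ofNat 0, Int.ofNat 0, Int.ofNat 0, Int.ofNat 0, Int.negSucc 1, Int.ofNat 2, Int.ofNat 0, Int.ofNat 0, Int.ofNat 2, Int.negSucc 1],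
  [Int.ofNat 2, Int.ofNat 0, Int.ofNat 0, Int.ofNat 0, Int.ofNat 0, Int.ofNat 0, Int.ofNat 0, Int.ofNat 2, Int.ofNat 0, Int.ofNat 0, Int.ofNat 0, Int.ofNat 0, Int.ofNat 0, Int.ofNat 0, Int.ofNat 0, Int.negSucc 1, Int.ofNat 2, Int.ofNat 0, Int.ofNat 0, Int.ofNat 2, Int.ofNat 2, Int.ofNat 0, Int.ofNat 2, Int.negSucc 1],
  [Int.negSucc 1, Int.ofNat 0, Int.ofNat 0, Int.ofNat 0, Int.negSucc 1, Int.ofNat 0, Int.negSucc 1, Int.ofNat 0, Int.ofNat 0, Int.ofNat 0, Int.ofNat 0, Int.ofNat 0, Int.ofNat 0, Int.negSucc 1, Int.ofNat 0, Int.negSucc 1, Int.ofNat 0, Int.ofNat 0, Int.ofNat 0, Int.ofNat 0, Int.ofNat 2, Int.negSucc 1, Int.ofNat 0, Int.ofNat 2],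
  [Int.negSucc 1, Int.negSucc 1, Int.negSucc 1, Int.ofNat 0, Int.ofNat 0, Int.ofNat 0, Int.ofNat 0, Int.ofNat 0, Int.ofNat 0, Int.negSucc 1, Int.ofNat 2, Int.ofNat 0, Int.ofNat 0, Int.ofNat 0, Int.ofNat 0, Int.negSucc 1, Int.ofNat 0, Int.ofNat 0, Int.ofNat 0, Int.ofNat 0, Int.negSucc 1, Int.ofNat 0, Int.ofNat 0, Int.ofNat 2],
  [Int.ofNat 0, Int.ofNat 0, Int.ofNat 0, Int.ofNat 0, Int.ofNat 0, Int.ofNat 0, Int.ofNat 0, Int.ofNat 0, Int.ofNat 0, Int.ofNat 0, Int.ofNat 4, Int.ofNat 0, Int.ofNat 0, Int.ofNat 0, Int.ofNat 0, Int.ofNat 0, Int.ofNat 0, Int.ofNat 0, Int.ofNat 0, Int.ofNat 0, Int.ofNat 0, Int.ofNat 0, Int.ofNat 0, Int.negSucc 3],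
  [Int.ofNat 0, Int.ofNat 0, Int.ofNat 0, Int.ofNat 0, Int.ofNat 0, Int.ofNat 0, Int.ofNat 0, Int.ofNat 0, Int.ofNat 0, Int.ofNat 0, Int.negSucc 3, Int.ofNat 0, Int.ofNat 0, Int.ofNat 0, Int.ofNat 0, Int.ofNat 0, Int.ofNat 0, Int.ofNat 0, Int.ofNat 0, Int.ofNat 0, Int.ofNat 0, Int.ofNat 0, Int.ofNat 0, Int.negSucc 3],
  [Int.ofNat 0, Int.negSucc 3, Int.ofNat 0, Int.ofNat 0, Int.ofNat 0, Int.ofNat 0, Int.ofNat 0, Int.ofNat 0, Int.ofNat 0, Int.ofNat 0, Int.ofNat 0, Int.ofNat 0, Int.ofNat 0, Int.ofNat 0, Int.ofNat 0, Int.ofNat 0, Int.ofNat 0, Int.ofNat 0, Int.ofNat 0, Int.ofNat 0, Int.ofNat 0, Int.ofNat 0, Int.ofNat 0, Int.negSucc 3],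
  [Int.ofNat 0, Int.negSucc 3, Int.ofNat 0, Int.ofNat 0, Int.ofNat 0, Int.ofNat 0, Int.ofNat 0, Int.ofNat 0, Int.ofNat 0, Int.ofNat 0, Int.ofNat 0, Int.ofNat 0, Int.ofNat 0, Int.ofNat 0, Int.ofNat 0, Int.ofNat 0, Int.ofNat 0, Int.ofNat 0, Int.ofNat 0, Int.ofNat 0, Int.ofNat 0, Int.ofNat 0, Int.ofNat 0, Int.negSucc 3],
  [Int.negSucc 3, Int.ofNat 0, Int.negSucc 3, Int.ofNat 0, Int.ofNat 0, Int.ofNat 0, Int.ofNat 0, Int.ofNat 0, Int.ofNat 0, Int.ofNat 0, Int.ofNat 0, Int.ofNat 0, Int.ofNat 0, Int.ofNat 0, Int.ofNat 0, Int.ofNat 0, Int.ofNat 0, Int.ofNat 0, Int.ofNat 0, Int.ofNat 0, Int.ofNat 0, Int.ofNat 0, Int.ofNat 0, Int.ofNat 0],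
  [Int.negSucc 3, Int.ofNat 0, Int.ofNat 0, Int.ofNat 0, Int.negSucc 3, Int.ofNat 0, Int.ofNat 0, Int.ofNat 0, Int.ofNat 0, Int.ofNat 0, Int.ofNat 0, Int.ofNat 0, Int.ofNat 0, Int.ofNat 0, Int.ofNat 0, Int.ofNat 0, Int.ofNat 0, Int.ofNat 0, Int.ofNat 0, Int.ofNat 0, Int.ofNat 0, Int.ofNat 0, Int.ofNat 0, Int.ofNat 0],
  [Int.ofNat 2, Int.negSucc 1, Int.negSucc 1, Int.ofNat 0, Int.negSucc 1, Int.ofNat 0, Int.ofNat 0, Int.ofNat 0, Int.ofNat 0, Int.ofNat 0, Int.ofNat 0, Int.ofNat 0, Int.ofNat 0, Int.ofNat 2, Int.ofNat 0, Int.ofNat 0, Int.ofNat 2, Int.ofNat 0, Int.ofNat 0, Int.ofNat 0, Int.ofNat 0, Int.ofNat 0, Int.ofNat 2, Int.negSucc 1],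
  [Int.ofNat 0, Int.ofNat 0, Int.ofNat 2, Int.ofNat 2, Int.negSucc 1, Int.negSucc 1, Int.ofNat 0, Int.negSucc 1, Int.ofNat 0, Int.ofNat 0, Int.ofNat 0, Int.ofNat 0, Int.ofNat 0, Int.ofNat 0, Int.ofNat 0, Int.ofNat 0, Int.ofNat 2, Int.ofNat 0, Int.ofNat 0, Int.ofNat 2, Int.ofNat 0, Int.ofNat 0, Int.ofNat 0, Int.negSucc 1],
  [Int.ofNat 0, Int.ofNat 0, Int.negSucc 1, Int.ofNat 2, Int.negSucc 1, Int.negSucc 1, Int.ofNat 0, Int.negSucc 1, Int.ofNat 0, Int.ofNat 0, Int.ofNat 0, Int.ofNat 0, Int.ofNat 0, Int.ofNat 0, Int.ofNat 0, Int.ofNat 0, Int.ofNat 2, Int.ofNat 0, Int.ofNat 0, Int.ofNat 2, Int.ofNat 0, Int.ofNat 0, Int.ofNat 0, Int.ofNat 2],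
  [Int.ofNat 0, Int.negSucc 1, Int.ofNat 2, Int.negSucc 1, Int.negSucc 1, Int.ofNat 0, Int.negSucc 1, Int.ofNat 0, Int.ofNat 0, Int.ofNat 0, Int.ofNat 0, Int.ofNat 0, Int.ofNat 0, Int.ofNat 0, Int.ofNat 0, Int.ofNat 2, Int.ofNat 0, Int.ofNat 0, Int.ofNat 2, Int.ofNat 0, Int.ofNat 0, Int.ofNat 0, Int.ofNat 0, Int.ofNat 2],
  [Int.ofNat 0, Int.negSucc 1, Int.negSucc 1, Int.negSucc 1, Int.negSucc 1, Int.ofNat 0, Int.negSucc 1, Int.ofNat 0, Int.ofNat 0, Int.ofNat 0, Int.ofNat 0, Int.ofNat 0, Int.ofNat 0, Int.ofNat 0, Int.ofNat 0, Int.ofNat 2, Int.ofNat 0, Int.ofNat 0, Int.negSucc 1, Int.ofNat 0, Int.ofNat 0, Int.ofNat 0, Int.ofNat 0, Int.ofNat 2],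
  [Int.ofNat 0, Int.negSucc 1, Int.negSucc 1, Int.negSucc 1, Int.negSucc 1, Int.ofNat 0, Int.negSucc 1, Int.ofNat 0, Int.ofNat 0, Int.ofNat 0, Int.ofNat 0, Int.ofNat 0, Int.ofNat 0, Int.ofNat 0, Int.ofNat 0, Int.ofNat 2, Int.ofNat 0, Int.ofNat 0, Int.negSucc 1, Int.ofNat 0, Int.ofNat 0, Int.ofNat 0, Int.ofNat 0, Int.ofNat 2],
  [Int.ofNat 0, Int.negSucc 1, Int.ofNat 2, Int.negSucc 1, Int.negSucc 1, Int.ofNat 0, Int.negSucc 1, Int.ofNat 0, Int.ofNat 0, Int.ofNat 0, Int.ofNat 0, Int.ofNat 0, Int.ofNat 0, Int.ofNat 0, Int.ofNat 0, Int.ofNat 2, Int.ofNat 0, Int.ofNat 0, Int.ofNat 2, Int.ofNat 0, Int.ofNat 0, Int.ofNat 0, Int.ofNat 0, Int.ofNat 2],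
  [Int.ofNat 0, Int.ofNat 0, Int.negSucc 1, Int.ofNat 2, Int.negSucc 1, Int.negSucc 1, Int.ofNat 0, Int.negSucc 1, Int.ofNat 0, Int.ofNat 0, Int.ofNat 0, Int.ofNat 0, Int.ofNat 0, Int.ofNat 0, Int.ofNat 0, Int.ofNat 0, Int.ofNat 2, Int.ofNat 0, Int.ofNat 0, Int.ofNat 2, Int.ofNat 0, Int.ofNat 0, Int.ofNat 0, Int.ofNat 2],
  [Int.ofNat 0, Int.ofNat 0, Int.ofNat 2, Int.ofNat 2, Int.negSucc 1, Int.negSucc 1, Int.ofNat 0, Int.negSucc 1, Int.ofNat 0, Int.ofNat 0, Int.ofNat 0, Int.ofNat 0, Int.ofNat 0, Int.ofNat 0, Int.ofNat 0, Int.ofNat 0, Int.ofNat 2, Int.ofNat 0, Int.ofNat 0, Int.ofNat 2, Int.ofNat 0, Int.ofNat 0, Int.ofNat 0, Int.negSucc 1],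
  [Int.ofNat 2, Int.negSucc 1, Int.negSucc 1, Int.ofNat 0, Int.negSucc 1, Int.ofNat 0, Int.ofNat 0, Int.ofNat 0, Int.ofNat 0, Int.ofNat 0, Int.ofNat 0, Int.ofNat 0, Int.ofNat 0, Int.ofNat 2, Int.ofNat 0, Int.ofNat 0, Int.ofNat 2, Int.ofNat 0, Int.ofNat 0, Int.ofNat 0, Int.ofNat 0, Int.ofNat 0, Int.ofNat 2, Int.negSucc 1],
  [Int.negSucc 3, Int.ofNat 0, Int.ofNat 0, Int.ofNat 0, Int.negSucc 3, Int.ofNat 0, Int.ofNat 0, Int.ofNat 0, Int.ofNat 0, Int.ofNat 0, Int.ofNat 0, Int.ofNat 0, Int.ofNat 0, Int.ofNat 0, Int.ofNat 0, Int.ofNat 0, Int.ofNat 0, Int.ofNat 0, Int.ofNat 0, Int.ofNat 0, Int.ofNat 0, Int.ofNat 0, Int.ofNat 0, Int.ofNat 0],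
  [Int.negSucc 3, Int.ofNat 0, Int.negSucc 3, Int.ofNat 0, Int.ofNat 0, Int.ofNat 0, Int.ofNat 0, Int.ofNat 0, Int.ofNat 0, Int.ofNat 0, Int.ofNat 0, Int.ofNat 0, Int.ofNat 0, Int.ofNat 0, Int.ofNat 0, Int.ofNat 0, Int.ofNat 0, Int.ofNat 0, Int.ofNat 0, Int.ofNat 0, Int.ofNat 0, Int.ofNat 0, Int.ofNat 0, Int.ofNat 0],
  [Int.ofNat 0, Int.negSucc 3, Int.ofNat 0, Int.ofNat 0, Int.ofNat 0, Int.ofNat 0, Int.ofNat 0, Int.ofNat 0, Int.ofNat 0, Int.ofNat 0, Int.ofNat 0, Int.ofNat 0, Int.ofNat 0, Int.ofNat 0, Int.ofNat 0, Int.ofNat 0, Int.ofNat 0, Int.ofNat 0, Int.ofNat 0, Int.ofNat 0, Int.ofNat 0, Int.ofNat 0, Int.ofNat 0, Int.negSucc 3],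
  [Int.ofNat 0, Int.negSucc 3, Int.ofNat 0, Int.ofNat 0, Int.ofNat 0, Int.ofNat 0, Int.ofNat 0, Int.ofNat 0, Int.ofNat 0, Int.ofNat 0, Int.ofNat 0, Int.ofNat 0, Int.ofNat 0, Int.ofNat 0, Int.ofNat 0, Int.ofNat 0, Int.ofNat 0, Int.ofNat 0, Int.ofNat 0, Int.ofNat 0, Int.ofNat 0, Int.ofNat 0, Int.ofNat 0, Int.negSucc 3],
  [Int.ofNat 0, Int.ofNat 0, Int.ofNat 0, Int.ofNat 0, Int.ofNat 0, Int.ofNat 0, Int.ofNat 0, Int.ofNat 0, Int.ofNat 0, Int.ofNat 0, Int.ofNat 0, Int.ofNat 0, Int.ofNat 0, Int.ofNat 0, Int.ofNat 0, Int.ofNat 0, Int.ofNat 0, Int.ofNat 0, Int.ofNat 0, Int.ofNat 0, Int.ofNat 0, Int.negSucc 3, Int.ofNat 0, Int.negSucc 3],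
  [Int.ofNat 0, Int.ofNat 0, Int.ofNat 0, Int.ofNat 0, Int.ofNat 0, Int.ofNat 0, Int.ofNat 0, Int.ofNat 0, Int.ofNat 0, Int.ofNat 0, Int.ofNat 0, Int.ofNat 0, Int.ofNat 0, Int.ofNat 0, Int.ofNat 0, Int.ofNat 0, Int.ofNat 0, Int.ofNat 0, Int.ofNat 0, Int.ofNat 0, Int.ofNat 0, Int.negSucc 3, Int.ofNat 0, Int.negSucc 3],
  [Int.negSucc 3, Int.ofNat 0, Int.ofNat 0, Int.ofNat 0, Int.ofNat 0, Int.ofNat 0, Int.ofNat 0, Int.ofNat 0, Int.ofNat 0, Int.ofNat 0, Int.ofNat 0, Int.ofNat 0, Int.negSucc 3, Int.ofNat 0, Int.ofNat 0, Int.ofNat 0, Int.ofNat 0, Int.ofNat 0, Int.ofNat 0, Int.ofNat 0, Int.ofNat 0, Int.ofNat 0, Int.ofNat 0, Int.ofNat 0],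
  [Int.ofNat 4, Int.ofNat 0, Int.ofNat 0, Int.ofNat 0, Int.ofNat 0, Int.ofNat 0, Int.ofNat 0, Int.ofNat 0, Int.ofNat 0, Int.ofNat 0, Int.ofNat 0, Int.ofNat 0, Int.negSucc 3, Int.ofNat 0, Int.ofNat 0, Int.ofNat 0, Int.ofNat 0, Int.ofNat 0, Int.ofNat 0, Int.ofNat 0, Int.ofNat 0, Int.ofNat 0, Int.ofNat 0, Int.ofNat 0],
  [Int.ofNat 0, Int.ofNat 4, Int.ofNat 0, Int.ofNat 0, Int.ofNat 0, Int.ofNat 0, Int.ofNat 0, Int.ofNat 0, Int.ofNat 0, Int.ofNat 0, Int.ofNat 0, Int.ofNat 0, Int.ofNat 0, Int.negSucc 3, Int.ofNat 0, Int.ofNat 0, Int.ofNat 0, Int.ofNat 0, Int.ofNat 0, Int.ofNat 0, Int.ofNat 0, Int.ofNat 0, Int.ofNat 0, Int.ofNat 0],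
  [Int.ofNat 2, Int.negSucc 1, Int.ofNat 2, Int.ofNat 0, Int.ofNat 2, Int.ofNat 0, Int.ofNat 0, Int.ofNat 0, Int.ofNat 0, Int.ofNat 0, Int.ofNat 0, Int.ofNat 0, Int.ofNat 0, Int.negSucc 1, Int.ofNat 0, Int.ofNat 0, Int.ofNat 2, Int.ofNat 0, Int.ofNat 0, Int.ofNat 0, Int.ofNat 0, Int.ofNat 0, Int.ofNat 2, Int.ofNat 2],
  [Int.ofNat 0, Int.ofNat 2, Int.ofNat 0, Int.ofNat 0, Int.ofNat 0, Int.ofNat 0, Int.ofNat 0, Int.ofNat 0, Int.ofNat 0, Int.ofNat 0, Int.negSucc 1, Int.ofNat 0, Int.ofNat 0, Int.ofNat 2, Int.ofNat 0, Int.ofNat 0, Int.ofNat 0, Int.ofNat 0, Int.ofNat 0, Int.ofNat 2, Int.ofNat 2, Int.negSucc 1, Int.ofNat 2, Int.ofNat 2],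
  [Int.ofNat 2, Int.ofNat 0, Int.ofNat 2, Int.ofNat 0, Int.negSucc 1, Int.ofNat 0, Int.ofNat 0, Int.ofNat 0, Int.ofNat 0, Int.ofNat 0, Int.negSucc 1, Int.ofNat 0, Int.ofNat 0, Int.ofNat 0, Int.ofNat 0, Int.ofNat 0, Int.negSucc 1, Int.ofNat 0, Int.ofNat 0, Int.ofNat 2, Int.ofNat 2, Int.negSucc 1, Int.ofNat 0, Int.ofNat 0],
  [Int.ofNat 2, Int.ofNat 0, Int.negSucc 1, Int.ofNat 0, Int.ofNat 0, Int.ofNat 0, Int.ofNat 2, Int.negSucc 1, Int.ofNat 0, Int.ofNat 0, Int.ofNat 2, Int.ofNat 0, Int.ofNat 0, Int.negSucc 1, Int.ofNat 0, Int.ofNat 0, Int.ofNat 0, Int.ofNat 0, Int.ofNat 0, Int.ofNat 0, Int.negSucc 1, Int.ofNat 0, Int.ofNat 2, Int.ofNat 0],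
  [Int.negSucc 1, Int.ofNat 0, Int.ofNat 2, Int.ofNat 0, Int.ofNat 0, Int.ofNat 0, Int.ofNat 2, Int.negSucc 1, Int.ofNat 0, Int.ofNat 0, Int.ofNat 2, Int.ofNat 0, Int.ofNat 0, Int.negSucc 1, Int.ofNat 0, Int.ofNat 0, Int.ofNat 0, Int.ofNat 0, Int.ofNat 0, Int.ofNat 0, Int.negSucc 1, Int.ofNat 0, Int.ofNat 2, Int.ofNat 0],
  [Int.negSucc 1, Int.ofNat 0, Int.negSucc 1, Int.ofNat 0, Int.ofNat 0, Int.ofNat 0, Int.negSucc 1, Int.negSucc 1, Int.ofNat 0, Int.ofNat 0, Int.negSucc 1, Int.ofNat 0, Int.ofNat 0, Int.negSucc 1, Int.ofNat 0, Int.ofNat 0, Int.ofNat 0, Int.ofNat 0, Int.ofNat 0, Int.ofNat 0, Int.negSucc 1, Int.ofNat 0, Int.negSucc 1, Int.ofNat 0],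
  [Int.negSucc 1, Int.negSucc 1, Int.ofNat 0, Int.negSucc 1, Int.ofNat 0, Int.negSucc 1, Int.ofNat 0, Int.ofNat 0, Int.negSucc 1, Int.negSucc 1, Int.ofNat 0, Int.ofNat 0, Int.negSucc 1, Int.ofNat 0, Int.ofNat 0, Int.ofNat 0, Int.ofNat 0, Int.ofNat 0, Int.ofNat 0, Int.ofNat 0, Int.negSucc 1, Int.ofNat 0, Int.ofNat 0, Int.ofNat 0],
  [Int.negSucc 1, Int.negSucc 1, Int.ofNat 0, Int.negSucc 1, Int.ofNat 0, Int.ofNat 2, Int.ofNat 0, Int.ofNat 0, Int.negSucc 1, Int.ofNat 2, Int.ofNat 0, Int.ofNat 0, Int.negSucc 1, Int.ofNat 0, Int.ofNat 0, Int.ofNat 0, Int.ofNat 0, Int.ofNat 0, Int.ofNat 0, Int.ofNat 0, Int.negSucc 1, Int.ofNat 0, Int.ofNat 0, Int.ofNat 0],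
  [Int.ofNat 0, Int.ofNat 0, Int.negSucc 1, Int.negSucc 1, Int.ofNat 0, Int.ofNat 2, Int.ofNat 0, Int.ofNat 0, Int.ofNat 0, Int.ofNat 2, Int.ofNat 0, Int.ofNat 2, Int.ofNat 0, Int.ofNat 0, Int.ofNat 0, Int.ofNat 0, Int.ofNat 0, Int.ofNat 0, Int.ofNat 2, Int.ofNat 0, Int.negSucc 1, Int.ofNat 0, Int.ofNat 0, Int.negSucc 1],
  [Int.ofNat 0, Int.ofNat 2, Int.ofNat 0, Int.negSucc 1, Int.negSucc 1, Int.ofNat 0, Int.ofNat 0, Int.ofNat 2, Int.ofNat 0, Int.ofNat 0, Int.ofNat 0, Int.ofNat 0, Int.ofNat 0, Int.ofNat 2, Int.ofNat 0, Int.ofNat 0, Int.ofNat 0, Int.ofNat 2, Int.ofNat 0, Int.ofNat 0, Int.ofNat 0, Int.negSucc 1, Int.ofNat 0, Int.negSucc 1],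
  [Int.ofNat 0, Int.negSucc 1, Int.ofNat 0, Int.negSucc 1, Int.negSucc 1, Int.ofNat 0, Int.ofNat 0, Int.ofNat 2, Int.ofNat 0, Int.ofNat 0, Int.ofNat 0, Int.ofNat 0, Int.ofNat 0, Int.ofNat 2, Int.ofNat 0, Int.ofNat 0, Int.ofNat 0, Int.ofNat 2, Int.ofNat 0, Int.ofNat 0, Int.ofNat 0, Int.negSucc 1, Int.ofNat 0, Int.ofNat 2],
  [Int.ofNat 0, Int.negSucc 1, Int.ofNat 0, Int.ofNat 0, Int.negSucc 1, Int.ofNat 0, Int.negSucc 1, Int.negSucc 1, Int.ofNat 0, Int.ofNat 0, Int.ofNat 2, Int.ofNat 0, Int.ofNat 0, Int.ofNat 0, Int.ofNat 0, Int.ofNat 0, Int.ofNat 2, Int.ofNat 0, Int.ofNat 0, Int.ofNat 0, Int.ofNat 2, Int.ofNat 0, Int.ofNat 0, Int.ofNat 2],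
  [Int.ofNat 0, Int.ofNat 2, Int.ofNat 0, Int.ofNat 0, Int.negSucc 1, Int.ofNat 0, Int.ofNat 0, Int.ofNat 0, Int.ofNat 0, Int.negSucc 1, Int.ofNat 0, Int.ofNat 0, Int.ofNat 0, Int.ofNat 0, Int.ofNat 0, Int.negSucc 1, Int.ofNat 2, Int.ofNat 0, Int.ofNat 0, Int.ofNat 2, Int.ofNat 0, Int.ofNat 2, Int.ofNat 0, Int.negSucc 1],
  [Int.ofNat 2, Int.ofNat 0, Int.ofNat 0, Int.negSucc 1, Int.ofNat 0, Int.ofNat 0, Int.ofNat 0, Int.ofNat 0, Int.negSucc 1, Int.ofNat 0, Int.ofNat 0, Int.ofNat 0, Int.ofNat 0, Int.ofNat 0, Int.negSucc 1, Int.ofNat 2, Int.ofNat 0, Int.ofNat 0, Int.ofNat 2, Int.ofNat 0, Int.ofNat 2, Int.ofNat 0, Int.ofNat 0, Int.negSucc 1],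
  [Int.negSucc 1, Int.ofNat 0, Int.ofNat 0, Int.negSucc 1, Int.ofNat 0, Int.ofNat 0, Int.ofNat 0, Int.ofNat 0, Int.negSucc 1, Int.ofNat 0, Int.ofNat 0, Int.ofNat 0, Int.ofNat 0, Int.ofNat 0, Int.negSucc 1, Int.ofNat 2, Int.ofNat 0, Int.ofNat 0, Int.negSucc 1, Int.ofNat 0, Int.ofNat 2, Int.ofNat 0, Int.ofNat 0, Int.negSucc 1],
  [Int.negSucc 1, Int.ofNat 0, Int.negSucc 1, Int.negSucc 1, Int.ofNat 0, Int.ofNat 0, Int.ofNat 0, Int.ofNat 2, Int.ofNat 0, Int.ofNat 0, Int.ofNat 0, Int.negSucc 1, Int.ofNat 0, Int.negSucc 1, Int.ofNat 0, Int.ofNat 2, Int.ofNat 0, Int.ofNat 0, Int.ofNat 0, Int.ofNat 0, Int.ofNat 0, Int.ofNat 0, Int.ofNat 0, Int.negSucc 1],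
  [Int.ofNat 2, Int.ofNat 0, Int.ofNat 2, Int.negSucc 1, Int.ofNat 0, Int.ofNat 0, Int.ofNat 0, Int.negSucc 1, Int.ofNat 0, Int.ofNat 0, Int.ofNat 0, Int.ofNat 2, Int.ofNat 0, Int.negSucc 1, Int.ofNat 0, Int.ofNat 2, Int.ofNat 0, Int.ofNat 0, Int.ofNat 0, Int.ofNat 0, Int.ofNat 0, Int.ofNat 0, Int.ofNat 0, Int.negSucc 1],
  [Int.ofNat 0, Int.ofNat 2, Int.ofNat 0, Int.ofNat 2, Int.negSucc 1, Int.ofNat 0, Int.ofNat 0, Int.ofNat 0, Int.negSucc 1, Int.ofNat 0, Int.ofNat 0, Int.ofNat 0, Int.ofNat 2, Int.ofNat 0, Int.negSucc 1, Int.ofNat 0, Int.ofNat 2, Int.ofNat 0, Int.ofNat 0, Int.ofNat 0, Int.ofNat 0, Int.ofNat 0, Int.ofNat 0, Int.negSucc 1],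
  [Int.ofNat 0, Int.negSucc 1, Int.ofNat 0, Int.ofNat 2, Int.negSucc 1, Int.ofNat 0, Int.ofNat 0, Int.ofNat 0, Int.negSucc 1, Int.ofNat 0, Int.ofNat 0, Int.ofNat 0, Int.ofNat 2, Int.ofNat 0, Int.negSucc 1, Int.ofNat 0, Int.ofNat 2, Int.ofNat 0, Int.ofNat 0, Int.ofNat 0, Int.ofNat 0, Int.ofNat 0, Int.ofNat 0, Int.ofNat 2],
  [Int.ofNat 2, Int.negSucc 1, Int.ofNat 0, Int.ofNat 0, Int.ofNat 0, Int.negSucc 1, Int.ofNat 0, Int.ofNat 0, Int.ofNat 0, Int.ofNat 2, Int.ofNat 0, Int.negSucc 1, Int.ofNat 0, Int.ofNat 2, Int.ofNat 0, Int.ofNat 0, Int.ofNat 0, Int.ofNat 0, Int.ofNat 0, Int.ofNat 0, Int.ofNat 0, Int.negSucc 1, Int.ofNat 0, Int.ofNat 2],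
  [Int.negSucc 0, Int.ofNat 3, Int.ofNat 1, Int.ofNat 1, Int.negSucc 0, Int.negSucc 0, Int.ofNat 1, Int.ofNat 1, Int.ofNat 1, Int.ofNat 1, Int.negSucc 0, Int.negSucc 0, Int.ofNat 1, Int.ofNat 1, Int.ofNat 1, Int.negSucc 0, Int.negSucc 0, Int.ofNat 1, Int.ofNat 1, Int.ofNat 1, Int.negSucc 0, Int.negSucc 0, Int.negSucc 0, Int.negSucc 0],
  [Int.negSucc 0, Int.ofNat 1, Int.negSucc 0, Int.ofNat 1, Int.ofNat 1, Int.ofNat 1, Int.ofNat 1, Int.negSucc 0, Int.ofNat 1, Int.ofNat 1, Int.negSucc 0, Int.ofNat 1, Int.ofNat 1, Int.negSucc 0, Int.negSucc 0, Int.negSucc 0, Int.ofNat 1, Int.ofNat 1, Int.ofNat 3, Int.negSucc 0, Int.negSucc 0, Int.negSucc 0, Int.ofNat 1, Int.negSucc 0],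
  [Int.ofNat 0, Int.negSucc 1, Int.ofNat 0, Int.ofNat 0, Int.ofNat 0, Int.ofNat 0, Int.ofNat 2, Int.ofNat 0, Int.negSucc 1, Int.ofNat 2, Int.ofNat 0, Int.negSucc 1, Int.negSucc 1, Int.negSucc 1, Int.negSucc 1, Int.ofNat 0, Int.ofNat 0, Int.ofNat 0, Int.ofNat 0, Int.ofNat 0, Int.ofNat 0, Int.ofNat 0, Int.ofNat 0, Int.ofNat 0],
  [Int.ofNat 0, Int.negSucc 1, Int.ofNat 0, Int.ofNat 0, Int.ofNat 0, Int.ofNat 0, Int.negSucc 1, Int.ofNat 0, Int.negSucc 1, Int.negSucc 1, Int.ofNat 0, Int.negSucc 1, Int.negSucc 1, Int.negSucc 1, Int.negSucc 1, Int.ofNat 0, Int.ofNat 0, Int.ofNat 0, Int.ofNat 0, Int.ofNat 0, Int.ofNat 0, Int.ofNat 0, Int.ofNat 0, Int.ofNat 0],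
  [Int.ofNat 0, Int.ofNat 0, Int.negSucc 1, Int.negSucc 1, Int.negSucc 1, Int.negSucc 1, Int.ofNat 0, Int.ofNat 0, Int.ofNat 0, Int.ofNat 0, Int.negSucc 1, Int.ofNat 0, Int.ofNat 0, Int.ofNat 0, Int.ofNat 0, Int.ofNat 0, Int.ofNat 0, Int.negSucc 1, Int.negSucc 1, Int.ofNat 0, Int.ofNat 0, Int.negSucc 1, Int.ofNat 0, Int.ofNat 0],
  [Int.ofNat 0, Int.ofNat 0, Int.ofNat 2, Int.ofNat 2, Int.ofNat 2, Int.negSucc 1, Int.ofNat 0, Int.ofNat 0, Int.ofNat 0, Int.ofNat 0, Int.negSucc 1, Int.ofNat 0, Int.ofNat 0, Int.ofNat 0, Int.ofNat 0, Int.ofNat 0, Int.ofNat 0, Int.negSucc 1, Int.ofNat 2, Int.ofNat 0, Int.ofNat 0, Int.negSucc 1, Int.ofNat 0, Int.ofNat 0],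
  [Int.ofNat 0, Int.ofNat 0, Int.ofNat 0, Int.ofNat 0, Int.negSucc 1, Int.ofNat 0, Int.ofNat 0, Int.ofNat 0, Int.ofNat 0, Int.negSucc 1, Int.ofNat 0, Int.ofNat 2, Int.negSucc 1, Int.ofNat 0, Int.ofNat 2, Int.ofNat 2, Int.negSucc 1, Int.ofNat 2, Int.ofNat 0, Int.ofNat 0, Int.ofNat 0, Int.ofNat 0, Int.ofNat 0, Int.ofNat 0],
  [Int.ofNat 0, Int.ofNat 0, Int.ofNat 0, Int.ofNat 0, Int.negSucc 1, Int.ofNat 0, Int.ofNat 0, Int.ofNat 0, Int.ofNat 0, Int.ofNat 2, Int.ofNat 0, Int.negSucc 1, Int.negSucc 1, Int.ofNat 0, Int.ofNat 2, Int.ofNat 2, Int.negSucc 1, Int.ofNat 2, Int.ofNat 0, Int.ofNat 0, Int.ofNat 0, Int.ofNat 0, Int.ofNat 0, Int.ofNat 0],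
  [Int.ofNat 0, Int.ofNat 0, Int.ofNat 0, Int.ofNat 0, Int.ofNat 0, Int.negSucc 1, Int.ofNat 0, Int.ofNat 0, Int.ofNat 0, Int.ofNat 0, Int.ofNat 2, Int.ofNat 0, Int.negSucc 1, Int.negSucc 1, Int.ofNat 0, Int.ofNat 2, Int.ofNat 2, Int.negSucc 1, Int.ofNat 2, Int.ofNat 0, Int.ofNat 0, Int.ofNat 0, Int.ofNat 0, Int.ofNat 0],
  [Int.ofNat 0, Int.ofNat 0, Int.ofNat 0, Int.ofNat 2, Int.ofNat 0, Int.ofNat 0, Int.ofNat 0, Int.ofNat 0, Int.ofNat 0, Int.negSucc 1, Int.ofNat 0, Int.ofNat 0, Int.negSucc 1, Int.negSucc 1, Int.ofNat 2, Int.ofNat 0, Int.ofNat 2, Int.ofNat 0, Int.ofNat 2, Int.ofNat 0, Int.negSucc 1, Int.ofNat 0, Int.ofNat 0, Int.ofNat 0],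
  [Int.ofNat 2, Int.ofNat 0, Int.ofNat 0, Int.ofNat 0, Int.ofNat 0, Int.ofNat 0, Int.negSucc 1, Int.ofNat 0, Int.ofNat 0, Int.negSucc 1, Int.negSucc 1, Int.ofNat 2, Int.ofNat 0, Int.ofNat 2, Int.ofNat 0, Int.ofNat 2, Int.ofNat 0, Int.negSucc 1, Int.ofNat 0, Int.ofNat 0, Int.ofNat 0, Int.ofNat 0, Int.ofNat 0, Int.ofNat 0],
  [Int.negSucc 0, Int.ofNat 1, Int.ofNat 1, Int.ofNat 1, Int.negSucc 0, Int.ofNat 1, Int.negSucc 0, Int.ofNat 1, Int.negSucc 0, Int.negSucc 0, Int.negSucc 0, Int.ofNat 1, Int.negSucc 0, Int.ofNat 1, Int.ofNat 1, Int.ofNat 3, Int.negSucc 0, Int.negSucc 0, Int.negSucc 0, Int.ofNat 1, Int.ofNat 1, Int.ofNat 1, Int.negSucc 0, Int.ofNat 1],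
  [Int.negSucc 0, Int.negSucc 0, Int.negSucc 0, Int.ofNat 1, Int.negSucc 0, Int.ofNat 1, Int.ofNat 1, Int.negSucc 0, Int.negSucc 0, Int.ofNat 1, Int.ofNat 1, Int.negSucc 0, Int.negSucc 0, Int.negSucc 0, Int.negSucc 0, Int.ofNat 3, Int.negSucc 0, Int.ofNat 1, Int.ofNat 1, Int.ofNat 1, Int.ofNat 1, Int.ofNat 1, Int.ofNat 1, Int.ofNat 1],
  [Int.ofNat 0, Int.ofNat 0, Int.ofNat 0, Int.ofNat 0, Int.ofNat 0, Int.ofNat 0, Int.ofNat 0, Int.negSucc 1, Int.ofNat 0, Int.negSucc 1, Int.negSucc 1, Int.ofNat 0, Int.ofNat 0, Int.ofNat 0, Int.negSucc 1, Int.ofNat 0, Int.ofNat 0, Int.ofNat 0, Int.ofNat 2, Int.ofNat 0, Int.negSucc 1, Int.ofNat 0, Int.ofNat 2, Int.negSucc 1],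
  [Int.ofNat 0, Int.ofNat 0, Int.ofNat 0, Int.ofNat 0, Int.ofNat 0, Int.ofNat 0, Int.ofNat 0, Int.negSucc 1, Int.ofNat 0, Int.ofNat 2, Int.ofNat 2, Int.ofNat 0, Int.ofNat 0, Int.ofNat 0, Int.negSucc 1, Int.ofNat 0, Int.ofNat 0, Int.ofNat 0, Int.negSucc 1, Int.ofNat 0, Int.negSucc 1, Int.ofNat 0, Int.negSucc 1, Int.negSucc 1],
  [Int.negSucc 1, Int.ofNat 2, Int.ofNat 0, Int.negSucc 1, Int.negSucc 1, Int.ofNat 0, Int.ofNat 0, Int.ofNat 0, Int.ofNat 0, Int.ofNat 0, Int.ofNat 0, Int.negSucc 1, Int.ofNat 0, Int.ofNat 0, Int.ofNat 0, Int.ofNat 0, Int.ofNat 0, Int.ofNat 0, Int.ofNat 0, Int.ofNat 2, Int.negSucc 1, Int.ofNat 0, Int.ofNat 0, Int.negSucc 1],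
  [Int.negSucc 1, Int.ofNat 2, Int.ofNat 0, Int.negSucc 1, Int.negSucc 1, Int.ofNat 0, Int.ofNat 0, Int.ofNat 0, Int.ofNat 0, Int.ofNat 0, Int.ofNat 0, Int.negSucc 1, Int.ofNat 0, Int.ofNat 0, Int.ofNat 0, Int.ofNat 0, Int.ofNat 0, Int.ofNat 0, Int.ofNat 0, Int.ofNat 2, Int.negSucc 1, Int.ofNat 0, Int.ofNat 0, Int.negSucc 1],
  [Int.ofNat 1, Int.negSucc 2, Int.negSucc 0, Int.negSucc 0, Int.negSucc 0, Int.ofNat 1, Int.negSucc 0, Int.negSucc 0, Int.ofNat 1, Int.ofNat 1, Int.ofNat 1, Int.negSucc 0, Int.ofNat 1, Int.ofNat 1, Int.ofNat 1, Int.ofNat 1, Int.ofNat 1, Int.ofNat 1, Int.ofNat 1, Int.ofNat 1, Int.negSucc 0, Int.negSucc 0, Int.ofNat 1, Int.ofNat 1],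
  [Int.ofNat 1, Int.ofNat 1, Int.negSucc 0, Int.negSucc 0, Int.negSucc 0, Int.negSucc 0, Int.negSucc 2, Int.ofNat 1, Int.ofNat 1, Int.ofNat 1, Int.negSucc 0, Int.ofNat 1, Int.ofNat 1, Int.ofNat 1, Int.ofNat 1, Int.ofNat 1, Int.ofNat 1, Int.negSucc 0, Int.negSucc 0, Int.ofNat 1, Int.ofNat 1, Int.negSucc 0, Int.ofNat 1, Int.ofNat 1],
  [Int.ofNat 0, Int.ofNat 0, Int.ofNat 2, Int.ofNat 0, Int.negSucc 1, Int.ofNat 0, Int.negSucc 1, Int.ofNat 2, Int.ofNat 0, Int.ofNat 0, Int.negSucc 1, Int.ofNat 0, Int.ofNat 0, Int.ofNat 0, Int.ofNat 2, Int.ofNat 0, Int.ofNat 0, Int.ofNat 0, Int.negSucc 1, Int.ofNat 2, Int.ofNat 0, Int.ofNat 0, Int.ofNat 0, Int.ofNat 0],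
  [Int.ofNat 0, Int.ofNat 0, Int.ofNat 0, Int.ofNat 0, Int.ofNat 0, Int.ofNat 2, Int.ofNat 0, Int.negSucc 1, Int.ofNat 0, Int.negSucc 1, Int.ofNat 2, Int.ofNat 0, Int.ofNat 0, Int.negSucc 1, Int.ofNat 0, Int.ofNat 0, Int.ofNat 0, Int.ofNat 2, Int.ofNat 0, Int.ofNat 0, Int.ofNat 0, Int.negSucc 1, Int.ofNat 2, Int.ofNat 0],
  [Int.ofNat 0, Int.ofNat 0, Int.ofNat 0, Int.negSucc 1, Int.ofNat 0, Int.ofNat 0, Int.ofNat 2, Int.ofNat 0, Int.ofNat 0, Int.negSucc 1, Int.ofNat 2, Int.ofNat 0, Int.ofNat 0, Int.negSucc 1, Int.negSucc 1, Int.ofNat 0, Int.ofNat 0, Int.ofNat 0, Int.ofNat 0, Int.ofNat 2, Int.ofNat 0, Int.ofNat 0, Int.ofNat 2, Int.ofNat 0],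
  [Int.ofNat 0, Int.ofNat 0, Int.negSucc 1, Int.ofNat 0, Int.ofNat 0, Int.ofNat 2, Int.ofNat 0, Int.ofNat 0, Int.negSucc 1, Int.ofNat 2, Int.ofNat 0, Int.ofNat 0, Int.negSucc 1, Int.negSucc 1, Int.ofNat 0, Int.ofNat 0, Int.ofNat 0, Int.ofNat 0, Int.ofNat 2, Int.ofNat 0, Int.ofNat 0, Int.ofNat 2, Int.ofNat 0, Int.ofNat 0],
  [Int.ofNat 0, Int.ofNat 0, Int.ofNat 2, Int.ofNat 0, Int.ofNat 0, Int.ofNat 2, Int.ofNat 0, Int.ofNat 0, Int.negSucc 1, Int.negSucc 1, Int.ofNat 0, Int.ofNat 0, Int.negSucc 1, Int.negSucc 1, Int.ofNat 0, Int.ofNat 0, Int.ofNat 0, Int.ofNat 0, Int.negSucc 1, Int.ofNat 0, Int.ofNat 0, Int.negSucc 1, Int.ofNat 0, Int.ofNat 0],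
  [Int.ofNat 0, Int.ofNat 2, Int.negSucc 1, Int.ofNat 0, Int.ofNat 0, Int.ofNat 0, Int.ofNat 0, Int.ofNat 0, Int.negSucc 1, Int.ofNat 0, Int.negSucc 1, Int.ofNat 0, Int.negSucc 1, Int.negSucc 1, Int.ofNat 0, Int.ofNat 0, Int.negSucc 1, Int.ofNat 0, Int.ofNat 0, Int.ofNat 0, Int.ofNat 2, Int.ofNat 0, Int.ofNat 0, Int.ofNat 0],
  [Int.ofNat 0, Int.ofNat 2, Int.ofNat 2, Int.ofNat 0, Int.ofNat 0, Int.ofNat 0, Int.ofNat 0, Int.ofNat 0, Int.negSucc 1, Int.ofNat 0, Int.ofNat 2, Int.ofNat 0, Int.negSucc 1, Int.negSucc 1, Int.ofNat 0, Int.ofNat 0, Int.negSucc 1, Int.ofNat 0, Int.ofNat 0, Int.ofNat 0, Int.ofNat 2, Int.ofNat 0, Int.ofNat 0, Int.ofNat 0],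
  [Int.ofNat 0, Int.ofNat 0, Int.ofNat 2, Int.ofNat 2, Int.ofNat 0, Int.ofNat 0, Int.ofNat 0, Int.ofNat 0, Int.ofNat 0, Int.negSucc 1, Int.ofNat 0, Int.ofNat 2, Int.ofNat 0, Int.negSucc 1, Int.negSucc 1, Int.ofNat 0, Int.ofNat 0, Int.negSucc 1, Int.ofNat 0, Int.ofNat 0, Int.ofNat 0, Int.ofNat 2, Int.ofNat 0, Int.ofNat 0],
  [Int.ofNat 1, Int.ofNat 1, Int.negSucc 0, Int.ofNat 3, Int.ofNat 1, Int.ofNat 1, Int.negSucc 0, Int.negSucc 0, Int.negSucc 0, Int.negSucc 0, Int.ofNat 1, Int.ofNat 1, Int.negSucc 0, Int.negSucc 0, Int.negSucc 0, Int.ofNat 1, Int.ofNat 1, Int.negSucc 0, Int.negSucc 0, Int.negSucc 0, Int.ofNat 1, Int.ofNat 1, Int.ofNat 1, Int.ofNat 1],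
  [Int.ofNat 3, Int.ofNat 1, Int.ofNat 1, Int.negSucc 0, Int.negSucc 0, Int.negSucc 0, Int.negSucc 0, Int.ofNat 1, Int.ofNat 1, Int.negSucc 0, Int.negSucc 0, Int.negSucc 0, Int.ofNat 1, Int.ofNat 1, Int.negSucc 0, Int.negSucc 0, Int.negSucc 0, Int.ofNat 1, Int.ofNat 1, Int.ofNat 1, Int.ofNat 1, Int.ofNat 1, Int.negSucc 0, Int.ofNat 1],
  [Int.ofNat 0, Int.ofNat 2, Int.ofNat 2, Int.ofNat 0, Int.ofNat 0, Int.ofNat 0, Int.negSucc 1, Int.ofNat 0, Int.ofNat 0, Int.ofNat 0, Int.ofNat 0, Int.negSucc 1, Int.ofNat 0, Int.ofNat 2, Int.ofNat 0, Int.ofNat 0, Int.ofNat 0, Int.ofNat 2, Int.ofNat 0, Int.ofNat 0, Int.ofNat 2, Int.ofNat 0, Int.ofNat 0, Int.ofNat 2],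
  [Int.ofNat 0, Int.negSucc 1, Int.ofNat 0, Int.ofNat 0, Int.ofNat 0, Int.ofNat 0, Int.ofNat 2, Int.ofNat 0, Int.ofNat 0, Int.ofNat 2, Int.ofNat 2, Int.ofNat 2, Int.ofNat 0, Int.ofNat 0, Int.ofNat 0, Int.ofNat 0, Int.ofNat 0, Int.ofNat 0, Int.ofNat 2, Int.negSucc 1, Int.ofNat 0, Int.ofNat 0, Int.ofNat 0, Int.ofNat 2],
  [Int.ofNat 0, Int.ofNat 2, Int.ofNat 0, Int.ofNat 0, Int.ofNat 0, Int.ofNat 0, Int.ofNat 2, Int.ofNat 0, Int.negSucc 1, Int.ofNat 0, Int.ofNat 0, Int.ofNat 0, Int.negSucc 1, Int.ofNat 0, Int.ofNat 0, Int.negSucc 1, Int.ofNat 0, Int.ofNat 0, Int.ofNat 0, Int.negSucc 1, Int.negSucc 1, Int.ofNat 0, Int.ofNat 0, Int.negSucc 1],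
  [Int.ofNat 0, Int.ofNat 2, Int.ofNat 0, Int.ofNat 0, Int.ofNat 0, Int.ofNat 0, Int.negSucc 1, Int.ofNat 0, Int.negSucc 1, Int.ofNat 0, Int.ofNat 0, Int.ofNat 0, Int.negSucc 1, Int.ofNat 0, Int.ofNat 0, Int.ofNat 2, Int.ofNat 0, Int.ofNat 0, Int.ofNat 0, Int.negSucc 1, Int.negSucc 1, Int.ofNat 0, Int.ofNat 0, Int.negSucc 1],
  [Int.ofNat 0, Int.ofNat 0, Int.ofNat 0, Int.negSucc 1, Int.ofNat 0, Int.negSucc 1, Int.ofNat 0, Int.ofNat 0, Int.ofNat 0, Int.negSucc 1, Int.ofNat 0, Int.ofNat 0, Int.ofNat 2, Int.ofNat 0, Int.ofNat 0, Int.ofNat 0, Int.negSucc 1, Int.negSucc 1, Int.ofNat 0, Int.ofNat 0, Int.ofNat 0, Int.ofNat 2, Int.ofNat 0, Int.negSucc 1],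
  [Int.ofNat 0, Int.ofNat 0, Int.ofNat 0, Int.ofNat 2, Int.ofNat 0, Int.negSucc 1, Int.ofNat 0, Int.ofNat 0, Int.ofNat 0, Int.ofNat 2, Int.ofNat 0, Int.ofNat 0, Int.negSucc 1, Int.ofNat 0, Int.ofNat 0, Int.ofNat 0, Int.ofNat 2, Int.negSucc 1, Int.ofNat 0, Int.ofNat 0, Int.ofNat 0, Int.ofNat 2, Int.ofNat 0, Int.negSucc 1],
  [Int.negSucc 1, Int.ofNat 0, Int.ofNat 0, Int.ofNat 0, Int.negSucc 1, Int.ofNat 2, Int.ofNat 0, Int.ofNat 0, Int.ofNat 0, Int.negSucc 1, Int.ofNat 2, Int.ofNat 0, Int.ofNat 2, Int.ofNat 0, Int.ofNat 0, Int.ofNat 2, Int.ofNat 0, Int.ofNat 0, Int.ofNat 0, Int.ofNat 0, Int.ofNat 0, Int.negSucc 1, Int.ofNat 0, Int.ofNat 0],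
  [Int.ofNat 2, Int.ofNat 0, Int.ofNat 0, Int.ofNat 0, Int.negSucc 1, Int.ofNat 2, Int.ofNat 0, Int.ofNat 0, Int.ofNat 0, Int.ofNat 2, Int.negSucc 1, Int.ofNat 0, Int.ofNat 2, Int.ofNat 0, Int.ofNat 0, Int.ofNat 2, Int.ofNat 0, Int.ofNat 0, Int.ofNat 0, Int.ofNat 0, Int.ofNat 0, Int.ofNat 2, Int.ofNat 0, Int.ofNat 0],
  [Int.ofNat 0, Int.ofNat 2, Int.ofNat 0, Int.ofNat 0, Int.ofNat 0, Int.negSucc 1, Int.ofNat 2, Int.ofNat 0, Int.ofNat 0, Int.ofNat 0, Int.ofNat 2, Int.negSucc 1, Int.ofNat 0, Int.ofNat 2, Int.ofNat 0, Int.ofNat 0, Int.ofNat 2, Int.ofNat 0, Int.ofNat 0, Int.ofNat 0, Int.ofNat 0, Int.ofNat 0, Int.ofNat 2, Int.ofNat 0],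
  [Int.ofNat 1, Int.negSucc 0, Int.ofNat 1, Int.ofNat 1, Int.negSucc 2, Int.negSucc 0, Int.ofNat 1, Int.negSucc 0, Int.ofNat 1, Int.negSucc 0, Int.ofNat 1, Int.negSucc 0, Int.ofNat 1, Int.negSucc 0, Int.ofNat 1, Int.negSucc 0, Int.negSucc 0, Int.ofNat 1, Int.ofNat 1, Int.negSucc 0, Int.negSucc 0, Int.negSucc 0, Int.negSucc 0, Int.ofNat 1],
  [Int.ofNat 1, Int.negSucc 2, Int.negSucc 0, Int.ofNat 1, Int.negSucc 0, Int.ofNat 1, Int.negSucc 0, Int.ofNat 1, Int.negSucc 0, Int.ofNat 1, Int.negSucc 0, Int.ofNat 1, Int.negSucc 0, Int.negSucc 0, Int.ofNat 1, Int.ofNat 1, Int.negSucc 0, Int.negSucc 0, Int.negSucc 0, Int.negSucc 0, Int.ofNat 1, Int.negSucc 0, Int.ofNat 1, Int.ofNat 1],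
  [Int.negSucc 1, Int.ofNat 2, Int.ofNat 0, Int.ofNat 0, Int.ofNat 0, Int.ofNat 0, Int.ofNat 0, Int.ofNat 2, Int.ofNat 0, Int.ofNat 0, Int.negSucc 1, Int.ofNat 2, Int.ofNat 0, Int.ofNat 0, Int.ofNat 0, Int.ofNat 0, Int.ofNat 0, Int.negSucc 1, Int.ofNat 0, Int.ofNat 0, Int.ofNat 0, Int.ofNat 0, Int.ofNat 2, Int.negSucc 1],
  [Int.negSucc 1, Int.ofNat 0, Int.ofNat 0, Int.ofNat 0, Int.ofNat 0, Int.ofNat 2, Int.ofNat 0, Int.negSucc 1, Int.ofNat 0, Int.ofNat 0, Int.ofNat 0, Int.negSucc 1, Int.ofNat 0, Int.ofNat 0, Int.ofNat 2, Int.ofNat 0, Int.ofNat 0, Int.ofNat 0, Int.ofNat 2, Int.ofNat 2, Int.ofNat 0, Int.ofNat 0, Int.ofNat 0, Int.negSucc 1],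
  [Int.ofNat 0, Int.negSucc 1, Int.negSucc 1, Int.negSucc 1, Int.ofNat 0, Int.ofNat 0, Int.ofNat 0, Int.negSucc 1, Int.ofNat 0, Int.ofNat 0, Int.ofNat 0, Int.negSucc 1, Int.ofNat 0, Int.ofNat 0, Int.ofNat 0, Int.ofNat 0, Int.ofNat 0, Int.negSucc 1, Int.ofNat 2, Int.ofNat 2, Int.ofNat 0, Int.ofNat 0, Int.ofNat 0, Int.ofNat 0],
  [Int.ofNat 0, Int.negSucc 1, Int.ofNat 2, Int.negSucc 1, Int.ofNat 0, Int.ofNat 0, Int.ofNat 0, Int.negSucc 1, Int.ofNat 0, Int.ofNat 0, Int.ofNat 0, Int.negSucc 1, Int.ofNat 0, Int.ofNat 0, Int.ofNat 0, Int.ofNat 0, Int.ofNat 0, Int.negSucc 1, Int.negSucc 1, Int.ofNat 2, Int.ofNat 0, Int.ofNat 0, Int.ofNat 0, Int.ofNat 0],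
  [Int.ofNat 0, Int.ofNat 0, Int.negSucc 1, Int.ofNat 0, Int.negSucc 1, Int.ofNat 0, Int.negSucc 1, Int.ofNat 0, Int.ofNat 0, Int.ofNat 0, Int.negSucc 1, Int.ofNat 0, Int.ofNat 2, Int.ofNat 0, Int.ofNat 0, Int.negSucc 1, Int.ofNat 0, Int.ofNat 2, Int.ofNat 0, Int.ofNat 0, Int.negSucc 1, Int.ofNat 0, Int.ofNat 0, Int.ofNat 0],
  [Int.ofNat 0, Int.ofNat 0, Int.ofNat 2, Int.ofNat 0, Int.negSucc 1, Int.ofNat 0, Int.ofNat 2, Int.ofNat 0, Int.ofNat 0, Int.ofNat 0, Int.ofNat 2, Int.ofNat 0, Int.ofNat 2, Int.ofNat 0, Int.ofNat 0, Int.ofNat 2, Int.ofNat 0, Int.ofNat 2, Int.ofNat 0, Int.ofNat 0, Int.negSucc 1, Int.ofNat 0, Int.ofNat 0, Int.ofNat 0],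
  [Int.ofNat 1, Int.ofNat 1, Int.negSucc 0, Int.negSucc 0, Int.negSucc 0, Int.negSucc 0, Int.ofNat 1, Int.negSucc 0, Int.negSucc 0, Int.negSucc 0, Int.ofNat 1, Int.negSucc 0, Int.ofNat 1, Int.ofNat 1, Int.negSucc 0, Int.ofNat 1, Int.ofNat 1, Int.ofNat 1, Int.negSucc 0, Int.negSucc 0, Int.negSucc 2, Int.negSucc 0, Int.ofNat 1, Int.ofNat 1],
  [Int.ofNat 1, Int.negSucc 0, Int.ofNat 1, Int.negSucc 0, Int.negSucc 0, Int.negSucc 0, Int.ofNat 1, Int.negSucc 0, Int.ofNat 1, Int.ofNat 1, Int.negSucc 0, Int.negSucc 0, Int.negSucc 0, Int.negSucc 0, Int.ofNat 1, Int.ofNat 1, Int.ofNat 1, Int.negSucc 0, Int.negSucc 0, Int.ofNat 1, Int.ofNat 1, Int.negSucc 2, Int.negSucc 0, Int.ofNat 1],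
  [Int.ofNat 0, Int.ofNat 2, Int.ofNat 0, Int.ofNat 0, Int.ofNat 0, Int.ofNat 0, Int.ofNat 2, Int.ofNat 0, Int.ofNat 2, Int.ofNat 0, Int.negSucc 1, Int.ofNat 0, Int.ofNat 0, Int.ofNat 0, Int.ofNat 2, Int.ofNat 0, Int.ofNat 2, Int.ofNat 0, Int.ofNat 0, Int.ofNat 2, Int.ofNat 0, Int.negSucc 1, Int.ofNat 0, Int.ofNat 0],
  [Int.ofNat 0, Int.negSucc 1, Int.ofNat 0, Int.ofNat 0, Int.ofNat 2, Int.ofNat 0, Int.ofNat 0, Int.ofNat 0, Int.ofNat 0, Int.ofNat 2, Int.ofNat 0, Int.ofNat 2, Int.ofNat 0, Int.negSucc 1, Int.ofNat 0, Int.ofNat 0, Int.ofNat 0, Int.ofNat 2, Int.ofNat 0, Int.ofNat 2, Int.ofNat 0, Int.ofNat 0, Int.ofNat 2, Int.ofNat 0],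
  [Int.negSucc 0, Int.ofNat 1, Int.negSucc 0, Int.negSucc 0, Int.ofNat 1, Int.negSucc 0, Int.negSucc 0, Int.negSucc 0, Int.negSucc 0, Int.ofNat 1, Int.negSucc 0, Int.ofNat 1, Int.negSucc 0, Int.negSucc 2, Int.negSucc 0, Int.negSucc 0, Int.negSucc 0, Int.ofNat 1, Int.negSucc 0, Int.ofNat 1, Int.negSucc 0, Int.negSucc 0, Int.ofNat 1, Int.negSucc 0],
  [Int.ofNat 1, Int.negSucc 0, Int.negSucc 0, Int.ofNat 1, Int.negSucc 0, Int.negSucc 0, Int.negSucc 0, Int.negSucc 0, Int.ofNat 1, Int.negSucc 0, Int.ofNat 1, Int.negSucc 0, Int.negSucc 2, Int.negSucc 0, Int.negSucc 0, Int.negSucc 0, Int.ofNat 1, Int.negSucc 0, Int.ofNat 1, Int.negSucc 0, Int.negSucc 0, Int.ofNat 1, Int.negSucc 0, Int.negSucc 0],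
  [Int.negSucc 0, Int.negSucc 0, Int.ofNat 1, Int.ofNat 1, Int.negSucc 0, Int.negSucc 0, Int.negSucc 0, Int.ofNat 1, Int.ofNat 1, Int.ofNat 1, Int.negSucc 0, Int.ofNat 1, Int.negSucc 2, Int.negSucc 0, Int.negSucc 0, Int.negSucc 0, Int.ofNat 1, Int.negSucc 0, Int.negSucc 0, Int.negSucc 0, Int.negSucc 0, Int.negSucc 0, Int.negSucc 0, Int.negSucc 0],
  [Int.negSucc 0, Int.ofNat 1, Int.negSucc 0, Int.ofNat 1, Int.negSucc 0, Int.negSucc 0, Int.negSucc 0, Int.negSucc 0, Int.ofNat 1, Int.ofNat 1, Int.negSucc 0, Int.negSucc 0, Int.negSucc 0, Int.ofNat 1, Int.negSucc 0, Int.negSucc 0, Int.negSucc 2, Int.negSucc 0, Int.negSucc 0, Int.negSucc 0, Int.negSucc 0, Int.ofNat 1, Int.ofNat 1, Int.negSucc 0],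
  [Int.ofNat 1, Int.ofNat 1, Int.ofNat 1, Int.ofNat 1, Int.negSucc 0, Int.negSucc 0, Int.negSucc 0, Int.ofNat 1, Int.ofNat 1, Int.negSucc 0, Int.ofNat 1, Int.ofNat 1, Int.negSucc 0, Int.ofNat 1, Int.negSucc 0, Int.negSucc 0, Int.negSucc 2, Int.negSucc 0, Int.ofNat 1, Int.negSucc 0, Int.negSucc 0, Int.negSucc 0, Int.ofNat 1, Int.negSucc 0],
  [Int.ofNat 1, Int.ofNat 1, Int.ofNat 1, Int.ofNat 1, Int.ofNat 1, Int.negSucc 0, Int.negSucc 0, Int.negSucc 0, Int.ofNat 1, Int.ofNat 1, Int.negSucc 0, Int.ofNat 1, Int.ofNat 1, Int.negSucc 0, Int.ofNat 1, Int.negSucc 0, Int.negSucc 0, Int.negSucc 2, Int.negSucc 0, Int.ofNat 1, Int.negSucc 0, Int.negSucc 0, Int.negSucc 0, Int.negSucc 0],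
  [Int.ofNat 0, Int.ofNat 0, Int.ofNat 0, Int.ofNat 2, Int.ofNat 2, Int.ofNat 0, Int.ofNat 0, Int.ofNat 0, Int.ofNat 0, Int.ofNat 2, Int.ofNat 0, Int.ofNat 0, Int.ofNat 0, Int.ofNat 0, Int.ofNat 2, Int.ofNat 0, Int.ofNat 0, Int.negSucc 1, Int.negSucc 1, Int.ofNat 2, Int.ofNat 0, Int.ofNat 0, Int.ofNat 0, Int.ofNat 2],
  [Int.ofNat 2, Int.ofNat 2, Int.ofNat 0, Int.ofNat 0, Int.ofNat 0, Int.ofNat 0, Int.ofNat 2, Int.ofNat 0, Int.ofNat 0, Int.ofNat 0, Int.ofNat 0, Int.ofNat 2, Int.ofNat 0, Int.ofNat 0, Int.negSucc 1, Int.negSucc 1, Int.ofNat 2, Int.ofNat 0, Int.ofNat 0, Int.ofNat 0, Int.ofNat 0, Int.ofNat 0, Int.ofNat 0, Int.ofNat 2],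
  [Int.ofNat 1, Int.ofNat 1, Int.ofNat 3, Int.ofNat 1, Int.negSucc 0, Int.ofNat 1, Int.ofNat 1, Int.negSucc 0, Int.negSucc 0, Int.ofNat 1, Int.ofNat 1, Int.ofNat 1, Int.negSucc 0, Int.negSucc 0, Int.negSucc 0, Int.negSucc 0, Int.ofNat 1, Int.ofNat 1, Int.negSucc 0, Int.negSucc 0, Int.ofNat 1, Int.negSucc 0, Int.negSucc 0, Int.ofNat 1],
  [Int.ofNat 1, Int.ofNat 1, Int.negSucc 0, Int.ofNat 1, Int.negSucc 0, Int.negSucc 0, Int.ofNat 3, Int.ofNat 1, Int.negSucc 0, Int.negSucc 0, Int.ofNat 1, Int.ofNat 1, Int.ofNat 1, Int.ofNat 1, Int.negSucc 0, Int.negSucc 0, Int.negSucc 0, Int.negSucc 0, Int.ofNat 1, Int.ofNat 1, Int.negSucc 0, Int.ofNat 1, Int.negSucc 0, Int.ofNat 1],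
  [Int.ofNat 0, Int.ofNat 0, Int.ofNat 2, Int.ofNat 2, Int.ofNat 0, Int.ofNat 0, Int.ofNat 0, Int.negSucc 1, Int.negSucc 1, Int.ofNat 0, Int.ofNat 2, Int.ofNat 0, Int.ofNat 0, Int.ofNat 2, Int.ofNat 0, Int.ofNat 0, Int.ofNat 0, Int.ofNat 0, Int.ofNat 0, Int.negSucc 1, Int.ofNat 0, Int.negSucc 1, Int.ofNat 0, Int.ofNat 0],
  [Int.ofNat 0, Int.ofNat 0, Int.negSucc 1, Int.ofNat 2, Int.ofNat 0, Int.ofNat 0, Int.ofNat 0, Int.negSucc 1, Int.negSucc 1, Int.ofNat 0, Int.negSucc 1, Int.ofNat 0, Int.ofNat 0, Int.ofNat 2, Int.ofNat 0, Int.ofNat 0, Int.ofNat 0, Int.ofNat 0, Int.ofNat 0, Int.negSucc 1, Int.ofNat 0, Int.negSucc 1, Int.ofNat 0, Int.ofNat 0],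
  [Int.negSucc 1, Int.ofNat 0, Int.ofNat 0, Int.negSucc 1, Int.ofNat 0, Int.ofNat 0, Int.negSucc 1, Int.ofNat 2, Int.ofNat 0, Int.ofNat 0, Int.ofNat 2, Int.negSucc 1, Int.ofNat 0, Int.ofNat 0, Int.ofNat 0, Int.ofNat 0, Int.negSucc 1, Int.ofNat 0, Int.ofNat 0, Int.negSucc 1, Int.ofNat 0, Int.ofNat 0, Int.ofNat 0, Int.ofNat 0],
  [Int.ofNat 2, Int.ofNat 0, Int.ofNat 0, Int.ofNat 2, Int.ofNat 0, Int.ofNat 0, Int.ofNat 2, Int.ofNat 2, Int.ofNat 0, Int.ofNat 0, Int.ofNat 2, Int.negSucc 1, Int.ofNat 0, Int.ofNat 0, Int.ofNat 0, Int.ofNat 0, Int.ofNat 2, Int.ofNat 0, Int.ofNat 0, Int.negSucc 1, Int.ofNat 0, Int.ofNat 0, Int.ofNat 0, Int.ofNat 0],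
  [Int.ofNat 0, Int.ofNat 0, Int.negSucc 1, Int.ofNat 0, Int.ofNat 0, Int.ofNat 0, Int.negSucc 1, Int.ofNat 0, Int.ofNat 0, Int.ofNat 0, Int.ofNat 2, Int.ofNat 0, Int.ofNat 0, Int.ofNat 2, Int.ofNat 0, Int.ofNat 2, Int.ofNat 2, Int.ofNat 0, Int.ofNat 0, Int.ofNat 2, Int.ofNat 0, Int.ofNat 0, Int.ofNat 0, Int.ofNat 2],
  [Int.ofNat 0, Int.ofNat 0, Int.ofNat 2, Int.ofNat 0, Int.ofNat 0, Int.ofNat 0, Int.negSucc 1, Int.ofNat 0, Int.ofNat 0, Int.ofNat 0, Int.negSucc 1, Int.ofNat 0, Int.ofNat 0, Int.ofNat 2, Int.ofNat 0, Int.ofNat 2, Int.ofNat 2, Int.ofNat 0, Int.ofNat 0, Int.ofNat 2, Int.ofNat 0, Int.ofNat 0, Int.ofNat 0, Int.ofNat 2],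
  [Int.ofNat 0, Int.ofNat 0, Int.ofNat 0, Int.ofNat 2, Int.ofNat 0, Int.ofNat 0, Int.ofNat 0, Int.negSucc 1, Int.ofNat 0, Int.ofNat 0, Int.ofNat 0, Int.negSucc 1, Int.ofNat 0, Int.ofNat 0, Int.ofNat 2, Int.ofNat 0, Int.ofNat 2, Int.ofNat 2, Int.ofNat 0, Int.ofNat 0, Int.ofNat 2, Int.ofNat 0, Int.ofNat 0, Int.ofNat 2],
  [Int.ofNat 1, Int.ofNat 1, Int.ofNat 1, Int.negSucc 0, Int.negSucc 0, Int.negSucc 2, Int.ofNat 1, Int.negSucc 0, Int.ofNat 1, Int.negSucc 0, Int.negSucc 0, Int.negSucc 0, Int.ofNat 1, Int.negSucc 0, Int.negSucc 0, Int.negSucc 0, Int.ofNat 1, Int.negSucc 0, Int.ofNat 1, Int.ofNat 1, Int.ofNat 1, Int.ofNat 1, Int.negSucc 0, Int.negSucc 0],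
  [Int.negSucc 0, Int.negSucc 0, Int.negSucc 2, Int.ofNat 1, Int.negSucc 0, Int.ofNat 1, Int.negSucc 0, Int.negSucc 0, Int.negSucc 0, Int.ofNat 1, Int.negSucc 0, Int.negSucc 0, Int.negSucc 0, Int.ofNat 1, Int.negSucc 0, Int.ofNat 1, Int.ofNat 1, Int.ofNat 1, Int.ofNat 1, Int.negSucc 0, Int.ofNat 1, Int.ofNat 1, Int.ofNat 1, Int.negSucc 0],
  [Int.negSucc 1, Int.negSucc 1, Int.ofNat 0, Int.ofNat 0, Int.negSucc 1, Int.ofNat 0, Int.ofNat 0, Int.ofNat 0, Int.ofNat 0, Int.ofNat 0, Int.negSucc 1, Int.ofNat 0, Int.ofNat 0, Int.ofNat 0, Int.negSucc 1, Int.ofNat 0, Int.ofNat 0, Int.ofNat 0, Int.ofNat 2, Int.ofNat 0, Int.ofNat 0, Int.ofNat 2, Int.ofNat 0, Int.negSucc 1],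
  [Int.negSucc 1, Int.ofNat 0, Int.negSucc 1, Int.ofNat 0, Int.ofNat 2, Int.ofNat 0, Int.ofNat 0, Int.negSucc 1, Int.ofNat 0, Int.ofNat 0, Int.ofNat 0, Int.ofNat 0, Int.ofNat 0, Int.ofNat 0, Int.ofNat 0, Int.ofNat 0, Int.ofNat 0, Int.negSucc 1, Int.negSucc 1, Int.ofNat 0, Int.ofNat 2, Int.ofNat 0, Int.ofNat 0, Int.negSucc 1],
  [Int.negSucc 0, Int.negSucc 2, Int.negSucc 0, Int.ofNat 1, Int.ofNat 1, Int.ofNat 1, Int.ofNat 1, Int.negSucc 0, Int.ofNat 1, Int.negSucc 0, Int.negSucc 0, Int.ofNat 1, Int.ofNat 1, Int.negSucc 0, Int.ofNat 1, Int.negSucc 0, Int.negSucc 0, Int.negSucc 0, Int.negSucc 0, Int.ofNat 1, Int.ofNat 1, Int.ofNat 1, Int.negSucc 0, Int.negSucc 0],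
  [Int.negSucc 0, Int.negSucc 2, Int.ofNat 1, Int.ofNat 1, Int.ofNat 1, Int.negSucc 0, Int.negSucc 0, Int.negSucc 0, Int.ofNat 1, Int.ofNat 1, Int.ofNat 1, Int.ofNat 1, Int.ofNat 1, Int.negSucc 0, Int.ofNat 1, Int.ofNat 1, Int.negSucc 0, Int.negSucc 0, Int.ofNat 1, Int.ofNat 1, Int.ofNat 1, Int.ofNat 1, Int.ofNat 1, Int.negSucc 0],
  [Int.ofNat 1, Int.ofNat 1, Int.negSucc 2, Int.ofNat 1, Int.ofNat 1, Int.negSucc 0, Int.ofNat 1, Int.ofNat 1, Int.negSucc 0, Int.negSucc 0, Int.ofNat 1, Int.ofNat 1, Int.ofNat 1, Int.ofNat 1, Int.ofNat 1, Int.negSucc 0, Int.ofNat 1, Int.ofNat 1, Int.ofNat 1, Int.ofNat 1, Int.negSucc 0, Int.negSucc 0, Int.negSucc 0, Int.negSucc 0],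
  [Int.ofNat 1, Int.ofNat 1, Int.ofNat 3, Int.ofNat 1, Int.ofNat 1, Int.ofNat 1, Int.negSucc 0, Int.ofNat 1, Int.negSucc 0, Int.ofNat 1, Int.negSucc 0, Int.ofNat 1, Int.ofNat 1, Int.ofNat 1, Int.ofNat 1, Int.ofNat 1, Int.ofNat 1, Int.ofNat 1, Int.negSucc 0, Int.ofNat 1, Int.negSucc 0, Int.negSucc 0, Int.ofNat 1, Int.negSucc 0],
  [Int.ofNat 1, Int.ofNat 1, Int.negSucc 0, Int.negSucc 0, Int.negSucc 0, Int.negSucc 0, Int.negSucc 0, Int.ofNat 1, Int.negSucc 0, Int.ofNat 1, Int.negSucc 0, Int.ofNat 1, Int.ofNat 1, Int.negSucc 0, Int.negSucc 0, Int.ofNat 1, Int.negSucc 0, Int.negSucc 0, Int.negSucc 0, Int.ofNat 1, Int.negSucc 0, Int.negSucc 0, Int.negSucc 0, Int.ofNat 3],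
  [Int.ofNat 1, Int.negSucc 0, Int.negSucc 0, Int.negSucc 0, Int.negSucc 0, Int.negSucc 0, Int.ofNat 1, Int.negSucc 0, Int.negSucc 0, Int.ofNat 1, Int.ofNat 1, Int.ofNat 1, Int.negSucc 0, Int.ofNat 1, Int.negSucc 0, Int.ofNat 1, Int.negSucc 0, Int.ofNat 1, Int.negSucc 0, Int.negSucc 0, Int.negSucc 0, Int.negSucc 0, Int.negSucc 0, Int.ofNat 3],
  [Int.ofNat 0, Int.ofNat 2, Int.ofNat 2, Int.ofNat 0, Int.ofNat 0, Int.ofNat 0, Int.ofNat 2, Int.ofNat 0, Int.ofNat 0, Int.ofNat 0, Int.ofNat 0, Int.ofNat 2, Int.ofNat 0, Int.ofNat 2, Int.ofNat 0, Int.ofNat 0, Int.ofNat 0, Int.ofNat 2, Int.ofNat 0, Int.ofNat 0, Int.negSucc 1, Int.ofNat 0, Int.ofNat 0, Int.negSucc 1],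
  [Int.negSucc 1, Int.ofNat 0, Int.ofNat 0, Int.ofNat 0, Int.ofNat 2, Int.ofNat 2, Int.ofNat 0, Int.ofNat 0, Int.ofNat 0, Int.ofNat 2, Int.ofNat 0, Int.ofNat 0, Int.ofNat 0, Int.ofNat 0, Int.ofNat 2, Int.ofNat 0, Int.ofNat 2, Int.ofNat 0, Int.ofNat 0, Int.ofNat 0, Int.ofNat 2, Int.ofNat 0, Int.ofNat 0, Int.negSucc 1],
  [Int.ofNat 0, Int.negSucc 1, Int.negSucc 1, Int.negSucc 1, Int.ofNat 0, Int.ofNat 0, Int.ofNat 0, Int.ofNat 0, Int.ofNat 0, Int.ofNat 0, Int.negSucc 1, Int.ofNat 0, Int.ofNat 0, Int.negSucc 1, Int.ofNat 0, Int.negSucc 1, Int.ofNat 0, Int.negSucc 1, Int.ofNat 0, Int.ofNat 0, Int.ofNat 0, Int.ofNat 0, Int.negSucc 1, Int.ofNat 0],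
  [Int.negSucc 1, Int.negSucc 1, Int.negSucc 1, Int.ofNat 0, Int.ofNat 0, Int.ofNat 0, Int.ofNat 0, Int.ofNat 0, Int.ofNat 0, Int.negSucc 1, Int.ofNat 0, Int.ofNat 0, Int.negSucc 1, Int.ofNat 0, Int.negSucc 1, Int.ofNat 0, Int.negSucc 1, Int.ofNat 0, Int.ofNat 0, Int.ofNat 0, Int.ofNat 0, Int.negSucc 1, Int.ofNat 0, Int.ofNat 0],
  [Int.ofNat 2, Int.negSucc 1, Int.ofNat 2, Int.ofNat 0, Int.ofNat 0, Int.ofNat 0, Int.ofNat 0, Int.ofNat 0, Int.ofNat 0, Int.ofNat 2, Int.ofNat 0, Int.ofNat 0, Int.negSucc 1, Int.ofNat 0, Int.negSucc 1, Int.ofNat 0, Int.negSucc 1, Int.ofNat 0, Int.ofNat 0, Int.ofNat 0, Int.ofNat 0, Int.ofNat 2, Int.ofNat 0, Int.ofNat 0],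
  [Int.ofNat 2, Int.ofNat 2, Int.ofNat 0, Int.ofNat 0, Int.negSucc 1, Int.ofNat 0, Int.ofNat 0, Int.ofNat 0, Int.ofNat 2, Int.negSucc 1, Int.ofNat 2, Int.negSucc 1, Int.ofNat 0, Int.ofNat 0, Int.ofNat 0, Int.ofNat 0, Int.negSucc 1, Int.ofNat 0, Int.ofNat 0, Int.ofNat 0, Int.ofNat 0, Int.ofNat 0, Int.ofNat 0, Int.ofNat 0],
  [Int.negSucc 1, Int.ofNat 2, Int.ofNat 0, Int.ofNat 0, Int.negSucc 1, Int.ofNat 0, Int.ofNat 0, Int.ofNat 0, Int.ofNat 2, Int.ofNat 2, Int.negSucc 1, Int.ofNat 2, Int.ofNat 0, Int.ofNat 0, Int.ofNat 0, Int.ofNat 0, Int.negSucc 1, Int.ofNat 0, Int.ofNat 0, Int.ofNat 0, Int.ofNat 0, Int.ofNat 0, Int.ofNat 0, Int.ofNat 0],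
  [Int.ofNat 0, Int.negSucc 1, Int.ofNat 2, Int.ofNat 0, Int.ofNat 0, Int.negSucc 1, Int.ofNat 0, Int.ofNat 0, Int.ofNat 0, Int.ofNat 2, Int.ofNat 2, Int.negSucc 1, Int.ofNat 2, Int.ofNat 0, Int.ofNat 0, Int.ofNat 0, Int.ofNat 0, Int.negSucc 1, Int.ofNat 0, Int.ofNat 0, Int.ofNat 0, Int.ofNat 0, Int.ofNat 0, Int.ofNat 0],
  [Int.ofNat 0, Int.ofNat 2, Int.negSucc 1, Int.ofNat 2, Int.ofNat 0, Int.ofNat 0, Int.ofNat 0, Int.ofNat 0, Int.ofNat 0, Int.ofNat 0, Int.ofNat 0, Int.negSucc 1, Int.ofNat 2, Int.ofNat 0, Int.ofNat 2, Int.negSucc 1, Int.ofNat 0, Int.ofNat 0, Int.ofNat 0, Int.ofNat 0, Int.negSucc 1, Int.ofNat 0, Int.ofNat 0, Int.ofNat 0],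
  [Int.ofNat 2, Int.ofNat 0, Int.ofNat 0, Int.ofNat 0, Int.ofNat 0, Int.ofNat 0, Int.ofNat 0, Int.ofNat 0, Int.negSucc 1, Int.ofNat 2, Int.ofNat 0, Int.ofNat 2, Int.negSucc 1, Int.ofNat 0, Int.ofNat 0, Int.ofNat 0, Int.ofNat 0, Int.negSucc 1, Int.ofNat 0, Int.ofNat 0, Int.ofNat 0, Int.ofNat 2, Int.negSucc 1, Int.ofNat 0],
  [Int.negSucc 0, Int.ofNat 1, Int.ofNat 1, Int.ofNat 1, Int.ofNat 1, Int.ofNat 1, Int.negSucc 0, Int.negSucc 0, Int.negSucc 0, Int.ofNat 1, Int.negSucc 0, Int.ofNat 3, Int.negSucc 0, Int.ofNat 1, Int.ofNat 1, Int.negSucc 0, Int.ofNat 1, Int.negSucc 0, Int.ofNat 1, Int.negSucc 0, Int.negSucc 0, Int.ofNat 1, Int.negSucc 0, Int.ofNat 1],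
  [Int.negSucc 0, Int.negSucc 0, Int.ofNat 1, Int.ofNat 1, Int.ofNat 1, Int.negSucc 0, Int.ofNat 1, Int.negSucc 0, Int.negSucc 0, Int.ofNat 1, Int.negSucc 0, Int.negSucc 0, Int.ofNat 1, Int.ofNat 1, Int.negSucc 0, Int.negSucc 0, Int.negSucc 0, Int.ofNat 1, Int.ofNat 1, Int.ofNat 3, Int.ofNat 1, Int.ofNat 1, Int.negSucc 0, Int.ofNat 1],
  [Int.ofNat 1, Int.ofNat 1, Int.negSucc 0, Int.ofNat 1, Int.ofNat 1, Int.negSucc 0, Int.negSucc 0, Int.negSucc 2, Int.negSucc 0, Int.ofNat 1, Int.negSucc 0, Int.negSucc 0, Int.ofNat 1, Int.ofNat 1, Int.negSucc 0, Int.negSucc 0, Int.negSucc 0, Int.ofNat 1, Int.ofNat 1, Int.ofNat 1, Int.ofNat 1, Int.negSucc 0, Int.negSucc 0, Int.negSucc 0],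
  [Int.ofNat 1, Int.ofNat 1, Int.ofNat 1, Int.ofNat 1, Int.ofNat 1, Int.ofNat 1, Int.ofNat 1, Int.negSucc 2, Int.negSucc 0, Int.negSucc 0, Int.ofNat 1, Int.negSucc 0, Int.ofNat 1, Int.ofNat 1, Int.negSucc 0, Int.ofNat 1, Int.negSucc 0, Int.ofNat 1, Int.negSucc 0, Int.ofNat 1, Int.ofNat 1, Int.negSucc 0, Int.ofNat 1, Int.negSucc 0],
  [Int.ofNat 1, Int.negSucc 0, Int.negSucc 0, Int.negSucc 0, Int.negSucc 0, Int.ofNat 1, Int.negSucc 0, Int.ofNat 1, Int.ofNat 1, Int.ofNat 1, Int.ofNat 1, Int.negSucc 2, Int.ofNat 1, Int.ofNat 1, Int.ofNat 1, Int.negSucc 0, Int.ofNat 1, Int.ofNat 1, Int.negSucc 0, Int.ofNat 1, Int.ofNat 1, Int.ofNat 1, Int.ofNat 1, Int.negSucc 0],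
  [Int.negSucc 0, Int.ofNat 1, Int.ofNat 1, Int.ofNat 1, Int.ofNat 1, Int.ofNat 1, Int.ofNat 1, Int.ofNat 1, Int.negSucc 0, Int.negSucc 0, Int.ofNat 1, Int.negSucc 2, Int.negSucc 0, Int.negSucc 0, Int.ofNat 1, Int.negSucc 0, Int.negSucc 0, Int.ofNat 1, Int.ofNat 1, Int.ofNat 1, Int.ofNat 1, Int.ofNat 1, Int.ofNat 1, Int.negSucc 0],
  [Int.negSucc 0, Int.ofNat 1, Int.negSucc 2, Int.negSucc 0, Int.ofNat 1, Int.negSucc 0, Int.ofNat 1, Int.negSucc 0, Int.ofNat 1, Int.ofNat 1, Int.negSucc 0, Int.ofNat 1, Int.ofNat 1, Int.ofNat 1, Int.ofNat 1, Int.ofNat 1, Int.ofNat 1, Int.ofNat 1, Int.ofNat 1, Int.ofNat 1, Int.negSucc 0, Int.negSucc 0, Int.ofNat 1, Int.negSucc 0],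
  [Int.ofNat 1, Int.ofNat 1, Int.ofNat 3, Int.negSucc 0, Int.ofNat 1, Int.negSucc 0, Int.ofNat 1, Int.ofNat 1, Int.ofNat 1, Int.negSucc 0, Int.ofNat 1, Int.negSucc 0, Int.ofNat 1, Int.ofNat 1, Int.ofNat 1, Int.ofNat 1, Int.ofNat 1, Int.ofNat 1, Int.negSucc 0, Int.ofNat 1, Int.negSucc 0, Int.ofNat 1, Int.ofNat 1, Int.negSucc 0],
  [Int.ofNat 1, Int.ofNat 1, Int.ofNat 1, Int.ofNat 3, Int.negSucc 0, Int.ofNat 1, Int.negSucc 0, Int.ofNat 1, Int.ofNat 1, Int.ofNat 1, Int.negSucc 0, Int.ofNat 1, Int.negSucc 0, Int.ofNat 1, Int.ofNat 1, Int.ofNat 1, Int.ofNat 1, Int.ofNat 1, Int.ofNat 1, Int.negSucc 0, Int.ofNat 1, Int.negSucc 0, Int.ofNat 1, Int.negSucc 0],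
  [Int.ofNat 0, Int.ofNat 0, Int.ofNat 0, Int.ofNat 0, Int.negSucc 1, Int.negSucc 1, Int.ofNat 0, Int.ofNat 2, Int.ofNat 0, Int.ofNat 0, Int.negSucc 1, Int.ofNat 0, Int.negSucc 1, Int.ofNat 0, Int.negSucc 1, Int.ofNat 0, Int.ofNat 0, Int.negSucc 1, Int.ofNat 0, Int.ofNat 0, Int.ofNat 0, Int.ofNat 0, Int.ofNat 0, Int.ofNat 2],
  [Int.ofNat 0, Int.negSucc 1, Int.negSucc 1, Int.ofNat 0, Int.ofNat 2, Int.ofNat 0, Int.ofNat 0, Int.negSucc 1, Int.ofNat 0, Int.negSucc 1, Int.ofNat 0, Int.negSucc 1, Int.ofNat 0, Int.ofNat 0, Int.negSucc 1, Int.ofNat 0, Int.ofNat 0, Int.ofNat 0, Int.ofNat 0, Int.ofNat 0, Int.ofNat 0, Int.ofNat 0, Int.ofNat 0, Int.ofNat 2],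
  [Int.negSucc 0, Int.ofNat 1, Int.ofNat 1, Int.ofNat 1, Int.ofNat 1, Int.ofNat 1, Int.ofNat 1, Int.negSucc 0, Int.ofNat 1, Int.negSucc 0, Int.ofNat 1, Int.negSucc 0, Int.ofNat 1, Int.negSucc 0, Int.negSucc 0, Int.ofNat 1, Int.negSucc 0, Int.ofNat 1, Int.ofNat 1, Int.ofNat 1, Int.ofNat 1, Int.ofNat 1, Int.negSucc 0, Int.negSucc 2],
  [Int.negSucc 0, Int.ofNat 1, Int.ofNat 1, Int.ofNat 1, Int.ofNat 1, Int.negSucc 0, Int.ofNat 1, Int.ofNat 1, Int.ofNat 1, Int.negSucc 0, Int.ofNat 1, Int.ofNat 1, Int.negSucc 0, Int.negSucc 0, Int.negSucc 0, Int.ofNat 1, Int.ofNat 1, Int.negSucc 0, Int.ofNat 1, Int.negSucc 0, Int.ofNat 1, Int.ofNat 1, Int.ofNat 1, Int.negSucc 2],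
  [Int.ofNat 0, Int.negSucc 1, Int.negSucc 1, Int.ofNat 2, Int.ofNat 0, Int.ofNat 0, Int.ofNat 0, Int.ofNat 0, Int.ofNat 0, Int.negSucc 1, Int.ofNat 0, Int.ofNat 0, Int.negSucc 1, Int.negSucc 1, Int.ofNat 0, Int.ofNat 0, Int.ofNat 0, Int.ofNat 0, Int.ofNat 0, Int.negSucc 1, Int.ofNat 0, Int.ofNat 0, Int.ofNat 0, Int.ofNat 2],
  [Int.ofNat 0, Int.negSucc 1, Int.ofNat 2, Int.ofNat 2, Int.ofNat 0, Int.ofNat 0, Int.ofNat 0, Int.ofNat 0, Int.ofNat 0, Int.ofNat 2, Int.ofNat 0, Int.ofNat 0, Int.negSucc 1, Int.negSucc 1, Int.ofNat 0, Int.ofNat 0, Int.ofNat 0, Int.ofNat 0, Int.ofNat 0, Int.negSucc 1, Int.ofNat 0, Int.ofNat 0, Int.ofNat 0, Int.ofNat 2],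
  [Int.ofNat 0, Int.ofNat 0, Int.negSucc 1, Int.ofNat 0, Int.ofNat 0, Int.negSucc 1, Int.ofNat 2, Int.ofNat 0, Int.ofNat 0, Int.ofNat 0, Int.ofNat 0, Int.ofNat 0, Int.ofNat 2, Int.ofNat 0, Int.ofNat 0, Int.ofNat 0, Int.ofNat 0, Int.negSucc 1, Int.negSucc 1, Int.ofNat 2, Int.ofNat 0, Int.ofNat 0, Int.ofNat 0, Int.ofNat 2],
  [Int.ofNat 0, Int.ofNat 0, Int.ofNat 2, Int.ofNat 0, Int.ofNat 0, Int.ofNat 2, Int.negSucc 1, Int.ofNat 0, Int.ofNat 0, Int.ofNat 0, Int.ofNat 0, Int.ofNat 0, Int.ofNat 2, Int.ofNat 0, Int.ofNat 0, Int.ofNat 0, Int.ofNat 0, Int.negSucc 1, Int.ofNat 2, Int.ofNat 2, Int.ofNat 0, Int.ofNat 0, Int.ofNat 0, Int.ofNat 2],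
  [Int.ofNat 2, Int.ofNat 2, Int.ofNat 0, Int.ofNat 0, Int.ofNat 0, Int.ofNat 2, Int.negSucc 1, Int.ofNat 0, Int.negSucc 1, Int.ofNat 0, Int.ofNat 0, Int.negSucc 1, Int.ofNat 0, Int.ofNat 0, Int.ofNat 0, Int.ofNat 0, Int.ofNat 0, Int.negSucc 1, Int.ofNat 0, Int.ofNat 2, Int.ofNat 0, Int.ofNat 0, Int.ofNat 0, Int.ofNat 0],
  [Int.ofNat 2, Int.ofNat 0, Int.negSucc 1, Int.ofNat 0, Int.ofNat 0, Int.ofNat 0, Int.ofNat 2, Int.ofNat 2, Int.ofNat 0, Int.ofNat 0, Int.ofNat 0, Int.ofNat 2, Int.negSucc 1, Int.ofNat 0, Int.negSucc 1, Int.ofNat 0, Int.ofNat 0, Int.negSucc 1, Int.ofNat 0, Int.ofNat 0, Int.ofNat 0, Int.ofNat 0, Int.ofNat 0, Int.ofNat 0],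
  [Int.negSucc 1, Int.ofNat 0, Int.ofNat 2, Int.ofNat 2, Int.ofNat 0, Int.ofNat 2, Int.ofNat 0, Int.ofNat 0, Int.ofNat 0, Int.ofNat 0, Int.ofNat 0, Int.ofNat 2, Int.negSucc 1, Int.ofNat 0, Int.ofNat 0, Int.ofNat 0, Int.ofNat 0, Int.ofNat 0, Int.ofNat 0, Int.negSucc 1, Int.ofNat 0, Int.negSucc 1, Int.ofNat 0, Int.ofNat 0],
  [Int.ofNat 0, Int.negSucc 1, Int.ofNat 0, Int.negSucc 1, Int.ofNat 0, Int.ofNat 2, Int.ofNat 2, Int.ofNat 0, Int.ofNat 2, Int.ofNat 0, Int.ofNat 0, Int.ofNat 0, Int.ofNat 0, Int.ofNat 0, Int.ofNat 2, Int.negSucc 1, Int.ofNat 0, Int.ofNat 0, Int.ofNat 0, Int.ofNat 0, Int.ofNat 0, Int.ofNat 0, Int.negSucc 1, Int.ofNat 0],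
  [Int.negSucc 0, Int.ofNat 1, Int.negSucc 0, Int.negSucc 2, Int.ofNat 1, Int.ofNat 1, Int.ofNat 1, Int.negSucc 0, Int.ofNat 1, Int.ofNat 1, Int.ofNat 1, Int.negSucc 0, Int.negSucc 0, Int.ofNat 1, Int.ofNat 1, Int.negSucc 0, Int.ofNat 1, Int.negSucc 0, Int.negSucc 0, Int.negSucc 0, Int.ofNat 1, Int.negSucc 0, Int.negSucc 0, Int.negSucc 0],
  [Int.ofNat 1, Int.negSucc 0, Int.negSucc 2, Int.ofNat 1, Int.ofNat 1, Int.ofNat 1, Int.negSucc 0, Int.ofNat 1, Int.ofNat 1, Int.ofNat 1, Int.negSucc 0, Int.negSucc 0, Int.ofNat 1, Int.ofNat 1, Int.negSucc 0, Int.ofNat 1, Int.negSucc 0, Int.negSucc 0, Int.negSucc 0, Int.ofNat 1, Int.negSucc 0, Int.negSucc 0, Int.negSucc 0, Int.negSucc 0],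
  [Int.negSucc 0, Int.negSucc 0, Int.ofNat 3, Int.ofNat 1, Int.ofNat 1, Int.ofNat 1, Int.negSucc 0, Int.negSucc 0, Int.ofNat 1, Int.negSucc 0, Int.ofNat 1, Int.ofNat 1, Int.ofNat 1, Int.ofNat 1, Int.negSucc 0, Int.ofNat 1, Int.negSucc 0, Int.negSucc 0, Int.ofNat 1, Int.ofNat 1, Int.negSucc 0, Int.ofNat 1, Int.negSucc 0, Int.negSucc 0],
  [Int.negSucc 0, Int.ofNat 3, Int.ofNat 1, Int.ofNat 1, Int.negSucc 0, Int.ofNat 1, Int.ofNat 1, Int.negSucc 0, Int.negSucc 0, Int.negSucc 0, Int.ofNat 1, Int.negSucc 0, Int.ofNat 1, Int.ofNat 1, Int.ofNat 1, Int.ofNat 1, Int.ofNat 1, Int.negSucc 0, Int.negSucc 0, Int.negSucc 0, Int.ofNat 1, Int.negSucc 0, Int.ofNat 1, Int.negSucc 0],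
  [Int.ofNat 1, Int.ofNat 3, Int.negSucc 0, Int.ofNat 1, Int.negSucc 0, Int.ofNat 1, Int.ofNat 1, Int.ofNat 1, Int.negSucc 0, Int.ofNat 1, Int.negSucc 0, Int.ofNat 1, Int.ofNat 1, Int.ofNat 1, Int.ofNat 1, Int.ofNat 1, Int.ofNat 1, Int.negSucc 0, Int.ofNat 1, Int.negSucc 0, Int.ofNat 1, Int.ofNat 1, Int.ofNat 1, Int.negSucc 0],
  [Int.ofNat 1, Int.ofNat 1, Int.ofNat 3, Int.negSucc 0, Int.ofNat 1, Int.negSucc 0, Int.ofNat 1, Int.ofNat 1, Int.ofNat 1, Int.negSucc 0, Int.ofNat 1, Int.negSucc 0, Int.ofNat 1, Int.ofNat 1, Int.ofNat 1, Int.ofNat 1, Int.ofNat 1, Int.ofNat 1, Int.negSucc 0, Int.ofNat 1, Int.negSucc 0, Int.ofNat 1, Int.ofNat 1, Int.negSucc 0],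
  [Int.ofNat 1, Int.ofNat 1, Int.negSucc 0, Int.negSucc 0, Int.negSucc 0, Int.negSucc 0, Int.negSucc 0, Int.negSucc 0, Int.ofNat 1, Int.negSucc 0, Int.ofNat 1, Int.negSucc 0, Int.ofNat 1, Int.negSucc 0, Int.ofNat 1, Int.ofNat 1, Int.negSucc 0, Int.ofNat 1, Int.negSucc 0, Int.negSucc 0, Int.negSucc 0, Int.negSucc 0, Int.negSucc 0, Int.ofNat 3],
  [Int.negSucc 0, Int.negSucc 0, Int.negSucc 0, Int.negSucc 0, Int.negSucc 0, Int.ofNat 1, Int.negSucc 0, Int.ofNat 1, Int.negSucc 0, Int.ofNat 1, Int.negSucc 0, Int.ofNat 1, Int.ofNat 1, Int.negSucc 0, Int.ofNat 1, Int.negSucc 0, Int.negSucc 0, Int.negSucc 0, Int.negSucc 0, Int.negSucc 0, Int.ofNat 1, Int.ofNat 1, Int.negSucc 0, Int.ofNat 3],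
  [Int.ofNat 1, Int.ofNat 1, Int.ofNat 1, Int.negSucc 0, Int.ofNat 1, Int.ofNat 1, Int.negSucc 0, Int.ofNat 1, Int.negSucc 0, Int.ofNat 1, Int.negSucc 0, Int.ofNat 1, Int.ofNat 1, Int.ofNat 1, Int.ofNat 1, Int.negSucc 0, Int.ofNat 1, Int.negSucc 0, Int.negSucc 0, Int.negSucc 0, Int.ofNat 1, Int.ofNat 1, Int.ofNat 1, Int.negSucc 2],
  [Int.ofNat 1, Int.negSucc 0, Int.ofNat 1, Int.negSucc 0, Int.negSucc 0, Int.ofNat 1, Int.ofNat 1, Int.negSucc 0, Int.ofNat 1, Int.ofNat 1, Int.ofNat 1, Int.negSucc 0, Int.ofNat 1, Int.ofNat 1, Int.ofNat 1, Int.negSucc 0, Int.negSucc 0, Int.ofNat 1, Int.ofNat 1, Int.ofNat 1, Int.ofNat 1, Int.ofNat 1, Int.negSucc 0, Int.negSucc 2],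
  [Int.negSucc 1, Int.ofNat 0, Int.negSucc 1, Int.negSucc 1, Int.ofNat 0, Int.ofNat 0, Int.ofNat 0, Int.negSucc 1, Int.ofNat 0, Int.ofNat 0, Int.ofNat 0, Int.negSucc 1, Int.ofNat 0, Int.ofNat 2, Int.ofNat 0, Int.negSucc 1, Int.ofNat 0, Int.ofNat 0, Int.ofNat 0, Int.ofNat 0, Int.ofNat 0, Int.ofNat 0, Int.ofNat 0, Int.ofNat 2],
  [Int.negSucc 1, Int.ofNat 0, Int.ofNat 2, Int.negSucc 1, Int.ofNat 0, Int.ofNat 0, Int.ofNat 0, Int.negSucc 1, Int.ofNat 0, Int.ofNat 0, Int.ofNat 0, Int.negSucc 1, Int.ofNat 0, Int.ofNat 2, Int.ofNat 0, Int.ofNat 2, Int.ofNat 0, Int.ofNat 0, Int.ofNat 0, Int.ofNat 0, Int.ofNat 0, Int.ofNat 0, Int.ofNat 0, Int.ofNat 2],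
  [Int.ofNat 0, Int.ofNat 0, Int.negSucc 1, Int.ofNat 0, Int.ofNat 0, Int.ofNat 0, Int.ofNat 0, Int.negSucc 1, Int.ofNat 0, Int.ofNat 0, Int.ofNat 2, Int.negSucc 1, Int.ofNat 2, Int.ofNat 0, Int.ofNat 0, Int.ofNat 0, Int.ofNat 0, Int.ofNat 0, Int.ofNat 0, Int.ofNat 2, Int.negSucc 1, Int.ofNat 0, Int.ofNat 0, Int.ofNat 2],
  [Int.ofNat 0, Int.ofNat 0, Int.ofNat 2, Int.ofNat 0, Int.ofNat 0, Int.ofNat 0, Int.ofNat 0, Int.negSucc 1, Int.ofNat 0, Int.ofNat 0, Int.ofNat 2, Int.negSucc 1, Int.negSucc 1, Int.ofNat 0, Int.ofNat 0, Int.ofNat 0, Int.ofNat 0, Int.ofNat 0, Int.ofNat 0, Int.ofNat 2, Int.negSucc 1, Int.ofNat 0, Int.ofNat 0, Int.ofNat 2],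
  [Int.ofNat 2, Int.ofNat 0, Int.negSucc 1, Int.ofNat 0, Int.ofNat 0, Int.ofNat 0, Int.ofNat 2, Int.ofNat 0, Int.negSucc 1, Int.ofNat 0, Int.ofNat 0, Int.ofNat 2, Int.ofNat 0, Int.negSucc 1, Int.ofNat 0, Int.ofNat 0, Int.ofNat 2, Int.ofNat 0, Int.ofNat 0, Int.ofNat 0, Int.ofNat 0, Int.negSucc 1, Int.ofNat 0, Int.ofNat 0],
  [Int.negSucc 1, Int.ofNat 0, Int.ofNat 2, Int.ofNat 0, Int.ofNat 0, Int.ofNat 0, Int.ofNat 2, Int.ofNat 0, Int.negSucc 1, Int.ofNat 0, Int.ofNat 0, Int.negSucc 1, Int.ofNat 0, Int.negSucc 1, Int.ofNat 0, Int.ofNat 0, Int.ofNat 2, Int.ofNat 0, Int.ofNat 0, Int.ofNat 0, Int.ofNat 0, Int.ofNat 2, Int.ofNat 0, Int.ofNat 0],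
  [Int.ofNat 0, Int.negSucc 1, Int.ofNat 0, Int.ofNat 2, Int.ofNat 0, Int.ofNat 0, Int.ofNat 0, Int.ofNat 2, Int.ofNat 0, Int.negSucc 1, Int.ofNat 0, Int.ofNat 0, Int.negSucc 1, Int.ofNat 0, Int.negSucc 1, Int.ofNat 0, Int.ofNat 0, Int.ofNat 2, Int.ofNat 0, Int.ofNat 0, Int.ofNat 0, Int.ofNat 0, Int.ofNat 2, Int.ofNat 0],
  [Int.negSucc 0, Int.ofNat 1, Int.negSucc 0, Int.ofNat 1, Int.negSucc 0, Int.negSucc 0, Int.negSucc 0, Int.ofNat 1, Int.ofNat 1, Int.negSucc 0, Int.ofNat 1, Int.ofNat 1, Int.negSucc 0, Int.negSucc 0, Int.negSucc 2, Int.ofNat 1, Int.negSucc 0, Int.ofNat 1, Int.ofNat 1, Int.negSucc 0, Int.ofNat 1, Int.negSucc 0, Int.ofNat 1, Int.negSucc 0],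
  [Int.ofNat 1, Int.negSucc 0, Int.negSucc 0, Int.negSucc 0, Int.ofNat 1, Int.ofNat 1, Int.negSucc 0, Int.ofNat 1, Int.ofNat 1, Int.negSucc 0, Int.negSucc 0, Int.negSucc 2, Int.ofNat 1, Int.negSucc 0, Int.ofNat 1, Int.ofNat 1, Int.negSucc 0, Int.ofNat 1, Int.negSucc 0, Int.ofNat 1, Int.negSucc 0, Int.ofNat 1, Int.negSucc 0, Int.negSucc 0],
  [Int.negSucc 1, Int.ofNat 0, Int.ofNat 0, Int.negSucc 1, Int.ofNat 2, Int.ofNat 0, Int.negSucc 1, Int.ofNat 0, Int.ofNat 2, Int.ofNat 0, Int.ofNat 0, Int.negSucc 1, Int.ofNat 2, Int.ofNat 0, Int.ofNat 0, Int.ofNat 2, Int.ofNat 0, Int.ofNat 0, Int.ofNat 0, Int.ofNat 0, Int.ofNat 0, Int.ofNat 0, Int.ofNat 0, Int.ofNat 0],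
  [Int.negSucc 1, Int.negSucc 1, Int.ofNat 2, Int.negSucc 1, Int.ofNat 0, Int.ofNat 0, Int.ofNat 0, Int.ofNat 0, Int.ofNat 2, Int.ofNat 0, Int.ofNat 0, Int.ofNat 0, Int.ofNat 0, Int.ofNat 0, Int.ofNat 0, Int.ofNat 2, Int.ofNat 2, Int.ofNat 0, Int.ofNat 0, Int.negSucc 1, Int.ofNat 0, Int.ofNat 0, Int.ofNat 0, Int.ofNat 0],
  [Int.ofNat 1, Int.ofNat 1, Int.negSucc 2, Int.negSucc 0, Int.negSucc 0, Int.ofNat 1, Int.ofNat 1, Int.ofNat 1, Int.ofNat 1, Int.negSucc 0, Int.negSucc 0, Int.negSucc 0, Int.negSucc 0, Int.negSucc 0, Int.ofNat 1, Int.ofNat 1, Int.ofNat 1, Int.ofNat 1, Int.negSucc 0, Int.negSucc 0, Int.negSucc 0, Int.ofNat 1, Int.negSucc 0, Int.negSucc 0],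
  [Int.ofNat 1, Int.ofNat 1, Int.ofNat 3, Int.negSucc 0, Int.negSucc 0, Int.negSucc 0, Int.negSucc 0, Int.ofNat 1, Int.ofNat 1, Int.ofNat 1, Int.ofNat 1, Int.negSucc 0, Int.negSucc 0, Int.negSucc 0, Int.ofNat 1, Int.negSucc 0, Int.ofNat 1, Int.ofNat 1, Int.ofNat 1, Int.negSucc 0, Int.negSucc 0, Int.ofNat 1, Int.ofNat 1, Int.negSucc 0],
  [Int.ofNat 1, Int.ofNat 1, Int.ofNat 1, Int.negSucc 0, Int.ofNat 1, Int.negSucc 0, Int.negSucc 0, Int.negSucc 0, Int.negSucc 0, Int.ofNat 1, Int.negSucc 0, Int.ofNat 1, Int.ofNat 3, Int.negSucc 0, Int.ofNat 1, Int.ofNat 1, Int.ofNat 1, Int.negSucc 0, Int.negSucc 0, Int.ofNat 1, Int.ofNat 1, Int.negSucc 0, Int.ofNat 1, Int.negSucc 0],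
  [Int.ofNat 1, Int.ofNat 1, Int.negSucc 0, Int.negSucc 0, Int.ofNat 1, Int.ofNat 1, Int.ofNat 1, Int.negSucc 0, Int.negSucc 0, Int.negSucc 0, Int.ofNat 1, Int.ofNat 1, Int.ofNat 3, Int.negSucc 0, Int.ofNat 1, Int.negSucc 0, Int.ofNat 1, Int.negSucc 0, Int.ofNat 1, Int.ofNat 1, Int.ofNat 1, Int.negSucc 0, Int.negSucc 0, Int.negSucc 0],
  [Int.negSucc 0, Int.negSucc 0, Int.ofNat 1, Int.negSucc 0, Int.ofNat 1, Int.ofNat 1, Int.ofNat 1, Int.negSucc 0, Int.negSucc 2, Int.negSucc 0, Int.ofNat 1, Int.negSucc 0, Int.ofNat 1, Int.negSucc 0, Int.ofNat 1, Int.negSucc 0, Int.ofNat 1, Int.negSucc 0, Int.negSucc 0, Int.ofNat 1, Int.ofNat 1, Int.negSucc 0, Int.negSucc 0, Int.ofNat 1],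
  [Int.negSucc 0, Int.negSucc 0, Int.ofNat 1, Int.negSucc 0, Int.ofNat 1, Int.negSucc 0, Int.negSucc 0, Int.ofNat 1, Int.ofNat 1, Int.ofNat 1, Int.negSucc 0, Int.ofNat 1, Int.negSucc 2, Int.negSucc 0, Int.negSucc 0, Int.negSucc 0, Int.negSucc 0, Int.negSucc 0, Int.ofNat 1, Int.negSucc 0, Int.ofNat 1, Int.ofNat 1, Int.ofNat 1, Int.ofNat 1],
  [Int.ofNat 1, Int.ofNat 1, Int.negSucc 0, Int.ofNat 1, Int.ofNat 1, Int.ofNat 1, Int.negSucc 0, Int.ofNat 1, Int.ofNat 1, Int.ofNat 1, Int.negSucc 0, Int.ofNat 1, Int.negSucc 2, Int.negSucc 0, Int.ofNat 1, Int.negSucc 0, Int.negSucc 0, Int.ofNat 1, Int.ofNat 1, Int.negSucc 0, Int.ofNat 1, Int.ofNat 1, Int.ofNat 1, Int.negSucc 0],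
  [Int.ofNat 1, Int.ofNat 1, Int.ofNat 1, Int.ofNat 1, Int.ofNat 1, Int.negSucc 0, Int.ofNat 1, Int.ofNat 1, Int.ofNat 1, Int.negSucc 0, Int.ofNat 1, Int.ofNat 1, Int.ofNat 1, Int.negSucc 0, Int.ofNat 1, Int.negSucc 2, Int.negSucc 0, Int.ofNat 1, Int.negSucc 0, Int.negSucc 0, Int.ofNat 1, Int.ofNat 1, Int.negSucc 0, Int.negSucc 0],
  [Int.ofNat 0, Int.ofNat 0, Int.ofNat 0, Int.ofNat 0, Int.ofNat 2, Int.negSucc 1, Int.ofNat 0, Int.ofNat 0, Int.ofNat 0, Int.ofNat 0, Int.ofNat 2, Int.ofNat 0, Int.ofNat 0, Int.ofNat 0, Int.ofNat 0, Int.negSucc 1, Int.ofNat 0, Int.ofNat 0, Int.negSucc 1, Int.negSucc 1, Int.ofNat 2, Int.ofNat 0, Int.ofNat 0, Int.ofNat 2],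
  [Int.ofNat 0, Int.ofNat 0, Int.ofNat 0, Int.ofNat 2, Int.negSucc 1, Int.ofNat 0, Int.ofNat 0, Int.ofNat 0, Int.ofNat 0, Int.ofNat 2, Int.ofNat 0, Int.ofNat 0, Int.ofNat 0, Int.ofNat 0, Int.negSucc 1, Int.ofNat 0, Int.ofNat 0, Int.negSucc 1, Int.negSucc 1, Int.ofNat 2, Int.ofNat 0, Int.ofNat 0, Int.ofNat 0, Int.ofNat 2],
  [Int.ofNat 0, Int.ofNat 0, Int.ofNat 0, Int.ofNat 2, Int.negSucc 1, Int.ofNat 0, Int.ofNat 0, Int.ofNat 0, Int.ofNat 0, Int.negSucc 1, Int.ofNat 0, Int.ofNat 0, Int.ofNat 0, Int.ofNat 0, Int.negSucc 1, Int.ofNat 0, Int.ofNat 0, Int.negSucc 1, Int.ofNat 2, Int.ofNat 2, Int.ofNat 0, Int.ofNat 0, Int.ofNat 0, Int.ofNat 2],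
  [Int.ofNat 0, Int.ofNat 0, Int.ofNat 2, Int.ofNat 2, Int.ofNat 0, Int.ofNat 0, Int.negSucc 1, Int.ofNat 0, Int.negSucc 1, Int.ofNat 0, Int.ofNat 0, Int.negSucc 1, Int.ofNat 0, Int.ofNat 0, Int.ofNat 2, Int.ofNat 0, Int.ofNat 0, Int.ofNat 0, Int.ofNat 0, Int.negSucc 1, Int.ofNat 0, Int.ofNat 0, Int.ofNat 0, Int.ofNat 2],
  [Int.ofNat 0, Int.ofNat 0, Int.negSucc 1, Int.ofNat 2, Int.ofNat 0, Int.ofNat 0, Int.negSucc 1, Int.ofNat 0, Int.negSucc 1, Int.ofNat 0, Int.ofNat 0, Int.ofNat 2, Int.ofNat 0, Int.ofNat 0, Int.ofNat 2, Int.ofNat 0, Int.ofNat 0, Int.ofNat 0, Int.ofNat 0, Int.negSucc 1, Int.ofNat 0, Int.ofNat 0, Int.ofNat 0, Int.ofNat 2],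
  [Int.ofNat 0, Int.ofNat 0, Int.ofNat 0, Int.negSucc 1, Int.ofNat 2, Int.ofNat 0, Int.ofNat 0, Int.negSucc 1, Int.ofNat 0, Int.negSucc 1, Int.ofNat 0, Int.ofNat 0, Int.ofNat 2, Int.ofNat 0, Int.ofNat 0, Int.ofNat 2, Int.ofNat 0, Int.ofNat 0, Int.ofNat 0, Int.ofNat 0, Int.negSucc 1, Int.ofNat 0, Int.ofNat 0, Int.ofNat 2],
  [Int.ofNat 1, Int.ofNat 1, Int.ofNat 1, Int.negSucc 0, Int.ofNat 1, Int.ofNat 1, Int.ofNat 1, Int.negSucc 0, Int.negSucc 0, Int.negSucc 0, Int.ofNat 1, Int.negSucc 0, Int.ofNat 1, Int.negSucc 0, Int.ofNat 1, Int.ofNat 3, Int.negSucc 0, Int.ofNat 1, Int.negSucc 0, Int.ofNat 1, Int.negSucc 0, Int.ofNat 1, Int.negSucc 0, Int.negSucc 0],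
  [Int.negSucc 0, Int.ofNat 1, Int.ofNat 1, Int.ofNat 1, Int.negSucc 0, Int.negSucc 0, Int.negSucc 0, Int.ofNat 1, Int.negSucc 0, Int.ofNat 1, Int.negSucc 0, Int.ofNat 1, Int.ofNat 3, Int.negSucc 0, Int.ofNat 1, Int.negSucc 0, Int.ofNat 1, Int.negSucc 0, Int.ofNat 1, Int.negSucc 0, Int.ofNat 1, Int.ofNat 1, Int.ofNat 1, Int.negSucc 0],
  [Int.ofNat 1, Int.negSucc 0, Int.negSucc 0, Int.ofNat 1, Int.negSucc 0, Int.negSucc 0, Int.negSucc 0, Int.ofNat 1, Int.negSucc 2, Int.ofNat 1, Int.negSucc 0, Int.negSucc 0, Int.ofNat 1, Int.negSucc 0, Int.ofNat 1, Int.negSucc 0, Int.ofNat 1, Int.negSucc 0, Int.negSucc 0, Int.negSucc 0, Int.ofNat 1, Int.ofNat 1, Int.ofNat 1, Int.ofNat 1],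
  [Int.ofNat 1, Int.negSucc 0, Int.negSucc 0, Int.ofNat 1, Int.negSucc 0, Int.ofNat 1, Int.negSucc 0, Int.negSucc 0, Int.ofNat 1, Int.negSucc 0, Int.ofNat 1, Int.negSucc 0, Int.ofNat 1, Int.ofNat 1, Int.ofNat 1, Int.negSucc 0, Int.negSucc 2, Int.ofNat 1, Int.negSucc 0, Int.negSucc 0, Int.ofNat 1, Int.negSucc 0, Int.negSucc 0, Int.ofNat 1],
  [Int.negSucc 0, Int.ofNat 1, Int.ofNat 1, Int.negSucc 0, Int.ofNat 1, Int.negSucc 0, Int.ofNat 1, Int.ofNat 1, Int.ofNat 1, Int.negSucc 0, Int.ofNat 1, Int.negSucc 0, Int.ofNat 1, Int.ofNat 3, Int.negSucc 0, Int.negSucc 0, Int.negSucc 0, Int.negSucc 0, Int.negSucc 0, Int.ofNat 1, Int.ofNat 1, Int.ofNat 1, Int.ofNat 1, Int.negSucc 0],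
  [Int.negSucc 0, Int.ofNat 1, Int.negSucc 0, Int.negSucc 0, Int.ofNat 1, Int.ofNat 1, Int.negSucc 0, Int.ofNat 1, Int.ofNat 1, Int.ofNat 1, Int.negSucc 0, Int.negSucc 0, Int.ofNat 1, Int.ofNat 3, Int.negSucc 0, Int.ofNat 1, Int.negSucc 0, Int.negSucc 0, Int.ofNat 1, Int.ofNat 1, Int.ofNat 1, Int.ofNat 1, Int.negSucc 0, Int.negSucc 0],
  [Int.negSucc 0, Int.negSucc 0, Int.negSucc 0, Int.ofNat 1, Int.negSucc 0, Int.negSucc 0, Int.ofNat 1, Int.negSucc 0, Int.ofNat 1, Int.ofNat 1, Int.ofNat 3, Int.ofNat 1, Int.ofNat 1, Int.ofNat 1, Int.negSucc 0, Int.ofNat 1, Int.ofNat 1, Int.ofNat 1, Int.ofNat 1, Int.negSucc 0, Int.negSucc 0, Int.ofNat 1, Int.negSucc 0, Int.negSucc 0],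
  [Int.ofNat 1, Int.ofNat 1, Int.ofNat 1, Int.negSucc 0, Int.ofNat 1, Int.negSucc 0, Int.negSucc 0, Int.negSucc 0, Int.negSucc 0, Int.negSucc 0, Int.ofNat 3, Int.ofNat 1, Int.negSucc 0, Int.negSucc 0, Int.negSucc 0, Int.ofNat 1, Int.negSucc 0, Int.ofNat 1, Int.negSucc 0, Int.negSucc 0, Int.negSucc 0, Int.ofNat 1, Int.negSucc 0, Int.negSucc 0],
  [Int.negSucc 0, Int.negSucc 0, Int.ofNat 1, Int.ofNat 1, Int.ofNat 1, Int.negSucc 0, Int.negSucc 0, Int.negSucc 0, Int.negSucc 0, Int.negSucc 0, Int.negSucc 0, Int.ofNat 1, Int.ofNat 1, Int.negSucc 0, Int.negSucc 0, Int.negSucc 0, Int.ofNat 3, Int.ofNat 1, Int.negSucc 0, Int.negSucc 0, Int.negSucc 0, Int.negSucc 0, Int.ofNat 1, Int.ofNat 1],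
  [Int.ofNat 1, Int.negSucc 0, Int.negSucc 0, Int.ofNat 1, Int.ofNat 1, Int.negSucc 0, Int.negSucc 0, Int.ofNat 1, Int.negSucc 0, Int.ofNat 1, Int.ofNat 1, Int.negSucc 0, Int.ofNat 1, Int.negSucc 0, Int.negSucc 0, Int.negSucc 0, Int.ofNat 3, Int.ofNat 1, Int.ofNat 1, Int.negSucc 0, Int.negSucc 0, Int.ofNat 1, Int.ofNat 1, Int.ofNat 1],
  [Int.ofNat 1, Int.ofNat 1, Int.negSucc 0, Int.negSucc 0, Int.ofNat 1, Int.ofNat 1, Int.negSucc 0, Int.negSucc 0, Int.ofNat 1, Int.negSucc 0, Int.ofNat 1, Int.ofNat 1, Int.negSucc 0, Int.ofNat 1, Int.negSucc 0, Int.negSucc 0, Int.negSucc 0, Int.ofNat 3, Int.ofNat 1, Int.ofNat 1, Int.negSucc 0, Int.negSucc 0, Int.ofNat 1, Int.ofNat 1],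
  [Int.ofNat 0, Int.ofNat 0, Int.ofNat 2, Int.negSucc 1, Int.ofNat 0, Int.ofNat 0, Int.ofNat 0, Int.ofNat 0, Int.ofNat 0, Int.ofNat 0, Int.ofNat 2, Int.ofNat 0, Int.negSucc 1, Int.ofNat 0, Int.negSucc 1, Int.ofNat 0, Int.negSucc 1, Int.ofNat 2, Int.ofNat 0, Int.ofNat 2, Int.ofNat 0, Int.ofNat 0, Int.ofNat 0, Int.ofNat 0],
  [Int.negSucc 1, Int.ofNat 0, Int.ofNat 0, Int.ofNat 0, Int.ofNat 0, Int.ofNat 0, Int.ofNat 0, Int.ofNat 2, Int.ofNat 0, Int.negSucc 1, Int.ofNat 0, Int.negSucc 1, Int.ofNat 0, Int.negSucc 1, Int.ofNat 2, Int.ofNat 0, Int.ofNat 2, Int.ofNat 0, Int.ofNat 0, Int.ofNat 0, Int.ofNat 0, Int.ofNat 0, Int.ofNat 2, Int.ofNat 0],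
  [Int.ofNat 1, Int.negSucc 0, Int.negSucc 0, Int.negSucc 0, Int.negSucc 0, Int.negSucc 0, Int.negSucc 0, Int.ofNat 1, Int.ofNat 1, Int.negSucc 0, Int.ofNat 1, Int.negSucc 0, Int.ofNat 1, Int.negSucc 2, Int.ofNat 1, Int.ofNat 1, Int.ofNat 1, Int.negSucc 0, Int.ofNat 1, Int.negSucc 0, Int.ofNat 1, Int.negSucc 0, Int.ofNat 1, Int.negSucc 0],
  [Int.ofNat 1, Int.negSucc 0, Int.negSucc 0, Int.negSucc 0, Int.ofNat 1, Int.ofNat 1, Int.negSucc 0, Int.ofNat 1, Int.ofNat 1, Int.negSucc 2, Int.ofNat 1, Int.negSucc 0, Int.negSucc 0, Int.ofNat 1, Int.ofNat 1, Int.ofNat 1, Int.ofNat 1, Int.ofNat 1, Int.negSucc 0, Int.negSucc 0, Int.negSucc 0, Int.negSucc 0, Int.negSucc 0, Int.negSucc 0],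
  [Int.negSucc 1, Int.ofNat 0, Int.ofNat 0, Int.negSucc 1, Int.ofNat 0, Int.ofNat 0, Int.ofNat 0, Int.ofNat 2, Int.ofNat 2, Int.negSucc 1, Int.ofNat 2, Int.ofNat 0, Int.ofNat 0, Int.ofNat 0, Int.ofNat 0, Int.ofNat 2, Int.ofNat 0, Int.ofNat 0, Int.ofNat 0, Int.ofNat 0, Int.ofNat 0, Int.ofNat 0, Int.negSucc 1, Int.ofNat 0],
  [Int.negSucc 1, Int.ofNat 0, Int.ofNat 0, Int.negSucc 1, Int.ofNat 0, Int.ofNat 0, Int.ofNat 0, Int.ofNat 2, Int.ofNat 2, Int.ofNat 2, Int.negSucc 1, Int.ofNat 0, Int.ofNat 0, Int.ofNat 0, Int.ofNat 0, Int.negSucc 1, Int.ofNat 0, Int.ofNat 0, Int.ofNat 0, Int.ofNat 0, Int.ofNat 0, Int.ofNat 0, Int.ofNat 2, Int.ofNat 0],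
  [Int.ofNat 2, Int.negSucc 1, Int.ofNat 0, Int.ofNat 0, Int.ofNat 0, Int.ofNat 0, Int.negSucc 1, Int.ofNat 0, Int.ofNat 0, Int.negSucc 1, Int.ofNat 0, Int.ofNat 0, Int.ofNat 0, Int.negSucc 1, Int.ofNat 0, Int.ofNat 0, Int.ofNat 2, Int.ofNat 0, Int.ofNat 0, Int.ofNat 2, Int.ofNat 2, Int.ofNat 0, Int.ofNat 0, Int.ofNat 0],
  [Int.ofNat 2, Int.negSucc 1, Int.ofNat 0, Int.ofNat 0, Int.ofNat 0, Int.ofNat 0, Int.ofNat 2, Int.ofNat 0, Int.ofNat 0, Int.ofNat 2, Int.ofNat 0, Int.ofNat 0, Int.ofNat 0, Int.negSucc 1, Int.ofNat 0, Int.ofNat 0, Int.ofNat 2, Int.ofNat 0, Int.ofNat 0, Int.ofNat 2, Int.ofNat 2, Int.ofNat 0, Int.ofNat 0, Int.ofNat 0],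
  [Int.negSucc 1, Int.ofNat 2, Int.ofNat 0, Int.ofNat 0, Int.ofNat 0, Int.ofNat 0, Int.ofNat 0, Int.negSucc 1, Int.ofNat 0, Int.ofNat 0, Int.negSucc 1, Int.ofNat 0, Int.ofNat 0, Int.negSucc 1, Int.ofNat 0, Int.negSucc 1, Int.ofNat 2, Int.ofNat 0, Int.ofNat 0, Int.ofNat 0, Int.ofNat 0, Int.negSucc 1, Int.ofNat 0, Int.ofNat 0],
  [Int.negSucc 1, Int.ofNat 0, Int.ofNat 0, Int.ofNat 0, Int.ofNat 0, Int.negSucc 1, Int.ofNat 2, Int.ofNat 0, Int.ofNat 2, Int.ofNat 0, Int.negSucc 1, Int.ofNat 0, Int.ofNat 0, Int.ofNat 0, Int.ofNat 0, Int.negSucc 1, Int.negSucc 1, Int.ofNat 0, Int.ofNat 0, Int.ofNat 0, Int.negSucc 1, Int.ofNat 0, Int.ofNat 0, Int.ofNat 0],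
  [Int.ofNat 1, Int.negSucc 0, Int.negSucc 0, Int.ofNat 1, Int.ofNat 1, Int.negSucc 0, Int.ofNat 1, Int.negSucc 0, Int.ofNat 1, Int.ofNat 3, Int.ofNat 1, Int.negSucc 0, Int.negSucc 0, Int.ofNat 1, Int.ofNat 1, Int.ofNat 1, Int.negSucc 0, Int.ofNat 1, Int.negSucc 0, Int.negSucc 0, Int.ofNat 1, Int.negSucc 0, Int.ofNat 1, Int.negSucc 0],
  [Int.ofNat 1, Int.negSucc 0, Int.ofNat 1, Int.ofNat 1, Int.negSucc 0, Int.negSucc 0, Int.ofNat 1, Int.ofNat 1, Int.negSucc 0, Int.ofNat 1, Int.negSucc 0, Int.ofNat 1, Int.ofNat 3, Int.ofNat 1, Int.negSucc 0, Int.negSucc 0, Int.ofNat 1, Int.ofNat 1, Int.ofNat 1, Int.negSucc 0, Int.ofNat 1, Int.negSucc 0, Int.negSucc 0, Int.negSucc 0],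
  [Int.negSucc 0, Int.ofNat 1, Int.negSucc 0, Int.ofNat 1, Int.negSucc 0, Int.negSucc 0, Int.ofNat 1, Int.ofNat 1, Int.negSucc 2, Int.ofNat 1, Int.negSucc 0, Int.negSucc 0, Int.ofNat 1, Int.ofNat 1, Int.negSucc 0, Int.negSucc 0, Int.ofNat 1, Int.ofNat 1, Int.negSucc 0, Int.negSucc 0, Int.ofNat 1, Int.negSucc 0, Int.negSucc 0, Int.ofNat 1],
  [Int.ofNat 1, Int.negSucc 0, Int.ofNat 1, Int.negSucc 0, Int.negSucc 0, Int.ofNat 1, Int.ofNat 1, Int.negSucc 2, Int.ofNat 1, Int.negSucc 0, Int.negSucc 0, Int.ofNat 1, Int.ofNat 1, Int.negSucc 0, Int.negSucc 0, Int.ofNat 1, Int.ofNat 1, Int.negSucc 0, Int.negSucc 0, Int.ofNat 1, Int.negSucc 0, Int.negSucc 0, Int.negSucc 0, Int.ofNat 1],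
  [Int.negSucc 0, Int.negSucc 0, Int.negSucc 0, Int.negSucc 0, Int.negSucc 0, Int.ofNat 1, Int.ofNat 1, Int.ofNat 3, Int.ofNat 1, Int.ofNat 1, Int.ofNat 1, Int.negSucc 0, Int.ofNat 1, Int.negSucc 0, Int.negSucc 0, Int.ofNat 1, Int.ofNat 1, Int.negSucc 0, Int.ofNat 1, Int.ofNat 1, Int.negSucc 0, Int.ofNat 1, Int.negSucc 0, Int.ofNat 1],
  [Int.negSucc 0, Int.negSucc 0, Int.ofNat 1, Int.negSucc 0, Int.negSucc 0, Int.ofNat 1, Int.negSucc 0, Int.negSucc 0, Int.ofNat 1, Int.ofNat 1, Int.ofNat 1, Int.negSucc 0, Int.negSucc 0, Int.ofNat 1, Int.ofNat 1, Int.ofNat 1, Int.ofNat 1, Int.negSucc 0, Int.ofNat 1, Int.negSucc 0, Int.ofNat 1, Int.ofNat 3, Int.negSucc 0, Int.ofNat 1],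
  [Int.ofNat 1, Int.negSucc 0, Int.negSucc 0, Int.negSucc 0, Int.negSucc 0, Int.ofNat 1, Int.negSucc 0, Int.ofNat 1, Int.ofNat 1, Int.negSucc 0, Int.negSucc 0, Int.ofNat 1, Int.negSucc 0, Int.ofNat 1, Int.ofNat 1, Int.ofNat 1, Int.ofNat 1, Int.negSucc 0, Int.negSucc 0, Int.negSucc 0, Int.ofNat 1, Int.negSucc 2, Int.negSucc 0, Int.ofNat 1],
  [Int.negSucc 0, Int.ofNat 1, Int.negSucc 0, Int.negSucc 0, Int.negSucc 0, Int.negSucc 0, Int.ofNat 1, Int.negSucc 0, Int.ofNat 1, Int.ofNat 1, Int.negSucc 0, Int.negSucc 0, Int.ofNat 1, Int.negSucc 0, Int.ofNat 1, Int.ofNat 1, Int.ofNat 1, Int.ofNat 1, Int.negSucc 0, Int.negSucc 0, Int.negSucc 0, Int.ofNat 1, Int.negSucc 2, Int.ofNat 1],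
  [Int.ofNat 1, Int.negSucc 0, Int.ofNat 1, Int.negSucc 0, Int.ofNat 1, Int.negSucc 0, Int.ofNat 1, Int.negSucc 0, Int.ofNat 1, Int.ofNat 1, Int.negSucc 0, Int.negSucc 0, Int.ofNat 1, Int.ofNat 1, Int.ofNat 1, Int.ofNat 1, Int.ofNat 3, Int.ofNat 1, Int.negSucc 0, Int.negSucc 0, Int.negSucc 0, Int.ofNat 1, Int.negSucc 0, Int.negSucc 0],
  [Int.negSucc 0, Int.ofNat 1, Int.negSucc 0, Int.ofNat 1, Int.negSucc 0, Int.ofNat 1, Int.ofNat 1, Int.negSucc 0, Int.negSucc 0, Int.ofNat 1, Int.ofNat 1, Int.ofNat 1, Int.ofNat 1, Int.ofNat 3, Int.ofNat 1, Int.negSucc 0, Int.negSucc 0, Int.negSucc 0, Int.ofNat 1, Int.negSucc 0, Int.ofNat 1, Int.negSucc 0, Int.ofNat 1, Int.negSucc 0],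
  [Int.ofNat 0, Int.negSucc 1, Int.ofNat 0, Int.ofNat 0, Int.negSucc 1, Int.ofNat 0, Int.ofNat 2, Int.ofNat 0, Int.negSucc 1, Int.ofNat 0, Int.ofNat 0, Int.ofNat 0, Int.ofNat 0, Int.ofNat 2, Int.ofNat 0, Int.negSucc 1, Int.negSucc 1, Int.negSucc 1, Int.ofNat 0, Int.ofNat 0, Int.ofNat 0, Int.ofNat 0, Int.ofNat 0, Int.ofNat 0],
  [Int.ofNat 0, Int.ofNat 2, Int.negSucc 1, Int.ofNat 0, Int.ofNat 0, Int.ofNat 0, Int.ofNat 0, Int.ofNat 0, Int.ofNat 0, Int.ofNat 2, Int.ofNat 0, Int.negSucc 1, Int.ofNat 0, Int.negSucc 1, Int.ofNat 0, Int.negSucc 1, Int.negSucc 1, Int.ofNat 0, Int.negSucc 1, Int.ofNat 0, Int.ofNat 0, Int.ofNat 0, Int.ofNat 0, Int.ofNat 0],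
  [Int.ofNat 0, Int.negSucc 1, Int.ofNat 2, Int.ofNat 0, Int.ofNat 2, Int.ofNat 0, Int.ofNat 0, Int.ofNat 0, Int.ofNat 2, Int.ofNat 2, Int.ofNat 0, Int.ofNat 0, Int.ofNat 2, Int.ofNat 0, Int.ofNat 0, Int.negSucc 1, Int.ofNat 0, Int.ofNat 0, Int.ofNat 0, Int.ofNat 0, Int.ofNat 0, Int.ofNat 0, Int.ofNat 2, Int.ofNat 0],
  [Int.ofNat 0, Int.negSucc 1, Int.negSucc 1, Int.ofNat 0, Int.ofNat 2, Int.ofNat 0, Int.ofNat 0, Int.ofNat 0, Int.ofNat 2, Int.negSucc 1, Int.ofNat 0, Int.ofNat 0, Int.ofNat 2, Int.ofNat 0, Int.ofNat 0, Int.ofNat 2, Int.ofNat 0, Int.ofNat 0, Int.ofNat 0, Int.ofNat 0, Int.ofNat 0, Int.ofNat 0, Int.negSucc 1, Int.ofNat 0],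
  [Int.ofNat 0, Int.ofNat 0, Int.ofNat 0, Int.ofNat 2, Int.ofNat 0, Int.ofNat 0, Int.ofNat 0, Int.ofNat 0, Int.ofNat 0, Int.ofNat 0, Int.ofNat 0, Int.ofNat 0, Int.ofNat 2, Int.ofNat 2, Int.ofNat 0, Int.ofNat 0, Int.ofNat 0, Int.ofNat 2, Int.negSucc 1, Int.negSucc 1, Int.ofNat 0, Int.negSucc 1, Int.negSucc 1, Int.ofNat 0],
  [Int.ofNat 0, Int.ofNat 0, Int.ofNat 0, Int.negSucc 1, Int.ofNat 0, Int.ofNat 0, Int.ofNat 0, Int.ofNat 0, Int.ofNat 0, Int.ofNat 0, Int.ofNat 0, Int.ofNat 0, Int.negSucc 1, Int.negSucc 1, Int.ofNat 0, Int.ofNat 0, Int.ofNat 0, Int.ofNat 2, Int.ofNat 2, Int.negSucc 1, Int.ofNat 0, Int.negSucc 1, Int.negSucc 1, Int.ofNat 0],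
  [Int.ofNat 0, Int.negSucc 1, Int.ofNat 0, Int.ofNat 0, Int.ofNat 2, Int.ofNat 0, Int.negSucc 1, Int.negSucc 1, Int.ofNat 0, Int.ofNat 0, Int.ofNat 0, Int.ofNat 0, Int.negSucc 1, Int.ofNat 0, Int.ofNat 2, Int.negSucc 1, Int.ofNat 0, Int.ofNat 0, Int.ofNat 0, Int.ofNat 0, Int.ofNat 0, Int.negSucc 1, Int.ofNat 0, Int.ofNat 0],
  [Int.ofNat 0, Int.negSucc 1, Int.ofNat 0, Int.ofNat 0, Int.ofNat 2, Int.ofNat 0, Int.negSucc 1, Int.ofNat 2, Int.ofNat 0, Int.ofNat 0, Int.ofNat 0, Int.ofNat 0, Int.negSucc 1, Int.ofNat 0, Int.ofNat 2, Int.negSucc 1, Int.ofNat 0, Int.ofNat 0, Int.ofNat 0, Int.ofNat 0, Int.ofNat 0, Int.ofNat 2, Int.ofNat 0, Int.ofNat 0],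
  [Int.ofNat 0, Int.ofNat 0, Int.negSucc 1, Int.ofNat 0, Int.ofNat 0, Int.ofNat 2, Int.ofNat 0, Int.negSucc 1, Int.ofNat 2, Int.ofNat 0, Int.ofNat 0, Int.ofNat 0, Int.ofNat 0, Int.negSucc 1, Int.ofNat 0, Int.ofNat 2, Int.negSucc 1, Int.ofNat 0, Int.ofNat 0, Int.ofNat 0, Int.ofNat 0, Int.ofNat 0, Int.ofNat 2, Int.ofNat 0],
  [Int.negSucc 0, Int.negSucc 0, Int.ofNat 1, Int.negSucc 0, Int.ofNat 1, Int.ofNat 1, Int.ofNat 1, Int.negSucc 0, Int.ofNat 1, Int.negSucc 0, Int.negSucc 0, Int.negSucc 0, Int.negSucc 0, Int.negSucc 0, Int.negSucc 0, Int.ofNat 1, Int.negSucc 0, Int.negSucc 0, Int.negSucc 0, Int.ofNat 1, Int.negSucc 0, Int.ofNat 1, Int.ofNat 3, Int.negSucc 0],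
  [Int.negSucc 0, Int.ofNat 1, Int.ofNat 1, Int.ofNat 1, Int.negSucc 0, Int.ofNat 1, Int.negSucc 0, Int.negSucc 0, Int.negSucc 0, Int.negSucc 0, Int.negSucc 0, Int.negSucc 0, Int.ofNat 1, Int.negSucc 0, Int.negSucc 0, Int.negSucc 0, Int.ofNat 1, Int.negSucc 0, Int.ofNat 1, Int.ofNat 3, Int.negSucc 0, Int.negSucc 0, Int.ofNat 1, Int.negSucc 0],
  [Int.ofNat 1, Int.negSucc 0, Int.negSucc 0, Int.ofNat 1, Int.negSucc 0, Int.ofNat 1, Int.negSucc 0, Int.negSucc 0, Int.negSucc 0, Int.ofNat 1, Int.ofNat 1, Int.negSucc 0, Int.ofNat 1, Int.negSucc 0, Int.negSucc 0, Int.ofNat 1, Int.ofNat 1, Int.negSucc 0, Int.ofNat 1, Int.ofNat 3, Int.ofNat 1, Int.negSucc 0, Int.ofNat 1, Int.ofNat 1],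
  [Int.ofNat 1, Int.negSucc 0, Int.negSucc 0, Int.ofNat 1, Int.ofNat 1, Int.negSucc 0, Int.negSucc 0, Int.ofNat 1, Int.ofNat 1, Int.negSucc 0, Int.ofNat 1, Int.negSucc 0, Int.ofNat 1, Int.ofNat 1, Int.ofNat 1, Int.ofNat 1, Int.negSucc 0, Int.negSucc 0, Int.negSucc 0, Int.negSucc 0, Int.negSucc 0, Int.ofNat 1, Int.ofNat 3, Int.ofNat 1],
  [Int.negSucc 0, Int.ofNat 1, Int.ofNat 1, Int.ofNat 1, Int.negSucc 0, Int.negSucc 0, Int.negSucc 0, Int.ofNat 1, Int.ofNat 1, Int.negSucc 0, Int.ofNat 1, Int.negSucc 0, Int.ofNat 1, Int.negSucc 0, Int.ofNat 1, Int.ofNat 1, Int.negSucc 2, Int.negSucc 0, Int.negSucc 0, Int.negSucc 0, Int.negSucc 0, Int.ofNat 1, Int.ofNat 1, Int.negSucc 0],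
  [Int.negSucc 0, Int.ofNat 1, Int.negSucc 0, Int.ofNat 1, Int.negSucc 0, Int.ofNat 1, Int.ofNat 1, Int.ofNat 1, Int.ofNat 1, Int.ofNat 1, Int.negSucc 0, Int.negSucc 0, Int.ofNat 1, Int.negSucc 0, Int.ofNat 1, Int.negSucc 0, Int.negSucc 2, Int.negSucc 0, Int.ofNat 1, Int.negSucc 0, Int.negSucc 0, Int.ofNat 1, Int.negSucc 0, Int.negSucc 0],
  [Int.negSucc 0, Int.negSucc 0, Int.ofNat 1, Int.negSucc 0, Int.ofNat 1, Int.negSucc 0, Int.ofNat 1, Int.negSucc 0, Int.ofNat 1, Int.negSucc 0, Int.negSucc 0, Int.ofNat 1, Int.negSucc 0, Int.negSucc 0, Int.ofNat 1, Int.negSucc 0, Int.ofNat 1, Int.negSucc 0, Int.ofNat 1, Int.ofNat 1, Int.ofNat 1, Int.ofNat 1, Int.negSucc 2, Int.negSucc 0],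
  [Int.negSucc 0, Int.negSucc 0, Int.negSucc 0, Int.negSucc 0, Int.ofNat 1, Int.ofNat 1, Int.negSucc 0, Int.negSucc 0, Int.ofNat 1, Int.ofNat 1, Int.ofNat 1, Int.ofNat 1, Int.negSucc 0, Int.negSucc 0, Int.ofNat 1, Int.ofNat 1, Int.ofNat 1, Int.negSucc 0, Int.negSucc 0, Int.ofNat 1, Int.ofNat 1, Int.ofNat 1, Int.ofNat 3, Int.negSucc 0],
  [Int.negSucc 0, Int.negSucc 0, Int.negSucc 0, Int.negSucc 0, Int.negSucc 0, Int.ofNat 1, Int.negSucc 0, Int.negSucc 0, Int.ofNat 1, Int.negSucc 0, Int.negSucc 0, Int.ofNat 1, Int.negSucc 0, Int.negSucc 2, Int.ofNat 1, Int.negSucc 0, Int.negSucc 0, Int.negSucc 0, Int.negSucc 0, Int.ofNat 1, Int.negSucc 0, Int.ofNat 1, Int.ofNat 1, Int.negSucc 0],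
  [Int.negSucc 0, Int.negSucc 0, Int.negSucc 0, Int.negSucc 0, Int.negSucc 0, Int.ofNat 1, Int.negSucc 0, Int.ofNat 1, Int.negSucc 0, Int.negSucc 0, Int.negSucc 0, Int.ofNat 1, Int.ofNat 1, Int.negSucc 0, Int.negSucc 0, Int.negSucc 0, Int.negSucc 2, Int.ofNat 1, Int.negSucc 0, Int.ofNat 1, Int.negSucc 0, Int.negSucc 0, Int.ofNat 1, Int.negSucc 0],
  [Int.negSucc 0, Int.negSucc 0, Int.negSucc 0, Int.negSucc 0, Int.ofNat 1, Int.ofNat 1, Int.negSucc 0, Int.ofNat 1, Int.negSucc 0, Int.ofNat 1, Int.ofNat 1, Int.ofNat 1, Int.ofNat 1, Int.ofNat 1, Int.negSucc 0, Int.ofNat 1, Int.negSucc 0, Int.ofNat 1, Int.negSucc 0, Int.ofNat 1, Int.ofNat 1, Int.negSucc 0, Int.ofNat 3, Int.negSucc 0],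
  [Int.ofNat 1, Int.negSucc 0, Int.ofNat 3, Int.negSucc 0, Int.negSucc 0, Int.negSucc 0, Int.negSucc 0, Int.ofNat 1, Int.ofNat 1, Int.negSucc 0, Int.ofNat 1, Int.negSucc 0, Int.ofNat 1, Int.ofNat 1, Int.ofNat 1, Int.ofNat 1, Int.ofNat 1, Int.negSucc 0, Int.ofNat 1, Int.negSucc 0, Int.ofNat 1, Int.negSucc 0, Int.ofNat 1, Int.negSucc 0],
  [Int.ofNat 0, Int.ofNat 2, Int.negSucc 1, Int.ofNat 0, Int.negSucc 1, Int.ofNat 0, Int.ofNat 0, Int.ofNat 2, Int.ofNat 0, Int.negSucc 1, Int.ofNat 0, Int.negSucc 1, Int.ofNat 0, Int.ofNat 0, Int.ofNat 2, Int.ofNat 0, Int.ofNat 0, Int.ofNat 0, Int.ofNat 0, Int.ofNat 0, Int.ofNat 0, Int.ofNat 0, Int.ofNat 0, Int.ofNat 2],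
  [Int.ofNat 2, Int.negSucc 1, Int.ofNat 0, Int.negSucc 1, Int.ofNat 0, Int.ofNat 0, Int.ofNat 2, Int.ofNat 0, Int.negSucc 1, Int.ofNat 0, Int.negSucc 1, Int.ofNat 0, Int.ofNat 0, Int.ofNat 2, Int.ofNat 0, Int.ofNat 0, Int.ofNat 0, Int.ofNat 0, Int.ofNat 0, Int.ofNat 0, Int.ofNat 0, Int.ofNat 0, Int.ofNat 0, Int.ofNat 2],
  [Int.negSucc 1, Int.negSucc 1, Int.ofNat 0, Int.negSucc 1, Int.ofNat 0, Int.ofNat 0, Int.ofNat 2, Int.ofNat 0, Int.negSucc 1, Int.ofNat 0, Int.ofNat 2, Int.ofNat 0, Int.ofNat 0, Int.ofNat 2, Int.ofNat 0, Int.ofNat 0, Int.ofNat 0, Int.ofNat 0, Int.ofNat 0, Int.ofNat 0, Int.ofNat 0, Int.ofNat 0, Int.ofNat 0, Int.ofNat 2],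
  [Int.negSucc 1, Int.ofNat 0, Int.ofNat 0, Int.negSucc 1, Int.negSucc 1, Int.ofNat 2, Int.ofNat 0, Int.ofNat 0, Int.ofNat 0, Int.ofNat 0, Int.ofNat 0, Int.ofNat 0, Int.ofNat 2, Int.negSucc 1, Int.ofNat 0, Int.ofNat 0, Int.ofNat 0, Int.ofNat 0, Int.ofNat 2, Int.ofNat 0, Int.ofNat 0, Int.ofNat 0, Int.ofNat 0, Int.ofNat 2],
  [Int.ofNat 2, Int.ofNat 0, Int.ofNat 0, Int.negSucc 1, Int.negSucc 1, Int.ofNat 2, Int.ofNat 0, Int.ofNat 0, Int.ofNat 0, Int.ofNat 0, Int.ofNat 0, Int.ofNat 0, Int.ofNat 2, Int.negSucc 1, Int.ofNat 0, Int.ofNat 0, Int.ofNat 0, Int.ofNat 0, Int.negSucc 1, Int.ofNat 0, Int.ofNat 0, Int.ofNat 0, Int.ofNat 0, Int.ofNat 2],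
  [Int.ofNat 0, Int.ofNat 2, Int.ofNat 0, Int.ofNat 0, Int.negSucc 1, Int.negSucc 1, Int.ofNat 2, Int.ofNat 0, Int.ofNat 0, Int.ofNat 0, Int.ofNat 0, Int.ofNat 0, Int.ofNat 0, Int.ofNat 2, Int.negSucc 1, Int.ofNat 0, Int.ofNat 0, Int.ofNat 0, Int.ofNat 0, Int.negSucc 1, Int.ofNat 0, Int.ofNat 0, Int.ofNat 0, Int.ofNat 2],
  [Int.ofNat 2, Int.ofNat 0, Int.ofNat 2, Int.ofNat 2, Int.negSucc 1, Int.ofNat 0, Int.ofNat 2, Int.ofNat 0, Int.ofNat 0, Int.ofNat 0, Int.ofNat 0, Int.ofNat 0, Int.ofNat 0, Int.ofNat 2, Int.ofNat 0, Int.ofNat 0, Int.ofNat 0, Int.ofNat 2, Int.ofNat 0, Int.negSucc 1, Int.ofNat 0, Int.ofNat 0, Int.ofNat 0, Int.ofNat 0],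
  [Int.ofNat 2, Int.negSucc 1, Int.ofNat 0, Int.ofNat 2, Int.ofNat 0, Int.ofNat 0, Int.ofNat 0, Int.ofNat 0, Int.ofNat 0, Int.ofNat 0, Int.ofNat 2, Int.ofNat 0, Int.ofNat 0, Int.ofNat 0, Int.ofNat 2, Int.ofNat 0, Int.negSucc 1, Int.ofNat 0, Int.ofNat 0, Int.ofNat 0, Int.ofNat 2, Int.ofNat 0, Int.ofNat 2, Int.ofNat 0],
  [Int.negSucc 1, Int.ofNat 2, Int.ofNat 0, Int.ofNat 0, Int.ofNat 0, Int.negSucc 1, Int.ofNat 0, Int.ofNat 0, Int.ofNat 0, Int.negSucc 1, Int.ofNat 0, Int.ofNat 0, Int.ofNat 0, Int.ofNat 0, Int.ofNat 0, Int.negSucc 1, Int.negSucc 1, Int.negSucc 1, Int.ofNat 0, Int.ofNat 0, Int.ofNat 0, Int.ofNat 0, Int.ofNat 2, Int.ofNat 0],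
  [Int.negSucc 1, Int.ofNat 0, Int.ofNat 0, Int.ofNat 0, Int.ofNat 0, Int.ofNat 0, Int.ofNat 0, Int.ofNat 0, Int.ofNat 0, Int.ofNat 0, Int.ofNat 0, Int.negSucc 1, Int.negSucc 1, Int.negSucc 1, Int.ofNat 2, Int.negSucc 1, Int.ofNat 0, Int.ofNat 0, Int.ofNat 2, Int.ofNat 0, Int.ofNat 0, Int.negSucc 1, Int.ofNat 0, Int.ofNat 0],
  [Int.ofNat 1, Int.negSucc 0, Int.negSucc 0, Int.negSucc 0, Int.ofNat 1, Int.negSucc 0, Int.ofNat 1, Int.ofNat 1, Int.ofNat 1, Int.ofNat 1, Int.ofNat 1, Int.negSucc 0, Int.negSucc 0, Int.negSucc 0, Int.ofNat 1, Int.negSucc 0, Int.ofNat 1, Int.negSucc 0, Int.ofNat 3, Int.ofNat 1, Int.ofNat 1, Int.negSucc 0, Int.ofNat 1, Int.negSucc 0],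
  [Int.ofNat 1, Int.negSucc 0, Int.ofNat 1, Int.negSucc 0, Int.ofNat 1, Int.ofNat 1, Int.negSucc 0, Int.ofNat 1, Int.ofNat 1, Int.negSucc 0, Int.negSucc 0, Int.negSucc 0, Int.negSucc 0, Int.negSucc 0, Int.ofNat 1, Int.ofNat 1, Int.ofNat 1, Int.negSucc 0, Int.negSucc 2, Int.ofNat 1, Int.ofNat 1, Int.negSucc 0, Int.negSucc 0, Int.negSucc 0],
  [Int.negSucc 0, Int.ofNat 1, Int.negSucc 0, Int.ofNat 1, Int.ofNat 1, Int.negSucc 0, Int.negSucc 0, Int.negSucc 0, Int.ofNat 1, Int.ofNat 1, Int.negSucc 0, Int.ofNat 1, Int.ofNat 1, Int.ofNat 1, Int.negSucc 0, Int.negSucc 2, Int.ofNat 1, Int.negSucc 0, Int.negSucc 0, Int.ofNat 1, Int.ofNat 1, Int.negSucc 0, Int.negSucc 0, Int.negSucc 0],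
  [Int.ofNat 1, Int.negSucc 0, Int.ofNat 1, Int.negSucc 0, Int.negSucc 0, Int.negSucc 0, Int.ofNat 1, Int.negSucc 0, Int.negSucc 0, Int.negSucc 0, Int.negSucc 0, Int.ofNat 1, Int.negSucc 0, Int.negSucc 0, Int.negSucc 0, Int.negSucc 2, Int.negSucc 0, Int.negSucc 0, Int.ofNat 1, Int.ofNat 1, Int.ofNat 1, Int.negSucc 0, Int.negSucc 0, Int.negSucc 0],
  [Int.negSucc 0, Int.negSucc 0, Int.ofNat 1, Int.negSucc 2, Int.negSucc 0, Int.negSucc 0, Int.ofNat 1, Int.negSucc 0, Int.ofNat 1, Int.negSucc 0, Int.negSucc 0, Int.ofNat 1, Int.negSucc 0, Int.negSucc 0, Int.ofNat 1, Int.negSucc 0, Int.negSucc 0, Int.negSucc 0, Int.negSucc 0, Int.ofNat 1, Int.negSucc 0, Int.negSucc 0, Int.negSucc 0, Int.ofNat 1],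
  [Int.ofNat 1, Int.negSucc 0, Int.negSucc 0, Int.negSucc 2, Int.negSucc 0, Int.negSucc 0, Int.ofNat 1, Int.ofNat 1, Int.ofNat 1, Int.ofNat 1, Int.ofNat 1, Int.negSucc 0, Int.negSucc 0, Int.negSucc 0, Int.ofNat 1, Int.negSucc 0, Int.negSucc 0, Int.negSucc 0, Int.ofNat 1, Int.ofNat 1, Int.negSucc 0, Int.ofNat 1, Int.negSucc 0, Int.ofNat 1],
  [Int.negSucc 0, Int.ofNat 1, Int.negSucc 0, Int.negSucc 0, Int.negSucc 2, Int.negSucc 0, Int.negSucc 0, Int.ofNat 1, Int.ofNat 1, Int.ofNat 1, Int.ofNat 1, Int.ofNat 1, Int.negSucc 0, Int.negSucc 0, Int.negSucc 0, Int.ofNat 1, Int.negSucc 0, Int.negSucc 0, Int.negSucc 0, Int.ofNat 1, Int.ofNat 1, Int.negSucc 0, Int.ofNat 1, Int.ofNat 1],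
  [Int.ofNat 1, Int.negSucc 0, Int.ofNat 1, Int.ofNat 1, Int.negSucc 0, Int.ofNat 1, Int.negSucc 0, Int.ofNat 1, Int.ofNat 1, Int.negSucc 0, Int.negSucc 0, Int.ofNat 1, Int.negSucc 0, Int.ofNat 1, Int.ofNat 1, Int.negSucc 0, Int.ofNat 1, Int.ofNat 1, Int.negSucc 0, Int.ofNat 1, Int.negSucc 0, Int.negSucc 0, Int.ofNat 3, Int.negSucc 0],
  [Int.ofNat 1, Int.negSucc 0, Int.ofNat 1, Int.negSucc 0, Int.ofNat 1, Int.ofNat 1, Int.negSucc 0, Int.negSucc 0, Int.ofNat 1, Int.negSucc 0, Int.ofNat 1, Int.ofNat 1, Int.negSucc 0, Int.ofNat 1, Int.ofNat 1, Int.negSucc 0, Int.ofNat 1, Int.negSucc 0, Int.negSucc 0, Int.ofNat 3, Int.ofNat 1, Int.negSucc 0, Int.ofNat 1, Int.negSucc 0],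
  [Int.negSucc 0, Int.ofNat 1, Int.negSucc 0, Int.negSucc 0, Int.negSucc 0, Int.ofNat 1, Int.negSucc 0, Int.negSucc 0, Int.ofNat 1, Int.negSucc 0, Int.ofNat 1, Int.ofNat 1, Int.negSucc 0, Int.negSucc 0, Int.ofNat 1, Int.negSucc 0, Int.negSucc 0, Int.negSucc 0, Int.negSucc 0, Int.ofNat 3, Int.ofNat 1, Int.negSucc 0, Int.negSucc 0, Int.ofNat 1],
  [Int.negSucc 0, Int.negSucc 0, Int.negSucc 0, Int.negSucc 0, Int.negSucc 0, Int.negSucc 0, Int.negSucc 0, Int.ofNat 1, Int.negSucc 0, Int.negSucc 0, Int.ofNat 1, Int.negSucc 0, Int.negSucc 0, Int.negSucc 0, Int.negSucc 0, Int.negSucc 0, Int.ofNat 1, Int.ofNat 1, Int.ofNat 1, Int.ofNat 1, Int.negSucc 0, Int.ofNat 1, Int.ofNat 3, Int.ofNat 1],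
  [Int.ofNat 0, Int.ofNat 0, Int.ofNat 0, Int.ofNat 0, Int.negSucc 1, Int.ofNat 0, Int.negSucc 1, Int.ofNat 0, Int.ofNat 0, Int.ofNat 0, Int.ofNat 2, Int.ofNat 0, Int.ofNat 0, Int.negSucc 1, Int.ofNat 0, Int.ofNat 0, Int.ofNat 0, Int.ofNat 2, Int.ofNat 2, Int.ofNat 0, Int.ofNat 0, Int.ofNat 0, Int.ofNat 2, Int.negSucc 1],
  [Int.ofNat 0, Int.ofNat 0, Int.ofNat 0, Int.ofNat 0, Int.negSucc 1, Int.ofNat 0, Int.ofNat 2, Int.ofNat 0, Int.ofNat 0, Int.ofNat 0, Int.negSucc 1, Int.ofNat 0, Int.ofNat 0, Int.negSucc 1, Int.ofNat 0, Int.ofNat 0, Int.ofNat 0, Int.ofNat 2, Int.negSucc 1, Int.ofNat 0, Int.ofNat 0, Int.ofNat 0, Int.negSucc 1, Int.negSucc 1],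
  [Int.negSucc 1, Int.negSucc 1, Int.ofNat 0, Int.ofNat 0, Int.negSucc 1, Int.negSucc 1, Int.ofNat 0, Int.negSucc 1, Int.ofNat 2, Int.ofNat 0, Int.ofNat 0, Int.ofNat 0, Int.ofNat 0, Int.ofNat 0, Int.ofNat 0, Int.ofNat 2, Int.ofNat 0, Int.ofNat 0, Int.ofNat 0, Int.ofNat 0, Int.ofNat 0, Int.ofNat 0, Int.ofNat 0, Int.negSucc 1],
  [Int.negSucc 1, Int.negSucc 1, Int.ofNat 0, Int.ofNat 0, Int.negSucc 1, Int.ofNat 2, Int.ofNat 0, Int.negSucc 1, Int.ofNat 2, Int.ofNat 0, Int.ofNat 0, Int.ofNat 0, Int.ofNat 0, Int.ofNat 0, Int.ofNat 0, Int.negSucc 1, Int.ofNat 0, Int.ofNat 0, Int.ofNat 0, Int.ofNat 0, Int.ofNat 0, Int.ofNat 0, Int.ofNat 0, Int.negSucc 1],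
  [Int.negSucc 0, Int.negSucc 0, Int.negSucc 2, Int.negSucc 0, Int.negSucc 0, Int.ofNat 1, Int.ofNat 1, Int.negSucc 0, Int.ofNat 1, Int.ofNat 1, Int.ofNat 1, Int.negSucc 0, Int.negSucc 0, Int.ofNat 1, Int.negSucc 0, Int.negSucc 0, Int.ofNat 1, Int.negSucc 0, Int.negSucc 0, Int.ofNat 1, Int.ofNat 1, Int.ofNat 1, Int.ofNat 1, Int.negSucc 0],
  [Int.negSucc 0, Int.negSucc 0, Int.ofNat 1, Int.negSucc 0, Int.negSucc 2, Int.ofNat 1, Int.negSucc 0, Int.ofNat 1, Int.ofNat 1, Int.negSucc 0, Int.negSucc 0, Int.ofNat 1, Int.ofNat 1, Int.ofNat 1, Int.negSucc 0, Int.negSucc 0, Int.ofNat 1, Int.negSucc 0, Int.negSucc 0, Int.ofNat 1, Int.ofNat 1, Int.ofNat 1, Int.negSucc 0, Int.negSucc 0],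
  [Int.ofNat 0, Int.ofNat 0, Int.negSucc 1, Int.ofNat 0, Int.negSucc 1, Int.ofNat 2, Int.negSucc 1, Int.ofNat 0, Int.ofNat 0, Int.ofNat 0, Int.ofNat 0, Int.ofNat 0, Int.ofNat 0, Int.ofNat 2, Int.ofNat 0, Int.ofNat 0, Int.ofNat 2, Int.ofNat 0, Int.negSucc 1, Int.ofNat 0, Int.ofNat 2, Int.ofNat 0, Int.ofNat 0, Int.ofNat 0],
  [Int.ofNat 2, Int.ofNat 0, Int.ofNat 0, Int.ofNat 0, Int.ofNat 0, Int.negSucc 1, Int.ofNat 0, Int.negSucc 1, Int.ofNat 2, Int.negSucc 1, Int.ofNat 0, Int.ofNat 0, Int.ofNat 0, Int.ofNat 0, Int.ofNat 0, Int.ofNat 0, Int.ofNat 2, Int.ofNat 0, Int.ofNat 0, Int.ofNat 2, Int.ofNat 0, Int.negSucc 1, Int.ofNat 0, Int.ofNat 0],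
  [Int.negSucc 0, Int.ofNat 1, Int.ofNat 1, Int.ofNat 1, Int.negSucc 0, Int.negSucc 0, Int.ofNat 1, Int.negSucc 0, Int.ofNat 1, Int.negSucc 0, Int.ofNat 1, Int.negSucc 0, Int.negSucc 0, Int.negSucc 0, Int.ofNat 1, Int.ofNat 1, Int.ofNat 1, Int.ofNat 1, Int.negSucc 0, Int.ofNat 3, Int.ofNat 1, Int.negSucc 0, Int.negSucc 0, Int.ofNat 1],
  [Int.ofNat 1, Int.ofNat 1, Int.ofNat 1, Int.negSucc 0, Int.negSucc 0, Int.ofNat 1, Int.negSucc 0, Int.ofNat 1, Int.negSucc 0, Int.ofNat 1, Int.negSucc 0, Int.negSucc 0, Int.negSucc 0, Int.ofNat 1, Int.ofNat 1, Int.ofNat 1, Int.ofNat 1, Int.negSucc 0, Int.ofNat 3, Int.ofNat 1, Int.negSucc 0, Int.negSucc 0, Int.negSucc 0, Int.ofNat 1],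
  [Int.negSucc 0, Int.ofNat 1, Int.negSucc 0, Int.negSucc 0, Int.negSucc 0, Int.ofNat 1, Int.negSucc 0, Int.negSucc 0, Int.negSucc 0, Int.negSucc 0, Int.ofNat 1, Int.ofNat 1, Int.negSucc 0, Int.ofNat 1, Int.ofNat 1, Int.ofNat 1, Int.ofNat 1, Int.negSucc 0, Int.negSucc 2, Int.ofNat 1, Int.negSucc 0, Int.ofNat 1, Int.negSucc 0, Int.ofNat 1],
  [Int.negSucc 0, Int.negSucc 0, Int.negSucc 2, Int.negSucc 0, Int.ofNat 1, Int.ofNat 1, Int.negSucc 0, Int.negSucc 0, Int.negSucc 0, Int.ofNat 1, Int.ofNat 1, Int.ofNat 1, Int.ofNat 1, Int.negSucc 0, Int.ofNat 1, Int.ofNat 1, Int.negSucc 0, Int.negSucc 0, Int.negSucc 0, Int.negSucc 0, Int.ofNat 1, Int.negSucc 0, Int.ofNat 1, Int.ofNat 1],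
  [Int.ofNat 1, Int.negSucc 0, Int.ofNat 3, Int.negSucc 0, Int.ofNat 1, Int.ofNat 1, Int.negSucc 0, Int.ofNat 1, Int.negSucc 0, Int.negSucc 0, Int.negSucc 0, Int.negSucc 0, Int.ofNat 1, Int.negSucc 0, Int.ofNat 1, Int.ofNat 1, Int.negSucc 0, Int.negSucc 0, Int.ofNat 1, Int.negSucc 0, Int.ofNat 1, Int.ofNat 1, Int.ofNat 1, Int.ofNat 1],
  [Int.ofNat 1, Int.ofNat 1, Int.negSucc 0, Int.ofNat 3, Int.negSucc 0, Int.ofNat 1, Int.ofNat 1, Int.negSucc 0, Int.ofNat 1, Int.negSucc 0, Int.negSucc 0, Int.negSucc 0, Int.negSucc 0, Int.ofNat 1, Int.negSucc 0, Int.ofNat 1, Int.ofNat 1, Int.negSucc 0, Int.negSucc 0, Int.ofNat 1, Int.negSucc 0, Int.ofNat 1, Int.ofNat 1, Int.ofNat 1],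
  [Int.ofNat 0, Int.ofNat 0, Int.ofNat 2, Int.ofNat 2, Int.negSucc 1, Int.ofNat 0, Int.ofNat 0, Int.negSucc 1, Int.ofNat 2, Int.ofNat 0, Int.ofNat 0, Int.ofNat 0, Int.ofNat 0, Int.ofNat 0, Int.negSucc 1, Int.ofNat 2, Int.ofNat 0, Int.negSucc 1, Int.ofNat 0, Int.ofNat 0, Int.ofNat 0, Int.ofNat 0, Int.ofNat 0, Int.ofNat 0],
  [Int.ofNat 2, Int.negSucc 1, Int.ofNat 0, Int.ofNat 0, Int.negSucc 1, Int.ofNat 2, Int.ofNat 0, Int.ofNat 0, Int.ofNat 0, Int.ofNat 0, Int.ofNat 0, Int.negSucc 1, Int.ofNat 2, Int.ofNat 0, Int.negSucc 1, Int.ofNat 0, Int.ofNat 0, Int.ofNat 0, Int.ofNat 0, Int.ofNat 0, Int.ofNat 0, Int.ofNat 0, Int.ofNat 2, Int.ofNat 0],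
  [Int.negSucc 1, Int.ofNat 2, Int.ofNat 0, Int.ofNat 0, Int.negSucc 1, Int.ofNat 2, Int.ofNat 0, Int.ofNat 0, Int.ofNat 0, Int.ofNat 0, Int.ofNat 0, Int.negSucc 1, Int.ofNat 2, Int.ofNat 0, Int.negSucc 1, Int.ofNat 0, Int.ofNat 0, Int.ofNat 0, Int.ofNat 0, Int.ofNat 0, Int.ofNat 0, Int.ofNat 0, Int.ofNat 2, Int.ofNat 0],
  [Int.negSucc 1, Int.ofNat 0, Int.negSucc 1, Int.ofNat 0, Int.ofNat 0, Int.ofNat 0, Int.ofNat 0, Int.ofNat 0, Int.ofNat 2, Int.ofNat 0, Int.ofNat 0, Int.ofNat 0, Int.ofNat 0, Int.ofNat 0, Int.ofNat 2, Int.ofNat 0, Int.ofNat 0, Int.negSucc 1, Int.ofNat 2, Int.negSucc 1, Int.ofNat 0, Int.ofNat 2, Int.ofNat 0, Int.ofNat 0],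
  [Int.ofNat 0, Int.negSucc 1, Int.ofNat 0, Int.ofNat 0, Int.ofNat 0, Int.ofNat 0, Int.ofNat 0, Int.ofNat 0, Int.ofNat 0, Int.ofNat 0, Int.ofNat 0, Int.negSucc 1, Int.negSucc 1, Int.ofNat 0, Int.ofNat 2, Int.ofNat 0, Int.ofNat 0, Int.negSucc 1, Int.ofNat 0, Int.negSucc 1, Int.ofNat 0, Int.ofNat 2, Int.ofNat 0, Int.negSucc 1],
  [Int.ofNat 0, Int.negSucc 1, Int.ofNat 0, Int.ofNat 0, Int.ofNat 0, Int.ofNat 0, Int.ofNat 0, Int.ofNat 0, Int.ofNat 0, Int.ofNat 0, Int.ofNat 0, Int.negSucc 1, Int.negSucc 1, Int.ofNat 0, Int.ofNat 2, Int.ofNat 0, Int.ofNat 0, Int.negSucc 1, Int.ofNat 0, Int.negSucc 1, Int.ofNat 0, Int.ofNat 2, Int.ofNat 0, Int.negSucc 1],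
  [Int.ofNat 0, Int.ofNat 0, Int.negSucc 1, Int.ofNat 0, Int.ofNat 2, Int.ofNat 0, Int.ofNat 2, Int.ofNat 0, Int.ofNat 0, Int.ofNat 0, Int.ofNat 0, Int.ofNat 0, Int.ofNat 0, Int.ofNat 0, Int.negSucc 1, Int.ofNat 0, Int.negSucc 1, Int.negSucc 1, Int.ofNat 0, Int.ofNat 0, Int.ofNat 0, Int.negSucc 1, Int.ofNat 0, Int.negSucc 1],
  [Int.ofNat 0, Int.ofNat 0, Int.ofNat 2, Int.ofNat 0, Int.negSucc 1, Int.ofNat 0, Int.negSucc 1, Int.ofNat 0, Int.ofNat 0, Int.ofNat 0, Int.ofNat 0, Int.ofNat 0, Int.ofNat 0, Int.ofNat 0, Int.negSucc 1, Int.ofNat 0, Int.ofNat 2, Int.negSucc 1, Int.ofNat 0, Int.ofNat 0, Int.ofNat 0, Int.negSucc 1, Int.ofNat 0, Int.negSucc 1],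
  [Int.negSucc 1, Int.ofNat 0, Int.ofNat 0, Int.ofNat 0, Int.negSucc 1, Int.ofNat 0, Int.ofNat 0, Int.ofNat 0, Int.ofNat 0, Int.ofNat 0, Int.ofNat 2, Int.ofNat 2, Int.negSucc 1, Int.ofNat 0, Int.ofNat 0, Int.ofNat 0, Int.ofNat 0, Int.negSucc 1, Int.negSucc 1, Int.negSucc 1, Int.ofNat 0, Int.ofNat 0, Int.ofNat 0, Int.ofNat 0],
  [Int.ofNat 2, Int.ofNat 0, Int.ofNat 0, Int.ofNat 0, Int.negSucc 1, Int.ofNat 0, Int.ofNat 0, Int.ofNat 0, Int.ofNat 0, Int.ofNat 0, Int.negSucc 1, Int.negSucc 1, Int.negSucc 1, Int.ofNat 0, Int.ofNat 0, Int.ofNat 0, Int.ofNat 0, Int.negSucc 1, Int.ofNat 2, Int.negSucc 1, Int.ofNat 0, Int.ofNat 0, Int.ofNat 0, Int.ofNat 0],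
  [Int.ofNat 0, Int.ofNat 2, Int.ofNat 0, Int.ofNat 0, Int.ofNat 0, Int.negSucc 1, Int.ofNat 0, Int.ofNat 0, Int.ofNat 0, Int.ofNat 0, Int.ofNat 0, Int.negSucc 1, Int.negSucc 1, Int.negSucc 1, Int.ofNat 0, Int.ofNat 0, Int.ofNat 0, Int.ofNat 0, Int.negSucc 1, Int.ofNat 2, Int.negSucc 1, Int.ofNat 0, Int.ofNat 0, Int.ofNat 0],
  [Int.ofNat 1, Int.negSucc 0, Int.ofNat 1, Int.ofNat 1, Int.ofNat 1, Int.negSucc 0, Int.negSucc 0, Int.negSucc 0, Int.ofNat 3, Int.ofNat 1, Int.ofNat 1, Int.ofNat 1, Int.ofNat 1, Int.negSucc 0, Int.ofNat 1, Int.ofNat 1, Int.ofNat 1, Int.ofNat 1, Int.ofNat 1, Int.ofNat 1, Int.negSucc 0, Int.negSucc 0, Int.ofNat 1, Int.ofNat 1],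
  [Int.ofNat 1, Int.ofNat 1, Int.negSucc 0, Int.negSucc 0, Int.negSucc 0, Int.ofNat 3, Int.ofNat 1, Int.ofNat 1, Int.ofNat 1, Int.ofNat 1, Int.negSucc 0, Int.ofNat 1, Int.ofNat 1, Int.ofNat 1, Int.ofNat 1, Int.ofNat 1, Int.ofNat 1, Int.negSucc 0, Int.negSucc 0, Int.ofNat 1, Int.ofNat 1, Int.negSucc 0, Int.ofNat 1, Int.ofNat 1],
  [Int.ofNat 0, Int.ofNat 0, Int.ofNat 2, Int.negSucc 1, Int.negSucc 1, Int.ofNat 2, Int.ofNat 0, Int.ofNat 0, Int.ofNat 0, Int.ofNat 0, Int.negSucc 1, Int.ofNat 0, Int.ofNat 0, Int.ofNat 0, Int.ofNat 0, Int.ofNat 0, Int.ofNat 0, Int.negSucc 1, Int.negSucc 1, Int.ofNat 0, Int.ofNat 0, Int.negSucc 1, Int.ofNat 0, Int.ofNat 0],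
  [Int.ofNat 0, Int.ofNat 0, Int.negSucc 1, Int.negSucc 1, Int.negSucc 1, Int.ofNat 0, Int.ofNat 2, Int.negSucc 1, Int.ofNat 0, Int.ofNat 0, Int.ofNat 0, Int.negSucc 1, Int.ofNat 0, Int.ofNat 0, Int.ofNat 0, Int.ofNat 0, Int.ofNat 0, Int.ofNat 0, Int.ofNat 0, Int.ofNat 0, Int.negSucc 1, Int.ofNat 2, Int.ofNat 0, Int.ofNat 0],
  [Int.negSucc 0, Int.negSucc 0, Int.ofNat 1, Int.negSucc 0, Int.negSucc 0, Int.ofNat 1, Int.ofNat 1, Int.negSucc 2, Int.ofNat 1, Int.ofNat 1, Int.ofNat 1, Int.negSucc 0, Int.ofNat 1, Int.ofNat 1, Int.ofNat 1, Int.ofNat 1, Int.ofNat 1, Int.ofNat 1, Int.ofNat 1, Int.negSucc 0, Int.negSucc 0, Int.ofNat 1, Int.ofNat 1, Int.negSucc 0],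
  [Int.negSucc 0, Int.negSucc 0, Int.negSucc 0, Int.negSucc 0, Int.negSucc 0, Int.negSucc 0, Int.negSucc 0, Int.negSucc 2, Int.ofNat 1, Int.negSucc 0, Int.negSucc 0, Int.negSucc 0, Int.ofNat 1, Int.ofNat 1, Int.ofNat 1, Int.negSucc 0, Int.ofNat 1, Int.ofNat 1, Int.negSucc 0, Int.negSucc 0, Int.negSucc 0, Int.ofNat 1, Int.negSucc 0, Int.negSucc 0],
  [Int.negSucc 0, Int.negSucc 0, Int.negSucc 0, Int.negSucc 0, Int.negSucc 0, Int.ofNat 1, Int.negSucc 0, Int.negSucc 0, Int.negSucc 0, Int.negSucc 0, Int.negSucc 0, Int.ofNat 1, Int.negSucc 0, Int.negSucc 0, Int.ofNat 1, Int.ofNat 1, Int.ofNat 1, Int.negSucc 0, Int.ofNat 1, Int.negSucc 0, Int.negSucc 2, Int.negSucc 0, Int.ofNat 1, Int.negSucc 0],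
  [Int.negSucc 0, Int.negSucc 0, Int.ofNat 1, Int.negSucc 0, Int.negSucc 0, Int.negSucc 0, Int.ofNat 1, Int.negSucc 0, Int.negSucc 0, Int.ofNat 1, Int.ofNat 1, Int.ofNat 1, Int.negSucc 0, Int.negSucc 0, Int.ofNat 1, Int.negSucc 0, Int.ofNat 1, Int.negSucc 0, Int.negSucc 0, Int.negSucc 0, Int.negSucc 2, Int.negSucc 0, Int.negSucc 0, Int.negSucc 0],
  [Int.ofNat 0, Int.ofNat 0, Int.negSucc 1, Int.ofNat 0, Int.ofNat 0, Int.ofNat 0, Int.ofNat 2, Int.ofNat 0, Int.ofNat 0, Int.ofNat 2, Int.ofNat 2, Int.ofNat 2, Int.ofNat 0, Int.ofNat 0, Int.ofNat 2, Int.ofNat 0, Int.ofNat 2, Int.ofNat 0, Int.ofNat 0, Int.ofNat 0, Int.negSucc 1, Int.ofNat 0, Int.ofNat 0, Int.ofNat 0],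
  [Int.ofNat 0, Int.ofNat 0, Int.ofNat 2, Int.ofNat 0, Int.negSucc 1, Int.ofNat 0, Int.ofNat 0, Int.ofNat 0, Int.ofNat 2, Int.ofNat 0, Int.ofNat 0, Int.ofNat 0, Int.ofNat 0, Int.ofNat 2, Int.ofNat 0, Int.ofNat 0, Int.ofNat 0, Int.ofNat 2, Int.ofNat 0, Int.ofNat 0, Int.ofNat 2, Int.negSucc 1, Int.ofNat 2, Int.ofNat 0],
  [Int.ofNat 1, Int.ofNat 1, Int.negSucc 0, Int.negSucc 0, Int.negSucc 2, Int.negSucc 0, Int.ofNat 1, Int.ofNat 1, Int.ofNat 1, Int.negSucc 0, Int.negSucc 0, Int.negSucc 0, Int.negSucc 0, Int.ofNat 1, Int.negSucc 0, Int.negSucc 0, Int.negSucc 0, Int.ofNat 1, Int.negSucc 0, Int.ofNat 1, Int.ofNat 1, Int.negSucc 0, Int.ofNat 1, Int.ofNat 1],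
  [Int.ofNat 1, Int.negSucc 0, Int.ofNat 1, Int.ofNat 1, Int.ofNat 1, Int.negSucc 0, Int.negSucc 0, Int.negSucc 2, Int.negSucc 0, Int.ofNat 1, Int.ofNat 1, Int.ofNat 1, Int.negSucc 0, Int.negSucc 0, Int.negSucc 0, Int.negSucc 0, Int.ofNat 1, Int.negSucc 0, Int.negSucc 0, Int.negSucc 0, Int.ofNat 1, Int.negSucc 0, Int.ofNat 1, Int.ofNat 1],
  [Int.ofNat 0, Int.ofNat 2, Int.ofNat 0, Int.ofNat 2, Int.ofNat 0, Int.ofNat 0, Int.ofNat 2, Int.ofNat 0, Int.ofNat 0, Int.ofNat 0, Int.ofNat 0, Int.ofNat 2, Int.ofNat 0, Int.negSucc 1, Int.ofNat 0, Int.negSucc 1, Int.ofNat 0, Int.ofNat 0, Int.ofNat 0, Int.ofNat 2, Int.ofNat 0, Int.ofNat 2, Int.ofNat 0, Int.ofNat 0],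
  [Int.ofNat 2, Int.ofNat 0, Int.ofNat 2, Int.ofNat 0, Int.ofNat 0, Int.ofNat 2, Int.ofNat 0, Int.ofNat 0, Int.ofNat 0, Int.ofNat 0, Int.ofNat 2, Int.ofNat 0, Int.negSucc 1, Int.ofNat 0, Int.negSucc 1, Int.ofNat 0, Int.ofNat 0, Int.ofNat 0, Int.ofNat 2, Int.ofNat 0, Int.ofNat 2, Int.ofNat 0, Int.ofNat 0, Int.ofNat 0],
  [Int.negSucc 1, Int.ofNat 0, Int.negSucc 1, Int.ofNat 0, Int.ofNat 0, Int.ofNat 2, Int.ofNat 0, Int.ofNat 0, Int.ofNat 0, Int.ofNat 0, Int.negSucc 1, Int.ofNat 0, Int.negSucc 1, Int.ofNat 0, Int.negSucc 1, Int.ofNat 0, Int.ofNat 0, Int.ofNat 0, Int.negSucc 1, Int.ofNat 0, Int.ofNat 2, Int.ofNat 0, Int.ofNat 0, Int.ofNat 0],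
  [Int.negSucc 1, Int.negSucc 1, Int.negSucc 1, Int.ofNat 0, Int.ofNat 0, Int.negSucc 1, Int.ofNat 0, Int.ofNat 2, Int.ofNat 0, Int.ofNat 0, Int.ofNat 0, Int.negSucc 1, Int.ofNat 0, Int.ofNat 0, Int.ofNat 0, Int.ofNat 0, Int.negSucc 1, Int.ofNat 0, Int.ofNat 0, Int.ofNat 0, Int.ofNat 2, Int.ofNat 0, Int.ofNat 0, Int.ofNat 0],
  [Int.ofNat 2, Int.negSucc 1, Int.ofNat 2, Int.ofNat 0, Int.ofNat 0, Int.negSucc 1, Int.ofNat 0, Int.negSucc 1, Int.ofNat 0, Int.ofNat 0, Int.ofNat 0, Int.ofNat 2, Int.ofNat 0, Int.ofNat 0, Int.ofNat 0, Int.ofNat 0, Int.negSucc 1, Int.ofNat 0, Int.ofNat 0, Int.ofNat 0, Int.ofNat 2, Int.ofNat 0, Int.ofNat 0, Int.ofNat 0],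
  [Int.ofNat 0, Int.ofNat 2, Int.negSucc 1, Int.ofNat 2, Int.ofNat 0, Int.ofNat 0, Int.negSucc 1, Int.ofNat 0, Int.negSucc 1, Int.ofNat 0, Int.ofNat 0, Int.ofNat 0, Int.ofNat 2, Int.ofNat 0, Int.ofNat 0, Int.ofNat 0, Int.ofNat 0, Int.negSucc 1, Int.ofNat 0, Int.ofNat 0, Int.ofNat 0, Int.ofNat 2, Int.ofNat 0, Int.ofNat 0],
  [Int.ofNat 0, Int.negSucc 1, Int.ofNat 2, Int.ofNat 2, Int.ofNat 0, Int.ofNat 0, Int.negSucc 1, Int.ofNat 0, Int.negSucc 1, Int.ofNat 0, Int.ofNat 0, Int.ofNat 0, Int.ofNat 2, Int.ofNat 0, Int.ofNat 0, Int.ofNat 0, Int.ofNat 0, Int.negSucc 1, Int.ofNat 0, Int.ofNat 0, Int.ofNat 0, Int.ofNat 2, Int.ofNat 0, Int.ofNat 0],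
  [Int.ofNat 2, Int.ofNat 0, Int.ofNat 0, Int.negSucc 1, Int.ofNat 0, Int.negSucc 1, Int.ofNat 0, Int.ofNat 0, Int.ofNat 0, Int.ofNat 2, Int.ofNat 0, Int.ofNat 0, Int.ofNat 0, Int.ofNat 0, Int.negSucc 1, Int.ofNat 0, Int.ofNat 0, Int.ofNat 0, Int.ofNat 2, Int.ofNat 0, Int.ofNat 0, Int.negSucc 1, Int.ofNat 2, Int.ofNat 0],
  [Int.negSucc 0, Int.ofNat 1, Int.ofNat 1, Int.ofNat 1, Int.negSucc 0, Int.ofNat 1, Int.ofNat 1, Int.ofNat 1, Int.negSucc 0, Int.ofNat 1, Int.negSucc 0, Int.negSucc 0, Int.negSucc 0, Int.negSucc 0, Int.ofNat 1, Int.negSucc 0, Int.negSucc 0, Int.ofNat 3, Int.ofNat 1, Int.ofNat 1, Int.negSucc 0, Int.negSucc 0, Int.ofNat 1, Int.ofNat 1],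
  [Int.negSucc 0, Int.ofNat 1, Int.negSucc 0, Int.ofNat 1, Int.ofNat 1, Int.ofNat 1, Int.ofNat 1, Int.negSucc 0, Int.negSucc 0, Int.negSucc 0, Int.negSucc 0, Int.ofNat 3, Int.ofNat 1, Int.negSucc 0, Int.ofNat 1, Int.negSucc 0, Int.negSucc 0, Int.ofNat 1, Int.ofNat 1, Int.negSucc 0, Int.negSucc 0, Int.ofNat 1, Int.ofNat 1, Int.ofNat 1],
  [Int.ofNat 1, Int.negSucc 0, Int.ofNat 1, Int.negSucc 0, Int.ofNat 1, Int.negSucc 0, Int.ofNat 1, Int.negSucc 0, Int.negSucc 2, Int.ofNat 1, Int.ofNat 1, Int.ofNat 1, Int.negSucc 0, Int.negSucc 0, Int.negSucc 0, Int.ofNat 1, Int.negSucc 0, Int.negSucc 0, Int.negSucc 0, Int.negSucc 0, Int.ofNat 1, Int.ofNat 1, Int.ofNat 1, Int.negSucc 0],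
  [Int.ofNat 1, Int.negSucc 0, Int.negSucc 0, Int.negSucc 0, Int.ofNat 1, Int.ofNat 1, Int.negSucc 0, Int.negSucc 0, Int.negSucc 2, Int.negSucc 0, Int.negSucc 0, Int.ofNat 1, Int.negSucc 0, Int.negSucc 0, Int.negSucc 0, Int.negSucc 0, Int.negSucc 0, Int.negSucc 0, Int.ofNat 1, Int.negSucc 0, Int.ofNat 1, Int.ofNat 1, Int.negSucc 0, Int.negSucc 0],
  [Int.negSucc 0, Int.negSucc 0, Int.ofNat 1, Int.negSucc 2, Int.negSucc 0, Int.negSucc 0, Int.ofNat 1, Int.negSucc 0, Int.ofNat 1, Int.ofNat 1, Int.negSucc 0, Int.negSucc 0, Int.negSucc 0, Int.ofNat 1, Int.negSucc 0, Int.ofNat 1, Int.negSucc 0, Int.negSucc 0, Int.negSucc 0, Int.negSucc 0, Int.ofNat 1, Int.negSucc 0, Int.negSucc 0, Int.negSucc 0],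
  [Int.ofNat 1, Int.ofNat 1, Int.negSucc 0, Int.ofNat 3, Int.ofNat 1, Int.negSucc 0, Int.negSucc 0, Int.negSucc 0, Int.negSucc 0, Int.negSucc 0, Int.negSucc 0, Int.negSucc 0, Int.ofNat 1, Int.negSucc 0, Int.negSucc 0, Int.ofNat 1, Int.ofNat 1, Int.negSucc 0, Int.ofNat 1, Int.negSucc 0, Int.ofNat 1, Int.negSucc 0, Int.negSucc 0, Int.negSucc 0],
  [Int.negSucc 0, Int.negSucc 0, Int.negSucc 0, Int.ofNat 1, Int.negSucc 0, Int.negSucc 0, Int.negSucc 0, Int.negSucc 0, Int.ofNat 1, Int.negSucc 0, Int.ofNat 1, Int.negSucc 0, Int.negSucc 0, Int.negSucc 0, Int.ofNat 1, Int.ofNat 3, Int.negSucc 0, Int.ofNat 1, Int.negSucc 0, Int.negSucc 0, Int.negSucc 0, Int.ofNat 1, Int.ofNat 1, Int.ofNat 1],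
  [Int.ofNat 1, Int.negSucc 0, Int.ofNat 1, Int.ofNat 1, Int.negSucc 0, Int.negSucc 0, Int.negSucc 0, Int.ofNat 1, Int.ofNat 1, Int.ofNat 1, Int.negSucc 0, Int.ofNat 1, Int.negSucc 0, Int.negSucc 0, Int.ofNat 1, Int.ofNat 3, Int.negSucc 0, Int.ofNat 1, Int.ofNat 1, Int.negSucc 0, Int.negSucc 0, Int.negSucc 0, Int.ofNat 1, Int.ofNat 1],
  [Int.ofNat 1, Int.ofNat 1, Int.negSucc 0, Int.ofNat 1, Int.ofNat 1, Int.negSucc 0, Int.negSucc 0, Int.negSucc 0, Int.ofNat 1, Int.ofNat 1, Int.ofNat 1, Int.negSucc 0, Int.ofNat 1, Int.negSucc 0, Int.negSucc 0, Int.ofNat 1, Int.ofNat 3, Int.negSucc 0, Int.ofNat 1, Int.ofNat 1, Int.negSucc 0, Int.negSucc 0, Int.negSucc 0, Int.ofNat 1],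
  [Int.ofNat 0, Int.ofNat 0, Int.ofNat 2, Int.ofNat 2, Int.ofNat 0, Int.ofNat 0, Int.ofNat 0, Int.ofNat 0, Int.ofNat 0, Int.ofNat 0, Int.ofNat 0, Int.negSucc 1, Int.ofNat 0, Int.negSucc 1, Int.ofNat 0, Int.ofNat 0, Int.ofNat 2, Int.ofNat 0, Int.ofNat 0, Int.ofNat 2, Int.negSucc 1, Int.ofNat 0, Int.negSucc 1, Int.ofNat 0],
  [Int.ofNat 2, Int.ofNat 0, Int.ofNat 0, Int.ofNat 0, Int.ofNat 0, Int.ofNat 0, Int.ofNat 0, Int.ofNat 0, Int.negSucc 1, Int.ofNat 0, Int.negSucc 1, Int.ofNat 0, Int.ofNat 0, Int.ofNat 2, Int.ofNat 0, Int.ofNat 0, Int.ofNat 2, Int.negSucc 1, Int.ofNat 0, Int.negSucc 1, Int.ofNat 0, Int.ofNat 0, Int.ofNat 2, Int.ofNat 0],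
  [Int.negSucc 0, Int.ofNat 1, Int.ofNat 1, Int.ofNat 1, Int.negSucc 2, Int.ofNat 1, Int.ofNat 1, Int.ofNat 1, Int.negSucc 0, Int.ofNat 1, Int.negSucc 0, Int.ofNat 1, Int.ofNat 1, Int.negSucc 0, Int.ofNat 1, Int.ofNat 1, Int.negSucc 0, Int.negSucc 0, Int.ofNat 1, Int.negSucc 0, Int.ofNat 1, Int.ofNat 1, Int.negSucc 0, Int.ofNat 1],
  [Int.negSucc 0, Int.ofNat 1, Int.negSucc 2, Int.ofNat 1, Int.ofNat 1, Int.ofNat 1, Int.ofNat 1, Int.negSucc 0, Int.ofNat 1, Int.negSucc 0, Int.ofNat 1, Int.negSucc 0, Int.ofNat 1, Int.negSucc 0, Int.negSucc 0, Int.ofNat 1, Int.negSucc 0, Int.ofNat 1, Int.ofNat 1, Int.ofNat 1, Int.ofNat 1, Int.ofNat 1, Int.negSucc 0, Int.ofNat 1],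
  [Int.ofNat 0, Int.negSucc 1, Int.ofNat 2, Int.ofNat 0, Int.ofNat 2, Int.ofNat 0, Int.ofNat 0, Int.negSucc 1, Int.ofNat 0, Int.negSucc 1, Int.ofNat 0, Int.negSucc 1, Int.ofNat 0, Int.ofNat 0, Int.negSucc 1, Int.ofNat 0, Int.ofNat 0, Int.ofNat 0, Int.ofNat 0, Int.ofNat 0, Int.ofNat 0, Int.ofNat 0, Int.ofNat 0, Int.negSucc 1],
  [Int.ofNat 0, Int.negSucc 1, Int.negSucc 1, Int.ofNat 0, Int.ofNat 2, Int.ofNat 0, Int.ofNat 0, Int.negSucc 1, Int.ofNat 0, Int.ofNat 2, Int.ofNat 0, Int.negSucc 1, Int.ofNat 0, Int.ofNat 0, Int.negSucc 1, Int.ofNat 0, Int.ofNat 0, Int.ofNat 0, Int.ofNat 0, Int.ofNat 0, Int.ofNat 0, Int.ofNat 0, Int.ofNat 0, Int.negSucc 1],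
  [Int.ofNat 0, Int.ofNat 0, Int.negSucc 1, Int.ofNat 0, Int.ofNat 0, Int.ofNat 0, Int.ofNat 0, Int.ofNat 2, Int.ofNat 0, Int.ofNat 0, Int.negSucc 1, Int.negSucc 1, Int.negSucc 1, Int.ofNat 0, Int.ofNat 0, Int.ofNat 0, Int.ofNat 0, Int.ofNat 0, Int.ofNat 0, Int.ofNat 2, Int.negSucc 1, Int.ofNat 0, Int.ofNat 0, Int.negSucc 1],
  [Int.ofNat 0, Int.ofNat 0, Int.ofNat 2, Int.ofNat 0, Int.ofNat 0, Int.ofNat 0, Int.ofNat 0, Int.ofNat 2, Int.ofNat 0, Int.ofNat 0, Int.ofNat 2, Int.negSucc 1, Int.negSucc 1, Int.ofNat 0, Int.ofNat 0, Int.ofNat 0, Int.ofNat 0, Int.ofNat 0, Int.ofNat 0, Int.ofNat 2, Int.negSucc 1, Int.ofNat 0, Int.ofNat 0, Int.negSucc 1],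
  [Int.ofNat 0, Int.ofNat 0, Int.negSucc 1, Int.ofNat 0, Int.ofNat 0, Int.ofNat 0, Int.negSucc 1, Int.ofNat 0, Int.ofNat 2, Int.ofNat 0, Int.ofNat 2, Int.ofNat 0, Int.ofNat 0, Int.ofNat 0, Int.ofNat 0, Int.ofNat 0, Int.ofNat 0, Int.ofNat 0, Int.ofNat 2, Int.ofNat 0, Int.negSucc 1, Int.negSucc 1, Int.ofNat 0, Int.ofNat 2],
  [Int.ofNat 0, Int.ofNat 2, Int.negSucc 1, Int.ofNat 0, Int.negSucc 1, Int.negSucc 1, Int.ofNat 0, Int.ofNat 0, Int.ofNat 0, Int.ofNat 0, Int.ofNat 0, Int.ofNat 0, Int.ofNat 2, Int.ofNat 0, Int.ofNat 0, Int.ofNat 0, Int.ofNat 0, Int.ofNat 0, Int.ofNat 0, Int.ofNat 0, Int.ofNat 2, Int.negSucc 1, Int.ofNat 0, Int.ofNat 2],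
  [Int.ofNat 1, Int.negSucc 0, Int.ofNat 3, Int.ofNat 1, Int.negSucc 0, Int.negSucc 0, Int.ofNat 1, Int.ofNat 1, Int.negSucc 0, Int.negSucc 0, Int.negSucc 0, Int.negSucc 0, Int.ofNat 1, Int.ofNat 1, Int.ofNat 1, Int.negSucc 0, Int.ofNat 1, Int.ofNat 1, Int.negSucc 0, Int.ofNat 1, Int.ofNat 1, Int.negSucc 0, Int.ofNat 1, Int.negSucc 0],
  [Int.ofNat 1, Int.negSucc 0, Int.ofNat 1, Int.ofNat 1, Int.negSucc 0, Int.ofNat 3, Int.ofNat 1, Int.negSucc 0, Int.negSucc 0, Int.ofNat 1, Int.ofNat 1, Int.negSucc 0, Int.negSucc 0, Int.negSucc 0, Int.negSucc 0, Int.ofNat 1, Int.ofNat 1, Int.ofNat 1, Int.negSucc 0, Int.ofNat 1, Int.ofNat 1, Int.negSucc 0, Int.ofNat 1, Int.negSucc 0],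
  [Int.negSucc 0, Int.ofNat 1, Int.negSucc 0, Int.negSucc 0, Int.negSucc 0, Int.ofNat 1, Int.ofNat 1, Int.negSucc 0, Int.ofNat 1, Int.negSucc 0, Int.negSucc 0, Int.ofNat 1, Int.ofNat 1, Int.negSucc 0, Int.negSucc 2, Int.negSucc 0, Int.ofNat 1, Int.negSucc 0, Int.ofNat 1, Int.ofNat 1, Int.negSucc 0, Int.negSucc 0, Int.ofNat 1, Int.ofNat 1],
  [Int.ofNat 1, Int.negSucc 0, Int.negSucc 0, Int.negSucc 0, Int.ofNat 1, Int.ofNat 1, Int.negSucc 0, Int.ofNat 1, Int.negSucc 0, Int.negSucc 0, Int.ofNat 1, Int.ofNat 1, Int.negSucc 0, Int.negSucc 2, Int.negSucc 0, Int.ofNat 1, Int.negSucc 0, Int.ofNat 1, Int.ofNat 1, Int.negSucc 0, Int.negSucc 0, Int.ofNat 1, Int.negSucc 0, Int.ofNat 1],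
  [Int.negSucc 0, Int.negSucc 0, Int.ofNat 1, Int.negSucc 0, Int.ofNat 1, Int.ofNat 1, Int.negSucc 0, Int.negSucc 0, Int.negSucc 0, Int.ofNat 1, Int.negSucc 0, Int.negSucc 0, Int.negSucc 0, Int.negSucc 2, Int.negSucc 0, Int.ofNat 1, Int.negSucc 0, Int.ofNat 1, Int.negSucc 0, Int.negSucc 0, Int.negSucc 0, Int.negSucc 0, Int.negSucc 0, Int.ofNat 1],
  [Int.negSucc 0, Int.ofNat 1, Int.negSucc 0, Int.negSucc 0, Int.negSucc 0, Int.negSucc 0, Int.ofNat 1, Int.negSucc 0, Int.ofNat 1, Int.negSucc 0, Int.negSucc 0, Int.negSucc 0, Int.negSucc 2, Int.negSucc 0, Int.negSucc 0, Int.ofNat 1, Int.negSucc 0, Int.negSucc 0, Int.negSucc 0, Int.ofNat 1, Int.ofNat 1, Int.negSucc 0, Int.negSucc 0, Int.ofNat 1],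
  [Int.ofNat 1, Int.ofNat 1, Int.ofNat 1, Int.negSucc 0, Int.negSucc 0, Int.negSucc 0, Int.ofNat 1, Int.ofNat 1, Int.ofNat 1, Int.ofNat 1, Int.ofNat 1, Int.ofNat 1, Int.negSucc 2, Int.negSucc 0, Int.negSucc 0, Int.ofNat 1, Int.negSucc 0, Int.negSucc 0, Int.ofNat 1, Int.ofNat 1, Int.ofNat 1, Int.ofNat 1, Int.negSucc 0, Int.ofNat 1],
  [Int.negSucc 0, Int.ofNat 1, Int.ofNat 1, Int.ofNat 1, Int.negSucc 0, Int.negSucc 0, Int.negSucc 0, Int.ofNat 1, Int.ofNat 1, Int.ofNat 1, Int.ofNat 1, Int.ofNat 1, Int.ofNat 1, Int.negSucc 2, Int.negSucc 0, Int.negSucc 0, Int.ofNat 1, Int.negSucc 0, Int.negSucc 0, Int.ofNat 1, Int.ofNat 1, Int.ofNat 1, Int.ofNat 1, Int.ofNat 1],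
  [Int.ofNat 2, Int.ofNat 0, Int.ofNat 0, Int.ofNat 2, Int.ofNat 0, Int.ofNat 0, Int.negSucc 1, Int.ofNat 0, Int.ofNat 0, Int.ofNat 0, Int.ofNat 0, Int.ofNat 0, Int.ofNat 0, Int.negSucc 1, Int.ofNat 0, Int.negSucc 1, Int.ofNat 2, Int.ofNat 0, Int.negSucc 1, Int.ofNat 0, Int.ofNat 0, Int.ofNat 0, Int.ofNat 2, Int.ofNat 0],
  [Int.ofNat 2, Int.ofNat 0, Int.ofNat 0, Int.negSucc 1, Int.ofNat 0, Int.ofNat 0, Int.ofNat 0, Int.ofNat 0, Int.ofNat 0, Int.ofNat 0, Int.negSucc 1, Int.ofNat 0, Int.negSucc 1, Int.ofNat 2, Int.ofNat 0, Int.negSucc 1, Int.ofNat 0, Int.ofNat 0, Int.ofNat 0, Int.ofNat 2, Int.ofNat 2, Int.ofNat 0, Int.ofNat 0, Int.ofNat 0],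
  [Int.negSucc 0, Int.ofNat 1, Int.ofNat 1, Int.negSucc 0, Int.negSucc 0, Int.ofNat 1, Int.negSucc 0, Int.negSucc 0, Int.ofNat 1, Int.ofNat 1, Int.negSucc 0, Int.ofNat 1, Int.negSucc 0, Int.ofNat 1, Int.ofNat 1, Int.negSucc 0, Int.negSucc 0, Int.ofNat 1, Int.ofNat 1, Int.ofNat 1, Int.ofNat 3, Int.negSucc 0, Int.negSucc 0, Int.ofNat 1],
  [Int.negSucc 0, Int.negSucc 0, Int.negSucc 0, Int.negSucc 0, Int.ofNat 1, Int.negSucc 0, Int.ofNat 1, Int.negSucc 0, Int.negSucc 0, Int.ofNat 1, Int.ofNat 3, Int.ofNat 1, Int.ofNat 1, Int.negSucc 0, Int.negSucc 0, Int.negSucc 0, Int.ofNat 1, Int.ofNat 1, Int.ofNat 1, Int.ofNat 1, Int.negSucc 0, Int.ofNat 1, Int.ofNat 1, Int.ofNat 1],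
  [Int.ofNat 0, Int.ofNat 0, Int.ofNat 0, Int.ofNat 0, Int.ofNat 0, Int.ofNat 0, Int.ofNat 0, Int.negSucc 1, Int.negSucc 1, Int.ofNat 0, Int.ofNat 2, Int.ofNat 0, Int.ofNat 0, Int.negSucc 1, Int.ofNat 0, Int.negSucc 1, Int.ofNat 0, Int.ofNat 2, Int.ofNat 0, Int.ofNat 0, Int.negSucc 1, Int.ofNat 0, Int.ofNat 0, Int.negSucc 1],
  [Int.ofNat 0, Int.ofNat 0, Int.ofNat 0, Int.ofNat 0, Int.ofNat 0, Int.ofNat 0, Int.ofNat 0, Int.negSucc 1, Int.negSucc 1, Int.ofNat 0, Int.negSucc 1, Int.ofNat 0, Int.ofNat 0, Int.negSucc 1, Int.ofNat 0, Int.ofNat 2, Int.ofNat 0, Int.ofNat 2, Int.ofNat 0, Int.ofNat 0, Int.negSucc 1, Int.ofNat 0, Int.ofNat 0, Int.negSucc 1],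
  [Int.negSucc 1, Int.ofNat 0, Int.ofNat 0, Int.negSucc 1, Int.ofNat 0, Int.ofNat 0, Int.ofNat 0, Int.ofNat 0, Int.ofNat 0, Int.negSucc 1, Int.negSucc 1, Int.negSucc 1, Int.ofNat 2, Int.ofNat 0, Int.ofNat 2, Int.ofNat 0, Int.ofNat 0, Int.ofNat 0, Int.ofNat 0, Int.ofNat 0, Int.ofNat 0, Int.ofNat 0, Int.ofNat 0, Int.negSucc 1],
  [Int.ofNat 2, Int.ofNat 0, Int.ofNat 0, Int.ofNat 2, Int.ofNat 0, Int.ofNat 0, Int.ofNat 0, Int.ofNat 0, Int.ofNat 0, Int.ofNat 2, Int.negSucc 1, Int.negSucc 1, Int.negSucc 1, Int.ofNat 0, Int.ofNat 2, Int.ofNat 0, Int.ofNat 0, Int.ofNat 0, Int.ofNat 0, Int.ofNat 0, Int.ofNat 0, Int.ofNat 0, Int.ofNat 0, Int.negSucc 1],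
  [Int.negSucc 1, Int.ofNat 0, Int.negSucc 1, Int.ofNat 0, Int.ofNat 0, Int.ofNat 2, Int.ofNat 0, Int.ofNat 0, Int.ofNat 0, Int.ofNat 0, Int.ofNat 0, Int.ofNat 0, Int.ofNat 0, Int.ofNat 0, Int.ofNat 0, Int.ofNat 2, Int.negSucc 1, Int.ofNat 0, Int.ofNat 2, Int.ofNat 0, Int.ofNat 0, Int.negSucc 1, Int.ofNat 0, Int.ofNat 2],
  [Int.ofNat 2, Int.ofNat 0, Int.ofNat 2, Int.ofNat 0, Int.ofNat 0, Int.ofNat 2, Int.ofNat 0, Int.ofNat 0, Int.ofNat 0, Int.ofNat 0, Int.ofNat 0, Int.ofNat 0, Int.ofNat 0, Int.ofNat 0, Int.ofNat 0, Int.ofNat 2, Int.negSucc 1, Int.ofNat 0, Int.negSucc 1, Int.ofNat 0, Int.ofNat 0, Int.ofNat 2, Int.ofNat 0, Int.ofNat 2],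
  [Int.ofNat 0, Int.ofNat 2, Int.ofNat 0, Int.ofNat 2, Int.ofNat 0, Int.ofNat 0, Int.ofNat 2, Int.ofNat 0, Int.ofNat 0, Int.ofNat 0, Int.ofNat 0, Int.ofNat 0, Int.ofNat 0, Int.ofNat 0, Int.ofNat 0, Int.ofNat 0, Int.ofNat 2, Int.negSucc 1, Int.ofNat 0, Int.negSucc 1, Int.ofNat 0, Int.ofNat 0, Int.ofNat 2, Int.ofNat 2],
  [Int.ofNat 2, Int.ofNat 0, Int.ofNat 2, Int.ofNat 2, Int.negSucc 1, Int.ofNat 0, Int.ofNat 2, Int.ofNat 0, Int.ofNat 0, Int.ofNat 0, Int.ofNat 0, Int.ofNat 0, Int.ofNat 0, Int.negSucc 1, Int.ofNat 0, Int.ofNat 0, Int.ofNat 0, Int.negSucc 1, Int.ofNat 0, Int.negSucc 1, Int.ofNat 0, Int.ofNat 0, Int.ofNat 0, Int.ofNat 0],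
  [Int.ofNat 2, Int.negSucc 1, Int.ofNat 0, Int.ofNat 2, Int.ofNat 0, Int.ofNat 0, Int.ofNat 0, Int.ofNat 0, Int.ofNat 0, Int.ofNat 0, Int.negSucc 1, Int.ofNat 0, Int.ofNat 0, Int.ofNat 0, Int.negSucc 1, Int.ofNat 0, Int.negSucc 1, Int.ofNat 0, Int.ofNat 0, Int.ofNat 0, Int.ofNat 2, Int.ofNat 0, Int.ofNat 2, Int.ofNat 0],
  [Int.negSucc 1, Int.ofNat 2, Int.ofNat 0, Int.ofNat 2, Int.ofNat 0, Int.ofNat 0, Int.ofNat 0, Int.ofNat 0, Int.ofNat 0, Int.ofNat 0, Int.negSucc 1, Int.ofNat 0, Int.ofNat 0, Int.ofNat 0, Int.negSucc 1, Int.ofNat 0, Int.negSucc 1, Int.ofNat 0, Int.ofNat 0, Int.ofNat 0, Int.ofNat 2, Int.ofNat 0, Int.ofNat 2, Int.ofNat 0],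
  [Int.negSucc 1, Int.ofNat 0, Int.ofNat 0, Int.ofNat 2, Int.ofNat 0, Int.ofNat 0, Int.ofNat 0, Int.negSucc 1, Int.ofNat 0, Int.ofNat 0, Int.ofNat 2, Int.ofNat 0, Int.ofNat 0, Int.negSucc 1, Int.ofNat 2, Int.ofNat 0, Int.ofNat 0, Int.negSucc 1, Int.ofNat 2, Int.ofNat 0, Int.ofNat 0, Int.ofNat 0, Int.ofNat 0, Int.ofNat 0],
  [Int.ofNat 1, Int.negSucc 0, Int.negSucc 0, Int.ofNat 1, Int.ofNat 1, Int.negSucc 0, Int.ofNat 1, Int.negSucc 0, Int.negSucc 0, Int.negSucc 0, Int.ofNat 1, Int.negSucc 0, Int.negSucc 0, Int.negSucc 0, Int.ofNat 1, Int.negSucc 0, Int.ofNat 1, Int.negSucc 2, Int.ofNat 1, Int.ofNat 1, Int.negSucc 0, Int.ofNat 1, Int.ofNat 1, Int.negSucc 0],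
  [Int.ofNat 1, Int.negSucc 0, Int.ofNat 1, Int.ofNat 1, Int.ofNat 1, Int.ofNat 1, Int.negSucc 0, Int.negSucc 0, Int.negSucc 0, Int.ofNat 1, Int.negSucc 0, Int.negSucc 0, Int.negSucc 0, Int.negSucc 0, Int.ofNat 1, Int.ofNat 1, Int.ofNat 1, Int.negSucc 2, Int.negSucc 0, Int.ofNat 1, Int.negSucc 0, Int.ofNat 1, Int.negSucc 0, Int.negSucc 0],
  [Int.negSucc 0, Int.negSucc 0, Int.negSucc 0, Int.negSucc 0, Int.negSucc 0, Int.negSucc 0, Int.ofNat 1, Int.ofNat 1, Int.negSucc 0, Int.ofNat 1, Int.negSucc 0, Int.ofNat 1, Int.ofNat 1, Int.ofNat 1, Int.ofNat 1, Int.negSucc 2, Int.negSucc 0, Int.ofNat 1, Int.negSucc 0, Int.ofNat 1, Int.negSucc 0, Int.ofNat 1, Int.ofNat 1, Int.negSucc 0],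
  [Int.negSucc 0, Int.negSucc 0, Int.ofNat 1, Int.negSucc 0, Int.negSucc 0, Int.ofNat 1, Int.negSucc 0, Int.ofNat 1, Int.negSucc 0, Int.negSucc 0, Int.ofNat 1, Int.ofNat 1, Int.ofNat 1, Int.ofNat 1, Int.ofNat 1, Int.ofNat 3, Int.negSucc 0, Int.ofNat 1, Int.ofNat 1, Int.ofNat 1, Int.negSucc 0, Int.ofNat 1, Int.negSucc 0, Int.negSucc 0],
  [Int.ofNat 0, Int.ofNat 0, Int.negSucc 1, Int.negSucc 1, Int.ofNat 0, Int.ofNat 0, Int.negSucc 1, Int.ofNat 0, Int.negSucc 1, Int.negSucc 1, Int.ofNat 0, Int.ofNat 0, Int.ofNat 0, Int.ofNat 2, Int.ofNat 0, Int.ofNat 2, Int.ofNat 0, Int.ofNat 0, Int.ofNat 0, Int.ofNat 0, Int.negSucc 1, Int.ofNat 0, Int.ofNat 0, Int.ofNat 0],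
  [Int.ofNat 0, Int.ofNat 0, Int.negSucc 1, Int.negSucc 1, Int.negSucc 1, Int.ofNat 0, Int.ofNat 0, Int.ofNat 0, Int.ofNat 0, Int.ofNat 0, Int.ofNat 0, Int.ofNat 0, Int.negSucc 1, Int.negSucc 1, Int.ofNat 0, Int.ofNat 2, Int.ofNat 2, Int.ofNat 0, Int.ofNat 0, Int.ofNat 0, Int.ofNat 0, Int.negSucc 1, Int.ofNat 0, Int.ofNat 0],
  [Int.negSucc 0, Int.negSucc 0, Int.ofNat 1, Int.negSucc 0, Int.negSucc 0, Int.ofNat 1, Int.ofNat 1, Int.ofNat 1, Int.ofNat 1, Int.negSucc 0, Int.negSucc 0, Int.ofNat 1, Int.negSucc 0, Int.negSucc 0, Int.ofNat 1, Int.ofNat 1, Int.ofNat 3, Int.ofNat 1, Int.ofNat 1, Int.ofNat 1, Int.negSucc 0, Int.negSucc 0, Int.ofNat 1, Int.negSucc 0],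
  [Int.negSucc 0, Int.negSucc 0, Int.ofNat 1, Int.negSucc 0, Int.negSucc 0, Int.ofNat 1, Int.negSucc 0, Int.negSucc 0, Int.ofNat 1, Int.ofNat 1, Int.ofNat 1, Int.ofNat 1, Int.negSucc 0, Int.negSucc 0, Int.ofNat 1, Int.negSucc 0, Int.negSucc 0, Int.ofNat 1, Int.ofNat 1, Int.ofNat 3, Int.ofNat 1, Int.ofNat 1, Int.ofNat 1, Int.negSucc 0],
  [Int.ofNat 0, Int.ofNat 0, Int.negSucc 1, Int.negSucc 1, Int.ofNat 0, Int.ofNat 0, Int.negSucc 1, Int.negSucc 1, Int.ofNat 0, Int.ofNat 0, Int.ofNat 0, Int.ofNat 0, Int.negSucc 1, Int.ofNat 0, Int.ofNat 0, Int.negSucc 1, Int.ofNat 0, Int.ofNat 0, Int.ofNat 0, Int.ofNat 2, Int.ofNat 0, Int.ofNat 0, Int.ofNat 2, Int.ofNat 0],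
  [Int.ofNat 0, Int.negSucc 1, Int.negSucc 1, Int.ofNat 0, Int.ofNat 0, Int.negSucc 1, Int.negSucc 1, Int.ofNat 0, Int.ofNat 0, Int.ofNat 0, Int.ofNat 0, Int.negSucc 1, Int.ofNat 0, Int.ofNat 0, Int.negSucc 1, Int.ofNat 0, Int.ofNat 0, Int.ofNat 0, Int.ofNat 2, Int.ofNat 0, Int.ofNat 0, Int.ofNat 2, Int.ofNat 0, Int.ofNat 0],
  [Int.ofNat 0, Int.negSucc 1, Int.ofNat 2, Int.ofNat 0, Int.ofNat 0, Int.negSucc 1, Int.negSucc 1, Int.ofNat 0, Int.ofNat 0, Int.ofNat 0, Int.ofNat 0, Int.ofNat 2, Int.ofNat 0, Int.ofNat 0, Int.negSucc 1, Int.ofNat 0, Int.ofNat 0, Int.ofNat 0, Int.negSucc 1, Int.ofNat 0, Int.ofNat 0, Int.negSucc 1, Int.ofNat 0, Int.ofNat 0],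
  [Int.ofNat 0, Int.ofNat 2, Int.negSucc 1, Int.ofNat 0, Int.negSucc 1, Int.ofNat 0, Int.ofNat 0, Int.ofNat 0, Int.ofNat 0, Int.ofNat 0, Int.negSucc 1, Int.negSucc 1, Int.ofNat 0, Int.ofNat 0, Int.ofNat 0, Int.ofNat 0, Int.ofNat 0, Int.ofNat 0, Int.negSucc 1, Int.ofNat 0, Int.negSucc 1, Int.ofNat 0, Int.ofNat 2, Int.ofNat 0],
  [Int.ofNat 0, Int.ofNat 2, Int.ofNat 2, Int.ofNat 0, Int.negSucc 1, Int.ofNat 0, Int.ofNat 0, Int.ofNat 0, Int.ofNat 0, Int.ofNat 0, Int.ofNat 2, Int.ofNat 2, Int.ofNat 0, Int.ofNat 0, Int.ofNat 0, Int.ofNat 0, Int.ofNat 0, Int.ofNat 0, Int.ofNat 2, Int.ofNat 0, Int.negSucc 1, Int.ofNat 0, Int.ofNat 2, Int.ofNat 0],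
  [Int.ofNat 2, Int.ofNat 0, Int.ofNat 2, Int.ofNat 2, Int.ofNat 0, Int.negSucc 1, Int.ofNat 0, Int.ofNat 0, Int.ofNat 0, Int.ofNat 0, Int.ofNat 0, Int.ofNat 2, Int.ofNat 2, Int.ofNat 0, Int.ofNat 0, Int.ofNat 0, Int.ofNat 0, Int.ofNat 0, Int.ofNat 0, Int.ofNat 2, Int.ofNat 0, Int.negSucc 1, Int.ofNat 0, Int.ofNat 0],
  [Int.ofNat 0, Int.ofNat 2, Int.ofNat 0, Int.ofNat 2, Int.ofNat 0, Int.negSucc 1, Int.ofNat 0, Int.ofNat 0, Int.negSucc 1, Int.ofNat 0, Int.ofNat 0, Int.ofNat 0, Int.ofNat 0, Int.ofNat 0, Int.ofNat 0, Int.ofNat 0, Int.ofNat 0, Int.ofNat 0, Int.negSucc 1, Int.ofNat 2, Int.ofNat 0, Int.negSucc 1, Int.ofNat 0, Int.ofNat 2],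
  [Int.ofNat 2, Int.ofNat 0, Int.negSucc 1, Int.ofNat 0, Int.ofNat 0, Int.negSucc 1, Int.ofNat 0, Int.ofNat 0, Int.ofNat 0, Int.ofNat 0, Int.ofNat 0, Int.ofNat 0, Int.ofNat 0, Int.ofNat 0, Int.ofNat 0, Int.negSucc 1, Int.ofNat 2, Int.ofNat 0, Int.negSucc 1, Int.ofNat 0, Int.ofNat 0, Int.ofNat 2, Int.ofNat 0, Int.ofNat 2],
  [Int.negSucc 0, Int.ofNat 1, Int.ofNat 3, Int.ofNat 1, Int.negSucc 0, Int.negSucc 0, Int.negSucc 0, Int.negSucc 0, Int.ofNat 1, Int.ofNat 1, Int.ofNat 1, Int.ofNat 1, Int.ofNat 1, Int.negSucc 0, Int.ofNat 1, Int.negSucc 0, Int.ofNat 1, Int.ofNat 1, Int.negSucc 0, Int.negSucc 0, Int.ofNat 1, Int.ofNat 1, Int.negSucc 0, Int.negSucc 0],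
  [Int.negSucc 0, Int.negSucc 0, Int.negSucc 0, Int.ofNat 1, Int.negSucc 0, Int.negSucc 0, Int.ofNat 3, Int.ofNat 1, Int.ofNat 1, Int.negSucc 0, Int.ofNat 1, Int.ofNat 1, Int.ofNat 1, Int.ofNat 1, Int.negSucc 0, Int.negSucc 0, Int.ofNat 1, Int.ofNat 1, Int.ofNat 1, Int.ofNat 1, Int.ofNat 1, Int.negSucc 0, Int.negSucc 0, Int.negSucc 0],
  [Int.negSucc 0, Int.negSucc 0, Int.negSucc 0, Int.ofNat 1, Int.negSucc 0, Int.negSucc 0, Int.ofNat 1, Int.negSucc 0, Int.negSucc 0, Int.negSucc 0, Int.ofNat 1, Int.negSucc 0, Int.negSucc 0, Int.ofNat 1, Int.negSucc 0, Int.negSucc 0, Int.ofNat 1, Int.ofNat 1, Int.negSucc 0, Int.negSucc 0, Int.ofNat 1, Int.negSucc 2, Int.negSucc 0, Int.negSucc 0],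
  [Int.negSucc 0, Int.negSucc 0, Int.ofNat 1, Int.ofNat 1, Int.negSucc 0, Int.ofNat 1, Int.negSucc 0, Int.negSucc 0, Int.negSucc 0, Int.ofNat 1, Int.negSucc 0, Int.negSucc 0, Int.negSucc 0, Int.ofNat 1, Int.negSucc 0, Int.ofNat 1, Int.ofNat 1, Int.ofNat 1, Int.ofNat 1, Int.negSucc 0, Int.ofNat 1, Int.negSucc 2, Int.ofNat 1, Int.negSucc 0],
  [Int.negSucc 0, Int.ofNat 1, Int.negSucc 0, Int.negSucc 0, Int.negSucc 0, Int.negSucc 0, Int.negSucc 2, Int.ofNat 1, Int.ofNat 1, Int.ofNat 1, Int.ofNat 1, Int.negSucc 0, Int.ofNat 1, Int.negSucc 0, Int.ofNat 1, Int.ofNat 1, Int.negSucc 0, Int.negSucc 0, Int.ofNat 1, Int.ofNat 1, Int.negSucc 0, Int.negSucc 0, Int.ofNat 1, Int.negSucc 0],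
  [Int.ofNat 1, Int.negSucc 0, Int.ofNat 1, Int.ofNat 1, Int.ofNat 1, Int.negSucc 0, Int.ofNat 3, Int.ofNat 1, Int.negSucc 0, Int.negSucc 0, Int.ofNat 1, Int.negSucc 0, Int.negSucc 0, Int.ofNat 1, Int.ofNat 1, Int.ofNat 1, Int.ofNat 1, Int.negSucc 0, Int.negSucc 0, Int.ofNat 1, Int.negSucc 0, Int.negSucc 0, Int.ofNat 1, Int.negSucc 0],
  [Int.negSucc 0, Int.ofNat 1, Int.negSucc 0, Int.ofNat 1, Int.negSucc 0, Int.negSucc 0, Int.ofNat 1, Int.ofNat 1, Int.negSucc 0, Int.negSucc 0, Int.ofNat 1, Int.ofNat 1, Int.negSucc 0, Int.ofNat 1, Int.negSucc 0, Int.ofNat 1, Int.ofNat 1, Int.ofNat 1, Int.ofNat 1, Int.ofNat 3, Int.negSucc 0, Int.negSucc 0, Int.negSucc 0, Int.ofNat 1],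
  [Int.ofNat 1, Int.ofNat 1, Int.ofNat 1, Int.ofNat 1, Int.negSucc 0, Int.negSucc 0, Int.ofNat 1, Int.negSucc 0, Int.negSucc 0, Int.ofNat 1, Int.negSucc 0, Int.negSucc 0, Int.negSucc 0, Int.ofNat 1, Int.negSucc 0, Int.ofNat 1, Int.ofNat 1, Int.ofNat 1, Int.negSucc 0, Int.ofNat 3, Int.negSucc 0, Int.ofNat 1, Int.negSucc 0, Int.ofNat 1],
  [Int.negSucc 0, Int.ofNat 1, Int.ofNat 1, Int.ofNat 1, Int.ofNat 1, Int.negSucc 0, Int.negSucc 0, Int.ofNat 1, Int.negSucc 0, Int.negSucc 0, Int.ofNat 1, Int.negSucc 0, Int.negSucc 0, Int.negSucc 0, Int.ofNat 1, Int.negSucc 0, Int.ofNat 1, Int.ofNat 1, Int.ofNat 1, Int.negSucc 0, Int.ofNat 3, Int.negSucc 0, Int.ofNat 1, Int.ofNat 1],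
  [Int.ofNat 2, Int.ofNat 0, Int.ofNat 0, Int.ofNat 0, Int.ofNat 0, Int.negSucc 1, Int.ofNat 0, Int.ofNat 2, Int.ofNat 0, Int.negSucc 1, Int.ofNat 0, Int.ofNat 0, Int.ofNat 0, Int.negSucc 1, Int.ofNat 0, Int.negSucc 1, Int.ofNat 0, Int.ofNat 0, Int.ofNat 2, Int.ofNat 0, Int.ofNat 2, Int.ofNat 0, Int.ofNat 0, Int.ofNat 0],
  [Int.ofNat 0, Int.ofNat 0, Int.negSucc 1, Int.ofNat 0, Int.ofNat 2, Int.ofNat 0, Int.negSucc 1, Int.ofNat 0, Int.ofNat 0, Int.ofNat 0, Int.negSucc 1, Int.ofNat 0, Int.negSucc 1, Int.ofNat 0, Int.ofNat 0, Int.ofNat 2, Int.ofNat 0, Int.ofNat 2, Int.ofNat 0, Int.ofNat 0, Int.ofNat 2, Int.ofNat 0, Int.ofNat 0, Int.ofNat 0],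
  [Int.negSucc 0, Int.negSucc 0, Int.ofNat 1, Int.negSucc 0, Int.ofNat 1, Int.negSucc 0, Int.negSucc 0, Int.ofNat 1, Int.ofNat 1, Int.negSucc 0, Int.negSucc 2, Int.ofNat 1, Int.negSucc 0, Int.negSucc 0, Int.negSucc 0, Int.ofNat 1, Int.negSucc 0, Int.ofNat 1, Int.ofNat 1, Int.ofNat 1, Int.ofNat 1, Int.ofNat 1, Int.negSucc 0, Int.negSucc 0],
  [Int.negSucc 0, Int.negSucc 0, Int.ofNat 1, Int.negSucc 0, Int.ofNat 1, Int.ofNat 1, Int.ofNat 1, Int.negSucc 2, Int.negSucc 0, Int.negSucc 0, Int.ofNat 1, Int.ofNat 1, Int.negSucc 0, Int.negSucc 0, Int.negSucc 0, Int.ofNat 1, Int.ofNat 1, Int.negSucc 0, Int.negSucc 0, Int.ofNat 1, Int.ofNat 1, Int.negSucc 0, Int.ofNat 1, Int.negSucc 0],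
  [Int.ofNat 0, Int.ofNat 0, Int.negSucc 1, Int.ofNat 0, Int.ofNat 0, Int.ofNat 2, Int.ofNat 2, Int.negSucc 1, Int.ofNat 0, Int.negSucc 1, Int.ofNat 0, Int.ofNat 2, Int.ofNat 0, Int.negSucc 1, Int.ofNat 0, Int.ofNat 0, Int.ofNat 0, Int.ofNat 0, Int.ofNat 0, Int.ofNat 2, Int.ofNat 0, Int.ofNat 0, Int.ofNat 0, Int.ofNat 0],
  [Int.ofNat 0, Int.ofNat 0, Int.ofNat 2, Int.ofNat 0, Int.ofNat 0, Int.negSucc 1, Int.negSucc 1, Int.negSucc 1, Int.ofNat 0, Int.ofNat 2, Int.ofNat 0, Int.ofNat 2, Int.ofNat 0, Int.negSucc 1, Int.ofNat 0, Int.ofNat 0, Int.ofNat 0, Int.ofNat 0, Int.ofNat 0, Int.ofNat 2, Int.ofNat 0, Int.ofNat 0, Int.ofNat 0, Int.ofNat 0],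
  [Int.ofNat 0, Int.ofNat 0, Int.ofNat 0, Int.ofNat 0, Int.ofNat 0, Int.negSucc 1, Int.ofNat 0, Int.ofNat 0, Int.negSucc 1, Int.ofNat 0, Int.ofNat 2, Int.ofNat 0, Int.ofNat 2, Int.ofNat 0, Int.ofNat 0, Int.ofNat 0, Int.ofNat 0, Int.ofNat 2, Int.ofNat 0, Int.ofNat 2, Int.negSucc 1, Int.negSucc 1, Int.ofNat 0, Int.ofNat 0],
  [Int.ofNat 0, Int.ofNat 0, Int.ofNat 0, Int.ofNat 0, Int.ofNat 0, Int.ofNat 2, Int.ofNat 0, Int.ofNat 0, Int.negSucc 1, Int.ofNat 0, Int.negSucc 1, Int.ofNat 0, Int.ofNat 2, Int.ofNat 0, Int.ofNat 0, Int.ofNat 0, Int.ofNat 0, Int.ofNat 2, Int.ofNat 0, Int.ofNat 2, Int.negSucc 1, Int.negSucc 1, Int.ofNat 0, Int.ofNat 0],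
  [Int.ofNat 0, Int.ofNat 0, Int.ofNat 0, Int.negSucc 1, Int.ofNat 0, Int.ofNat 0, Int.ofNat 0, Int.ofNat 0, Int.negSucc 1, Int.ofNat 2, Int.ofNat 0, Int.ofNat 0, Int.ofNat 2, Int.ofNat 0, Int.negSucc 1, Int.ofNat 2, Int.ofNat 0, Int.ofNat 0, Int.ofNat 0, Int.ofNat 2, Int.ofNat 0, Int.negSucc 1, Int.ofNat 0, Int.ofNat 0],
  [Int.ofNat 0, Int.ofNat 0, Int.ofNat 0, Int.negSucc 1, Int.ofNat 0, Int.negSucc 1, Int.ofNat 0, Int.ofNat 0, Int.ofNat 0, Int.ofNat 2, Int.ofNat 0, Int.ofNat 2, Int.negSucc 1, Int.ofNat 2, Int.ofNat 0, Int.ofNat 2, Int.ofNat 0, Int.ofNat 0, Int.ofNat 0, Int.ofNat 0, Int.ofNat 0, Int.ofNat 0, Int.negSucc 1, Int.ofNat 0],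
  [Int.ofNat 0, Int.ofNat 0, Int.ofNat 0, Int.ofNat 0, Int.ofNat 0, Int.ofNat 0, Int.ofNat 0, Int.ofNat 0, Int.ofNat 0, Int.ofNat 0, Int.negSucc 1, Int.ofNat 2, Int.negSucc 1, Int.ofNat 2, Int.ofNat 2, Int.ofNat 0, Int.ofNat 0, Int.ofNat 2, Int.ofNat 0, Int.ofNat 0, Int.negSucc 1, Int.ofNat 0, Int.negSucc 1, Int.ofNat 0],
  [Int.negSucc 1, Int.ofNat 0, Int.negSucc 1, Int.ofNat 0, Int.ofNat 0, Int.ofNat 0, Int.ofNat 0, Int.ofNat 0, Int.ofNat 0, Int.ofNat 0, Int.ofNat 0, Int.ofNat 0, Int.ofNat 0, Int.negSucc 1, Int.ofNat 2, Int.negSucc 1, Int.ofNat 2, Int.ofNat 2, Int.ofNat 0, Int.ofNat 0, Int.ofNat 2, Int.ofNat 0, Int.ofNat 0, Int.ofNat 0],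
  [Int.ofNat 0, Int.negSucc 1, Int.ofNat 0, Int.negSucc 1, Int.ofNat 0, Int.negSucc 1, Int.ofNat 0, Int.ofNat 0, Int.ofNat 0, Int.ofNat 0, Int.ofNat 0, Int.ofNat 0, Int.ofNat 0, Int.negSucc 1, Int.ofNat 0, Int.negSucc 1, Int.ofNat 2, Int.ofNat 0, Int.ofNat 0, Int.ofNat 0, Int.ofNat 2, Int.ofNat 0, Int.ofNat 0, Int.negSucc 1],
  [Int.negSucc 1, Int.ofNat 0, Int.negSucc 1, Int.ofNat 0, Int.negSucc 1, Int.ofNat 0, Int.ofNat 0, Int.ofNat 0, Int.ofNat 0, Int.ofNat 0, Int.ofNat 0, Int.ofNat 0, Int.negSucc 1, Int.ofNat 0, Int.negSucc 1, Int.ofNat 2, Int.ofNat 0, Int.ofNat 0, Int.ofNat 0, Int.ofNat 2, Int.ofNat 0, Int.ofNat 0, Int.ofNat 0, Int.negSucc 1],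
  [Int.ofNat 2, Int.ofNat 0, Int.ofNat 2, Int.ofNat 0, Int.negSucc 1, Int.ofNat 0, Int.ofNat 0, Int.ofNat 0, Int.ofNat 0, Int.ofNat 0, Int.ofNat 0, Int.ofNat 0, Int.negSucc 1, Int.ofNat 0, Int.negSucc 1, Int.ofNat 2, Int.ofNat 0, Int.ofNat 0, Int.ofNat 0, Int.ofNat 2, Int.ofNat 0, Int.ofNat 0, Int.ofNat 0, Int.negSucc 1]]

set_option maxRecDepth 100000 in
theorem c1et19_chk : pmChk (List.replicate 14 [19, 0, 25, 26]).flatten nxL c1et19M 0 0 = true := by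
  decide +kernel

theorem c1et19_ne : wE letE2 (List.replicate 14 [19, 0, 25, 26]).flatten ≠ 1 ∧ wE letE2 (List.replicate 14 [19, 0, 25, 26]).flatten ≠ negElt :=
  ne_pm_of_chk nxL_mem c1et19_chk

set_option maxRecDepth 100000 in
def c1et20M : List (List ℤ) :=
  [[Int.negSucc 3, Int.ofNat 0, Int.ofNat 0, Int.ofNat 0, Int.ofNat 0, Int.ofNat 0, Int.ofNat 0, Int.ofNat 0, Int.ofNat 0, Int.ofNat 0, Int.ofNat 0, Int.ofNat 0, Int.ofNat 0, Int.ofNat 0, Int.ofNat 0, Int.ofNat 0, Int.ofNat 0, Int.ofNat 0, Int.ofNat 0, Int.ofNat 0, Int.ofNat 0, Int.ofNat 0, Int.ofNat 0, Int.ofNat 4],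
  [Int.ofNat 4, Int.ofNat 0, Int.ofNat 0, Int.ofNat 0, Int.ofNat 0, Int.ofNat 0, Int.ofNat 0, Int.ofNat 0, Int.ofNat 0, Int.ofNat 0, Int.ofNat 0, Int.ofNat 0, Int.ofNat 0, Int.ofNat 0, Int.ofNat 0, Int.ofNat 0, Int.ofNat 0, Int.ofNat 0, Int.ofNat 0, Int.ofNat 0, Int.ofNat 0, Int.ofNat 0, Int.ofNat 0, Int.ofNat 4],
  [Int.ofNat 0, Int.ofNat 4, Int.ofNat 0, Int.ofNat 0, Int.ofNat 0, Int.ofNat 0, Int.ofNat 0, Int.ofNat 0, Int.ofNat 0, Int.ofNat 0, Int.ofNat 0, Int.ofNat 0, Int.ofNat 0, Int.ofNat 0, Int.ofNat 0, Int.ofNat 0, Int.ofNat 0, Int.ofNat 0, Int.ofNat 0, Int.ofNat 0, Int.ofNat 0, Int.ofNat 0, Int.ofNat 0, Int.ofNat 4],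
  [Int.ofNat 4, Int.ofNat 0, Int.ofNat 4, Int.ofNat 0, Int.ofNat 0, Int.ofNat 0, Int.ofNat 0, Int.ofNat 0, Int.ofNat 0, Int.ofNat 0, Int.ofNat 0, Int.ofNat 0, Int.ofNat 0, Int.ofNat 0, Int.ofNat 0, Int.ofNat 0, Int.ofNat 0, Int.ofNat 0, Int.ofNat 0, Int.ofNat 0, Int.ofNat 0, Int.ofNat 0, Int.ofNat 0, Int.ofNat 0],
  [Int.ofNat 0, Int.ofNat 0, Int.ofNat 0, Int.ofNat 0, Int.ofNat 0, Int.ofNat 0, Int.ofNat 0, Int.ofNat 0, Int.ofNat 0, Int.ofNat 0, Int.ofNat 0, Int.ofNat 0, Int.ofNat 0, Int.ofNat 0, Int.ofNat 0, Int.ofNat 0, Int.ofNat 0, Int.ofNat 0, Int.ofNat 0, Int.ofNat 0, Int.ofNat 4, Int.ofNat 0, Int.ofNat 4, Int.ofNat 0],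
  [Int.ofNat 0, Int.ofNat 0, Int.ofNat 0, Int.ofNat 0, Int.negSucc 1, Int.ofNat 0, Int.ofNat 0, Int.ofNat 0, Int.ofNat 0, Int.negSucc 1, Int.negSucc 1, Int.ofNat 0, Int.ofNat 0, Int.negSucc 1, Int.ofNat 0, Int.negSucc 1, Int.negSucc 1, Int.ofNat 0, Int.ofNat 0, Int.ofNat 0, Int.ofNat 2, Int.ofNat 0, Int.ofNat 2, Int.ofNat 0],
  [Int.ofNat 0, Int.ofNat 0, Int.negSucc 1, Int.ofNat 0, Int.ofNat 0, Int.ofNat 0, Int.ofNat 0, Int.negSucc 1, Int.ofNat 0, Int.negSucc 1, Int.ofNat 2, Int.ofNat 0, Int.negSucc 1, Int.negSucc 1, Int.ofNat 2, Int.negSucc 1, Int.ofNat 0, Int.ofNat 0, Int.ofNat 0, Int.ofNat 0, Int.ofNat 0, Int.ofNat 0, Int.ofNat 0, Int.ofNat 0],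
  [Int.negSucc 0, Int.negSucc 0, Int.ofNat 1, Int.negSucc 0, Int.ofNat 1, Int.negSucc 0, Int.ofNat 1, Int.negSucc 0, Int.ofNat 1, Int.negSucc 0, Int.ofNat 3, Int.ofNat 1, Int.negSucc 0, Int.negSucc 0, Int.ofNat 1, Int.negSucc 0, Int.ofNat 1, Int.negSucc 0, Int.ofNat 1, Int.ofNat 1, Int.ofNat 1, Int.ofNat 1, Int.ofNat 1, Int.negSucc 0],
  [Int.negSucc 0, Int.negSucc 0, Int.negSucc 0, Int.negSucc 0, Int.ofNat 1, Int.ofNat 1, Int.negSucc 0, Int.negSucc 0, Int.ofNat 1, Int.ofNat 1, Int.negSucc 2, Int.ofNat 1, Int.negSucc 0, Int.negSucc 0, Int.ofNat 1, Int.ofNat 1, Int.ofNat 1, Int.negSucc 0, Int.negSucc 0, Int.ofNat 1, Int.ofNat 1, Int.ofNat 1, Int.negSucc 0, Int.negSucc 0],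
  [Int.negSucc 2, Int.ofNat 1, Int.ofNat 1, Int.ofNat 1, Int.ofNat 1, Int.negSucc 0, Int.ofNat 1, Int.negSucc 0, Int.ofNat 1, Int.ofNat 1, Int.negSucc 0, Int.negSucc 0, Int.ofNat 1, Int.ofNat 1, Int.negSucc 0, Int.negSucc 0, Int.ofNat 1, Int.negSucc 0, Int.ofNat 1, Int.negSucc 0, Int.negSucc 0, Int.negSucc 0, Int.negSucc 0, Int.negSucc 0],
  [Int.ofNat 3, Int.negSucc 0, Int.negSucc 0, Int.negSucc 0, Int.negSucc 0, Int.negSucc 0, Int.negSucc 0, Int.negSucc 0, Int.negSucc 0, Int.negSucc 0, Int.negSucc 0, Int.negSucc 0, Int.negSucc 0, Int.negSucc 0, Int.negSucc 0, Int.negSucc 0, Int.negSucc 0, Int.negSucc 0, Int.negSucc 0, Int.negSucc 0, Int.negSucc 0, Int.negSucc 0, Int.negSucc 0, Int.negSucc 0],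
  [Int.negSucc 0, Int.negSucc 0, Int.negSucc 0, Int.negSucc 0, Int.negSucc 0, Int.negSucc 0, Int.negSucc 0, Int.negSucc 0, Int.negSucc 0, Int.negSucc 0, Int.negSucc 0, Int.negSucc 0, Int.negSucc 0, Int.negSucc 0, Int.negSucc 0, Int.negSucc 0, Int.negSucc 0, Int.negSucc 0, Int.negSucc 0, Int.negSucc 0, Int.negSucc 0, Int.negSucc 0, Int.negSucc 0, Int.ofNat 3],
  [Int.ofNat 1, Int.negSucc 0, Int.ofNat 1, Int.negSucc 0, Int.negSucc 0, Int.negSucc 0, Int.negSucc 0, Int.ofNat 1, Int.negSucc 0, Int.ofNat 1, Int.ofNat 1, Int.ofNat 1, Int.negSucc 0, Int.negSucc 0, Int.negSucc 0, Int.negSucc 0, Int.negSucc 0, Int.negSucc 0, Int.ofNat 1, Int.negSucc 0, Int.negSucc 0, Int.ofNat 1, Int.negSucc 0, Int.ofNat 3],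
  [Int.negSucc 0, Int.ofNat 1, Int.negSucc 0, Int.ofNat 1, Int.negSucc 0, Int.negSucc 0, Int.negSucc 0, Int.negSucc 0, Int.ofNat 1, Int.negSucc 0, Int.ofNat 1, Int.ofNat 1, Int.ofNat 1, Int.negSucc 0, Int.negSucc 0, Int.negSucc 0, Int.negSucc 0, Int.negSucc 0, Int.negSucc 0, Int.ofNat 1, Int.negSucc 0, Int.negSucc 0, Int.ofNat 1, Int.ofNat 3],
  [Int.ofNat 2, Int.ofNat 0, Int.ofNat 2, Int.ofNat 2, Int.ofNat 0, Int.ofNat 0, Int.ofNat 0, Int.ofNat 0, Int.ofNat 0, Int.ofNat 0, Int.ofNat 2, Int.ofNat 0, Int.ofNat 0, Int.ofNat 0, Int.ofNat 0, Int.ofNat 0, Int.ofNat 0, Int.ofNat 0, Int.negSucc 1, Int.ofNat 2, Int.ofNat 0, Int.ofNat 0, Int.ofNat 2, Int.negSucc 1],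
  [Int.ofNat 2, Int.ofNat 0, Int.ofNat 0, Int.ofNat 0, Int.ofNat 0, Int.ofNat 0, Int.ofNat 0, Int.ofNat 2, Int.ofNat 0, Int.ofNat 0, Int.ofNat 0, Int.ofNat 0, Int.ofNat 0, Int.ofNat 0, Int.ofNat 0, Int.negSucc 1, Int.ofNat 2, Int.ofNat 0, Int.ofNat 0, Int.ofNat 2, Int.ofNat 2, Int.ofNat 0, Int.ofNat 2, Int.negSucc 1],
  [Int.negSucc 1, Int.ofNat 0, Int.ofNat 0, Int.ofNat 0, Int.negSucc 1, Int.ofNat 0, Int.negSucc 1, Int.ofNat 0, Int.ofNat 0, Int.ofNat 0, Int.ofNat 0, Int.ofNat 0, Int.ofNat 0, Int.negSucc 1, Int.ofNat 0, Int.negSucc 1, Int.ofNat 0, Int.ofNat 0, Int.ofNat 0, Int.ofNat 0, Int.ofNat 2, Int.negSucc 1, Int.ofNat 0, Int.ofNat 2],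
  [Int.negSucc 1, Int.negSucc 1, Int.negSucc 1, Int.ofNat 0, Int.ofNat 0, Int.ofNat 0, Int.ofNat 0, Int.ofNat 0, Int.ofNat 0, Int.negSucc 1, Int.ofNat 2, Int.ofNat 0, Int.ofNat 0, Int.ofNat 0, Int.ofNat 0, Int.negSucc 1, Int.ofNat 0, Int.ofNat 0, Int.ofNat 0, Int.ofNat 0, Int.negSucc 1, Int.ofNat 0, Int.ofNat 0, Int.ofNat 2],
  [Int.ofNat 0, Int.ofNat 0, Int.ofNat 0, Int.ofNat 0, Int.ofNat 0, Int.ofNat 0, Int.ofNat 0, Int.ofNat 0, Int.ofNat 0, Int.ofNat 0, Int.ofNat 4, Int.ofNat 0, Int.ofNat 0, Int.ofNat 0, Int.ofNat 0, Int.ofNat 0, Int.ofNat 0, Int.ofNat 0, Int.ofNat 0, Int.ofNat 0, Int.ofNat 0, Int.ofNat 0, Int.ofNat 0, Int.negSucc 3],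
  [Int.ofNat 0, Int.ofNat 0, Int.ofNat 0, Int.ofNat 0, Int.ofNat 0, Int.ofNat 0, Int.ofNat 0, Int.ofNat 0, Int.ofNat 0, Int.ofNat 0, Int.negSucc 3, Int.ofNat 0, Int.ofNat 0, Int.ofNat 0, Int.ofNat 0, Int.ofNat 0, Int.ofNat 0, Int.ofNat 0, Int.ofNat 0, Int.ofNat 0, Int.ofNat 0, Int.ofNat 0, Int.ofNat 0, Int.negSucc 3],
  [Int.ofNat 0, Int.ofNat 0, Int.ofNat 0, Int.ofNat 0, Int.ofNat 0, Int.ofNat 0, Int.ofNat 0, Int.ofNat 0, Int.ofNat 0, Int.ofNat 0, Int.ofNat 0, Int.ofNat 0, Int.ofNat 0, Int.negSucc 3, Int.ofNat 0, Int.ofNat 0, Int.ofNat 0, Int.ofNat 0, Int.ofNat 0, Int.ofNat 0, Int.ofNat 0, Int.ofNat 0, Int.ofNat 0, Int.negSucc 3],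
  [Int.ofNat 0, Int.ofNat 0, Int.ofNat 0, Int.ofNat 0, Int.ofNat 0, Int.ofNat 0, Int.ofNat 0, Int.ofNat 0, Int.ofNat 0, Int.ofNat 0, Int.ofNat 0, Int.ofNat 0, Int.ofNat 0, Int.negSucc 3, Int.ofNat 0, Int.ofNat 0, Int.ofNat 0, Int.ofNat 0, Int.ofNat 0, Int.ofNat 0, Int.ofNat 0, Int.ofNat 0, Int.ofNat 0, Int.negSucc 3],
  [Int.negSucc 1, Int.negSucc 1, Int.negSucc 1, Int.ofNat 0, Int.ofNat 2, Int.ofNat 0, Int.ofNat 0, Int.ofNat 0, Int.ofNat 0, Int.ofNat 0, Int.ofNat 0, Int.ofNat 0, Int.ofNat 0, Int.negSucc 1, Int.ofNat 0, Int.ofNat 0, Int.ofNat 2, Int.ofNat 0, Int.ofNat 0, Int.ofNat 0, Int.ofNat 0, Int.ofNat 0, Int.ofNat 2, Int.ofNat 2],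
  [Int.negSucc 1, Int.ofNat 0, Int.ofNat 0, Int.ofNat 0, Int.negSucc 1, Int.ofNat 0, Int.negSucc 1, Int.ofNat 0, Int.ofNat 2, Int.ofNat 0, Int.ofNat 0, Int.ofNat 0, Int.ofNat 0, Int.ofNat 0, Int.ofNat 0, Int.ofNat 0, Int.negSucc 1, Int.ofNat 0, Int.ofNat 2, Int.ofNat 2, Int.ofNat 0, Int.ofNat 0, Int.ofNat 0, Int.ofNat 2],
  [Int.ofNat 2, Int.ofNat 0, Int.ofNat 0, Int.ofNat 0, Int.ofNat 0, Int.ofNat 0, Int.negSucc 1, Int.ofNat 0, Int.ofNat 0, Int.ofNat 0, Int.ofNat 0, Int.negSucc 1, Int.negSucc 1, Int.ofNat 2, Int.ofNat 0, Int.ofNat 0, Int.ofNat 0, Int.ofNat 0, Int.ofNat 0, Int.ofNat 2, Int.ofNat 0, Int.ofNat 0, Int.ofNat 2, Int.negSucc 1],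
  [Int.ofNat 0, Int.ofNat 0, Int.ofNat 2, Int.ofNat 2, Int.ofNat 0, Int.ofNat 0, Int.ofNat 0, Int.ofNat 0, Int.ofNat 0, Int.negSucc 1, Int.ofNat 0, Int.ofNat 0, Int.ofNat 0, Int.ofNat 0, Int.negSucc 1, Int.negSucc 1, Int.ofNat 2, Int.ofNat 0, Int.ofNat 0, Int.ofNat 0, Int.ofNat 0, Int.ofNat 0, Int.ofNat 2, Int.negSucc 1],
  [Int.ofNat 0, Int.ofNat 0, Int.negSucc 1, Int.ofNat 2, Int.negSucc 1, Int.ofNat 0, Int.ofNat 0, Int.ofNat 0, Int.ofNat 0, Int.ofNat 0, Int.ofNat 2, Int.ofNat 0, Int.ofNat 0, Int.negSucc 1, Int.negSucc 1, Int.ofNat 0, Int.ofNat 0, Int.ofNat 0, Int.ofNat 0, Int.ofNat 0, Int.ofNat 2, Int.ofNat 0, Int.ofNat 0, Int.ofNat 2],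
  [Int.ofNat 0, Int.negSucc 1, Int.ofNat 2, Int.negSucc 1, Int.ofNat 0, Int.ofNat 0, Int.ofNat 0, Int.ofNat 0, Int.ofNat 0, Int.ofNat 2, Int.ofNat 0, Int.ofNat 0, Int.negSucc 1, Int.negSucc 1, Int.ofNat 0, Int.ofNat 0, Int.ofNat 0, Int.ofNat 0, Int.ofNat 0, Int.ofNat 2, Int.ofNat 0, Int.ofNat 0, Int.ofNat 0, Int.ofNat 2],
  [Int.ofNat 0, Int.negSucc 1, Int.negSucc 1, Int.negSucc 1, Int.ofNat 0, Int.ofNat 0, Int.ofNat 0, Int.ofNat 0, Int.ofNat 0, Int.negSucc 1, Int.ofNat 0, Int.ofNat 0, Int.negSucc 1, Int.negSucc 1, Int.ofNat 0, Int.ofNat 0, Int.ofNat 0, Int.ofNat 0, Int.ofNat 0, Int.ofNat 2, Int.ofNat 0, Int.ofNat 0, Int.ofNat 0, Int.ofNat 2],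
  [Int.ofNat 0, Int.negSucc 1, Int.ofNat 0, Int.negSucc 1, Int.negSucc 1, Int.ofNat 0, Int.ofNat 0, Int.ofNat 0, Int.negSucc 1, Int.ofNat 0, Int.ofNat 0, Int.ofNat 0, Int.negSucc 1, Int.ofNat 0, Int.ofNat 2, Int.ofNat 0, Int.negSucc 1, Int.ofNat 0, Int.ofNat 0, Int.ofNat 0, Int.ofNat 0, Int.ofNat 0, Int.ofNat 0, Int.ofNat 2],
  [Int.ofNat 0, Int.negSucc 1, Int.ofNat 0, Int.negSucc 1, Int.negSucc 1, Int.ofNat 0, Int.ofNat 0, Int.ofNat 0, Int.negSucc 1, Int.ofNat 0, Int.ofNat 0, Int.ofNat 0, Int.negSucc 1, Int.ofNat 0, Int.ofNat 2, Int.ofNat 0, Int.negSucc 1, Int.ofNat 0, Int.ofNat 0, Int.ofNat 0, Int.ofNat 0, Int.ofNat 0, Int.ofNat 0, Int.ofNat 2],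
  [Int.ofNat 0, Int.ofNat 0, Int.negSucc 1, Int.ofNat 0, Int.negSucc 1, Int.negSucc 1, Int.ofNat 0, Int.ofNat 0, Int.ofNat 0, Int.negSucc 1, Int.ofNat 0, Int.ofNat 0, Int.ofNat 0, Int.negSucc 1, Int.ofNat 0, Int.ofNat 2, Int.ofNat 0, Int.negSucc 1, Int.ofNat 0, Int.ofNat 0, Int.ofNat 0, Int.ofNat 0, Int.ofNat 0, Int.ofNat 2],
  [Int.ofNat 0, Int.ofNat 0, Int.ofNat 2, Int.ofNat 2, Int.ofNat 0, Int.ofNat 0, Int.ofNat 0, Int.ofNat 0, Int.ofNat 0, Int.negSucc 1, Int.ofNat 0, Int.ofNat 0, Int.ofNat 0, Int.ofNat 0, Int.ofNat 2, Int.ofNat 2, Int.ofNat 2, Int.ofNat 0, Int.ofNat 0, Int.ofNat 0, Int.ofNat 0, Int.ofNat 0, Int.ofNat 2, Int.negSucc 1],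
  [Int.ofNat 2, Int.ofNat 0, Int.ofNat 0, Int.ofNat 0, Int.ofNat 0, Int.ofNat 0, Int.negSucc 1, Int.ofNat 0, Int.ofNat 0, Int.ofNat 0, Int.ofNat 0, Int.ofNat 2, Int.ofNat 2, Int.ofNat 2, Int.ofNat 0, Int.ofNat 0, Int.ofNat 0, Int.ofNat 0, Int.ofNat 0, Int.ofNat 2, Int.ofNat 0, Int.ofNat 0, Int.ofNat 2, Int.negSucc 1],
  [Int.negSucc 1, Int.ofNat 0, Int.ofNat 0, Int.ofNat 0, Int.negSucc 1, Int.ofNat 0, Int.negSucc 1, Int.ofNat 0, Int.negSucc 1, Int.ofNat 0, Int.ofNat 0, Int.ofNat 0, Int.ofNat 0, Int.ofNat 0, Int.ofNat 0, Int.ofNat 0, Int.negSucc 1, Int.ofNat 0, Int.negSucc 1, Int.ofNat 2, Int.ofNat 0, Int.ofNat 0, Int.ofNat 0, Int.ofNat 2],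
  [Int.negSucc 1, Int.negSucc 1, Int.negSucc 1, Int.ofNat 0, Int.negSucc 1, Int.ofNat 0, Int.ofNat 0, Int.ofNat 0, Int.ofNat 0, Int.ofNat 0, Int.ofNat 0, Int.ofNat 0, Int.ofNat 0, Int.negSucc 1, Int.ofNat 0, Int.ofNat 0, Int.negSucc 1, Int.ofNat 0, Int.ofNat 0, Int.ofNat 0, Int.ofNat 0, Int.ofNat 0, Int.ofNat 2, Int.ofNat 2],
  [Int.ofNat 0, Int.ofNat 0, Int.ofNat 0, Int.ofNat 0, Int.ofNat 0, Int.ofNat 0, Int.ofNat 0, Int.ofNat 0, Int.ofNat 0, Int.ofNat 0, Int.ofNat 0, Int.ofNat 0, Int.ofNat 0, Int.ofNat 0, Int.ofNat 0, Int.ofNat 0, Int.ofNat 0, Int.ofNat 0, Int.ofNat 0, Int.ofNat 0, Int.ofNat 0, Int.ofNat 0, Int.ofNat 4, Int.negSucc 3],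
  [Int.ofNat 0, Int.ofNat 0, Int.ofNat 0, Int.ofNat 0, Int.ofNat 0, Int.ofNat 0, Int.ofNat 0, Int.ofNat 0, Int.ofNat 0, Int.ofNat 0, Int.ofNat 0, Int.ofNat 0, Int.ofNat 0, Int.ofNat 0, Int.ofNat 0, Int.ofNat 0, Int.ofNat 0, Int.ofNat 0, Int.ofNat 0, Int.ofNat 0, Int.ofNat 0, Int.ofNat 0, Int.negSucc 3, Int.negSucc 3],
  [Int.ofNat 0, Int.ofNat 0, Int.ofNat 0, Int.ofNat 0, Int.ofNat 0, Int.ofNat 0, Int.ofNat 0, Int.ofNat 0, Int.ofNat 0, Int.ofNat 0, Int.ofNat 0, Int.ofNat 0, Int.ofNat 0, Int.ofNat 0, Int.ofNat 0, Int.ofNat 0, Int.ofNat 0, Int.ofNat 0, Int.ofNat 0, Int.ofNat 0, Int.ofNat 0, Int.ofNat 0, Int.negSucc 3, Int.negSucc 3],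
  [Int.ofNat 0, Int.ofNat 0, Int.ofNat 0, Int.ofNat 0, Int.ofNat 0, Int.ofNat 0, Int.ofNat 0, Int.ofNat 0, Int.ofNat 0, Int.ofNat 0, Int.ofNat 0, Int.ofNat 0, Int.ofNat 0, Int.ofNat 0, Int.ofNat 0, Int.ofNat 0, Int.ofNat 0, Int.ofNat 0, Int.ofNat 0, Int.ofNat 0, Int.ofNat 0, Int.ofNat 0, Int.negSucc 3, Int.negSucc 3],
  [Int.negSucc 3, Int.negSucc 3, Int.ofNat 0, Int.ofNat 0, Int.ofNat 0, Int.ofNat 0, Int.ofNat 0, Int.ofNat 0, Int.ofNat 0, Int.ofNat 0, Int.ofNat 0, Int.ofNat 0, Int.ofNat 0, Int.ofNat 0, Int.ofNat 0, Int.ofNat 0, Int.ofNat 0, Int.ofNat 0, Int.ofNat 0, Int.ofNat 0, Int.ofNat 0, Int.ofNat 0, Int.ofNat 0, Int.ofNat 0],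
  [Int.ofNat 4, Int.negSucc 3, Int.ofNat 0, Int.ofNat 0, Int.ofNat 0, Int.ofNat 0, Int.ofNat 0, Int.ofNat 0, Int.ofNat 0, Int.ofNat 0, Int.ofNat 0, Int.ofNat 0, Int.ofNat 0, Int.ofNat 0, Int.ofNat 0, Int.ofNat 0, Int.ofNat 0, Int.ofNat 0, Int.ofNat 0, Int.ofNat 0, Int.ofNat 0, Int.ofNat 0, Int.ofNat 0, Int.ofNat 0],
  [Int.ofNat 0, Int.ofNat 4, Int.negSucc 3, Int.ofNat 0, Int.ofNat 0, Int.ofNat 0, Int.ofNat 0, Int.ofNat 0, Int.ofNat 0, Int.ofNat 0, Int.ofNat 0, Int.ofNat 0, Int.ofNat 0, Int.ofNat 0, Int.ofNat 0, Int.ofNat 0, Int.ofNat 0, Int.ofNat 0, Int.ofNat 0, Int.ofNat 0, Int.ofNat 0, Int.ofNat 0, Int.ofNat 0, Int.ofNat 0],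
  [Int.ofNat 0, Int.negSucc 3, Int.ofNat 4, Int.ofNat 0, Int.ofNat 0, Int.ofNat 0, Int.ofNat 0, Int.ofNat 0, Int.ofNat 0, Int.ofNat 0, Int.ofNat 0, Int.ofNat 0, Int.ofNat 0, Int.ofNat 0, Int.ofNat 0, Int.ofNat 0, Int.ofNat 0, Int.ofNat 0, Int.ofNat 0, Int.ofNat 0, Int.ofNat 0, Int.ofNat 0, Int.ofNat 0, Int.ofNat 0],
  [Int.ofNat 0, Int.ofNat 0, Int.ofNat 0, Int.ofNat 0, Int.ofNat 0, Int.ofNat 0, Int.ofNat 0, Int.ofNat 0, Int.ofNat 0, Int.ofNat 0, Int.ofNat 0, Int.ofNat 0, Int.ofNat 0, Int.ofNat 0, Int.ofNat 0, Int.ofNat 0, Int.ofNat 0, Int.ofNat 0, Int.ofNat 0, Int.ofNat 0, Int.ofNat 0, Int.negSucc 3, Int.ofNat 4, Int.ofNat 0],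
  [Int.ofNat 0, Int.ofNat 0, Int.ofNat 0, Int.ofNat 0, Int.negSucc 1, Int.ofNat 0, Int.ofNat 2, Int.ofNat 2, Int.ofNat 0, Int.ofNat 0, Int.ofNat 0, Int.ofNat 0, Int.ofNat 0, Int.negSucc 1, Int.ofNat 0, Int.ofNat 0, Int.negSucc 1, Int.ofNat 0, Int.ofNat 0, Int.ofNat 2, Int.ofNat 0, Int.negSucc 1, Int.ofNat 2, Int.ofNat 0],
  [Int.ofNat 0, Int.ofNat 2, Int.negSucc 1, Int.ofNat 0, Int.ofNat 0, Int.ofNat 2, Int.ofNat 0, Int.ofNat 0, Int.ofNat 0, Int.negSucc 1, Int.ofNat 0, Int.ofNat 0, Int.ofNat 0, Int.negSucc 1, Int.ofNat 2, Int.ofNat 0, Int.ofNat 0, Int.ofNat 0, Int.ofNat 0, Int.ofNat 0, Int.negSucc 1, Int.ofNat 0, Int.ofNat 2, Int.ofNat 0],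
  [Int.ofNat 0, Int.negSucc 1, Int.ofNat 2, Int.negSucc 1, Int.ofNat 0, Int.ofNat 0, Int.ofNat 0, Int.ofNat 0, Int.ofNat 0, Int.ofNat 0, Int.ofNat 2, Int.ofNat 0, Int.ofNat 0, Int.negSucc 1, Int.ofNat 0, Int.ofNat 2, Int.ofNat 0, Int.negSucc 1, Int.ofNat 0, Int.ofNat 0, Int.ofNat 0, Int.ofNat 0, Int.ofNat 2, Int.ofNat 0],
  [Int.ofNat 0, Int.negSucc 1, Int.negSucc 1, Int.negSucc 1, Int.ofNat 0, Int.ofNat 0, Int.ofNat 0, Int.ofNat 0, Int.ofNat 0, Int.ofNat 0, Int.negSucc 1, Int.ofNat 0, Int.ofNat 0, Int.negSucc 1, Int.ofNat 0, Int.negSucc 1, Int.ofNat 0, Int.negSucc 1, Int.ofNat 0, Int.ofNat 0, Int.ofNat 0, Int.ofNat 0, Int.negSucc 1, Int.ofNat 0],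
  [Int.negSucc 1, Int.ofNat 0, Int.ofNat 0, Int.ofNat 0, Int.ofNat 0, Int.negSucc 1, Int.ofNat 0, Int.ofNat 0, Int.ofNat 0, Int.ofNat 0, Int.ofNat 0, Int.ofNat 0, Int.negSucc 1, Int.negSucc 1, Int.ofNat 0, Int.ofNat 0, Int.negSucc 1, Int.ofNat 0, Int.ofNat 0, Int.ofNat 0, Int.negSucc 1, Int.negSucc 1, Int.negSucc 1, Int.ofNat 0],
  [Int.negSucc 1, Int.ofNat 0, Int.ofNat 0, Int.ofNat 0, Int.ofNat 0, Int.ofNat 2, Int.ofNat 0, Int.ofNat 0, Int.ofNat 0, Int.ofNat 0, Int.ofNat 0, Int.ofNat 0, Int.negSucc 1, Int.negSucc 1, Int.ofNat 0, Int.ofNat 0, Int.negSucc 1, Int.ofNat 0, Int.ofNat 0, Int.ofNat 0, Int.negSucc 1, Int.negSucc 1, Int.ofNat 2, Int.ofNat 0],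
  [Int.ofNat 1, Int.negSucc 0, Int.negSucc 0, Int.negSucc 0, Int.ofNat 1, Int.ofNat 1, Int.ofNat 1, Int.ofNat 1, Int.ofNat 1, Int.ofNat 1, Int.ofNat 1, Int.ofNat 1, Int.negSucc 0, Int.negSucc 0, Int.negSucc 0, Int.ofNat 1, Int.negSucc 0, Int.negSucc 0, Int.ofNat 1, Int.ofNat 1, Int.negSucc 0, Int.negSucc 0, Int.ofNat 3, Int.negSucc 0],
  [Int.ofNat 1, Int.ofNat 1, Int.ofNat 1, Int.negSucc 0, Int.negSucc 0, Int.negSucc 0, Int.negSucc 0, Int.ofNat 1, Int.negSucc 0, Int.negSucc 0, Int.ofNat 1, Int.ofNat 1, Int.ofNat 1, Int.ofNat 1, Int.negSucc 0, Int.ofNat 1, Int.negSucc 0, Int.ofNat 1, Int.ofNat 1, Int.ofNat 3, Int.ofNat 1, Int.negSucc 0, Int.negSucc 0, Int.negSucc 0],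
  [Int.ofNat 0, Int.ofNat 0, Int.ofNat 0, Int.ofNat 0, Int.ofNat 0, Int.ofNat 0, Int.negSucc 1, Int.ofNat 0, Int.negSucc 1, Int.negSucc 1, Int.ofNat 0, Int.ofNat 0, Int.ofNat 0, Int.ofNat 2, Int.ofNat 0, Int.ofNat 0, Int.ofNat 0, Int.ofNat 2, Int.ofNat 0, Int.ofNat 2, Int.ofNat 0, Int.negSucc 1, Int.ofNat 0, Int.ofNat 2],
  [Int.ofNat 0, Int.negSucc 1, Int.ofNat 0, Int.ofNat 0, Int.ofNat 0, Int.ofNat 0, Int.ofNat 0, Int.ofNat 0, Int.ofNat 0, Int.negSucc 1, Int.ofNat 0, Int.negSucc 1, Int.negSucc 1, Int.ofNat 0, Int.ofNat 0, Int.ofNat 0, Int.ofNat 2, Int.ofNat 0, Int.ofNat 0, Int.ofNat 0, Int.ofNat 2, Int.ofNat 0, Int.ofNat 2, Int.ofNat 2],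
  [Int.ofNat 0, Int.ofNat 2, Int.ofNat 0, Int.ofNat 0, Int.negSucc 1, Int.ofNat 0, Int.ofNat 0, Int.ofNat 0, Int.ofNat 2, Int.negSucc 1, Int.ofNat 0, Int.ofNat 0, Int.ofNat 0, Int.negSucc 1, Int.ofNat 0, Int.ofNat 0, Int.ofNat 0, Int.ofNat 0, Int.ofNat 2, Int.ofNat 0, Int.ofNat 2, Int.ofNat 0, Int.ofNat 0, Int.negSucc 1],
  [Int.ofNat 2, Int.ofNat 0, Int.ofNat 0, Int.negSucc 1, Int.ofNat 0, Int.ofNat 0, Int.ofNat 0, Int.ofNat 2, Int.negSucc 1, Int.ofNat 0, Int.ofNat 0, Int.ofNat 0, Int.negSucc 1, Int.ofNat 0, Int.ofNat 0, Int.ofNat 0, Int.ofNat 0, Int.ofNat 2, Int.ofNat 0, Int.ofNat 2, Int.ofNat 0, Int.ofNat 0, Int.ofNat 0, Int.negSucc 1],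
  [Int.negSucc 1, Int.ofNat 0, Int.ofNat 0, Int.negSucc 1, Int.ofNat 0, Int.ofNat 0, Int.ofNat 0, Int.negSucc 1, Int.negSucc 1, Int.ofNat 0, Int.ofNat 0, Int.ofNat 0, Int.negSucc 1, Int.ofNat 0, Int.ofNat 0, Int.ofNat 0, Int.ofNat 0, Int.ofNat 2, Int.ofNat 0, Int.ofNat 2, Int.ofNat 0, Int.ofNat 0, Int.ofNat 0, Int.negSucc 1],
  [Int.negSucc 1, Int.ofNat 0, Int.ofNat 0, Int.negSucc 1, Int.ofNat 0, Int.ofNat 0, Int.ofNat 0, Int.ofNat 0, Int.ofNat 0, Int.ofNat 0, Int.ofNat 0, Int.ofNat 0, Int.ofNat 0, Int.negSucc 1, Int.ofNat 2, Int.ofNat 0, Int.negSucc 1, Int.ofNat 0, Int.ofNat 0, Int.ofNat 2, Int.ofNat 0, Int.negSucc 1, Int.ofNat 0, Int.negSucc 1],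
  [Int.ofNat 2, Int.ofNat 0, Int.ofNat 0, Int.negSucc 1, Int.ofNat 0, Int.ofNat 0, Int.ofNat 0, Int.ofNat 0, Int.ofNat 0, Int.ofNat 0, Int.ofNat 0, Int.ofNat 0, Int.ofNat 0, Int.negSucc 1, Int.ofNat 2, Int.ofNat 0, Int.negSucc 1, Int.ofNat 0, Int.ofNat 0, Int.ofNat 2, Int.ofNat 0, Int.ofNat 2, Int.ofNat 0, Int.negSucc 1],
  [Int.ofNat 0, Int.ofNat 2, Int.ofNat 0, Int.ofNat 0, Int.negSucc 1, Int.ofNat 0, Int.ofNat 0, Int.ofNat 0, Int.ofNat 0, Int.ofNat 0, Int.ofNat 0, Int.ofNat 0, Int.ofNat 0, Int.ofNat 0, Int.negSucc 1, Int.ofNat 2, Int.ofNat 0, Int.negSucc 1, Int.ofNat 0, Int.ofNat 0, Int.ofNat 2, Int.ofNat 0, Int.ofNat 2, Int.negSucc 1],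
  [Int.ofNat 0, Int.negSucc 1, Int.ofNat 0, Int.ofNat 2, Int.negSucc 1, Int.ofNat 2, Int.ofNat 0, Int.ofNat 0, Int.ofNat 0, Int.negSucc 1, Int.negSucc 1, Int.ofNat 0, Int.ofNat 0, Int.ofNat 0, Int.ofNat 0, Int.ofNat 0, Int.ofNat 0, Int.ofNat 0, Int.ofNat 0, Int.ofNat 0, Int.ofNat 0, Int.ofNat 0, Int.ofNat 2, Int.ofNat 2],
  [Int.ofNat 2, Int.negSucc 1, Int.ofNat 2, Int.ofNat 0, Int.ofNat 0, Int.ofNat 0, Int.negSucc 1, Int.negSucc 1, Int.ofNat 0, Int.ofNat 0, Int.ofNat 0, Int.ofNat 0, Int.ofNat 0, Int.ofNat 0, Int.ofNat 0, Int.ofNat 0, Int.ofNat 0, Int.ofNat 0, Int.ofNat 0, Int.ofNat 2, Int.ofNat 0, Int.negSucc 1, Int.ofNat 0, Int.ofNat 2],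
  [Int.ofNat 0, Int.ofNat 4, Int.ofNat 0, Int.ofNat 0, Int.ofNat 0, Int.ofNat 0, Int.ofNat 0, Int.ofNat 0, Int.ofNat 0, Int.ofNat 0, Int.ofNat 0, Int.ofNat 0, Int.ofNat 0, Int.ofNat 0, Int.ofNat 0, Int.ofNat 0, Int.ofNat 0, Int.ofNat 0, Int.ofNat 0, Int.ofNat 4, Int.ofNat 0, Int.ofNat 0, Int.ofNat 0, Int.ofNat 0],
  [Int.ofNat 0, Int.ofNat 0, Int.ofNat 0, Int.ofNat 0, Int.ofNat 0, Int.ofNat 0, Int.ofNat 0, Int.ofNat 0, Int.ofNat 0, Int.ofNat 0, Int.ofNat 0, Int.ofNat 0, Int.ofNat 0, Int.ofNat 0, Int.ofNat 0, Int.ofNat 0, Int.ofNat 0, Int.ofNat 0, Int.ofNat 4, Int.ofNat 0, Int.ofNat 0, Int.ofNat 0, Int.ofNat 4, Int.ofNat 0],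
  [Int.ofNat 0, Int.ofNat 0, Int.ofNat 0, Int.ofNat 0, Int.negSucc 1, Int.ofNat 0, Int.ofNat 0, Int.ofNat 0, Int.negSucc 1, Int.ofNat 0, Int.ofNat 0, Int.negSucc 1, Int.negSucc 1, Int.negSucc 1, Int.ofNat 0, Int.ofNat 0, Int.negSucc 1, Int.ofNat 0, Int.ofNat 2, Int.ofNat 0, Int.ofNat 0, Int.ofNat 0, Int.ofNat 2, Int.ofNat 0],
  [Int.ofNat 0, Int.ofNat 0, Int.ofNat 0, Int.ofNat 0, Int.negSucc 1, Int.ofNat 0, Int.ofNat 0, Int.ofNat 0, Int.negSucc 1, Int.ofNat 0, Int.ofNat 0, Int.negSucc 1, Int.negSucc 1, Int.negSucc 1, Int.ofNat 0, Int.ofNat 0, Int.negSucc 1, Int.ofNat 0, Int.negSucc 1, Int.ofNat 0, Int.ofNat 0, Int.ofNat 0, Int.negSucc 1, Int.ofNat 0],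
  [Int.ofNat 0, Int.negSucc 1, Int.negSucc 1, Int.negSucc 1, Int.ofNat 0, Int.ofNat 0, Int.ofNat 0, Int.ofNat 0, Int.ofNat 0, Int.ofNat 0, Int.negSucc 1, Int.ofNat 0, Int.ofNat 0, Int.negSucc 1, Int.ofNat 0, Int.negSucc 1, Int.ofNat 0, Int.negSucc 1, Int.ofNat 0, Int.ofNat 0, Int.ofNat 0, Int.ofNat 0, Int.negSucc 1, Int.ofNat 0],
  [Int.ofNat 0, Int.ofNat 2, Int.ofNat 2, Int.ofNat 2, Int.ofNat 0, Int.ofNat 0, Int.ofNat 0, Int.ofNat 0, Int.ofNat 0, Int.ofNat 0, Int.negSucc 1, Int.ofNat 0, Int.ofNat 0, Int.ofNat 2, Int.ofNat 0, Int.negSucc 1, Int.ofNat 0, Int.negSucc 1, Int.ofNat 0, Int.ofNat 0, Int.ofNat 0, Int.ofNat 0, Int.negSucc 1, Int.ofNat 0],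
  [Int.ofNat 0, Int.negSucc 1, Int.ofNat 0, Int.negSucc 1, Int.negSucc 1, Int.ofNat 0, Int.ofNat 0, Int.ofNat 2, Int.ofNat 0, Int.ofNat 0, Int.ofNat 0, Int.ofNat 2, Int.ofNat 0, Int.ofNat 0, Int.ofNat 0, Int.ofNat 2, Int.negSucc 1, Int.ofNat 0, Int.ofNat 0, Int.ofNat 0, Int.ofNat 0, Int.ofNat 0, Int.ofNat 2, Int.ofNat 0],
  [Int.ofNat 0, Int.negSucc 1, Int.ofNat 0, Int.negSucc 1, Int.negSucc 1, Int.ofNat 0, Int.ofNat 0, Int.negSucc 1, Int.ofNat 0, Int.ofNat 0, Int.ofNat 0, Int.negSucc 1, Int.ofNat 0, Int.ofNat 0, Int.ofNat 0, Int.ofNat 2, Int.negSucc 1, Int.ofNat 0, Int.ofNat 0, Int.ofNat 0, Int.ofNat 0, Int.ofNat 0, Int.ofNat 2, Int.ofNat 0],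
  [Int.ofNat 2, Int.ofNat 0, Int.negSucc 1, Int.ofNat 0, Int.negSucc 1, Int.negSucc 1, Int.ofNat 0, Int.ofNat 0, Int.negSucc 1, Int.ofNat 0, Int.ofNat 0, Int.ofNat 0, Int.negSucc 1, Int.ofNat 0, Int.ofNat 0, Int.ofNat 0, Int.ofNat 2, Int.negSucc 1, Int.ofNat 0, Int.ofNat 0, Int.ofNat 0, Int.ofNat 0, Int.ofNat 0, Int.ofNat 0],
  [Int.negSucc 1, Int.ofNat 0, Int.ofNat 2, Int.ofNat 2, Int.negSucc 1, Int.ofNat 0, Int.ofNat 0, Int.ofNat 0, Int.ofNat 0, Int.ofNat 0, Int.ofNat 0, Int.ofNat 2, Int.ofNat 0, Int.ofNat 0, Int.ofNat 2, Int.ofNat 0, Int.ofNat 2, Int.ofNat 0, Int.ofNat 2, Int.ofNat 0, Int.ofNat 0, Int.ofNat 0, Int.ofNat 0, Int.ofNat 0],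
  [Int.ofNat 2, Int.negSucc 1, Int.ofNat 0, Int.ofNat 0, Int.ofNat 0, Int.ofNat 0, Int.ofNat 0, Int.ofNat 0, Int.ofNat 2, Int.ofNat 0, Int.ofNat 0, Int.ofNat 2, Int.ofNat 0, Int.ofNat 2, Int.ofNat 0, Int.ofNat 2, Int.ofNat 0, Int.ofNat 0, Int.ofNat 0, Int.ofNat 0, Int.negSucc 1, Int.ofNat 0, Int.ofNat 2, Int.ofNat 0],
  [Int.negSucc 1, Int.ofNat 2, Int.ofNat 0, Int.ofNat 0, Int.negSucc 1, Int.ofNat 0, Int.ofNat 0, Int.ofNat 0, Int.ofNat 0, Int.ofNat 0, Int.ofNat 0, Int.ofNat 0, Int.negSucc 1, Int.ofNat 0, Int.ofNat 0, Int.ofNat 2, Int.negSucc 1, Int.ofNat 0, Int.negSucc 1, Int.ofNat 0, Int.negSucc 1, Int.ofNat 0, Int.ofNat 0, Int.ofNat 0],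
  [Int.negSucc 1, Int.ofNat 0, Int.negSucc 1, Int.ofNat 0, Int.negSucc 1, Int.ofNat 0, Int.ofNat 0, Int.ofNat 0, Int.negSucc 1, Int.ofNat 0, Int.negSucc 1, Int.ofNat 0, Int.ofNat 0, Int.negSucc 1, Int.ofNat 0, Int.ofNat 2, Int.ofNat 0, Int.ofNat 0, Int.ofNat 2, Int.ofNat 0, Int.ofNat 0, Int.ofNat 0, Int.ofNat 0, Int.ofNat 0],
  [Int.ofNat 0, Int.negSucc 1, Int.ofNat 0, Int.ofNat 0, Int.ofNat 0, Int.ofNat 0, Int.ofNat 0, Int.ofNat 0, Int.negSucc 1, Int.ofNat 0, Int.negSucc 1, Int.ofNat 0, Int.ofNat 0, Int.ofNat 0, Int.ofNat 0, Int.ofNat 2, Int.ofNat 2, Int.ofNat 0, Int.ofNat 2, Int.ofNat 0, Int.ofNat 0, Int.ofNat 0, Int.ofNat 2, Int.negSucc 1],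
  [Int.ofNat 0, Int.negSucc 1, Int.ofNat 0, Int.ofNat 0, Int.ofNat 0, Int.ofNat 0, Int.ofNat 0, Int.ofNat 0, Int.negSucc 1, Int.ofNat 0, Int.ofNat 2, Int.ofNat 0, Int.ofNat 0, Int.ofNat 0, Int.ofNat 0, Int.negSucc 1, Int.ofNat 2, Int.ofNat 0, Int.negSucc 1, Int.ofNat 0, Int.ofNat 0, Int.ofNat 0, Int.negSucc 1, Int.negSucc 1],
  [Int.ofNat 0, Int.ofNat 0, Int.ofNat 0, Int.ofNat 0, Int.negSucc 1, Int.negSucc 1, Int.ofNat 0, Int.ofNat 2, Int.ofNat 0, Int.ofNat 0, Int.ofNat 0, Int.negSucc 1, Int.ofNat 0, Int.ofNat 2, Int.ofNat 0, Int.ofNat 0, Int.ofNat 0, Int.ofNat 0, Int.ofNat 0, Int.ofNat 0, Int.negSucc 1, Int.ofNat 0, Int.negSucc 1, Int.negSucc 1],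
  [Int.ofNat 0, Int.ofNat 0, Int.ofNat 0, Int.ofNat 0, Int.negSucc 1, Int.ofNat 2, Int.ofNat 0, Int.ofNat 2, Int.ofNat 0, Int.ofNat 0, Int.ofNat 0, Int.negSucc 1, Int.ofNat 0, Int.ofNat 2, Int.ofNat 0, Int.ofNat 0, Int.ofNat 0, Int.ofNat 0, Int.ofNat 0, Int.ofNat 0, Int.negSucc 1, Int.ofNat 0, Int.ofNat 2, Int.negSucc 1],
  [Int.negSucc 0, Int.negSucc 0, Int.negSucc 0, Int.negSucc 0, Int.negSucc 2, Int.ofNat 1, Int.negSucc 0, Int.ofNat 1, Int.ofNat 1, Int.ofNat 1, Int.ofNat 1, Int.negSucc 0, Int.ofNat 1, Int.ofNat 1, Int.negSucc 0, Int.ofNat 1, Int.negSucc 0, Int.negSucc 0, Int.ofNat 1, Int.negSucc 0, Int.negSucc 0, Int.negSucc 0, Int.ofNat 1, Int.ofNat 1],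
  [Int.negSucc 0, Int.ofNat 1, Int.negSucc 0, Int.negSucc 0, Int.negSucc 0, Int.negSucc 0, Int.negSucc 0, Int.ofNat 1, Int.negSucc 0, Int.ofNat 1, Int.ofNat 1, Int.negSucc 0, Int.ofNat 1, Int.ofNat 1, Int.negSucc 0, Int.ofNat 1, Int.ofNat 1, Int.negSucc 0, Int.negSucc 2, Int.ofNat 1, Int.ofNat 1, Int.negSucc 0, Int.negSucc 0, Int.ofNat 1],
  [Int.ofNat 1, Int.negSucc 0, Int.ofNat 1, Int.ofNat 1, Int.negSucc 0, Int.ofNat 1, Int.negSucc 0, Int.ofNat 1, Int.ofNat 1, Int.negSucc 0, Int.negSucc 0, Int.ofNat 1, Int.ofNat 3, Int.ofNat 1, Int.ofNat 1, Int.negSucc 0, Int.ofNat 1, Int.ofNat 1, Int.negSucc 0, Int.ofNat 1, Int.negSucc 0, Int.negSucc 0, Int.negSucc 0, Int.negSucc 0],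
  [Int.negSucc 0, Int.negSucc 0, Int.negSucc 0, Int.ofNat 1, Int.negSucc 0, Int.ofNat 1, Int.ofNat 1, Int.negSucc 0, Int.ofNat 1, Int.negSucc 0, Int.ofNat 1, Int.ofNat 1, Int.negSucc 0, Int.negSucc 0, Int.ofNat 1, Int.ofNat 3, Int.ofNat 1, Int.ofNat 1, Int.negSucc 0, Int.ofNat 1, Int.ofNat 1, Int.negSucc 0, Int.ofNat 1, Int.negSucc 0],
  [Int.negSucc 0, Int.negSucc 0, Int.negSucc 0, Int.negSucc 0, Int.negSucc 0, Int.negSucc 0, Int.ofNat 1, Int.negSucc 0, Int.ofNat 1, Int.negSucc 2, Int.negSucc 0, Int.ofNat 1, Int.negSucc 0, Int.negSucc 0, Int.negSucc 0, Int.ofNat 1, Int.ofNat 1, Int.negSucc 0, Int.negSucc 0, Int.ofNat 1, Int.negSucc 0, Int.negSucc 0, Int.ofNat 1, Int.negSucc 0],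
  [Int.negSucc 0, Int.negSucc 0, Int.negSucc 0, Int.negSucc 0, Int.negSucc 0, Int.ofNat 1, Int.negSucc 0, Int.ofNat 1, Int.negSucc 2, Int.negSucc 0, Int.ofNat 1, Int.negSucc 0, Int.negSucc 0, Int.negSucc 0, Int.ofNat 1, Int.ofNat 1, Int.negSucc 0, Int.negSucc 0, Int.ofNat 1, Int.negSucc 0, Int.negSucc 0, Int.ofNat 1, Int.negSucc 0, Int.negSucc 0],
  [Int.ofNat 1, Int.negSucc 0, Int.ofNat 1, Int.negSucc 0, Int.negSucc 0, Int.ofNat 1, Int.negSucc 0, Int.negSucc 0, Int.negSucc 2, Int.ofNat 1, Int.negSucc 0, Int.ofNat 1, Int.negSucc 0, Int.negSucc 0, Int.ofNat 1, Int.ofNat 1, Int.negSucc 0, Int.negSucc 0, Int.negSucc 0, Int.negSucc 0, Int.negSucc 0, Int.negSucc 0, Int.negSucc 0, Int.negSucc 0],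
  [Int.ofNat 1, Int.ofNat 1, Int.negSucc 0, Int.negSucc 0, Int.negSucc 0, Int.negSucc 0, Int.negSucc 0, Int.negSucc 0, Int.ofNat 1, Int.negSucc 0, Int.negSucc 0, Int.ofNat 1, Int.negSucc 0, Int.negSucc 2, Int.negSucc 0, Int.ofNat 1, Int.negSucc 0, Int.negSucc 0, Int.negSucc 0, Int.negSucc 0, Int.ofNat 1, Int.negSucc 0, Int.ofNat 1, Int.negSucc 0],
  [Int.negSucc 0, Int.ofNat 1, Int.ofNat 1, Int.negSucc 0, Int.negSucc 0, Int.negSucc 0, Int.negSucc 0, Int.ofNat 1, Int.ofNat 1, Int.ofNat 1, Int.ofNat 1, Int.negSucc 0, Int.negSucc 0, Int.negSucc 2, Int.negSucc 0, Int.ofNat 1, Int.negSucc 0, Int.negSucc 0, Int.ofNat 1, Int.negSucc 0, Int.ofNat 1, Int.ofNat 1, Int.ofNat 1, Int.negSucc 0],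
  [Int.ofNat 1, Int.negSucc 0, Int.ofNat 1, Int.ofNat 1, Int.negSucc 0, Int.negSucc 0, Int.negSucc 0, Int.negSucc 0, Int.ofNat 1, Int.ofNat 1, Int.ofNat 1, Int.ofNat 1, Int.negSucc 0, Int.negSucc 0, Int.negSucc 2, Int.negSucc 0, Int.ofNat 1, Int.negSucc 0, Int.negSucc 0, Int.ofNat 1, Int.negSucc 0, Int.ofNat 1, Int.ofNat 1, Int.negSucc 0],
  [Int.negSucc 0, Int.ofNat 1, Int.negSucc 0, Int.ofNat 3, Int.negSucc 0, Int.ofNat 1, Int.negSucc 0, Int.negSucc 0, Int.ofNat 1, Int.ofNat 1, Int.ofNat 1, Int.ofNat 1, Int.negSucc 0, Int.negSucc 0, Int.negSucc 0, Int.negSucc 0, Int.ofNat 1, Int.ofNat 1, Int.negSucc 0, Int.ofNat 1, Int.negSucc 0, Int.ofNat 1, Int.ofNat 1, Int.ofNat 1],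
  [Int.ofNat 3, Int.negSucc 0, Int.ofNat 1, Int.negSucc 0, Int.negSucc 0, Int.ofNat 1, Int.ofNat 1, Int.ofNat 1, Int.ofNat 1, Int.negSucc 0, Int.negSucc 0, Int.negSucc 0, Int.negSucc 0, Int.ofNat 1, Int.ofNat 1, Int.negSucc 0, Int.ofNat 1, Int.negSucc 0, Int.ofNat 1, Int.ofNat 1, Int.negSucc 0, Int.ofNat 1, Int.negSucc 0, Int.ofNat 1],
  [Int.negSucc 0, Int.ofNat 3, Int.ofNat 1, Int.negSucc 0, Int.negSucc 0, Int.ofNat 1, Int.negSucc 0, Int.negSucc 0, Int.ofNat 1, Int.ofNat 1, Int.ofNat 1, Int.negSucc 0, Int.negSucc 0, Int.ofNat 1, Int.ofNat 1, Int.ofNat 1, Int.ofNat 1, Int.negSucc 0, Int.ofNat 1, Int.negSucc 0, Int.ofNat 1, Int.negSucc 0, Int.negSucc 0, Int.ofNat 1],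
  [Int.negSucc 0, Int.negSucc 0, Int.negSucc 0, Int.negSucc 0, Int.ofNat 1, Int.negSucc 0, Int.ofNat 1, Int.ofNat 1, Int.negSucc 0, Int.ofNat 1, Int.ofNat 1, Int.negSucc 0, Int.ofNat 1, Int.ofNat 1, Int.negSucc 0, Int.ofNat 1, Int.ofNat 1, Int.ofNat 1, Int.ofNat 3, Int.negSucc 0, Int.negSucc 0, Int.ofNat 1, Int.negSucc 0, Int.ofNat 1],
  [Int.ofNat 0, Int.ofNat 0, Int.ofNat 0, Int.ofNat 0, Int.ofNat 0, Int.ofNat 0, Int.ofNat 0, Int.ofNat 0, Int.negSucc 1, Int.ofNat 0, Int.ofNat 0, Int.negSucc 1, Int.ofNat 0, Int.ofNat 0, Int.ofNat 0, Int.ofNat 0, Int.ofNat 0, Int.ofNat 2, Int.ofNat 2, Int.negSucc 1, Int.negSucc 1, Int.ofNat 0, Int.negSucc 1, Int.negSucc 1],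
  [Int.ofNat 0, Int.ofNat 0, Int.ofNat 0, Int.ofNat 0, Int.ofNat 0, Int.ofNat 0, Int.ofNat 0, Int.ofNat 0, Int.negSucc 1, Int.ofNat 0, Int.ofNat 0, Int.negSucc 1, Int.ofNat 0, Int.ofNat 0, Int.ofNat 0, Int.ofNat 0, Int.ofNat 0, Int.ofNat 2, Int.negSucc 1, Int.negSucc 1, Int.negSucc 1, Int.ofNat 0, Int.ofNat 2, Int.negSucc 1],
  [Int.ofNat 0, Int.ofNat 0, Int.negSucc 1, Int.negSucc 1, Int.ofNat 0, Int.ofNat 0, Int.ofNat 0, Int.ofNat 0, Int.ofNat 0, Int.negSucc 1, Int.ofNat 0, Int.ofNat 0, Int.ofNat 0, Int.ofNat 0, Int.ofNat 2, Int.negSucc 1, Int.negSucc 1, Int.ofNat 0, Int.ofNat 0, Int.ofNat 0, Int.ofNat 0, Int.ofNat 0, Int.ofNat 2, Int.negSucc 1],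
  [Int.ofNat 0, Int.ofNat 0, Int.ofNat 2, Int.ofNat 2, Int.ofNat 0, Int.ofNat 0, Int.ofNat 0, Int.ofNat 0, Int.ofNat 0, Int.ofNat 2, Int.ofNat 0, Int.ofNat 0, Int.ofNat 0, Int.ofNat 0, Int.ofNat 2, Int.negSucc 1, Int.ofNat 2, Int.ofNat 0, Int.ofNat 0, Int.ofNat 0, Int.ofNat 0, Int.ofNat 0, Int.ofNat 2, Int.negSucc 1],
  [Int.negSucc 1, Int.ofNat 2, Int.ofNat 0, Int.negSucc 1, Int.ofNat 0, Int.ofNat 2, Int.ofNat 0, Int.ofNat 0, Int.ofNat 0, Int.ofNat 0, Int.ofNat 2, Int.ofNat 2, Int.ofNat 0, Int.ofNat 0, Int.ofNat 0, Int.ofNat 2, Int.ofNat 0, Int.ofNat 0, Int.ofNat 2, Int.ofNat 0, Int.ofNat 0, Int.ofNat 0, Int.ofNat 0, Int.ofNat 0],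
  [Int.ofNat 2, Int.ofNat 2, Int.ofNat 0, Int.negSucc 1, Int.ofNat 0, Int.ofNat 2, Int.ofNat 0, Int.ofNat 0, Int.ofNat 0, Int.ofNat 0, Int.negSucc 1, Int.negSucc 1, Int.ofNat 0, Int.ofNat 0, Int.ofNat 0, Int.ofNat 2, Int.ofNat 0, Int.ofNat 0, Int.negSucc 1, Int.ofNat 0, Int.ofNat 0, Int.ofNat 0, Int.ofNat 0, Int.ofNat 0],
  [Int.ofNat 0, Int.ofNat 2, Int.ofNat 2, Int.ofNat 0, Int.negSucc 1, Int.ofNat 0, Int.ofNat 2, Int.ofNat 0, Int.ofNat 0, Int.ofNat 0, Int.ofNat 0, Int.negSucc 1, Int.negSucc 1, Int.ofNat 0, Int.ofNat 0, Int.ofNat 0, Int.ofNat 2, Int.ofNat 0, Int.ofNat 0, Int.negSucc 1, Int.ofNat 0, Int.ofNat 0, Int.ofNat 0, Int.ofNat 0],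
  [Int.ofNat 2, Int.ofNat 0, Int.ofNat 0, Int.ofNat 0, Int.negSucc 1, Int.ofNat 0, Int.ofNat 2, Int.ofNat 0, Int.ofNat 2, Int.ofNat 0, Int.ofNat 0, Int.ofNat 0, Int.ofNat 0, Int.ofNat 0, Int.ofNat 0, Int.ofNat 0, Int.ofNat 2, Int.ofNat 0, Int.ofNat 2, Int.negSucc 1, Int.ofNat 0, Int.ofNat 0, Int.ofNat 0, Int.ofNat 2],
  [Int.ofNat 0, Int.negSucc 1, Int.ofNat 0, Int.ofNat 2, Int.ofNat 0, Int.ofNat 2, Int.ofNat 0, Int.ofNat 0, Int.ofNat 0, Int.ofNat 0, Int.ofNat 0, Int.ofNat 0, Int.ofNat 0, Int.ofNat 2, Int.ofNat 0, Int.ofNat 2, Int.negSucc 1, Int.ofNat 0, Int.ofNat 0, Int.ofNat 0, Int.ofNat 2, Int.ofNat 0, Int.ofNat 0, Int.ofNat 2],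
  [Int.ofNat 0, Int.ofNat 2, Int.ofNat 0, Int.ofNat 0, Int.ofNat 0, Int.ofNat 0, Int.ofNat 0, Int.ofNat 0, Int.ofNat 0, Int.negSucc 1, Int.negSucc 1, Int.ofNat 0, Int.ofNat 0, Int.ofNat 2, Int.negSucc 1, Int.ofNat 0, Int.negSucc 1, Int.negSucc 1, Int.ofNat 0, Int.ofNat 0, Int.ofNat 0, Int.ofNat 0, Int.ofNat 0, Int.negSucc 1],
  [Int.ofNat 0, Int.ofNat 0, Int.ofNat 0, Int.ofNat 0, Int.ofNat 0, Int.ofNat 0, Int.ofNat 0, Int.negSucc 1, Int.ofNat 0, Int.ofNat 2, Int.ofNat 0, Int.negSucc 1, Int.negSucc 1, Int.negSucc 1, Int.ofNat 0, Int.ofNat 0, Int.ofNat 0, Int.negSucc 1, Int.ofNat 2, Int.ofNat 0, Int.ofNat 0, Int.ofNat 0, Int.ofNat 0, Int.negSucc 1],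
  [Int.negSucc 0, Int.negSucc 0, Int.negSucc 0, Int.ofNat 1, Int.ofNat 1, Int.ofNat 1, Int.ofNat 1, Int.negSucc 0, Int.ofNat 1, Int.ofNat 1, Int.negSucc 0, Int.negSucc 0, Int.negSucc 0, Int.negSucc 0, Int.ofNat 1, Int.negSucc 0, Int.ofNat 1, Int.negSucc 0, Int.ofNat 3, Int.ofNat 1, Int.negSucc 0, Int.ofNat 1, Int.ofNat 1, Int.ofNat 1],
  [Int.negSucc 0, Int.negSucc 0, Int.ofNat 1, Int.ofNat 1, Int.ofNat 1, Int.negSucc 0, Int.negSucc 0, Int.negSucc 0, Int.ofNat 1, Int.negSucc 0, Int.ofNat 1, Int.negSucc 0, Int.negSucc 0, Int.negSucc 0, Int.ofNat 1, Int.ofNat 1, Int.ofNat 1, Int.negSucc 0, Int.negSucc 2, Int.ofNat 1, Int.negSucc 0, Int.ofNat 1, Int.negSucc 0, Int.ofNat 1],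
  [Int.negSucc 0, Int.negSucc 0, Int.negSucc 0, Int.negSucc 0, Int.ofNat 1, Int.negSucc 0, Int.negSucc 0, Int.ofNat 1, Int.ofNat 1, Int.negSucc 0, Int.ofNat 1, Int.negSucc 2, Int.ofNat 1, Int.ofNat 1, Int.negSucc 0, Int.negSucc 0, Int.negSucc 0, Int.ofNat 1, Int.negSucc 0, Int.ofNat 1, Int.negSucc 0, Int.ofNat 1, Int.ofNat 1, Int.ofNat 1],
  [Int.negSucc 0, Int.negSucc 0, Int.ofNat 1, Int.negSucc 0, Int.ofNat 1, Int.ofNat 1, Int.ofNat 1, Int.ofNat 1, Int.ofNat 1, Int.ofNat 1, Int.negSucc 0, Int.negSucc 2, Int.ofNat 1, Int.ofNat 1, Int.negSucc 0, Int.ofNat 1, Int.negSucc 0, Int.ofNat 1, Int.ofNat 1, Int.ofNat 1, Int.negSucc 0, Int.ofNat 1, Int.negSucc 0, Int.ofNat 1],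
  [Int.ofNat 1, Int.ofNat 1, Int.negSucc 0, Int.negSucc 0, Int.ofNat 1, Int.ofNat 1, Int.negSucc 0, Int.negSucc 0, Int.ofNat 1, Int.ofNat 1, Int.negSucc 0, Int.negSucc 2, Int.ofNat 1, Int.ofNat 1, Int.negSucc 0, Int.ofNat 1, Int.negSucc 0, Int.ofNat 1, Int.ofNat 1, Int.negSucc 0, Int.negSucc 0, Int.negSucc 0, Int.negSucc 0, Int.negSucc 0],
  [Int.ofNat 1, Int.ofNat 1, Int.negSucc 0, Int.negSucc 0, Int.negSucc 0, Int.negSucc 0, Int.ofNat 1, Int.ofNat 1, Int.negSucc 0, Int.ofNat 1, Int.negSucc 0, Int.negSucc 0, Int.ofNat 1, Int.ofNat 1, Int.ofNat 1, Int.ofNat 1, Int.ofNat 1, Int.negSucc 2, Int.ofNat 1, Int.negSucc 0, Int.negSucc 0, Int.negSucc 0, Int.negSucc 0, Int.negSucc 0],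
  [Int.negSucc 0, Int.negSucc 0, Int.ofNat 1, Int.ofNat 1, Int.negSucc 0, Int.ofNat 1, Int.ofNat 1, Int.ofNat 1, Int.negSucc 0, Int.ofNat 1, Int.negSucc 0, Int.negSucc 0, Int.ofNat 1, Int.ofNat 1, Int.ofNat 3, Int.ofNat 1, Int.ofNat 1, Int.negSucc 0, Int.ofNat 1, Int.negSucc 0, Int.negSucc 0, Int.negSucc 0, Int.negSucc 0, Int.ofNat 1],
  [Int.negSucc 0, Int.negSucc 0, Int.negSucc 0, Int.negSucc 0, Int.negSucc 0, Int.ofNat 1, Int.ofNat 1, Int.negSucc 0, Int.ofNat 1, Int.ofNat 1, Int.ofNat 1, Int.negSucc 0, Int.ofNat 1, Int.negSucc 0, Int.negSucc 0, Int.ofNat 1, Int.ofNat 1, Int.ofNat 3, Int.ofNat 1, Int.ofNat 1, Int.negSucc 0, Int.ofNat 1, Int.negSucc 0, Int.ofNat 1],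
  [Int.ofNat 0, Int.ofNat 0, Int.ofNat 0, Int.negSucc 1, Int.ofNat 0, Int.ofNat 0, Int.ofNat 0, Int.negSucc 1, Int.ofNat 0, Int.ofNat 0, Int.ofNat 0, Int.negSucc 1, Int.ofNat 0, Int.ofNat 0, Int.negSucc 1, Int.ofNat 0, Int.ofNat 2, Int.ofNat 2, Int.ofNat 0, Int.ofNat 0, Int.negSucc 1, Int.ofNat 0, Int.ofNat 0, Int.negSucc 1],
  [Int.ofNat 0, Int.ofNat 0, Int.negSucc 1, Int.ofNat 0, Int.ofNat 0, Int.ofNat 0, Int.negSucc 1, Int.ofNat 0, Int.ofNat 0, Int.ofNat 0, Int.negSucc 1, Int.ofNat 0, Int.ofNat 0, Int.negSucc 1, Int.ofNat 0, Int.ofNat 2, Int.ofNat 2, Int.ofNat 0, Int.ofNat 0, Int.negSucc 1, Int.ofNat 0, Int.ofNat 0, Int.ofNat 0, Int.negSucc 1],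
  [Int.ofNat 0, Int.ofNat 0, Int.ofNat 2, Int.ofNat 0, Int.ofNat 0, Int.ofNat 0, Int.negSucc 1, Int.ofNat 0, Int.ofNat 0, Int.ofNat 0, Int.ofNat 2, Int.ofNat 0, Int.ofNat 0, Int.negSucc 1, Int.ofNat 0, Int.ofNat 2, Int.ofNat 2, Int.ofNat 0, Int.ofNat 0, Int.negSucc 1, Int.ofNat 0, Int.ofNat 0, Int.ofNat 0, Int.negSucc 1],
  [Int.ofNat 0, Int.ofNat 2, Int.ofNat 0, Int.ofNat 0, Int.ofNat 0, Int.ofNat 2, Int.ofNat 0, Int.ofNat 0, Int.ofNat 0, Int.ofNat 2, Int.ofNat 0, Int.ofNat 0, Int.negSucc 1, Int.ofNat 0, Int.negSucc 1, Int.ofNat 2, Int.ofNat 0, Int.ofNat 0, Int.negSucc 1, Int.ofNat 0, Int.ofNat 0, Int.ofNat 0, Int.ofNat 0, Int.negSucc 1],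
  [Int.ofNat 0, Int.ofNat 2, Int.ofNat 0, Int.ofNat 0, Int.ofNat 0, Int.ofNat 2, Int.ofNat 0, Int.ofNat 0, Int.ofNat 0, Int.negSucc 1, Int.ofNat 0, Int.ofNat 0, Int.negSucc 1, Int.ofNat 0, Int.negSucc 1, Int.ofNat 2, Int.ofNat 0, Int.ofNat 0, Int.ofNat 2, Int.ofNat 0, Int.ofNat 0, Int.ofNat 0, Int.ofNat 0, Int.negSucc 1],
  [Int.ofNat 0, Int.ofNat 0, Int.ofNat 2, Int.ofNat 0, Int.ofNat 0, Int.ofNat 0, Int.ofNat 2, Int.ofNat 0, Int.ofNat 0, Int.ofNat 0, Int.negSucc 1, Int.ofNat 0, Int.ofNat 0, Int.negSucc 1, Int.ofNat 0, Int.negSucc 1, Int.ofNat 2, Int.ofNat 0, Int.ofNat 0, Int.ofNat 2, Int.ofNat 0, Int.ofNat 0, Int.ofNat 0, Int.negSucc 1],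
  [Int.ofNat 0, Int.ofNat 0, Int.negSucc 1, Int.ofNat 0, Int.ofNat 0, Int.ofNat 0, Int.ofNat 0, Int.negSucc 1, Int.ofNat 0, Int.ofNat 2, Int.ofNat 0, Int.ofNat 0, Int.ofNat 0, Int.negSucc 1, Int.ofNat 0, Int.ofNat 0, Int.ofNat 2, Int.ofNat 0, Int.ofNat 0, Int.ofNat 0, Int.ofNat 2, Int.negSucc 1, Int.ofNat 0, Int.ofNat 2],
  [Int.ofNat 0, Int.ofNat 0, Int.ofNat 0, Int.ofNat 0, Int.negSucc 1, Int.ofNat 0, Int.ofNat 2, Int.ofNat 0, Int.ofNat 0, Int.ofNat 0, Int.negSucc 1, Int.ofNat 0, Int.ofNat 0, Int.ofNat 2, Int.ofNat 0, Int.ofNat 0, Int.ofNat 0, Int.ofNat 2, Int.negSucc 1, Int.ofNat 0, Int.ofNat 0, Int.ofNat 0, Int.negSucc 1, Int.ofNat 2],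
  [Int.ofNat 1, Int.ofNat 1, Int.ofNat 1, Int.negSucc 0, Int.negSucc 0, Int.negSucc 0, Int.ofNat 1, Int.negSucc 0, Int.ofNat 1, Int.ofNat 1, Int.negSucc 0, Int.ofNat 1, Int.ofNat 1, Int.ofNat 3, Int.negSucc 0, Int.ofNat 1, Int.ofNat 1, Int.ofNat 1, Int.negSucc 0, Int.negSucc 0, Int.ofNat 1, Int.negSucc 0, Int.negSucc 0, Int.negSucc 0],
  [Int.ofNat 1, Int.ofNat 1, Int.negSucc 0, Int.negSucc 0, Int.negSucc 0, Int.negSucc 0, Int.ofNat 1, Int.negSucc 0, Int.ofNat 1, Int.ofNat 3, Int.ofNat 1, Int.ofNat 1, Int.ofNat 1, Int.ofNat 1, Int.negSucc 0, Int.ofNat 1, Int.ofNat 1, Int.negSucc 0, Int.ofNat 1, Int.ofNat 1, Int.negSucc 0, Int.negSucc 0, Int.negSucc 0, Int.negSucc 0],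
  [Int.negSucc 0, Int.negSucc 0, Int.ofNat 1, Int.ofNat 1, Int.negSucc 0, Int.ofNat 1, Int.ofNat 1, Int.negSucc 0, Int.negSucc 0, Int.ofNat 1, Int.negSucc 0, Int.negSucc 0, Int.negSucc 0, Int.ofNat 1, Int.ofNat 1, Int.negSucc 0, Int.ofNat 1, Int.ofNat 1, Int.negSucc 0, Int.ofNat 1, Int.negSucc 2, Int.negSucc 0, Int.negSucc 0, Int.ofNat 1],
  [Int.negSucc 0, Int.negSucc 0, Int.negSucc 0, Int.ofNat 1, Int.negSucc 0, Int.negSucc 0, Int.negSucc 0, Int.negSucc 0, Int.negSucc 0, Int.negSucc 0, Int.ofNat 1, Int.negSucc 0, Int.negSucc 0, Int.ofNat 1, Int.ofNat 1, Int.ofNat 1, Int.ofNat 1, Int.ofNat 1, Int.ofNat 1, Int.ofNat 1, Int.negSucc 2, Int.negSucc 0, Int.ofNat 1, Int.ofNat 1],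
  [Int.ofNat 1, Int.ofNat 1, Int.negSucc 0, Int.negSucc 0, Int.ofNat 1, Int.negSucc 0, Int.negSucc 0, Int.ofNat 1, Int.negSucc 0, Int.negSucc 2, Int.ofNat 1, Int.negSucc 0, Int.ofNat 1, Int.negSucc 0, Int.ofNat 1, Int.ofNat 1, Int.ofNat 1, Int.negSucc 0, Int.negSucc 0, Int.negSucc 0, Int.negSucc 0, Int.negSucc 0, Int.ofNat 1, Int.ofNat 1],
  [Int.negSucc 0, Int.negSucc 0, Int.ofNat 1, Int.ofNat 1, Int.negSucc 0, Int.negSucc 0, Int.ofNat 1, Int.ofNat 1, Int.ofNat 1, Int.ofNat 3, Int.ofNat 1, Int.negSucc 0, Int.negSucc 0, Int.ofNat 1, Int.ofNat 1, Int.ofNat 1, Int.negSucc 0, Int.negSucc 0, Int.ofNat 1, Int.negSucc 0, Int.negSucc 0, Int.negSucc 0, Int.ofNat 1, Int.ofNat 1],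
  [Int.ofNat 1, Int.ofNat 1, Int.negSucc 0, Int.ofNat 1, Int.negSucc 0, Int.ofNat 3, Int.negSucc 0, Int.ofNat 1, Int.negSucc 0, Int.negSucc 0, Int.negSucc 0, Int.ofNat 1, Int.negSucc 0, Int.ofNat 1, Int.ofNat 1, Int.ofNat 1, Int.ofNat 1, Int.negSucc 0, Int.ofNat 1, Int.ofNat 1, Int.ofNat 1, Int.negSucc 0, Int.negSucc 0, Int.negSucc 0],
  [Int.negSucc 0, Int.ofNat 1, Int.ofNat 1, Int.ofNat 1, Int.negSucc 0, Int.ofNat 3, Int.negSucc 0, Int.negSucc 0, Int.negSucc 0, Int.ofNat 1, Int.ofNat 1, Int.negSucc 0, Int.negSucc 0, Int.ofNat 1, Int.ofNat 1, Int.ofNat 1, Int.ofNat 1, Int.negSucc 0, Int.negSucc 0, Int.ofNat 1, Int.ofNat 1, Int.ofNat 1, Int.negSucc 0, Int.negSucc 0],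
  [Int.negSucc 0, Int.negSucc 0, Int.ofNat 1, Int.ofNat 1, Int.ofNat 1, Int.negSucc 0, Int.ofNat 3, Int.negSucc 0, Int.negSucc 0, Int.negSucc 0, Int.ofNat 1, Int.ofNat 1, Int.negSucc 0, Int.negSucc 0, Int.ofNat 1, Int.ofNat 1, Int.ofNat 1, Int.ofNat 1, Int.negSucc 0, Int.negSucc 0, Int.ofNat 1, Int.ofNat 1, Int.ofNat 1, Int.negSucc 0],
  [Int.ofNat 0, Int.ofNat 0, Int.negSucc 1, Int.ofNat 0, Int.ofNat 0, Int.negSucc 1, Int.ofNat 2, Int.negSucc 1, Int.ofNat 0, Int.negSucc 1, Int.ofNat 0, Int.ofNat 2, Int.ofNat 0, Int.negSucc 1, Int.ofNat 0, Int.ofNat 0, Int.ofNat 0, Int.ofNat 0, Int.ofNat 0, Int.negSucc 1, Int.ofNat 0, Int.ofNat 0, Int.ofNat 0, Int.ofNat 0],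
  [Int.ofNat 0, Int.ofNat 0, Int.negSucc 1, Int.ofNat 2, Int.negSucc 1, Int.ofNat 0, Int.negSucc 1, Int.ofNat 0, Int.ofNat 2, Int.ofNat 0, Int.negSucc 1, Int.ofNat 0, Int.ofNat 0, Int.ofNat 0, Int.ofNat 0, Int.ofNat 0, Int.negSucc 1, Int.ofNat 0, Int.ofNat 0, Int.ofNat 0, Int.ofNat 0, Int.ofNat 0, Int.negSucc 1, Int.ofNat 0],
  [Int.negSucc 0, Int.negSucc 0, Int.ofNat 1, Int.ofNat 1, Int.ofNat 1, Int.negSucc 0, Int.negSucc 0, Int.ofNat 1, Int.ofNat 1, Int.ofNat 1, Int.negSucc 0, Int.negSucc 0, Int.negSucc 0, Int.ofNat 3, Int.negSucc 0, Int.ofNat 1, Int.ofNat 1, Int.negSucc 0, Int.negSucc 0, Int.ofNat 1, Int.ofNat 1, Int.ofNat 1, Int.ofNat 1, Int.negSucc 0],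
  [Int.negSucc 0, Int.negSucc 0, Int.ofNat 1, Int.ofNat 1, Int.negSucc 0, Int.ofNat 1, Int.ofNat 1, Int.negSucc 0, Int.negSucc 0, Int.ofNat 3, Int.ofNat 1, Int.negSucc 0, Int.ofNat 1, Int.ofNat 1, Int.ofNat 1, Int.ofNat 1, Int.ofNat 1, Int.negSucc 0, Int.negSucc 0, Int.negSucc 0, Int.ofNat 1, Int.negSucc 0, Int.ofNat 1, Int.negSucc 0],
  [Int.ofNat 0, Int.ofNat 0, Int.negSucc 1, Int.ofNat 0, Int.negSucc 1, Int.ofNat 0, Int.ofNat 2, Int.ofNat 0, Int.ofNat 0, Int.ofNat 0, Int.negSucc 1, Int.ofNat 0, Int.ofNat 2, Int.ofNat 0, Int.ofNat 0, Int.negSucc 1, Int.ofNat 0, Int.negSucc 1, Int.ofNat 0, Int.ofNat 0, Int.negSucc 1, Int.ofNat 0, Int.ofNat 0, Int.ofNat 0],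
  [Int.ofNat 0, Int.ofNat 0, Int.ofNat 2, Int.ofNat 0, Int.negSucc 1, Int.ofNat 0, Int.negSucc 1, Int.ofNat 0, Int.ofNat 0, Int.ofNat 0, Int.ofNat 2, Int.ofNat 0, Int.ofNat 2, Int.ofNat 0, Int.ofNat 0, Int.ofNat 2, Int.ofNat 0, Int.negSucc 1, Int.ofNat 0, Int.ofNat 0, Int.negSucc 1, Int.ofNat 0, Int.ofNat 0, Int.ofNat 0],
  [Int.ofNat 0, Int.ofNat 0, Int.negSucc 1, Int.ofNat 0, Int.ofNat 0, Int.ofNat 0, Int.ofNat 0, Int.ofNat 0, Int.ofNat 0, Int.ofNat 0, Int.negSucc 1, Int.ofNat 0, Int.ofNat 0, Int.ofNat 2, Int.ofNat 2, Int.ofNat 0, Int.negSucc 1, Int.ofNat 0, Int.negSucc 1, Int.ofNat 0, Int.ofNat 0, Int.ofNat 2, Int.ofNat 2, Int.ofNat 0],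
  [Int.ofNat 0, Int.ofNat 0, Int.ofNat 2, Int.ofNat 0, Int.ofNat 0, Int.ofNat 0, Int.ofNat 0, Int.ofNat 0, Int.ofNat 0, Int.ofNat 0, Int.ofNat 2, Int.ofNat 0, Int.ofNat 0, Int.ofNat 2, Int.ofNat 2, Int.ofNat 0, Int.negSucc 1, Int.ofNat 0, Int.ofNat 2, Int.ofNat 0, Int.ofNat 0, Int.ofNat 2, Int.negSucc 1, Int.ofNat 0],
  [Int.ofNat 1, Int.ofNat 1, Int.negSucc 0, Int.negSucc 0, Int.ofNat 1, Int.negSucc 0, Int.negSucc 0, Int.negSucc 0, Int.negSucc 0, Int.negSucc 0, Int.ofNat 1, Int.negSucc 0, Int.negSucc 0, Int.ofNat 3, Int.ofNat 1, Int.negSucc 0, Int.negSucc 0, Int.negSucc 0, Int.ofNat 1, Int.negSucc 0, Int.negSucc 0, Int.ofNat 1, Int.negSucc 0, Int.ofNat 1],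
  [Int.ofNat 1, Int.ofNat 1, Int.negSucc 0, Int.negSucc 0, Int.negSucc 0, Int.ofNat 1, Int.ofNat 1, Int.negSucc 0, Int.negSucc 0, Int.negSucc 0, Int.negSucc 0, Int.negSucc 0, Int.negSucc 0, Int.negSucc 0, Int.negSucc 0, Int.negSucc 0, Int.ofNat 3, Int.negSucc 0, Int.ofNat 1, Int.negSucc 0, Int.ofNat 1, Int.negSucc 0, Int.ofNat 1, Int.ofNat 1],
  [Int.ofNat 0, Int.ofNat 0, Int.ofNat 2, Int.ofNat 0, Int.negSucc 1, Int.ofNat 2, Int.ofNat 2, Int.ofNat 0, Int.ofNat 0, Int.ofNat 0, Int.ofNat 0, Int.ofNat 0, Int.ofNat 0, Int.negSucc 1, Int.ofNat 0, Int.ofNat 0, Int.ofNat 2, Int.ofNat 0, Int.ofNat 2, Int.ofNat 0, Int.ofNat 2, Int.ofNat 0, Int.ofNat 0, Int.ofNat 0],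
  [Int.ofNat 2, Int.ofNat 0, Int.ofNat 0, Int.ofNat 0, Int.ofNat 0, Int.ofNat 2, Int.ofNat 0, Int.negSucc 1, Int.ofNat 2, Int.ofNat 2, Int.ofNat 0, Int.ofNat 0, Int.ofNat 0, Int.ofNat 0, Int.ofNat 0, Int.ofNat 0, Int.negSucc 1, Int.ofNat 0, Int.ofNat 0, Int.ofNat 2, Int.ofNat 0, Int.ofNat 2, Int.ofNat 0, Int.ofNat 0],
  [Int.negSucc 0, Int.ofNat 1, Int.ofNat 1, Int.negSucc 0, Int.ofNat 1, Int.ofNat 1, Int.negSucc 0, Int.negSucc 2, Int.ofNat 1, Int.ofNat 1, Int.negSucc 0, Int.negSucc 0, Int.negSucc 0, Int.ofNat 1, Int.negSucc 0, Int.negSucc 0, Int.negSucc 0, Int.negSucc 0, Int.negSucc 0, Int.ofNat 1, Int.negSucc 0, Int.ofNat 1, Int.ofNat 1, Int.ofNat 1],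
  [Int.ofNat 1, Int.ofNat 1, Int.negSucc 0, Int.ofNat 1, Int.ofNat 1, Int.negSucc 0, Int.negSucc 2, Int.ofNat 1, Int.ofNat 1, Int.negSucc 0, Int.negSucc 0, Int.negSucc 0, Int.ofNat 1, Int.negSucc 0, Int.negSucc 0, Int.negSucc 0, Int.negSucc 0, Int.negSucc 0, Int.ofNat 1, Int.negSucc 0, Int.ofNat 1, Int.ofNat 1, Int.negSucc 0, Int.ofNat 1],
  [Int.negSucc 0, Int.ofNat 1, Int.ofNat 1, Int.ofNat 1, Int.ofNat 1, Int.negSucc 0, Int.negSucc 2, Int.negSucc 0, Int.ofNat 1, Int.ofNat 1, Int.ofNat 1, Int.ofNat 1, Int.ofNat 1, Int.negSucc 0, Int.negSucc 0, Int.negSucc 0, Int.negSucc 0, Int.negSucc 0, Int.negSucc 0, Int.negSucc 0, Int.ofNat 1, Int.negSucc 0, Int.negSucc 0, Int.ofNat 1],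
  [Int.negSucc 0, Int.ofNat 1, Int.negSucc 0, Int.ofNat 1, Int.ofNat 1, Int.ofNat 1, Int.ofNat 1, Int.ofNat 1, Int.ofNat 1, Int.negSucc 0, Int.negSucc 0, Int.negSucc 0, Int.negSucc 0, Int.ofNat 1, Int.negSucc 0, Int.negSucc 0, Int.ofNat 1, Int.negSucc 0, Int.negSucc 2, Int.negSucc 0, Int.negSucc 0, Int.negSucc 0, Int.ofNat 1, Int.ofNat 1],
  [Int.ofNat 1, Int.ofNat 1, Int.ofNat 1, Int.ofNat 1, Int.ofNat 1, Int.ofNat 1, Int.ofNat 1, Int.negSucc 0, Int.ofNat 1, Int.ofNat 1, Int.ofNat 1, Int.ofNat 1, Int.negSucc 0, Int.ofNat 1, Int.negSucc 0, Int.negSucc 0, Int.ofNat 1, Int.negSucc 0, Int.ofNat 3, Int.negSucc 0, Int.negSucc 0, Int.ofNat 1, Int.ofNat 1, Int.ofNat 1],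
  [Int.ofNat 1, Int.ofNat 1, Int.ofNat 1, Int.ofNat 1, Int.ofNat 1, Int.ofNat 1, Int.ofNat 1, Int.ofNat 1, Int.negSucc 0, Int.ofNat 1, Int.ofNat 1, Int.ofNat 1, Int.ofNat 1, Int.negSucc 0, Int.ofNat 1, Int.negSucc 0, Int.negSucc 0, Int.ofNat 1, Int.negSucc 0, Int.ofNat 3, Int.negSucc 0, Int.negSucc 0, Int.ofNat 1, Int.ofNat 1],
  [Int.ofNat 1, Int.ofNat 1, Int.ofNat 1, Int.negSucc 0, Int.ofNat 1, Int.negSucc 0, Int.negSucc 0, Int.negSucc 0, Int.negSucc 0, Int.ofNat 1, Int.ofNat 1, Int.ofNat 1, Int.ofNat 1, Int.negSucc 0, Int.negSucc 0, Int.negSucc 0, Int.negSucc 0, Int.negSucc 0, Int.negSucc 0, Int.ofNat 1, Int.negSucc 0, Int.negSucc 2, Int.ofNat 1, Int.ofNat 1],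
  [Int.negSucc 0, Int.ofNat 1, Int.negSucc 0, Int.negSucc 0, Int.negSucc 0, Int.negSucc 0, Int.ofNat 1, Int.ofNat 1, Int.ofNat 1, Int.ofNat 1, Int.negSucc 0, Int.negSucc 0, Int.negSucc 0, Int.negSucc 0, Int.negSucc 0, Int.negSucc 0, Int.ofNat 1, Int.negSucc 0, Int.negSucc 2, Int.ofNat 1, Int.ofNat 1, Int.ofNat 1, Int.ofNat 1, Int.ofNat 1],
  [Int.ofNat 1, Int.negSucc 0, Int.ofNat 1, Int.ofNat 1, Int.negSucc 0, Int.ofNat 1, Int.negSucc 0, Int.negSucc 0, Int.ofNat 3, Int.ofNat 1, Int.negSucc 0, Int.ofNat 1, Int.ofNat 1, Int.negSucc 0, Int.ofNat 1, Int.negSucc 0, Int.ofNat 1, Int.ofNat 1, Int.negSucc 0, Int.negSucc 0, Int.ofNat 1, Int.negSucc 0, Int.ofNat 1, Int.negSucc 0],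
  [Int.ofNat 1, Int.negSucc 0, Int.negSucc 0, Int.ofNat 1, Int.negSucc 0, Int.negSucc 0, Int.ofNat 1, Int.negSucc 0, Int.ofNat 1, Int.negSucc 0, Int.ofNat 1, Int.ofNat 1, Int.ofNat 1, Int.ofNat 1, Int.ofNat 1, Int.negSucc 0, Int.ofNat 3, Int.ofNat 1, Int.negSucc 0, Int.ofNat 1, Int.negSucc 0, Int.ofNat 1, Int.negSucc 0, Int.negSucc 0],
  [Int.negSucc 1, Int.ofNat 0, Int.ofNat 0, Int.ofNat 0, Int.negSucc 1, Int.negSucc 1, Int.ofNat 0, Int.negSucc 1, Int.ofNat 0, Int.ofNat 0, Int.ofNat 2, Int.ofNat 0, Int.ofNat 0, Int.ofNat 0, Int.ofNat 0, Int.ofNat 0, Int.ofNat 2, Int.ofNat 0, Int.negSucc 1, Int.ofNat 0, Int.ofNat 0, Int.ofNat 0, Int.negSucc 1, Int.ofNat 0],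
  [Int.negSucc 1, Int.ofNat 0, Int.ofNat 0, Int.ofNat 0, Int.negSucc 1, Int.ofNat 2, Int.ofNat 0, Int.negSucc 1, Int.ofNat 0, Int.ofNat 0, Int.negSucc 1, Int.ofNat 0, Int.ofNat 0, Int.ofNat 0, Int.ofNat 0, Int.ofNat 0, Int.ofNat 2, Int.ofNat 0, Int.ofNat 2, Int.ofNat 0, Int.ofNat 0, Int.ofNat 0, Int.ofNat 2, Int.ofNat 0],
  [Int.negSucc 1, Int.ofNat 2, Int.ofNat 0, Int.ofNat 0, Int.ofNat 0, Int.ofNat 0, Int.ofNat 0, Int.ofNat 0, Int.ofNat 2, Int.ofNat 0, Int.ofNat 0, Int.negSucc 1, Int.ofNat 0, Int.negSucc 1, Int.ofNat 0, Int.ofNat 2, Int.ofNat 0, Int.ofNat 0, Int.ofNat 0, Int.ofNat 0, Int.negSucc 1, Int.ofNat 0, Int.ofNat 2, Int.ofNat 0],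
  [Int.ofNat 2, Int.negSucc 1, Int.ofNat 0, Int.ofNat 0, Int.ofNat 0, Int.ofNat 0, Int.ofNat 0, Int.ofNat 0, Int.negSucc 1, Int.ofNat 0, Int.ofNat 0, Int.negSucc 1, Int.ofNat 0, Int.ofNat 2, Int.ofNat 0, Int.ofNat 2, Int.ofNat 0, Int.ofNat 0, Int.ofNat 0, Int.ofNat 0, Int.negSucc 1, Int.ofNat 0, Int.ofNat 2, Int.ofNat 0],
  [Int.ofNat 0, Int.ofNat 2, Int.negSucc 1, Int.ofNat 2, Int.ofNat 0, Int.ofNat 0, Int.ofNat 0, Int.ofNat 2, Int.negSucc 1, Int.ofNat 0, Int.ofNat 0, Int.ofNat 0, Int.ofNat 0, Int.ofNat 0, Int.ofNat 0, Int.ofNat 0, Int.ofNat 0, Int.ofNat 0, Int.ofNat 0, Int.ofNat 0, Int.negSucc 1, Int.ofNat 0, Int.negSucc 1, Int.ofNat 2],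
  [Int.ofNat 0, Int.ofNat 2, Int.ofNat 2, Int.ofNat 2, Int.ofNat 0, Int.ofNat 0, Int.ofNat 0, Int.negSucc 1, Int.negSucc 1, Int.ofNat 0, Int.ofNat 0, Int.ofNat 0, Int.ofNat 0, Int.ofNat 0, Int.ofNat 0, Int.ofNat 0, Int.ofNat 0, Int.ofNat 0, Int.ofNat 0, Int.ofNat 0, Int.negSucc 1, Int.ofNat 0, Int.negSucc 1, Int.ofNat 2],
  [Int.negSucc 1, Int.ofNat 0, Int.ofNat 2, Int.ofNat 2, Int.ofNat 2, Int.ofNat 0, Int.ofNat 0, Int.ofNat 0, Int.negSucc 1, Int.negSucc 1, Int.ofNat 0, Int.ofNat 0, Int.ofNat 0, Int.ofNat 0, Int.ofNat 0, Int.ofNat 0, Int.ofNat 0, Int.ofNat 0, Int.ofNat 0, Int.ofNat 0, Int.ofNat 0, Int.negSucc 1, Int.ofNat 0, Int.ofNat 2],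
  [Int.ofNat 3, Int.ofNat 1, Int.negSucc 0, Int.ofNat 1, Int.ofNat 1, Int.negSucc 0, Int.ofNat 1, Int.ofNat 1, Int.negSucc 0, Int.negSucc 0, Int.ofNat 1, Int.ofNat 1, Int.ofNat 1, Int.negSucc 0, Int.negSucc 0, Int.ofNat 1, Int.negSucc 0, Int.negSucc 0, Int.ofNat 1, Int.ofNat 1, Int.ofNat 1, Int.negSucc 0, Int.negSucc 0, Int.negSucc 0],
  [Int.ofNat 1, Int.ofNat 1, Int.negSucc 0, Int.ofNat 1, Int.ofNat 1, Int.negSucc 0, Int.negSucc 0, Int.ofNat 1, Int.ofNat 1, Int.ofNat 1, Int.negSucc 0, Int.negSucc 0, Int.ofNat 1, Int.negSucc 0, Int.negSucc 0, Int.ofNat 1, Int.ofNat 1, Int.ofNat 1, Int.negSucc 0, Int.negSucc 0, Int.ofNat 3, Int.ofNat 1, Int.negSucc 0, Int.negSucc 0],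
  [Int.negSucc 0, Int.negSucc 0, Int.ofNat 1, Int.ofNat 1, Int.ofNat 1, Int.negSucc 0, Int.negSucc 0, Int.ofNat 1, Int.ofNat 1, Int.negSucc 0, Int.negSucc 2, Int.negSucc 0, Int.ofNat 1, Int.negSucc 0, Int.negSucc 0, Int.negSucc 0, Int.ofNat 1, Int.ofNat 1, Int.negSucc 0, Int.negSucc 0, Int.ofNat 1, Int.ofNat 1, Int.negSucc 0, Int.ofNat 1],
  [Int.negSucc 0, Int.negSucc 0, Int.ofNat 1, Int.ofNat 1, Int.negSucc 0, Int.ofNat 1, Int.ofNat 1, Int.negSucc 2, Int.ofNat 1, Int.negSucc 0, Int.ofNat 1, Int.ofNat 1, Int.negSucc 0, Int.ofNat 1, Int.negSucc 0, Int.negSucc 0, Int.ofNat 1, Int.negSucc 0, Int.negSucc 0, Int.negSucc 0, Int.ofNat 1, Int.negSucc 0, Int.negSucc 0, Int.ofNat 1],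
  [Int.ofNat 1, Int.ofNat 1, Int.negSucc 0, Int.ofNat 1, Int.negSucc 0, Int.ofNat 1, Int.ofNat 3, Int.negSucc 0, Int.ofNat 1, Int.negSucc 0, Int.ofNat 1, Int.ofNat 1, Int.negSucc 0, Int.ofNat 1, Int.negSucc 0, Int.negSucc 0, Int.ofNat 1, Int.negSucc 0, Int.negSucc 0, Int.ofNat 1, Int.ofNat 1, Int.ofNat 1, Int.negSucc 0, Int.negSucc 0],
  [Int.ofNat 1, Int.ofNat 1, Int.ofNat 1, Int.ofNat 1, Int.negSucc 0, Int.negSucc 0, Int.negSucc 2, Int.negSucc 0, Int.ofNat 1, Int.ofNat 1, Int.negSucc 0, Int.ofNat 1, Int.negSucc 0, Int.ofNat 1, Int.negSucc 0, Int.ofNat 1, Int.ofNat 1, Int.negSucc 0, Int.ofNat 1, Int.ofNat 1, Int.ofNat 1, Int.ofNat 1, Int.ofNat 1, Int.negSucc 0],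
  [Int.ofNat 1, Int.negSucc 0, Int.ofNat 1, Int.ofNat 1, Int.ofNat 1, Int.ofNat 1, Int.ofNat 1, Int.ofNat 1, Int.ofNat 1, Int.negSucc 0, Int.negSucc 0, Int.ofNat 1, Int.ofNat 1, Int.negSucc 0, Int.negSucc 0, Int.ofNat 1, Int.negSucc 0, Int.negSucc 0, Int.negSucc 2, Int.ofNat 1, Int.ofNat 1, Int.ofNat 1, Int.ofNat 1, Int.negSucc 0],
  [Int.ofNat 1, Int.negSucc 0, Int.negSucc 0, Int.ofNat 1, Int.ofNat 1, Int.negSucc 0, Int.negSucc 0, Int.ofNat 1, Int.ofNat 1, Int.ofNat 1, Int.ofNat 1, Int.ofNat 1, Int.ofNat 1, Int.negSucc 0, Int.negSucc 0, Int.negSucc 0, Int.negSucc 0, Int.negSucc 0, Int.ofNat 3, Int.ofNat 1, Int.ofNat 1, Int.ofNat 1, Int.negSucc 0, Int.negSucc 0],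
  [Int.negSucc 1, Int.ofNat 0, Int.ofNat 0, Int.ofNat 2, Int.ofNat 2, Int.ofNat 0, Int.negSucc 1, Int.ofNat 0, Int.negSucc 1, Int.ofNat 0, Int.ofNat 0, Int.negSucc 1, Int.negSucc 1, Int.ofNat 0, Int.ofNat 0, Int.negSucc 1, Int.ofNat 0, Int.ofNat 0, Int.ofNat 0, Int.ofNat 0, Int.ofNat 0, Int.ofNat 0, Int.ofNat 0, Int.ofNat 0],
  [Int.negSucc 1, Int.ofNat 0, Int.negSucc 1, Int.ofNat 2, Int.ofNat 0, Int.ofNat 0, Int.ofNat 0, Int.ofNat 0, Int.ofNat 0, Int.negSucc 1, Int.ofNat 0, Int.ofNat 0, Int.negSucc 1, Int.ofNat 0, Int.ofNat 0, Int.negSucc 1, Int.ofNat 0, Int.negSucc 1, Int.ofNat 2, Int.ofNat 0, Int.ofNat 0, Int.ofNat 0, Int.ofNat 0, Int.ofNat 0],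
  [Int.ofNat 0, Int.negSucc 1, Int.ofNat 0, Int.ofNat 2, Int.ofNat 0, Int.ofNat 0, Int.ofNat 0, Int.ofNat 0, Int.ofNat 0, Int.ofNat 0, Int.ofNat 2, Int.ofNat 0, Int.negSucc 1, Int.ofNat 0, Int.ofNat 0, Int.ofNat 0, Int.ofNat 0, Int.negSucc 1, Int.ofNat 2, Int.ofNat 0, Int.ofNat 2, Int.ofNat 0, Int.ofNat 0, Int.negSucc 1],
  [Int.ofNat 2, Int.ofNat 0, Int.ofNat 0, Int.ofNat 0, Int.negSucc 1, Int.ofNat 0, Int.ofNat 2, Int.ofNat 0, Int.ofNat 0, Int.ofNat 0, Int.ofNat 0, Int.ofNat 0, Int.ofNat 0, Int.ofNat 2, Int.ofNat 0, Int.negSucc 1, Int.ofNat 0, Int.ofNat 0, Int.ofNat 0, Int.ofNat 0, Int.negSucc 1, Int.ofNat 2, Int.ofNat 0, Int.negSucc 1],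
  [Int.negSucc 1, Int.ofNat 0, Int.ofNat 0, Int.ofNat 0, Int.negSucc 1, Int.ofNat 0, Int.ofNat 0, Int.negSucc 1, Int.ofNat 0, Int.ofNat 2, Int.ofNat 2, Int.ofNat 0, Int.ofNat 0, Int.ofNat 2, Int.ofNat 0, Int.ofNat 0, Int.ofNat 0, Int.ofNat 0, Int.ofNat 0, Int.negSucc 1, Int.ofNat 0, Int.ofNat 0, Int.ofNat 0, Int.ofNat 2],
  [Int.ofNat 0, Int.ofNat 0, Int.ofNat 0, Int.negSucc 1, Int.ofNat 0, Int.ofNat 0, Int.negSucc 1, Int.ofNat 0, Int.ofNat 2, Int.ofNat 2, Int.ofNat 0, Int.ofNat 0, Int.ofNat 2, Int.ofNat 0, Int.ofNat 0, Int.ofNat 0, Int.ofNat 0, Int.ofNat 0, Int.negSucc 1, Int.ofNat 0, Int.ofNat 0, Int.ofNat 0, Int.negSucc 1, Int.ofNat 2],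
  [Int.ofNat 0, Int.ofNat 0, Int.ofNat 0, Int.negSucc 1, Int.ofNat 0, Int.ofNat 0, Int.negSucc 1, Int.ofNat 0, Int.ofNat 2, Int.negSucc 1, Int.ofNat 0, Int.ofNat 0, Int.ofNat 2, Int.ofNat 0, Int.ofNat 0, Int.ofNat 0, Int.ofNat 0, Int.ofNat 0, Int.ofNat 2, Int.ofNat 0, Int.ofNat 0, Int.ofNat 0, Int.negSucc 1, Int.ofNat 2],
  [Int.ofNat 0, Int.ofNat 0, Int.ofNat 2, Int.negSucc 1, Int.ofNat 0, Int.ofNat 0, Int.ofNat 0, Int.ofNat 0, Int.negSucc 1, Int.ofNat 0, Int.ofNat 0, Int.ofNat 0, Int.ofNat 0, Int.ofNat 2, Int.ofNat 0, Int.ofNat 0, Int.ofNat 2, Int.negSucc 1, Int.negSucc 1, Int.ofNat 0, Int.ofNat 0, Int.ofNat 0, Int.ofNat 0, Int.ofNat 2],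
  [Int.ofNat 0, Int.ofNat 0, Int.negSucc 1, Int.negSucc 1, Int.ofNat 0, Int.ofNat 0, Int.ofNat 0, Int.ofNat 0, Int.negSucc 1, Int.ofNat 0, Int.ofNat 0, Int.ofNat 0, Int.ofNat 0, Int.ofNat 2, Int.ofNat 0, Int.ofNat 0, Int.ofNat 2, Int.negSucc 1, Int.ofNat 2, Int.ofNat 0, Int.ofNat 0, Int.ofNat 0, Int.ofNat 0, Int.ofNat 2],
  [Int.ofNat 0, Int.ofNat 0, Int.ofNat 0, Int.negSucc 1, Int.negSucc 1, Int.ofNat 0, Int.ofNat 0, Int.ofNat 0, Int.ofNat 0, Int.negSucc 1, Int.ofNat 0, Int.ofNat 0, Int.ofNat 0, Int.ofNat 0, Int.ofNat 2, Int.ofNat 0, Int.ofNat 0, Int.ofNat 2, Int.negSucc 1, Int.ofNat 2, Int.ofNat 0, Int.ofNat 0, Int.ofNat 0, Int.ofNat 2],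
  [Int.ofNat 1, Int.ofNat 1, Int.ofNat 1, Int.negSucc 2, Int.negSucc 0, Int.negSucc 0, Int.negSucc 0, Int.negSucc 0, Int.ofNat 1, Int.negSucc 0, Int.ofNat 1, Int.ofNat 1, Int.ofNat 1, Int.ofNat 1, Int.ofNat 1, Int.ofNat 1, Int.ofNat 1, Int.ofNat 1, Int.negSucc 0, Int.ofNat 1, Int.ofNat 1, Int.negSucc 0, Int.ofNat 1, Int.negSucc 0],
  [Int.negSucc 2, Int.negSucc 0, Int.negSucc 0, Int.negSucc 0, Int.negSucc 0, Int.ofNat 1, Int.negSucc 0, Int.ofNat 1, Int.ofNat 1, Int.ofNat 1, Int.ofNat 1, Int.ofNat 1, Int.ofNat 1, Int.ofNat 1, Int.ofNat 1, Int.negSucc 0, Int.ofNat 1, Int.ofNat 1, Int.negSucc 0, Int.ofNat 1, Int.ofNat 1, Int.ofNat 1, Int.ofNat 1, Int.negSucc 0],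
  [Int.ofNat 0, Int.negSucc 1, Int.negSucc 1, Int.negSucc 1, Int.negSucc 1, Int.ofNat 0, Int.negSucc 1, Int.ofNat 0, Int.ofNat 0, Int.ofNat 0, Int.ofNat 0, Int.ofNat 0, Int.ofNat 0, Int.ofNat 0, Int.ofNat 0, Int.negSucc 1, Int.ofNat 0, Int.ofNat 0, Int.negSucc 1, Int.ofNat 0, Int.ofNat 0, Int.ofNat 0, Int.ofNat 0, Int.negSucc 1],
  [Int.ofNat 0, Int.negSucc 1, Int.negSucc 1, Int.negSucc 1, Int.negSucc 1, Int.ofNat 0, Int.negSucc 1, Int.ofNat 0, Int.ofNat 0, Int.ofNat 0, Int.ofNat 0, Int.ofNat 0, Int.ofNat 0, Int.ofNat 0, Int.ofNat 0, Int.negSucc 1, Int.ofNat 0, Int.ofNat 0, Int.negSucc 1, Int.ofNat 0, Int.ofNat 0, Int.ofNat 0, Int.ofNat 0, Int.negSucc 1],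
  [Int.negSucc 2, Int.negSucc 0, Int.negSucc 0, Int.negSucc 0, Int.negSucc 0, Int.ofNat 1, Int.negSucc 0, Int.ofNat 1, Int.ofNat 1, Int.ofNat 1, Int.ofNat 1, Int.ofNat 1, Int.ofNat 1, Int.ofNat 1, Int.ofNat 1, Int.negSucc 0, Int.ofNat 1, Int.ofNat 1, Int.negSucc 0, Int.ofNat 1, Int.ofNat 1, Int.ofNat 1, Int.ofNat 1, Int.negSucc 0],
  [Int.negSucc 2, Int.negSucc 0, Int.ofNat 1, Int.negSucc 0, Int.negSucc 0, Int.negSucc 0, Int.ofNat 1, Int.ofNat 1, Int.ofNat 1, Int.negSucc 0, Int.negSucc 0, Int.ofNat 1, Int.ofNat 1, Int.ofNat 1, Int.ofNat 1, Int.ofNat 1, Int.ofNat 1, Int.ofNat 1, Int.ofNat 1, Int.ofNat 1, Int.ofNat 1, Int.ofNat 1, Int.negSucc 0, Int.negSucc 0],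
  [Int.negSucc 0, Int.ofNat 1, Int.ofNat 1, Int.ofNat 1, Int.ofNat 1, Int.ofNat 1, Int.ofNat 1, Int.negSucc 0, Int.negSucc 0, Int.ofNat 1, Int.ofNat 1, Int.ofNat 1, Int.ofNat 1, Int.negSucc 0, Int.ofNat 1, Int.ofNat 1, Int.ofNat 1, Int.ofNat 1, Int.negSucc 0, Int.ofNat 1, Int.negSucc 2, Int.negSucc 0, Int.negSucc 0, Int.negSucc 0],
  [Int.ofNat 1, Int.negSucc 0, Int.negSucc 0, Int.negSucc 0, Int.negSucc 0, Int.ofNat 1, Int.negSucc 0, Int.negSucc 0, Int.ofNat 1, Int.negSucc 0, Int.ofNat 1, Int.ofNat 1, Int.negSucc 0, Int.ofNat 1, Int.ofNat 1, Int.ofNat 1, Int.negSucc 0, Int.ofNat 1, Int.ofNat 1, Int.ofNat 1, Int.negSucc 2, Int.negSucc 0, Int.negSucc 0, Int.negSucc 0],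
  [Int.negSucc 0, Int.negSucc 0, Int.ofNat 1, Int.ofNat 1, Int.ofNat 1, Int.negSucc 0, Int.ofNat 1, Int.ofNat 1, Int.negSucc 2, Int.ofNat 1, Int.negSucc 0, Int.negSucc 0, Int.negSucc 0, Int.negSucc 0, Int.ofNat 1, Int.negSucc 0, Int.ofNat 1, Int.negSucc 0, Int.ofNat 1, Int.negSucc 0, Int.ofNat 1, Int.negSucc 0, Int.negSucc 0, Int.ofNat 1],
  [Int.ofNat 1, Int.negSucc 0, Int.negSucc 0, Int.ofNat 1, Int.ofNat 1, Int.negSucc 0, Int.ofNat 1, Int.negSucc 0, Int.negSucc 2, Int.negSucc 0, Int.ofNat 1, Int.ofNat 1, Int.negSucc 0, Int.negSucc 0, Int.ofNat 1, Int.negSucc 0, Int.ofNat 1, Int.negSucc 0, Int.negSucc 0, Int.negSucc 0, Int.ofNat 1, Int.ofNat 1, Int.negSucc 0, Int.ofNat 1],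
  [Int.negSucc 0, Int.ofNat 1, Int.negSucc 0, Int.negSucc 0, Int.ofNat 1, Int.ofNat 1, Int.negSucc 0, Int.ofNat 1, Int.negSucc 0, Int.negSucc 2, Int.negSucc 0, Int.ofNat 1, Int.ofNat 1, Int.negSucc 0, Int.negSucc 0, Int.ofNat 1, Int.negSucc 0, Int.ofNat 1, Int.negSucc 0, Int.negSucc 0, Int.negSucc 0, Int.ofNat 1, Int.ofNat 1, Int.ofNat 1],
  [Int.ofNat 1, Int.negSucc 0, Int.ofNat 1, Int.negSucc 0, Int.ofNat 1, Int.ofNat 1, Int.negSucc 0, Int.ofNat 1, Int.negSucc 0, Int.negSucc 0, Int.ofNat 1, Int.ofNat 1, Int.ofNat 1, Int.negSucc 0, Int.negSucc 0, Int.ofNat 3, Int.negSucc 0, Int.ofNat 1, Int.negSucc 0, Int.negSucc 0, Int.ofNat 1, Int.ofNat 1, Int.ofNat 1, Int.negSucc 0],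
  [Int.negSucc 0, Int.ofNat 1, Int.ofNat 1, Int.negSucc 0, Int.ofNat 1, Int.negSucc 0, Int.negSucc 0, Int.ofNat 1, Int.ofNat 1, Int.ofNat 1, Int.negSucc 0, Int.negSucc 0, Int.ofNat 3, Int.negSucc 0, Int.ofNat 1, Int.negSucc 0, Int.negSucc 0, Int.ofNat 1, Int.ofNat 1, Int.ofNat 1, Int.ofNat 1, Int.negSucc 0, Int.ofNat 1, Int.negSucc 0],
  [Int.ofNat 1, Int.negSucc 0, Int.negSucc 0, Int.negSucc 0, Int.ofNat 1, Int.negSucc 0, Int.negSucc 0, Int.ofNat 1, Int.negSucc 0, Int.ofNat 1, Int.negSucc 0, Int.negSucc 2, Int.ofNat 1, Int.negSucc 0, Int.ofNat 1, Int.negSucc 0, Int.negSucc 0, Int.ofNat 1, Int.negSucc 0, Int.ofNat 1, Int.ofNat 1, Int.negSucc 0, Int.ofNat 1, Int.ofNat 1],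
  [Int.ofNat 1, Int.negSucc 0, Int.ofNat 1, Int.negSucc 0, Int.negSucc 0, Int.ofNat 1, Int.negSucc 0, Int.negSucc 0, Int.ofNat 1, Int.negSucc 0, Int.ofNat 1, Int.ofNat 1, Int.ofNat 1, Int.negSucc 0, Int.ofNat 1, Int.negSucc 0, Int.negSucc 0, Int.ofNat 1, Int.negSucc 0, Int.negSucc 2, Int.negSucc 0, Int.negSucc 0, Int.ofNat 1, Int.ofNat 1],
  [Int.ofNat 0, Int.ofNat 2, Int.ofNat 0, Int.negSucc 1, Int.ofNat 0, Int.ofNat 0, Int.ofNat 2, Int.ofNat 2, Int.ofNat 0, Int.ofNat 0, Int.ofNat 2, Int.ofNat 0, Int.ofNat 0, Int.ofNat 0, Int.ofNat 0, Int.ofNat 0, Int.ofNat 0, Int.ofNat 0, Int.negSucc 1, Int.ofNat 0, Int.ofNat 0, Int.ofNat 2, Int.ofNat 2, Int.ofNat 0],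
  [Int.ofNat 0, Int.ofNat 2, Int.ofNat 0, Int.negSucc 1, Int.ofNat 0, Int.ofNat 0, Int.negSucc 1, Int.ofNat 2, Int.ofNat 0, Int.ofNat 0, Int.negSucc 1, Int.ofNat 0, Int.ofNat 0, Int.ofNat 0, Int.ofNat 0, Int.ofNat 0, Int.ofNat 0, Int.ofNat 0, Int.ofNat 2, Int.ofNat 0, Int.ofNat 0, Int.ofNat 2, Int.negSucc 1, Int.ofNat 0],
  [Int.ofNat 0, Int.ofNat 2, Int.ofNat 0, Int.ofNat 0, Int.ofNat 0, Int.ofNat 2, Int.ofNat 0, Int.ofNat 0, Int.ofNat 0, Int.ofNat 0, Int.ofNat 0, Int.ofNat 2, Int.negSucc 1, Int.negSucc 1, Int.ofNat 0, Int.ofNat 0, Int.ofNat 0, Int.ofNat 0, Int.negSucc 1, Int.ofNat 2, Int.negSucc 1, Int.ofNat 0, Int.ofNat 0, Int.ofNat 0],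
  [Int.ofNat 0, Int.ofNat 2, Int.ofNat 0, Int.ofNat 0, Int.ofNat 0, Int.negSucc 1, Int.ofNat 0, Int.ofNat 0, Int.ofNat 0, Int.ofNat 0, Int.ofNat 0, Int.ofNat 2, Int.negSucc 1, Int.negSucc 1, Int.ofNat 0, Int.ofNat 0, Int.ofNat 0, Int.ofNat 0, Int.ofNat 2, Int.ofNat 2, Int.negSucc 1, Int.ofNat 0, Int.ofNat 0, Int.ofNat 0],
  [Int.ofNat 1, Int.negSucc 0, Int.ofNat 1, Int.ofNat 1, Int.ofNat 1, Int.negSucc 0, Int.negSucc 0, Int.negSucc 0, Int.negSucc 0, Int.ofNat 1, Int.ofNat 1, Int.ofNat 1, Int.negSucc 2, Int.negSucc 0, Int.ofNat 1, Int.ofNat 1, Int.ofNat 1, Int.ofNat 1, Int.ofNat 1, Int.ofNat 1, Int.negSucc 0, Int.negSucc 0, Int.ofNat 1, Int.ofNat 1],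
  [Int.ofNat 1, Int.ofNat 1, Int.negSucc 0, Int.ofNat 1, Int.ofNat 1, Int.negSucc 0, Int.negSucc 0, Int.negSucc 0, Int.ofNat 1, Int.negSucc 2, Int.negSucc 0, Int.ofNat 1, Int.negSucc 0, Int.ofNat 1, Int.ofNat 1, Int.ofNat 1, Int.negSucc 0, Int.ofNat 1, Int.ofNat 1, Int.ofNat 1, Int.ofNat 1, Int.negSucc 0, Int.ofNat 1, Int.ofNat 1],
  [Int.ofNat 0, Int.ofNat 0, Int.ofNat 2, Int.ofNat 0, Int.ofNat 0, Int.negSucc 1, Int.ofNat 0, Int.ofNat 0, Int.ofNat 0, Int.negSucc 1, Int.ofNat 0, Int.ofNat 0, Int.negSucc 1, Int.ofNat 0, Int.ofNat 0, Int.ofNat 2, Int.negSucc 1, Int.ofNat 0, Int.ofNat 0, Int.ofNat 2, Int.ofNat 2, Int.ofNat 0, Int.ofNat 0, Int.ofNat 0],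
  [Int.ofNat 2, Int.ofNat 0, Int.ofNat 0, Int.ofNat 0, Int.ofNat 0, Int.ofNat 2, Int.ofNat 0, Int.ofNat 0, Int.negSucc 1, Int.ofNat 0, Int.ofNat 0, Int.ofNat 0, Int.negSucc 1, Int.ofNat 0, Int.ofNat 0, Int.negSucc 1, Int.ofNat 0, Int.ofNat 0, Int.ofNat 2, Int.negSucc 1, Int.ofNat 0, Int.ofNat 0, Int.ofNat 2, Int.ofNat 0],
  [Int.negSucc 0, Int.ofNat 1, Int.ofNat 1, Int.negSucc 0, Int.negSucc 0, Int.ofNat 1, Int.ofNat 1, Int.ofNat 1, Int.negSucc 0, Int.ofNat 1, Int.ofNat 1, Int.ofNat 1, Int.negSucc 0, Int.negSucc 0, Int.negSucc 0, Int.negSucc 0, Int.negSucc 0, Int.negSucc 0, Int.ofNat 3, Int.negSucc 0, Int.ofNat 1, Int.ofNat 1, Int.ofNat 1, Int.ofNat 1],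
  [Int.ofNat 1, Int.ofNat 1, Int.negSucc 0, Int.negSucc 0, Int.ofNat 1, Int.ofNat 1, Int.ofNat 1, Int.negSucc 0, Int.ofNat 1, Int.ofNat 1, Int.ofNat 1, Int.negSucc 0, Int.negSucc 0, Int.negSucc 0, Int.negSucc 0, Int.negSucc 0, Int.negSucc 0, Int.ofNat 3, Int.negSucc 0, Int.ofNat 1, Int.ofNat 1, Int.ofNat 1, Int.negSucc 0, Int.ofNat 1],
  [Int.negSucc 0, Int.ofNat 1, Int.ofNat 1, Int.negSucc 0, Int.ofNat 1, Int.ofNat 1, Int.ofNat 1, Int.ofNat 1, Int.ofNat 1, Int.negSucc 0, Int.negSucc 0, Int.ofNat 1, Int.negSucc 0, Int.negSucc 0, Int.negSucc 0, Int.negSucc 0, Int.negSucc 0, Int.ofNat 3, Int.ofNat 1, Int.ofNat 1, Int.ofNat 1, Int.negSucc 0, Int.negSucc 0, Int.ofNat 1],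
  [Int.negSucc 0, Int.ofNat 1, Int.ofNat 1, Int.negSucc 0, Int.ofNat 1, Int.negSucc 0, Int.ofNat 1, Int.ofNat 1, Int.negSucc 0, Int.negSucc 0, Int.negSucc 0, Int.negSucc 0, Int.negSucc 0, Int.ofNat 1, Int.ofNat 1, Int.negSucc 0, Int.negSucc 0, Int.negSucc 0, Int.ofNat 1, Int.ofNat 3, Int.ofNat 1, Int.ofNat 1, Int.ofNat 1, Int.ofNat 1],
  [Int.ofNat 1, Int.ofNat 1, Int.negSucc 0, Int.negSucc 0, Int.ofNat 1, Int.negSucc 0, Int.ofNat 1, Int.negSucc 0, Int.negSucc 0, Int.ofNat 1, Int.ofNat 1, Int.ofNat 1, Int.negSucc 0, Int.ofNat 1, Int.ofNat 1, Int.negSucc 0, Int.negSucc 0, Int.negSucc 0, Int.negSucc 0, Int.ofNat 3, Int.ofNat 1, Int.negSucc 0, Int.ofNat 1, Int.ofNat 1],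
  [Int.ofNat 1, Int.ofNat 1, Int.ofNat 1, Int.negSucc 0, Int.negSucc 0, Int.ofNat 1, Int.negSucc 0, Int.ofNat 1, Int.negSucc 0, Int.negSucc 0, Int.ofNat 1, Int.ofNat 1, Int.ofNat 1, Int.negSucc 0, Int.ofNat 1, Int.ofNat 1, Int.negSucc 0, Int.negSucc 0, Int.negSucc 0, Int.negSucc 0, Int.ofNat 3, Int.ofNat 1, Int.negSucc 0, Int.ofNat 1],
  [Int.ofNat 1, Int.ofNat 1, Int.ofNat 1, Int.negSucc 0, Int.ofNat 1, Int.ofNat 1, Int.negSucc 0, Int.ofNat 1, Int.negSucc 0, Int.negSucc 2, Int.negSucc 0, Int.ofNat 1, Int.ofNat 1, Int.ofNat 1, Int.ofNat 1, Int.negSucc 0, Int.ofNat 1, Int.negSucc 0, Int.negSucc 0, Int.negSucc 0, Int.ofNat 1, Int.ofNat 1, Int.ofNat 1, Int.ofNat 1],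
  [Int.negSucc 0, Int.ofNat 1, Int.ofNat 1, Int.negSucc 0, Int.ofNat 1, Int.negSucc 0, Int.negSucc 2, Int.negSucc 0, Int.ofNat 1, Int.ofNat 1, Int.ofNat 1, Int.ofNat 1, Int.negSucc 0, Int.ofNat 1, Int.negSucc 0, Int.negSucc 0, Int.negSucc 0, Int.ofNat 1, Int.ofNat 1, Int.ofNat 1, Int.ofNat 1, Int.ofNat 1, Int.ofNat 1, Int.ofNat 1],
  [Int.ofNat 2, Int.ofNat 0, Int.ofNat 0, Int.ofNat 0, Int.ofNat 0, Int.ofNat 0, Int.negSucc 1, Int.ofNat 0, Int.ofNat 0, Int.ofNat 0, Int.ofNat 0, Int.ofNat 0, Int.negSucc 1, Int.ofNat 0, Int.ofNat 0, Int.negSucc 1, Int.negSucc 1, Int.ofNat 2, Int.ofNat 0, Int.ofNat 2, Int.ofNat 0, Int.ofNat 2, Int.ofNat 0, Int.ofNat 0],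
  [Int.ofNat 2, Int.negSucc 1, Int.ofNat 0, Int.ofNat 0, Int.ofNat 0, Int.ofNat 0, Int.ofNat 0, Int.ofNat 0, Int.negSucc 1, Int.ofNat 0, Int.ofNat 0, Int.ofNat 2, Int.ofNat 0, Int.negSucc 1, Int.ofNat 0, Int.negSucc 1, Int.ofNat 0, Int.ofNat 0, Int.ofNat 0, Int.ofNat 0, Int.ofNat 2, Int.ofNat 0, Int.ofNat 2, Int.ofNat 0],
  [Int.negSucc 1, Int.ofNat 2, Int.ofNat 0, Int.ofNat 0, Int.ofNat 0, Int.ofNat 0, Int.ofNat 0, Int.ofNat 0, Int.negSucc 1, Int.ofNat 0, Int.ofNat 0, Int.ofNat 2, Int.ofNat 0, Int.negSucc 1, Int.ofNat 0, Int.negSucc 1, Int.ofNat 0, Int.ofNat 0, Int.ofNat 0, Int.ofNat 0, Int.ofNat 2, Int.ofNat 0, Int.ofNat 2, Int.ofNat 0],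
  [Int.negSucc 1, Int.ofNat 2, Int.ofNat 0, Int.ofNat 0, Int.ofNat 0, Int.ofNat 0, Int.ofNat 0, Int.ofNat 0, Int.negSucc 1, Int.ofNat 0, Int.ofNat 0, Int.ofNat 2, Int.ofNat 0, Int.negSucc 1, Int.ofNat 0, Int.ofNat 2, Int.ofNat 0, Int.ofNat 0, Int.ofNat 0, Int.ofNat 0, Int.ofNat 2, Int.ofNat 0, Int.negSucc 1, Int.ofNat 0],
  [Int.ofNat 0, Int.ofNat 0, Int.ofNat 2, Int.negSucc 1, Int.ofNat 0, Int.ofNat 0, Int.ofNat 0, Int.ofNat 0, Int.ofNat 0, Int.ofNat 2, Int.negSucc 1, Int.ofNat 0, Int.ofNat 2, Int.ofNat 0, Int.ofNat 0, Int.ofNat 0, Int.ofNat 0, Int.ofNat 0, Int.ofNat 0, Int.ofNat 0, Int.negSucc 1, Int.ofNat 2, Int.negSucc 1, Int.ofNat 0],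
  [Int.ofNat 0, Int.ofNat 0, Int.negSucc 1, Int.ofNat 2, Int.ofNat 0, Int.ofNat 0, Int.ofNat 0, Int.ofNat 0, Int.ofNat 0, Int.negSucc 1, Int.negSucc 1, Int.ofNat 0, Int.negSucc 1, Int.ofNat 0, Int.ofNat 0, Int.ofNat 0, Int.ofNat 0, Int.ofNat 0, Int.ofNat 0, Int.ofNat 0, Int.negSucc 1, Int.ofNat 2, Int.negSucc 1, Int.ofNat 0],
  [Int.ofNat 0, Int.negSucc 1, Int.ofNat 0, Int.ofNat 0, Int.ofNat 0, Int.negSucc 1, Int.ofNat 0, Int.ofNat 0, Int.negSucc 1, Int.ofNat 0, Int.ofNat 0, Int.negSucc 1, Int.ofNat 2, Int.ofNat 0, Int.ofNat 0, Int.ofNat 2, Int.negSucc 1, Int.ofNat 0, Int.ofNat 0, Int.ofNat 0, Int.ofNat 0, Int.negSucc 1, Int.ofNat 0, Int.ofNat 0],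
  [Int.ofNat 0, Int.negSucc 1, Int.ofNat 0, Int.ofNat 0, Int.ofNat 0, Int.negSucc 1, Int.ofNat 0, Int.ofNat 0, Int.negSucc 1, Int.ofNat 0, Int.ofNat 0, Int.ofNat 2, Int.ofNat 2, Int.ofNat 0, Int.ofNat 0, Int.ofNat 2, Int.negSucc 1, Int.ofNat 0, Int.ofNat 0, Int.ofNat 0, Int.ofNat 0, Int.ofNat 2, Int.ofNat 0, Int.ofNat 0],
  [Int.ofNat 0, Int.ofNat 0, Int.negSucc 1, Int.ofNat 0, Int.ofNat 0, Int.ofNat 0, Int.negSucc 1, Int.ofNat 0, Int.ofNat 0, Int.negSucc 1, Int.ofNat 0, Int.ofNat 0, Int.ofNat 2, Int.ofNat 2, Int.ofNat 0, Int.ofNat 0, Int.ofNat 2, Int.negSucc 1, Int.ofNat 0, Int.ofNat 0, Int.ofNat 0, Int.ofNat 0, Int.ofNat 2, Int.ofNat 0],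
  [Int.negSucc 0, Int.negSucc 0, Int.ofNat 1, Int.ofNat 1, Int.negSucc 2, Int.ofNat 1, Int.negSucc 0, Int.ofNat 1, Int.negSucc 0, Int.negSucc 0, Int.ofNat 1, Int.negSucc 0, Int.ofNat 1, Int.negSucc 0, Int.ofNat 1, Int.ofNat 1, Int.negSucc 0, Int.negSucc 0, Int.negSucc 0, Int.ofNat 1, Int.ofNat 1, Int.ofNat 1, Int.negSucc 0, Int.negSucc 0],
  [Int.ofNat 1, Int.negSucc 2, Int.ofNat 1, Int.negSucc 0, Int.ofNat 1, Int.negSucc 0, Int.negSucc 0, Int.ofNat 1, Int.negSucc 0, Int.ofNat 1, Int.negSucc 0, Int.ofNat 1, Int.ofNat 1, Int.negSucc 0, Int.negSucc 0, Int.negSucc 0, Int.ofNat 1, Int.ofNat 1, Int.ofNat 1, Int.negSucc 0, Int.negSucc 0, Int.negSucc 0, Int.ofNat 1, Int.negSucc 0],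
  [Int.negSucc 1, Int.ofNat 2, Int.negSucc 1, Int.ofNat 0, Int.ofNat 0, Int.ofNat 0, Int.ofNat 0, Int.ofNat 2, Int.negSucc 1, Int.ofNat 2, Int.ofNat 0, Int.ofNat 0, Int.ofNat 0, Int.negSucc 1, Int.ofNat 0, Int.ofNat 0, Int.ofNat 0, Int.ofNat 2, Int.ofNat 0, Int.ofNat 0, Int.ofNat 0, Int.ofNat 0, Int.ofNat 0, Int.ofNat 0],
  [Int.negSucc 1, Int.ofNat 0, Int.ofNat 0, Int.ofNat 0, Int.ofNat 0, Int.ofNat 2, Int.negSucc 1, Int.ofNat 0, Int.ofNat 0, Int.negSucc 1, Int.ofNat 0, Int.ofNat 2, Int.ofNat 2, Int.ofNat 0, Int.ofNat 0, Int.ofNat 0, Int.negSucc 1, Int.ofNat 0, Int.ofNat 2, Int.ofNat 0, Int.ofNat 0, Int.ofNat 0, Int.ofNat 0, Int.ofNat 0],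
  [Int.ofNat 1, Int.negSucc 0, Int.negSucc 0, Int.negSucc 0, Int.ofNat 1, Int.ofNat 1, Int.negSucc 0, Int.ofNat 1, Int.negSucc 2, Int.negSucc 0, Int.ofNat 1, Int.negSucc 0, Int.negSucc 0, Int.ofNat 1, Int.negSucc 0, Int.ofNat 1, Int.negSucc 0, Int.negSucc 0, Int.negSucc 0, Int.ofNat 1, Int.ofNat 1, Int.ofNat 1, Int.ofNat 1, Int.negSucc 0],
  [Int.ofNat 1, Int.negSucc 0, Int.ofNat 1, Int.negSucc 0, Int.ofNat 1, Int.negSucc 0, Int.ofNat 1, Int.ofNat 1, Int.negSucc 2, Int.ofNat 1, Int.negSucc 0, Int.negSucc 0, Int.negSucc 0, Int.ofNat 1, Int.negSucc 0, Int.negSucc 0, Int.negSucc 0, Int.negSucc 0, Int.ofNat 1, Int.ofNat 1, Int.ofNat 1, Int.ofNat 1, Int.negSucc 0, Int.negSucc 0],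
  [Int.ofNat 1, Int.ofNat 1, Int.ofNat 1, Int.ofNat 1, Int.negSucc 2, Int.negSucc 0, Int.ofNat 1, Int.negSucc 0, Int.ofNat 1, Int.negSucc 0, Int.ofNat 1, Int.ofNat 1, Int.negSucc 0, Int.negSucc 0, Int.negSucc 0, Int.negSucc 0, Int.negSucc 0, Int.negSucc 0, Int.ofNat 1, Int.ofNat 1, Int.negSucc 0, Int.ofNat 1, Int.negSucc 0, Int.negSucc 0],
  [Int.ofNat 1, Int.ofNat 1, Int.negSucc 0, Int.ofNat 1, Int.negSucc 2, Int.ofNat 1, Int.negSucc 0, Int.negSucc 0, Int.ofNat 1, Int.ofNat 1, Int.negSucc 0, Int.ofNat 1, Int.negSucc 0, Int.negSucc 0, Int.negSucc 0, Int.ofNat 1, Int.negSucc 0, Int.negSucc 0, Int.negSucc 0, Int.ofNat 1, Int.negSucc 0, Int.ofNat 1, Int.ofNat 1, Int.negSucc 0],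
  [Int.negSucc 0, Int.negSucc 0, Int.ofNat 1, Int.ofNat 1, Int.negSucc 0, Int.ofNat 1, Int.negSucc 0, Int.negSucc 0, Int.ofNat 1, Int.ofNat 1, Int.negSucc 0, Int.ofNat 1, Int.negSucc 0, Int.ofNat 1, Int.negSucc 0, Int.ofNat 1, Int.ofNat 1, Int.negSucc 0, Int.negSucc 0, Int.ofNat 1, Int.negSucc 0, Int.ofNat 1, Int.ofNat 3, Int.ofNat 1],
  [Int.negSucc 0, Int.negSucc 0, Int.negSucc 0, Int.ofNat 1, Int.ofNat 1, Int.ofNat 1, Int.negSucc 0, Int.ofNat 1, Int.ofNat 1, Int.negSucc 0, Int.negSucc 0, Int.ofNat 1, Int.ofNat 1, Int.ofNat 1, Int.negSucc 0, Int.ofNat 1, Int.ofNat 1, Int.ofNat 1, Int.negSucc 0, Int.ofNat 3, Int.negSucc 0, Int.negSucc 0, Int.negSucc 0, Int.ofNat 1],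
  [Int.ofNat 0, Int.ofNat 0, Int.ofNat 0, Int.ofNat 0, Int.ofNat 0, Int.ofNat 0, Int.negSucc 1, Int.ofNat 0, Int.ofNat 0, Int.ofNat 0, Int.ofNat 0, Int.ofNat 0, Int.ofNat 0, Int.ofNat 0, Int.negSucc 1, Int.ofNat 2, Int.ofNat 0, Int.ofNat 0, Int.negSucc 1, Int.ofNat 2, Int.ofNat 0, Int.negSucc 1, Int.negSucc 1, Int.negSucc 1],
  [Int.ofNat 0, Int.negSucc 1, Int.negSucc 1, Int.ofNat 0, Int.ofNat 0, Int.ofNat 0, Int.ofNat 0, Int.ofNat 0, Int.ofNat 0, Int.negSucc 1, Int.ofNat 0, Int.ofNat 0, Int.ofNat 0, Int.ofNat 0, Int.ofNat 0, Int.ofNat 0, Int.ofNat 0, Int.negSucc 1, Int.ofNat 2, Int.ofNat 0, Int.ofNat 0, Int.negSucc 1, Int.ofNat 2, Int.negSucc 1],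
  [Int.negSucc 2, Int.negSucc 0, Int.negSucc 0, Int.ofNat 1, Int.negSucc 0, Int.ofNat 1, Int.ofNat 1, Int.ofNat 1, Int.negSucc 0, Int.negSucc 0, Int.ofNat 1, Int.negSucc 0, Int.negSucc 0, Int.negSucc 0, Int.ofNat 1, Int.ofNat 1, Int.negSucc 0, Int.negSucc 0, Int.ofNat 1, Int.ofNat 1, Int.ofNat 1, Int.negSucc 0, Int.ofNat 1, Int.negSucc 0],
  [Int.negSucc 0, Int.negSucc 0, Int.ofNat 1, Int.negSucc 0, Int.ofNat 1, Int.ofNat 1, Int.ofNat 1, Int.negSucc 0, Int.negSucc 0, Int.ofNat 1, Int.negSucc 0, Int.negSucc 0, Int.negSucc 0, Int.ofNat 1, Int.ofNat 1, Int.negSucc 0, Int.negSucc 0, Int.ofNat 1, Int.ofNat 1, Int.ofNat 1, Int.negSucc 0, Int.ofNat 1, Int.negSucc 2, Int.negSucc 0],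
  [Int.ofNat 1, Int.negSucc 0, Int.negSucc 0, Int.negSucc 0, Int.ofNat 1, Int.ofNat 1, Int.ofNat 1, Int.ofNat 1, Int.negSucc 0, Int.negSucc 0, Int.ofNat 1, Int.ofNat 1, Int.negSucc 0, Int.ofNat 1, Int.ofNat 1, Int.negSucc 0, Int.negSucc 0, Int.ofNat 1, Int.negSucc 0, Int.ofNat 1, Int.negSucc 0, Int.negSucc 0, Int.negSucc 2, Int.negSucc 0],
  [Int.ofNat 1, Int.negSucc 0, Int.negSucc 0, Int.negSucc 0, Int.negSucc 0, Int.ofNat 1, Int.ofNat 1, Int.negSucc 0, Int.negSucc 0, Int.negSucc 0, Int.negSucc 0, Int.ofNat 1, Int.ofNat 1, Int.negSucc 0, Int.ofNat 1, Int.negSucc 0, Int.negSucc 0, Int.negSucc 2, Int.ofNat 1, Int.ofNat 1, Int.ofNat 1, Int.ofNat 1, Int.ofNat 1, Int.negSucc 0],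
  [Int.negSucc 0, Int.negSucc 0, Int.ofNat 1, Int.negSucc 0, Int.negSucc 0, Int.ofNat 1, Int.ofNat 1, Int.ofNat 1, Int.negSucc 0, Int.ofNat 1, Int.ofNat 1, Int.negSucc 0, Int.ofNat 1, Int.negSucc 0, Int.ofNat 1, Int.negSucc 0, Int.negSucc 0, Int.negSucc 2, Int.negSucc 0, Int.ofNat 1, Int.ofNat 1, Int.negSucc 0, Int.ofNat 1, Int.negSucc 0],
  [Int.ofNat 1, Int.negSucc 0, Int.negSucc 0, Int.ofNat 1, Int.negSucc 0, Int.negSucc 0, Int.ofNat 1, Int.ofNat 1, Int.ofNat 1, Int.negSucc 0, Int.ofNat 1, Int.ofNat 1, Int.negSucc 0, Int.ofNat 1, Int.negSucc 0, Int.ofNat 1, Int.negSucc 0, Int.negSucc 0, Int.negSucc 2, Int.negSucc 0, Int.ofNat 1, Int.ofNat 1, Int.negSucc 0, Int.negSucc 0],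
  [Int.negSucc 1, Int.ofNat 0, Int.ofNat 0, Int.ofNat 2, Int.ofNat 0, Int.ofNat 0, Int.ofNat 0, Int.ofNat 0, Int.ofNat 2, Int.negSucc 1, Int.ofNat 0, Int.ofNat 2, Int.ofNat 0, Int.ofNat 2, Int.ofNat 0, Int.ofNat 0, Int.ofNat 0, Int.ofNat 0, Int.negSucc 1, Int.negSucc 1, Int.ofNat 0, Int.ofNat 0, Int.ofNat 0, Int.ofNat 0],
  [Int.ofNat 2, Int.ofNat 0, Int.ofNat 0, Int.ofNat 0, Int.ofNat 0, Int.ofNat 2, Int.negSucc 1, Int.ofNat 0, Int.ofNat 2, Int.ofNat 0, Int.ofNat 2, Int.ofNat 0, Int.ofNat 0, Int.ofNat 0, Int.ofNat 0, Int.negSucc 1, Int.negSucc 1, Int.ofNat 0, Int.ofNat 0, Int.ofNat 0, Int.negSucc 1, Int.ofNat 0, Int.ofNat 0, Int.ofNat 0],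
  [Int.negSucc 0, Int.ofNat 1, Int.ofNat 1, Int.negSucc 0, Int.ofNat 1, Int.ofNat 1, Int.negSucc 0, Int.ofNat 1, Int.ofNat 1, Int.ofNat 1, Int.ofNat 3, Int.negSucc 0, Int.negSucc 0, Int.ofNat 1, Int.negSucc 0, Int.negSucc 0, Int.negSucc 0, Int.negSucc 0, Int.negSucc 0, Int.ofNat 1, Int.negSucc 0, Int.ofNat 1, Int.ofNat 1, Int.ofNat 1],
  [Int.negSucc 0, Int.negSucc 0, Int.ofNat 1, Int.negSucc 0, Int.negSucc 0, Int.ofNat 1, Int.ofNat 1, Int.ofNat 3, Int.negSucc 0, Int.ofNat 1, Int.negSucc 0, Int.negSucc 0, Int.ofNat 1, Int.negSucc 0, Int.ofNat 1, Int.negSucc 0, Int.ofNat 1, Int.negSucc 0, Int.ofNat 1, Int.negSucc 0, Int.ofNat 1, Int.ofNat 1, Int.ofNat 1, Int.ofNat 1],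
  [Int.ofNat 1, Int.ofNat 1, Int.negSucc 0, Int.negSucc 0, Int.negSucc 0, Int.ofNat 1, Int.negSucc 0, Int.ofNat 1, Int.negSucc 0, Int.ofNat 1, Int.negSucc 0, Int.negSucc 0, Int.ofNat 1, Int.negSucc 0, Int.ofNat 1, Int.negSucc 0, Int.ofNat 1, Int.negSucc 0, Int.ofNat 1, Int.negSucc 2, Int.ofNat 1, Int.negSucc 0, Int.ofNat 1, Int.negSucc 0],
  [Int.ofNat 1, Int.ofNat 1, Int.ofNat 1, Int.negSucc 0, Int.negSucc 0, Int.negSucc 0, Int.ofNat 1, Int.ofNat 1, Int.negSucc 0, Int.negSucc 0, Int.ofNat 1, Int.negSucc 0, Int.ofNat 1, Int.negSucc 0, Int.ofNat 1, Int.ofNat 1, Int.ofNat 1, Int.negSucc 0, Int.negSucc 0, Int.negSucc 2, Int.ofNat 1, Int.negSucc 0, Int.negSucc 0, Int.negSucc 0],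
  [Int.ofNat 1, Int.ofNat 1, Int.negSucc 0, Int.negSucc 0, Int.ofNat 1, Int.ofNat 1, Int.negSucc 0, Int.negSucc 0, Int.negSucc 0, Int.ofNat 1, Int.negSucc 0, Int.ofNat 1, Int.ofNat 1, Int.negSucc 0, Int.negSucc 0, Int.negSucc 0, Int.negSucc 2, Int.ofNat 1, Int.negSucc 0, Int.ofNat 1, Int.ofNat 1, Int.ofNat 1, Int.negSucc 0, Int.negSucc 0],
  [Int.negSucc 0, Int.negSucc 0, Int.ofNat 1, Int.ofNat 1, Int.negSucc 0, Int.ofNat 1, Int.ofNat 1, Int.negSucc 0, Int.ofNat 1, Int.negSucc 0, Int.negSucc 0, Int.ofNat 1, Int.negSucc 0, Int.ofNat 1, Int.negSucc 0, Int.negSucc 0, Int.ofNat 3, Int.ofNat 1, Int.ofNat 1, Int.ofNat 1, Int.ofNat 1, Int.ofNat 1, Int.negSucc 0, Int.negSucc 0],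
  [Int.negSucc 0, Int.negSucc 0, Int.ofNat 1, Int.negSucc 0, Int.ofNat 1, Int.negSucc 0, Int.ofNat 1, Int.ofNat 1, Int.ofNat 1, Int.ofNat 1, Int.ofNat 3, Int.ofNat 1, Int.ofNat 1, Int.negSucc 0, Int.ofNat 1, Int.ofNat 1, Int.negSucc 0, Int.negSucc 0, Int.negSucc 0, Int.ofNat 1, Int.ofNat 1, Int.negSucc 0, Int.negSucc 0, Int.negSucc 0],
  [Int.ofNat 1, Int.negSucc 0, Int.negSucc 0, Int.negSucc 0, Int.ofNat 1, Int.negSucc 0, Int.ofNat 1, Int.negSucc 0, Int.ofNat 1, Int.negSucc 0, Int.negSucc 2, Int.negSucc 0, Int.ofNat 1, Int.negSucc 0, Int.ofNat 1, Int.ofNat 1, Int.negSucc 0, Int.negSucc 0, Int.ofNat 1, Int.ofNat 1, Int.ofNat 1, Int.ofNat 1, Int.negSucc 0, Int.negSucc 0],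
  [Int.negSucc 0, Int.ofNat 1, Int.negSucc 0, Int.negSucc 0, Int.negSucc 0, Int.ofNat 1, Int.negSucc 0, Int.ofNat 1, Int.negSucc 0, Int.ofNat 1, Int.negSucc 0, Int.negSucc 2, Int.negSucc 0, Int.ofNat 1, Int.negSucc 0, Int.ofNat 1, Int.ofNat 1, Int.negSucc 0, Int.negSucc 0, Int.ofNat 1, Int.ofNat 1, Int.ofNat 1, Int.ofNat 1, Int.negSucc 0],
  [Int.ofNat 0, Int.negSucc 1, Int.ofNat 0, Int.ofNat 0, Int.negSucc 1, Int.ofNat 2, Int.negSucc 1, Int.ofNat 0, Int.ofNat 2, Int.ofNat 0, Int.negSucc 1, Int.ofNat 0, Int.ofNat 2, Int.ofNat 0, Int.ofNat 0, Int.ofNat 0, Int.ofNat 0, Int.ofNat 0, Int.ofNat 2, Int.ofNat 0, Int.ofNat 0, Int.ofNat 0, Int.ofNat 0, Int.ofNat 0],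
  [Int.ofNat 0, Int.negSucc 1, Int.ofNat 2, Int.negSucc 1, Int.ofNat 0, Int.ofNat 2, Int.ofNat 0, Int.negSucc 1, Int.ofNat 0, Int.ofNat 2, Int.ofNat 0, Int.ofNat 0, Int.ofNat 0, Int.ofNat 0, Int.ofNat 0, Int.ofNat 2, Int.ofNat 0, Int.ofNat 0, Int.ofNat 0, Int.ofNat 0, Int.ofNat 0, Int.negSucc 1, Int.ofNat 0, Int.ofNat 0],
  [Int.ofNat 0, Int.ofNat 2, Int.negSucc 1, Int.negSucc 1, Int.ofNat 0, Int.ofNat 2, Int.ofNat 2, Int.ofNat 0, Int.ofNat 0, Int.ofNat 0, Int.negSucc 1, Int.ofNat 0, Int.ofNat 0, Int.ofNat 0, Int.ofNat 0, Int.ofNat 0, Int.ofNat 0, Int.ofNat 0, Int.ofNat 0, Int.ofNat 2, Int.negSucc 1, Int.ofNat 0, Int.ofNat 0, Int.ofNat 0],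
  [Int.ofNat 0, Int.ofNat 2, Int.ofNat 0, Int.negSucc 1, Int.ofNat 0, Int.ofNat 0, Int.negSucc 1, Int.negSucc 1, Int.ofNat 0, Int.ofNat 0, Int.negSucc 1, Int.ofNat 0, Int.ofNat 0, Int.ofNat 0, Int.ofNat 0, Int.ofNat 0, Int.ofNat 0, Int.ofNat 0, Int.ofNat 2, Int.ofNat 0, Int.ofNat 0, Int.ofNat 2, Int.ofNat 2, Int.ofNat 0],
  [Int.ofNat 1, Int.negSucc 0, Int.ofNat 1, Int.negSucc 0, Int.negSucc 0, Int.ofNat 1, Int.negSucc 0, Int.negSucc 0, Int.negSucc 0, Int.ofNat 1, Int.negSucc 0, Int.negSucc 0, Int.negSucc 0, Int.negSucc 0, Int.ofNat 1, Int.ofNat 1, Int.negSucc 0, Int.ofNat 1, Int.ofNat 1, Int.ofNat 1, Int.ofNat 1, Int.ofNat 3, Int.ofNat 1, Int.ofNat 1],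
  [Int.ofNat 1, Int.negSucc 0, Int.negSucc 0, Int.negSucc 0, Int.negSucc 0, Int.negSucc 0, Int.ofNat 1, Int.negSucc 0, Int.negSucc 0, Int.negSucc 0, Int.ofNat 1, Int.negSucc 0, Int.negSucc 0, Int.negSucc 0, Int.ofNat 1, Int.negSucc 0, Int.negSucc 0, Int.ofNat 1, Int.negSucc 0, Int.ofNat 1, Int.ofNat 1, Int.ofNat 3, Int.negSucc 0, Int.ofNat 1],
  [Int.negSucc 0, Int.negSucc 0, Int.ofNat 1, Int.ofNat 1, Int.negSucc 0, Int.negSucc 0, Int.negSucc 0, Int.negSucc 0, Int.ofNat 1, Int.negSucc 0, Int.negSucc 0, Int.negSucc 0, Int.negSucc 0, Int.ofNat 1, Int.negSucc 0, Int.negSucc 0, Int.ofNat 1, Int.ofNat 1, Int.ofNat 1, Int.ofNat 3, Int.negSucc 0, Int.negSucc 0, Int.negSucc 0, Int.ofNat 1],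
  [Int.negSucc 0, Int.negSucc 0, Int.negSucc 0, Int.ofNat 1, Int.negSucc 0, Int.ofNat 1, Int.ofNat 1, Int.negSucc 0, Int.ofNat 1, Int.ofNat 1, Int.ofNat 1, Int.negSucc 0, Int.negSucc 0, Int.ofNat 1, Int.negSucc 0, Int.ofNat 1, Int.ofNat 1, Int.ofNat 1, Int.negSucc 0, Int.ofNat 3, Int.negSucc 0, Int.negSucc 0, Int.ofNat 1, Int.ofNat 1],
  [Int.ofNat 0, Int.ofNat 0, Int.ofNat 0, Int.ofNat 0, Int.negSucc 1, Int.ofNat 0, Int.ofNat 0, Int.negSucc 1, Int.ofNat 2, Int.ofNat 0, Int.ofNat 0, Int.ofNat 0, Int.ofNat 0, Int.ofNat 0, Int.negSucc 1, Int.ofNat 0, Int.ofNat 0, Int.ofNat 0, Int.ofNat 0, Int.ofNat 2, Int.negSucc 1, Int.negSucc 1, Int.ofNat 0, Int.negSucc 1],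
  [Int.ofNat 0, Int.ofNat 0, Int.ofNat 0, Int.ofNat 0, Int.ofNat 0, Int.negSucc 1, Int.ofNat 0, Int.ofNat 0, Int.ofNat 0, Int.ofNat 0, Int.negSucc 1, Int.ofNat 2, Int.ofNat 2, Int.ofNat 0, Int.ofNat 0, Int.ofNat 0, Int.ofNat 0, Int.ofNat 0, Int.negSucc 1, Int.ofNat 0, Int.ofNat 0, Int.negSucc 1, Int.negSucc 1, Int.negSucc 1],
  [Int.negSucc 0, Int.negSucc 0, Int.negSucc 0, Int.ofNat 1, Int.ofNat 1, Int.negSucc 0, Int.ofNat 1, Int.ofNat 1, Int.negSucc 0, Int.ofNat 1, Int.negSucc 0, Int.ofNat 1, Int.ofNat 1, Int.ofNat 1, Int.ofNat 1, Int.ofNat 1, Int.ofNat 1, Int.ofNat 1, Int.negSucc 2, Int.ofNat 1, Int.ofNat 1, Int.negSucc 0, Int.negSucc 0, Int.ofNat 1],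
  [Int.ofNat 1, Int.negSucc 0, Int.negSucc 0, Int.negSucc 0, Int.negSucc 0, Int.negSucc 0, Int.ofNat 1, Int.ofNat 1, Int.negSucc 0, Int.ofNat 1, Int.ofNat 1, Int.negSucc 0, Int.ofNat 1, Int.negSucc 0, Int.ofNat 1, Int.ofNat 1, Int.ofNat 1, Int.ofNat 1, Int.ofNat 1, Int.ofNat 1, Int.ofNat 1, Int.negSucc 2, Int.ofNat 1, Int.ofNat 1],
  [Int.negSucc 0, Int.ofNat 1, Int.ofNat 1, Int.negSucc 0, Int.negSucc 0, Int.negSucc 0, Int.ofNat 1, Int.ofNat 1, Int.negSucc 0, Int.negSucc 0, Int.negSucc 0, Int.negSucc 0, Int.ofNat 1, Int.negSucc 0, Int.ofNat 1, Int.negSucc 0, Int.ofNat 1, Int.ofNat 1, Int.ofNat 1, Int.ofNat 1, Int.negSucc 0, Int.negSucc 2, Int.ofNat 1, Int.negSucc 0],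
  [Int.ofNat 1, Int.ofNat 1, Int.negSucc 0, Int.negSucc 0, Int.negSucc 0, Int.ofNat 1, Int.ofNat 1, Int.negSucc 0, Int.negSucc 0, Int.negSucc 0, Int.negSucc 0, Int.ofNat 1, Int.negSucc 0, Int.ofNat 1, Int.negSucc 0, Int.ofNat 1, Int.ofNat 1, Int.ofNat 1, Int.ofNat 1, Int.negSucc 0, Int.negSucc 2, Int.ofNat 1, Int.negSucc 0, Int.negSucc 0],
  [Int.negSucc 0, Int.ofNat 1, Int.ofNat 1, Int.negSucc 0, Int.negSucc 0, Int.ofNat 1, Int.ofNat 1, Int.ofNat 1, Int.negSucc 0, Int.ofNat 1, Int.ofNat 1, Int.negSucc 0, Int.negSucc 0, Int.ofNat 1, Int.negSucc 0, Int.ofNat 1, Int.ofNat 1, Int.ofNat 1, Int.negSucc 0, Int.negSucc 0, Int.negSucc 2, Int.negSucc 0, Int.negSucc 0, Int.negSucc 0],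
  [Int.negSucc 0, Int.ofNat 1, Int.negSucc 0, Int.negSucc 0, Int.ofNat 1, Int.ofNat 1, Int.negSucc 0, Int.negSucc 2, Int.ofNat 1, Int.ofNat 1, Int.negSucc 0, Int.negSucc 0, Int.ofNat 1, Int.negSucc 0, Int.negSucc 0, Int.ofNat 1, Int.negSucc 0, Int.negSucc 0, Int.ofNat 1, Int.ofNat 1, Int.ofNat 1, Int.ofNat 1, Int.negSucc 0, Int.negSucc 0],
  [Int.ofNat 1, Int.ofNat 1, Int.ofNat 1, Int.negSucc 0, Int.ofNat 1, Int.ofNat 1, Int.negSucc 0, Int.ofNat 3, Int.ofNat 1, Int.negSucc 0, Int.ofNat 1, Int.ofNat 1, Int.ofNat 1, Int.negSucc 0, Int.negSucc 0, Int.ofNat 1, Int.negSucc 0, Int.negSucc 0, Int.negSucc 0, Int.ofNat 1, Int.ofNat 1, Int.negSucc 0, Int.negSucc 0, Int.negSucc 0],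
  [Int.negSucc 0, Int.ofNat 1, Int.ofNat 1, Int.ofNat 1, Int.negSucc 0, Int.ofNat 1, Int.ofNat 1, Int.negSucc 0, Int.ofNat 3, Int.ofNat 1, Int.negSucc 0, Int.ofNat 1, Int.ofNat 1, Int.ofNat 1, Int.negSucc 0, Int.negSucc 0, Int.ofNat 1, Int.negSucc 0, Int.negSucc 0, Int.negSucc 0, Int.ofNat 1, Int.ofNat 1, Int.negSucc 0, Int.negSucc 0],
  [Int.ofNat 1, Int.negSucc 0, Int.negSucc 0, Int.ofNat 1, Int.negSucc 0, Int.ofNat 1, Int.ofNat 1, Int.negSucc 0, Int.ofNat 1, Int.ofNat 1, Int.negSucc 0, Int.negSucc 0, Int.negSucc 0, Int.ofNat 1, Int.negSucc 0, Int.negSucc 0, Int.ofNat 1, Int.negSucc 0, Int.negSucc 2, Int.negSucc 0, Int.ofNat 1, Int.ofNat 1, Int.negSucc 0, Int.ofNat 1],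
  [Int.ofNat 1, Int.negSucc 0, Int.ofNat 1, Int.ofNat 1, Int.negSucc 0, Int.ofNat 1, Int.ofNat 1, Int.negSucc 0, Int.negSucc 0, Int.negSucc 0, Int.ofNat 1, Int.negSucc 0, Int.negSucc 0, Int.ofNat 1, Int.negSucc 0, Int.negSucc 2, Int.negSucc 0, Int.ofNat 1, Int.ofNat 1, Int.negSucc 0, Int.ofNat 1, Int.negSucc 0, Int.negSucc 0, Int.ofNat 1],
  [Int.ofNat 0, Int.ofNat 2, Int.ofNat 0, Int.ofNat 0, Int.ofNat 0, Int.ofNat 0, Int.ofNat 2, Int.ofNat 0, Int.ofNat 0, Int.ofNat 0, Int.ofNat 2, Int.ofNat 0, Int.ofNat 0, Int.ofNat 2, Int.negSucc 1, Int.negSucc 1, Int.ofNat 0, Int.ofNat 0, Int.ofNat 2, Int.ofNat 0, Int.ofNat 2, Int.ofNat 0, Int.ofNat 0, Int.ofNat 0],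
  [Int.ofNat 0, Int.ofNat 2, Int.ofNat 0, Int.ofNat 0, Int.ofNat 2, Int.ofNat 0, Int.ofNat 0, Int.ofNat 2, Int.ofNat 0, Int.ofNat 2, Int.ofNat 2, Int.ofNat 0, Int.ofNat 0, Int.ofNat 0, Int.ofNat 0, Int.negSucc 1, Int.ofNat 0, Int.negSucc 1, Int.ofNat 2, Int.ofNat 0, Int.ofNat 0, Int.ofNat 0, Int.ofNat 0, Int.ofNat 0],
  [Int.ofNat 1, Int.negSucc 0, Int.ofNat 1, Int.ofNat 1, Int.ofNat 1, Int.ofNat 1, Int.negSucc 0, Int.ofNat 1, Int.negSucc 0, Int.ofNat 1, Int.ofNat 1, Int.negSucc 0, Int.negSucc 0, Int.negSucc 0, Int.ofNat 1, Int.negSucc 2, Int.negSucc 0, Int.negSucc 0, Int.ofNat 1, Int.negSucc 0, Int.negSucc 0, Int.negSucc 0, Int.negSucc 0, Int.ofNat 1],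
  [Int.ofNat 1, Int.negSucc 0, Int.negSucc 0, Int.ofNat 1, Int.ofNat 1, Int.negSucc 0, Int.ofNat 1, Int.ofNat 1, Int.negSucc 0, Int.negSucc 0, Int.negSucc 0, Int.negSucc 0, Int.negSucc 0, Int.negSucc 0, Int.ofNat 1, Int.ofNat 3, Int.negSucc 0, Int.negSucc 0, Int.negSucc 0, Int.negSucc 0, Int.negSucc 0, Int.negSucc 0, Int.ofNat 1, Int.ofNat 1],
  [Int.negSucc 0, Int.negSucc 0, Int.negSucc 0, Int.negSucc 0, Int.ofNat 1, Int.ofNat 1, Int.negSucc 0, Int.ofNat 1, Int.negSucc 0, Int.negSucc 0, Int.negSucc 0, Int.ofNat 1, Int.ofNat 3, Int.ofNat 1, Int.negSucc 0, Int.negSucc 0, Int.negSucc 0, Int.negSucc 0, Int.negSucc 0, Int.negSucc 0, Int.ofNat 1, Int.negSucc 0, Int.ofNat 1, Int.ofNat 1],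
  [Int.ofNat 1, Int.ofNat 1, Int.ofNat 1, Int.ofNat 1, Int.negSucc 0, Int.ofNat 1, Int.ofNat 1, Int.ofNat 1, Int.ofNat 1, Int.ofNat 1, Int.negSucc 0, Int.ofNat 1, Int.negSucc 2, Int.negSucc 0, Int.negSucc 0, Int.negSucc 0, Int.ofNat 1, Int.negSucc 0, Int.ofNat 1, Int.negSucc 0, Int.ofNat 1, Int.negSucc 0, Int.ofNat 1, Int.ofNat 1],
  [Int.ofNat 1, Int.ofNat 1, Int.ofNat 1, Int.negSucc 0, Int.negSucc 0, Int.ofNat 1, Int.negSucc 0, Int.negSucc 0, Int.ofNat 1, Int.ofNat 1, Int.ofNat 1, Int.ofNat 1, Int.negSucc 0, Int.ofNat 1, Int.ofNat 1, Int.ofNat 1, Int.negSucc 0, Int.negSucc 0, Int.negSucc 0, Int.ofNat 1, Int.ofNat 1, Int.negSucc 2, Int.ofNat 1, Int.ofNat 1],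
  [Int.negSucc 0, Int.ofNat 1, Int.negSucc 0, Int.negSucc 0, Int.negSucc 0, Int.ofNat 1, Int.negSucc 0, Int.ofNat 1, Int.ofNat 1, Int.negSucc 0, Int.negSucc 0, Int.negSucc 0, Int.negSucc 0, Int.ofNat 1, Int.ofNat 1, Int.ofNat 1, Int.negSucc 0, Int.negSucc 0, Int.ofNat 1, Int.ofNat 1, Int.ofNat 1, Int.ofNat 3, Int.ofNat 1, Int.ofNat 1],
  [Int.ofNat 1, Int.negSucc 0, Int.ofNat 1, Int.negSucc 0, Int.negSucc 0, Int.negSucc 0, Int.ofNat 1, Int.negSucc 0, Int.ofNat 1, Int.ofNat 1, Int.negSucc 0, Int.negSucc 0, Int.negSucc 0, Int.negSucc 0, Int.ofNat 1, Int.ofNat 1, Int.ofNat 1, Int.negSucc 0, Int.negSucc 0, Int.ofNat 1, Int.ofNat 1, Int.ofNat 1, Int.ofNat 3, Int.ofNat 1],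
  [Int.ofNat 0, Int.ofNat 2, Int.ofNat 0, Int.ofNat 0, Int.negSucc 1, Int.ofNat 0, Int.ofNat 0, Int.negSucc 1, Int.ofNat 2, Int.ofNat 0, Int.negSucc 1, Int.ofNat 0, Int.ofNat 0, Int.negSucc 1, Int.ofNat 2, Int.ofNat 0, Int.ofNat 0, Int.ofNat 0, Int.ofNat 0, Int.ofNat 0, Int.ofNat 0, Int.ofNat 0, Int.ofNat 2, Int.ofNat 0],
  [Int.ofNat 0, Int.negSucc 1, Int.ofNat 0, Int.ofNat 0, Int.negSucc 1, Int.ofNat 2, Int.ofNat 0, Int.negSucc 1, Int.ofNat 0, Int.ofNat 0, Int.negSucc 1, Int.ofNat 2, Int.ofNat 0, Int.ofNat 0, Int.ofNat 0, Int.ofNat 0, Int.ofNat 0, Int.ofNat 0, Int.ofNat 0, Int.ofNat 2, Int.ofNat 0, Int.ofNat 2, Int.ofNat 0, Int.ofNat 0],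
  [Int.negSucc 0, Int.ofNat 1, Int.negSucc 0, Int.negSucc 0, Int.negSucc 0, Int.ofNat 1, Int.negSucc 0, Int.negSucc 2, Int.negSucc 0, Int.ofNat 1, Int.negSucc 0, Int.ofNat 1, Int.negSucc 0, Int.ofNat 1, Int.negSucc 0, Int.ofNat 1, Int.ofNat 1, Int.negSucc 0, Int.negSucc 0, Int.ofNat 1, Int.ofNat 1, Int.ofNat 1, Int.ofNat 1, Int.negSucc 0],
  [Int.negSucc 0, Int.negSucc 0, Int.negSucc 0, Int.negSucc 0, Int.negSucc 0, Int.negSucc 2, Int.negSucc 0, Int.negSucc 0, Int.negSucc 0, Int.ofNat 1, Int.ofNat 1, Int.negSucc 0, Int.ofNat 1, Int.ofNat 1, Int.ofNat 1, Int.ofNat 1, Int.negSucc 0, Int.negSucc 0, Int.ofNat 1, Int.ofNat 1, Int.ofNat 1, Int.ofNat 1, Int.ofNat 1, Int.negSucc 0],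
  [Int.negSucc 0, Int.negSucc 0, Int.negSucc 0, Int.ofNat 1, Int.negSucc 0, Int.negSucc 0, Int.negSucc 0, Int.negSucc 0, Int.negSucc 0, Int.negSucc 0, Int.negSucc 0, Int.negSucc 0, Int.ofNat 1, Int.ofNat 1, Int.ofNat 3, Int.negSucc 0, Int.negSucc 0, Int.ofNat 1, Int.ofNat 1, Int.ofNat 1, Int.negSucc 0, Int.ofNat 1, Int.ofNat 1, Int.negSucc 0],
  [Int.negSucc 0, Int.negSucc 0, Int.ofNat 1, Int.ofNat 1, Int.negSucc 0, Int.ofNat 1, Int.ofNat 1, Int.negSucc 0, Int.negSucc 0, Int.ofNat 1, Int.ofNat 1, Int.negSucc 0, Int.ofNat 1, Int.ofNat 1, Int.ofNat 3, Int.ofNat 1, Int.negSucc 0, Int.ofNat 1, Int.negSucc 0, Int.ofNat 1, Int.negSucc 0, Int.ofNat 1, Int.negSucc 0, Int.negSucc 0],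
  [Int.ofNat 1, Int.negSucc 0, Int.negSucc 0, Int.negSucc 0, Int.negSucc 0, Int.negSucc 0, Int.ofNat 1, Int.negSucc 0, Int.ofNat 1, Int.ofNat 1, Int.negSucc 0, Int.negSucc 0, Int.ofNat 1, Int.ofNat 1, Int.ofNat 1, Int.negSucc 0, Int.ofNat 1, Int.ofNat 3, Int.ofNat 1, Int.ofNat 1, Int.negSucc 0, Int.ofNat 1, Int.ofNat 1, Int.negSucc 0],
  [Int.ofNat 1, Int.negSucc 0, Int.ofNat 1, Int.negSucc 0, Int.negSucc 0, Int.ofNat 1, Int.negSucc 0, Int.negSucc 0, Int.ofNat 1, Int.negSucc 0, Int.ofNat 1, Int.negSucc 0, Int.ofNat 1, Int.ofNat 1, Int.ofNat 1, Int.ofNat 1, Int.ofNat 1, Int.ofNat 3, Int.negSucc 0, Int.ofNat 1, Int.negSucc 0, Int.ofNat 1, Int.negSucc 0, Int.negSucc 0],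
  [Int.negSucc 0, Int.ofNat 1, Int.negSucc 0, Int.negSucc 2, Int.negSucc 0, Int.negSucc 0, Int.negSucc 0, Int.negSucc 0, Int.ofNat 1, Int.negSucc 0, Int.ofNat 1, Int.negSucc 0, Int.ofNat 1, Int.ofNat 1, Int.negSucc 0, Int.ofNat 1, Int.ofNat 1, Int.ofNat 1, Int.negSucc 0, Int.ofNat 1, Int.negSucc 0, Int.ofNat 1, Int.negSucc 0, Int.ofNat 1],
  [Int.negSucc 0, Int.negSucc 0, Int.negSucc 0, Int.negSucc 2, Int.negSucc 0, Int.ofNat 1, Int.ofNat 1, Int.negSucc 0, Int.ofNat 1, Int.ofNat 1, Int.negSucc 0, Int.ofNat 1, Int.ofNat 1, Int.negSucc 0, Int.ofNat 1, Int.ofNat 1, Int.ofNat 1, Int.negSucc 0, Int.negSucc 0, Int.negSucc 0, Int.ofNat 1, Int.negSucc 0, Int.negSucc 0, Int.ofNat 1],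
  [Int.ofNat 0, Int.ofNat 0, Int.ofNat 0, Int.negSucc 1, Int.ofNat 0, Int.ofNat 2, Int.ofNat 2, Int.ofNat 0, Int.ofNat 0, Int.ofNat 0, Int.negSucc 1, Int.ofNat 0, Int.ofNat 0, Int.ofNat 0, Int.ofNat 2, Int.ofNat 0, Int.ofNat 2, Int.ofNat 0, Int.negSucc 1, Int.ofNat 0, Int.ofNat 0, Int.ofNat 0, Int.ofNat 0, Int.negSucc 1],
  [Int.ofNat 0, Int.ofNat 0, Int.ofNat 0, Int.ofNat 0, Int.ofNat 0, Int.ofNat 0, Int.negSucc 1, Int.ofNat 0, Int.ofNat 2, Int.ofNat 2, Int.ofNat 0, Int.ofNat 0, Int.ofNat 0, Int.negSucc 1, Int.ofNat 0, Int.ofNat 0, Int.ofNat 0, Int.ofNat 2, Int.ofNat 0, Int.ofNat 2, Int.ofNat 0, Int.negSucc 1, Int.ofNat 0, Int.negSucc 1],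
  [Int.negSucc 0, Int.negSucc 0, Int.negSucc 0, Int.negSucc 0, Int.ofNat 1, Int.negSucc 0, Int.negSucc 0, Int.ofNat 1, Int.ofNat 1, Int.ofNat 1, Int.negSucc 0, Int.negSucc 0, Int.negSucc 0, Int.negSucc 0, Int.negSucc 0, Int.negSucc 0, Int.ofNat 1, Int.ofNat 1, Int.negSucc 0, Int.ofNat 3, Int.negSucc 0, Int.negSucc 0, Int.ofNat 1, Int.ofNat 1],
  [Int.negSucc 0, Int.negSucc 0, Int.negSucc 0, Int.ofNat 1, Int.negSucc 0, Int.negSucc 0, Int.ofNat 1, Int.ofNat 1, Int.ofNat 1, Int.negSucc 0, Int.negSucc 0, Int.negSucc 0, Int.negSucc 0, Int.negSucc 0, Int.negSucc 0, Int.ofNat 1, Int.ofNat 1, Int.negSucc 0, Int.ofNat 3, Int.negSucc 0, Int.negSucc 0, Int.ofNat 1, Int.negSucc 0, Int.ofNat 1],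
  [Int.ofNat 1, Int.negSucc 0, Int.ofNat 1, Int.ofNat 1, Int.negSucc 0, Int.negSucc 0, Int.ofNat 1, Int.negSucc 0, Int.ofNat 1, Int.ofNat 1, Int.ofNat 1, Int.ofNat 1, Int.negSucc 0, Int.negSucc 0, Int.negSucc 0, Int.ofNat 1, Int.ofNat 1, Int.negSucc 0, Int.negSucc 2, Int.negSucc 0, Int.negSucc 0, Int.negSucc 0, Int.negSucc 0, Int.ofNat 1],
  [Int.ofNat 1, Int.ofNat 1, Int.negSucc 2, Int.ofNat 1, Int.negSucc 0, Int.ofNat 1, Int.negSucc 0, Int.negSucc 0, Int.ofNat 1, Int.ofNat 1, Int.negSucc 0, Int.negSucc 0, Int.negSucc 0, Int.ofNat 1, Int.negSucc 0, Int.ofNat 1, Int.negSucc 0, Int.negSucc 0, Int.ofNat 1, Int.negSucc 0, Int.negSucc 0, Int.negSucc 0, Int.ofNat 1, Int.ofNat 1],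
  [Int.negSucc 0, Int.ofNat 1, Int.ofNat 3, Int.ofNat 1, Int.negSucc 0, Int.ofNat 1, Int.negSucc 0, Int.ofNat 1, Int.ofNat 1, Int.negSucc 0, Int.ofNat 1, Int.ofNat 1, Int.negSucc 0, Int.ofNat 1, Int.negSucc 0, Int.ofNat 1, Int.negSucc 0, Int.negSucc 0, Int.negSucc 0, Int.negSucc 0, Int.negSucc 0, Int.ofNat 1, Int.ofNat 1, Int.ofNat 1],
  [Int.ofNat 1, Int.negSucc 0, Int.ofNat 1, Int.ofNat 3, Int.ofNat 1, Int.negSucc 0, Int.ofNat 1, Int.negSucc 0, Int.ofNat 1, Int.ofNat 1, Int.negSucc 0, Int.ofNat 1, Int.ofNat 1, Int.negSucc 0, Int.ofNat 1, Int.negSucc 0, Int.ofNat 1, Int.negSucc 0, Int.negSucc 0, Int.negSucc 0, Int.negSucc 0, Int.negSucc 0, Int.ofNat 1, Int.ofNat 1],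
  [Int.ofNat 0, Int.ofNat 2, Int.ofNat 0, Int.ofNat 2, Int.ofNat 0, Int.negSucc 1, Int.ofNat 2, Int.ofNat 0, Int.ofNat 0, Int.ofNat 2, Int.ofNat 0, Int.ofNat 0, Int.ofNat 0, Int.negSucc 1, Int.ofNat 0, Int.ofNat 0, Int.ofNat 0, Int.negSucc 1, Int.negSucc 1, Int.ofNat 0, Int.ofNat 0, Int.ofNat 0, Int.ofNat 0, Int.ofNat 0],
  [Int.ofNat 2, Int.ofNat 0, Int.negSucc 1, Int.ofNat 2, Int.ofNat 0, Int.ofNat 0, Int.ofNat 2, Int.ofNat 0, Int.ofNat 0, Int.ofNat 0, Int.negSucc 1, Int.ofNat 0, Int.ofNat 0, Int.ofNat 0, Int.negSucc 1, Int.negSucc 1, Int.ofNat 0, Int.ofNat 0, Int.ofNat 0, Int.ofNat 0, Int.ofNat 0, Int.ofNat 2, Int.ofNat 0, Int.ofNat 0],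
  [Int.negSucc 1, Int.ofNat 0, Int.ofNat 2, Int.ofNat 2, Int.ofNat 0, Int.ofNat 0, Int.ofNat 0, Int.negSucc 1, Int.ofNat 0, Int.ofNat 2, Int.ofNat 0, Int.ofNat 0, Int.ofNat 0, Int.ofNat 0, Int.negSucc 1, Int.ofNat 0, Int.ofNat 0, Int.ofNat 0, Int.ofNat 0, Int.negSucc 1, Int.ofNat 2, Int.ofNat 0, Int.ofNat 0, Int.ofNat 0],
  [Int.negSucc 1, Int.ofNat 0, Int.ofNat 0, Int.ofNat 2, Int.ofNat 0, Int.negSucc 1, Int.ofNat 2, Int.ofNat 0, Int.ofNat 0, Int.ofNat 0, Int.ofNat 2, Int.ofNat 0, Int.ofNat 2, Int.ofNat 0, Int.ofNat 0, Int.ofNat 0, Int.ofNat 0, Int.negSucc 1, Int.ofNat 0, Int.ofNat 0, Int.ofNat 0, Int.ofNat 0, Int.negSucc 1, Int.ofNat 0],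
  [Int.ofNat 1, Int.negSucc 0, Int.negSucc 0, Int.ofNat 3, Int.ofNat 1, Int.negSucc 0, Int.ofNat 1, Int.negSucc 0, Int.negSucc 0, Int.negSucc 0, Int.ofNat 1, Int.negSucc 0, Int.ofNat 1, Int.ofNat 1, Int.ofNat 1, Int.negSucc 0, Int.ofNat 1, Int.negSucc 0, Int.negSucc 0, Int.negSucc 0, Int.negSucc 0, Int.negSucc 0, Int.negSucc 0, Int.negSucc 0],
  [Int.ofNat 1, Int.negSucc 0, Int.ofNat 1, Int.ofNat 3, Int.ofNat 1, Int.ofNat 1, Int.negSucc 0, Int.negSucc 0, Int.negSucc 0, Int.ofNat 1, Int.negSucc 0, Int.negSucc 0, Int.ofNat 1, Int.ofNat 1, Int.ofNat 1, Int.ofNat 1, Int.ofNat 1, Int.negSucc 0, Int.ofNat 1, Int.negSucc 0, Int.negSucc 0, Int.negSucc 0, Int.ofNat 1, Int.negSucc 0],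
  [Int.negSucc 0, Int.ofNat 1, Int.negSucc 0, Int.negSucc 0, Int.ofNat 1, Int.negSucc 0, Int.negSucc 0, Int.ofNat 3, Int.ofNat 1, Int.negSucc 0, Int.ofNat 1, Int.negSucc 0, Int.ofNat 1, Int.ofNat 1, Int.negSucc 0, Int.ofNat 1, Int.negSucc 0, Int.ofNat 1, Int.ofNat 1, Int.ofNat 1, Int.ofNat 1, Int.negSucc 0, Int.ofNat 1, Int.negSucc 0],
  [Int.ofNat 1, Int.negSucc 0, Int.ofNat 1, Int.ofNat 1, Int.negSucc 0, Int.negSucc 0, Int.ofNat 1, Int.ofNat 3, Int.negSucc 0, Int.ofNat 1, Int.ofNat 1, Int.negSucc 0, Int.negSucc 0, Int.negSucc 0, Int.negSucc 0, Int.ofNat 1, Int.ofNat 1, Int.ofNat 1, Int.negSucc 0, Int.ofNat 1, Int.ofNat 1, Int.negSucc 0, Int.ofNat 1, Int.negSucc 0],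
  [Int.negSucc 0, Int.ofNat 1, Int.negSucc 0, Int.ofNat 1, Int.ofNat 1, Int.ofNat 1, Int.ofNat 1, Int.negSucc 0, Int.ofNat 1, Int.negSucc 0, Int.ofNat 1, Int.ofNat 1, Int.negSucc 0, Int.ofNat 3, Int.negSucc 0, Int.ofNat 1, Int.ofNat 1, Int.negSucc 0, Int.negSucc 0, Int.ofNat 1, Int.negSucc 0, Int.negSucc 0, Int.negSucc 0, Int.ofNat 1],
  [Int.ofNat 1, Int.ofNat 1, Int.ofNat 1, Int.ofNat 1, Int.ofNat 1, Int.ofNat 1, Int.ofNat 1, Int.ofNat 1, Int.ofNat 1, Int.ofNat 1, Int.negSucc 0, Int.negSucc 0, Int.negSucc 0, Int.ofNat 3, Int.negSucc 0, Int.ofNat 1, Int.ofNat 1, Int.negSucc 0, Int.ofNat 1, Int.ofNat 1, Int.negSucc 0, Int.ofNat 1, Int.negSucc 0, Int.ofNat 1],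
  [Int.negSucc 0, Int.ofNat 1, Int.ofNat 1, Int.ofNat 1, Int.ofNat 1, Int.ofNat 1, Int.ofNat 1, Int.ofNat 1, Int.ofNat 1, Int.ofNat 1, Int.ofNat 1, Int.negSucc 0, Int.negSucc 0, Int.negSucc 0, Int.ofNat 3, Int.negSucc 0, Int.ofNat 1, Int.ofNat 1, Int.negSucc 0, Int.ofNat 1, Int.ofNat 1, Int.negSucc 0, Int.ofNat 1, Int.ofNat 1],
  [Int.ofNat 2, Int.ofNat 0, Int.ofNat 0, Int.negSucc 1, Int.ofNat 0, Int.negSucc 1, Int.ofNat 0, Int.ofNat 0, Int.ofNat 2, Int.ofNat 0, Int.ofNat 0, Int.ofNat 0, Int.ofNat 0, Int.negSucc 1, Int.ofNat 0, Int.negSucc 1, Int.ofNat 0, Int.negSucc 1, Int.ofNat 0, Int.ofNat 0, Int.ofNat 0, Int.negSucc 1, Int.ofNat 0, Int.ofNat 0],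
  [Int.negSucc 1, Int.ofNat 0, Int.negSucc 1, Int.ofNat 0, Int.ofNat 0, Int.ofNat 2, Int.ofNat 0, Int.ofNat 0, Int.ofNat 0, Int.ofNat 0, Int.negSucc 1, Int.ofNat 0, Int.negSucc 1, Int.ofNat 0, Int.negSucc 1, Int.ofNat 0, Int.ofNat 0, Int.ofNat 0, Int.negSucc 1, Int.ofNat 0, Int.ofNat 2, Int.ofNat 0, Int.ofNat 0, Int.ofNat 0],
  [Int.ofNat 0, Int.negSucc 1, Int.ofNat 0, Int.ofNat 0, Int.ofNat 0, Int.ofNat 2, Int.ofNat 0, Int.ofNat 0, Int.ofNat 2, Int.ofNat 0, Int.negSucc 1, Int.ofNat 2, Int.ofNat 0, Int.ofNat 0, Int.negSucc 1, Int.ofNat 0, Int.ofNat 0, Int.ofNat 0, Int.ofNat 0, Int.ofNat 0, Int.ofNat 2, Int.ofNat 0, Int.ofNat 0, Int.negSucc 1],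
  [Int.ofNat 0, Int.ofNat 0, Int.ofNat 0, Int.ofNat 0, Int.ofNat 0, Int.ofNat 0, Int.ofNat 0, Int.negSucc 1, Int.ofNat 0, Int.ofNat 0, Int.ofNat 2, Int.ofNat 0, Int.ofNat 0, Int.ofNat 0, Int.ofNat 0, Int.ofNat 0, Int.ofNat 2, Int.negSucc 1, Int.negSucc 1, Int.ofNat 2, Int.ofNat 0, Int.ofNat 2, Int.ofNat 0, Int.negSucc 1],
  [Int.negSucc 0, Int.negSucc 0, Int.negSucc 0, Int.ofNat 1, Int.negSucc 0, Int.ofNat 1, Int.negSucc 0, Int.negSucc 2, Int.ofNat 1, Int.negSucc 0, Int.ofNat 1, Int.ofNat 1, Int.ofNat 1, Int.negSucc 0, Int.ofNat 1, Int.negSucc 0, Int.ofNat 1, Int.negSucc 0, Int.negSucc 0, Int.ofNat 1, Int.negSucc 0, Int.ofNat 1, Int.negSucc 0, Int.ofNat 1],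
  [Int.negSucc 0, Int.negSucc 0, Int.ofNat 1, Int.ofNat 1, Int.negSucc 0, Int.negSucc 0, Int.ofNat 1, Int.negSucc 2, Int.ofNat 1, Int.ofNat 1, Int.negSucc 0, Int.ofNat 1, Int.ofNat 1, Int.negSucc 0, Int.ofNat 1, Int.ofNat 1, Int.ofNat 1, Int.negSucc 0, Int.ofNat 1, Int.ofNat 1, Int.negSucc 0, Int.ofNat 1, Int.ofNat 1, Int.ofNat 1],
  [Int.negSucc 0, Int.negSucc 2, Int.negSucc 0, Int.negSucc 0, Int.ofNat 1, Int.negSucc 0, Int.ofNat 1, Int.ofNat 1, Int.ofNat 1, Int.negSucc 0, Int.negSucc 0, Int.ofNat 1, Int.ofNat 1, Int.negSucc 0, Int.ofNat 1, Int.ofNat 1, Int.negSucc 0, Int.ofNat 1, Int.ofNat 1, Int.ofNat 1, Int.ofNat 1, Int.ofNat 1, Int.ofNat 1, Int.ofNat 1],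
  [Int.negSucc 0, Int.negSucc 2, Int.ofNat 1, Int.negSucc 0, Int.ofNat 1, Int.ofNat 1, Int.negSucc 0, Int.ofNat 1, Int.ofNat 1, Int.ofNat 1, Int.ofNat 1, Int.ofNat 1, Int.ofNat 1, Int.negSucc 0, Int.ofNat 1, Int.negSucc 0, Int.negSucc 0, Int.ofNat 1, Int.negSucc 0, Int.ofNat 1, Int.ofNat 1, Int.ofNat 1, Int.negSucc 0, Int.ofNat 1],
  [Int.ofNat 0, Int.ofNat 2, Int.negSucc 1, Int.negSucc 1, Int.ofNat 2, Int.ofNat 0, Int.negSucc 1, Int.ofNat 0, Int.ofNat 0, Int.ofNat 0, Int.ofNat 0, Int.ofNat 0, Int.ofNat 0, Int.ofNat 0, Int.ofNat 0, Int.negSucc 1, Int.ofNat 0, Int.ofNat 0, Int.negSucc 1, Int.ofNat 0, Int.ofNat 0, Int.ofNat 0, Int.ofNat 0, Int.negSucc 1],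
  [Int.ofNat 0, Int.negSucc 1, Int.negSucc 1, Int.negSucc 1, Int.negSucc 1, Int.ofNat 0, Int.ofNat 2, Int.ofNat 0, Int.ofNat 0, Int.ofNat 0, Int.ofNat 0, Int.ofNat 0, Int.ofNat 0, Int.ofNat 0, Int.ofNat 0, Int.negSucc 1, Int.ofNat 0, Int.ofNat 0, Int.ofNat 2, Int.ofNat 0, Int.ofNat 0, Int.ofNat 0, Int.ofNat 0, Int.negSucc 1],
  [Int.negSucc 2, Int.negSucc 0, Int.negSucc 0, Int.negSucc 0, Int.negSucc 0, Int.ofNat 1, Int.ofNat 1, Int.negSucc 0, Int.negSucc 0, Int.ofNat 1, Int.ofNat 1, Int.negSucc 0, Int.negSucc 0, Int.ofNat 1, Int.ofNat 1, Int.negSucc 0, Int.ofNat 1, Int.ofNat 1, Int.ofNat 1, Int.negSucc 0, Int.ofNat 1, Int.negSucc 0, Int.ofNat 1, Int.negSucc 0],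
  [Int.ofNat 1, Int.negSucc 0, Int.ofNat 1, Int.negSucc 2, Int.negSucc 0, Int.negSucc 0, Int.negSucc 0, Int.negSucc 0, Int.ofNat 1, Int.ofNat 1, Int.negSucc 0, Int.negSucc 0, Int.ofNat 1, Int.ofNat 1, Int.negSucc 0, Int.negSucc 0, Int.ofNat 1, Int.ofNat 1, Int.negSucc 0, Int.ofNat 1, Int.ofNat 1, Int.ofNat 1, Int.negSucc 0, Int.negSucc 0],
  [Int.negSucc 0, Int.ofNat 1, Int.negSucc 0, Int.negSucc 0, Int.negSucc 0, Int.ofNat 1, Int.negSucc 0, Int.negSucc 0, Int.ofNat 1, Int.ofNat 1, Int.negSucc 0, Int.negSucc 0, Int.ofNat 1, Int.ofNat 1, Int.ofNat 1, Int.negSucc 0, Int.ofNat 1, Int.ofNat 3, Int.negSucc 0, Int.ofNat 1, Int.ofNat 1, Int.ofNat 1, Int.negSucc 0, Int.ofNat 1],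
  [Int.ofNat 1, Int.negSucc 0, Int.negSucc 0, Int.negSucc 0, Int.ofNat 1, Int.negSucc 0, Int.negSucc 0, Int.ofNat 1, Int.ofNat 1, Int.negSucc 0, Int.negSucc 0, Int.ofNat 1, Int.ofNat 1, Int.ofNat 1, Int.negSucc 0, Int.ofNat 1, Int.ofNat 3, Int.negSucc 0, Int.ofNat 1, Int.ofNat 1, Int.ofNat 1, Int.negSucc 0, Int.negSucc 0, Int.ofNat 1],
  [Int.negSucc 0, Int.negSucc 0, Int.ofNat 1, Int.negSucc 0, Int.ofNat 1, Int.negSucc 0, Int.negSucc 0, Int.negSucc 0, Int.ofNat 1, Int.ofNat 1, Int.ofNat 1, Int.negSucc 0, Int.ofNat 1, Int.ofNat 1, Int.negSucc 0, Int.ofNat 1, Int.ofNat 3, Int.negSucc 0, Int.negSucc 0, Int.ofNat 1, Int.ofNat 1, Int.ofNat 1, Int.negSucc 0, Int.ofNat 1],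
  [Int.negSucc 0, Int.ofNat 1, Int.negSucc 0, Int.negSucc 0, Int.negSucc 0, Int.ofNat 1, Int.ofNat 1, Int.ofNat 1, Int.ofNat 1, Int.ofNat 3, Int.ofNat 1, Int.negSucc 0, Int.ofNat 1, Int.ofNat 1, Int.ofNat 1, Int.ofNat 1, Int.ofNat 1, Int.negSucc 0, Int.negSucc 0, Int.negSucc 0, Int.negSucc 0, Int.negSucc 0, Int.negSucc 0, Int.ofNat 1],
  [Int.ofNat 1, Int.ofNat 1, Int.ofNat 1, Int.negSucc 0, Int.negSucc 0, Int.ofNat 1, Int.ofNat 1, Int.negSucc 0, Int.ofNat 1, Int.negSucc 2, Int.negSucc 0, Int.ofNat 1, Int.ofNat 1, Int.ofNat 1, Int.ofNat 1, Int.ofNat 1, Int.ofNat 1, Int.negSucc 0, Int.ofNat 1, Int.negSucc 0, Int.negSucc 0, Int.ofNat 1, Int.negSucc 0, Int.ofNat 1],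
  [Int.negSucc 0, Int.ofNat 1, Int.ofNat 1, Int.ofNat 1, Int.negSucc 0, Int.negSucc 0, Int.ofNat 1, Int.ofNat 1, Int.negSucc 0, Int.ofNat 1, Int.negSucc 2, Int.negSucc 0, Int.ofNat 1, Int.ofNat 1, Int.ofNat 1, Int.ofNat 1, Int.ofNat 1, Int.ofNat 1, Int.negSucc 0, Int.ofNat 1, Int.negSucc 0, Int.negSucc 0, Int.ofNat 1, Int.ofNat 1],
  [Int.ofNat 2, Int.ofNat 0, Int.ofNat 0, Int.ofNat 0, Int.negSucc 1, Int.negSucc 1, Int.ofNat 0, Int.ofNat 0, Int.ofNat 0, Int.ofNat 2, Int.negSucc 1, Int.ofNat 0, Int.ofNat 2, Int.ofNat 0, Int.ofNat 0, Int.ofNat 2, Int.ofNat 0, Int.ofNat 0, Int.ofNat 0, Int.ofNat 0, Int.ofNat 0, Int.negSucc 1, Int.ofNat 0, Int.ofNat 0],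
  [Int.ofNat 0, Int.negSucc 1, Int.negSucc 1, Int.ofNat 0, Int.ofNat 0, Int.ofNat 0, Int.ofNat 2, Int.negSucc 1, Int.ofNat 0, Int.ofNat 2, Int.ofNat 0, Int.ofNat 0, Int.ofNat 2, Int.ofNat 0, Int.ofNat 0, Int.ofNat 0, Int.ofNat 0, Int.ofNat 0, Int.negSucc 1, Int.ofNat 0, Int.ofNat 2, Int.ofNat 0, Int.ofNat 0, Int.ofNat 0],
  [Int.negSucc 1, Int.ofNat 0, Int.ofNat 0, Int.ofNat 0, Int.ofNat 0, Int.ofNat 0, Int.ofNat 2, Int.negSucc 1, Int.ofNat 0, Int.ofNat 0, Int.negSucc 1, Int.ofNat 0, Int.ofNat 2, Int.ofNat 0, Int.ofNat 0, Int.negSucc 1, Int.ofNat 0, Int.ofNat 0, Int.negSucc 1, Int.ofNat 0, Int.ofNat 0, Int.ofNat 0, Int.ofNat 0, Int.negSucc 1],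
  [Int.negSucc 1, Int.ofNat 2, Int.ofNat 0, Int.ofNat 0, Int.negSucc 1, Int.negSucc 1, Int.ofNat 0, Int.negSucc 1, Int.ofNat 2, Int.ofNat 0, Int.ofNat 0, Int.ofNat 0, Int.ofNat 0, Int.ofNat 0, Int.ofNat 0, Int.negSucc 1, Int.ofNat 0, Int.ofNat 0, Int.ofNat 0, Int.ofNat 0, Int.ofNat 0, Int.ofNat 0, Int.ofNat 0, Int.negSucc 1],
  [Int.ofNat 1, Int.negSucc 2, Int.negSucc 0, Int.ofNat 1, Int.negSucc 0, Int.negSucc 0, Int.ofNat 1, Int.negSucc 0, Int.ofNat 1, Int.ofNat 1, Int.ofNat 1, Int.negSucc 0, Int.negSucc 0, Int.ofNat 1, Int.ofNat 1, Int.negSucc 0, Int.ofNat 1, Int.ofNat 1, Int.negSucc 0, Int.ofNat 1, Int.ofNat 1, Int.ofNat 1, Int.ofNat 1, Int.ofNat 1],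
  [Int.ofNat 1, Int.negSucc 2, Int.ofNat 1, Int.ofNat 1, Int.negSucc 0, Int.ofNat 1, Int.negSucc 0, Int.negSucc 0, Int.ofNat 1, Int.negSucc 0, Int.negSucc 0, Int.negSucc 0, Int.negSucc 0, Int.ofNat 1, Int.ofNat 1, Int.ofNat 1, Int.ofNat 1, Int.ofNat 1, Int.ofNat 1, Int.ofNat 1, Int.ofNat 1, Int.ofNat 1, Int.negSucc 0, Int.ofNat 1],
  [Int.negSucc 0, Int.ofNat 1, Int.negSucc 0, Int.ofNat 1, Int.ofNat 1, Int.negSucc 0, Int.ofNat 1, Int.ofNat 1, Int.ofNat 1, Int.ofNat 1, Int.ofNat 1, Int.negSucc 0, Int.ofNat 1, Int.negSucc 0, Int.ofNat 1, Int.ofNat 1, Int.ofNat 1, Int.negSucc 0, Int.negSucc 0, Int.ofNat 1, Int.ofNat 1, Int.negSucc 2, Int.negSucc 0, Int.ofNat 1],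
  [Int.ofNat 1, Int.negSucc 0, Int.ofNat 1, Int.negSucc 0, Int.negSucc 0, Int.negSucc 0, Int.negSucc 0, Int.ofNat 1, Int.negSucc 0, Int.negSucc 0, Int.ofNat 1, Int.negSucc 0, Int.negSucc 0, Int.ofNat 1, Int.ofNat 1, Int.ofNat 1, Int.negSucc 0, Int.negSucc 0, Int.ofNat 1, Int.ofNat 1, Int.ofNat 1, Int.negSucc 2, Int.negSucc 0, Int.ofNat 1],
  [Int.ofNat 1, Int.negSucc 0, Int.negSucc 0, Int.ofNat 1, Int.negSucc 0, Int.negSucc 0, Int.ofNat 1, Int.ofNat 1, Int.ofNat 1, Int.negSucc 0, Int.negSucc 0, Int.ofNat 1, Int.negSucc 2, Int.ofNat 1, Int.ofNat 1, Int.negSucc 0, Int.ofNat 1, Int.negSucc 0, Int.ofNat 1, Int.negSucc 0, Int.negSucc 0, Int.negSucc 0, Int.negSucc 0, Int.ofNat 1],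
  [Int.negSucc 0, Int.negSucc 0, Int.ofNat 1, Int.ofNat 1, Int.negSucc 0, Int.negSucc 0, Int.ofNat 1, Int.negSucc 0, Int.ofNat 1, Int.ofNat 1, Int.ofNat 1, Int.negSucc 0, Int.negSucc 2, Int.ofNat 1, Int.ofNat 1, Int.negSucc 0, Int.ofNat 1, Int.negSucc 0, Int.negSucc 0, Int.negSucc 0, Int.negSucc 0, Int.ofNat 1, Int.negSucc 0, Int.ofNat 1],
  [Int.negSucc 0, Int.negSucc 0, Int.negSucc 0, Int.ofNat 1, Int.ofNat 1, Int.negSucc 0, Int.negSucc 0, Int.ofNat 1, Int.negSucc 0, Int.ofNat 1, Int.ofNat 1, Int.ofNat 1, Int.negSucc 0, Int.negSucc 2, Int.ofNat 1, Int.ofNat 1, Int.negSucc 0, Int.ofNat 1, Int.negSucc 0, Int.negSucc 0, Int.negSucc 0, Int.negSucc 0, Int.ofNat 1, Int.ofNat 1],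
  [Int.ofNat 0, Int.ofNat 0, Int.ofNat 0, Int.ofNat 0, Int.ofNat 2, Int.negSucc 1, Int.ofNat 0, Int.ofNat 2, Int.ofNat 0, Int.ofNat 0, Int.ofNat 0, Int.ofNat 2, Int.ofNat 0, Int.negSucc 1, Int.ofNat 0, Int.ofNat 0, Int.ofNat 0, Int.ofNat 0, Int.ofNat 0, Int.ofNat 0, Int.negSucc 1, Int.ofNat 0, Int.ofNat 2, Int.negSucc 1],
  [Int.ofNat 0, Int.ofNat 2, Int.negSucc 1, Int.ofNat 0, Int.ofNat 2, Int.ofNat 0, Int.ofNat 0, Int.ofNat 0, Int.ofNat 2, Int.ofNat 0, Int.negSucc 1, Int.ofNat 0, Int.ofNat 0, Int.ofNat 0, Int.ofNat 0, Int.ofNat 0, Int.ofNat 0, Int.negSucc 1, Int.ofNat 0, Int.ofNat 2, Int.ofNat 0, Int.ofNat 0, Int.ofNat 0, Int.negSucc 1],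
  [Int.negSucc 0, Int.negSucc 2, Int.ofNat 1, Int.ofNat 1, Int.ofNat 1, Int.ofNat 1, Int.negSucc 0, Int.negSucc 0, Int.ofNat 1, Int.ofNat 1, Int.negSucc 0, Int.negSucc 0, Int.negSucc 0, Int.negSucc 0, Int.ofNat 1, Int.ofNat 1, Int.negSucc 0, Int.negSucc 0, Int.negSucc 0, Int.ofNat 1, Int.ofNat 1, Int.negSucc 0, Int.negSucc 0, Int.ofNat 1],
  [Int.negSucc 0, Int.negSucc 0, Int.ofNat 1, Int.ofNat 1, Int.negSucc 0, Int.negSucc 0, Int.ofNat 1, Int.negSucc 0, Int.negSucc 0, Int.negSucc 0, Int.ofNat 1, Int.negSucc 0, Int.ofNat 1, Int.negSucc 0, Int.negSucc 0, Int.ofNat 1, Int.ofNat 1, Int.ofNat 1, Int.negSucc 2, Int.negSucc 0, Int.negSucc 0, Int.ofNat 1, Int.ofNat 1, Int.ofNat 1],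
  [Int.ofNat 1, Int.ofNat 1, Int.negSucc 0, Int.ofNat 1, Int.negSucc 0, Int.negSucc 0, Int.ofNat 1, Int.negSucc 0, Int.ofNat 1, Int.negSucc 0, Int.ofNat 1, Int.ofNat 1, Int.ofNat 3, Int.negSucc 0, Int.negSucc 0, Int.ofNat 1, Int.ofNat 1, Int.ofNat 1, Int.negSucc 0, Int.negSucc 0, Int.negSucc 0, Int.ofNat 1, Int.ofNat 1, Int.negSucc 0],
  [Int.ofNat 1, Int.ofNat 1, Int.ofNat 1, Int.ofNat 1, Int.negSucc 0, Int.ofNat 1, Int.negSucc 0, Int.negSucc 0, Int.ofNat 1, Int.ofNat 1, Int.negSucc 0, Int.ofNat 1, Int.ofNat 3, Int.negSucc 0, Int.negSucc 0, Int.negSucc 0, Int.ofNat 1, Int.ofNat 1, Int.ofNat 1, Int.negSucc 0, Int.negSucc 0, Int.ofNat 1, Int.negSucc 0, Int.negSucc 0],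
  [Int.negSucc 0, Int.negSucc 0, Int.negSucc 0, Int.ofNat 1, Int.ofNat 1, Int.ofNat 1, Int.ofNat 1, Int.ofNat 1, Int.negSucc 0, Int.ofNat 1, Int.negSucc 0, Int.ofNat 1, Int.ofNat 1, Int.negSucc 0, Int.ofNat 3, Int.ofNat 1, Int.ofNat 1, Int.negSucc 0, Int.negSucc 0, Int.ofNat 1, Int.negSucc 0, Int.ofNat 1, Int.negSucc 0, Int.negSucc 0],
  [Int.negSucc 0, Int.negSucc 0, Int.ofNat 1, Int.ofNat 1, Int.ofNat 1, Int.negSucc 0, Int.negSucc 0, Int.ofNat 1, Int.negSucc 0, Int.negSucc 0, Int.ofNat 1, Int.ofNat 1, Int.ofNat 1, Int.negSucc 0, Int.ofNat 3, Int.negSucc 0, Int.ofNat 1, Int.negSucc 0, Int.ofNat 1, Int.ofNat 1, Int.negSucc 0, Int.ofNat 1, Int.ofNat 1, Int.negSucc 0],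
  [Int.ofNat 0, Int.ofNat 0, Int.negSucc 1, Int.ofNat 0, Int.ofNat 0, Int.negSucc 1, Int.negSucc 1, Int.ofNat 0, Int.negSucc 1, Int.ofNat 0, Int.ofNat 2, Int.ofNat 0, Int.ofNat 0, Int.negSucc 1, Int.ofNat 2, Int.ofNat 0, Int.ofNat 0, Int.negSucc 1, Int.ofNat 0, Int.ofNat 0, Int.ofNat 0, Int.ofNat 0, Int.ofNat 0, Int.ofNat 0],
  [Int.ofNat 0, Int.ofNat 0, Int.negSucc 1, Int.ofNat 0, Int.negSucc 1, Int.ofNat 0, Int.ofNat 0, Int.negSucc 1, Int.ofNat 0, Int.ofNat 0, Int.ofNat 0, Int.ofNat 0, Int.negSucc 1, Int.ofNat 0, Int.negSucc 1, Int.ofNat 0, Int.negSucc 1, Int.ofNat 0, Int.ofNat 0, Int.ofNat 0, Int.ofNat 2, Int.ofNat 0, Int.ofNat 2, Int.ofNat 0],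
  [Int.negSucc 0, Int.negSucc 0, Int.ofNat 1, Int.ofNat 1, Int.negSucc 0, Int.ofNat 1, Int.ofNat 1, Int.negSucc 0, Int.ofNat 1, Int.negSucc 0, Int.negSucc 0, Int.ofNat 1, Int.negSucc 0, Int.ofNat 1, Int.negSucc 0, Int.negSucc 0, Int.negSucc 0, Int.ofNat 1, Int.ofNat 1, Int.ofNat 1, Int.ofNat 1, Int.ofNat 1, Int.ofNat 3, Int.negSucc 0],
  [Int.ofNat 1, Int.ofNat 1, Int.ofNat 3, Int.negSucc 0, Int.negSucc 0, Int.ofNat 1, Int.ofNat 1, Int.negSucc 0, Int.ofNat 1, Int.ofNat 1, Int.negSucc 0, Int.ofNat 1, Int.negSucc 0, Int.negSucc 0, Int.ofNat 1, Int.negSucc 0, Int.ofNat 1, Int.negSucc 0, Int.negSucc 0, Int.negSucc 0, Int.ofNat 1, Int.ofNat 1, Int.ofNat 1, Int.negSucc 0],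
  [Int.ofNat 1, Int.ofNat 1, Int.negSucc 0, Int.negSucc 0, Int.negSucc 0, Int.ofNat 1, Int.ofNat 1, Int.negSucc 0, Int.ofNat 1, Int.ofNat 1, Int.negSucc 0, Int.ofNat 1, Int.negSucc 0, Int.negSucc 0, Int.ofNat 1, Int.negSucc 0, Int.ofNat 1, Int.negSucc 0, Int.negSucc 0, Int.negSucc 0, Int.ofNat 1, Int.ofNat 1, Int.ofNat 1, Int.ofNat 3],
  [Int.ofNat 1, Int.negSucc 0, Int.negSucc 0, Int.negSucc 0, Int.ofNat 1, Int.ofNat 1, Int.negSucc 0, Int.ofNat 1, Int.ofNat 1, Int.negSucc 0, Int.ofNat 1, Int.negSucc 0, Int.negSucc 0, Int.ofNat 1, Int.negSucc 0, Int.ofNat 1, Int.negSucc 0, Int.negSucc 0, Int.negSucc 0, Int.ofNat 1, Int.ofNat 1, Int.ofNat 1, Int.ofNat 1, Int.ofNat 3],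
  [Int.negSucc 0, Int.negSucc 0, Int.ofNat 1, Int.negSucc 0, Int.ofNat 1, Int.ofNat 1, Int.negSucc 0, Int.negSucc 0, Int.ofNat 1, Int.ofNat 1, Int.negSucc 0, Int.ofNat 1, Int.negSucc 0, Int.ofNat 1, Int.negSucc 0, Int.ofNat 1, Int.negSucc 0, Int.negSucc 0, Int.ofNat 1, Int.ofNat 1, Int.ofNat 1, Int.negSucc 0, Int.ofNat 1, Int.ofNat 3],
  [Int.negSucc 0, Int.ofNat 1, Int.ofNat 1, Int.negSucc 0, Int.negSucc 0, Int.negSucc 0, Int.ofNat 1, Int.ofNat 1, Int.ofNat 1, Int.negSucc 0, Int.negSucc 0, Int.negSucc 0, Int.ofNat 1, Int.ofNat 1, Int.ofNat 1, Int.ofNat 1, Int.negSucc 0, Int.ofNat 1, Int.negSucc 0, Int.negSucc 0, Int.ofNat 1, Int.negSucc 0, Int.ofNat 1, Int.ofNat 3],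
  [Int.ofNat 1, Int.ofNat 1, Int.negSucc 0, Int.negSucc 0, Int.negSucc 0, Int.negSucc 0, Int.ofNat 1, Int.negSucc 0, Int.ofNat 1, Int.ofNat 1, Int.ofNat 1, Int.ofNat 1, Int.ofNat 1, Int.ofNat 1, Int.ofNat 1, Int.ofNat 1, Int.negSucc 0, Int.ofNat 1, Int.ofNat 1, Int.negSucc 0, Int.ofNat 1, Int.ofNat 1, Int.ofNat 1, Int.ofNat 3],
  [Int.ofNat 1, Int.ofNat 1, Int.ofNat 1, Int.negSucc 0, Int.negSucc 0, Int.negSucc 0, Int.negSucc 0, Int.ofNat 1, Int.negSucc 0, Int.ofNat 1, Int.ofNat 1, Int.ofNat 1, Int.ofNat 1, Int.ofNat 1, Int.ofNat 1, Int.ofNat 1, Int.ofNat 1, Int.negSucc 0, Int.ofNat 1, Int.ofNat 1, Int.negSucc 0, Int.ofNat 1, Int.ofNat 1, Int.ofNat 3],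
  [Int.ofNat 2, Int.ofNat 2, Int.ofNat 2, Int.ofNat 0, Int.negSucc 1, Int.ofNat 0, Int.negSucc 1, Int.ofNat 0, Int.negSucc 1, Int.ofNat 0, Int.ofNat 0, Int.ofNat 0, Int.ofNat 0, Int.ofNat 0, Int.ofNat 2, Int.ofNat 0, Int.ofNat 0, Int.ofNat 0, Int.ofNat 0, Int.ofNat 0, Int.negSucc 1, Int.ofNat 0, Int.ofNat 0, Int.ofNat 0],
  [Int.ofNat 0, Int.negSucc 1, Int.ofNat 0, Int.negSucc 1, Int.ofNat 0, Int.negSucc 1, Int.ofNat 0, Int.ofNat 0, Int.ofNat 0, Int.ofNat 0, Int.ofNat 0, Int.ofNat 2, Int.ofNat 0, Int.ofNat 0, Int.ofNat 0, Int.ofNat 0, Int.ofNat 0, Int.negSucc 1, Int.ofNat 0, Int.ofNat 0, Int.ofNat 2, Int.ofNat 2, Int.ofNat 2, Int.ofNat 0],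
  [Int.negSucc 0, Int.ofNat 1, Int.negSucc 0, Int.ofNat 1, Int.negSucc 0, Int.ofNat 1, Int.negSucc 0, Int.negSucc 0, Int.negSucc 0, Int.negSucc 0, Int.negSucc 0, Int.ofNat 1, Int.negSucc 0, Int.negSucc 0, Int.ofNat 3, Int.negSucc 0, Int.negSucc 0, Int.ofNat 1, Int.negSucc 0, Int.negSucc 0, Int.ofNat 1, Int.ofNat 1, Int.ofNat 1, Int.negSucc 0],
  [Int.negSucc 0, Int.negSucc 0, Int.negSucc 0, Int.ofNat 1, Int.negSucc 0, Int.negSucc 0, Int.negSucc 0, Int.negSucc 0, Int.negSucc 0, Int.negSucc 0, Int.ofNat 1, Int.ofNat 1, Int.negSucc 0, Int.negSucc 0, Int.ofNat 1, Int.negSucc 0, Int.negSucc 0, Int.ofNat 3, Int.ofNat 1, Int.ofNat 1, Int.ofNat 1, Int.ofNat 1, Int.negSucc 0, Int.negSucc 0],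
  [Int.negSucc 0, Int.negSucc 0, Int.negSucc 0, Int.negSucc 0, Int.ofNat 1, Int.negSucc 2, Int.negSucc 0, Int.negSucc 0, Int.negSucc 0, Int.negSucc 0, Int.ofNat 1, Int.ofNat 1, Int.negSucc 0, Int.ofNat 1, Int.negSucc 0, Int.negSucc 0, Int.ofNat 1, Int.ofNat 1, Int.ofNat 1, Int.ofNat 1, Int.ofNat 1, Int.ofNat 1, Int.ofNat 1, Int.negSucc 0],
  [Int.negSucc 0, Int.negSucc 0, Int.ofNat 1, Int.negSucc 0, Int.ofNat 1, Int.ofNat 3, Int.ofNat 1, Int.negSucc 0, Int.negSucc 0, Int.ofNat 1, Int.negSucc 0, Int.ofNat 1, Int.negSucc 0, Int.ofNat 1, Int.negSucc 0, Int.ofNat 1, Int.ofNat 1, Int.ofNat 1, Int.negSucc 0, Int.ofNat 1, Int.ofNat 1, Int.ofNat 1, Int.negSucc 0, Int.negSucc 0],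
  [Int.negSucc 0, Int.ofNat 1, Int.ofNat 1, Int.negSucc 0, Int.negSucc 0, Int.ofNat 1, Int.ofNat 1, Int.negSucc 0, Int.ofNat 3, Int.ofNat 1, Int.ofNat 1, Int.negSucc 0, Int.ofNat 1, Int.ofNat 1, Int.ofNat 1, Int.negSucc 0, Int.ofNat 1, Int.negSucc 0, Int.ofNat 1, Int.ofNat 1, Int.negSucc 0, Int.negSucc 0, Int.negSucc 0, Int.negSucc 0],
  [Int.ofNat 1, Int.negSucc 0, Int.negSucc 0, Int.ofNat 1, Int.ofNat 1, Int.ofNat 1, Int.negSucc 0, Int.negSucc 0, Int.negSucc 2, Int.negSucc 0, Int.ofNat 1, Int.negSucc 0, Int.negSucc 0, Int.negSucc 0, Int.ofNat 1, Int.negSucc 0, Int.negSucc 0, Int.negSucc 0, Int.negSucc 0, Int.ofNat 1, Int.negSucc 0, Int.negSucc 0, Int.negSucc 0, Int.negSucc 0],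
  [Int.negSucc 0, Int.negSucc 0, Int.negSucc 0, Int.negSucc 0, Int.negSucc 0, Int.negSucc 0, Int.ofNat 1, Int.negSucc 0, Int.negSucc 0, Int.ofNat 1, Int.negSucc 0, Int.negSucc 0, Int.negSucc 0, Int.negSucc 0, Int.negSucc 0, Int.ofNat 1, Int.ofNat 1, Int.ofNat 1, Int.ofNat 1, Int.negSucc 0, Int.negSucc 2, Int.negSucc 0, Int.negSucc 0, Int.ofNat 1],
  [Int.ofNat 1, Int.negSucc 0, Int.ofNat 1, Int.negSucc 0, Int.negSucc 0, Int.negSucc 0, Int.ofNat 1, Int.ofNat 1, Int.negSucc 0, Int.negSucc 0, Int.ofNat 1, Int.ofNat 1, Int.negSucc 0, Int.negSucc 0, Int.negSucc 0, Int.ofNat 1, Int.ofNat 1, Int.ofNat 1, Int.negSucc 0, Int.negSucc 0, Int.negSucc 2, Int.ofNat 1, Int.negSucc 0, Int.ofNat 1],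
  [Int.negSucc 0, Int.ofNat 1, Int.negSucc 0, Int.ofNat 1, Int.negSucc 0, Int.negSucc 0, Int.negSucc 0, Int.ofNat 1, Int.ofNat 1, Int.negSucc 0, Int.negSucc 0, Int.ofNat 1, Int.ofNat 1, Int.negSucc 0, Int.negSucc 0, Int.negSucc 0, Int.ofNat 1, Int.ofNat 1, Int.ofNat 1, Int.negSucc 0, Int.negSucc 0, Int.negSucc 2, Int.ofNat 1, Int.ofNat 1],
  [Int.ofNat 1, Int.negSucc 0, Int.ofNat 1, Int.ofNat 1, Int.negSucc 0, Int.negSucc 0, Int.ofNat 1, Int.ofNat 3, Int.negSucc 0, Int.ofNat 1, Int.ofNat 1, Int.negSucc 0, Int.negSucc 0, Int.negSucc 0, Int.negSucc 0, Int.ofNat 1, Int.ofNat 1, Int.ofNat 1, Int.negSucc 0, Int.ofNat 1, Int.ofNat 1, Int.negSucc 0, Int.ofNat 1, Int.negSucc 0],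
  [Int.ofNat 1, Int.negSucc 0, Int.negSucc 0, Int.ofNat 1, Int.ofNat 3, Int.negSucc 0, Int.ofNat 1, Int.ofNat 1, Int.negSucc 0, Int.negSucc 0, Int.negSucc 0, Int.negSucc 0, Int.ofNat 1, Int.ofNat 1, Int.ofNat 1, Int.negSucc 0, Int.ofNat 1, Int.ofNat 1, Int.negSucc 0, Int.ofNat 1, Int.ofNat 1, Int.negSucc 0, Int.ofNat 1, Int.negSucc 0],
  [Int.negSucc 1, Int.ofNat 0, Int.ofNat 0, Int.ofNat 0, Int.ofNat 0, Int.negSucc 1, Int.ofNat 0, Int.ofNat 0, Int.ofNat 0, Int.ofNat 0, Int.ofNat 0, Int.ofNat 0, Int.ofNat 2, Int.negSucc 1, Int.ofNat 0, Int.ofNat 0, Int.negSucc 1, Int.ofNat 0, Int.ofNat 0, Int.ofNat 0, Int.ofNat 2, Int.negSucc 1, Int.negSucc 1, Int.ofNat 0],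
  [Int.negSucc 1, Int.ofNat 0, Int.ofNat 0, Int.ofNat 0, Int.ofNat 0, Int.ofNat 0, Int.ofNat 0, Int.ofNat 0, Int.ofNat 2, Int.negSucc 1, Int.ofNat 2, Int.ofNat 0, Int.ofNat 0, Int.negSucc 1, Int.negSucc 1, Int.ofNat 0, Int.ofNat 0, Int.ofNat 0, Int.ofNat 0, Int.ofNat 0, Int.negSucc 1, Int.negSucc 1, Int.ofNat 0, Int.ofNat 0],
  [Int.ofNat 1, Int.negSucc 0, Int.negSucc 0, Int.ofNat 1, Int.ofNat 1, Int.ofNat 1, Int.ofNat 1, Int.ofNat 1, Int.ofNat 1, Int.negSucc 0, Int.ofNat 3, Int.negSucc 0, Int.negSucc 0, Int.negSucc 0, Int.negSucc 0, Int.ofNat 1, Int.ofNat 1, Int.ofNat 1, Int.negSucc 0, Int.ofNat 1, Int.negSucc 0, Int.negSucc 0, Int.ofNat 1, Int.negSucc 0],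
  [Int.ofNat 1, Int.negSucc 0, Int.ofNat 1, Int.ofNat 1, Int.ofNat 1, Int.negSucc 0, Int.negSucc 0, Int.ofNat 1, Int.ofNat 1, Int.ofNat 1, Int.negSucc 2, Int.negSucc 0, Int.negSucc 0, Int.negSucc 0, Int.negSucc 0, Int.negSucc 0, Int.ofNat 1, Int.ofNat 1, Int.ofNat 1, Int.ofNat 1, Int.negSucc 0, Int.negSucc 0, Int.negSucc 0, Int.negSucc 0],
  [Int.negSucc 0, Int.ofNat 1, Int.negSucc 0, Int.ofNat 1, Int.ofNat 1, Int.negSucc 0, Int.ofNat 1, Int.ofNat 1, Int.ofNat 1, Int.negSucc 0, Int.ofNat 1, Int.ofNat 1, Int.ofNat 1, Int.negSucc 2, Int.negSucc 0, Int.negSucc 0, Int.ofNat 1, Int.negSucc 0, Int.negSucc 0, Int.negSucc 0, Int.negSucc 0, Int.ofNat 1, Int.negSucc 0, Int.negSucc 0],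
  [Int.negSucc 0, Int.ofNat 1, Int.ofNat 1, Int.ofNat 1, Int.ofNat 1, Int.ofNat 1, Int.negSucc 0, Int.ofNat 1, Int.ofNat 1, Int.ofNat 1, Int.negSucc 0, Int.ofNat 1, Int.ofNat 1, Int.negSucc 2, Int.negSucc 0, Int.ofNat 1, Int.ofNat 1, Int.negSucc 0, Int.ofNat 1, Int.negSucc 0, Int.negSucc 0, Int.ofNat 1, Int.ofNat 1, Int.negSucc 0],
  [Int.ofNat 1, Int.negSucc 0, Int.negSucc 0, Int.ofNat 1, Int.ofNat 1, Int.ofNat 1, Int.negSucc 0, Int.ofNat 1, Int.negSucc 0, Int.ofNat 1, Int.negSucc 0, Int.negSucc 0, Int.negSucc 0, Int.negSucc 2, Int.negSucc 0, Int.ofNat 1, Int.ofNat 1, Int.negSucc 0, Int.negSucc 0, Int.negSucc 0, Int.negSucc 0, Int.ofNat 1, Int.ofNat 1, Int.ofNat 1],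
  [Int.ofNat 1, Int.negSucc 0, Int.negSucc 0, Int.ofNat 1, Int.negSucc 0, Int.ofNat 1, Int.negSucc 0, Int.ofNat 1, Int.ofNat 1, Int.negSucc 0, Int.ofNat 1, Int.negSucc 0, Int.negSucc 0, Int.ofNat 1, Int.negSucc 0, Int.ofNat 1, Int.negSucc 2, Int.negSucc 0, Int.ofNat 1, Int.ofNat 1, Int.negSucc 0, Int.negSucc 0, Int.negSucc 0, Int.ofNat 1],
  [Int.negSucc 0, Int.ofNat 1, Int.ofNat 1, Int.ofNat 1, Int.ofNat 1, Int.ofNat 1, Int.negSucc 0, Int.ofNat 1, Int.ofNat 1, Int.negSucc 0, Int.ofNat 1, Int.negSucc 0, Int.negSucc 0, Int.ofNat 3, Int.negSucc 0, Int.ofNat 1, Int.negSucc 0, Int.negSucc 0, Int.ofNat 1, Int.ofNat 1, Int.negSucc 0, Int.negSucc 0, Int.ofNat 1, Int.negSucc 0],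
  [Int.negSucc 0, Int.negSucc 0, Int.ofNat 1, Int.negSucc 0, Int.ofNat 1, Int.ofNat 1, Int.ofNat 1, Int.ofNat 1, Int.ofNat 1, Int.negSucc 0, Int.ofNat 1, Int.ofNat 1, Int.negSucc 0, Int.ofNat 1, Int.negSucc 0, Int.negSucc 0, Int.ofNat 3, Int.negSucc 0, Int.ofNat 1, Int.negSucc 0, Int.negSucc 0, Int.ofNat 1, Int.ofNat 1, Int.negSucc 0],
  [Int.ofNat 0, Int.ofNat 0, Int.negSucc 1, Int.ofNat 0, Int.negSucc 1, Int.ofNat 2, Int.ofNat 0, Int.ofNat 0, Int.ofNat 0, Int.ofNat 0, Int.ofNat 2, Int.ofNat 0, Int.negSucc 1, Int.negSucc 1, Int.ofNat 0, Int.ofNat 0, Int.ofNat 0, Int.ofNat 0, Int.ofNat 0, Int.negSucc 1, Int.ofNat 0, Int.ofNat 0, Int.negSucc 1, Int.ofNat 0],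
  [Int.ofNat 0, Int.negSucc 1, Int.ofNat 0, Int.negSucc 1, Int.ofNat 2, Int.ofNat 0, Int.ofNat 0, Int.ofNat 0, Int.ofNat 0, Int.ofNat 2, Int.ofNat 0, Int.negSucc 1, Int.negSucc 1, Int.ofNat 0, Int.ofNat 0, Int.ofNat 0, Int.ofNat 0, Int.ofNat 0, Int.negSucc 1, Int.ofNat 0, Int.ofNat 0, Int.negSucc 1, Int.ofNat 0, Int.ofNat 0],
  [Int.ofNat 0, Int.negSucc 1, Int.ofNat 0, Int.negSucc 1, Int.ofNat 2, Int.ofNat 0, Int.ofNat 0, Int.ofNat 0, Int.ofNat 0, Int.negSucc 1, Int.ofNat 0, Int.ofNat 2, Int.negSucc 1, Int.ofNat 0, Int.ofNat 0, Int.ofNat 0, Int.ofNat 0, Int.ofNat 0, Int.ofNat 2, Int.ofNat 0, Int.ofNat 0, Int.ofNat 2, Int.ofNat 0, Int.ofNat 0],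
  [Int.ofNat 0, Int.ofNat 0, Int.ofNat 2, Int.negSucc 1, Int.negSucc 1, Int.ofNat 0, Int.ofNat 2, Int.ofNat 0, Int.negSucc 1, Int.ofNat 0, Int.ofNat 2, Int.ofNat 0, Int.ofNat 0, Int.ofNat 0, Int.ofNat 0, Int.ofNat 0, Int.negSucc 1, Int.ofNat 0, Int.ofNat 0, Int.ofNat 0, Int.ofNat 0, Int.ofNat 0, Int.ofNat 2, Int.ofNat 0],
  [Int.ofNat 0, Int.ofNat 0, Int.negSucc 1, Int.negSucc 1, Int.negSucc 1, Int.ofNat 0, Int.ofNat 2, Int.ofNat 0, Int.negSucc 1, Int.ofNat 0, Int.negSucc 1, Int.ofNat 0, Int.ofNat 0, Int.ofNat 0, Int.ofNat 0, Int.ofNat 0, Int.negSucc 1, Int.ofNat 0, Int.ofNat 0, Int.ofNat 0, Int.ofNat 0, Int.ofNat 0, Int.ofNat 2, Int.ofNat 0],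
  [Int.ofNat 2, Int.ofNat 0, Int.ofNat 0, Int.negSucc 1, Int.negSucc 1, Int.negSucc 1, Int.ofNat 0, Int.ofNat 2, Int.ofNat 0, Int.negSucc 1, Int.ofNat 0, Int.negSucc 1, Int.ofNat 0, Int.ofNat 0, Int.ofNat 0, Int.ofNat 0, Int.ofNat 0, Int.negSucc 1, Int.ofNat 0, Int.ofNat 0, Int.ofNat 0, Int.ofNat 0, Int.ofNat 0, Int.ofNat 0],
  [Int.negSucc 0, Int.ofNat 1, Int.ofNat 1, Int.ofNat 1, Int.negSucc 0, Int.ofNat 1, Int.negSucc 0, Int.ofNat 1, Int.ofNat 1, Int.negSucc 0, Int.ofNat 1, Int.negSucc 0, Int.ofNat 1, Int.ofNat 1, Int.ofNat 3, Int.ofNat 1, Int.ofNat 1, Int.ofNat 1, Int.ofNat 1, Int.negSucc 0, Int.ofNat 1, Int.negSucc 0, Int.ofNat 1, Int.ofNat 1],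
  [Int.ofNat 1, Int.negSucc 0, Int.ofNat 1, Int.negSucc 0, Int.ofNat 1, Int.ofNat 1, Int.negSucc 0, Int.ofNat 1, Int.negSucc 0, Int.ofNat 1, Int.ofNat 1, Int.ofNat 3, Int.ofNat 1, Int.ofNat 1, Int.ofNat 1, Int.ofNat 1, Int.negSucc 0, Int.ofNat 1, Int.negSucc 0, Int.ofNat 1, Int.negSucc 0, Int.ofNat 1, Int.ofNat 1, Int.ofNat 1],
  [Int.ofNat 0, Int.ofNat 2, Int.ofNat 0, Int.negSucc 1, Int.ofNat 0, Int.ofNat 0, Int.negSucc 1, Int.ofNat 0, Int.negSucc 1, Int.ofNat 0, Int.ofNat 0, Int.ofNat 2, Int.ofNat 0, Int.ofNat 0, Int.ofNat 0, Int.ofNat 0, Int.negSucc 1, Int.ofNat 0, Int.negSucc 1, Int.ofNat 0, Int.negSucc 1, Int.ofNat 0, Int.ofNat 0, Int.ofNat 0],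
  [Int.ofNat 0, Int.negSucc 1, Int.ofNat 0, Int.negSucc 1, Int.negSucc 1, Int.ofNat 0, Int.ofNat 0, Int.ofNat 0, Int.ofNat 0, Int.ofNat 0, Int.negSucc 1, Int.ofNat 0, Int.ofNat 0, Int.negSucc 1, Int.ofNat 0, Int.ofNat 0, Int.negSucc 1, Int.ofNat 0, Int.ofNat 2, Int.ofNat 2, Int.ofNat 0, Int.ofNat 0, Int.ofNat 0, Int.ofNat 0],
  [Int.negSucc 0, Int.ofNat 1, Int.negSucc 0, Int.negSucc 0, Int.ofNat 1, Int.ofNat 1, Int.negSucc 0, Int.negSucc 0, Int.negSucc 0, Int.ofNat 1, Int.negSucc 0, Int.negSucc 0, Int.negSucc 0, Int.ofNat 1, Int.ofNat 1, Int.ofNat 1, Int.ofNat 1, Int.ofNat 1, Int.ofNat 1, Int.ofNat 1, Int.ofNat 1, Int.negSucc 0, Int.ofNat 3, Int.negSucc 0],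
  [Int.negSucc 0, Int.ofNat 1, Int.ofNat 1, Int.negSucc 0, Int.ofNat 1, Int.negSucc 0, Int.ofNat 1, Int.negSucc 0, Int.negSucc 0, Int.negSucc 0, Int.ofNat 1, Int.negSucc 0, Int.negSucc 0, Int.ofNat 1, Int.ofNat 1, Int.negSucc 0, Int.ofNat 1, Int.ofNat 1, Int.negSucc 0, Int.ofNat 1, Int.ofNat 1, Int.negSucc 0, Int.negSucc 2, Int.negSucc 0],
  [Int.ofNat 1, Int.ofNat 1, Int.negSucc 0, Int.negSucc 0, Int.ofNat 1, Int.ofNat 1, Int.negSucc 0, Int.negSucc 0, Int.negSucc 0, Int.ofNat 1, Int.ofNat 1, Int.negSucc 0, Int.negSucc 0, Int.ofNat 1, Int.ofNat 1, Int.negSucc 0, Int.ofNat 1, Int.negSucc 0, Int.negSucc 0, Int.ofNat 1, Int.negSucc 0, Int.ofNat 1, Int.negSucc 2, Int.negSucc 0],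
  [Int.negSucc 0, Int.negSucc 0, Int.ofNat 1, Int.ofNat 1, Int.negSucc 0, Int.ofNat 1, Int.ofNat 1, Int.negSucc 0, Int.ofNat 1, Int.negSucc 0, Int.ofNat 1, Int.negSucc 0, Int.ofNat 1, Int.negSucc 0, Int.ofNat 1, Int.negSucc 0, Int.negSucc 0, Int.negSucc 0, Int.ofNat 1, Int.ofNat 1, Int.negSucc 0, Int.ofNat 1, Int.negSucc 2, Int.negSucc 0],
  [Int.negSucc 0, Int.negSucc 2, Int.negSucc 0, Int.negSucc 0, Int.negSucc 0, Int.negSucc 0, Int.ofNat 1, Int.negSucc 0, Int.negSucc 0, Int.ofNat 1, Int.negSucc 0, Int.ofNat 1, Int.ofNat 1, Int.negSucc 0, Int.ofNat 1, Int.ofNat 1, Int.ofNat 1, Int.negSucc 0, Int.ofNat 1, Int.ofNat 1, Int.ofNat 1, Int.ofNat 1, Int.negSucc 0, Int.negSucc 0],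
  [Int.ofNat 1, Int.negSucc 2, Int.ofNat 1, Int.negSucc 0, Int.negSucc 0, Int.negSucc 0, Int.ofNat 1, Int.ofNat 1, Int.negSucc 0, Int.negSucc 0, Int.ofNat 1, Int.negSucc 0, Int.ofNat 1, Int.negSucc 0, Int.ofNat 1, Int.ofNat 1, Int.ofNat 1, Int.negSucc 0, Int.negSucc 0, Int.ofNat 1, Int.ofNat 1, Int.negSucc 0, Int.negSucc 0, Int.negSucc 0],
  [Int.negSucc 0, Int.ofNat 1, Int.negSucc 2, Int.ofNat 1, Int.negSucc 0, Int.negSucc 0, Int.negSucc 0, Int.ofNat 1, Int.ofNat 1, Int.negSucc 0, Int.negSucc 0, Int.ofNat 1, Int.negSucc 0, Int.ofNat 1, Int.negSucc 0, Int.ofNat 1, Int.ofNat 1, Int.ofNat 1, Int.negSucc 0, Int.negSucc 0, Int.ofNat 1, Int.ofNat 1, Int.negSucc 0, Int.negSucc 0],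
  [Int.negSucc 0, Int.negSucc 2, Int.ofNat 1, Int.ofNat 1, Int.negSucc 0, Int.negSucc 0, Int.negSucc 0, Int.ofNat 1, Int.ofNat 1, Int.negSucc 0, Int.negSucc 0, Int.ofNat 1, Int.negSucc 0, Int.ofNat 1, Int.negSucc 0, Int.ofNat 1, Int.ofNat 1, Int.ofNat 1, Int.negSucc 0, Int.negSucc 0, Int.ofNat 1, Int.ofNat 1, Int.negSucc 0, Int.negSucc 0],
  [Int.ofNat 1, Int.negSucc 0, Int.negSucc 0, Int.negSucc 0, Int.ofNat 1, Int.ofNat 1, Int.negSucc 0, Int.negSucc 0, Int.ofNat 1, Int.negSucc 0, Int.ofNat 1, Int.negSucc 0, Int.ofNat 1, Int.ofNat 1, Int.ofNat 1, Int.negSucc 0, Int.negSucc 0, Int.ofNat 1, Int.ofNat 1, Int.negSucc 0, Int.negSucc 0, Int.negSucc 2, Int.ofNat 1, Int.negSucc 0],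
  [Int.negSucc 1, Int.ofNat 0, Int.ofNat 0, Int.negSucc 1, Int.ofNat 0, Int.ofNat 0, Int.ofNat 2, Int.ofNat 2, Int.ofNat 0, Int.ofNat 0, Int.ofNat 2, Int.negSucc 1, Int.ofNat 0, Int.ofNat 0, Int.ofNat 0, Int.ofNat 0, Int.negSucc 1, Int.ofNat 0, Int.ofNat 0, Int.ofNat 2, Int.ofNat 0, Int.ofNat 0, Int.ofNat 0, Int.ofNat 0],
  [Int.negSucc 1, Int.ofNat 2, Int.ofNat 0, Int.negSucc 1, Int.ofNat 0, Int.ofNat 2, Int.ofNat 0, Int.ofNat 2, Int.ofNat 0, Int.ofNat 0, Int.ofNat 0, Int.ofNat 0, Int.ofNat 0, Int.negSucc 1, Int.ofNat 0, Int.ofNat 0, Int.ofNat 0, Int.ofNat 0, Int.ofNat 0, Int.negSucc 1, Int.ofNat 0, Int.ofNat 0, Int.ofNat 2, Int.ofNat 0],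
  [Int.ofNat 2, Int.negSucc 1, Int.ofNat 0, Int.negSucc 1, Int.ofNat 0, Int.ofNat 2, Int.ofNat 0, Int.ofNat 2, Int.ofNat 0, Int.ofNat 0, Int.ofNat 0, Int.ofNat 0, Int.ofNat 0, Int.negSucc 1, Int.ofNat 0, Int.ofNat 0, Int.ofNat 0, Int.ofNat 0, Int.ofNat 0, Int.negSucc 1, Int.ofNat 0, Int.ofNat 0, Int.ofNat 2, Int.ofNat 0],
  [Int.ofNat 2, Int.negSucc 1, Int.ofNat 0, Int.negSucc 1, Int.ofNat 0, Int.negSucc 1, Int.ofNat 0, Int.ofNat 2, Int.ofNat 0, Int.ofNat 0, Int.ofNat 0, Int.ofNat 0, Int.ofNat 0, Int.negSucc 1, Int.ofNat 0, Int.ofNat 0, Int.ofNat 0, Int.ofNat 0, Int.ofNat 0, Int.negSucc 1, Int.ofNat 0, Int.ofNat 0, Int.negSucc 1, Int.ofNat 0],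
  [Int.negSucc 1, Int.ofNat 2, Int.ofNat 0, Int.ofNat 2, Int.ofNat 0, Int.negSucc 1, Int.ofNat 0, Int.ofNat 0, Int.negSucc 1, Int.negSucc 1, Int.ofNat 0, Int.ofNat 0, Int.negSucc 1, Int.ofNat 0, Int.ofNat 0, Int.ofNat 0, Int.ofNat 0, Int.ofNat 0, Int.ofNat 0, Int.ofNat 0, Int.negSucc 1, Int.ofNat 0, Int.ofNat 0, Int.ofNat 0],
  [Int.negSucc 1, Int.ofNat 2, Int.ofNat 0, Int.ofNat 2, Int.ofNat 0, Int.ofNat 2, Int.ofNat 0, Int.ofNat 0, Int.negSucc 1, Int.ofNat 2, Int.ofNat 0, Int.ofNat 0, Int.negSucc 1, Int.ofNat 0, Int.ofNat 0, Int.ofNat 0, Int.ofNat 0, Int.ofNat 0, Int.ofNat 0, Int.ofNat 0, Int.negSucc 1, Int.ofNat 0, Int.ofNat 0, Int.ofNat 0],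
  [Int.ofNat 2, Int.negSucc 1, Int.ofNat 0, Int.ofNat 0, Int.ofNat 0, Int.ofNat 0, Int.ofNat 0, Int.ofNat 0, Int.ofNat 0, Int.ofNat 2, Int.ofNat 0, Int.ofNat 2, Int.ofNat 0, Int.ofNat 0, Int.negSucc 1, Int.ofNat 0, Int.ofNat 0, Int.negSucc 1, Int.ofNat 2, Int.ofNat 0, Int.negSucc 1, Int.ofNat 0, Int.ofNat 0, Int.ofNat 0],
  [Int.ofNat 2, Int.ofNat 2, Int.ofNat 0, Int.ofNat 0, Int.ofNat 0, Int.ofNat 0, Int.negSucc 1, Int.ofNat 0, Int.ofNat 0, Int.ofNat 0, Int.ofNat 0, Int.ofNat 0, Int.ofNat 0, Int.ofNat 2, Int.negSucc 1, Int.ofNat 0, Int.ofNat 0, Int.ofNat 2, Int.ofNat 0, Int.ofNat 0, Int.ofNat 0, Int.negSucc 1, Int.negSucc 1, Int.ofNat 0],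
  [Int.ofNat 0, Int.ofNat 0, Int.ofNat 2, Int.ofNat 0, Int.ofNat 0, Int.ofNat 0, Int.ofNat 0, Int.ofNat 2, Int.ofNat 0, Int.ofNat 0, Int.ofNat 0, Int.ofNat 0, Int.ofNat 0, Int.ofNat 2, Int.negSucc 1, Int.ofNat 0, Int.ofNat 0, Int.ofNat 2, Int.ofNat 0, Int.ofNat 2, Int.ofNat 0, Int.ofNat 0, Int.negSucc 1, Int.ofNat 2],
  [Int.ofNat 0, Int.ofNat 0, Int.negSucc 1, Int.ofNat 0, Int.ofNat 0, Int.ofNat 2, Int.ofNat 0, Int.ofNat 0, Int.ofNat 0, Int.ofNat 0, Int.ofNat 2, Int.ofNat 0, Int.ofNat 0, Int.ofNat 0, Int.ofNat 0, Int.ofNat 0, Int.ofNat 2, Int.negSucc 1, Int.ofNat 0, Int.ofNat 0, Int.ofNat 2, Int.ofNat 0, Int.ofNat 2, Int.ofNat 2],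
  [Int.ofNat 0, Int.ofNat 0, Int.ofNat 2, Int.ofNat 0, Int.negSucc 1, Int.ofNat 2, Int.ofNat 0, Int.ofNat 0, Int.ofNat 0, Int.negSucc 1, Int.ofNat 0, Int.ofNat 0, Int.ofNat 0, Int.negSucc 1, Int.ofNat 0, Int.negSucc 1, Int.ofNat 0, Int.negSucc 1, Int.ofNat 0, Int.ofNat 0, Int.ofNat 0, Int.ofNat 0, Int.ofNat 0, Int.negSucc 1],
  [Int.ofNat 0, Int.ofNat 2, Int.ofNat 0, Int.negSucc 1, Int.ofNat 2, Int.ofNat 0, Int.ofNat 0, Int.ofNat 0, Int.negSucc 1, Int.ofNat 0, Int.ofNat 0, Int.ofNat 0, Int.negSucc 1, Int.ofNat 0, Int.negSucc 1, Int.ofNat 0, Int.negSucc 1, Int.ofNat 0, Int.ofNat 0, Int.ofNat 0, Int.ofNat 0, Int.ofNat 0, Int.ofNat 0, Int.negSucc 1],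
  [Int.ofNat 0, Int.ofNat 2, Int.ofNat 0, Int.negSucc 1, Int.ofNat 2, Int.ofNat 0, Int.ofNat 0, Int.ofNat 0, Int.negSucc 1, Int.ofNat 0, Int.ofNat 0, Int.ofNat 0, Int.negSucc 1, Int.ofNat 0, Int.negSucc 1, Int.ofNat 0, Int.negSucc 1, Int.ofNat 0, Int.ofNat 0, Int.ofNat 0, Int.ofNat 0, Int.ofNat 0, Int.ofNat 0, Int.negSucc 1]]

set_option maxRecDepth 100000 in
theorem c1et20_chk : pmChk (List.replicate 14 [20, 0, 25, 26]).flatten nxL c1et20M 0 0 = true := by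
  decide +kernel

theorem c1et20_ne : wE letE2 (List.replicate 14 [20, 0, 25, 26]).flatten ≠ 1 ∧ wE letE2 (List.replicate 14 [20, 0, 25, 26]).flatten ≠ negElt :=
  ne_pm_of_chk nxL_mem c1et20_chk

set_option maxRecDepth 100000 in
def c1et21M : List (List ℤ) :=
  [[Int.negSucc 3, Int.ofNat 0, Int.ofNat 0, Int.ofNat 0, Int.ofNat 0, Int.ofNat 0, Int.ofNat 0, Int.ofNat 0, Int.ofNat 0, Int.ofNat 0, Int.ofNat 0, Int.ofNat 0, Int.ofNat 0, Int.ofNat 0, Int.ofNat 0, Int.ofNat 0, Int.ofNat 0, Int.ofNat 0, Int.ofNat 0, Int.ofNat 0, Int.ofNat 0, Int.ofNat 0, Int.ofNat 0, Int.ofNat 4],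
  [Int.ofNat 4, Int.ofNat 0, Int.ofNat 0, Int.ofNat 0, Int.ofNat 0, Int.ofNat 0, Int.ofNat 0, Int.ofNat 0, Int.ofNat 0, Int.ofNat 0, Int.ofNat 0, Int.ofNat 0, Int.ofNat 0, Int.ofNat 0, Int.ofNat 0, Int.ofNat 0, Int.ofNat 0, Int.ofNat 0, Int.ofNat 0, Int.ofNat 0, Int.ofNat 0, Int.ofNat 0, Int.ofNat 0, Int.ofNat 4],
  [Int.ofNat 0, Int.ofNat 4, Int.ofNat 0, Int.ofNat 0, Int.ofNat 0, Int.ofNat 0, Int.ofNat 0, Int.ofNat 0, Int.ofNat 0, Int.ofNat 0, Int.ofNat 0, Int.ofNat 0, Int.ofNat 0, Int.ofNat 0, Int.ofNat 0, Int.ofNat 0, Int.ofNat 0, Int.ofNat 0, Int.ofNat 0, Int.ofNat 0, Int.ofNat 0, Int.ofNat 0, Int.ofNat 0, Int.ofNat 4],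
  [Int.ofNat 4, Int.ofNat 0, Int.ofNat 4, Int.ofNat 0, Int.ofNat 0, Int.ofNat 0, Int.ofNat 0, Int.ofNat 0, Int.ofNat 0, Int.ofNat 0, Int.ofNat 0, Int.ofNat 0, Int.ofNat 0, Int.ofNat 0, Int.ofNat 0, Int.ofNat 0, Int.ofNat 0, Int.ofNat 0, Int.ofNat 0, Int.ofNat 0, Int.ofNat 0, Int.ofNat 0, Int.ofNat 0, Int.ofNat 0],
  [Int.ofNat 0, Int.ofNat 0, Int.ofNat 0, Int.ofNat 0, Int.ofNat 0, Int.ofNat 0, Int.ofNat 0, Int.ofNat 0, Int.ofNat 0, Int.ofNat 0, Int.ofNat 0, Int.ofNat 0, Int.ofNat 0, Int.ofNat 0, Int.ofNat 0, Int.ofNat 0, Int.ofNat 0, Int.ofNat 0, Int.ofNat 0, Int.ofNat 0, Int.ofNat 4, Int.ofNat 0, Int.ofNat 4, Int.ofNat 0],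
  [Int.ofNat 0, Int.ofNat 0, Int.ofNat 0, Int.ofNat 0, Int.negSucc 1, Int.ofNat 0, Int.ofNat 0, Int.ofNat 0, Int.ofNat 0, Int.negSucc 1, Int.negSucc 1, Int.ofNat 0, Int.ofNat 0, Int.negSucc 1, Int.ofNat 0, Int.negSucc 1, Int.negSucc 1, Int.ofNat 0, Int.ofNat 0, Int.ofNat 0, Int.ofNat 2, Int.ofNat 0, Int.ofNat 2, Int.ofNat 0],
  [Int.ofNat 0, Int.ofNat 0, Int.negSucc 1, Int.ofNat 0, Int.ofNat 0, Int.ofNat 0, Int.ofNat 0, Int.negSucc 1, Int.ofNat 0, Int.negSucc 1, Int.ofNat 2, Int.ofNat 0, Int.negSucc 1, Int.negSucc 1, Int.ofNat 2, Int.negSucc 1, Int.ofNat 0, Int.ofNat 0, Int.ofNat 0, Int.ofNat 0, Int.ofNat 0, Int.ofNat 0, Int.ofNat 0, Int.ofNat 0],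
  [Int.negSucc 0, Int.negSucc 0, Int.ofNat 1, Int.negSucc 0, Int.ofNat 1, Int.negSucc 0, Int.ofNat 1, Int.negSucc 0, Int.ofNat 1, Int.negSucc 0, Int.ofNat 3, Int.ofNat 1, Int.negSucc 0, Int.negSucc 0, Int.ofNat 1, Int.negSucc 0, Int.ofNat 1, Int.negSucc 0, Int.ofNat 1, Int.ofNat 1, Int.ofNat 1, Int.ofNat 1, Int.ofNat 1, Int.negSucc 0],
  [Int.negSucc 0, Int.negSucc 0, Int.negSucc 0, Int.negSucc 0, Int.ofNat 1, Int.ofNat 1, Int.negSucc 0, Int.negSucc 0, Int.ofNat 1, Int.ofNat 1, Int.negSucc 2, Int.ofNat 1, Int.negSucc 0, Int.negSucc 0, Int.ofNat 1, Int.ofNat 1, Int.ofNat 1, Int.negSucc 0, Int.negSucc 0, Int.ofNat 1, Int.ofNat 1, Int.ofNat 1, Int.negSucc 0, Int.negSucc 0],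
  [Int.negSucc 2, Int.ofNat 1, Int.ofNat 1, Int.ofNat 1, Int.ofNat 1, Int.negSucc 0, Int.ofNat 1, Int.negSucc 0, Int.ofNat 1, Int.ofNat 1, Int.negSucc 0, Int.negSucc 0, Int.ofNat 1, Int.ofNat 1, Int.negSucc 0, Int.negSucc 0, Int.ofNat 1, Int.negSucc 0, Int.ofNat 1, Int.negSucc 0, Int.negSucc 0, Int.negSucc 0, Int.negSucc 0, Int.negSucc 0],
  [Int.ofNat 3, Int.negSucc 0, Int.negSucc 0, Int.negSucc 0, Int.negSucc 0, Int.negSucc 0, Int.negSucc 0, Int.negSucc 0, Int.negSucc 0, Int.negSucc 0, Int.negSucc 0, Int.negSucc 0, Int.negSucc 0, Int.negSucc 0, Int.negSucc 0, Int.negSucc 0, Int.negSucc 0, Int.negSucc 0, Int.negSucc 0, Int.negSucc 0, Int.negSucc 0, Int.negSucc 0, Int.negSucc 0, Int.negSucc 0],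
  [Int.negSucc 0, Int.negSucc 0, Int.negSucc 0, Int.negSucc 0, Int.negSucc 0, Int.negSucc 0, Int.negSucc 0, Int.negSucc 0, Int.negSucc 0, Int.negSucc 0, Int.negSucc 0, Int.negSucc 0, Int.negSucc 0, Int.negSucc 0, Int.negSucc 0, Int.negSucc 0, Int.negSucc 0, Int.negSucc 0, Int.negSucc 0, Int.negSucc 0, Int.negSucc 0, Int.negSucc 0, Int.negSucc 0, Int.ofNat 3],
  [Int.ofNat 1, Int.negSucc 0, Int.ofNat 1, Int.negSucc 0, Int.negSucc 0, Int.negSucc 0, Int.negSucc 0, Int.ofNat 1, Int.negSucc 0, Int.ofNat 1, Int.ofNat 1, Int.ofNat 1, Int.negSucc 0, Int.negSucc 0, Int.negSucc 0, Int.negSucc 0, Int.negSucc 0, Int.negSucc 0, Int.ofNat 1, Int.negSucc 0, Int.negSucc 0, Int.ofNat 1, Int.negSucc 0, Int.ofNat 3],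
  [Int.negSucc 0, Int.ofNat 1, Int.negSucc 0, Int.ofNat 1, Int.negSucc 0, Int.negSucc 0, Int.negSucc 0, Int.negSucc 0, Int.ofNat 1, Int.negSucc 0, Int.ofNat 1, Int.ofNat 1, Int.ofNat 1, Int.negSucc 0, Int.negSucc 0, Int.negSucc 0, Int.negSucc 0, Int.negSucc 0, Int.negSucc 0, Int.ofNat 1, Int.negSucc 0, Int.negSucc 0, Int.ofNat 1, Int.ofNat 3],
  [Int.ofNat 2, Int.ofNat 0, Int.ofNat 2, Int.ofNat 2, Int.ofNat 0, Int.ofNat 0, Int.ofNat 0, Int.ofNat 0, Int.ofNat 0, Int.ofNat 0, Int.ofNat 2, Int.ofNat 0, Int.ofNat 0, Int.ofNat 0, Int.ofNat 0, Int.ofNat 0, Int.ofNat 0, Int.ofNat 0, Int.negSucc 1, Int.ofNat 2, Int.ofNat 0, Int.ofNat 0, Int.ofNat 2, Int.negSucc 1],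
  [Int.ofNat 2, Int.ofNat 0, Int.ofNat 0, Int.ofNat 0, Int.ofNat 0, Int.ofNat 0, Int.ofNat 0, Int.ofNat 2, Int.ofNat 0, Int.ofNat 0, Int.ofNat 0, Int.ofNat 0, Int.ofNat 0, Int.ofNat 0, Int.ofNat 0, Int.negSucc 1, Int.ofNat 2, Int.ofNat 0, Int.ofNat 0, Int.ofNat 2, Int.ofNat 2, Int.ofNat 0, Int.ofNat 2, Int.negSucc 1],
  [Int.negSucc 1, Int.ofNat 0, Int.ofNat 0, Int.ofNat 0, Int.negSucc 1, Int.ofNat 0, Int.negSucc 1, Int.ofNat 0, Int.ofNat 0, Int.ofNat 0, Int.ofNat 0, Int.ofNat 0, Int.ofNat 0, Int.negSucc 1, Int.ofNat 0, Int.negSucc 1, Int.ofNat 0, Int.ofNat 0, Int.ofNat 0, Int.ofNat 0, Int.ofNat 2, Int.negSucc 1, Int.ofNat 0, Int.ofNat 2],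
  [Int.negSucc 1, Int.negSucc 1, Int.negSucc 1, Int.ofNat 0, Int.ofNat 0, Int.ofNat 0, Int.ofNat 0, Int.ofNat 0, Int.ofNat 0, Int.negSucc 1, Int.ofNat 2, Int.ofNat 0, Int.ofNat 0, Int.ofNat 0, Int.ofNat 0, Int.negSucc 1, Int.ofNat 0, Int.ofNat 0, Int.ofNat 0, Int.ofNat 0, Int.negSucc 1, Int.ofNat 0, Int.ofNat 0, Int.ofNat 2],
  [Int.ofNat 0, Int.ofNat 0, Int.ofNat 0, Int.ofNat 0, Int.ofNat 0, Int.ofNat 0, Int.ofNat 0, Int.ofNat 0, Int.ofNat 0, Int.ofNat 0, Int.ofNat 4, Int.ofNat 0, Int.ofNat 0, Int.ofNat 0, Int.ofNat 0, Int.ofNat 0, Int.ofNat 0, Int.ofNat 0, Int.ofNat 0, Int.ofNat 0, Int.ofNat 0, Int.ofNat 0, Int.ofNat 0, Int.negSucc 3],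
  [Int.ofNat 0, Int.ofNat 0, Int.ofNat 0, Int.ofNat 0, Int.ofNat 0, Int.ofNat 0, Int.ofNat 0, Int.ofNat 0, Int.ofNat 0, Int.ofNat 0, Int.negSucc 3, Int.ofNat 0, Int.ofNat 0, Int.ofNat 0, Int.ofNat 0, Int.ofNat 0, Int.ofNat 0, Int.ofNat 0, Int.ofNat 0, Int.ofNat 0, Int.ofNat 0, Int.ofNat 0, Int.ofNat 0, Int.negSucc 3],
  [Int.ofNat 0, Int.ofNat 0, Int.ofNat 0, Int.ofNat 0, Int.ofNat 0, Int.ofNat 0, Int.ofNat 0, Int.ofNat 0, Int.ofNat 0, Int.ofNat 0, Int.ofNat 0, Int.ofNat 0, Int.ofNat 0, Int.ofNat 0, Int.ofNat 0, Int.ofNat 0, Int.ofNat 0, Int.ofNat 0, Int.ofNat 0, Int.ofNat 0, Int.ofNat 0, Int.ofNat 0, Int.negSucc 3, Int.negSucc 3],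
  [Int.ofNat 0, Int.ofNat 0, Int.ofNat 0, Int.ofNat 0, Int.ofNat 0, Int.ofNat 0, Int.ofNat 0, Int.ofNat 0, Int.ofNat 0, Int.ofNat 0, Int.ofNat 0, Int.ofNat 0, Int.ofNat 0, Int.ofNat 0, Int.ofNat 0, Int.ofNat 0, Int.ofNat 0, Int.ofNat 0, Int.ofNat 0, Int.ofNat 0, Int.ofNat 0, Int.ofNat 0, Int.ofNat 4, Int.negSucc 3],
  [Int.negSucc 1, Int.negSucc 1, Int.negSucc 1, Int.ofNat 0, Int.negSucc 1, Int.ofNat 0, Int.ofNat 0, Int.ofNat 0, Int.ofNat 0, Int.ofNat 0, Int.ofNat 0, Int.ofNat 0, Int.ofNat 0, Int.negSucc 1, Int.ofNat 0, Int.ofNat 0, Int.negSucc 1, Int.ofNat 0, Int.ofNat 0, Int.ofNat 0, Int.ofNat 0, Int.ofNat 0, Int.ofNat 2, Int.ofNat 2],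
  [Int.negSucc 1, Int.ofNat 0, Int.ofNat 0, Int.ofNat 0, Int.negSucc 1, Int.ofNat 0, Int.negSucc 1, Int.ofNat 0, Int.negSucc 1, Int.ofNat 0, Int.ofNat 0, Int.ofNat 0, Int.ofNat 0, Int.ofNat 0, Int.ofNat 0, Int.ofNat 0, Int.negSucc 1, Int.ofNat 0, Int.negSucc 1, Int.ofNat 2, Int.ofNat 0, Int.ofNat 0, Int.ofNat 0, Int.ofNat 2],
  [Int.ofNat 2, Int.ofNat 0, Int.ofNat 0, Int.ofNat 0, Int.ofNat 0, Int.ofNat 0, Int.negSucc 1, Int.ofNat 0, Int.ofNat 0, Int.ofNat 0, Int.ofNat 0, Int.ofNat 2, Int.ofNat 2, Int.ofNat 2, Int.ofNat 0, Int.ofNat 0, Int.ofNat 0, Int.ofNat 0, Int.ofNat 0, Int.ofNat 2, Int.ofNat 0, Int.ofNat 0, Int.ofNat 2, Int.negSucc 1],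
  [Int.ofNat 0, Int.ofNat 0, Int.ofNat 2, Int.ofNat 2, Int.ofNat 0, Int.ofNat 0, Int.ofNat 0, Int.ofNat 0, Int.ofNat 0, Int.negSucc 1, Int.ofNat 0, Int.ofNat 0, Int.ofNat 0, Int.ofNat 0, Int.ofNat 2, Int.ofNat 2, Int.ofNat 2, Int.ofNat 0, Int.ofNat 0, Int.ofNat 0, Int.ofNat 0, Int.ofNat 0, Int.ofNat 2, Int.negSucc 1],
  [Int.ofNat 0, Int.ofNat 0, Int.negSucc 1, Int.ofNat 0, Int.negSucc 1, Int.negSucc 1, Int.ofNat 0, Int.ofNat 0, Int.ofNat 0, Int.negSucc 1, Int.ofNat 0, Int.ofNat 0, Int.ofNat 0, Int.negSucc 1, Int.ofNat 0, Int.ofNat 2, Int.ofNat 0, Int.negSucc 1, Int.ofNat 0, Int.ofNat 0, Int.ofNat 0, Int.ofNat 0, Int.ofNat 0, Int.ofNat 2],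
  [Int.ofNat 0, Int.negSucc 1, Int.ofNat 0, Int.negSucc 1, Int.negSucc 1, Int.ofNat 0, Int.ofNat 0, Int.ofNat 0, Int.negSucc 1, Int.ofNat 0, Int.ofNat 0, Int.ofNat 0, Int.negSucc 1, Int.ofNat 0, Int.ofNat 2, Int.ofNat 0, Int.negSucc 1, Int.ofNat 0, Int.ofNat 0, Int.ofNat 0, Int.ofNat 0, Int.ofNat 0, Int.ofNat 0, Int.ofNat 2],
  [Int.ofNat 0, Int.negSucc 1, Int.ofNat 0, Int.negSucc 1, Int.negSucc 1, Int.ofNat 0, Int.ofNat 0, Int.ofNat 0, Int.negSucc 1, Int.ofNat 0, Int.ofNat 0, Int.ofNat 0, Int.negSucc 1, Int.ofNat 0, Int.ofNat 2, Int.ofNat 0, Int.negSucc 1, Int.ofNat 0, Int.ofNat 0, Int.ofNat 0, Int.ofNat 0, Int.ofNat 0, Int.ofNat 0, Int.ofNat 2],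
  [Int.ofNat 0, Int.ofNat 0, Int.ofNat 0, Int.negSucc 1, Int.negSucc 1, Int.ofNat 0, Int.negSucc 1, Int.ofNat 0, Int.ofNat 0, Int.negSucc 1, Int.ofNat 0, Int.ofNat 2, Int.ofNat 0, Int.negSucc 1, Int.ofNat 0, Int.ofNat 0, Int.negSucc 1, Int.ofNat 0, Int.ofNat 0, Int.ofNat 0, Int.ofNat 0, Int.ofNat 0, Int.ofNat 0, Int.ofNat 2],
  [Int.ofNat 0, Int.ofNat 0, Int.ofNat 0, Int.negSucc 1, Int.negSucc 1, Int.ofNat 0, Int.negSucc 1, Int.ofNat 0, Int.ofNat 0, Int.ofNat 2, Int.ofNat 0, Int.negSucc 1, Int.ofNat 0, Int.negSucc 1, Int.ofNat 0, Int.ofNat 0, Int.negSucc 1, Int.ofNat 0, Int.ofNat 0, Int.ofNat 0, Int.ofNat 0, Int.ofNat 0, Int.ofNat 0, Int.ofNat 2],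
  [Int.ofNat 0, Int.ofNat 0, Int.ofNat 0, Int.ofNat 0, Int.negSucc 1, Int.negSucc 1, Int.ofNat 0, Int.negSucc 1, Int.ofNat 0, Int.ofNat 0, Int.ofNat 2, Int.ofNat 0, Int.negSucc 1, Int.ofNat 0, Int.negSucc 1, Int.ofNat 0, Int.ofNat 0, Int.negSucc 1, Int.ofNat 0, Int.ofNat 0, Int.ofNat 0, Int.ofNat 0, Int.ofNat 0, Int.ofNat 2],
  [Int.ofNat 1, Int.ofNat 1, Int.ofNat 1, Int.ofNat 3, Int.negSucc 0, Int.ofNat 1, Int.ofNat 1, Int.negSucc 0, Int.ofNat 1, Int.negSucc 0, Int.ofNat 1, Int.ofNat 1, Int.negSucc 0, Int.ofNat 1, Int.ofNat 1, Int.negSucc 0, Int.ofNat 1, Int.ofNat 1, Int.ofNat 1, Int.ofNat 1, Int.negSucc 0, Int.ofNat 1, Int.ofNat 1, Int.negSucc 0],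
  [Int.ofNat 3, Int.negSucc 0, Int.ofNat 1, Int.ofNat 1, Int.negSucc 0, Int.ofNat 1, Int.negSucc 0, Int.ofNat 1, Int.ofNat 1, Int.negSucc 0, Int.ofNat 1, Int.ofNat 1, Int.negSucc 0, Int.ofNat 1, Int.ofNat 1, Int.ofNat 1, Int.ofNat 1, Int.negSucc 0, Int.ofNat 1, Int.ofNat 1, Int.ofNat 1, Int.ofNat 1, Int.ofNat 1, Int.negSucc 0],
  [Int.negSucc 1, Int.ofNat 2, Int.ofNat 0, Int.ofNat 0, Int.negSucc 1, Int.ofNat 0, Int.negSucc 1, Int.ofNat 0, Int.ofNat 0, Int.negSucc 1, Int.ofNat 0, Int.ofNat 0, Int.negSucc 1, Int.ofNat 0, Int.ofNat 0, Int.ofNat 0, Int.ofNat 0, Int.negSucc 1, Int.ofNat 0, Int.ofNat 0, Int.ofNat 0, Int.ofNat 0, Int.ofNat 0, Int.ofNat 2],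
  [Int.negSucc 1, Int.negSucc 1, Int.negSucc 1, Int.ofNat 0, Int.ofNat 0, Int.ofNat 0, Int.ofNat 0, Int.ofNat 0, Int.negSucc 1, Int.ofNat 0, Int.ofNat 0, Int.negSucc 1, Int.negSucc 1, Int.ofNat 0, Int.ofNat 0, Int.ofNat 0, Int.ofNat 0, Int.ofNat 0, Int.ofNat 2, Int.ofNat 0, Int.ofNat 0, Int.ofNat 0, Int.ofNat 0, Int.ofNat 2],
  [Int.ofNat 0, Int.ofNat 0, Int.ofNat 0, Int.ofNat 0, Int.ofNat 0, Int.ofNat 0, Int.ofNat 0, Int.ofNat 0, Int.ofNat 0, Int.ofNat 0, Int.ofNat 0, Int.ofNat 0, Int.ofNat 0, Int.ofNat 0, Int.ofNat 0, Int.ofNat 0, Int.ofNat 0, Int.ofNat 0, Int.ofNat 4, Int.ofNat 0, Int.ofNat 0, Int.ofNat 0, Int.ofNat 0, Int.negSucc 3],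
  [Int.ofNat 0, Int.ofNat 0, Int.ofNat 0, Int.ofNat 0, Int.ofNat 0, Int.ofNat 0, Int.ofNat 0, Int.ofNat 0, Int.ofNat 0, Int.ofNat 0, Int.ofNat 0, Int.ofNat 0, Int.ofNat 0, Int.ofNat 0, Int.ofNat 0, Int.ofNat 0, Int.ofNat 0, Int.ofNat 0, Int.negSucc 3, Int.ofNat 0, Int.ofNat 0, Int.ofNat 0, Int.ofNat 0, Int.negSucc 3],
  [Int.ofNat 0, Int.ofNat 0, Int.ofNat 0, Int.ofNat 0, Int.ofNat 0, Int.ofNat 0, Int.ofNat 0, Int.ofNat 0, Int.ofNat 0, Int.ofNat 0, Int.ofNat 0, Int.ofNat 0, Int.ofNat 0, Int.ofNat 0, Int.ofNat 0, Int.negSucc 3, Int.ofNat 0, Int.ofNat 0, Int.ofNat 0, Int.ofNat 0, Int.ofNat 0, Int.ofNat 0, Int.ofNat 0, Int.negSucc 3],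
  [Int.ofNat 0, Int.ofNat 0, Int.ofNat 0, Int.ofNat 0, Int.ofNat 0, Int.ofNat 0, Int.ofNat 0, Int.ofNat 0, Int.ofNat 0, Int.ofNat 0, Int.ofNat 0, Int.ofNat 0, Int.ofNat 0, Int.ofNat 0, Int.ofNat 0, Int.negSucc 3, Int.ofNat 0, Int.ofNat 0, Int.ofNat 0, Int.ofNat 0, Int.ofNat 0, Int.ofNat 0, Int.ofNat 0, Int.negSucc 3],
  [Int.negSucc 3, Int.ofNat 0, Int.ofNat 0, Int.negSucc 3, Int.ofNat 0, Int.ofNat 0, Int.ofNat 0, Int.ofNat 0, Int.ofNat 0, Int.ofNat 0, Int.ofNat 0, Int.ofNat 0, Int.ofNat 0, Int.ofNat 0, Int.ofNat 0, Int.ofNat 0, Int.ofNat 0, Int.ofNat 0, Int.ofNat 0, Int.ofNat 0, Int.ofNat 0, Int.ofNat 0, Int.ofNat 0, Int.ofNat 0],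
  [Int.ofNat 4, Int.ofNat 0, Int.ofNat 0, Int.negSucc 3, Int.ofNat 0, Int.ofNat 0, Int.ofNat 0, Int.ofNat 0, Int.ofNat 0, Int.ofNat 0, Int.ofNat 0, Int.ofNat 0, Int.ofNat 0, Int.ofNat 0, Int.ofNat 0, Int.ofNat 0, Int.ofNat 0, Int.ofNat 0, Int.ofNat 0, Int.ofNat 0, Int.ofNat 0, Int.ofNat 0, Int.ofNat 0, Int.ofNat 0],
  [Int.ofNat 0, Int.ofNat 4, Int.ofNat 0, Int.ofNat 0, Int.negSucc 3, Int.ofNat 0, Int.ofNat 0, Int.ofNat 0, Int.ofNat 0, Int.ofNat 0, Int.ofNat 0, Int.ofNat 0, Int.ofNat 0, Int.ofNat 0, Int.ofNat 0, Int.ofNat 0, Int.ofNat 0, Int.ofNat 0, Int.ofNat 0, Int.ofNat 0, Int.ofNat 0, Int.ofNat 0, Int.ofNat 0, Int.ofNat 0],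
  [Int.ofNat 2, Int.negSucc 1, Int.ofNat 2, Int.ofNat 0, Int.negSucc 1, Int.ofNat 0, Int.ofNat 0, Int.ofNat 0, Int.ofNat 0, Int.ofNat 0, Int.ofNat 0, Int.ofNat 0, Int.ofNat 0, Int.ofNat 2, Int.ofNat 0, Int.ofNat 0, Int.ofNat 2, Int.ofNat 0, Int.ofNat 0, Int.ofNat 0, Int.ofNat 0, Int.ofNat 0, Int.ofNat 2, Int.ofNat 2],
  [Int.ofNat 0, Int.negSucc 1, Int.ofNat 0, Int.ofNat 0, Int.ofNat 0, Int.ofNat 0, Int.ofNat 0, Int.ofNat 0, Int.ofNat 0, Int.ofNat 0, Int.ofNat 2, Int.ofNat 0, Int.ofNat 0, Int.ofNat 2, Int.ofNat 0, Int.ofNat 0, Int.ofNat 0, Int.ofNat 0, Int.ofNat 0, Int.ofNat 2, Int.ofNat 2, Int.negSucc 1, Int.ofNat 2, Int.ofNat 2],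
  [Int.ofNat 0, Int.ofNat 2, Int.ofNat 0, Int.ofNat 0, Int.negSucc 1, Int.ofNat 0, Int.ofNat 0, Int.ofNat 0, Int.ofNat 0, Int.negSucc 1, Int.ofNat 0, Int.ofNat 0, Int.ofNat 0, Int.ofNat 0, Int.ofNat 0, Int.negSucc 1, Int.negSucc 1, Int.ofNat 0, Int.ofNat 0, Int.ofNat 2, Int.ofNat 0, Int.negSucc 1, Int.ofNat 0, Int.negSucc 1],
  [Int.ofNat 0, Int.ofNat 0, Int.negSucc 1, Int.ofNat 0, Int.ofNat 0, Int.ofNat 0, Int.ofNat 0, Int.ofNat 0, Int.ofNat 0, Int.ofNat 0, Int.ofNat 0, Int.ofNat 0, Int.negSucc 1, Int.negSucc 1, Int.ofNat 0, Int.negSucc 1, Int.ofNat 0, Int.ofNat 0, Int.ofNat 2, Int.ofNat 0, Int.negSucc 1, Int.ofNat 0, Int.ofNat 2, Int.negSucc 1],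
  [Int.negSucc 1, Int.negSucc 1, Int.ofNat 0, Int.ofNat 0, Int.ofNat 0, Int.ofNat 0, Int.ofNat 0, Int.ofNat 0, Int.ofNat 0, Int.ofNat 2, Int.ofNat 2, Int.ofNat 0, Int.negSucc 1, Int.negSucc 1, Int.ofNat 0, Int.ofNat 0, Int.ofNat 0, Int.ofNat 0, Int.ofNat 2, Int.ofNat 0, Int.ofNat 0, Int.ofNat 0, Int.ofNat 2, Int.ofNat 0],
  [Int.negSucc 1, Int.negSucc 1, Int.ofNat 0, Int.ofNat 0, Int.ofNat 0, Int.ofNat 0, Int.ofNat 0, Int.ofNat 0, Int.ofNat 0, Int.negSucc 1, Int.negSucc 1, Int.ofNat 0, Int.negSucc 1, Int.negSucc 1, Int.ofNat 0, Int.ofNat 0, Int.ofNat 0, Int.ofNat 0, Int.negSucc 1, Int.ofNat 0, Int.ofNat 0, Int.ofNat 0, Int.negSucc 1, Int.ofNat 0],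
  [Int.negSucc 1, Int.negSucc 1, Int.negSucc 1, Int.ofNat 0, Int.ofNat 0, Int.ofNat 0, Int.ofNat 0, Int.ofNat 0, Int.ofNat 0, Int.ofNat 0, Int.ofNat 0, Int.ofNat 0, Int.negSucc 1, Int.ofNat 0, Int.ofNat 0, Int.ofNat 0, Int.ofNat 0, Int.negSucc 1, Int.ofNat 0, Int.negSucc 1, Int.negSucc 1, Int.ofNat 0, Int.negSucc 1, Int.ofNat 0],
  [Int.negSucc 1, Int.negSucc 1, Int.ofNat 2, Int.ofNat 0, Int.ofNat 0, Int.ofNat 0, Int.ofNat 0, Int.ofNat 0, Int.ofNat 0, Int.ofNat 0, Int.ofNat 0, Int.ofNat 0, Int.negSucc 1, Int.ofNat 0, Int.ofNat 0, Int.ofNat 0, Int.ofNat 0, Int.negSucc 1, Int.ofNat 0, Int.negSucc 1, Int.negSucc 1, Int.ofNat 0, Int.ofNat 2, Int.ofNat 0],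
  [Int.ofNat 1, Int.ofNat 1, Int.negSucc 2, Int.ofNat 1, Int.negSucc 0, Int.ofNat 1, Int.ofNat 1, Int.ofNat 1, Int.ofNat 1, Int.ofNat 1, Int.ofNat 1, Int.ofNat 1, Int.negSucc 0, Int.negSucc 0, Int.ofNat 1, Int.ofNat 1, Int.negSucc 0, Int.negSucc 0, Int.ofNat 1, Int.negSucc 0, Int.negSucc 0, Int.ofNat 1, Int.ofNat 1, Int.negSucc 0],
  [Int.ofNat 1, Int.ofNat 1, Int.ofNat 1, Int.ofNat 1, Int.negSucc 2, Int.ofNat 1, Int.ofNat 1, Int.ofNat 1, Int.negSucc 0, Int.negSucc 0, Int.ofNat 1, Int.negSucc 0, Int.ofNat 1, Int.ofNat 1, Int.negSucc 0, Int.ofNat 1, Int.negSucc 0, Int.ofNat 1, Int.negSucc 0, Int.ofNat 1, Int.ofNat 1, Int.negSucc 0, Int.ofNat 1, Int.negSucc 0],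
  [Int.ofNat 0, Int.ofNat 0, Int.ofNat 0, Int.ofNat 0, Int.negSucc 1, Int.ofNat 0, Int.ofNat 0, Int.ofNat 0, Int.ofNat 0, Int.negSucc 1, Int.ofNat 0, Int.ofNat 0, Int.ofNat 2, Int.ofNat 2, Int.negSucc 1, Int.ofNat 0, Int.ofNat 0, Int.ofNat 0, Int.ofNat 0, Int.ofNat 0, Int.ofNat 0, Int.negSucc 1, Int.ofNat 2, Int.ofNat 2],
  [Int.ofNat 0, Int.negSucc 1, Int.ofNat 2, Int.ofNat 0, Int.ofNat 0, Int.ofNat 0, Int.ofNat 0, Int.negSucc 1, Int.ofNat 0, Int.ofNat 0, Int.ofNat 0, Int.ofNat 0, Int.negSucc 1, Int.ofNat 0, Int.ofNat 0, Int.ofNat 2, Int.ofNat 2, Int.negSucc 1, Int.ofNat 0, Int.ofNat 0, Int.ofNat 0, Int.ofNat 0, Int.ofNat 0, Int.ofNat 2],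
  [Int.ofNat 1, Int.ofNat 3, Int.negSucc 0, Int.ofNat 1, Int.negSucc 0, Int.ofNat 1, Int.ofNat 1, Int.negSucc 0, Int.ofNat 1, Int.negSucc 0, Int.negSucc 0, Int.ofNat 1, Int.negSucc 0, Int.negSucc 0, Int.ofNat 1, Int.ofNat 1, Int.ofNat 1, Int.negSucc 0, Int.ofNat 1, Int.ofNat 1, Int.negSucc 0, Int.ofNat 1, Int.negSucc 0, Int.negSucc 0],
  [Int.ofNat 3, Int.negSucc 0, Int.ofNat 1, Int.negSucc 0, Int.ofNat 1, Int.ofNat 1, Int.negSucc 0, Int.ofNat 1, Int.negSucc 0, Int.negSucc 0, Int.ofNat 1, Int.negSucc 0, Int.negSucc 0, Int.ofNat 1, Int.ofNat 1, Int.ofNat 1, Int.negSucc 0, Int.ofNat 1, Int.ofNat 1, Int.negSucc 0, Int.ofNat 1, Int.negSucc 0, Int.ofNat 1, Int.negSucc 0],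
  [Int.negSucc 2, Int.negSucc 0, Int.negSucc 0, Int.negSucc 0, Int.ofNat 1, Int.ofNat 1, Int.negSucc 0, Int.negSucc 0, Int.negSucc 0, Int.ofNat 1, Int.negSucc 0, Int.ofNat 1, Int.negSucc 0, Int.ofNat 1, Int.ofNat 1, Int.ofNat 1, Int.negSucc 0, Int.ofNat 1, Int.negSucc 0, Int.negSucc 0, Int.ofNat 1, Int.ofNat 1, Int.ofNat 1, Int.negSucc 0],
  [Int.negSucc 2, Int.negSucc 0, Int.negSucc 0, Int.negSucc 0, Int.negSucc 0, Int.negSucc 0, Int.ofNat 1, Int.ofNat 1, Int.ofNat 1, Int.negSucc 0, Int.ofNat 1, Int.ofNat 1, Int.ofNat 1, Int.negSucc 0, Int.negSucc 0, Int.ofNat 1, Int.negSucc 0, Int.ofNat 1, Int.negSucc 0, Int.ofNat 1, Int.ofNat 1, Int.negSucc 0, Int.ofNat 1, Int.negSucc 0],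
  [Int.ofNat 3, Int.negSucc 0, Int.ofNat 1, Int.negSucc 0, Int.negSucc 0, Int.negSucc 0, Int.ofNat 1, Int.negSucc 0, Int.ofNat 1, Int.ofNat 1, Int.negSucc 0, Int.negSucc 0, Int.ofNat 1, Int.negSucc 0, Int.negSucc 0, Int.ofNat 1, Int.negSucc 0, Int.ofNat 1, Int.ofNat 1, Int.ofNat 1, Int.ofNat 1, Int.ofNat 1, Int.ofNat 1, Int.negSucc 0],
  [Int.ofNat 1, Int.ofNat 3, Int.negSucc 0, Int.ofNat 1, Int.negSucc 0, Int.negSucc 0, Int.negSucc 0, Int.ofNat 1, Int.negSucc 0, Int.ofNat 1, Int.ofNat 1, Int.negSucc 0, Int.negSucc 0, Int.ofNat 1, Int.negSucc 0, Int.negSucc 0, Int.ofNat 1, Int.negSucc 0, Int.ofNat 1, Int.ofNat 1, Int.ofNat 1, Int.ofNat 1, Int.ofNat 1, Int.negSucc 0],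
  [Int.ofNat 0, Int.negSucc 1, Int.ofNat 2, Int.ofNat 2, Int.negSucc 1, Int.ofNat 0, Int.negSucc 1, Int.ofNat 0, Int.ofNat 0, Int.ofNat 0, Int.ofNat 0, Int.ofNat 0, Int.ofNat 0, Int.ofNat 0, Int.ofNat 0, Int.negSucc 1, Int.ofNat 0, Int.ofNat 0, Int.ofNat 2, Int.ofNat 0, Int.ofNat 0, Int.ofNat 0, Int.ofNat 0, Int.ofNat 2],
  [Int.ofNat 2, Int.negSucc 1, Int.ofNat 0, Int.negSucc 1, Int.ofNat 0, Int.ofNat 0, Int.ofNat 0, Int.ofNat 0, Int.ofNat 0, Int.ofNat 0, Int.ofNat 0, Int.ofNat 0, Int.negSucc 1, Int.ofNat 0, Int.ofNat 0, Int.ofNat 2, Int.ofNat 0, Int.ofNat 0, Int.ofNat 0, Int.ofNat 0, Int.ofNat 0, Int.negSucc 1, Int.ofNat 2, Int.ofNat 2],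
  [Int.negSucc 0, Int.ofNat 3, Int.ofNat 1, Int.negSucc 0, Int.negSucc 0, Int.ofNat 1, Int.ofNat 1, Int.ofNat 1, Int.ofNat 1, Int.negSucc 0, Int.negSucc 0, Int.ofNat 1, Int.negSucc 0, Int.negSucc 0, Int.ofNat 1, Int.ofNat 1, Int.negSucc 0, Int.ofNat 1, Int.ofNat 1, Int.ofNat 1, Int.negSucc 0, Int.negSucc 0, Int.ofNat 1, Int.negSucc 0],
  [Int.negSucc 0, Int.ofNat 1, Int.negSucc 0, Int.negSucc 0, Int.ofNat 1, Int.ofNat 1, Int.ofNat 1, Int.negSucc 0, Int.negSucc 0, Int.negSucc 0, Int.negSucc 0, Int.ofNat 1, Int.negSucc 0, Int.negSucc 0, Int.ofNat 1, Int.ofNat 1, Int.ofNat 1, Int.ofNat 1, Int.ofNat 3, Int.ofNat 1, Int.negSucc 0, Int.ofNat 1, Int.ofNat 1, Int.negSucc 0],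
  [Int.ofNat 0, Int.negSucc 1, Int.ofNat 0, Int.negSucc 1, Int.ofNat 0, Int.ofNat 0, Int.ofNat 0, Int.negSucc 1, Int.negSucc 1, Int.ofNat 0, Int.ofNat 0, Int.ofNat 0, Int.negSucc 1, Int.negSucc 1, Int.ofNat 0, Int.ofNat 2, Int.ofNat 0, Int.ofNat 0, Int.ofNat 2, Int.ofNat 0, Int.ofNat 0, Int.ofNat 0, Int.ofNat 0, Int.ofNat 0],
  [Int.ofNat 0, Int.negSucc 1, Int.ofNat 0, Int.negSucc 1, Int.ofNat 0, Int.ofNat 0, Int.ofNat 0, Int.negSucc 1, Int.negSucc 1, Int.ofNat 0, Int.ofNat 0, Int.ofNat 0, Int.negSucc 1, Int.negSucc 1, Int.ofNat 0, Int.negSucc 1, Int.ofNat 0, Int.ofNat 0, Int.negSucc 1, Int.ofNat 0, Int.ofNat 0, Int.ofNat 0, Int.ofNat 0, Int.ofNat 0],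
  [Int.ofNat 0, Int.ofNat 0, Int.ofNat 0, Int.negSucc 1, Int.ofNat 0, Int.ofNat 0, Int.ofNat 0, Int.negSucc 1, Int.ofNat 0, Int.ofNat 0, Int.negSucc 1, Int.negSucc 1, Int.negSucc 1, Int.ofNat 0, Int.ofNat 0, Int.negSucc 1, Int.ofNat 0, Int.negSucc 1, Int.ofNat 0, Int.ofNat 0, Int.ofNat 0, Int.negSucc 1, Int.ofNat 0, Int.ofNat 0],
  [Int.ofNat 0, Int.ofNat 0, Int.ofNat 0, Int.ofNat 2, Int.ofNat 0, Int.ofNat 0, Int.ofNat 0, Int.negSucc 1, Int.ofNat 0, Int.ofNat 0, Int.negSucc 1, Int.negSucc 1, Int.ofNat 2, Int.ofNat 0, Int.ofNat 0, Int.negSucc 1, Int.ofNat 0, Int.negSucc 1, Int.ofNat 0, Int.ofNat 0, Int.ofNat 0, Int.negSucc 1, Int.ofNat 0, Int.ofNat 0],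
  [Int.ofNat 0, Int.ofNat 0, Int.negSucc 1, Int.negSucc 1, Int.negSucc 1, Int.ofNat 0, Int.ofNat 0, Int.ofNat 0, Int.ofNat 0, Int.ofNat 0, Int.ofNat 0, Int.ofNat 0, Int.negSucc 1, Int.negSucc 1, Int.ofNat 0, Int.ofNat 2, Int.negSucc 1, Int.ofNat 0, Int.ofNat 0, Int.ofNat 0, Int.ofNat 0, Int.ofNat 2, Int.ofNat 0, Int.ofNat 0],
  [Int.ofNat 0, Int.ofNat 0, Int.ofNat 2, Int.negSucc 1, Int.negSucc 1, Int.ofNat 0, Int.ofNat 0, Int.ofNat 0, Int.ofNat 0, Int.ofNat 0, Int.ofNat 0, Int.ofNat 0, Int.negSucc 1, Int.negSucc 1, Int.ofNat 0, Int.ofNat 2, Int.negSucc 1, Int.ofNat 0, Int.ofNat 0, Int.ofNat 0, Int.ofNat 0, Int.negSucc 1, Int.ofNat 0, Int.ofNat 0],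
  [Int.ofNat 0, Int.ofNat 0, Int.ofNat 0, Int.ofNat 2, Int.negSucc 1, Int.negSucc 1, Int.ofNat 0, Int.ofNat 0, Int.ofNat 0, Int.ofNat 0, Int.ofNat 0, Int.ofNat 0, Int.ofNat 0, Int.negSucc 1, Int.negSucc 1, Int.ofNat 0, Int.ofNat 2, Int.negSucc 1, Int.ofNat 0, Int.ofNat 0, Int.ofNat 0, Int.ofNat 0, Int.negSucc 1, Int.ofNat 0],
  [Int.ofNat 0, Int.ofNat 0, Int.ofNat 0, Int.ofNat 4, Int.ofNat 0, Int.ofNat 0, Int.ofNat 0, Int.ofNat 0, Int.ofNat 0, Int.ofNat 0, Int.ofNat 0, Int.ofNat 0, Int.ofNat 0, Int.ofNat 0, Int.ofNat 0, Int.ofNat 0, Int.ofNat 4, Int.ofNat 0, Int.ofNat 0, Int.ofNat 0, Int.ofNat 0, Int.ofNat 0, Int.ofNat 0, Int.ofNat 0],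
  [Int.ofNat 4, Int.ofNat 0, Int.ofNat 0, Int.ofNat 0, Int.ofNat 0, Int.ofNat 0, Int.ofNat 0, Int.ofNat 0, Int.ofNat 0, Int.ofNat 0, Int.ofNat 0, Int.ofNat 0, Int.ofNat 0, Int.ofNat 4, Int.ofNat 0, Int.ofNat 0, Int.ofNat 0, Int.ofNat 0, Int.ofNat 0, Int.ofNat 0, Int.ofNat 0, Int.ofNat 0, Int.ofNat 0, Int.ofNat 0],
  [Int.negSucc 1, Int.ofNat 2, Int.ofNat 2, Int.ofNat 0, Int.negSucc 1, Int.ofNat 0, Int.ofNat 0, Int.ofNat 0, Int.ofNat 0, Int.ofNat 0, Int.ofNat 0, Int.ofNat 0, Int.ofNat 0, Int.ofNat 2, Int.ofNat 0, Int.ofNat 0, Int.negSucc 1, Int.ofNat 0, Int.ofNat 0, Int.ofNat 0, Int.ofNat 0, Int.ofNat 0, Int.negSucc 1, Int.ofNat 2],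
  [Int.negSucc 1, Int.ofNat 0, Int.negSucc 1, Int.ofNat 0, Int.ofNat 0, Int.ofNat 0, Int.ofNat 2, Int.ofNat 0, Int.ofNat 0, Int.ofNat 2, Int.ofNat 0, Int.ofNat 0, Int.ofNat 0, Int.negSucc 1, Int.negSucc 1, Int.ofNat 0, Int.ofNat 0, Int.ofNat 0, Int.ofNat 2, Int.ofNat 0, Int.ofNat 0, Int.ofNat 0, Int.ofNat 0, Int.ofNat 2],
  [Int.ofNat 1, Int.negSucc 0, Int.ofNat 1, Int.ofNat 1, Int.ofNat 1, Int.ofNat 1, Int.ofNat 1, Int.negSucc 0, Int.negSucc 0, Int.ofNat 1, Int.negSucc 0, Int.negSucc 0, Int.negSucc 0, Int.negSucc 0, Int.negSucc 0, Int.negSucc 0, Int.ofNat 1, Int.ofNat 1, Int.ofNat 1, Int.negSucc 0, Int.negSucc 0, Int.negSucc 0, Int.ofNat 1, Int.negSucc 2],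
  [Int.ofNat 1, Int.negSucc 0, Int.negSucc 0, Int.ofNat 1, Int.ofNat 1, Int.negSucc 0, Int.negSucc 0, Int.negSucc 0, Int.negSucc 0, Int.negSucc 0, Int.ofNat 1, Int.negSucc 0, Int.negSucc 0, Int.negSucc 0, Int.negSucc 0, Int.ofNat 1, Int.ofNat 1, Int.ofNat 1, Int.negSucc 0, Int.negSucc 0, Int.negSucc 0, Int.negSucc 0, Int.negSucc 0, Int.negSucc 2],
  [Int.negSucc 0, Int.negSucc 0, Int.ofNat 1, Int.negSucc 0, Int.ofNat 1, Int.negSucc 0, Int.negSucc 0, Int.ofNat 1, Int.negSucc 0, Int.negSucc 0, Int.ofNat 1, Int.negSucc 0, Int.negSucc 0, Int.negSucc 0, Int.negSucc 0, Int.ofNat 1, Int.negSucc 0, Int.negSucc 0, Int.negSucc 0, Int.negSucc 0, Int.negSucc 0, Int.ofNat 1, Int.ofNat 1, Int.negSucc 2],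
  [Int.negSucc 0, Int.negSucc 0, Int.negSucc 0, Int.negSucc 0, Int.ofNat 1, Int.ofNat 1, Int.ofNat 1, Int.ofNat 1, Int.negSucc 0, Int.ofNat 1, Int.negSucc 0, Int.negSucc 0, Int.negSucc 0, Int.negSucc 0, Int.negSucc 0, Int.negSucc 0, Int.negSucc 0, Int.negSucc 0, Int.ofNat 1, Int.negSucc 0, Int.negSucc 0, Int.ofNat 1, Int.negSucc 0, Int.negSucc 2],
  [Int.negSucc 1, Int.negSucc 1, Int.negSucc 1, Int.ofNat 0, Int.ofNat 2, Int.ofNat 2, Int.ofNat 0, Int.ofNat 0, Int.ofNat 0, Int.ofNat 2, Int.ofNat 0, Int.ofNat 0, Int.ofNat 0, Int.ofNat 0, Int.ofNat 0, Int.ofNat 0, Int.ofNat 0, Int.ofNat 0, Int.ofNat 2, Int.negSucc 1, Int.ofNat 0, Int.ofNat 0, Int.ofNat 0, Int.ofNat 0],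
  [Int.negSucc 1, Int.ofNat 2, Int.ofNat 0, Int.ofNat 0, Int.negSucc 1, Int.ofNat 0, Int.negSucc 1, Int.ofNat 2, Int.ofNat 0, Int.ofNat 0, Int.ofNat 0, Int.negSucc 1, Int.ofNat 0, Int.ofNat 2, Int.ofNat 0, Int.ofNat 0, Int.ofNat 0, Int.ofNat 0, Int.ofNat 2, Int.ofNat 0, Int.ofNat 0, Int.ofNat 0, Int.ofNat 0, Int.ofNat 0],
  [Int.ofNat 2, Int.negSucc 1, Int.ofNat 0, Int.ofNat 0, Int.negSucc 1, Int.ofNat 0, Int.negSucc 1, Int.ofNat 2, Int.ofNat 0, Int.ofNat 0, Int.ofNat 0, Int.negSucc 1, Int.ofNat 0, Int.ofNat 2, Int.ofNat 0, Int.ofNat 0, Int.ofNat 0, Int.ofNat 0, Int.ofNat 2, Int.ofNat 0, Int.ofNat 0, Int.ofNat 0, Int.ofNat 0, Int.ofNat 0],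
  [Int.ofNat 0, Int.ofNat 0, Int.ofNat 0, Int.ofNat 2, Int.negSucc 1, Int.ofNat 0, Int.ofNat 0, Int.negSucc 1, Int.ofNat 0, Int.negSucc 1, Int.ofNat 2, Int.ofNat 0, Int.ofNat 0, Int.ofNat 0, Int.negSucc 1, Int.ofNat 0, Int.ofNat 2, Int.ofNat 0, Int.ofNat 0, Int.ofNat 0, Int.ofNat 0, Int.ofNat 2, Int.ofNat 0, Int.ofNat 0],
  [Int.ofNat 0, Int.ofNat 0, Int.ofNat 0, Int.ofNat 2, Int.negSucc 1, Int.ofNat 0, Int.ofNat 0, Int.negSucc 1, Int.ofNat 0, Int.negSucc 1, Int.ofNat 2, Int.ofNat 0, Int.ofNat 0, Int.ofNat 0, Int.negSucc 1, Int.ofNat 0, Int.ofNat 2, Int.ofNat 0, Int.ofNat 0, Int.ofNat 0, Int.ofNat 0, Int.ofNat 2, Int.ofNat 0, Int.ofNat 0],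
  [Int.ofNat 0, Int.ofNat 0, Int.ofNat 2, Int.negSucc 1, Int.ofNat 0, Int.ofNat 0, Int.negSucc 1, Int.ofNat 0, Int.negSucc 1, Int.ofNat 2, Int.ofNat 0, Int.ofNat 0, Int.ofNat 0, Int.negSucc 1, Int.ofNat 0, Int.ofNat 2, Int.ofNat 0, Int.ofNat 0, Int.ofNat 0, Int.ofNat 0, Int.ofNat 2, Int.ofNat 0, Int.ofNat 0, Int.ofNat 0],
  [Int.ofNat 0, Int.ofNat 0, Int.negSucc 1, Int.negSucc 1, Int.ofNat 0, Int.ofNat 0, Int.negSucc 1, Int.ofNat 0, Int.negSucc 1, Int.negSucc 1, Int.ofNat 0, Int.ofNat 0, Int.ofNat 0, Int.negSucc 1, Int.ofNat 0, Int.ofNat 2, Int.ofNat 0, Int.ofNat 0, Int.ofNat 0, Int.ofNat 0, Int.ofNat 2, Int.ofNat 0, Int.ofNat 0, Int.ofNat 0],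
  [Int.ofNat 0, Int.negSucc 1, Int.ofNat 0, Int.negSucc 1, Int.ofNat 0, Int.ofNat 0, Int.ofNat 0, Int.ofNat 2, Int.negSucc 1, Int.ofNat 0, Int.ofNat 0, Int.ofNat 0, Int.negSucc 1, Int.negSucc 1, Int.ofNat 0, Int.ofNat 2, Int.ofNat 0, Int.ofNat 0, Int.negSucc 1, Int.ofNat 0, Int.ofNat 0, Int.ofNat 0, Int.ofNat 0, Int.ofNat 0],
  [Int.ofNat 0, Int.negSucc 1, Int.ofNat 0, Int.negSucc 1, Int.ofNat 0, Int.ofNat 0, Int.ofNat 0, Int.negSucc 1, Int.negSucc 1, Int.ofNat 0, Int.ofNat 0, Int.ofNat 0, Int.negSucc 1, Int.negSucc 1, Int.ofNat 0, Int.ofNat 2, Int.ofNat 0, Int.ofNat 0, Int.ofNat 2, Int.ofNat 0, Int.ofNat 0, Int.ofNat 0, Int.ofNat 0, Int.ofNat 0],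
  [Int.ofNat 0, Int.ofNat 0, Int.negSucc 1, Int.ofNat 0, Int.negSucc 1, Int.ofNat 0, Int.ofNat 0, Int.ofNat 0, Int.negSucc 1, Int.negSucc 1, Int.ofNat 0, Int.ofNat 0, Int.ofNat 0, Int.negSucc 1, Int.negSucc 1, Int.ofNat 0, Int.ofNat 2, Int.ofNat 0, Int.ofNat 0, Int.ofNat 2, Int.ofNat 0, Int.ofNat 0, Int.ofNat 0, Int.ofNat 0],
  [Int.negSucc 0, Int.negSucc 0, Int.ofNat 1, Int.ofNat 1, Int.negSucc 0, Int.ofNat 1, Int.negSucc 0, Int.negSucc 0, Int.negSucc 0, Int.negSucc 0, Int.ofNat 1, Int.ofNat 1, Int.ofNat 1, Int.negSucc 0, Int.negSucc 0, Int.ofNat 1, Int.ofNat 3, Int.ofNat 1, Int.ofNat 1, Int.ofNat 1, Int.ofNat 1, Int.negSucc 0, Int.ofNat 1, Int.negSucc 0],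
  [Int.ofNat 1, Int.negSucc 0, Int.ofNat 1, Int.negSucc 0, Int.negSucc 0, Int.negSucc 0, Int.negSucc 0, Int.ofNat 1, Int.ofNat 1, Int.ofNat 1, Int.negSucc 0, Int.negSucc 0, Int.ofNat 1, Int.ofNat 3, Int.ofNat 1, Int.ofNat 1, Int.ofNat 1, Int.ofNat 1, Int.negSucc 0, Int.ofNat 1, Int.negSucc 0, Int.negSucc 0, Int.ofNat 1, Int.negSucc 0],
  [Int.negSucc 0, Int.ofNat 1, Int.negSucc 0, Int.negSucc 0, Int.negSucc 2, Int.negSucc 0, Int.negSucc 0, Int.ofNat 1, Int.ofNat 1, Int.ofNat 1, Int.negSucc 0, Int.negSucc 0, Int.ofNat 1, Int.ofNat 1, Int.ofNat 1, Int.ofNat 1, Int.negSucc 0, Int.ofNat 1, Int.negSucc 0, Int.ofNat 1, Int.negSucc 0, Int.negSucc 0, Int.negSucc 0, Int.ofNat 1],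
  [Int.negSucc 0, Int.negSucc 0, Int.negSucc 2, Int.negSucc 0, Int.negSucc 0, Int.ofNat 1, Int.negSucc 0, Int.negSucc 0, Int.ofNat 1, Int.ofNat 1, Int.negSucc 0, Int.ofNat 1, Int.ofNat 1, Int.negSucc 0, Int.negSucc 0, Int.ofNat 1, Int.ofNat 1, Int.ofNat 1, Int.ofNat 1, Int.negSucc 0, Int.negSucc 0, Int.negSucc 0, Int.ofNat 1, Int.ofNat 1],
  [Int.negSucc 0, Int.negSucc 0, Int.ofNat 1, Int.negSucc 0, Int.negSucc 0, Int.ofNat 1, Int.ofNat 1, Int.ofNat 1, Int.negSucc 0, Int.ofNat 1, Int.negSucc 0, Int.negSucc 0, Int.negSucc 0, Int.negSucc 0, Int.negSucc 0, Int.ofNat 1, Int.ofNat 1, Int.ofNat 1, Int.negSucc 0, Int.ofNat 1, Int.negSucc 0, Int.ofNat 1, Int.ofNat 1, Int.negSucc 2],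
  [Int.negSucc 0, Int.negSucc 0, Int.negSucc 0, Int.negSucc 0, Int.negSucc 0, Int.negSucc 0, Int.negSucc 0, Int.ofNat 1, Int.negSucc 0, Int.negSucc 0, Int.ofNat 1, Int.negSucc 0, Int.negSucc 0, Int.negSucc 0, Int.negSucc 0, Int.negSucc 0, Int.ofNat 1, Int.ofNat 1, Int.ofNat 1, Int.ofNat 1, Int.negSucc 0, Int.ofNat 1, Int.negSucc 0, Int.negSucc 2],
  [Int.ofNat 1, Int.ofNat 1, Int.negSucc 0, Int.negSucc 0, Int.negSucc 0, Int.negSucc 0, Int.ofNat 1, Int.negSucc 0, Int.negSucc 0, Int.negSucc 0, Int.negSucc 0, Int.ofNat 1, Int.negSucc 0, Int.negSucc 0, Int.ofNat 1, Int.ofNat 1, Int.ofNat 1, Int.negSucc 0, Int.negSucc 0, Int.negSucc 0, Int.negSucc 0, Int.negSucc 0, Int.negSucc 0, Int.negSucc 2],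
  [Int.negSucc 0, Int.negSucc 0, Int.ofNat 1, Int.ofNat 1, Int.ofNat 1, Int.negSucc 0, Int.negSucc 0, Int.negSucc 0, Int.ofNat 1, Int.ofNat 1, Int.negSucc 0, Int.ofNat 1, Int.ofNat 1, Int.ofNat 1, Int.ofNat 1, Int.ofNat 1, Int.negSucc 0, Int.negSucc 0, Int.ofNat 1, Int.negSucc 0, Int.negSucc 0, Int.negSucc 0, Int.negSucc 0, Int.negSucc 2],
  [Int.negSucc 2, Int.negSucc 0, Int.ofNat 1, Int.ofNat 1, Int.negSucc 0, Int.ofNat 1, Int.negSucc 0, Int.ofNat 1, Int.negSucc 0, Int.negSucc 0, Int.negSucc 0, Int.ofNat 1, Int.negSucc 0, Int.negSucc 0, Int.ofNat 1, Int.ofNat 1, Int.negSucc 0, Int.ofNat 1, Int.ofNat 1, Int.negSucc 0, Int.ofNat 1, Int.ofNat 1, Int.negSucc 0, Int.negSucc 0],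
  [Int.ofNat 3, Int.negSucc 0, Int.negSucc 0, Int.ofNat 1, Int.negSucc 0, Int.ofNat 1, Int.negSucc 0, Int.negSucc 0, Int.negSucc 0, Int.ofNat 1, Int.ofNat 1, Int.negSucc 0, Int.negSucc 0, Int.negSucc 0, Int.ofNat 1, Int.ofNat 1, Int.negSucc 0, Int.ofNat 1, Int.negSucc 0, Int.negSucc 0, Int.ofNat 1, Int.negSucc 0, Int.negSucc 0, Int.negSucc 0],
  [Int.negSucc 0, Int.ofNat 3, Int.negSucc 0, Int.negSucc 0, Int.ofNat 1, Int.negSucc 0, Int.ofNat 1, Int.negSucc 0, Int.negSucc 0, Int.negSucc 0, Int.ofNat 1, Int.ofNat 1, Int.negSucc 0, Int.negSucc 0, Int.negSucc 0, Int.ofNat 1, Int.ofNat 1, Int.negSucc 0, Int.ofNat 1, Int.negSucc 0, Int.negSucc 0, Int.ofNat 1, Int.negSucc 0, Int.negSucc 0],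
  [Int.ofNat 1, Int.negSucc 2, Int.ofNat 1, Int.ofNat 1, Int.ofNat 1, Int.ofNat 1, Int.ofNat 1, Int.negSucc 0, Int.negSucc 0, Int.negSucc 0, Int.ofNat 1, Int.ofNat 1, Int.negSucc 0, Int.negSucc 0, Int.ofNat 1, Int.ofNat 1, Int.ofNat 1, Int.ofNat 1, Int.ofNat 1, Int.negSucc 0, Int.negSucc 0, Int.ofNat 1, Int.negSucc 0, Int.ofNat 1],
  [Int.ofNat 1, Int.ofNat 1, Int.ofNat 1, Int.ofNat 1, Int.negSucc 0, Int.negSucc 0, Int.negSucc 0, Int.ofNat 1, Int.ofNat 1, Int.negSucc 0, Int.negSucc 0, Int.ofNat 1, Int.ofNat 1, Int.ofNat 1, Int.ofNat 1, Int.ofNat 1, Int.negSucc 0, Int.negSucc 0, Int.ofNat 1, Int.negSucc 0, Int.ofNat 1, Int.negSucc 2, Int.ofNat 1, Int.ofNat 1],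
  [Int.ofNat 1, Int.ofNat 1, Int.ofNat 1, Int.ofNat 1, Int.negSucc 0, Int.negSucc 0, Int.ofNat 1, Int.ofNat 3, Int.negSucc 0, Int.negSucc 0, Int.negSucc 0, Int.negSucc 0, Int.negSucc 0, Int.ofNat 1, Int.ofNat 1, Int.ofNat 1, Int.negSucc 0, Int.negSucc 0, Int.negSucc 0, Int.ofNat 1, Int.ofNat 1, Int.negSucc 0, Int.ofNat 1, Int.ofNat 1],
  [Int.ofNat 1, Int.ofNat 1, Int.negSucc 0, Int.ofNat 1, Int.negSucc 0, Int.ofNat 3, Int.ofNat 1, Int.negSucc 0, Int.negSucc 0, Int.ofNat 1, Int.ofNat 1, Int.negSucc 0, Int.negSucc 0, Int.negSucc 0, Int.ofNat 1, Int.ofNat 1, Int.negSucc 0, Int.ofNat 1, Int.ofNat 1, Int.negSucc 0, Int.negSucc 0, Int.negSucc 0, Int.ofNat 1, Int.ofNat 1],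
  [Int.ofNat 0, Int.ofNat 0, Int.ofNat 2, Int.negSucc 1, Int.ofNat 0, Int.ofNat 0, Int.ofNat 2, Int.ofNat 0, Int.ofNat 0, Int.ofNat 0, Int.ofNat 0, Int.ofNat 0, Int.ofNat 0, Int.ofNat 0, Int.negSucc 1, Int.ofNat 0, Int.ofNat 0, Int.negSucc 1, Int.ofNat 2, Int.ofNat 0, Int.negSucc 1, Int.ofNat 0, Int.ofNat 2, Int.ofNat 0],
  [Int.ofNat 0, Int.ofNat 0, Int.negSucc 1, Int.negSucc 1, Int.ofNat 0, Int.ofNat 0, Int.negSucc 1, Int.ofNat 0, Int.ofNat 0, Int.ofNat 0, Int.ofNat 0, Int.ofNat 0, Int.ofNat 0, Int.ofNat 0, Int.negSucc 1, Int.ofNat 0, Int.ofNat 0, Int.negSucc 1, Int.negSucc 1, Int.ofNat 0, Int.negSucc 1, Int.ofNat 0, Int.negSucc 1, Int.ofNat 0],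
  [Int.ofNat 0, Int.negSucc 1, Int.ofNat 0, Int.ofNat 0, Int.negSucc 1, Int.negSucc 1, Int.ofNat 0, Int.ofNat 0, Int.negSucc 1, Int.negSucc 1, Int.ofNat 0, Int.ofNat 0, Int.ofNat 0, Int.ofNat 0, Int.negSucc 1, Int.ofNat 0, Int.ofNat 0, Int.negSucc 1, Int.ofNat 0, Int.ofNat 0, Int.ofNat 0, Int.negSucc 1, Int.ofNat 0, Int.ofNat 0],
  [Int.ofNat 0, Int.negSucc 1, Int.ofNat 0, Int.ofNat 0, Int.negSucc 1, Int.ofNat 2, Int.ofNat 0, Int.ofNat 0, Int.negSucc 1, Int.ofNat 2, Int.ofNat 0, Int.ofNat 0, Int.ofNat 0, Int.ofNat 0, Int.negSucc 1, Int.ofNat 0, Int.ofNat 0, Int.negSucc 1, Int.ofNat 0, Int.ofNat 0, Int.ofNat 0, Int.negSucc 1, Int.ofNat 0, Int.ofNat 0],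
  [Int.negSucc 0, Int.ofNat 1, Int.negSucc 0, Int.ofNat 1, Int.negSucc 0, Int.ofNat 3, Int.ofNat 1, Int.ofNat 1, Int.negSucc 0, Int.ofNat 1, Int.negSucc 0, Int.ofNat 1, Int.ofNat 1, Int.ofNat 1, Int.negSucc 0, Int.negSucc 0, Int.ofNat 1, Int.negSucc 0, Int.ofNat 1, Int.ofNat 1, Int.negSucc 0, Int.negSucc 0, Int.ofNat 1, Int.negSucc 0],
  [Int.negSucc 0, Int.ofNat 1, Int.ofNat 1, Int.ofNat 1, Int.negSucc 0, Int.negSucc 0, Int.ofNat 1, Int.ofNat 3, Int.ofNat 1, Int.ofNat 1, Int.ofNat 1, Int.ofNat 1, Int.negSucc 0, Int.ofNat 1, Int.negSucc 0, Int.negSucc 0, Int.ofNat 1, Int.ofNat 1, Int.negSucc 0, Int.ofNat 1, Int.negSucc 0, Int.negSucc 0, Int.negSucc 0, Int.negSucc 0],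
  [Int.ofNat 1, Int.negSucc 0, Int.negSucc 0, Int.ofNat 1, Int.negSucc 0, Int.negSucc 0, Int.negSucc 0, Int.ofNat 1, Int.ofNat 1, Int.ofNat 1, Int.ofNat 1, Int.ofNat 1, Int.negSucc 0, Int.ofNat 1, Int.negSucc 0, Int.negSucc 0, Int.ofNat 1, Int.ofNat 1, Int.negSucc 0, Int.negSucc 0, Int.negSucc 0, Int.negSucc 2, Int.negSucc 0, Int.ofNat 1],
  [Int.negSucc 0, Int.negSucc 2, Int.negSucc 0, Int.ofNat 1, Int.negSucc 0, Int.negSucc 0, Int.ofNat 1, Int.negSucc 0, Int.negSucc 0, Int.negSucc 0, Int.ofNat 1, Int.ofNat 1, Int.ofNat 1, Int.ofNat 1, Int.ofNat 1, Int.negSucc 0, Int.ofNat 1, Int.negSucc 0, Int.negSucc 0, Int.ofNat 1, Int.ofNat 1, Int.negSucc 0, Int.negSucc 0, Int.ofNat 1],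
  [Int.negSucc 0, Int.ofNat 1, Int.negSucc 0, Int.ofNat 1, Int.negSucc 0, Int.negSucc 0, Int.ofNat 1, Int.negSucc 0, Int.negSucc 0, Int.negSucc 0, Int.ofNat 1, Int.ofNat 1, Int.ofNat 1, Int.ofNat 1, Int.ofNat 1, Int.negSucc 0, Int.ofNat 1, Int.negSucc 0, Int.negSucc 0, Int.ofNat 1, Int.ofNat 1, Int.negSucc 0, Int.negSucc 0, Int.negSucc 2],
  [Int.ofNat 1, Int.negSucc 0, Int.ofNat 1, Int.negSucc 0, Int.negSucc 0, Int.ofNat 1, Int.negSucc 0, Int.negSucc 0, Int.negSucc 0, Int.ofNat 1, Int.ofNat 1, Int.ofNat 1, Int.ofNat 1, Int.ofNat 1, Int.negSucc 0, Int.ofNat 1, Int.negSucc 0, Int.negSucc 0, Int.ofNat 1, Int.ofNat 1, Int.negSucc 0, Int.negSucc 0, Int.negSucc 0, Int.negSucc 2],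
  [Int.negSucc 0, Int.negSucc 0, Int.negSucc 0, Int.negSucc 0, Int.negSucc 0, Int.ofNat 1, Int.negSucc 0, Int.ofNat 1, Int.negSucc 0, Int.negSucc 0, Int.negSucc 0, Int.negSucc 0, Int.ofNat 1, Int.ofNat 1, Int.negSucc 0, Int.ofNat 1, Int.negSucc 0, Int.negSucc 0, Int.negSucc 0, Int.ofNat 1, Int.negSucc 0, Int.ofNat 1, Int.negSucc 0, Int.negSucc 2],
  [Int.negSucc 0, Int.negSucc 0, Int.negSucc 0, Int.negSucc 0, Int.negSucc 0, Int.negSucc 0, Int.negSucc 0, Int.negSucc 0, Int.negSucc 0, Int.negSucc 0, Int.ofNat 1, Int.negSucc 0, Int.ofNat 1, Int.negSucc 0, Int.ofNat 1, Int.ofNat 1, Int.ofNat 1, Int.negSucc 0, Int.negSucc 0, Int.negSucc 0, Int.ofNat 1, Int.ofNat 1, Int.negSucc 0, Int.negSucc 2],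
  [Int.ofNat 1, Int.negSucc 0, Int.ofNat 1, Int.negSucc 0, Int.negSucc 0, Int.negSucc 0, Int.negSucc 0, Int.ofNat 1, Int.negSucc 0, Int.ofNat 1, Int.negSucc 0, Int.ofNat 1, Int.ofNat 1, Int.negSucc 0, Int.ofNat 1, Int.ofNat 1, Int.ofNat 1, Int.negSucc 0, Int.ofNat 1, Int.negSucc 0, Int.ofNat 1, Int.negSucc 0, Int.negSucc 0, Int.negSucc 2],
  [Int.negSucc 0, Int.ofNat 1, Int.negSucc 0, Int.ofNat 1, Int.negSucc 0, Int.negSucc 0, Int.negSucc 0, Int.negSucc 0, Int.ofNat 1, Int.negSucc 0, Int.ofNat 1, Int.negSucc 0, Int.ofNat 1, Int.ofNat 1, Int.negSucc 0, Int.ofNat 1, Int.ofNat 1, Int.ofNat 1, Int.negSucc 0, Int.ofNat 1, Int.negSucc 0, Int.ofNat 1, Int.negSucc 0, Int.negSucc 2],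
  [Int.negSucc 0, Int.negSucc 2, Int.negSucc 0, Int.ofNat 1, Int.negSucc 0, Int.negSucc 0, Int.negSucc 0, Int.negSucc 0, Int.ofNat 1, Int.negSucc 0, Int.ofNat 1, Int.negSucc 0, Int.ofNat 1, Int.ofNat 1, Int.negSucc 0, Int.ofNat 1, Int.ofNat 1, Int.ofNat 1, Int.negSucc 0, Int.ofNat 1, Int.negSucc 0, Int.ofNat 1, Int.negSucc 0, Int.ofNat 1],
  [Int.ofNat 1, Int.negSucc 0, Int.negSucc 0, Int.negSucc 0, Int.negSucc 0, Int.ofNat 1, Int.negSucc 0, Int.ofNat 1, Int.negSucc 0, Int.ofNat 1, Int.ofNat 1, Int.negSucc 0, Int.ofNat 1, Int.ofNat 1, Int.ofNat 1, Int.negSucc 0, Int.ofNat 1, Int.negSucc 0, Int.ofNat 1, Int.negSucc 0, Int.negSucc 0, Int.negSucc 2, Int.negSucc 0, Int.ofNat 1],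
  [Int.negSucc 0, Int.ofNat 1, Int.ofNat 1, Int.negSucc 0, Int.negSucc 0, Int.ofNat 1, Int.ofNat 1, Int.ofNat 3, Int.negSucc 0, Int.ofNat 1, Int.ofNat 1, Int.negSucc 0, Int.ofNat 1, Int.ofNat 1, Int.ofNat 1, Int.negSucc 0, Int.ofNat 1, Int.negSucc 0, Int.ofNat 1, Int.ofNat 1, Int.negSucc 0, Int.negSucc 0, Int.negSucc 0, Int.negSucc 0],
  [Int.negSucc 0, Int.ofNat 1, Int.negSucc 0, Int.negSucc 0, Int.ofNat 1, Int.ofNat 3, Int.ofNat 1, Int.ofNat 1, Int.ofNat 1, Int.ofNat 1, Int.negSucc 0, Int.negSucc 0, Int.ofNat 1, Int.ofNat 1, Int.negSucc 0, Int.negSucc 0, Int.negSucc 0, Int.ofNat 1, Int.ofNat 1, Int.negSucc 0, Int.negSucc 0, Int.ofNat 1, Int.ofNat 1, Int.negSucc 0],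
  [Int.ofNat 0, Int.negSucc 1, Int.ofNat 0, Int.negSucc 1, Int.ofNat 0, Int.ofNat 2, Int.ofNat 0, Int.ofNat 0, Int.ofNat 0, Int.ofNat 2, Int.ofNat 0, Int.negSucc 1, Int.ofNat 0, Int.ofNat 0, Int.negSucc 1, Int.ofNat 0, Int.negSucc 1, Int.ofNat 0, Int.ofNat 0, Int.negSucc 1, Int.ofNat 0, Int.ofNat 0, Int.ofNat 0, Int.ofNat 0],
  [Int.ofNat 0, Int.negSucc 1, Int.ofNat 0, Int.negSucc 1, Int.ofNat 0, Int.negSucc 1, Int.ofNat 0, Int.ofNat 0, Int.ofNat 0, Int.negSucc 1, Int.ofNat 0, Int.negSucc 1, Int.ofNat 0, Int.ofNat 0, Int.negSucc 1, Int.ofNat 0, Int.negSucc 1, Int.ofNat 0, Int.ofNat 0, Int.negSucc 1, Int.ofNat 0, Int.ofNat 0, Int.ofNat 0, Int.ofNat 0],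
  [Int.ofNat 0, Int.negSucc 1, Int.negSucc 1, Int.ofNat 0, Int.negSucc 1, Int.ofNat 0, Int.ofNat 0, Int.negSucc 1, Int.negSucc 1, Int.ofNat 0, Int.ofNat 0, Int.ofNat 0, Int.ofNat 0, Int.ofNat 0, Int.ofNat 0, Int.ofNat 0, Int.negSucc 1, Int.ofNat 0, Int.negSucc 1, Int.ofNat 0, Int.ofNat 0, Int.negSucc 1, Int.ofNat 0, Int.ofNat 0],
  [Int.ofNat 0, Int.ofNat 2, Int.ofNat 2, Int.ofNat 0, Int.ofNat 2, Int.ofNat 0, Int.ofNat 0, Int.negSucc 1, Int.ofNat 2, Int.ofNat 0, Int.ofNat 0, Int.ofNat 0, Int.ofNat 0, Int.ofNat 0, Int.ofNat 0, Int.ofNat 0, Int.ofNat 2, Int.ofNat 0, Int.ofNat 2, Int.ofNat 0, Int.ofNat 0, Int.negSucc 1, Int.ofNat 0, Int.ofNat 0],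
  [Int.ofNat 0, Int.ofNat 0, Int.ofNat 0, Int.ofNat 0, Int.ofNat 0, Int.ofNat 0, Int.ofNat 0, Int.ofNat 0, Int.ofNat 0, Int.ofNat 0, Int.ofNat 2, Int.ofNat 2, Int.negSucc 1, Int.negSucc 1, Int.ofNat 2, Int.ofNat 0, Int.ofNat 0, Int.ofNat 2, Int.ofNat 0, Int.ofNat 0, Int.ofNat 2, Int.ofNat 0, Int.ofNat 2, Int.ofNat 0],
  [Int.ofNat 0, Int.ofNat 0, Int.ofNat 0, Int.ofNat 0, Int.ofNat 0, Int.ofNat 0, Int.ofNat 0, Int.ofNat 0, Int.ofNat 0, Int.ofNat 0, Int.negSucc 1, Int.negSucc 1, Int.negSucc 1, Int.negSucc 1, Int.ofNat 2, Int.ofNat 0, Int.ofNat 0, Int.ofNat 2, Int.ofNat 0, Int.ofNat 0, Int.ofNat 2, Int.ofNat 0, Int.ofNat 2, Int.ofNat 0],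
  [Int.ofNat 2, Int.ofNat 0, Int.ofNat 0, Int.ofNat 0, Int.ofNat 0, Int.ofNat 0, Int.ofNat 0, Int.ofNat 0, Int.ofNat 0, Int.ofNat 0, Int.ofNat 0, Int.negSucc 1, Int.negSucc 1, Int.negSucc 1, Int.negSucc 1, Int.ofNat 2, Int.ofNat 0, Int.ofNat 0, Int.ofNat 2, Int.ofNat 0, Int.ofNat 0, Int.ofNat 2, Int.ofNat 0, Int.ofNat 0],
  [Int.negSucc 0, Int.ofNat 1, Int.ofNat 1, Int.ofNat 1, Int.ofNat 1, Int.ofNat 1, Int.negSucc 0, Int.negSucc 0, Int.ofNat 1, Int.negSucc 0, Int.negSucc 0, Int.negSucc 0, Int.negSucc 0, Int.negSucc 0, Int.negSucc 0, Int.ofNat 1, Int.ofNat 1, Int.ofNat 1, Int.ofNat 3, Int.negSucc 0, Int.negSucc 0, Int.ofNat 1, Int.ofNat 1, Int.ofNat 1],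
  [Int.ofNat 1, Int.ofNat 1, Int.ofNat 1, Int.negSucc 0, Int.negSucc 0, Int.ofNat 1, Int.negSucc 0, Int.negSucc 0, Int.negSucc 0, Int.negSucc 0, Int.negSucc 0, Int.negSucc 0, Int.ofNat 1, Int.ofNat 1, Int.ofNat 1, Int.ofNat 3, Int.negSucc 0, Int.negSucc 0, Int.ofNat 1, Int.ofNat 1, Int.negSucc 0, Int.ofNat 1, Int.ofNat 1, Int.ofNat 1],
  [Int.ofNat 1, Int.ofNat 1, Int.ofNat 1, Int.negSucc 0, Int.negSucc 0, Int.ofNat 1, Int.negSucc 0, Int.negSucc 0, Int.negSucc 0, Int.negSucc 0, Int.negSucc 0, Int.negSucc 0, Int.ofNat 1, Int.ofNat 1, Int.ofNat 1, Int.ofNat 3, Int.negSucc 0, Int.negSucc 0, Int.ofNat 1, Int.ofNat 1, Int.negSucc 0, Int.ofNat 1, Int.ofNat 1, Int.ofNat 1],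
  [Int.ofNat 1, Int.negSucc 0, Int.negSucc 0, Int.negSucc 0, Int.ofNat 1, Int.negSucc 0, Int.ofNat 1, Int.negSucc 0, Int.ofNat 1, Int.ofNat 1, Int.negSucc 0, Int.negSucc 0, Int.negSucc 0, Int.negSucc 0, Int.ofNat 1, Int.ofNat 3, Int.negSucc 0, Int.ofNat 1, Int.ofNat 1, Int.negSucc 0, Int.ofNat 1, Int.ofNat 1, Int.ofNat 1, Int.ofNat 1],
  [Int.negSucc 0, Int.ofNat 1, Int.ofNat 1, Int.negSucc 0, Int.ofNat 1, Int.negSucc 0, Int.ofNat 1, Int.negSucc 0, Int.ofNat 1, Int.negSucc 0, Int.negSucc 2, Int.negSucc 0, Int.negSucc 0, Int.negSucc 0, Int.ofNat 1, Int.ofNat 1, Int.negSucc 0, Int.ofNat 1, Int.ofNat 1, Int.negSucc 0, Int.negSucc 0, Int.ofNat 1, Int.ofNat 1, Int.negSucc 0],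
  [Int.negSucc 0, Int.ofNat 1, Int.negSucc 0, Int.negSucc 0, Int.ofNat 1, Int.ofNat 1, Int.negSucc 0, Int.negSucc 0, Int.ofNat 1, Int.ofNat 1, Int.ofNat 3, Int.negSucc 0, Int.negSucc 0, Int.negSucc 0, Int.ofNat 1, Int.negSucc 0, Int.negSucc 0, Int.ofNat 1, Int.negSucc 0, Int.negSucc 0, Int.negSucc 0, Int.ofNat 1, Int.negSucc 0, Int.negSucc 0],
  [Int.ofNat 1, Int.negSucc 0, Int.negSucc 0, Int.ofNat 1, Int.ofNat 1, Int.negSucc 0, Int.ofNat 1, Int.negSucc 0, Int.ofNat 1, Int.negSucc 0, Int.negSucc 0, Int.ofNat 1, Int.ofNat 1, Int.negSucc 0, Int.negSucc 0, Int.ofNat 1, Int.negSucc 0, Int.negSucc 0, Int.negSucc 0, Int.negSucc 0, Int.negSucc 0, Int.negSucc 0, Int.ofNat 3, Int.negSucc 0],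
  [Int.ofNat 1, Int.negSucc 0, Int.ofNat 1, Int.ofNat 1, Int.ofNat 1, Int.ofNat 1, Int.negSucc 0, Int.negSucc 0, Int.ofNat 1, Int.ofNat 1, Int.ofNat 1, Int.ofNat 1, Int.ofNat 1, Int.negSucc 0, Int.negSucc 0, Int.negSucc 0, Int.negSucc 0, Int.negSucc 0, Int.ofNat 1, Int.negSucc 0, Int.negSucc 0, Int.negSucc 0, Int.negSucc 2, Int.negSucc 0],
  [Int.negSucc 0, Int.ofNat 1, Int.negSucc 0, Int.ofNat 1, Int.ofNat 3, Int.ofNat 1, Int.ofNat 1, Int.ofNat 1, Int.negSucc 0, Int.ofNat 1, Int.ofNat 1, Int.negSucc 0, Int.negSucc 0, Int.ofNat 1, Int.negSucc 0, Int.negSucc 0, Int.ofNat 1, Int.negSucc 0, Int.negSucc 0, Int.ofNat 1, Int.negSucc 0, Int.ofNat 1, Int.negSucc 0, Int.ofNat 1],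
  [Int.negSucc 0, Int.negSucc 0, Int.ofNat 1, Int.ofNat 1, Int.negSucc 0, Int.ofNat 1, Int.ofNat 1, Int.ofNat 1, Int.ofNat 1, Int.negSucc 0, Int.ofNat 1, Int.ofNat 1, Int.negSucc 0, Int.ofNat 1, Int.negSucc 0, Int.negSucc 0, Int.ofNat 1, Int.negSucc 0, Int.ofNat 3, Int.negSucc 0, Int.ofNat 1, Int.negSucc 0, Int.negSucc 0, Int.ofNat 1],
  [Int.ofNat 1, Int.ofNat 1, Int.negSucc 0, Int.ofNat 1, Int.negSucc 0, Int.ofNat 1, Int.ofNat 1, Int.ofNat 1, Int.negSucc 0, Int.negSucc 0, Int.ofNat 1, Int.negSucc 0, Int.negSucc 2, Int.ofNat 1, Int.negSucc 0, Int.negSucc 0, Int.ofNat 1, Int.negSucc 0, Int.ofNat 1, Int.negSucc 0, Int.ofNat 1, Int.negSucc 0, Int.negSucc 0, Int.negSucc 0],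
  [Int.ofNat 1, Int.negSucc 0, Int.negSucc 0, Int.ofNat 1, Int.ofNat 1, Int.negSucc 0, Int.ofNat 1, Int.negSucc 0, Int.ofNat 1, Int.ofNat 1, Int.ofNat 1, Int.negSucc 0, Int.negSucc 0, Int.ofNat 1, Int.negSucc 0, Int.negSucc 2, Int.ofNat 1, Int.negSucc 0, Int.negSucc 0, Int.ofNat 1, Int.negSucc 0, Int.ofNat 1, Int.negSucc 0, Int.negSucc 0],
  [Int.negSucc 1, Int.ofNat 0, Int.ofNat 0, Int.ofNat 2, Int.ofNat 0, Int.ofNat 0, Int.ofNat 0, Int.negSucc 1, Int.ofNat 2, Int.ofNat 2, Int.ofNat 2, Int.ofNat 0, Int.ofNat 0, Int.ofNat 0, Int.ofNat 0, Int.negSucc 1, Int.ofNat 0, Int.ofNat 0, Int.ofNat 0, Int.ofNat 0, Int.ofNat 0, Int.ofNat 0, Int.negSucc 1, Int.ofNat 0],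
  [Int.ofNat 0, Int.ofNat 0, Int.ofNat 2, Int.ofNat 0, Int.ofNat 0, Int.ofNat 0, Int.negSucc 1, Int.ofNat 2, Int.ofNat 2, Int.ofNat 2, Int.ofNat 0, Int.ofNat 0, Int.ofNat 0, Int.ofNat 0, Int.negSucc 1, Int.ofNat 0, Int.ofNat 0, Int.ofNat 0, Int.ofNat 0, Int.ofNat 0, Int.ofNat 0, Int.negSucc 1, Int.negSucc 1, Int.ofNat 0],
  [Int.ofNat 0, Int.ofNat 0, Int.negSucc 1, Int.ofNat 0, Int.ofNat 0, Int.ofNat 0, Int.negSucc 1, Int.negSucc 1, Int.ofNat 2, Int.negSucc 1, Int.ofNat 0, Int.ofNat 0, Int.ofNat 0, Int.ofNat 0, Int.negSucc 1, Int.ofNat 0, Int.ofNat 0, Int.ofNat 0, Int.ofNat 0, Int.ofNat 0, Int.ofNat 0, Int.ofNat 2, Int.negSucc 1, Int.ofNat 0],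
  [Int.ofNat 0, Int.negSucc 1, Int.ofNat 0, Int.ofNat 0, Int.ofNat 0, Int.ofNat 0, Int.ofNat 0, Int.ofNat 0, Int.negSucc 1, Int.ofNat 0, Int.ofNat 2, Int.negSucc 1, Int.ofNat 0, Int.ofNat 2, Int.ofNat 0, Int.ofNat 0, Int.ofNat 0, Int.negSucc 1, Int.negSucc 1, Int.ofNat 0, Int.ofNat 0, Int.negSucc 1, Int.ofNat 0, Int.ofNat 0],
  [Int.ofNat 0, Int.negSucc 1, Int.ofNat 0, Int.ofNat 0, Int.ofNat 0, Int.ofNat 0, Int.ofNat 0, Int.ofNat 0, Int.negSucc 1, Int.ofNat 0, Int.negSucc 1, Int.ofNat 2, Int.ofNat 0, Int.ofNat 2, Int.ofNat 0, Int.ofNat 0, Int.ofNat 0, Int.negSucc 1, Int.ofNat 2, Int.ofNat 0, Int.ofNat 0, Int.ofNat 2, Int.ofNat 0, Int.ofNat 0],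
  [Int.ofNat 0, Int.ofNat 0, Int.negSucc 1, Int.ofNat 0, Int.ofNat 0, Int.ofNat 0, Int.ofNat 0, Int.ofNat 0, Int.ofNat 0, Int.negSucc 1, Int.ofNat 0, Int.negSucc 1, Int.ofNat 2, Int.ofNat 0, Int.ofNat 2, Int.ofNat 0, Int.ofNat 0, Int.ofNat 0, Int.negSucc 1, Int.ofNat 2, Int.ofNat 0, Int.ofNat 0, Int.ofNat 2, Int.ofNat 0],
  [Int.negSucc 0, Int.negSucc 0, Int.ofNat 1, Int.negSucc 0, Int.negSucc 0, Int.negSucc 0, Int.negSucc 0, Int.negSucc 0, Int.ofNat 1, Int.negSucc 0, Int.ofNat 1, Int.negSucc 0, Int.ofNat 3, Int.negSucc 0, Int.ofNat 1, Int.ofNat 1, Int.negSucc 0, Int.negSucc 0, Int.negSucc 0, Int.ofNat 1, Int.ofNat 1, Int.negSucc 0, Int.ofNat 1, Int.negSucc 0],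
  [Int.negSucc 0, Int.negSucc 0, Int.negSucc 0, Int.negSucc 0, Int.negSucc 0, Int.ofNat 1, Int.negSucc 0, Int.ofNat 1, Int.negSucc 0, Int.ofNat 3, Int.negSucc 0, Int.ofNat 1, Int.ofNat 1, Int.negSucc 0, Int.negSucc 0, Int.negSucc 0, Int.ofNat 1, Int.ofNat 1, Int.negSucc 0, Int.ofNat 1, Int.negSucc 0, Int.negSucc 0, Int.ofNat 1, Int.negSucc 0],
  [Int.negSucc 0, Int.negSucc 0, Int.negSucc 0, Int.negSucc 0, Int.negSucc 0, Int.ofNat 1, Int.negSucc 0, Int.ofNat 1, Int.negSucc 0, Int.ofNat 3, Int.negSucc 0, Int.ofNat 1, Int.ofNat 1, Int.negSucc 0, Int.negSucc 0, Int.negSucc 0, Int.ofNat 1, Int.ofNat 1, Int.negSucc 0, Int.ofNat 1, Int.negSucc 0, Int.negSucc 0, Int.ofNat 1, Int.negSucc 0],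
  [Int.negSucc 0, Int.negSucc 0, Int.negSucc 0, Int.negSucc 0, Int.negSucc 0, Int.ofNat 1, Int.negSucc 0, Int.negSucc 0, Int.ofNat 1, Int.negSucc 0, Int.negSucc 0, Int.ofNat 1, Int.ofNat 3, Int.ofNat 1, Int.ofNat 1, Int.negSucc 0, Int.negSucc 0, Int.negSucc 0, Int.negSucc 0, Int.ofNat 1, Int.negSucc 0, Int.ofNat 1, Int.ofNat 1, Int.negSucc 0],
  [Int.negSucc 0, Int.negSucc 0, Int.negSucc 0, Int.negSucc 0, Int.negSucc 0, Int.ofNat 1, Int.negSucc 0, Int.negSucc 0, Int.negSucc 0, Int.ofNat 1, Int.ofNat 1, Int.negSucc 0, Int.ofNat 1, Int.ofNat 1, Int.ofNat 1, Int.ofNat 1, Int.negSucc 0, Int.negSucc 0, Int.negSucc 2, Int.ofNat 1, Int.ofNat 1, Int.ofNat 1, Int.ofNat 1, Int.negSucc 0],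
  [Int.negSucc 0, Int.negSucc 0, Int.ofNat 1, Int.negSucc 0, Int.negSucc 0, Int.negSucc 0, Int.ofNat 1, Int.negSucc 0, Int.negSucc 0, Int.negSucc 0, Int.negSucc 0, Int.negSucc 0, Int.ofNat 1, Int.ofNat 1, Int.ofNat 1, Int.negSucc 0, Int.negSucc 0, Int.negSucc 0, Int.ofNat 3, Int.ofNat 1, Int.ofNat 1, Int.ofNat 1, Int.negSucc 0, Int.negSucc 0],
  [Int.negSucc 0, Int.negSucc 0, Int.negSucc 0, Int.negSucc 0, Int.ofNat 1, Int.ofNat 1, Int.ofNat 1, Int.negSucc 0, Int.negSucc 0, Int.ofNat 1, Int.ofNat 1, Int.negSucc 0, Int.negSucc 0, Int.negSucc 0, Int.negSucc 0, Int.ofNat 3, Int.ofNat 1, Int.ofNat 1, Int.negSucc 0, Int.ofNat 1, Int.negSucc 0, Int.negSucc 0, Int.negSucc 0, Int.negSucc 0],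
  [Int.ofNat 1, Int.ofNat 1, Int.ofNat 1, Int.ofNat 1, Int.negSucc 0, Int.ofNat 1, Int.negSucc 0, Int.negSucc 0, Int.ofNat 1, Int.negSucc 0, Int.ofNat 1, Int.negSucc 0, Int.ofNat 1, Int.ofNat 1, Int.negSucc 0, Int.ofNat 3, Int.negSucc 0, Int.ofNat 1, Int.ofNat 1, Int.ofNat 1, Int.negSucc 0, Int.negSucc 0, Int.negSucc 0, Int.negSucc 0],
  [Int.negSucc 0, Int.negSucc 0, Int.negSucc 0, Int.ofNat 3, Int.ofNat 1, Int.negSucc 0, Int.ofNat 1, Int.ofNat 1, Int.negSucc 0, Int.ofNat 1, Int.negSucc 0, Int.ofNat 1, Int.negSucc 0, Int.negSucc 0, Int.ofNat 1, Int.ofNat 1, Int.ofNat 1, Int.negSucc 0, Int.negSucc 0, Int.negSucc 0, Int.ofNat 1, Int.ofNat 1, Int.ofNat 1, Int.ofNat 1],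
  [Int.ofNat 1, Int.negSucc 0, Int.ofNat 1, Int.ofNat 3, Int.ofNat 1, Int.negSucc 0, Int.ofNat 1, Int.negSucc 0, Int.negSucc 0, Int.negSucc 0, Int.ofNat 1, Int.negSucc 0, Int.negSucc 0, Int.negSucc 0, Int.ofNat 1, Int.ofNat 1, Int.ofNat 1, Int.negSucc 0, Int.ofNat 1, Int.negSucc 0, Int.ofNat 1, Int.negSucc 0, Int.ofNat 1, Int.ofNat 1],
  [Int.ofNat 1, Int.ofNat 1, Int.negSucc 0, Int.ofNat 1, Int.ofNat 3, Int.ofNat 1, Int.negSucc 0, Int.ofNat 1, Int.negSucc 0, Int.negSucc 0, Int.negSucc 0, Int.ofNat 1, Int.negSucc 0, Int.negSucc 0, Int.negSucc 0, Int.ofNat 1, Int.ofNat 1, Int.ofNat 1, Int.negSucc 0, Int.ofNat 1, Int.negSucc 0, Int.ofNat 1, Int.negSucc 0, Int.ofNat 1],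
  [Int.ofNat 0, Int.ofNat 0, Int.ofNat 2, Int.ofNat 0, Int.ofNat 2, Int.ofNat 0, Int.negSucc 1, Int.ofNat 0, Int.ofNat 0, Int.ofNat 0, Int.ofNat 0, Int.ofNat 2, Int.ofNat 0, Int.negSucc 1, Int.negSucc 1, Int.ofNat 2, Int.ofNat 0, Int.ofNat 0, Int.ofNat 0, Int.ofNat 0, Int.ofNat 0, Int.ofNat 0, Int.negSucc 1, Int.ofNat 0],
  [Int.ofNat 0, Int.ofNat 2, Int.ofNat 0, Int.negSucc 1, Int.ofNat 0, Int.ofNat 0, Int.ofNat 0, Int.ofNat 0, Int.ofNat 2, Int.ofNat 0, Int.negSucc 1, Int.negSucc 1, Int.ofNat 2, Int.ofNat 0, Int.ofNat 0, Int.ofNat 0, Int.ofNat 0, Int.ofNat 0, Int.ofNat 0, Int.negSucc 1, Int.ofNat 0, Int.ofNat 0, Int.ofNat 2, Int.ofNat 0],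
  [Int.ofNat 1, Int.negSucc 0, Int.ofNat 1, Int.negSucc 0, Int.negSucc 0, Int.ofNat 1, Int.ofNat 1, Int.ofNat 1, Int.ofNat 1, Int.ofNat 1, Int.negSucc 0, Int.negSucc 2, Int.ofNat 1, Int.negSucc 0, Int.ofNat 1, Int.ofNat 1, Int.negSucc 0, Int.ofNat 1, Int.negSucc 0, Int.negSucc 0, Int.ofNat 1, Int.ofNat 1, Int.ofNat 1, Int.ofNat 1],
  [Int.ofNat 1, Int.ofNat 1, Int.negSucc 0, Int.negSucc 0, Int.negSucc 0, Int.ofNat 1, Int.ofNat 1, Int.negSucc 0, Int.ofNat 1, Int.negSucc 0, Int.ofNat 1, Int.ofNat 1, Int.ofNat 1, Int.negSucc 0, Int.ofNat 1, Int.ofNat 1, Int.ofNat 1, Int.ofNat 1, Int.negSucc 0, Int.negSucc 2, Int.ofNat 1, Int.ofNat 1, Int.negSucc 0, Int.ofNat 1],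
  [Int.ofNat 0, Int.ofNat 0, Int.ofNat 2, Int.negSucc 1, Int.ofNat 0, Int.ofNat 0, Int.ofNat 2, Int.ofNat 0, Int.ofNat 0, Int.negSucc 1, Int.ofNat 0, Int.ofNat 0, Int.ofNat 0, Int.ofNat 0, Int.ofNat 0, Int.ofNat 0, Int.ofNat 2, Int.ofNat 0, Int.negSucc 1, Int.negSucc 1, Int.ofNat 0, Int.ofNat 2, Int.ofNat 0, Int.ofNat 0],
  [Int.ofNat 0, Int.ofNat 0, Int.negSucc 1, Int.negSucc 1, Int.ofNat 0, Int.ofNat 0, Int.negSucc 1, Int.ofNat 0, Int.ofNat 0, Int.ofNat 2, Int.ofNat 0, Int.ofNat 0, Int.ofNat 0, Int.ofNat 0, Int.ofNat 0, Int.ofNat 0, Int.ofNat 2, Int.ofNat 0, Int.ofNat 2, Int.negSucc 1, Int.ofNat 0, Int.ofNat 2, Int.ofNat 0, Int.ofNat 0],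
  [Int.ofNat 0, Int.ofNat 0, Int.ofNat 0, Int.ofNat 0, Int.ofNat 0, Int.ofNat 0, Int.ofNat 2, Int.ofNat 0, Int.ofNat 0, Int.negSucc 1, Int.ofNat 2, Int.ofNat 0, Int.ofNat 2, Int.ofNat 0, Int.negSucc 1, Int.ofNat 0, Int.ofNat 0, Int.ofNat 2, Int.negSucc 1, Int.ofNat 0, Int.ofNat 0, Int.negSucc 1, Int.ofNat 0, Int.ofNat 0],
  [Int.ofNat 0, Int.ofNat 0, Int.ofNat 0, Int.ofNat 0, Int.ofNat 0, Int.ofNat 0, Int.negSucc 1, Int.ofNat 0, Int.ofNat 0, Int.ofNat 2, Int.negSucc 1, Int.ofNat 0, Int.ofNat 2, Int.ofNat 0, Int.negSucc 1, Int.ofNat 0, Int.ofNat 0, Int.ofNat 2, Int.ofNat 2, Int.ofNat 0, Int.ofNat 0, Int.negSucc 1, Int.ofNat 0, Int.ofNat 0],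
  [Int.ofNat 0, Int.ofNat 0, Int.ofNat 0, Int.ofNat 0, Int.ofNat 0, Int.ofNat 0, Int.ofNat 0, Int.ofNat 2, Int.negSucc 1, Int.ofNat 2, Int.negSucc 1, Int.negSucc 1, Int.ofNat 0, Int.ofNat 0, Int.negSucc 1, Int.ofNat 0, Int.ofNat 0, Int.ofNat 2, Int.ofNat 0, Int.ofNat 2, Int.ofNat 0, Int.ofNat 0, Int.ofNat 0, Int.ofNat 0],
  [Int.ofNat 0, Int.ofNat 0, Int.ofNat 0, Int.ofNat 0, Int.ofNat 0, Int.ofNat 0, Int.ofNat 0, Int.ofNat 0, Int.ofNat 0, Int.ofNat 0, Int.ofNat 2, Int.ofNat 2, Int.negSucc 1, Int.ofNat 2, Int.ofNat 2, Int.ofNat 0, Int.ofNat 0, Int.negSucc 1, Int.ofNat 0, Int.ofNat 0, Int.negSucc 1, Int.ofNat 0, Int.negSucc 1, Int.ofNat 0],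
  [Int.ofNat 0, Int.ofNat 0, Int.ofNat 0, Int.ofNat 0, Int.ofNat 0, Int.ofNat 0, Int.ofNat 0, Int.ofNat 0, Int.ofNat 0, Int.ofNat 0, Int.ofNat 2, Int.ofNat 2, Int.negSucc 1, Int.ofNat 2, Int.ofNat 2, Int.ofNat 0, Int.ofNat 0, Int.negSucc 1, Int.ofNat 0, Int.ofNat 0, Int.negSucc 1, Int.ofNat 0, Int.negSucc 1, Int.ofNat 0],
  [Int.negSucc 1, Int.ofNat 0, Int.negSucc 1, Int.ofNat 0, Int.ofNat 0, Int.ofNat 0, Int.ofNat 0, Int.ofNat 0, Int.ofNat 0, Int.ofNat 0, Int.ofNat 0, Int.ofNat 0, Int.ofNat 0, Int.ofNat 2, Int.ofNat 2, Int.negSucc 1, Int.ofNat 2, Int.ofNat 2, Int.ofNat 0, Int.ofNat 0, Int.negSucc 1, Int.ofNat 0, Int.ofNat 0, Int.ofNat 0],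
  [Int.ofNat 0, Int.negSucc 1, Int.ofNat 0, Int.negSucc 1, Int.negSucc 1, Int.negSucc 1, Int.ofNat 0, Int.ofNat 0, Int.ofNat 0, Int.ofNat 2, Int.ofNat 2, Int.ofNat 0, Int.ofNat 0, Int.ofNat 0, Int.ofNat 0, Int.ofNat 0, Int.ofNat 0, Int.ofNat 0, Int.ofNat 0, Int.ofNat 0, Int.ofNat 0, Int.ofNat 0, Int.negSucc 1, Int.negSucc 1],
  [Int.negSucc 1, Int.ofNat 0, Int.negSucc 1, Int.negSucc 1, Int.negSucc 1, Int.ofNat 0, Int.ofNat 0, Int.ofNat 0, Int.ofNat 2, Int.ofNat 2, Int.ofNat 0, Int.ofNat 0, Int.ofNat 0, Int.ofNat 0, Int.ofNat 0, Int.ofNat 0, Int.ofNat 0, Int.ofNat 0, Int.ofNat 0, Int.ofNat 0, Int.ofNat 0, Int.negSucc 1, Int.ofNat 0, Int.negSucc 1],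
  [Int.ofNat 2, Int.ofNat 0, Int.ofNat 2, Int.negSucc 1, Int.negSucc 1, Int.ofNat 0, Int.ofNat 0, Int.ofNat 0, Int.ofNat 2, Int.negSucc 1, Int.ofNat 0, Int.ofNat 0, Int.ofNat 0, Int.ofNat 0, Int.ofNat 0, Int.ofNat 0, Int.ofNat 0, Int.ofNat 0, Int.ofNat 0, Int.ofNat 0, Int.ofNat 0, Int.ofNat 2, Int.ofNat 0, Int.negSucc 1],
  [Int.ofNat 2, Int.ofNat 2, Int.ofNat 0, Int.negSucc 1, Int.ofNat 0, Int.ofNat 0, Int.negSucc 1, Int.ofNat 0, Int.negSucc 1, Int.ofNat 0, Int.ofNat 2, Int.ofNat 0, Int.ofNat 0, Int.ofNat 2, Int.ofNat 0, Int.ofNat 0, Int.ofNat 0, Int.ofNat 0, Int.ofNat 0, Int.ofNat 0, Int.ofNat 0, Int.ofNat 0, Int.ofNat 0, Int.negSucc 1],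
  [Int.negSucc 1, Int.ofNat 2, Int.ofNat 0, Int.negSucc 1, Int.ofNat 0, Int.ofNat 0, Int.negSucc 1, Int.ofNat 0, Int.negSucc 1, Int.ofNat 0, Int.negSucc 1, Int.ofNat 0, Int.ofNat 0, Int.ofNat 2, Int.ofNat 0, Int.ofNat 0, Int.ofNat 0, Int.ofNat 0, Int.ofNat 0, Int.ofNat 0, Int.ofNat 0, Int.ofNat 0, Int.ofNat 0, Int.negSucc 1],
  [Int.ofNat 0, Int.negSucc 1, Int.ofNat 2, Int.ofNat 0, Int.negSucc 1, Int.ofNat 0, Int.ofNat 0, Int.negSucc 1, Int.ofNat 0, Int.negSucc 1, Int.ofNat 0, Int.negSucc 1, Int.ofNat 0, Int.ofNat 0, Int.ofNat 2, Int.ofNat 0, Int.ofNat 0, Int.ofNat 0, Int.ofNat 0, Int.ofNat 0, Int.ofNat 0, Int.ofNat 0, Int.ofNat 0, Int.negSucc 1],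
  [Int.negSucc 0, Int.ofNat 1, Int.negSucc 2, Int.negSucc 0, Int.negSucc 0, Int.negSucc 0, Int.ofNat 1, Int.negSucc 0, Int.ofNat 1, Int.negSucc 0, Int.ofNat 1, Int.negSucc 0, Int.ofNat 1, Int.ofNat 1, Int.ofNat 1, Int.ofNat 1, Int.ofNat 1, Int.negSucc 0, Int.ofNat 1, Int.ofNat 1, Int.ofNat 1, Int.ofNat 1, Int.ofNat 1, Int.ofNat 1],
  [Int.negSucc 0, Int.negSucc 0, Int.negSucc 0, Int.ofNat 1, Int.negSucc 0, Int.ofNat 1, Int.negSucc 0, Int.ofNat 1, Int.negSucc 0, Int.ofNat 1, Int.ofNat 1, Int.ofNat 1, Int.ofNat 1, Int.ofNat 1, Int.negSucc 0, Int.ofNat 1, Int.ofNat 1, Int.ofNat 1, Int.ofNat 1, Int.ofNat 1, Int.negSucc 0, Int.ofNat 1, Int.negSucc 2, Int.ofNat 1],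
  [Int.ofNat 0, Int.ofNat 0, Int.ofNat 0, Int.ofNat 0, Int.ofNat 0, Int.ofNat 0, Int.negSucc 1, Int.ofNat 0, Int.negSucc 1, Int.ofNat 0, Int.ofNat 0, Int.ofNat 0, Int.ofNat 0, Int.ofNat 2, Int.negSucc 1, Int.ofNat 0, Int.ofNat 2, Int.ofNat 0, Int.ofNat 0, Int.ofNat 0, Int.negSucc 1, Int.ofNat 0, Int.negSucc 1, Int.negSucc 1],
  [Int.ofNat 0, Int.negSucc 1, Int.ofNat 0, Int.ofNat 0, Int.ofNat 0, Int.ofNat 0, Int.ofNat 0, Int.ofNat 0, Int.ofNat 0, Int.ofNat 2, Int.negSucc 1, Int.ofNat 0, Int.ofNat 0, Int.ofNat 2, Int.negSucc 1, Int.ofNat 0, Int.negSucc 1, Int.negSucc 1, Int.ofNat 0, Int.ofNat 0, Int.ofNat 0, Int.ofNat 0, Int.ofNat 0, Int.negSucc 1],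
  [Int.negSucc 1, Int.ofNat 0, Int.negSucc 1, Int.ofNat 2, Int.ofNat 0, Int.ofNat 2, Int.ofNat 0, Int.ofNat 0, Int.ofNat 0, Int.ofNat 2, Int.negSucc 1, Int.ofNat 0, Int.ofNat 0, Int.ofNat 2, Int.ofNat 0, Int.ofNat 0, Int.negSucc 1, Int.ofNat 0, Int.ofNat 0, Int.ofNat 0, Int.ofNat 0, Int.ofNat 0, Int.ofNat 0, Int.ofNat 0],
  [Int.negSucc 1, Int.ofNat 0, Int.ofNat 2, Int.ofNat 2, Int.ofNat 0, Int.negSucc 1, Int.ofNat 0, Int.ofNat 0, Int.ofNat 0, Int.negSucc 1, Int.ofNat 2, Int.ofNat 0, Int.ofNat 0, Int.ofNat 2, Int.ofNat 0, Int.ofNat 0, Int.negSucc 1, Int.ofNat 0, Int.ofNat 0, Int.ofNat 0, Int.ofNat 0, Int.ofNat 0, Int.ofNat 0, Int.ofNat 0],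
  [Int.ofNat 2, Int.negSucc 1, Int.ofNat 0, Int.ofNat 0, Int.ofNat 0, Int.ofNat 0, Int.ofNat 0, Int.ofNat 2, Int.negSucc 1, Int.ofNat 0, Int.ofNat 2, Int.ofNat 0, Int.ofNat 0, Int.ofNat 0, Int.ofNat 0, Int.ofNat 0, Int.ofNat 0, Int.ofNat 0, Int.negSucc 1, Int.ofNat 2, Int.negSucc 1, Int.ofNat 0, Int.ofNat 0, Int.ofNat 0],
  [Int.negSucc 1, Int.ofNat 2, Int.ofNat 0, Int.ofNat 0, Int.ofNat 0, Int.ofNat 0, Int.ofNat 0, Int.ofNat 2, Int.ofNat 2, Int.ofNat 0, Int.ofNat 2, Int.ofNat 0, Int.ofNat 0, Int.ofNat 0, Int.ofNat 0, Int.ofNat 0, Int.ofNat 0, Int.ofNat 0, Int.ofNat 2, Int.ofNat 2, Int.negSucc 1, Int.ofNat 0, Int.ofNat 0, Int.ofNat 0],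
  [Int.ofNat 0, Int.ofNat 0, Int.ofNat 0, Int.ofNat 0, Int.ofNat 0, Int.ofNat 0, Int.ofNat 2, Int.ofNat 0, Int.negSucc 1, Int.ofNat 0, Int.ofNat 0, Int.ofNat 0, Int.ofNat 0, Int.ofNat 2, Int.ofNat 2, Int.ofNat 0, Int.ofNat 2, Int.ofNat 0, Int.ofNat 0, Int.ofNat 0, Int.ofNat 2, Int.ofNat 0, Int.ofNat 2, Int.negSucc 1],
  [Int.ofNat 0, Int.ofNat 0, Int.ofNat 0, Int.ofNat 0, Int.ofNat 0, Int.ofNat 0, Int.ofNat 2, Int.ofNat 0, Int.negSucc 1, Int.ofNat 0, Int.ofNat 0, Int.ofNat 0, Int.ofNat 0, Int.ofNat 2, Int.ofNat 2, Int.ofNat 0, Int.ofNat 2, Int.ofNat 0, Int.ofNat 0, Int.ofNat 0, Int.ofNat 2, Int.ofNat 0, Int.ofNat 2, Int.negSucc 1],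
  [Int.ofNat 2, Int.ofNat 0, Int.ofNat 0, Int.ofNat 0, Int.ofNat 0, Int.ofNat 0, Int.ofNat 0, Int.ofNat 2, Int.ofNat 0, Int.negSucc 1, Int.ofNat 0, Int.ofNat 0, Int.ofNat 0, Int.ofNat 0, Int.ofNat 2, Int.ofNat 2, Int.ofNat 0, Int.ofNat 2, Int.ofNat 0, Int.ofNat 0, Int.ofNat 0, Int.ofNat 2, Int.ofNat 0, Int.negSucc 1],
  [Int.negSucc 1, Int.ofNat 0, Int.ofNat 0, Int.negSucc 1, Int.ofNat 0, Int.negSucc 1, Int.negSucc 1, Int.ofNat 0, Int.ofNat 0, Int.negSucc 1, Int.ofNat 0, Int.ofNat 0, Int.ofNat 0, Int.ofNat 0, Int.ofNat 0, Int.ofNat 2, Int.ofNat 0, Int.ofNat 0, Int.ofNat 0, Int.negSucc 1, Int.ofNat 0, Int.ofNat 0, Int.ofNat 0, Int.ofNat 2],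
  [Int.negSucc 1, Int.ofNat 0, Int.negSucc 1, Int.negSucc 1, Int.ofNat 0, Int.ofNat 0, Int.negSucc 1, Int.ofNat 0, Int.ofNat 0, Int.ofNat 0, Int.ofNat 0, Int.ofNat 0, Int.ofNat 2, Int.ofNat 0, Int.ofNat 0, Int.ofNat 0, Int.negSucc 1, Int.ofNat 0, Int.ofNat 0, Int.ofNat 0, Int.negSucc 1, Int.ofNat 0, Int.ofNat 0, Int.ofNat 2],
  [Int.ofNat 1, Int.negSucc 0, Int.ofNat 1, Int.negSucc 0, Int.ofNat 1, Int.ofNat 1, Int.negSucc 0, Int.ofNat 1, Int.negSucc 0, Int.ofNat 1, Int.ofNat 1, Int.negSucc 0, Int.ofNat 1, Int.ofNat 1, Int.ofNat 1, Int.ofNat 1, Int.negSucc 0, Int.ofNat 1, Int.negSucc 0, Int.ofNat 1, Int.negSucc 0, Int.ofNat 1, Int.ofNat 1, Int.negSucc 2],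
  [Int.ofNat 1, Int.negSucc 0, Int.ofNat 1, Int.negSucc 0, Int.negSucc 0, Int.ofNat 1, Int.ofNat 1, Int.ofNat 1, Int.ofNat 1, Int.ofNat 1, Int.negSucc 0, Int.ofNat 1, Int.ofNat 1, Int.negSucc 0, Int.ofNat 1, Int.ofNat 1, Int.negSucc 0, Int.ofNat 1, Int.negSucc 0, Int.negSucc 0, Int.ofNat 1, Int.ofNat 1, Int.ofNat 1, Int.negSucc 2],
  [Int.negSucc 1, Int.ofNat 0, Int.negSucc 1, Int.negSucc 1, Int.ofNat 0, Int.ofNat 0, Int.ofNat 0, Int.ofNat 0, Int.ofNat 0, Int.ofNat 0, Int.negSucc 1, Int.ofNat 0, Int.ofNat 0, Int.ofNat 0, Int.ofNat 0, Int.ofNat 0, Int.ofNat 0, Int.ofNat 0, Int.negSucc 1, Int.negSucc 1, Int.ofNat 0, Int.ofNat 0, Int.ofNat 2, Int.ofNat 2],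
  [Int.negSucc 1, Int.ofNat 0, Int.ofNat 2, Int.negSucc 1, Int.ofNat 0, Int.ofNat 0, Int.ofNat 0, Int.ofNat 0, Int.ofNat 0, Int.ofNat 0, Int.ofNat 2, Int.ofNat 0, Int.ofNat 0, Int.ofNat 0, Int.ofNat 0, Int.ofNat 0, Int.ofNat 0, Int.ofNat 0, Int.ofNat 2, Int.negSucc 1, Int.ofNat 0, Int.ofNat 0, Int.negSucc 1, Int.ofNat 2],
  [Int.ofNat 0, Int.negSucc 1, Int.negSucc 1, Int.ofNat 0, Int.ofNat 0, Int.ofNat 0, Int.ofNat 0, Int.ofNat 0, Int.ofNat 0, Int.ofNat 2, Int.ofNat 0, Int.ofNat 0, Int.ofNat 0, Int.ofNat 0, Int.ofNat 0, Int.ofNat 0, Int.ofNat 0, Int.ofNat 2, Int.negSucc 1, Int.ofNat 0, Int.ofNat 0, Int.negSucc 1, Int.ofNat 2, Int.ofNat 2],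
  [Int.ofNat 0, Int.negSucc 1, Int.ofNat 2, Int.ofNat 0, Int.ofNat 0, Int.ofNat 0, Int.ofNat 0, Int.ofNat 0, Int.ofNat 0, Int.negSucc 1, Int.ofNat 0, Int.ofNat 0, Int.ofNat 0, Int.ofNat 0, Int.ofNat 0, Int.ofNat 0, Int.ofNat 0, Int.ofNat 2, Int.ofNat 2, Int.ofNat 0, Int.ofNat 0, Int.negSucc 1, Int.negSucc 1, Int.ofNat 2],
  [Int.ofNat 1, Int.ofNat 3, Int.negSucc 0, Int.negSucc 0, Int.ofNat 1, Int.negSucc 0, Int.ofNat 1, Int.ofNat 1, Int.negSucc 0, Int.negSucc 0, Int.ofNat 1, Int.negSucc 0, Int.negSucc 0, Int.ofNat 1, Int.negSucc 0, Int.ofNat 1, Int.ofNat 1, Int.ofNat 1, Int.ofNat 1, Int.ofNat 1, Int.ofNat 1, Int.negSucc 0, Int.negSucc 0, Int.negSucc 0],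
  [Int.ofNat 1, Int.ofNat 1, Int.ofNat 1, Int.negSucc 0, Int.negSucc 0, Int.negSucc 0, Int.ofNat 3, Int.negSucc 0, Int.ofNat 1, Int.negSucc 0, Int.ofNat 1, Int.ofNat 1, Int.negSucc 0, Int.negSucc 0, Int.ofNat 1, Int.ofNat 1, Int.ofNat 1, Int.negSucc 0, Int.ofNat 1, Int.negSucc 0, Int.ofNat 1, Int.ofNat 1, Int.negSucc 0, Int.negSucc 0],
  [Int.ofNat 0, Int.ofNat 0, Int.ofNat 0, Int.ofNat 0, Int.ofNat 0, Int.ofNat 0, Int.ofNat 2, Int.negSucc 1, Int.ofNat 0, Int.negSucc 1, Int.ofNat 0, Int.ofNat 0, Int.negSucc 1, Int.ofNat 0, Int.ofNat 2, Int.ofNat 0, Int.ofNat 2, Int.ofNat 0, Int.ofNat 0, Int.negSucc 1, Int.ofNat 0, Int.ofNat 0, Int.ofNat 0, Int.ofNat 2],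
  [Int.ofNat 0, Int.ofNat 0, Int.ofNat 0, Int.ofNat 0, Int.ofNat 0, Int.ofNat 0, Int.ofNat 0, Int.ofNat 0, Int.ofNat 0, Int.ofNat 2, Int.negSucc 1, Int.ofNat 0, Int.negSucc 1, Int.ofNat 0, Int.ofNat 0, Int.negSucc 1, Int.ofNat 0, Int.ofNat 2, Int.ofNat 0, Int.ofNat 2, Int.ofNat 0, Int.ofNat 0, Int.negSucc 1, Int.ofNat 2],
  [Int.ofNat 1, Int.ofNat 1, Int.ofNat 1, Int.negSucc 0, Int.ofNat 1, Int.negSucc 0, Int.negSucc 0, Int.negSucc 0, Int.ofNat 1, Int.ofNat 3, Int.negSucc 0, Int.ofNat 1, Int.negSucc 0, Int.ofNat 1, Int.negSucc 0, Int.negSucc 0, Int.ofNat 1, Int.ofNat 1, Int.ofNat 1, Int.ofNat 1, Int.ofNat 1, Int.negSucc 0, Int.negSucc 0, Int.negSucc 0],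
  [Int.ofNat 1, Int.ofNat 1, Int.negSucc 0, Int.ofNat 1, Int.negSucc 0, Int.negSucc 0, Int.negSucc 0, Int.ofNat 1, Int.ofNat 3, Int.negSucc 0, Int.ofNat 1, Int.negSucc 0, Int.ofNat 1, Int.negSucc 0, Int.negSucc 0, Int.ofNat 1, Int.ofNat 1, Int.ofNat 1, Int.ofNat 1, Int.ofNat 1, Int.negSucc 0, Int.negSucc 0, Int.ofNat 1, Int.negSucc 0],
  [Int.negSucc 0, Int.ofNat 1, Int.ofNat 1, Int.ofNat 1, Int.negSucc 0, Int.negSucc 0, Int.negSucc 0, Int.negSucc 0, Int.ofNat 3, Int.ofNat 1, Int.negSucc 0, Int.ofNat 1, Int.ofNat 1, Int.negSucc 0, Int.negSucc 0, Int.ofNat 1, Int.ofNat 1, Int.ofNat 1, Int.negSucc 0, Int.ofNat 1, Int.negSucc 0, Int.ofNat 1, Int.ofNat 1, Int.negSucc 0],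
  [Int.negSucc 0, Int.ofNat 1, Int.negSucc 0, Int.ofNat 1, Int.ofNat 1, Int.negSucc 0, Int.negSucc 0, Int.negSucc 0, Int.ofNat 1, Int.ofNat 1, Int.ofNat 1, Int.negSucc 0, Int.negSucc 0, Int.ofNat 3, Int.ofNat 1, Int.ofNat 1, Int.ofNat 1, Int.ofNat 1, Int.negSucc 0, Int.ofNat 1, Int.negSucc 0, Int.negSucc 0, Int.ofNat 1, Int.negSucc 0],
  [Int.ofNat 1, Int.ofNat 1, Int.ofNat 1, Int.ofNat 1, Int.ofNat 1, Int.negSucc 0, Int.negSucc 0, Int.ofNat 1, Int.ofNat 1, Int.negSucc 0, Int.negSucc 0, Int.ofNat 1, Int.negSucc 0, Int.ofNat 3, Int.ofNat 1, Int.ofNat 1, Int.ofNat 1, Int.ofNat 1, Int.ofNat 1, Int.ofNat 1, Int.negSucc 0, Int.ofNat 1, Int.ofNat 1, Int.negSucc 0],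
  [Int.ofNat 1, Int.ofNat 1, Int.ofNat 1, Int.ofNat 1, Int.ofNat 1, Int.ofNat 1, Int.negSucc 0, Int.negSucc 0, Int.ofNat 1, Int.ofNat 1, Int.negSucc 0, Int.negSucc 0, Int.ofNat 1, Int.negSucc 0, Int.ofNat 3, Int.ofNat 1, Int.ofNat 1, Int.ofNat 1, Int.ofNat 1, Int.ofNat 1, Int.ofNat 1, Int.negSucc 0, Int.ofNat 1, Int.negSucc 0],
  [Int.ofNat 0, Int.ofNat 0, Int.ofNat 0, Int.negSucc 1, Int.ofNat 0, Int.negSucc 1, Int.ofNat 0, Int.ofNat 0, Int.ofNat 0, Int.ofNat 0, Int.negSucc 1, Int.negSucc 1, Int.ofNat 0, Int.negSucc 1, Int.ofNat 0, Int.ofNat 0, Int.ofNat 0, Int.negSucc 1, Int.ofNat 0, Int.ofNat 2, Int.ofNat 0, Int.ofNat 0, Int.ofNat 0, Int.ofNat 2],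
  [Int.negSucc 1, Int.ofNat 0, Int.negSucc 1, Int.ofNat 0, Int.ofNat 0, Int.ofNat 0, Int.ofNat 0, Int.negSucc 1, Int.negSucc 1, Int.ofNat 0, Int.negSucc 1, Int.ofNat 0, Int.ofNat 0, Int.ofNat 0, Int.negSucc 1, Int.ofNat 0, Int.ofNat 2, Int.ofNat 0, Int.ofNat 0, Int.ofNat 0, Int.ofNat 0, Int.ofNat 0, Int.ofNat 0, Int.ofNat 2],
  [Int.ofNat 1, Int.negSucc 0, Int.ofNat 1, Int.ofNat 1, Int.negSucc 0, Int.ofNat 1, Int.ofNat 1, Int.negSucc 0, Int.negSucc 0, Int.ofNat 1, Int.negSucc 0, Int.ofNat 1, Int.ofNat 1, Int.negSucc 0, Int.negSucc 0, Int.ofNat 1, Int.ofNat 1, Int.ofNat 1, Int.ofNat 1, Int.ofNat 1, Int.ofNat 1, Int.ofNat 1, Int.negSucc 0, Int.negSucc 2],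
  [Int.ofNat 1, Int.ofNat 1, Int.negSucc 0, Int.ofNat 1, Int.ofNat 1, Int.negSucc 0, Int.ofNat 1, Int.negSucc 0, Int.ofNat 1, Int.negSucc 0, Int.ofNat 1, Int.ofNat 1, Int.ofNat 1, Int.ofNat 1, Int.negSucc 0, Int.ofNat 1, Int.negSucc 0, Int.negSucc 0, Int.negSucc 0, Int.ofNat 1, Int.ofNat 1, Int.ofNat 1, Int.ofNat 1, Int.negSucc 2],
  [Int.negSucc 1, Int.negSucc 1, Int.ofNat 0, Int.ofNat 2, Int.ofNat 0, Int.ofNat 0, Int.ofNat 0, Int.negSucc 1, Int.ofNat 0, Int.negSucc 1, Int.ofNat 0, Int.ofNat 0, Int.ofNat 0, Int.ofNat 0, Int.ofNat 0, Int.ofNat 0, Int.negSucc 1, Int.ofNat 0, Int.negSucc 1, Int.ofNat 0, Int.ofNat 0, Int.ofNat 0, Int.ofNat 0, Int.ofNat 2],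
  [Int.negSucc 1, Int.negSucc 1, Int.ofNat 0, Int.ofNat 2, Int.ofNat 0, Int.ofNat 0, Int.ofNat 0, Int.negSucc 1, Int.ofNat 0, Int.ofNat 2, Int.ofNat 0, Int.ofNat 0, Int.ofNat 0, Int.ofNat 0, Int.ofNat 0, Int.ofNat 0, Int.negSucc 1, Int.ofNat 0, Int.ofNat 2, Int.ofNat 0, Int.ofNat 0, Int.ofNat 0, Int.ofNat 0, Int.ofNat 2],
  [Int.ofNat 0, Int.negSucc 1, Int.ofNat 0, Int.ofNat 0, Int.ofNat 0, Int.ofNat 0, Int.ofNat 0, Int.ofNat 2, Int.ofNat 0, Int.ofNat 0, Int.ofNat 0, Int.negSucc 1, Int.ofNat 0, Int.ofNat 0, Int.ofNat 0, Int.ofNat 2, Int.ofNat 0, Int.ofNat 0, Int.ofNat 2, Int.ofNat 0, Int.negSucc 1, Int.negSucc 1, Int.ofNat 0, Int.ofNat 2],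
  [Int.ofNat 0, Int.ofNat 2, Int.ofNat 0, Int.ofNat 0, Int.ofNat 0, Int.ofNat 0, Int.ofNat 0, Int.ofNat 2, Int.ofNat 0, Int.ofNat 0, Int.ofNat 0, Int.negSucc 1, Int.ofNat 0, Int.ofNat 0, Int.ofNat 0, Int.ofNat 2, Int.ofNat 0, Int.ofNat 0, Int.negSucc 1, Int.ofNat 0, Int.negSucc 1, Int.negSucc 1, Int.ofNat 0, Int.ofNat 2],
  [Int.ofNat 2, Int.ofNat 0, Int.negSucc 1, Int.ofNat 2, Int.ofNat 0, Int.ofNat 0, Int.ofNat 0, Int.ofNat 0, Int.negSucc 1, Int.ofNat 0, Int.ofNat 0, Int.ofNat 0, Int.negSucc 1, Int.ofNat 2, Int.negSucc 1, Int.ofNat 0, Int.ofNat 0, Int.ofNat 0, Int.ofNat 0, Int.ofNat 0, Int.ofNat 0, Int.ofNat 0, Int.ofNat 2, Int.ofNat 0],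
  [Int.negSucc 1, Int.ofNat 0, Int.ofNat 2, Int.ofNat 2, Int.ofNat 0, Int.ofNat 0, Int.ofNat 0, Int.ofNat 0, Int.negSucc 1, Int.ofNat 0, Int.ofNat 0, Int.ofNat 0, Int.negSucc 1, Int.ofNat 2, Int.negSucc 1, Int.ofNat 0, Int.ofNat 0, Int.ofNat 0, Int.ofNat 0, Int.ofNat 0, Int.ofNat 0, Int.ofNat 0, Int.ofNat 2, Int.ofNat 0],
  [Int.ofNat 2, Int.negSucc 1, Int.ofNat 0, Int.ofNat 2, Int.ofNat 2, Int.ofNat 0, Int.ofNat 0, Int.ofNat 0, Int.ofNat 0, Int.negSucc 1, Int.ofNat 0, Int.ofNat 0, Int.ofNat 0, Int.negSucc 1, Int.ofNat 2, Int.negSucc 1, Int.ofNat 0, Int.ofNat 0, Int.ofNat 0, Int.ofNat 0, Int.ofNat 0, Int.ofNat 0, Int.ofNat 0, Int.ofNat 0],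
  [Int.negSucc 1, Int.ofNat 2, Int.ofNat 0, Int.ofNat 0, Int.ofNat 2, Int.negSucc 1, Int.ofNat 0, Int.ofNat 0, Int.ofNat 0, Int.ofNat 0, Int.ofNat 2, Int.ofNat 0, Int.ofNat 0, Int.negSucc 1, Int.ofNat 0, Int.ofNat 0, Int.ofNat 0, Int.negSucc 1, Int.ofNat 0, Int.ofNat 0, Int.ofNat 2, Int.ofNat 0, Int.ofNat 0, Int.ofNat 0],
  [Int.ofNat 0, Int.ofNat 2, Int.negSucc 1, Int.ofNat 0, Int.ofNat 0, Int.ofNat 0, Int.ofNat 0, Int.ofNat 2, Int.ofNat 0, Int.ofNat 0, Int.negSucc 1, Int.ofNat 0, Int.ofNat 0, Int.ofNat 0, Int.negSucc 1, Int.ofNat 0, Int.ofNat 0, Int.ofNat 2, Int.ofNat 0, Int.ofNat 0, Int.negSucc 1, Int.ofNat 2, Int.ofNat 0, Int.ofNat 0],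
  [Int.ofNat 0, Int.negSucc 1, Int.ofNat 2, Int.ofNat 0, Int.ofNat 0, Int.ofNat 0, Int.negSucc 1, Int.ofNat 0, Int.ofNat 0, Int.ofNat 2, Int.ofNat 0, Int.ofNat 0, Int.ofNat 0, Int.ofNat 0, Int.negSucc 1, Int.ofNat 2, Int.ofNat 0, Int.ofNat 2, Int.ofNat 0, Int.negSucc 1, Int.ofNat 0, Int.ofNat 0, Int.ofNat 0, Int.ofNat 0],
  [Int.ofNat 0, Int.negSucc 1, Int.ofNat 0, Int.ofNat 0, Int.ofNat 0, Int.ofNat 0, Int.ofNat 2, Int.ofNat 0, Int.ofNat 0, Int.ofNat 0, Int.ofNat 0, Int.ofNat 2, Int.ofNat 2, Int.ofNat 0, Int.ofNat 0, Int.ofNat 2, Int.ofNat 0, Int.negSucc 1, Int.negSucc 1, Int.ofNat 0, Int.ofNat 0, Int.ofNat 0, Int.negSucc 1, Int.ofNat 0],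
  [Int.negSucc 0, Int.ofNat 1, Int.negSucc 0, Int.ofNat 1, Int.ofNat 1, Int.ofNat 1, Int.ofNat 1, Int.negSucc 0, Int.negSucc 0, Int.negSucc 0, Int.negSucc 0, Int.ofNat 1, Int.ofNat 1, Int.ofNat 1, Int.ofNat 1, Int.ofNat 1, Int.ofNat 1, Int.negSucc 0, Int.negSucc 2, Int.negSucc 0, Int.negSucc 0, Int.negSucc 0, Int.negSucc 0, Int.negSucc 0],
  [Int.negSucc 0, Int.ofNat 1, Int.ofNat 1, Int.ofNat 1, Int.ofNat 1, Int.negSucc 0, Int.negSucc 0, Int.negSucc 0, Int.negSucc 0, Int.ofNat 1, Int.ofNat 1, Int.ofNat 1, Int.ofNat 1, Int.ofNat 1, Int.ofNat 1, Int.negSucc 0, Int.ofNat 1, Int.negSucc 0, Int.ofNat 3, Int.negSucc 0, Int.negSucc 0, Int.negSucc 0, Int.ofNat 1, Int.negSucc 0],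
  [Int.ofNat 1, Int.ofNat 1, Int.negSucc 0, Int.negSucc 0, Int.negSucc 0, Int.negSucc 0, Int.negSucc 0, Int.negSucc 0, Int.ofNat 1, Int.ofNat 1, Int.ofNat 1, Int.negSucc 0, Int.ofNat 1, Int.negSucc 0, Int.negSucc 0, Int.ofNat 1, Int.ofNat 1, Int.ofNat 3, Int.negSucc 0, Int.ofNat 1, Int.ofNat 1, Int.ofNat 1, Int.ofNat 1, Int.negSucc 0],
  [Int.ofNat 1, Int.ofNat 1, Int.ofNat 1, Int.negSucc 0, Int.negSucc 0, Int.ofNat 1, Int.ofNat 1, Int.negSucc 0, Int.ofNat 1, Int.negSucc 0, Int.negSucc 0, Int.negSucc 0, Int.ofNat 1, Int.negSucc 0, Int.negSucc 0, Int.negSucc 0, Int.ofNat 1, Int.ofNat 3, Int.ofNat 1, Int.ofNat 1, Int.ofNat 1, Int.ofNat 1, Int.negSucc 0, Int.negSucc 0],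
  [Int.ofNat 0, Int.ofNat 0, Int.ofNat 0, Int.negSucc 1, Int.ofNat 0, Int.ofNat 0, Int.ofNat 0, Int.negSucc 1, Int.ofNat 0, Int.ofNat 0, Int.ofNat 0, Int.negSucc 1, Int.ofNat 0, Int.ofNat 0, Int.negSucc 1, Int.ofNat 0, Int.ofNat 2, Int.ofNat 2, Int.ofNat 0, Int.ofNat 0, Int.ofNat 2, Int.ofNat 0, Int.ofNat 0, Int.ofNat 2],
  [Int.ofNat 0, Int.ofNat 0, Int.ofNat 0, Int.negSucc 1, Int.ofNat 0, Int.ofNat 0, Int.ofNat 0, Int.ofNat 0, Int.ofNat 2, Int.ofNat 0, Int.negSucc 1, Int.ofNat 0, Int.ofNat 0, Int.ofNat 0, Int.ofNat 2, Int.ofNat 0, Int.ofNat 0, Int.negSucc 1, Int.ofNat 0, Int.ofNat 0, Int.ofNat 0, Int.ofNat 2, Int.negSucc 1, Int.ofNat 2],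
  [Int.ofNat 1, Int.ofNat 1, Int.ofNat 1, Int.negSucc 0, Int.ofNat 1, Int.ofNat 1, Int.negSucc 0, Int.negSucc 0, Int.ofNat 1, Int.ofNat 1, Int.negSucc 0, Int.negSucc 0, Int.negSucc 0, Int.ofNat 1, Int.ofNat 3, Int.ofNat 1, Int.ofNat 1, Int.negSucc 0, Int.negSucc 0, Int.negSucc 0, Int.ofNat 1, Int.ofNat 1, Int.negSucc 0, Int.negSucc 0],
  [Int.ofNat 1, Int.ofNat 1, Int.negSucc 0, Int.ofNat 1, Int.ofNat 1, Int.ofNat 1, Int.negSucc 0, Int.ofNat 1, Int.ofNat 1, Int.negSucc 0, Int.negSucc 0, Int.ofNat 1, Int.ofNat 1, Int.negSucc 0, Int.negSucc 0, Int.negSucc 0, Int.ofNat 1, Int.ofNat 3, Int.ofNat 1, Int.ofNat 1, Int.negSucc 0, Int.negSucc 0, Int.negSucc 0, Int.negSucc 0],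
  [Int.negSucc 0, Int.negSucc 0, Int.ofNat 1, Int.negSucc 0, Int.ofNat 1, Int.negSucc 0, Int.negSucc 0, Int.ofNat 1, Int.negSucc 0, Int.ofNat 1, Int.ofNat 1, Int.negSucc 0, Int.negSucc 0, Int.negSucc 0, Int.negSucc 2, Int.ofNat 1, Int.ofNat 1, Int.ofNat 1, Int.negSucc 0, Int.ofNat 1, Int.ofNat 1, Int.negSucc 0, Int.negSucc 0, Int.ofNat 1],
  [Int.negSucc 0, Int.ofNat 1, Int.negSucc 0, Int.ofNat 1, Int.negSucc 0, Int.negSucc 0, Int.ofNat 1, Int.negSucc 0, Int.ofNat 1, Int.ofNat 1, Int.negSucc 0, Int.negSucc 0, Int.negSucc 0, Int.negSucc 2, Int.ofNat 1, Int.ofNat 1, Int.ofNat 1, Int.negSucc 0, Int.ofNat 1, Int.ofNat 1, Int.negSucc 0, Int.negSucc 0, Int.negSucc 0, Int.ofNat 1],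
  [Int.ofNat 1, Int.ofNat 1, Int.ofNat 1, Int.ofNat 1, Int.negSucc 0, Int.negSucc 0, Int.ofNat 1, Int.ofNat 1, Int.ofNat 1, Int.negSucc 0, Int.ofNat 1, Int.ofNat 1, Int.negSucc 0, Int.negSucc 2, Int.ofNat 1, Int.ofNat 1, Int.ofNat 1, Int.negSucc 0, Int.negSucc 0, Int.ofNat 1, Int.negSucc 0, Int.ofNat 1, Int.negSucc 0, Int.ofNat 1],
  [Int.ofNat 1, Int.ofNat 1, Int.negSucc 0, Int.ofNat 1, Int.ofNat 1, Int.ofNat 1, Int.negSucc 0, Int.negSucc 0, Int.negSucc 0, Int.ofNat 1, Int.ofNat 1, Int.ofNat 1, Int.negSucc 2, Int.ofNat 1, Int.ofNat 1, Int.ofNat 1, Int.negSucc 0, Int.negSucc 0, Int.ofNat 1, Int.negSucc 0, Int.negSucc 0, Int.ofNat 1, Int.ofNat 1, Int.ofNat 1],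
  [Int.negSucc 0, Int.ofNat 1, Int.ofNat 1, Int.ofNat 1, Int.ofNat 1, Int.ofNat 1, Int.negSucc 0, Int.ofNat 1, Int.negSucc 0, Int.negSucc 0, Int.negSucc 0, Int.negSucc 0, Int.negSucc 2, Int.ofNat 1, Int.ofNat 1, Int.ofNat 1, Int.negSucc 0, Int.negSucc 0, Int.negSucc 0, Int.negSucc 0, Int.negSucc 0, Int.negSucc 0, Int.ofNat 1, Int.ofNat 1],
  [Int.ofNat 1, Int.negSucc 0, Int.ofNat 1, Int.ofNat 1, Int.ofNat 1, Int.ofNat 1, Int.ofNat 1, Int.negSucc 0, Int.ofNat 1, Int.negSucc 0, Int.negSucc 0, Int.negSucc 0, Int.negSucc 0, Int.negSucc 2, Int.ofNat 1, Int.ofNat 1, Int.ofNat 1, Int.negSucc 0, Int.negSucc 0, Int.negSucc 0, Int.negSucc 0, Int.negSucc 0, Int.negSucc 0, Int.ofNat 1],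
  [Int.ofNat 0, Int.ofNat 2, Int.ofNat 0, Int.ofNat 0, Int.ofNat 2, Int.ofNat 0, Int.ofNat 2, Int.ofNat 0, Int.ofNat 2, Int.ofNat 0, Int.ofNat 0, Int.ofNat 0, Int.ofNat 0, Int.negSucc 1, Int.ofNat 0, Int.ofNat 2, Int.ofNat 2, Int.negSucc 1, Int.ofNat 0, Int.ofNat 0, Int.ofNat 0, Int.ofNat 0, Int.ofNat 0, Int.ofNat 0],
  [Int.ofNat 0, Int.ofNat 2, Int.ofNat 0, Int.ofNat 2, Int.ofNat 0, Int.ofNat 2, Int.ofNat 0, Int.ofNat 0, Int.ofNat 0, Int.ofNat 0, Int.negSucc 1, Int.ofNat 0, Int.ofNat 2, Int.ofNat 2, Int.negSucc 1, Int.ofNat 0, Int.ofNat 0, Int.ofNat 0, Int.ofNat 0, Int.ofNat 0, Int.ofNat 0, Int.ofNat 2, Int.ofNat 0, Int.ofNat 0],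
  [Int.ofNat 1, Int.negSucc 0, Int.ofNat 1, Int.ofNat 1, Int.negSucc 0, Int.ofNat 1, Int.negSucc 0, Int.negSucc 0, Int.negSucc 0, Int.ofNat 1, Int.negSucc 0, Int.negSucc 0, Int.ofNat 1, Int.ofNat 1, Int.negSucc 2, Int.ofNat 1, Int.negSucc 0, Int.negSucc 0, Int.negSucc 0, Int.negSucc 0, Int.ofNat 1, Int.ofNat 1, Int.negSucc 0, Int.ofNat 1],
  [Int.ofNat 1, Int.negSucc 0, Int.negSucc 0, Int.ofNat 1, Int.negSucc 0, Int.negSucc 0, Int.ofNat 1, Int.negSucc 0, Int.ofNat 1, Int.ofNat 1, Int.ofNat 1, Int.negSucc 0, Int.ofNat 1, Int.negSucc 0, Int.negSucc 0, Int.ofNat 1, Int.negSucc 0, Int.negSucc 2, Int.negSucc 0, Int.negSucc 0, Int.ofNat 1, Int.ofNat 1, Int.negSucc 0, Int.ofNat 1],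
  [Int.negSucc 0, Int.ofNat 1, Int.ofNat 1, Int.ofNat 3, Int.ofNat 1, Int.ofNat 1, Int.ofNat 1, Int.negSucc 0, Int.ofNat 1, Int.negSucc 0, Int.negSucc 0, Int.negSucc 0, Int.ofNat 1, Int.ofNat 1, Int.ofNat 1, Int.negSucc 0, Int.ofNat 1, Int.negSucc 0, Int.negSucc 0, Int.negSucc 0, Int.negSucc 0, Int.ofNat 1, Int.ofNat 1, Int.negSucc 0],
  [Int.negSucc 0, Int.ofNat 1, Int.negSucc 0, Int.ofNat 3, Int.ofNat 1, Int.negSucc 0, Int.negSucc 0, Int.negSucc 0, Int.ofNat 1, Int.ofNat 1, Int.ofNat 1, Int.negSucc 0, Int.ofNat 1, Int.ofNat 1, Int.ofNat 1, Int.ofNat 1, Int.ofNat 1, Int.negSucc 0, Int.ofNat 1, Int.negSucc 0, Int.negSucc 0, Int.ofNat 1, Int.negSucc 0, Int.negSucc 0],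
  [Int.ofNat 1, Int.ofNat 1, Int.negSucc 0, Int.ofNat 1, Int.ofNat 1, Int.negSucc 0, Int.ofNat 1, Int.ofNat 3, Int.negSucc 0, Int.negSucc 0, Int.ofNat 1, Int.negSucc 0, Int.ofNat 1, Int.ofNat 1, Int.negSucc 0, Int.ofNat 1, Int.negSucc 0, Int.ofNat 1, Int.ofNat 1, Int.negSucc 0, Int.negSucc 0, Int.ofNat 1, Int.negSucc 0, Int.negSucc 0],
  [Int.negSucc 0, Int.negSucc 0, Int.ofNat 1, Int.negSucc 0, Int.negSucc 0, Int.negSucc 0, Int.negSucc 0, Int.ofNat 3, Int.ofNat 1, Int.ofNat 1, Int.ofNat 1, Int.negSucc 0, Int.negSucc 0, Int.negSucc 0, Int.negSucc 0, Int.ofNat 1, Int.ofNat 1, Int.ofNat 1, Int.negSucc 0, Int.negSucc 0, Int.negSucc 0, Int.ofNat 1, Int.negSucc 0, Int.negSucc 0],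
  [Int.negSucc 0, Int.negSucc 0, Int.negSucc 0, Int.ofNat 1, Int.ofNat 1, Int.ofNat 1, Int.negSucc 0, Int.negSucc 0, Int.negSucc 0, Int.negSucc 0, Int.ofNat 1, Int.ofNat 1, Int.ofNat 1, Int.ofNat 3, Int.negSucc 0, Int.negSucc 0, Int.ofNat 1, Int.negSucc 0, Int.negSucc 0, Int.negSucc 0, Int.ofNat 1, Int.negSucc 0, Int.negSucc 0, Int.negSucc 0],
  [Int.ofNat 1, Int.negSucc 0, Int.ofNat 1, Int.ofNat 1, Int.ofNat 1, Int.ofNat 1, Int.negSucc 0, Int.ofNat 1, Int.negSucc 0, Int.ofNat 1, Int.negSucc 0, Int.negSucc 0, Int.ofNat 1, Int.ofNat 3, Int.negSucc 0, Int.negSucc 0, Int.ofNat 1, Int.negSucc 0, Int.ofNat 1, Int.negSucc 0, Int.ofNat 1, Int.ofNat 1, Int.negSucc 0, Int.negSucc 0],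
  [Int.negSucc 0, Int.ofNat 1, Int.negSucc 0, Int.ofNat 1, Int.ofNat 1, Int.ofNat 1, Int.ofNat 1, Int.negSucc 0, Int.ofNat 1, Int.negSucc 0, Int.ofNat 1, Int.negSucc 0, Int.negSucc 0, Int.ofNat 1, Int.ofNat 3, Int.negSucc 0, Int.negSucc 0, Int.ofNat 1, Int.negSucc 0, Int.ofNat 1, Int.negSucc 0, Int.ofNat 1, Int.ofNat 1, Int.negSucc 0],
  [Int.ofNat 0, Int.negSucc 1, Int.ofNat 0, Int.negSucc 1, Int.ofNat 0, Int.negSucc 1, Int.ofNat 0, Int.negSucc 1, Int.ofNat 2, Int.ofNat 0, Int.ofNat 2, Int.ofNat 0, Int.ofNat 0, Int.ofNat 0, Int.ofNat 0, Int.ofNat 0, Int.negSucc 1, Int.negSucc 1, Int.ofNat 0, Int.ofNat 0, Int.ofNat 0, Int.ofNat 0, Int.ofNat 0, Int.ofNat 0],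
  [Int.negSucc 1, Int.ofNat 0, Int.negSucc 1, Int.ofNat 0, Int.negSucc 1, Int.ofNat 2, Int.ofNat 0, Int.ofNat 2, Int.ofNat 0, Int.ofNat 0, Int.ofNat 0, Int.ofNat 0, Int.ofNat 0, Int.negSucc 1, Int.negSucc 1, Int.ofNat 0, Int.ofNat 0, Int.ofNat 0, Int.ofNat 0, Int.ofNat 0, Int.ofNat 0, Int.negSucc 1, Int.ofNat 0, Int.ofNat 0],
  [Int.ofNat 0, Int.negSucc 1, Int.ofNat 0, Int.ofNat 0, Int.ofNat 0, Int.ofNat 2, Int.ofNat 0, Int.ofNat 2, Int.ofNat 0, Int.ofNat 0, Int.ofNat 0, Int.ofNat 0, Int.ofNat 0, Int.ofNat 0, Int.negSucc 1, Int.ofNat 0, Int.ofNat 2, Int.ofNat 0, Int.ofNat 0, Int.ofNat 0, Int.ofNat 0, Int.negSucc 1, Int.ofNat 2, Int.negSucc 1],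
  [Int.ofNat 0, Int.ofNat 0, Int.ofNat 0, Int.ofNat 0, Int.ofNat 0, Int.ofNat 2, Int.ofNat 0, Int.ofNat 0, Int.ofNat 0, Int.ofNat 0, Int.ofNat 0, Int.ofNat 0, Int.ofNat 0, Int.ofNat 2, Int.ofNat 2, Int.ofNat 0, Int.ofNat 0, Int.negSucc 1, Int.negSucc 1, Int.ofNat 0, Int.negSucc 1, Int.ofNat 2, Int.ofNat 0, Int.negSucc 1],
  [Int.negSucc 0, Int.negSucc 0, Int.negSucc 0, Int.negSucc 0, Int.negSucc 0, Int.ofNat 1, Int.negSucc 0, Int.negSucc 0, Int.ofNat 1, Int.ofNat 1, Int.ofNat 1, Int.ofNat 1, Int.ofNat 1, Int.ofNat 1, Int.ofNat 1, Int.ofNat 1, Int.negSucc 0, Int.negSucc 2, Int.negSucc 0, Int.negSucc 0, Int.negSucc 0, Int.ofNat 1, Int.negSucc 0, Int.ofNat 1],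
  [Int.negSucc 0, Int.negSucc 0, Int.ofNat 1, Int.negSucc 0, Int.negSucc 0, Int.negSucc 0, Int.ofNat 1, Int.negSucc 0, Int.ofNat 1, Int.negSucc 0, Int.negSucc 0, Int.ofNat 1, Int.ofNat 1, Int.ofNat 1, Int.ofNat 1, Int.negSucc 0, Int.negSucc 0, Int.negSucc 2, Int.ofNat 1, Int.negSucc 0, Int.negSucc 0, Int.ofNat 1, Int.ofNat 1, Int.ofNat 1],
  [Int.negSucc 0, Int.ofNat 1, Int.negSucc 0, Int.negSucc 0, Int.negSucc 2, Int.negSucc 0, Int.ofNat 1, Int.negSucc 0, Int.ofNat 1, Int.ofNat 1, Int.negSucc 0, Int.ofNat 1, Int.negSucc 0, Int.negSucc 0, Int.ofNat 1, Int.negSucc 0, Int.ofNat 1, Int.ofNat 1, Int.negSucc 0, Int.ofNat 1, Int.ofNat 1, Int.negSucc 0, Int.negSucc 0, Int.ofNat 1],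
  [Int.negSucc 0, Int.ofNat 1, Int.ofNat 1, Int.negSucc 0, Int.negSucc 2, Int.ofNat 1, Int.negSucc 0, Int.negSucc 0, Int.ofNat 1, Int.negSucc 0, Int.ofNat 1, Int.ofNat 1, Int.negSucc 0, Int.negSucc 0, Int.ofNat 1, Int.ofNat 1, Int.ofNat 1, Int.ofNat 1, Int.ofNat 1, Int.ofNat 1, Int.ofNat 1, Int.negSucc 0, Int.ofNat 1, Int.ofNat 1],
  [Int.ofNat 2, Int.ofNat 0, Int.ofNat 0, Int.negSucc 1, Int.negSucc 1, Int.ofNat 0, Int.ofNat 0, Int.ofNat 0, Int.ofNat 0, Int.negSucc 1, Int.ofNat 0, Int.ofNat 0, Int.negSucc 1, Int.ofNat 0, Int.ofNat 0, Int.ofNat 0, Int.ofNat 2, Int.ofNat 0, Int.ofNat 0, Int.ofNat 2, Int.ofNat 0, Int.ofNat 0, Int.ofNat 2, Int.ofNat 0],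
  [Int.ofNat 2, Int.ofNat 0, Int.ofNat 0, Int.negSucc 1, Int.ofNat 0, Int.ofNat 0, Int.ofNat 0, Int.ofNat 0, Int.ofNat 2, Int.negSucc 1, Int.ofNat 0, Int.ofNat 2, Int.ofNat 0, Int.negSucc 1, Int.ofNat 0, Int.ofNat 0, Int.ofNat 0, Int.ofNat 0, Int.negSucc 1, Int.ofNat 2, Int.ofNat 0, Int.ofNat 0, Int.ofNat 0, Int.ofNat 0],
  [Int.negSucc 0, Int.ofNat 1, Int.ofNat 1, Int.negSucc 0, Int.ofNat 1, Int.ofNat 1, Int.negSucc 0, Int.negSucc 0, Int.ofNat 1, Int.negSucc 0, Int.ofNat 1, Int.ofNat 1, Int.negSucc 0, Int.negSucc 0, Int.ofNat 1, Int.ofNat 1, Int.ofNat 1, Int.ofNat 1, Int.negSucc 2, Int.ofNat 1, Int.ofNat 1, Int.negSucc 0, Int.ofNat 1, Int.ofNat 1],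
  [Int.ofNat 1, Int.negSucc 0, Int.ofNat 1, Int.negSucc 0, Int.ofNat 1, Int.ofNat 1, Int.negSucc 0, Int.ofNat 1, Int.ofNat 1, Int.negSucc 0, Int.negSucc 0, Int.ofNat 1, Int.negSucc 0, Int.ofNat 1, Int.ofNat 1, Int.negSucc 0, Int.negSucc 0, Int.ofNat 1, Int.ofNat 1, Int.ofNat 1, Int.ofNat 1, Int.negSucc 2, Int.ofNat 1, Int.ofNat 1],
  [Int.ofNat 0, Int.ofNat 2, Int.ofNat 0, Int.negSucc 1, Int.ofNat 0, Int.ofNat 0, Int.ofNat 0, Int.ofNat 2, Int.ofNat 0, Int.ofNat 0, Int.ofNat 0, Int.ofNat 0, Int.negSucc 1, Int.ofNat 0, Int.ofNat 0, Int.ofNat 0, Int.negSucc 1, Int.ofNat 0, Int.ofNat 0, Int.ofNat 2, Int.ofNat 2, Int.negSucc 1, Int.ofNat 0, Int.ofNat 0],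
  [Int.ofNat 2, Int.ofNat 0, Int.negSucc 1, Int.ofNat 0, Int.ofNat 0, Int.ofNat 0, Int.ofNat 2, Int.ofNat 0, Int.ofNat 0, Int.ofNat 0, Int.ofNat 0, Int.negSucc 1, Int.ofNat 0, Int.ofNat 0, Int.ofNat 0, Int.negSucc 1, Int.ofNat 0, Int.ofNat 0, Int.ofNat 2, Int.ofNat 2, Int.negSucc 1, Int.ofNat 0, Int.ofNat 0, Int.ofNat 0],
  [Int.negSucc 1, Int.ofNat 0, Int.ofNat 2, Int.ofNat 0, Int.ofNat 0, Int.ofNat 0, Int.ofNat 2, Int.ofNat 0, Int.ofNat 0, Int.ofNat 0, Int.ofNat 0, Int.ofNat 2, Int.ofNat 0, Int.ofNat 0, Int.ofNat 0, Int.negSucc 1, Int.ofNat 0, Int.ofNat 0, Int.negSucc 1, Int.ofNat 2, Int.negSucc 1, Int.ofNat 0, Int.ofNat 0, Int.ofNat 0],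
  [Int.negSucc 1, Int.ofNat 2, Int.negSucc 1, Int.ofNat 0, Int.ofNat 0, Int.ofNat 0, Int.ofNat 0, Int.negSucc 1, Int.ofNat 0, Int.ofNat 0, Int.ofNat 0, Int.ofNat 0, Int.ofNat 0, Int.ofNat 0, Int.ofNat 2, Int.negSucc 1, Int.ofNat 0, Int.ofNat 0, Int.ofNat 2, Int.ofNat 0, Int.ofNat 0, Int.ofNat 0, Int.ofNat 2, Int.ofNat 0],
  [Int.ofNat 2, Int.ofNat 2, Int.ofNat 2, Int.ofNat 0, Int.ofNat 0, Int.ofNat 0, Int.ofNat 0, Int.ofNat 2, Int.ofNat 0, Int.ofNat 0, Int.ofNat 0, Int.ofNat 0, Int.ofNat 0, Int.ofNat 0, Int.ofNat 2, Int.negSucc 1, Int.ofNat 0, Int.ofNat 0, Int.negSucc 1, Int.ofNat 0, Int.ofNat 0, Int.ofNat 0, Int.ofNat 2, Int.ofNat 0],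
  [Int.ofNat 2, Int.ofNat 2, Int.ofNat 2, Int.ofNat 2, Int.ofNat 0, Int.ofNat 0, Int.ofNat 0, Int.ofNat 0, Int.ofNat 2, Int.ofNat 0, Int.ofNat 0, Int.ofNat 0, Int.ofNat 0, Int.ofNat 0, Int.ofNat 0, Int.ofNat 2, Int.negSucc 1, Int.ofNat 0, Int.ofNat 0, Int.negSucc 1, Int.ofNat 0, Int.ofNat 0, Int.ofNat 0, Int.ofNat 0],
  [Int.ofNat 1, Int.ofNat 1, Int.ofNat 1, Int.ofNat 1, Int.ofNat 1, Int.negSucc 0, Int.ofNat 1, Int.ofNat 1, Int.ofNat 1, Int.negSucc 0, Int.negSucc 0, Int.negSucc 0, Int.negSucc 0, Int.ofNat 1, Int.negSucc 0, Int.ofNat 1, Int.negSucc 0, Int.negSucc 0, Int.negSucc 0, Int.negSucc 0, Int.negSucc 0, Int.ofNat 1, Int.ofNat 1, Int.ofNat 3],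
  [Int.ofNat 1, Int.ofNat 1, Int.negSucc 0, Int.ofNat 1, Int.ofNat 1, Int.ofNat 1, Int.negSucc 0, Int.negSucc 0, Int.negSucc 0, Int.negSucc 0, Int.ofNat 1, Int.negSucc 0, Int.ofNat 1, Int.negSucc 0, Int.negSucc 0, Int.negSucc 0, Int.negSucc 0, Int.negSucc 0, Int.ofNat 1, Int.ofNat 1, Int.ofNat 1, Int.ofNat 1, Int.ofNat 1, Int.ofNat 3],
  [Int.ofNat 1, Int.ofNat 1, Int.ofNat 3, Int.ofNat 1, Int.ofNat 1, Int.ofNat 1, Int.negSucc 0, Int.negSucc 0, Int.negSucc 0, Int.negSucc 0, Int.ofNat 1, Int.negSucc 0, Int.ofNat 1, Int.negSucc 0, Int.negSucc 0, Int.negSucc 0, Int.negSucc 0, Int.negSucc 0, Int.ofNat 1, Int.ofNat 1, Int.ofNat 1, Int.ofNat 1, Int.ofNat 1, Int.negSucc 0],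
  [Int.ofNat 1, Int.negSucc 0, Int.ofNat 1, Int.ofNat 1, Int.ofNat 1, Int.negSucc 0, Int.ofNat 3, Int.ofNat 1, Int.ofNat 1, Int.negSucc 0, Int.ofNat 1, Int.negSucc 0, Int.negSucc 0, Int.negSucc 0, Int.ofNat 1, Int.negSucc 0, Int.negSucc 0, Int.negSucc 0, Int.ofNat 1, Int.negSucc 0, Int.ofNat 1, Int.ofNat 1, Int.ofNat 1, Int.negSucc 0],
  [Int.negSucc 0, Int.ofNat 1, Int.negSucc 0, Int.ofNat 1, Int.ofNat 1, Int.negSucc 0, Int.ofNat 1, Int.negSucc 0, Int.ofNat 1, Int.negSucc 0, Int.ofNat 1, Int.negSucc 0, Int.negSucc 0, Int.negSucc 0, Int.ofNat 1, Int.negSucc 0, Int.negSucc 0, Int.negSucc 0, Int.ofNat 1, Int.negSucc 2, Int.ofNat 1, Int.negSucc 0, Int.ofNat 1, Int.ofNat 1],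
  [Int.negSucc 0, Int.ofNat 1, Int.ofNat 1, Int.ofNat 1, Int.ofNat 1, Int.ofNat 1, Int.negSucc 0, Int.negSucc 0, Int.ofNat 1, Int.ofNat 1, Int.negSucc 0, Int.negSucc 0, Int.negSucc 0, Int.negSucc 0, Int.ofNat 1, Int.ofNat 1, Int.negSucc 0, Int.negSucc 0, Int.negSucc 0, Int.negSucc 2, Int.ofNat 1, Int.negSucc 0, Int.negSucc 0, Int.ofNat 1],
  [Int.negSucc 0, Int.negSucc 0, Int.negSucc 0, Int.ofNat 1, Int.ofNat 1, Int.negSucc 0, Int.negSucc 0, Int.ofNat 1, Int.ofNat 1, Int.ofNat 1, Int.negSucc 0, Int.negSucc 0, Int.ofNat 1, Int.ofNat 1, Int.negSucc 0, Int.negSucc 0, Int.negSucc 2, Int.negSucc 0, Int.ofNat 1, Int.ofNat 1, Int.negSucc 0, Int.ofNat 1, Int.negSucc 0, Int.ofNat 1],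
  [Int.ofNat 1, Int.ofNat 1, Int.ofNat 1, Int.negSucc 0, Int.negSucc 0, Int.negSucc 0, Int.ofNat 1, Int.ofNat 1, Int.negSucc 0, Int.negSucc 0, Int.negSucc 0, Int.negSucc 0, Int.negSucc 0, Int.negSucc 0, Int.negSucc 0, Int.negSucc 0, Int.ofNat 3, Int.negSucc 0, Int.negSucc 0, Int.ofNat 1, Int.negSucc 0, Int.ofNat 1, Int.negSucc 0, Int.ofNat 1],
  [Int.ofNat 1, Int.negSucc 0, Int.negSucc 0, Int.negSucc 0, Int.negSucc 0, Int.negSucc 0, Int.ofNat 1, Int.negSucc 0, Int.negSucc 0, Int.negSucc 0, Int.ofNat 3, Int.ofNat 1, Int.ofNat 1, Int.ofNat 1, Int.negSucc 0, Int.negSucc 0, Int.negSucc 0, Int.negSucc 0, Int.negSucc 0, Int.ofNat 1, Int.negSucc 0, Int.negSucc 0, Int.ofNat 1, Int.ofNat 1],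
  [Int.negSucc 0, Int.negSucc 0, Int.ofNat 1, Int.negSucc 0, Int.negSucc 0, Int.negSucc 0, Int.ofNat 1, Int.ofNat 1, Int.negSucc 0, Int.ofNat 1, Int.negSucc 2, Int.negSucc 0, Int.ofNat 1, Int.ofNat 1, Int.negSucc 0, Int.negSucc 0, Int.negSucc 0, Int.negSucc 0, Int.ofNat 1, Int.ofNat 1, Int.negSucc 0, Int.ofNat 1, Int.ofNat 1, Int.ofNat 1],
  [Int.ofNat 1, Int.negSucc 0, Int.negSucc 0, Int.ofNat 1, Int.negSucc 0, Int.negSucc 0, Int.negSucc 0, Int.ofNat 1, Int.ofNat 1, Int.negSucc 0, Int.ofNat 1, Int.negSucc 2, Int.negSucc 0, Int.ofNat 1, Int.ofNat 1, Int.negSucc 0, Int.negSucc 0, Int.negSucc 0, Int.negSucc 0, Int.ofNat 1, Int.ofNat 1, Int.negSucc 0, Int.ofNat 1, Int.ofNat 1],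
  [Int.negSucc 0, Int.ofNat 1, Int.ofNat 1, Int.ofNat 1, Int.negSucc 0, Int.negSucc 0, Int.negSucc 0, Int.ofNat 1, Int.ofNat 3, Int.negSucc 0, Int.ofNat 1, Int.negSucc 0, Int.ofNat 1, Int.ofNat 1, Int.ofNat 1, Int.negSucc 0, Int.negSucc 0, Int.negSucc 0, Int.ofNat 1, Int.ofNat 1, Int.ofNat 1, Int.negSucc 0, Int.ofNat 1, Int.negSucc 0],
  [Int.ofNat 1, Int.negSucc 0, Int.negSucc 0, Int.negSucc 0, Int.ofNat 1, Int.ofNat 3, Int.negSucc 0, Int.ofNat 1, Int.negSucc 0, Int.ofNat 1, Int.ofNat 1, Int.ofNat 1, Int.negSucc 0, Int.negSucc 0, Int.negSucc 0, Int.ofNat 1, Int.ofNat 1, Int.ofNat 1, Int.negSucc 0, Int.ofNat 1, Int.negSucc 0, Int.ofNat 1, Int.ofNat 1, Int.negSucc 0],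
  [Int.negSucc 1, Int.ofNat 0, Int.ofNat 0, Int.negSucc 1, Int.ofNat 0, Int.ofNat 2, Int.negSucc 1, Int.ofNat 0, Int.ofNat 0, Int.ofNat 0, Int.ofNat 0, Int.ofNat 2, Int.ofNat 0, Int.negSucc 1, Int.negSucc 1, Int.ofNat 0, Int.ofNat 0, Int.ofNat 0, Int.ofNat 0, Int.ofNat 0, Int.negSucc 1, Int.ofNat 0, Int.ofNat 0, Int.ofNat 0],
  [Int.negSucc 1, Int.negSucc 1, Int.ofNat 0, Int.negSucc 1, Int.ofNat 0, Int.ofNat 0, Int.ofNat 0, Int.ofNat 0, Int.ofNat 0, Int.negSucc 1, Int.negSucc 1, Int.ofNat 0, Int.ofNat 0, Int.ofNat 0, Int.ofNat 0, Int.ofNat 0, Int.ofNat 0, Int.negSucc 1, Int.ofNat 0, Int.ofNat 2, Int.ofNat 0, Int.ofNat 2, Int.ofNat 0, Int.ofNat 0],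
  [Int.ofNat 0, Int.ofNat 0, Int.negSucc 1, Int.ofNat 0, Int.ofNat 0, Int.ofNat 2, Int.negSucc 1, Int.negSucc 1, Int.ofNat 0, Int.ofNat 0, Int.ofNat 0, Int.ofNat 0, Int.ofNat 0, Int.ofNat 0, Int.ofNat 2, Int.ofNat 2, Int.ofNat 0, Int.ofNat 0, Int.ofNat 0, Int.ofNat 0, Int.ofNat 2, Int.ofNat 0, Int.ofNat 0, Int.negSucc 1],
  [Int.ofNat 0, Int.ofNat 0, Int.ofNat 2, Int.ofNat 0, Int.ofNat 0, Int.negSucc 1, Int.ofNat 2, Int.negSucc 1, Int.ofNat 0, Int.ofNat 0, Int.ofNat 0, Int.ofNat 0, Int.ofNat 0, Int.ofNat 0, Int.ofNat 2, Int.negSucc 1, Int.ofNat 0, Int.ofNat 0, Int.ofNat 0, Int.ofNat 0, Int.ofNat 2, Int.ofNat 0, Int.ofNat 0, Int.negSucc 1],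
  [Int.ofNat 0, Int.ofNat 0, Int.ofNat 0, Int.negSucc 1, Int.ofNat 0, Int.ofNat 2, Int.ofNat 0, Int.negSucc 1, Int.ofNat 2, Int.ofNat 2, Int.ofNat 0, Int.ofNat 0, Int.ofNat 0, Int.negSucc 1, Int.ofNat 2, Int.ofNat 0, Int.ofNat 0, Int.ofNat 0, Int.ofNat 0, Int.ofNat 0, Int.ofNat 0, Int.ofNat 0, Int.ofNat 0, Int.negSucc 1],
  [Int.ofNat 0, Int.ofNat 0, Int.ofNat 0, Int.negSucc 1, Int.ofNat 0, Int.negSucc 1, Int.ofNat 0, Int.negSucc 1, Int.ofNat 2, Int.negSucc 1, Int.ofNat 0, Int.ofNat 0, Int.ofNat 0, Int.negSucc 1, Int.ofNat 2, Int.ofNat 0, Int.ofNat 0, Int.ofNat 0, Int.ofNat 0, Int.ofNat 0, Int.ofNat 0, Int.ofNat 0, Int.ofNat 0, Int.negSucc 1],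
  [Int.negSucc 0, Int.negSucc 0, Int.negSucc 0, Int.negSucc 0, Int.ofNat 1, Int.negSucc 0, Int.ofNat 1, Int.negSucc 0, Int.ofNat 1, Int.negSucc 0, Int.ofNat 1, Int.negSucc 0, Int.negSucc 0, Int.negSucc 0, Int.ofNat 3, Int.ofNat 1, Int.ofNat 1, Int.ofNat 1, Int.negSucc 0, Int.ofNat 1, Int.ofNat 1, Int.ofNat 1, Int.ofNat 1, Int.ofNat 1],
  [Int.negSucc 0, Int.negSucc 0, Int.ofNat 1, Int.negSucc 0, Int.negSucc 0, Int.ofNat 1, Int.negSucc 0, Int.negSucc 0, Int.ofNat 1, Int.negSucc 0, Int.negSucc 0, Int.ofNat 1, Int.ofNat 1, Int.negSucc 0, Int.ofNat 1, Int.ofNat 1, Int.negSucc 0, Int.negSucc 0, Int.ofNat 1, Int.ofNat 1, Int.ofNat 1, Int.ofNat 1, Int.ofNat 3, Int.ofNat 1],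
  [Int.ofNat 1, Int.ofNat 1, Int.negSucc 0, Int.negSucc 0, Int.negSucc 0, Int.ofNat 1, Int.negSucc 0, Int.negSucc 0, Int.negSucc 0, Int.negSucc 0, Int.negSucc 0, Int.negSucc 0, Int.negSucc 0, Int.negSucc 0, Int.ofNat 1, Int.ofNat 1, Int.negSucc 0, Int.negSucc 0, Int.negSucc 0, Int.ofNat 1, Int.ofNat 1, Int.ofNat 1, Int.ofNat 3, Int.negSucc 0],
  [Int.ofNat 1, Int.ofNat 1, Int.ofNat 3, Int.ofNat 1, Int.ofNat 1, Int.negSucc 0, Int.negSucc 0, Int.negSucc 0, Int.ofNat 1, Int.negSucc 0, Int.negSucc 0, Int.negSucc 0, Int.negSucc 0, Int.negSucc 0, Int.negSucc 0, Int.negSucc 0, Int.negSucc 0, Int.ofNat 1, Int.ofNat 1, Int.negSucc 0, Int.negSucc 0, Int.negSucc 0, Int.ofNat 1, Int.negSucc 0],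
  [Int.ofNat 1, Int.ofNat 1, Int.negSucc 0, Int.ofNat 1, Int.ofNat 1, Int.negSucc 0, Int.ofNat 1, Int.ofNat 1, Int.ofNat 1, Int.ofNat 1, Int.ofNat 1, Int.negSucc 0, Int.negSucc 0, Int.negSucc 0, Int.negSucc 0, Int.ofNat 1, Int.negSucc 0, Int.ofNat 1, Int.ofNat 1, Int.ofNat 1, Int.ofNat 1, Int.ofNat 1, Int.ofNat 1, Int.ofNat 3],
  [Int.ofNat 1, Int.negSucc 0, Int.ofNat 1, Int.ofNat 1, Int.negSucc 0, Int.ofNat 1, Int.ofNat 1, Int.ofNat 1, Int.ofNat 1, Int.ofNat 1, Int.negSucc 0, Int.negSucc 0, Int.negSucc 0, Int.negSucc 0, Int.ofNat 1, Int.negSucc 0, Int.ofNat 1, Int.ofNat 1, Int.ofNat 1, Int.ofNat 1, Int.ofNat 1, Int.ofNat 1, Int.ofNat 1, Int.ofNat 3],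
  [Int.negSucc 0, Int.negSucc 0, Int.negSucc 0, Int.ofNat 1, Int.negSucc 0, Int.ofNat 1, Int.ofNat 1, Int.negSucc 0, Int.ofNat 1, Int.negSucc 0, Int.ofNat 1, Int.ofNat 1, Int.negSucc 0, Int.negSucc 0, Int.ofNat 1, Int.negSucc 0, Int.ofNat 1, Int.ofNat 1, Int.negSucc 0, Int.ofNat 1, Int.ofNat 1, Int.negSucc 0, Int.ofNat 1, Int.ofNat 3],
  [Int.negSucc 0, Int.negSucc 0, Int.negSucc 0, Int.ofNat 1, Int.negSucc 0, Int.ofNat 1, Int.negSucc 0, Int.ofNat 1, Int.negSucc 0, Int.ofNat 1, Int.negSucc 0, Int.ofNat 1, Int.negSucc 0, Int.ofNat 1, Int.ofNat 1, Int.negSucc 0, Int.negSucc 0, Int.ofNat 1, Int.ofNat 1, Int.ofNat 1, Int.ofNat 1, Int.negSucc 0, Int.ofNat 1, Int.ofNat 3],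
  [Int.ofNat 1, Int.negSucc 0, Int.ofNat 1, Int.ofNat 1, Int.negSucc 0, Int.ofNat 1, Int.negSucc 0, Int.negSucc 0, Int.negSucc 0, Int.negSucc 0, Int.ofNat 1, Int.negSucc 0, Int.negSucc 0, Int.ofNat 1, Int.ofNat 1, Int.negSucc 0, Int.negSucc 0, Int.ofNat 1, Int.negSucc 0, Int.ofNat 1, Int.ofNat 1, Int.ofNat 1, Int.ofNat 1, Int.ofNat 3],
  [Int.ofNat 1, Int.ofNat 1, Int.negSucc 0, Int.ofNat 1, Int.ofNat 1, Int.negSucc 0, Int.ofNat 1, Int.negSucc 0, Int.negSucc 0, Int.negSucc 0, Int.negSucc 0, Int.ofNat 1, Int.negSucc 0, Int.negSucc 0, Int.ofNat 1, Int.ofNat 1, Int.negSucc 0, Int.negSucc 0, Int.ofNat 1, Int.negSucc 0, Int.ofNat 1, Int.ofNat 1, Int.ofNat 1, Int.ofNat 3],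
  [Int.ofNat 1, Int.ofNat 1, Int.ofNat 3, Int.ofNat 1, Int.ofNat 1, Int.negSucc 0, Int.ofNat 1, Int.negSucc 0, Int.negSucc 0, Int.negSucc 0, Int.negSucc 0, Int.ofNat 1, Int.negSucc 0, Int.negSucc 0, Int.ofNat 1, Int.ofNat 1, Int.negSucc 0, Int.negSucc 0, Int.ofNat 1, Int.negSucc 0, Int.ofNat 1, Int.ofNat 1, Int.ofNat 1, Int.negSucc 0],
  [Int.ofNat 1, Int.ofNat 1, Int.negSucc 0, Int.ofNat 1, Int.negSucc 0, Int.negSucc 0, Int.negSucc 0, Int.negSucc 0, Int.ofNat 1, Int.negSucc 0, Int.negSucc 0, Int.ofNat 1, Int.ofNat 1, Int.negSucc 0, Int.negSucc 0, Int.ofNat 1, Int.negSucc 0, Int.ofNat 1, Int.ofNat 1, Int.ofNat 1, Int.ofNat 1, Int.ofNat 1, Int.ofNat 3, Int.negSucc 0],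
  [Int.negSucc 0, Int.negSucc 0, Int.ofNat 1, Int.ofNat 1, Int.negSucc 0, Int.negSucc 0, Int.negSucc 0, Int.negSucc 0, Int.negSucc 0, Int.negSucc 0, Int.negSucc 0, Int.negSucc 0, Int.negSucc 0, Int.negSucc 0, Int.negSucc 0, Int.ofNat 1, Int.negSucc 0, Int.ofNat 1, Int.negSucc 0, Int.ofNat 1, Int.ofNat 1, Int.ofNat 1, Int.ofNat 3, Int.ofNat 1],
  [Int.negSucc 0, Int.negSucc 0, Int.negSucc 0, Int.ofNat 1, Int.negSucc 0, Int.negSucc 0, Int.ofNat 1, Int.negSucc 0, Int.negSucc 0, Int.negSucc 0, Int.ofNat 1, Int.ofNat 1, Int.negSucc 0, Int.negSucc 0, Int.ofNat 3, Int.ofNat 1, Int.negSucc 0, Int.negSucc 0, Int.negSucc 0, Int.negSucc 0, Int.ofNat 1, Int.negSucc 0, Int.ofNat 1, Int.ofNat 1],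
  [Int.ofNat 0, Int.ofNat 0, Int.ofNat 0, Int.ofNat 0, Int.ofNat 0, Int.negSucc 1, Int.ofNat 2, Int.ofNat 0, Int.ofNat 0, Int.negSucc 1, Int.ofNat 0, Int.ofNat 2, Int.ofNat 0, Int.ofNat 0, Int.ofNat 2, Int.ofNat 0, Int.ofNat 0, Int.negSucc 1, Int.ofNat 0, Int.ofNat 0, Int.ofNat 0, Int.ofNat 0, Int.ofNat 2, Int.negSucc 1],
  [Int.ofNat 0, Int.ofNat 0, Int.ofNat 0, Int.ofNat 0, Int.ofNat 0, Int.ofNat 2, Int.negSucc 1, Int.ofNat 0, Int.ofNat 0, Int.ofNat 2, Int.ofNat 0, Int.ofNat 2, Int.ofNat 0, Int.ofNat 0, Int.ofNat 2, Int.ofNat 0, Int.ofNat 0, Int.negSucc 1, Int.ofNat 0, Int.ofNat 0, Int.ofNat 0, Int.ofNat 0, Int.negSucc 1, Int.negSucc 1],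
  [Int.ofNat 0, Int.ofNat 0, Int.ofNat 2, Int.ofNat 0, Int.ofNat 2, Int.negSucc 1, Int.ofNat 0, Int.ofNat 0, Int.ofNat 2, Int.ofNat 0, Int.ofNat 0, Int.ofNat 0, Int.ofNat 0, Int.ofNat 0, Int.negSucc 1, Int.ofNat 0, Int.ofNat 0, Int.ofNat 0, Int.ofNat 2, Int.ofNat 0, Int.ofNat 0, Int.ofNat 0, Int.negSucc 1, Int.negSucc 1],
  [Int.ofNat 0, Int.ofNat 0, Int.negSucc 1, Int.ofNat 0, Int.negSucc 1, Int.negSucc 1, Int.ofNat 0, Int.ofNat 0, Int.negSucc 1, Int.ofNat 0, Int.ofNat 0, Int.ofNat 0, Int.ofNat 0, Int.ofNat 0, Int.negSucc 1, Int.ofNat 0, Int.ofNat 0, Int.ofNat 0, Int.negSucc 1, Int.ofNat 0, Int.ofNat 0, Int.ofNat 0, Int.negSucc 1, Int.negSucc 1],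
  [Int.negSucc 1, Int.negSucc 1, Int.ofNat 0, Int.ofNat 0, Int.ofNat 0, Int.ofNat 0, Int.ofNat 0, Int.ofNat 0, Int.ofNat 0, Int.negSucc 1, Int.ofNat 0, Int.negSucc 1, Int.ofNat 0, Int.ofNat 0, Int.negSucc 1, Int.ofNat 0, Int.ofNat 0, Int.negSucc 1, Int.negSucc 1, Int.ofNat 0, Int.negSucc 1, Int.ofNat 0, Int.ofNat 0, Int.ofNat 0],
  [Int.ofNat 2, Int.negSucc 1, Int.ofNat 0, Int.ofNat 0, Int.ofNat 0, Int.ofNat 0, Int.ofNat 0, Int.ofNat 0, Int.ofNat 0, Int.ofNat 2, Int.ofNat 0, Int.ofNat 2, Int.ofNat 0, Int.ofNat 0, Int.negSucc 1, Int.ofNat 0, Int.ofNat 0, Int.negSucc 1, Int.ofNat 2, Int.ofNat 0, Int.negSucc 1, Int.ofNat 0, Int.ofNat 0, Int.ofNat 0],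
  [Int.ofNat 0, Int.ofNat 2, Int.negSucc 1, Int.ofNat 0, Int.ofNat 0, Int.ofNat 0, Int.ofNat 0, Int.ofNat 0, Int.ofNat 0, Int.ofNat 0, Int.ofNat 2, Int.ofNat 0, Int.ofNat 2, Int.ofNat 0, Int.ofNat 0, Int.negSucc 1, Int.ofNat 0, Int.ofNat 0, Int.negSucc 1, Int.ofNat 2, Int.ofNat 0, Int.negSucc 1, Int.ofNat 0, Int.ofNat 0],
  [Int.ofNat 0, Int.negSucc 1, Int.ofNat 2, Int.ofNat 0, Int.ofNat 0, Int.ofNat 0, Int.ofNat 0, Int.ofNat 0, Int.ofNat 0, Int.ofNat 0, Int.ofNat 2, Int.ofNat 0, Int.ofNat 2, Int.ofNat 0, Int.ofNat 0, Int.negSucc 1, Int.ofNat 0, Int.ofNat 0, Int.negSucc 1, Int.ofNat 2, Int.ofNat 0, Int.negSucc 1, Int.ofNat 0, Int.ofNat 0],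
  [Int.ofNat 0, Int.ofNat 0, Int.ofNat 0, Int.ofNat 0, Int.ofNat 0, Int.ofNat 0, Int.ofNat 0, Int.ofNat 2, Int.ofNat 0, Int.ofNat 2, Int.ofNat 0, Int.ofNat 0, Int.negSucc 1, Int.ofNat 0, Int.ofNat 0, Int.negSucc 1, Int.ofNat 2, Int.ofNat 0, Int.negSucc 1, Int.ofNat 0, Int.ofNat 0, Int.negSucc 1, Int.ofNat 2, Int.ofNat 0],
  [Int.ofNat 0, Int.ofNat 0, Int.ofNat 0, Int.ofNat 0, Int.negSucc 1, Int.ofNat 0, Int.ofNat 0, Int.ofNat 2, Int.ofNat 2, Int.ofNat 2, Int.ofNat 0, Int.ofNat 2, Int.ofNat 0, Int.negSucc 1, Int.ofNat 0, Int.negSucc 1, Int.ofNat 0, Int.ofNat 0, Int.ofNat 0, Int.ofNat 0, Int.ofNat 0, Int.negSucc 1, Int.ofNat 0, Int.ofNat 0],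
  [Int.ofNat 0, Int.ofNat 0, Int.negSucc 1, Int.ofNat 0, Int.ofNat 0, Int.ofNat 2, Int.ofNat 0, Int.ofNat 0, Int.ofNat 0, Int.negSucc 1, Int.ofNat 0, Int.ofNat 0, Int.ofNat 2, Int.ofNat 0, Int.ofNat 0, Int.negSucc 1, Int.ofNat 2, Int.ofNat 0, Int.ofNat 0, Int.ofNat 2, Int.negSucc 1, Int.ofNat 0, Int.ofNat 0, Int.ofNat 0],
  [Int.negSucc 0, Int.negSucc 0, Int.ofNat 1, Int.negSucc 0, Int.negSucc 0, Int.ofNat 1, Int.negSucc 0, Int.negSucc 0, Int.negSucc 0, Int.ofNat 1, Int.ofNat 3, Int.negSucc 0, Int.ofNat 1, Int.negSucc 0, Int.negSucc 0, Int.ofNat 1, Int.ofNat 1, Int.negSucc 0, Int.negSucc 0, Int.ofNat 1, Int.ofNat 1, Int.negSucc 0, Int.negSucc 0, Int.negSucc 0],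
  [Int.negSucc 0, Int.negSucc 0, Int.negSucc 0, Int.negSucc 0, Int.negSucc 0, Int.negSucc 0, Int.ofNat 1, Int.negSucc 0, Int.negSucc 0, Int.negSucc 0, Int.negSucc 2, Int.negSucc 0, Int.ofNat 1, Int.negSucc 0, Int.negSucc 0, Int.negSucc 0, Int.ofNat 1, Int.negSucc 0, Int.ofNat 1, Int.ofNat 1, Int.ofNat 1, Int.negSucc 0, Int.ofNat 1, Int.negSucc 0],
  [Int.negSucc 0, Int.ofNat 1, Int.negSucc 0, Int.negSucc 0, Int.negSucc 0, Int.ofNat 1, Int.negSucc 0, Int.negSucc 0, Int.negSucc 0, Int.negSucc 0, Int.ofNat 1, Int.negSucc 0, Int.negSucc 0, Int.negSucc 0, Int.ofNat 1, Int.negSucc 0, Int.negSucc 0, Int.ofNat 1, Int.ofNat 1, Int.ofNat 1, Int.negSucc 0, Int.negSucc 0, Int.negSucc 2, Int.negSucc 0],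
  [Int.negSucc 0, Int.ofNat 1, Int.ofNat 1, Int.negSucc 0, Int.negSucc 0, Int.negSucc 0, Int.ofNat 1, Int.negSucc 0, Int.negSucc 0, Int.ofNat 1, Int.negSucc 0, Int.negSucc 0, Int.negSucc 0, Int.negSucc 0, Int.ofNat 1, Int.ofNat 1, Int.negSucc 0, Int.ofNat 1, Int.negSucc 0, Int.ofNat 1, Int.negSucc 0, Int.negSucc 0, Int.ofNat 3, Int.negSucc 0],
  [Int.ofNat 1, Int.negSucc 0, Int.negSucc 0, Int.negSucc 0, Int.negSucc 0, Int.negSucc 0, Int.ofNat 1, Int.negSucc 0, Int.ofNat 1, Int.ofNat 1, Int.negSucc 0, Int.ofNat 1, Int.ofNat 1, Int.negSucc 0, Int.ofNat 1, Int.ofNat 1, Int.negSucc 0, Int.ofNat 1, Int.ofNat 1, Int.ofNat 1, Int.negSucc 0, Int.negSucc 0, Int.ofNat 3, Int.ofNat 1],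
  [Int.ofNat 1, Int.ofNat 1, Int.ofNat 1, Int.negSucc 0, Int.negSucc 0, Int.negSucc 0, Int.negSucc 0, Int.negSucc 0, Int.negSucc 0, Int.ofNat 1, Int.negSucc 0, Int.ofNat 1, Int.ofNat 1, Int.ofNat 1, Int.ofNat 1, Int.ofNat 1, Int.negSucc 0, Int.ofNat 1, Int.negSucc 0, Int.ofNat 3, Int.negSucc 0, Int.negSucc 0, Int.ofNat 1, Int.ofNat 1],
  [Int.ofNat 1, Int.ofNat 1, Int.ofNat 1, Int.negSucc 0, Int.negSucc 0, Int.negSucc 0, Int.negSucc 0, Int.negSucc 0, Int.negSucc 0, Int.ofNat 1, Int.negSucc 0, Int.ofNat 1, Int.ofNat 1, Int.ofNat 1, Int.ofNat 1, Int.ofNat 1, Int.negSucc 0, Int.ofNat 1, Int.negSucc 0, Int.ofNat 3, Int.negSucc 0, Int.negSucc 0, Int.ofNat 1, Int.ofNat 1],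
  [Int.negSucc 0, Int.negSucc 0, Int.ofNat 1, Int.ofNat 1, Int.ofNat 1, Int.ofNat 1, Int.negSucc 0, Int.negSucc 0, Int.negSucc 0, Int.negSucc 0, Int.negSucc 0, Int.negSucc 0, Int.ofNat 1, Int.negSucc 0, Int.ofNat 1, Int.ofNat 1, Int.ofNat 1, Int.ofNat 1, Int.ofNat 1, Int.negSucc 0, Int.ofNat 1, Int.negSucc 0, Int.ofNat 3, Int.ofNat 1],
  [Int.ofNat 1, Int.ofNat 1, Int.negSucc 0, Int.negSucc 0, Int.negSucc 0, Int.negSucc 0, Int.ofNat 1, Int.ofNat 1, Int.negSucc 0, Int.negSucc 0, Int.negSucc 0, Int.negSucc 0, Int.ofNat 1, Int.negSucc 2, Int.negSucc 0, Int.ofNat 1, Int.negSucc 0, Int.negSucc 0, Int.ofNat 1, Int.ofNat 1, Int.ofNat 1, Int.ofNat 1, Int.ofNat 1, Int.negSucc 0],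
  [Int.ofNat 1, Int.negSucc 0, Int.negSucc 0, Int.negSucc 0, Int.negSucc 0, Int.ofNat 1, Int.ofNat 1, Int.negSucc 0, Int.negSucc 0, Int.negSucc 0, Int.negSucc 0, Int.ofNat 1, Int.negSucc 2, Int.negSucc 0, Int.ofNat 1, Int.negSucc 0, Int.negSucc 0, Int.ofNat 1, Int.ofNat 1, Int.ofNat 1, Int.ofNat 1, Int.ofNat 1, Int.ofNat 1, Int.negSucc 0],
  [Int.negSucc 0, Int.negSucc 0, Int.ofNat 1, Int.negSucc 0, Int.negSucc 0, Int.ofNat 1, Int.ofNat 1, Int.ofNat 1, Int.negSucc 0, Int.ofNat 1, Int.ofNat 1, Int.negSucc 0, Int.negSucc 2, Int.negSucc 0, Int.ofNat 1, Int.negSucc 0, Int.negSucc 0, Int.ofNat 1, Int.negSucc 0, Int.ofNat 1, Int.ofNat 1, Int.negSucc 0, Int.ofNat 1, Int.negSucc 0],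
  [Int.negSucc 0, Int.ofNat 1, Int.negSucc 0, Int.negSucc 0, Int.negSucc 0, Int.ofNat 1, Int.negSucc 0, Int.ofNat 1, Int.ofNat 1, Int.negSucc 0, Int.negSucc 0, Int.ofNat 1, Int.negSucc 0, Int.negSucc 0, Int.ofNat 1, Int.negSucc 0, Int.negSucc 2, Int.ofNat 1, Int.ofNat 1, Int.ofNat 1, Int.ofNat 1, Int.ofNat 1, Int.negSucc 0, Int.negSucc 0],
  [Int.ofNat 1, Int.ofNat 1, Int.ofNat 1, Int.negSucc 0, Int.negSucc 0, Int.ofNat 1, Int.negSucc 0, Int.negSucc 0, Int.ofNat 1, Int.ofNat 1, Int.ofNat 1, Int.negSucc 0, Int.negSucc 0, Int.negSucc 0, Int.ofNat 1, Int.negSucc 0, Int.negSucc 2, Int.ofNat 1, Int.negSucc 0, Int.ofNat 1, Int.ofNat 1, Int.negSucc 0, Int.negSucc 0, Int.negSucc 0],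
  [Int.negSucc 0, Int.ofNat 1, Int.ofNat 1, Int.ofNat 1, Int.negSucc 0, Int.negSucc 0, Int.ofNat 1, Int.negSucc 0, Int.negSucc 0, Int.ofNat 1, Int.ofNat 1, Int.ofNat 1, Int.negSucc 0, Int.negSucc 0, Int.negSucc 0, Int.ofNat 1, Int.negSucc 0, Int.negSucc 2, Int.ofNat 1, Int.negSucc 0, Int.ofNat 1, Int.ofNat 1, Int.negSucc 0, Int.negSucc 0],
  [Int.ofNat 1, Int.negSucc 0, Int.negSucc 0, Int.ofNat 3, Int.ofNat 1, Int.ofNat 1, Int.ofNat 1, Int.negSucc 0, Int.negSucc 0, Int.negSucc 0, Int.negSucc 0, Int.ofNat 1, Int.negSucc 0, Int.ofNat 1, Int.ofNat 1, Int.negSucc 0, Int.ofNat 1, Int.negSucc 0, Int.ofNat 1, Int.negSucc 0, Int.negSucc 0, Int.ofNat 1, Int.ofNat 1, Int.ofNat 1],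
  [Int.ofNat 3, Int.ofNat 1, Int.ofNat 1, Int.ofNat 1, Int.negSucc 0, Int.negSucc 0, Int.negSucc 0, Int.negSucc 0, Int.ofNat 1, Int.negSucc 0, Int.ofNat 1, Int.ofNat 1, Int.negSucc 0, Int.ofNat 1, Int.negSucc 0, Int.ofNat 1, Int.negSucc 0, Int.negSucc 0, Int.ofNat 1, Int.ofNat 1, Int.ofNat 1, Int.negSucc 0, Int.negSucc 0, Int.ofNat 1],
  [Int.ofNat 0, Int.ofNat 2, Int.ofNat 2, Int.ofNat 2, Int.ofNat 0, Int.ofNat 0, Int.ofNat 0, Int.ofNat 0, Int.ofNat 0, Int.negSucc 1, Int.ofNat 0, Int.ofNat 0, Int.negSucc 1, Int.ofNat 2, Int.ofNat 0, Int.ofNat 0, Int.ofNat 0, Int.ofNat 0, Int.ofNat 0, Int.ofNat 2, Int.ofNat 0, Int.ofNat 0, Int.ofNat 0, Int.ofNat 2],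
  [Int.ofNat 0, Int.ofNat 0, Int.ofNat 0, Int.ofNat 2, Int.ofNat 0, Int.ofNat 0, Int.ofNat 2, Int.ofNat 0, Int.negSucc 1, Int.ofNat 2, Int.ofNat 0, Int.ofNat 0, Int.negSucc 1, Int.ofNat 0, Int.ofNat 0, Int.ofNat 0, Int.ofNat 0, Int.ofNat 0, Int.ofNat 2, Int.ofNat 0, Int.ofNat 0, Int.ofNat 0, Int.ofNat 2, Int.ofNat 2],
  [Int.ofNat 1, Int.ofNat 1, Int.ofNat 1, Int.ofNat 1, Int.negSucc 0, Int.negSucc 0, Int.ofNat 1, Int.negSucc 0, Int.negSucc 0, Int.ofNat 1, Int.negSucc 0, Int.ofNat 1, Int.negSucc 0, Int.negSucc 0, Int.negSucc 0, Int.negSucc 0, Int.negSucc 0, Int.negSucc 0, Int.ofNat 3, Int.negSucc 0, Int.negSucc 0, Int.negSucc 0, Int.ofNat 1, Int.negSucc 0],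
  [Int.ofNat 1, Int.ofNat 1, Int.negSucc 0, Int.ofNat 1, Int.negSucc 0, Int.ofNat 1, Int.negSucc 0, Int.negSucc 0, Int.negSucc 0, Int.negSucc 0, Int.ofNat 1, Int.ofNat 1, Int.negSucc 0, Int.negSucc 0, Int.negSucc 0, Int.ofNat 1, Int.negSucc 0, Int.negSucc 0, Int.negSucc 2, Int.negSucc 0, Int.negSucc 0, Int.negSucc 0, Int.negSucc 0, Int.negSucc 0],
  [Int.ofNat 1, Int.negSucc 0, Int.ofNat 1, Int.negSucc 0, Int.negSucc 0, Int.negSucc 0, Int.negSucc 0, Int.ofNat 1, Int.ofNat 1, Int.negSucc 0, Int.negSucc 0, Int.negSucc 0, Int.ofNat 1, Int.negSucc 0, Int.negSucc 0, Int.negSucc 2, Int.negSucc 0, Int.negSucc 0, Int.negSucc 0, Int.negSucc 0, Int.ofNat 1, Int.ofNat 1, Int.negSucc 0, Int.negSucc 0],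
  [Int.negSucc 0, Int.ofNat 1, Int.negSucc 0, Int.ofNat 1, Int.ofNat 1, Int.negSucc 0, Int.ofNat 1, Int.ofNat 1, Int.negSucc 0, Int.ofNat 1, Int.negSucc 0, Int.negSucc 0, Int.negSucc 0, Int.ofNat 1, Int.negSucc 0, Int.negSucc 2, Int.ofNat 1, Int.negSucc 0, Int.ofNat 1, Int.negSucc 0, Int.ofNat 1, Int.ofNat 1, Int.negSucc 0, Int.negSucc 0],
  [Int.negSucc 0, Int.negSucc 0, Int.negSucc 0, Int.negSucc 2, Int.negSucc 0, Int.ofNat 1, Int.negSucc 0, Int.ofNat 1, Int.ofNat 1, Int.negSucc 0, Int.ofNat 1, Int.negSucc 0, Int.ofNat 1, Int.ofNat 1, Int.ofNat 1, Int.ofNat 1, Int.negSucc 0, Int.ofNat 1, Int.negSucc 0, Int.ofNat 1, Int.negSucc 0, Int.negSucc 0, Int.ofNat 1, Int.negSucc 0],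
  [Int.ofNat 1, Int.negSucc 0, Int.ofNat 1, Int.negSucc 2, Int.negSucc 0, Int.ofNat 1, Int.negSucc 0, Int.negSucc 0, Int.ofNat 1, Int.ofNat 1, Int.negSucc 0, Int.ofNat 1, Int.ofNat 1, Int.ofNat 1, Int.ofNat 1, Int.ofNat 1, Int.negSucc 0, Int.ofNat 1, Int.ofNat 1, Int.ofNat 1, Int.negSucc 0, Int.ofNat 1, Int.ofNat 1, Int.negSucc 0],
  [Int.ofNat 1, Int.ofNat 1, Int.negSucc 0, Int.ofNat 1, Int.negSucc 2, Int.negSucc 0, Int.ofNat 1, Int.negSucc 0, Int.negSucc 0, Int.ofNat 1, Int.ofNat 1, Int.negSucc 0, Int.ofNat 1, Int.ofNat 1, Int.ofNat 1, Int.ofNat 1, Int.ofNat 1, Int.negSucc 0, Int.ofNat 1, Int.ofNat 1, Int.ofNat 1, Int.negSucc 0, Int.ofNat 1, Int.negSucc 0],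
  [Int.negSucc 0, Int.negSucc 0, Int.ofNat 1, Int.ofNat 1, Int.negSucc 2, Int.negSucc 0, Int.ofNat 1, Int.negSucc 0, Int.negSucc 0, Int.negSucc 0, Int.negSucc 0, Int.negSucc 0, Int.ofNat 1, Int.ofNat 1, Int.ofNat 1, Int.negSucc 0, Int.ofNat 1, Int.negSucc 0, Int.ofNat 1, Int.ofNat 1, Int.negSucc 0, Int.negSucc 0, Int.ofNat 1, Int.ofNat 1],
  [Int.ofNat 1, Int.negSucc 2, Int.negSucc 0, Int.ofNat 1, Int.negSucc 0, Int.negSucc 0, Int.negSucc 0, Int.negSucc 0, Int.negSucc 0, Int.ofNat 1, Int.ofNat 1, Int.ofNat 1, Int.negSucc 0, Int.ofNat 1, Int.negSucc 0, Int.ofNat 1, Int.ofNat 1, Int.negSucc 0, Int.negSucc 0, Int.ofNat 1, Int.negSucc 0, Int.negSucc 0, Int.ofNat 1, Int.ofNat 1],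
  [Int.negSucc 1, Int.ofNat 2, Int.ofNat 0, Int.ofNat 2, Int.negSucc 1, Int.ofNat 0, Int.ofNat 0, Int.ofNat 0, Int.ofNat 0, Int.ofNat 0, Int.ofNat 0, Int.ofNat 2, Int.ofNat 0, Int.ofNat 0, Int.ofNat 0, Int.ofNat 0, Int.ofNat 0, Int.ofNat 0, Int.ofNat 0, Int.ofNat 2, Int.negSucc 1, Int.ofNat 0, Int.ofNat 0, Int.negSucc 1],
  [Int.negSucc 1, Int.ofNat 0, Int.negSucc 1, Int.ofNat 2, Int.ofNat 0, Int.ofNat 0, Int.ofNat 0, Int.ofNat 0, Int.ofNat 0, Int.ofNat 0, Int.negSucc 1, Int.ofNat 0, Int.ofNat 0, Int.ofNat 0, Int.ofNat 0, Int.ofNat 0, Int.ofNat 0, Int.ofNat 0, Int.ofNat 2, Int.ofNat 2, Int.ofNat 0, Int.ofNat 0, Int.ofNat 2, Int.negSucc 1],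
  [Int.negSucc 0, Int.negSucc 2, Int.negSucc 0, Int.ofNat 1, Int.negSucc 0, Int.negSucc 0, Int.negSucc 0, Int.negSucc 0, Int.negSucc 0, Int.ofNat 1, Int.negSucc 0, Int.negSucc 0, Int.negSucc 0, Int.negSucc 0, Int.negSucc 0, Int.ofNat 1, Int.negSucc 0, Int.negSucc 0, Int.ofNat 1, Int.ofNat 1, Int.ofNat 1, Int.negSucc 0, Int.ofNat 1, Int.negSucc 0],
  [Int.negSucc 0, Int.negSucc 2, Int.ofNat 1, Int.ofNat 1, Int.negSucc 0, Int.ofNat 1, Int.ofNat 1, Int.negSucc 0, Int.negSucc 0, Int.negSucc 0, Int.ofNat 1, Int.negSucc 0, Int.negSucc 0, Int.negSucc 0, Int.negSucc 0, Int.negSucc 0, Int.negSucc 0, Int.negSucc 0, Int.negSucc 0, Int.ofNat 1, Int.ofNat 1, Int.negSucc 0, Int.negSucc 0, Int.negSucc 0],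
  [Int.negSucc 2, Int.negSucc 0, Int.negSucc 0, Int.ofNat 1, Int.negSucc 0, Int.ofNat 1, Int.negSucc 0, Int.negSucc 0, Int.negSucc 0, Int.ofNat 1, Int.negSucc 0, Int.negSucc 0, Int.negSucc 0, Int.negSucc 0, Int.ofNat 1, Int.negSucc 0, Int.negSucc 0, Int.negSucc 0, Int.ofNat 1, Int.negSucc 0, Int.negSucc 0, Int.ofNat 1, Int.ofNat 1, Int.negSucc 0],
  [Int.negSucc 2, Int.negSucc 0, Int.ofNat 1, Int.ofNat 1, Int.negSucc 0, Int.negSucc 0, Int.ofNat 1, Int.negSucc 0, Int.negSucc 0, Int.negSucc 0, Int.ofNat 1, Int.negSucc 0, Int.negSucc 0, Int.negSucc 0, Int.ofNat 1, Int.ofNat 1, Int.negSucc 0, Int.negSucc 0, Int.negSucc 0, Int.negSucc 0, Int.negSucc 0, Int.ofNat 1, Int.negSucc 0, Int.negSucc 0],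
  [Int.ofNat 1, Int.negSucc 0, Int.negSucc 2, Int.ofNat 1, Int.ofNat 1, Int.negSucc 0, Int.ofNat 1, Int.negSucc 0, Int.ofNat 1, Int.negSucc 0, Int.ofNat 1, Int.ofNat 1, Int.ofNat 1, Int.ofNat 1, Int.ofNat 1, Int.ofNat 1, Int.ofNat 1, Int.negSucc 0, Int.ofNat 1, Int.negSucc 0, Int.negSucc 0, Int.ofNat 1, Int.ofNat 1, Int.negSucc 0],
  [Int.ofNat 1, Int.ofNat 1, Int.ofNat 1, Int.ofNat 1, Int.negSucc 2, Int.ofNat 1, Int.negSucc 0, Int.negSucc 0, Int.ofNat 1, Int.ofNat 1, Int.negSucc 0, Int.negSucc 0, Int.ofNat 1, Int.negSucc 0, Int.negSucc 0, Int.ofNat 1, Int.ofNat 1, Int.ofNat 1, Int.ofNat 1, Int.ofNat 1, Int.ofNat 1, Int.negSucc 0, Int.ofNat 1, Int.negSucc 0],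
  [Int.ofNat 0, Int.ofNat 0, Int.ofNat 0, Int.ofNat 0, Int.negSucc 1, Int.ofNat 0, Int.ofNat 0, Int.ofNat 0, Int.ofNat 0, Int.ofNat 0, Int.negSucc 1, Int.negSucc 1, Int.ofNat 0, Int.ofNat 0, Int.negSucc 1, Int.ofNat 0, Int.ofNat 2, Int.ofNat 0, Int.ofNat 0, Int.ofNat 2, Int.ofNat 0, Int.ofNat 0, Int.ofNat 2, Int.ofNat 2],
  [Int.ofNat 0, Int.ofNat 0, Int.ofNat 2, Int.ofNat 0, Int.ofNat 0, Int.ofNat 0, Int.ofNat 0, Int.negSucc 1, Int.ofNat 0, Int.ofNat 0, Int.ofNat 0, Int.ofNat 0, Int.ofNat 0, Int.negSucc 1, Int.negSucc 1, Int.ofNat 0, Int.ofNat 0, Int.negSucc 1, Int.ofNat 0, Int.ofNat 2, Int.ofNat 0, Int.ofNat 0, Int.ofNat 2, Int.ofNat 2],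
  [Int.ofNat 2, Int.ofNat 2, Int.ofNat 0, Int.ofNat 2, Int.ofNat 0, Int.ofNat 2, Int.ofNat 0, Int.negSucc 1, Int.ofNat 0, Int.ofNat 0, Int.ofNat 0, Int.ofNat 0, Int.ofNat 0, Int.negSucc 1, Int.ofNat 0, Int.ofNat 0, Int.ofNat 0, Int.ofNat 0, Int.ofNat 0, Int.ofNat 2, Int.ofNat 0, Int.ofNat 0, Int.ofNat 2, Int.ofNat 0],
  [Int.ofNat 2, Int.ofNat 0, Int.ofNat 2, Int.ofNat 0, Int.ofNat 2, Int.ofNat 0, Int.negSucc 1, Int.ofNat 0, Int.ofNat 0, Int.ofNat 0, Int.ofNat 0, Int.ofNat 0, Int.negSucc 1, Int.ofNat 0, Int.ofNat 0, Int.ofNat 0, Int.ofNat 0, Int.ofNat 0, Int.ofNat 2, Int.ofNat 0, Int.ofNat 0, Int.ofNat 2, Int.ofNat 2, Int.ofNat 0],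
  [Int.negSucc 1, Int.ofNat 0, Int.negSucc 1, Int.ofNat 0, Int.ofNat 2, Int.ofNat 0, Int.negSucc 1, Int.ofNat 0, Int.ofNat 0, Int.ofNat 0, Int.ofNat 0, Int.ofNat 0, Int.negSucc 1, Int.ofNat 0, Int.ofNat 0, Int.ofNat 0, Int.ofNat 0, Int.ofNat 0, Int.negSucc 1, Int.ofNat 0, Int.ofNat 0, Int.negSucc 1, Int.ofNat 2, Int.ofNat 0],
  [Int.negSucc 1, Int.negSucc 1, Int.negSucc 1, Int.ofNat 0, Int.ofNat 0, Int.ofNat 0, Int.ofNat 2, Int.ofNat 0, Int.ofNat 0, Int.ofNat 0, Int.negSucc 1, Int.ofNat 0, Int.ofNat 0, Int.ofNat 0, Int.ofNat 0, Int.ofNat 0, Int.negSucc 1, Int.ofNat 2, Int.negSucc 1, Int.ofNat 0, Int.ofNat 0, Int.ofNat 0, Int.ofNat 0, Int.ofNat 0],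
  [Int.ofNat 2, Int.negSucc 1, Int.ofNat 2, Int.ofNat 0, Int.ofNat 0, Int.ofNat 0, Int.ofNat 2, Int.ofNat 0, Int.ofNat 0, Int.ofNat 0, Int.ofNat 2, Int.ofNat 0, Int.ofNat 0, Int.ofNat 0, Int.ofNat 0, Int.ofNat 0, Int.negSucc 1, Int.ofNat 2, Int.ofNat 2, Int.ofNat 0, Int.ofNat 0, Int.ofNat 0, Int.ofNat 0, Int.ofNat 0],
  [Int.ofNat 0, Int.ofNat 2, Int.negSucc 1, Int.ofNat 2, Int.ofNat 0, Int.ofNat 0, Int.ofNat 0, Int.ofNat 2, Int.ofNat 0, Int.ofNat 0, Int.ofNat 0, Int.ofNat 2, Int.ofNat 0, Int.ofNat 0, Int.ofNat 0, Int.ofNat 0, Int.ofNat 0, Int.negSucc 1, Int.ofNat 2, Int.ofNat 2, Int.ofNat 0, Int.ofNat 0, Int.ofNat 0, Int.ofNat 0],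
  [Int.ofNat 0, Int.negSucc 1, Int.ofNat 2, Int.ofNat 2, Int.ofNat 0, Int.ofNat 0, Int.negSucc 1, Int.ofNat 0, Int.negSucc 1, Int.ofNat 0, Int.ofNat 0, Int.ofNat 0, Int.negSucc 1, Int.ofNat 0, Int.ofNat 0, Int.ofNat 0, Int.ofNat 0, Int.negSucc 1, Int.ofNat 0, Int.ofNat 0, Int.ofNat 0, Int.negSucc 1, Int.ofNat 0, Int.ofNat 0],
  [Int.ofNat 2, Int.ofNat 0, Int.ofNat 0, Int.negSucc 1, Int.ofNat 0, Int.negSucc 1, Int.ofNat 0, Int.ofNat 0, Int.ofNat 0, Int.negSucc 1, Int.ofNat 0, Int.ofNat 0, Int.ofNat 0, Int.ofNat 0, Int.negSucc 1, Int.ofNat 0, Int.ofNat 0, Int.ofNat 0, Int.negSucc 1, Int.ofNat 0, Int.ofNat 0, Int.negSucc 1, Int.ofNat 2, Int.ofNat 0],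
  [Int.negSucc 0, Int.ofNat 1, Int.ofNat 1, Int.ofNat 1, Int.negSucc 0, Int.ofNat 1, Int.ofNat 1, Int.ofNat 1, Int.ofNat 1, Int.negSucc 0, Int.ofNat 1, Int.ofNat 1, Int.ofNat 1, Int.negSucc 0, Int.ofNat 1, Int.ofNat 1, Int.negSucc 0, Int.ofNat 3, Int.negSucc 0, Int.ofNat 1, Int.ofNat 1, Int.negSucc 0, Int.ofNat 1, Int.ofNat 1],
  [Int.negSucc 0, Int.ofNat 1, Int.negSucc 0, Int.ofNat 1, Int.negSucc 0, Int.ofNat 1, Int.ofNat 1, Int.ofNat 1, Int.ofNat 1, Int.negSucc 0, Int.ofNat 1, Int.ofNat 3, Int.negSucc 0, Int.negSucc 0, Int.ofNat 1, Int.ofNat 1, Int.ofNat 1, Int.ofNat 1, Int.ofNat 1, Int.ofNat 1, Int.negSucc 0, Int.ofNat 1, Int.ofNat 1, Int.ofNat 1],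
  [Int.ofNat 1, Int.negSucc 0, Int.ofNat 1, Int.negSucc 0, Int.negSucc 0, Int.negSucc 0, Int.negSucc 0, Int.negSucc 0, Int.negSucc 0, Int.negSucc 0, Int.ofNat 1, Int.ofNat 1, Int.negSucc 2, Int.negSucc 0, Int.negSucc 0, Int.ofNat 1, Int.ofNat 1, Int.negSucc 0, Int.negSucc 0, Int.negSucc 0, Int.negSucc 0, Int.negSucc 0, Int.ofNat 1, Int.negSucc 0],
  [Int.ofNat 1, Int.negSucc 0, Int.negSucc 0, Int.negSucc 0, Int.negSucc 0, Int.ofNat 1, Int.ofNat 1, Int.negSucc 0, Int.negSucc 0, Int.ofNat 1, Int.negSucc 0, Int.ofNat 1, Int.negSucc 2, Int.negSucc 0, Int.negSucc 0, Int.negSucc 0, Int.ofNat 1, Int.negSucc 0, Int.ofNat 1, Int.negSucc 0, Int.negSucc 0, Int.negSucc 0, Int.negSucc 0, Int.negSucc 0],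
  [Int.negSucc 0, Int.ofNat 1, Int.ofNat 1, Int.negSucc 0, Int.negSucc 0, Int.ofNat 1, Int.negSucc 0, Int.negSucc 0, Int.ofNat 1, Int.negSucc 0, Int.negSucc 0, Int.negSucc 0, Int.negSucc 0, Int.negSucc 0, Int.negSucc 0, Int.ofNat 1, Int.negSucc 0, Int.negSucc 2, Int.ofNat 1, Int.negSucc 0, Int.ofNat 1, Int.negSucc 0, Int.negSucc 0, Int.negSucc 0],
  [Int.ofNat 1, Int.negSucc 0, Int.negSucc 0, Int.ofNat 1, Int.ofNat 1, Int.ofNat 1, Int.ofNat 1, Int.negSucc 0, Int.negSucc 0, Int.ofNat 1, Int.negSucc 0, Int.negSucc 0, Int.ofNat 1, Int.ofNat 1, Int.negSucc 0, Int.ofNat 1, Int.ofNat 1, Int.negSucc 2, Int.negSucc 0, Int.negSucc 0, Int.ofNat 1, Int.negSucc 0, Int.negSucc 0, Int.negSucc 0],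
  [Int.negSucc 0, Int.negSucc 0, Int.negSucc 0, Int.ofNat 1, Int.negSucc 2, Int.ofNat 1, Int.negSucc 0, Int.ofNat 1, Int.ofNat 1, Int.ofNat 1, Int.ofNat 1, Int.negSucc 0, Int.negSucc 0, Int.negSucc 0, Int.negSucc 0, Int.ofNat 1, Int.negSucc 0, Int.ofNat 1, Int.negSucc 0, Int.ofNat 1, Int.negSucc 0, Int.ofNat 1, Int.negSucc 0, Int.ofNat 1],
  [Int.ofNat 1, Int.negSucc 0, Int.ofNat 1, Int.ofNat 1, Int.negSucc 2, Int.ofNat 1, Int.negSucc 0, Int.negSucc 0, Int.ofNat 1, Int.negSucc 0, Int.negSucc 0, Int.ofNat 1, Int.negSucc 0, Int.negSucc 0, Int.negSucc 0, Int.ofNat 1, Int.negSucc 0, Int.ofNat 1, Int.ofNat 1, Int.ofNat 1, Int.negSucc 0, Int.negSucc 0, Int.negSucc 0, Int.ofNat 1],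
  [Int.negSucc 0, Int.ofNat 1, Int.negSucc 0, Int.ofNat 1, Int.ofNat 1, Int.negSucc 2, Int.ofNat 1, Int.negSucc 0, Int.negSucc 0, Int.ofNat 1, Int.negSucc 0, Int.negSucc 0, Int.ofNat 1, Int.negSucc 0, Int.negSucc 0, Int.negSucc 0, Int.ofNat 1, Int.negSucc 0, Int.ofNat 1, Int.ofNat 1, Int.ofNat 1, Int.negSucc 0, Int.negSucc 0, Int.ofNat 1],
  [Int.ofNat 1, Int.negSucc 0, Int.ofNat 1, Int.ofNat 3, Int.ofNat 1, Int.negSucc 0, Int.ofNat 1, Int.negSucc 0, Int.negSucc 0, Int.ofNat 1, Int.negSucc 0, Int.negSucc 0, Int.ofNat 1, Int.negSucc 0, Int.ofNat 1, Int.negSucc 0, Int.ofNat 1, Int.ofNat 1, Int.ofNat 1, Int.ofNat 1, Int.ofNat 1, Int.negSucc 0, Int.negSucc 0, Int.negSucc 0],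
  [Int.ofNat 3, Int.ofNat 1, Int.negSucc 0, Int.ofNat 1, Int.negSucc 0, Int.negSucc 0, Int.ofNat 1, Int.negSucc 0, Int.negSucc 0, Int.ofNat 1, Int.negSucc 0, Int.ofNat 1, Int.negSucc 0, Int.ofNat 1, Int.ofNat 1, Int.ofNat 1, Int.ofNat 1, Int.ofNat 1, Int.negSucc 0, Int.negSucc 0, Int.ofNat 1, Int.negSucc 0, Int.ofNat 1, Int.negSucc 0],
  [Int.negSucc 1, Int.ofNat 0, Int.ofNat 2, Int.ofNat 0, Int.negSucc 1, Int.negSucc 1, Int.ofNat 2, Int.ofNat 0, Int.ofNat 0, Int.ofNat 0, Int.negSucc 1, Int.ofNat 2, Int.ofNat 0, Int.ofNat 0, Int.ofNat 0, Int.ofNat 0, Int.ofNat 0, Int.ofNat 0, Int.ofNat 0, Int.ofNat 0, Int.ofNat 0, Int.ofNat 0, Int.ofNat 0, Int.ofNat 2],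
  [Int.negSucc 1, Int.ofNat 2, Int.negSucc 1, Int.ofNat 0, Int.ofNat 0, Int.ofNat 0, Int.ofNat 2, Int.negSucc 1, Int.ofNat 0, Int.ofNat 0, Int.ofNat 0, Int.ofNat 0, Int.ofNat 0, Int.ofNat 0, Int.ofNat 0, Int.ofNat 0, Int.ofNat 0, Int.ofNat 0, Int.ofNat 0, Int.ofNat 2, Int.ofNat 0, Int.negSucc 1, Int.ofNat 0, Int.ofNat 2],
  [Int.ofNat 2, Int.negSucc 1, Int.ofNat 2, Int.ofNat 0, Int.ofNat 0, Int.ofNat 0, Int.ofNat 2, Int.negSucc 1, Int.ofNat 0, Int.ofNat 0, Int.ofNat 0, Int.ofNat 0, Int.ofNat 0, Int.ofNat 0, Int.ofNat 0, Int.ofNat 0, Int.ofNat 0, Int.ofNat 0, Int.ofNat 0, Int.ofNat 2, Int.ofNat 0, Int.negSucc 1, Int.ofNat 0, Int.negSucc 1],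
  [Int.ofNat 2, Int.negSucc 1, Int.negSucc 1, Int.ofNat 0, Int.ofNat 0, Int.ofNat 0, Int.negSucc 1, Int.negSucc 1, Int.ofNat 0, Int.ofNat 0, Int.ofNat 0, Int.ofNat 0, Int.ofNat 0, Int.ofNat 0, Int.ofNat 0, Int.ofNat 0, Int.ofNat 0, Int.ofNat 0, Int.ofNat 0, Int.ofNat 2, Int.ofNat 0, Int.negSucc 1, Int.ofNat 0, Int.negSucc 1],
  [Int.negSucc 1, Int.ofNat 0, Int.ofNat 2, Int.ofNat 0, Int.ofNat 0, Int.ofNat 0, Int.negSucc 1, Int.ofNat 0, Int.ofNat 0, Int.negSucc 1, Int.ofNat 0, Int.ofNat 0, Int.ofNat 0, Int.negSucc 1, Int.negSucc 1, Int.ofNat 0, Int.ofNat 0, Int.ofNat 0, Int.ofNat 2, Int.ofNat 0, Int.ofNat 0, Int.ofNat 0, Int.ofNat 0, Int.negSucc 1],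
  [Int.negSucc 1, Int.ofNat 0, Int.negSucc 1, Int.ofNat 0, Int.ofNat 0, Int.ofNat 0, Int.ofNat 2, Int.ofNat 0, Int.ofNat 0, Int.ofNat 2, Int.ofNat 0, Int.ofNat 0, Int.ofNat 0, Int.negSucc 1, Int.negSucc 1, Int.ofNat 0, Int.ofNat 0, Int.ofNat 0, Int.negSucc 1, Int.ofNat 0, Int.ofNat 0, Int.ofNat 0, Int.ofNat 0, Int.negSucc 1],
  [Int.negSucc 0, Int.negSucc 2, Int.negSucc 0, Int.ofNat 1, Int.ofNat 1, Int.ofNat 1, Int.ofNat 1, Int.negSucc 0, Int.ofNat 1, Int.ofNat 1, Int.negSucc 0, Int.ofNat 1, Int.ofNat 1, Int.negSucc 0, Int.negSucc 0, Int.negSucc 0, Int.ofNat 1, Int.ofNat 1, Int.negSucc 0, Int.negSucc 0, Int.negSucc 0, Int.negSucc 0, Int.ofNat 1, Int.negSucc 0],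
  [Int.negSucc 0, Int.negSucc 0, Int.ofNat 1, Int.ofNat 1, Int.negSucc 0, Int.negSucc 0, Int.negSucc 2, Int.ofNat 1, Int.ofNat 1, Int.ofNat 1, Int.negSucc 0, Int.negSucc 0, Int.ofNat 1, Int.ofNat 1, Int.ofNat 1, Int.negSucc 0, Int.negSucc 0, Int.ofNat 1, Int.ofNat 1, Int.ofNat 1, Int.negSucc 0, Int.negSucc 0, Int.negSucc 0, Int.negSucc 0],
  [Int.ofNat 0, Int.ofNat 0, Int.negSucc 1, Int.ofNat 0, Int.ofNat 0, Int.negSucc 1, Int.negSucc 1, Int.ofNat 2, Int.ofNat 0, Int.ofNat 2, Int.ofNat 0, Int.negSucc 1, Int.ofNat 0, Int.ofNat 2, Int.ofNat 0, Int.ofNat 0, Int.ofNat 0, Int.ofNat 0, Int.ofNat 0, Int.ofNat 2, Int.ofNat 0, Int.ofNat 0, Int.ofNat 0, Int.ofNat 0],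
  [Int.ofNat 0, Int.ofNat 0, Int.ofNat 0, Int.ofNat 0, Int.ofNat 0, Int.negSucc 1, Int.ofNat 0, Int.ofNat 0, Int.negSucc 1, Int.negSucc 1, Int.ofNat 2, Int.ofNat 0, Int.ofNat 2, Int.ofNat 0, Int.negSucc 1, Int.ofNat 0, Int.ofNat 2, Int.ofNat 0, Int.ofNat 0, Int.ofNat 0, Int.ofNat 0, Int.ofNat 0, Int.ofNat 2, Int.ofNat 0],
  [Int.ofNat 0, Int.ofNat 0, Int.ofNat 0, Int.ofNat 2, Int.negSucc 1, Int.ofNat 0, Int.ofNat 0, Int.ofNat 0, Int.negSucc 1, Int.negSucc 1, Int.ofNat 2, Int.ofNat 0, Int.ofNat 2, Int.negSucc 1, Int.ofNat 0, Int.ofNat 0, Int.ofNat 0, Int.ofNat 2, Int.ofNat 0, Int.ofNat 0, Int.ofNat 0, Int.ofNat 0, Int.ofNat 0, Int.ofNat 0],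
  [Int.ofNat 0, Int.ofNat 0, Int.ofNat 2, Int.negSucc 1, Int.ofNat 0, Int.ofNat 0, Int.ofNat 0, Int.negSucc 1, Int.negSucc 1, Int.ofNat 2, Int.ofNat 0, Int.ofNat 2, Int.negSucc 1, Int.ofNat 0, Int.ofNat 0, Int.ofNat 0, Int.ofNat 2, Int.ofNat 0, Int.ofNat 0, Int.ofNat 0, Int.ofNat 0, Int.ofNat 0, Int.ofNat 0, Int.ofNat 0],
  [Int.ofNat 0, Int.ofNat 0, Int.negSucc 1, Int.negSucc 1, Int.ofNat 0, Int.ofNat 0, Int.ofNat 0, Int.ofNat 2, Int.negSucc 1, Int.negSucc 1, Int.ofNat 0, Int.negSucc 1, Int.negSucc 1, Int.ofNat 0, Int.ofNat 0, Int.ofNat 0, Int.ofNat 2, Int.ofNat 0, Int.ofNat 0, Int.ofNat 0, Int.ofNat 0, Int.ofNat 0, Int.ofNat 0, Int.ofNat 0],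
  [Int.ofNat 0, Int.negSucc 1, Int.ofNat 0, Int.negSucc 1, Int.ofNat 0, Int.ofNat 0, Int.ofNat 0, Int.ofNat 0, Int.negSucc 1, Int.ofNat 2, Int.ofNat 0, Int.ofNat 0, Int.ofNat 0, Int.negSucc 1, Int.ofNat 0, Int.ofNat 0, Int.negSucc 1, Int.ofNat 0, Int.ofNat 0, Int.ofNat 0, Int.ofNat 0, Int.ofNat 2, Int.negSucc 1, Int.ofNat 0],
  [Int.ofNat 0, Int.negSucc 1, Int.ofNat 0, Int.negSucc 1, Int.ofNat 0, Int.ofNat 0, Int.ofNat 0, Int.ofNat 0, Int.negSucc 1, Int.negSucc 1, Int.ofNat 0, Int.ofNat 0, Int.ofNat 0, Int.negSucc 1, Int.ofNat 0, Int.ofNat 0, Int.negSucc 1, Int.ofNat 0, Int.ofNat 0, Int.ofNat 0, Int.ofNat 0, Int.negSucc 1, Int.negSucc 1, Int.ofNat 0],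
  [Int.negSucc 1, Int.ofNat 0, Int.negSucc 1, Int.ofNat 0, Int.negSucc 1, Int.ofNat 0, Int.ofNat 0, Int.ofNat 0, Int.ofNat 0, Int.negSucc 1, Int.negSucc 1, Int.ofNat 0, Int.ofNat 0, Int.ofNat 0, Int.negSucc 1, Int.ofNat 0, Int.ofNat 0, Int.negSucc 1, Int.ofNat 0, Int.ofNat 0, Int.ofNat 0, Int.ofNat 0, Int.negSucc 1, Int.ofNat 0],
  [Int.ofNat 0, Int.negSucc 1, Int.ofNat 0, Int.ofNat 2, Int.ofNat 0, Int.ofNat 2, Int.ofNat 0, Int.ofNat 0, Int.ofNat 0, Int.ofNat 0, Int.ofNat 0, Int.ofNat 0, Int.ofNat 0, Int.ofNat 2, Int.ofNat 0, Int.ofNat 2, Int.ofNat 2, Int.ofNat 0, Int.ofNat 0, Int.ofNat 0, Int.ofNat 2, Int.ofNat 0, Int.ofNat 0, Int.negSucc 1],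
  [Int.ofNat 2, Int.ofNat 0, Int.ofNat 2, Int.ofNat 0, Int.ofNat 0, Int.ofNat 0, Int.ofNat 0, Int.ofNat 0, Int.ofNat 0, Int.ofNat 0, Int.ofNat 2, Int.ofNat 0, Int.ofNat 2, Int.ofNat 2, Int.ofNat 0, Int.ofNat 0, Int.ofNat 0, Int.ofNat 2, Int.ofNat 0, Int.ofNat 0, Int.ofNat 0, Int.negSucc 1, Int.ofNat 0, Int.negSucc 1],
  [Int.negSucc 0, Int.ofNat 1, Int.negSucc 0, Int.negSucc 0, Int.negSucc 0, Int.negSucc 0, Int.ofNat 1, Int.ofNat 1, Int.negSucc 0, Int.negSucc 0, Int.ofNat 1, Int.negSucc 0, Int.ofNat 1, Int.ofNat 1, Int.negSucc 0, Int.negSucc 0, Int.negSucc 0, Int.ofNat 1, Int.negSucc 0, Int.ofNat 1, Int.negSucc 0, Int.negSucc 0, Int.negSucc 0, Int.ofNat 3],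
  [Int.negSucc 0, Int.ofNat 1, Int.negSucc 0, Int.negSucc 0, Int.negSucc 0, Int.ofNat 1, Int.negSucc 0, Int.ofNat 1, Int.ofNat 1, Int.ofNat 1, Int.negSucc 0, Int.ofNat 1, Int.negSucc 0, Int.negSucc 0, Int.negSucc 0, Int.negSucc 0, Int.negSucc 0, Int.negSucc 0, Int.ofNat 1, Int.negSucc 0, Int.negSucc 0, Int.negSucc 0, Int.ofNat 1, Int.ofNat 3],
  [Int.ofNat 2, Int.ofNat 0, Int.ofNat 2, Int.ofNat 0, Int.ofNat 0, Int.ofNat 2, Int.ofNat 0, Int.ofNat 2, Int.ofNat 0, Int.ofNat 2, Int.ofNat 0, Int.ofNat 0, Int.negSucc 1, Int.ofNat 0, Int.ofNat 0, Int.ofNat 0, Int.ofNat 0, Int.ofNat 0, Int.ofNat 0, Int.ofNat 0, Int.ofNat 0, Int.ofNat 0, Int.ofNat 2, Int.negSucc 1],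
  [Int.ofNat 2, Int.ofNat 0, Int.negSucc 1, Int.ofNat 0, Int.ofNat 0, Int.negSucc 1, Int.ofNat 0, Int.ofNat 2, Int.ofNat 0, Int.negSucc 1, Int.ofNat 0, Int.ofNat 0, Int.negSucc 1, Int.ofNat 0, Int.ofNat 0, Int.ofNat 0, Int.ofNat 0, Int.ofNat 0, Int.ofNat 0, Int.ofNat 0, Int.ofNat 0, Int.ofNat 0, Int.negSucc 1, Int.negSucc 1],
  [Int.ofNat 0, Int.ofNat 0, Int.ofNat 0, Int.ofNat 0, Int.ofNat 0, Int.ofNat 0, Int.ofNat 0, Int.ofNat 0, Int.negSucc 1, Int.ofNat 0, Int.ofNat 0, Int.ofNat 2, Int.ofNat 0, Int.ofNat 0, Int.ofNat 0, Int.ofNat 0, Int.ofNat 0, Int.negSucc 1, Int.negSucc 1, Int.negSucc 1, Int.ofNat 2, Int.ofNat 0, Int.negSucc 1, Int.negSucc 1],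
  [Int.ofNat 0, Int.ofNat 0, Int.ofNat 0, Int.ofNat 0, Int.ofNat 0, Int.ofNat 0, Int.ofNat 0, Int.ofNat 0, Int.ofNat 2, Int.ofNat 0, Int.ofNat 0, Int.ofNat 2, Int.ofNat 0, Int.ofNat 0, Int.ofNat 0, Int.ofNat 0, Int.ofNat 0, Int.negSucc 1, Int.ofNat 2, Int.negSucc 1, Int.ofNat 2, Int.ofNat 0, Int.negSucc 1, Int.negSucc 1],
  [Int.negSucc 1, Int.negSucc 1, Int.ofNat 2, Int.ofNat 0, Int.negSucc 1, Int.ofNat 0, Int.negSucc 1, Int.ofNat 0, Int.ofNat 2, Int.ofNat 0, Int.ofNat 0, Int.ofNat 0, Int.ofNat 0, Int.ofNat 0, Int.ofNat 2, Int.ofNat 0, Int.ofNat 0, Int.ofNat 0, Int.ofNat 0, Int.ofNat 0, Int.ofNat 2, Int.ofNat 0, Int.ofNat 0, Int.ofNat 0],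
  [Int.ofNat 2, Int.negSucc 1, Int.negSucc 1, Int.ofNat 0, Int.negSucc 1, Int.ofNat 0, Int.negSucc 1, Int.ofNat 0, Int.ofNat 2, Int.ofNat 0, Int.ofNat 0, Int.ofNat 0, Int.ofNat 0, Int.ofNat 0, Int.ofNat 2, Int.ofNat 0, Int.ofNat 0, Int.ofNat 0, Int.ofNat 0, Int.ofNat 0, Int.ofNat 2, Int.ofNat 0, Int.ofNat 0, Int.ofNat 0],
  [Int.ofNat 0, Int.ofNat 2, Int.negSucc 1, Int.negSucc 1, Int.ofNat 0, Int.negSucc 1, Int.ofNat 0, Int.negSucc 1, Int.ofNat 0, Int.ofNat 2, Int.ofNat 0, Int.ofNat 0, Int.ofNat 0, Int.ofNat 0, Int.ofNat 0, Int.ofNat 2, Int.ofNat 0, Int.ofNat 0, Int.ofNat 0, Int.ofNat 0, Int.ofNat 0, Int.ofNat 2, Int.ofNat 0, Int.ofNat 0],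
  [Int.ofNat 0, Int.negSucc 1, Int.ofNat 2, Int.ofNat 0, Int.ofNat 0, Int.ofNat 0, Int.ofNat 0, Int.negSucc 1, Int.ofNat 0, Int.ofNat 0, Int.negSucc 1, Int.ofNat 0, Int.ofNat 0, Int.ofNat 0, Int.ofNat 2, Int.ofNat 0, Int.ofNat 0, Int.ofNat 2, Int.ofNat 0, Int.ofNat 0, Int.negSucc 1, Int.ofNat 2, Int.ofNat 0, Int.ofNat 0],
  [Int.ofNat 0, Int.ofNat 0, Int.ofNat 0, Int.ofNat 0, Int.negSucc 1, Int.ofNat 0, Int.ofNat 0, Int.negSucc 1, Int.ofNat 0, Int.ofNat 0, Int.ofNat 0, Int.ofNat 2, Int.ofNat 0, Int.ofNat 0, Int.ofNat 2, Int.ofNat 0, Int.ofNat 0, Int.negSucc 1, Int.ofNat 2, Int.ofNat 0, Int.ofNat 0, Int.negSucc 1, Int.ofNat 2, Int.ofNat 0],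
  [Int.ofNat 0, Int.ofNat 0, Int.ofNat 0, Int.ofNat 0, Int.negSucc 1, Int.ofNat 0, Int.ofNat 2, Int.ofNat 0, Int.negSucc 1, Int.ofNat 0, Int.ofNat 0, Int.ofNat 0, Int.negSucc 1, Int.ofNat 0, Int.ofNat 2, Int.ofNat 0, Int.ofNat 0, Int.negSucc 1, Int.ofNat 0, Int.ofNat 2, Int.ofNat 0, Int.ofNat 0, Int.ofNat 2, Int.ofNat 0],
  [Int.ofNat 0, Int.ofNat 2, Int.negSucc 1, Int.ofNat 0, Int.ofNat 0, Int.ofNat 0, Int.ofNat 0, Int.ofNat 0, Int.negSucc 1, Int.ofNat 0, Int.ofNat 0, Int.negSucc 1, Int.ofNat 0, Int.ofNat 0, Int.ofNat 2, Int.ofNat 0, Int.negSucc 1, Int.ofNat 2, Int.ofNat 0, Int.ofNat 0, Int.ofNat 0, Int.ofNat 0, Int.ofNat 2, Int.ofNat 0],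
  [Int.ofNat 0, Int.negSucc 1, Int.ofNat 2, Int.negSucc 1, Int.ofNat 0, Int.negSucc 1, Int.ofNat 0, Int.ofNat 0, Int.ofNat 0, Int.ofNat 0, Int.ofNat 0, Int.ofNat 0, Int.ofNat 2, Int.ofNat 0, Int.ofNat 0, Int.ofNat 0, Int.negSucc 1, Int.ofNat 0, Int.ofNat 2, Int.ofNat 0, Int.ofNat 0, Int.ofNat 0, Int.ofNat 2, Int.ofNat 0],
  [Int.ofNat 0, Int.negSucc 1, Int.negSucc 1, Int.negSucc 1, Int.ofNat 0, Int.ofNat 2, Int.ofNat 0, Int.ofNat 0, Int.ofNat 0, Int.ofNat 0, Int.ofNat 0, Int.ofNat 0, Int.ofNat 2, Int.ofNat 0, Int.ofNat 0, Int.ofNat 0, Int.negSucc 1, Int.ofNat 0, Int.negSucc 1, Int.ofNat 0, Int.ofNat 0, Int.ofNat 0, Int.negSucc 1, Int.ofNat 0],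
  [Int.negSucc 1, Int.negSucc 1, Int.ofNat 0, Int.ofNat 2, Int.ofNat 0, Int.ofNat 0, Int.ofNat 0, Int.ofNat 0, Int.ofNat 0, Int.negSucc 1, Int.negSucc 1, Int.ofNat 0, Int.ofNat 0, Int.ofNat 0, Int.ofNat 0, Int.ofNat 0, Int.ofNat 0, Int.negSucc 1, Int.ofNat 0, Int.ofNat 2, Int.ofNat 0, Int.negSucc 1, Int.ofNat 0, Int.ofNat 0],
  [Int.negSucc 1, Int.negSucc 1, Int.ofNat 0, Int.ofNat 2, Int.ofNat 0, Int.ofNat 0, Int.ofNat 0, Int.ofNat 0, Int.ofNat 0, Int.ofNat 2, Int.ofNat 2, Int.ofNat 0, Int.ofNat 0, Int.ofNat 0, Int.ofNat 0, Int.ofNat 0, Int.ofNat 0, Int.negSucc 1, Int.ofNat 0, Int.ofNat 2, Int.ofNat 0, Int.negSucc 1, Int.ofNat 0, Int.ofNat 0],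
  [Int.ofNat 0, Int.ofNat 0, Int.negSucc 1, Int.ofNat 2, Int.ofNat 0, Int.ofNat 0, Int.ofNat 0, Int.ofNat 0, Int.ofNat 0, Int.ofNat 0, Int.ofNat 0, Int.ofNat 0, Int.ofNat 0, Int.ofNat 0, Int.ofNat 0, Int.negSucc 1, Int.ofNat 0, Int.negSucc 1, Int.ofNat 0, Int.ofNat 2, Int.negSucc 1, Int.negSucc 1, Int.ofNat 0, Int.negSucc 1],
  [Int.ofNat 0, Int.ofNat 0, Int.ofNat 0, Int.ofNat 2, Int.negSucc 1, Int.negSucc 1, Int.ofNat 0, Int.ofNat 0, Int.ofNat 0, Int.ofNat 0, Int.ofNat 0, Int.ofNat 2, Int.ofNat 0, Int.ofNat 0, Int.negSucc 1, Int.negSucc 1, Int.ofNat 0, Int.ofNat 0, Int.ofNat 0, Int.ofNat 0, Int.ofNat 0, Int.negSucc 1, Int.ofNat 0, Int.negSucc 1],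
  [Int.negSucc 0, Int.negSucc 0, Int.negSucc 0, Int.ofNat 3, Int.negSucc 0, Int.negSucc 0, Int.ofNat 1, Int.ofNat 1, Int.negSucc 0, Int.ofNat 1, Int.ofNat 1, Int.ofNat 1, Int.negSucc 0, Int.ofNat 1, Int.negSucc 0, Int.negSucc 0, Int.ofNat 1, Int.ofNat 1, Int.negSucc 0, Int.ofNat 1, Int.ofNat 1, Int.negSucc 0, Int.ofNat 1, Int.ofNat 1],
  [Int.ofNat 1, Int.negSucc 0, Int.ofNat 1, Int.negSucc 0, Int.negSucc 0, Int.negSucc 0, Int.ofNat 3, Int.negSucc 0, Int.negSucc 0, Int.ofNat 1, Int.ofNat 1, Int.negSucc 0, Int.ofNat 1, Int.ofNat 1, Int.ofNat 1, Int.negSucc 0, Int.ofNat 1, Int.negSucc 0, Int.negSucc 0, Int.ofNat 1, Int.ofNat 1, Int.negSucc 0, Int.ofNat 1, Int.ofNat 1],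
  [Int.ofNat 0, Int.ofNat 2, Int.ofNat 0, Int.ofNat 0, Int.negSucc 1, Int.ofNat 0, Int.ofNat 2, Int.negSucc 1, Int.ofNat 0, Int.ofNat 0, Int.ofNat 0, Int.ofNat 0, Int.ofNat 2, Int.ofNat 0, Int.ofNat 2, Int.negSucc 1, Int.ofNat 0, Int.ofNat 0, Int.ofNat 0, Int.ofNat 0, Int.ofNat 0, Int.negSucc 1, Int.ofNat 0, Int.ofNat 0],
  [Int.ofNat 2, Int.ofNat 0, Int.ofNat 0, Int.negSucc 1, Int.ofNat 0, Int.ofNat 2, Int.negSucc 1, Int.ofNat 0, Int.ofNat 0, Int.ofNat 0, Int.ofNat 0, Int.ofNat 2, Int.ofNat 0, Int.ofNat 2, Int.negSucc 1, Int.ofNat 0, Int.ofNat 0, Int.ofNat 0, Int.ofNat 0, Int.ofNat 0, Int.negSucc 1, Int.ofNat 0, Int.ofNat 0, Int.ofNat 0],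
  [Int.negSucc 1, Int.ofNat 0, Int.ofNat 0, Int.negSucc 1, Int.ofNat 0, Int.ofNat 2, Int.negSucc 1, Int.ofNat 0, Int.ofNat 0, Int.ofNat 0, Int.ofNat 0, Int.negSucc 1, Int.ofNat 0, Int.ofNat 2, Int.negSucc 1, Int.ofNat 0, Int.ofNat 0, Int.ofNat 0, Int.ofNat 0, Int.ofNat 0, Int.negSucc 1, Int.ofNat 0, Int.ofNat 0, Int.ofNat 0]]

set_option maxRecDepth 100000 in
theorem c1et21_chk : pmChk (List.replicate 14 [21, 0, 25, 26]).flatten nxL c1et21M 0 0 = true := by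
  decide +kernel

theorem c1et21_ne : wE letE2 (List.replicate 14 [21, 0, 25, 26]).flatten ≠ 1 ∧ wE letE2 (List.replicate 14 [21, 0, 25, 26]).flatten ≠ negElt :=
  ne_pm_of_chk nxL_mem c1et21_chk

set_option maxRecDepth 100000 in
def c1et22M : List (List ℤ) :=
  [[Int.negSucc 3, Int.ofNat 0, Int.ofNat 0, Int.ofNat 0, Int.ofNat 0, Int.ofNat 0, Int.ofNat 0, Int.ofNat 0, Int.ofNat 0, Int.ofNat 0, Int.ofNat 0, Int.ofNat 0, Int.ofNat 0, Int.ofNat 0, Int.ofNat 0, Int.ofNat 0, Int.ofNat 0, Int.ofNat 0, Int.ofNat 0, Int.ofNat 0, Int.ofNat 0, Int.ofNat 0, Int.ofNat 0, Int.ofNat 4],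
  [Int.ofNat 4, Int.ofNat 0, Int.ofNat 0, Int.ofNat 0, Int.ofNat 0, Int.ofNat 0, Int.ofNat 0, Int.ofNat 0, Int.ofNat 0, Int.ofNat 0, Int.ofNat 0, Int.ofNat 0, Int.ofNat 0, Int.ofNat 0, Int.ofNat 0, Int.ofNat 0, Int.ofNat 0, Int.ofNat 0, Int.ofNat 0, Int.ofNat 0, Int.ofNat 0, Int.ofNat 0, Int.ofNat 0, Int.ofNat 4],
  [Int.ofNat 0, Int.ofNat 4, Int.ofNat 0, Int.ofNat 0, Int.ofNat 0, Int.ofNat 0, Int.ofNat 0, Int.ofNat 0, Int.ofNat 0, Int.ofNat 0, Int.ofNat 0, Int.ofNat 0, Int.ofNat 0, Int.ofNat 0, Int.ofNat 0, Int.ofNat 0, Int.ofNat 0, Int.ofNat 0, Int.ofNat 0, Int.ofNat 0, Int.ofNat 0, Int.ofNat 0, Int.ofNat 0, Int.ofNat 4],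
  [Int.ofNat 4, Int.ofNat 0, Int.ofNat 4, Int.ofNat 0, Int.ofNat 0, Int.ofNat 0, Int.ofNat 0, Int.ofNat 0, Int.ofNat 0, Int.ofNat 0, Int.ofNat 0, Int.ofNat 0, Int.ofNat 0, Int.ofNat 0, Int.ofNat 0, Int.ofNat 0, Int.ofNat 0, Int.ofNat 0, Int.ofNat 0, Int.ofNat 0, Int.ofNat 0, Int.ofNat 0, Int.ofNat 0, Int.ofNat 0],
  [Int.ofNat 0, Int.ofNat 0, Int.ofNat 0, Int.ofNat 0, Int.ofNat 0, Int.ofNat 0, Int.ofNat 0, Int.ofNat 0, Int.ofNat 0, Int.ofNat 0, Int.ofNat 0, Int.ofNat 0, Int.ofNat 0, Int.ofNat 0, Int.ofNat 0, Int.ofNat 0, Int.ofNat 0, Int.ofNat 0, Int.ofNat 0, Int.ofNat 0, Int.ofNat 4, Int.ofNat 0, Int.ofNat 4, Int.ofNat 0],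
  [Int.ofNat 0, Int.ofNat 0, Int.ofNat 0, Int.ofNat 0, Int.negSucc 1, Int.ofNat 0, Int.ofNat 0, Int.ofNat 0, Int.ofNat 0, Int.negSucc 1, Int.negSucc 1, Int.ofNat 0, Int.ofNat 0, Int.negSucc 1, Int.ofNat 0, Int.negSucc 1, Int.negSucc 1, Int.ofNat 0, Int.ofNat 0, Int.ofNat 0, Int.ofNat 2, Int.ofNat 0, Int.ofNat 2, Int.ofNat 0],
  [Int.ofNat 0, Int.ofNat 0, Int.negSucc 1, Int.ofNat 0, Int.ofNat 0, Int.ofNat 0, Int.ofNat 0, Int.negSucc 1, Int.ofNat 0, Int.negSucc 1, Int.ofNat 2, Int.ofNat 0, Int.negSucc 1, Int.negSucc 1, Int.ofNat 2, Int.negSucc 1, Int.ofNat 0, Int.ofNat 0, Int.ofNat 0, Int.ofNat 0, Int.ofNat 0, Int.ofNat 0, Int.ofNat 0, Int.ofNat 0],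
  [Int.negSucc 0, Int.negSucc 0, Int.ofNat 1, Int.negSucc 0, Int.ofNat 1, Int.negSucc 0, Int.ofNat 1, Int.negSucc 0, Int.ofNat 1, Int.negSucc 0, Int.ofNat 3, Int.ofNat 1, Int.negSucc 0, Int.negSucc 0, Int.ofNat 1, Int.negSucc 0, Int.ofNat 1, Int.negSucc 0, Int.ofNat 1, Int.ofNat 1, Int.ofNat 1, Int.ofNat 1, Int.ofNat 1, Int.negSucc 0],
  [Int.negSucc 0, Int.negSucc 0, Int.negSucc 0, Int.negSucc 0, Int.ofNat 1, Int.ofNat 1, Int.negSucc 0, Int.negSucc 0, Int.ofNat 1, Int.ofNat 1, Int.negSucc 2, Int.ofNat 1, Int.negSucc 0, Int.negSucc 0, Int.ofNat 1, Int.ofNat 1, Int.ofNat 1, Int.negSucc 0, Int.negSucc 0, Int.ofNat 1, Int.ofNat 1, Int.ofNat 1, Int.negSucc 0, Int.negSucc 0],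
  [Int.negSucc 2, Int.ofNat 1, Int.ofNat 1, Int.ofNat 1, Int.ofNat 1, Int.negSucc 0, Int.ofNat 1, Int.negSucc 0, Int.ofNat 1, Int.ofNat 1, Int.negSucc 0, Int.negSucc 0, Int.ofNat 1, Int.ofNat 1, Int.negSucc 0, Int.negSucc 0, Int.ofNat 1, Int.negSucc 0, Int.ofNat 1, Int.negSucc 0, Int.negSucc 0, Int.negSucc 0, Int.negSucc 0, Int.negSucc 0],
  [Int.ofNat 3, Int.negSucc 0, Int.negSucc 0, Int.negSucc 0, Int.negSucc 0, Int.negSucc 0, Int.negSucc 0, Int.negSucc 0, Int.negSucc 0, Int.negSucc 0, Int.negSucc 0, Int.negSucc 0, Int.negSucc 0, Int.negSucc 0, Int.negSucc 0, Int.negSucc 0, Int.negSucc 0, Int.negSucc 0, Int.negSucc 0, Int.negSucc 0, Int.negSucc 0, Int.negSucc 0, Int.negSucc 0, Int.negSucc 0],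
  [Int.negSucc 0, Int.negSucc 0, Int.negSucc 0, Int.negSucc 0, Int.negSucc 0, Int.negSucc 0, Int.negSucc 0, Int.negSucc 0, Int.negSucc 0, Int.negSucc 0, Int.negSucc 0, Int.negSucc 0, Int.negSucc 0, Int.negSucc 0, Int.negSucc 0, Int.negSucc 0, Int.negSucc 0, Int.negSucc 0, Int.negSucc 0, Int.negSucc 0, Int.negSucc 0, Int.negSucc 0, Int.negSucc 0, Int.ofNat 3],
  [Int.ofNat 1, Int.negSucc 0, Int.ofNat 1, Int.negSucc 0, Int.negSucc 0, Int.negSucc 0, Int.negSucc 0, Int.ofNat 1, Int.negSucc 0, Int.ofNat 1, Int.ofNat 1, Int.ofNat 1, Int.negSucc 0, Int.negSucc 0, Int.negSucc 0, Int.negSucc 0, Int.negSucc 0, Int.negSucc 0, Int.ofNat 1, Int.negSucc 0, Int.negSucc 0, Int.ofNat 1, Int.negSucc 0, Int.ofNat 3],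
  [Int.negSucc 0, Int.ofNat 1, Int.negSucc 0, Int.ofNat 1, Int.negSucc 0, Int.negSucc 0, Int.negSucc 0, Int.negSucc 0, Int.ofNat 1, Int.negSucc 0, Int.ofNat 1, Int.ofNat 1, Int.ofNat 1, Int.negSucc 0, Int.negSucc 0, Int.negSucc 0, Int.negSucc 0, Int.negSucc 0, Int.negSucc 0, Int.ofNat 1, Int.negSucc 0, Int.negSucc 0, Int.ofNat 1, Int.ofNat 3],
  [Int.ofNat 2, Int.ofNat 0, Int.ofNat 2, Int.ofNat 2, Int.ofNat 0, Int.ofNat 0, Int.ofNat 0, Int.ofNat 0, Int.ofNat 0, Int.ofNat 0, Int.ofNat 2, Int.ofNat 0, Int.ofNat 0, Int.ofNat 0, Int.ofNat 0, Int.ofNat 0, Int.ofNat 0, Int.ofNat 0, Int.negSucc 1, Int.ofNat 2, Int.ofNat 0, Int.ofNat 0, Int.ofNat 2, Int.negSucc 1],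
  [Int.ofNat 2, Int.ofNat 0, Int.ofNat 0, Int.ofNat 0, Int.ofNat 0, Int.ofNat 0, Int.ofNat 0, Int.ofNat 2, Int.ofNat 0, Int.ofNat 0, Int.ofNat 0, Int.ofNat 0, Int.ofNat 0, Int.ofNat 0, Int.ofNat 0, Int.negSucc 1, Int.ofNat 2, Int.ofNat 0, Int.ofNat 0, Int.ofNat 2, Int.ofNat 2, Int.ofNat 0, Int.ofNat 2, Int.negSucc 1],
  [Int.negSucc 1, Int.ofNat 0, Int.ofNat 0, Int.ofNat 0, Int.negSucc 1, Int.ofNat 0, Int.negSucc 1, Int.ofNat 0, Int.ofNat 0, Int.ofNat 0, Int.ofNat 0, Int.ofNat 0, Int.ofNat 0, Int.negSucc 1, Int.ofNat 0, Int.negSucc 1, Int.ofNat 0, Int.ofNat 0, Int.ofNat 0, Int.ofNat 0, Int.ofNat 2, Int.negSucc 1, Int.ofNat 0, Int.ofNat 2],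
  [Int.negSucc 1, Int.negSucc 1, Int.negSucc 1, Int.ofNat 0, Int.ofNat 0, Int.ofNat 0, Int.ofNat 0, Int.ofNat 0, Int.ofNat 0, Int.negSucc 1, Int.ofNat 2, Int.ofNat 0, Int.ofNat 0, Int.ofNat 0, Int.ofNat 0, Int.negSucc 1, Int.ofNat 0, Int.ofNat 0, Int.ofNat 0, Int.ofNat 0, Int.negSucc 1, Int.ofNat 0, Int.ofNat 0, Int.ofNat 2],
  [Int.ofNat 0, Int.ofNat 0, Int.ofNat 0, Int.ofNat 0, Int.ofNat 0, Int.ofNat 0, Int.ofNat 0, Int.ofNat 0, Int.ofNat 0, Int.ofNat 0, Int.ofNat 4, Int.ofNat 0, Int.ofNat 0, Int.ofNat 0, Int.ofNat 0, Int.ofNat 0, Int.ofNat 0, Int.ofNat 0, Int.ofNat 0, Int.ofNat 0, Int.ofNat 0, Int.ofNat 0, Int.ofNat 0, Int.negSucc 3],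
  [Int.ofNat 0, Int.ofNat 0, Int.ofNat 0, Int.ofNat 0, Int.ofNat 0, Int.ofNat 0, Int.ofNat 0, Int.ofNat 0, Int.ofNat 0, Int.ofNat 0, Int.negSucc 3, Int.ofNat 0, Int.ofNat 0, Int.ofNat 0, Int.ofNat 0, Int.ofNat 0, Int.ofNat 0, Int.ofNat 0, Int.ofNat 0, Int.ofNat 0, Int.ofNat 0, Int.ofNat 0, Int.ofNat 0, Int.negSucc 3],
  [Int.ofNat 0, Int.ofNat 0, Int.ofNat 0, Int.ofNat 0, Int.ofNat 0, Int.ofNat 0, Int.ofNat 0, Int.negSucc 3, Int.ofNat 0, Int.ofNat 0, Int.ofNat 0, Int.ofNat 0, Int.ofNat 0, Int.ofNat 0, Int.ofNat 0, Int.ofNat 0, Int.ofNat 0, Int.ofNat 0, Int.ofNat 0, Int.ofNat 0, Int.ofNat 0, Int.ofNat 0, Int.ofNat 0, Int.negSucc 3],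
  [Int.ofNat 0, Int.ofNat 0, Int.ofNat 0, Int.ofNat 0, Int.ofNat 0, Int.ofNat 0, Int.ofNat 0, Int.negSucc 3, Int.ofNat 0, Int.ofNat 0, Int.ofNat 0, Int.ofNat 0, Int.ofNat 0, Int.ofNat 0, Int.ofNat 0, Int.ofNat 0, Int.ofNat 0, Int.ofNat 0, Int.ofNat 0, Int.ofNat 0, Int.ofNat 0, Int.ofNat 0, Int.ofNat 0, Int.negSucc 3],
  [Int.negSucc 1, Int.negSucc 1, Int.negSucc 1, Int.ofNat 0, Int.ofNat 0, Int.ofNat 0, Int.ofNat 2, Int.negSucc 1, Int.ofNat 0, Int.ofNat 0, Int.ofNat 0, Int.ofNat 0, Int.ofNat 0, Int.ofNat 0, Int.ofNat 0, Int.ofNat 0, Int.ofNat 0, Int.ofNat 0, Int.ofNat 0, Int.ofNat 2, Int.ofNat 0, Int.ofNat 2, Int.ofNat 0, Int.ofNat 2],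
  [Int.negSucc 1, Int.ofNat 0, Int.ofNat 2, Int.ofNat 0, Int.negSucc 1, Int.ofNat 2, Int.negSucc 1, Int.ofNat 0, Int.ofNat 0, Int.ofNat 0, Int.negSucc 1, Int.ofNat 2, Int.ofNat 0, Int.ofNat 0, Int.ofNat 0, Int.ofNat 0, Int.ofNat 0, Int.ofNat 0, Int.ofNat 0, Int.ofNat 0, Int.ofNat 0, Int.ofNat 0, Int.ofNat 0, Int.ofNat 2],
  [Int.ofNat 3, Int.ofNat 1, Int.negSucc 0, Int.negSucc 0, Int.negSucc 0, Int.ofNat 1, Int.negSucc 0, Int.ofNat 1, Int.negSucc 0, Int.ofNat 1, Int.negSucc 0, Int.ofNat 1, Int.negSucc 0, Int.ofNat 1, Int.negSucc 0, Int.ofNat 1, Int.ofNat 1, Int.negSucc 0, Int.negSucc 0, Int.ofNat 1, Int.ofNat 1, Int.ofNat 1, Int.ofNat 1, Int.negSucc 0],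
  [Int.ofNat 1, Int.ofNat 1, Int.ofNat 1, Int.ofNat 3, Int.ofNat 1, Int.negSucc 0, Int.negSucc 0, Int.negSucc 0, Int.ofNat 1, Int.negSucc 0, Int.ofNat 1, Int.negSucc 0, Int.ofNat 1, Int.negSucc 0, Int.ofNat 1, Int.negSucc 0, Int.ofNat 1, Int.negSucc 0, Int.ofNat 1, Int.ofNat 1, Int.negSucc 0, Int.negSucc 0, Int.ofNat 1, Int.negSucc 0],
  [Int.ofNat 0, Int.ofNat 0, Int.ofNat 0, Int.ofNat 2, Int.ofNat 0, Int.negSucc 1, Int.ofNat 0, Int.ofNat 0, Int.ofNat 0, Int.ofNat 0, Int.ofNat 2, Int.negSucc 1, Int.ofNat 0, Int.negSucc 1, Int.ofNat 0, Int.ofNat 0, Int.ofNat 0, Int.negSucc 1, Int.ofNat 0, Int.ofNat 2, Int.ofNat 0, Int.ofNat 0, Int.ofNat 0, Int.ofNat 2],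
  [Int.ofNat 0, Int.ofNat 0, Int.ofNat 2, Int.ofNat 0, Int.negSucc 1, Int.ofNat 0, Int.ofNat 0, Int.ofNat 0, Int.ofNat 0, Int.ofNat 2, Int.negSucc 1, Int.ofNat 0, Int.negSucc 1, Int.ofNat 0, Int.ofNat 0, Int.ofNat 0, Int.negSucc 1, Int.ofNat 0, Int.ofNat 2, Int.ofNat 0, Int.ofNat 0, Int.ofNat 0, Int.ofNat 0, Int.ofNat 2],
  [Int.ofNat 0, Int.ofNat 0, Int.negSucc 1, Int.ofNat 0, Int.negSucc 1, Int.ofNat 0, Int.ofNat 0, Int.ofNat 0, Int.ofNat 0, Int.negSucc 1, Int.ofNat 2, Int.ofNat 0, Int.negSucc 1, Int.ofNat 0, Int.ofNat 0, Int.ofNat 0, Int.negSucc 1, Int.ofNat 0, Int.negSucc 1, Int.ofNat 0, Int.ofNat 0, Int.ofNat 0, Int.ofNat 0, Int.ofNat 2],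
  [Int.ofNat 0, Int.negSucc 1, Int.negSucc 1, Int.ofNat 0, Int.ofNat 0, Int.ofNat 2, Int.negSucc 1, Int.ofNat 0, Int.negSucc 1, Int.negSucc 1, Int.ofNat 0, Int.ofNat 0, Int.ofNat 0, Int.ofNat 0, Int.ofNat 0, Int.ofNat 0, Int.negSucc 1, Int.ofNat 0, Int.ofNat 0, Int.ofNat 0, Int.ofNat 0, Int.ofNat 0, Int.ofNat 0, Int.ofNat 2],
  [Int.ofNat 0, Int.negSucc 1, Int.ofNat 2, Int.ofNat 0, Int.ofNat 0, Int.ofNat 2, Int.negSucc 1, Int.ofNat 0, Int.negSucc 1, Int.ofNat 2, Int.ofNat 0, Int.ofNat 0, Int.ofNat 0, Int.ofNat 0, Int.ofNat 0, Int.ofNat 0, Int.negSucc 1, Int.ofNat 0, Int.ofNat 0, Int.ofNat 0, Int.ofNat 0, Int.ofNat 0, Int.ofNat 0, Int.ofNat 2],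
  [Int.ofNat 0, Int.ofNat 0, Int.negSucc 1, Int.ofNat 2, Int.ofNat 0, Int.ofNat 0, Int.ofNat 2, Int.negSucc 1, Int.ofNat 0, Int.negSucc 1, Int.ofNat 2, Int.ofNat 0, Int.ofNat 0, Int.ofNat 0, Int.ofNat 0, Int.ofNat 0, Int.ofNat 0, Int.negSucc 1, Int.ofNat 0, Int.ofNat 0, Int.ofNat 0, Int.ofNat 0, Int.ofNat 0, Int.ofNat 2],
  [Int.ofNat 0, Int.ofNat 0, Int.ofNat 2, Int.ofNat 2, Int.ofNat 0, Int.ofNat 0, Int.ofNat 2, Int.negSucc 1, Int.ofNat 0, Int.negSucc 1, Int.ofNat 2, Int.ofNat 0, Int.ofNat 0, Int.ofNat 0, Int.ofNat 0, Int.ofNat 0, Int.ofNat 0, Int.negSucc 1, Int.ofNat 0, Int.ofNat 0, Int.ofNat 0, Int.ofNat 0, Int.ofNat 0, Int.negSucc 1],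
  [Int.ofNat 2, Int.ofNat 0, Int.ofNat 0, Int.ofNat 2, Int.negSucc 1, Int.ofNat 0, Int.negSucc 1, Int.ofNat 2, Int.ofNat 0, Int.ofNat 0, Int.ofNat 0, Int.ofNat 0, Int.ofNat 0, Int.ofNat 0, Int.negSucc 1, Int.ofNat 0, Int.ofNat 0, Int.ofNat 0, Int.ofNat 0, Int.ofNat 0, Int.ofNat 0, Int.ofNat 0, Int.ofNat 2, Int.negSucc 1],
  [Int.negSucc 1, Int.ofNat 0, Int.ofNat 0, Int.ofNat 2, Int.negSucc 1, Int.ofNat 0, Int.negSucc 1, Int.ofNat 2, Int.ofNat 0, Int.ofNat 0, Int.ofNat 0, Int.ofNat 0, Int.ofNat 0, Int.ofNat 0, Int.negSucc 1, Int.ofNat 0, Int.ofNat 0, Int.ofNat 0, Int.ofNat 0, Int.ofNat 0, Int.ofNat 0, Int.ofNat 0, Int.ofNat 2, Int.ofNat 2],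
  [Int.negSucc 1, Int.negSucc 1, Int.negSucc 1, Int.ofNat 2, Int.ofNat 0, Int.ofNat 2, Int.ofNat 0, Int.ofNat 0, Int.ofNat 0, Int.ofNat 0, Int.ofNat 0, Int.ofNat 0, Int.ofNat 0, Int.ofNat 0, Int.ofNat 2, Int.ofNat 0, Int.ofNat 0, Int.negSucc 1, Int.ofNat 0, Int.ofNat 0, Int.ofNat 0, Int.ofNat 0, Int.ofNat 0, Int.ofNat 2],
  [Int.ofNat 0, Int.ofNat 0, Int.ofNat 0, Int.ofNat 0, Int.ofNat 0, Int.ofNat 0, Int.ofNat 0, Int.ofNat 0, Int.ofNat 0, Int.ofNat 0, Int.ofNat 0, Int.ofNat 0, Int.ofNat 0, Int.ofNat 0, Int.ofNat 0, Int.ofNat 0, Int.ofNat 0, Int.negSucc 3, Int.ofNat 0, Int.ofNat 0, Int.ofNat 0, Int.ofNat 0, Int.ofNat 0, Int.negSucc 3],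
  [Int.ofNat 0, Int.ofNat 0, Int.ofNat 0, Int.ofNat 0, Int.ofNat 0, Int.ofNat 0, Int.ofNat 0, Int.ofNat 0, Int.ofNat 0, Int.ofNat 0, Int.ofNat 0, Int.ofNat 0, Int.ofNat 0, Int.ofNat 0, Int.ofNat 0, Int.ofNat 0, Int.ofNat 0, Int.negSucc 3, Int.ofNat 0, Int.ofNat 0, Int.ofNat 0, Int.ofNat 0, Int.ofNat 0, Int.negSucc 3],
  [Int.ofNat 0, Int.ofNat 0, Int.ofNat 0, Int.ofNat 0, Int.ofNat 0, Int.ofNat 0, Int.ofNat 0, Int.ofNat 0, Int.ofNat 0, Int.ofNat 0, Int.ofNat 0, Int.ofNat 0, Int.ofNat 0, Int.ofNat 0, Int.negSucc 3, Int.ofNat 0, Int.ofNat 0, Int.ofNat 0, Int.ofNat 0, Int.ofNat 0, Int.ofNat 0, Int.ofNat 0, Int.ofNat 0, Int.negSucc 3],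
  [Int.ofNat 0, Int.ofNat 0, Int.ofNat 0, Int.ofNat 0, Int.ofNat 0, Int.ofNat 0, Int.ofNat 0, Int.ofNat 0, Int.ofNat 0, Int.ofNat 0, Int.ofNat 0, Int.ofNat 0, Int.ofNat 0, Int.ofNat 0, Int.negSucc 3, Int.ofNat 0, Int.ofNat 0, Int.ofNat 0, Int.ofNat 0, Int.ofNat 0, Int.ofNat 0, Int.ofNat 0, Int.ofNat 0, Int.negSucc 3],
  [Int.negSucc 3, Int.ofNat 0, Int.ofNat 0, Int.ofNat 0, Int.ofNat 0, Int.ofNat 0, Int.ofNat 0, Int.ofNat 0, Int.ofNat 0, Int.ofNat 0, Int.ofNat 0, Int.ofNat 0, Int.ofNat 0, Int.ofNat 0, Int.ofNat 0, Int.ofNat 0, Int.ofNat 0, Int.ofNat 0, Int.negSucc 3, Int.ofNat 0, Int.ofNat 0, Int.ofNat 0, Int.ofNat 0, Int.ofNat 0],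
  [Int.ofNat 4, Int.ofNat 0, Int.ofNat 0, Int.ofNat 0, Int.ofNat 0, Int.ofNat 0, Int.ofNat 0, Int.ofNat 0, Int.ofNat 0, Int.ofNat 0, Int.ofNat 0, Int.ofNat 0, Int.ofNat 0, Int.ofNat 0, Int.ofNat 0, Int.ofNat 0, Int.ofNat 0, Int.ofNat 0, Int.ofNat 4, Int.ofNat 0, Int.ofNat 0, Int.ofNat 0, Int.ofNat 0, Int.ofNat 0],
  [Int.ofNat 0, Int.ofNat 4, Int.ofNat 0, Int.ofNat 0, Int.ofNat 0, Int.ofNat 0, Int.ofNat 0, Int.ofNat 0, Int.ofNat 0, Int.ofNat 0, Int.ofNat 0, Int.ofNat 0, Int.ofNat 0, Int.ofNat 0, Int.ofNat 0, Int.ofNat 0, Int.ofNat 0, Int.ofNat 0, Int.ofNat 0, Int.ofNat 4, Int.ofNat 0, Int.ofNat 0, Int.ofNat 0, Int.ofNat 0],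
  [Int.ofNat 2, Int.negSucc 1, Int.ofNat 2, Int.ofNat 0, Int.ofNat 0, Int.ofNat 0, Int.negSucc 1, Int.negSucc 1, Int.ofNat 0, Int.ofNat 0, Int.ofNat 0, Int.ofNat 0, Int.ofNat 0, Int.ofNat 0, Int.ofNat 0, Int.ofNat 0, Int.ofNat 0, Int.ofNat 0, Int.ofNat 0, Int.ofNat 2, Int.ofNat 0, Int.negSucc 1, Int.ofNat 0, Int.ofNat 2],
  [Int.ofNat 0, Int.ofNat 0, Int.ofNat 0, Int.negSucc 1, Int.negSucc 1, Int.ofNat 0, Int.ofNat 0, Int.ofNat 0, Int.ofNat 0, Int.ofNat 0, Int.ofNat 0, Int.ofNat 0, Int.ofNat 0, Int.ofNat 0, Int.ofNat 0, Int.ofNat 0, Int.ofNat 2, Int.ofNat 0, Int.negSucc 1, Int.ofNat 0, Int.ofNat 2, Int.negSucc 1, Int.ofNat 2, Int.ofNat 2],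
  [Int.ofNat 1, Int.ofNat 1, Int.ofNat 1, Int.negSucc 0, Int.negSucc 2, Int.ofNat 1, Int.ofNat 1, Int.ofNat 1, Int.ofNat 1, Int.negSucc 0, Int.negSucc 0, Int.ofNat 1, Int.ofNat 1, Int.negSucc 0, Int.ofNat 1, Int.negSucc 0, Int.ofNat 1, Int.ofNat 1, Int.negSucc 0, Int.ofNat 1, Int.ofNat 1, Int.negSucc 0, Int.ofNat 1, Int.negSucc 0],
  [Int.ofNat 1, Int.ofNat 1, Int.negSucc 2, Int.negSucc 0, Int.negSucc 0, Int.ofNat 1, Int.ofNat 1, Int.negSucc 0, Int.ofNat 1, Int.negSucc 0, Int.ofNat 1, Int.ofNat 1, Int.negSucc 0, Int.ofNat 1, Int.ofNat 1, Int.negSucc 0, Int.ofNat 1, Int.ofNat 1, Int.ofNat 1, Int.ofNat 1, Int.negSucc 0, Int.ofNat 1, Int.ofNat 1, Int.negSucc 0],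
  [Int.negSucc 1, Int.negSucc 1, Int.ofNat 2, Int.negSucc 1, Int.negSucc 1, Int.ofNat 0, Int.ofNat 0, Int.negSucc 1, Int.ofNat 0, Int.ofNat 0, Int.ofNat 2, Int.ofNat 0, Int.negSucc 1, Int.ofNat 0, Int.ofNat 0, Int.ofNat 0, Int.ofNat 0, Int.ofNat 0, Int.ofNat 0, Int.ofNat 0, Int.ofNat 0, Int.ofNat 0, Int.ofNat 0, Int.ofNat 0],
  [Int.negSucc 1, Int.negSucc 1, Int.negSucc 1, Int.negSucc 1, Int.negSucc 1, Int.ofNat 0, Int.ofNat 0, Int.negSucc 1, Int.ofNat 0, Int.ofNat 0, Int.negSucc 1, Int.ofNat 0, Int.negSucc 1, Int.ofNat 0, Int.ofNat 0, Int.ofNat 0, Int.ofNat 0, Int.ofNat 0, Int.ofNat 0, Int.ofNat 0, Int.ofNat 0, Int.ofNat 0, Int.ofNat 0, Int.ofNat 0],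
  [Int.ofNat 0, Int.ofNat 0, Int.ofNat 0, Int.negSucc 1, Int.ofNat 0, Int.negSucc 1, Int.negSucc 1, Int.negSucc 1, Int.ofNat 0, Int.negSucc 1, Int.ofNat 0, Int.ofNat 0, Int.ofNat 0, Int.ofNat 0, Int.ofNat 0, Int.ofNat 0, Int.negSucc 1, Int.ofNat 0, Int.ofNat 0, Int.ofNat 0, Int.negSucc 1, Int.ofNat 0, Int.negSucc 1, Int.ofNat 0],
  [Int.ofNat 0, Int.ofNat 0, Int.ofNat 0, Int.negSucc 1, Int.ofNat 0, Int.ofNat 2, Int.ofNat 2, Int.negSucc 1, Int.ofNat 0, Int.ofNat 2, Int.ofNat 0, Int.ofNat 0, Int.ofNat 0, Int.ofNat 0, Int.ofNat 0, Int.ofNat 0, Int.negSucc 1, Int.ofNat 0, Int.ofNat 0, Int.ofNat 0, Int.negSucc 1, Int.ofNat 0, Int.ofNat 2, Int.ofNat 0],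
  [Int.ofNat 0, Int.ofNat 0, Int.ofNat 0, Int.negSucc 1, Int.ofNat 0, Int.ofNat 2, Int.ofNat 2, Int.negSucc 1, Int.ofNat 0, Int.ofNat 2, Int.ofNat 0, Int.ofNat 0, Int.ofNat 0, Int.ofNat 0, Int.ofNat 0, Int.ofNat 0, Int.negSucc 1, Int.ofNat 0, Int.ofNat 0, Int.ofNat 0, Int.negSucc 1, Int.ofNat 0, Int.ofNat 2, Int.ofNat 0],
  [Int.ofNat 0, Int.ofNat 0, Int.ofNat 2, Int.negSucc 1, Int.ofNat 0, Int.ofNat 0, Int.ofNat 0, Int.ofNat 2, Int.negSucc 1, Int.ofNat 0, Int.negSucc 1, Int.ofNat 0, Int.ofNat 0, Int.ofNat 2, Int.ofNat 0, Int.ofNat 0, Int.ofNat 0, Int.ofNat 0, Int.ofNat 0, Int.ofNat 2, Int.ofNat 0, Int.negSucc 1, Int.ofNat 0, Int.ofNat 0],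
  [Int.ofNat 1, Int.ofNat 1, Int.negSucc 0, Int.negSucc 0, Int.negSucc 0, Int.ofNat 1, Int.negSucc 0, Int.ofNat 1, Int.negSucc 0, Int.ofNat 1, Int.negSucc 0, Int.ofNat 1, Int.ofNat 1, Int.ofNat 1, Int.ofNat 1, Int.ofNat 1, Int.negSucc 0, Int.ofNat 1, Int.ofNat 1, Int.ofNat 1, Int.ofNat 1, Int.negSucc 2, Int.negSucc 0, Int.ofNat 1],
  [Int.ofNat 1, Int.negSucc 2, Int.negSucc 0, Int.ofNat 1, Int.ofNat 1, Int.negSucc 0, Int.negSucc 0, Int.negSucc 0, Int.ofNat 1, Int.negSucc 0, Int.ofNat 1, Int.negSucc 0, Int.ofNat 1, Int.negSucc 0, Int.ofNat 1, Int.ofNat 1, Int.ofNat 1, Int.ofNat 1, Int.ofNat 1, Int.negSucc 0, Int.ofNat 1, Int.ofNat 1, Int.ofNat 1, Int.ofNat 1],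
  [Int.negSucc 1, Int.ofNat 2, Int.ofNat 0, Int.ofNat 0, Int.ofNat 0, Int.negSucc 1, Int.ofNat 0, Int.ofNat 0, Int.ofNat 0, Int.negSucc 1, Int.ofNat 0, Int.negSucc 1, Int.ofNat 0, Int.negSucc 1, Int.ofNat 0, Int.ofNat 0, Int.ofNat 0, Int.ofNat 0, Int.ofNat 0, Int.ofNat 0, Int.ofNat 0, Int.ofNat 2, Int.ofNat 0, Int.negSucc 1],
  [Int.ofNat 2, Int.ofNat 0, Int.ofNat 0, Int.ofNat 0, Int.negSucc 1, Int.ofNat 0, Int.ofNat 0, Int.ofNat 0, Int.negSucc 1, Int.ofNat 0, Int.negSucc 1, Int.ofNat 0, Int.negSucc 1, Int.ofNat 0, Int.ofNat 0, Int.ofNat 0, Int.ofNat 0, Int.ofNat 0, Int.ofNat 0, Int.ofNat 0, Int.ofNat 2, Int.ofNat 0, Int.negSucc 1, Int.negSucc 1],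
  [Int.negSucc 1, Int.ofNat 0, Int.ofNat 0, Int.ofNat 0, Int.negSucc 1, Int.ofNat 0, Int.ofNat 0, Int.ofNat 0, Int.negSucc 1, Int.ofNat 0, Int.ofNat 2, Int.ofNat 0, Int.negSucc 1, Int.ofNat 0, Int.ofNat 0, Int.ofNat 0, Int.ofNat 0, Int.ofNat 0, Int.ofNat 0, Int.ofNat 0, Int.ofNat 2, Int.ofNat 0, Int.negSucc 1, Int.negSucc 1],
  [Int.negSucc 1, Int.ofNat 0, Int.ofNat 0, Int.ofNat 0, Int.ofNat 0, Int.ofNat 2, Int.negSucc 1, Int.ofNat 2, Int.ofNat 0, Int.ofNat 0, Int.ofNat 0, Int.ofNat 0, Int.ofNat 0, Int.negSucc 1, Int.ofNat 0, Int.ofNat 0, Int.negSucc 1, Int.negSucc 1, Int.ofNat 0, Int.ofNat 0, Int.ofNat 0, Int.ofNat 0, Int.ofNat 0, Int.negSucc 1],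
  [Int.ofNat 2, Int.ofNat 0, Int.ofNat 0, Int.ofNat 0, Int.ofNat 0, Int.ofNat 2, Int.negSucc 1, Int.negSucc 1, Int.ofNat 0, Int.ofNat 0, Int.ofNat 0, Int.ofNat 0, Int.ofNat 0, Int.negSucc 1, Int.ofNat 0, Int.ofNat 0, Int.negSucc 1, Int.negSucc 1, Int.ofNat 0, Int.ofNat 0, Int.ofNat 0, Int.ofNat 0, Int.ofNat 0, Int.negSucc 1],
  [Int.ofNat 0, Int.ofNat 2, Int.ofNat 0, Int.ofNat 0, Int.ofNat 0, Int.ofNat 0, Int.ofNat 2, Int.negSucc 1, Int.negSucc 1, Int.ofNat 0, Int.ofNat 0, Int.ofNat 0, Int.ofNat 0, Int.ofNat 0, Int.negSucc 1, Int.ofNat 0, Int.ofNat 0, Int.negSucc 1, Int.negSucc 1, Int.ofNat 0, Int.ofNat 0, Int.ofNat 0, Int.ofNat 0, Int.negSucc 1],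
  [Int.ofNat 0, Int.negSucc 1, Int.ofNat 0, Int.ofNat 2, Int.ofNat 0, Int.ofNat 2, Int.ofNat 2, Int.negSucc 1, Int.ofNat 0, Int.ofNat 0, Int.ofNat 0, Int.ofNat 2, Int.ofNat 2, Int.ofNat 0, Int.ofNat 0, Int.ofNat 0, Int.ofNat 0, Int.ofNat 0, Int.ofNat 0, Int.ofNat 0, Int.ofNat 0, Int.ofNat 0, Int.ofNat 0, Int.ofNat 2],
  [Int.ofNat 2, Int.ofNat 0, Int.ofNat 2, Int.ofNat 2, Int.negSucc 1, Int.ofNat 0, Int.ofNat 0, Int.ofNat 0, Int.ofNat 2, Int.ofNat 2, Int.ofNat 0, Int.ofNat 0, Int.ofNat 0, Int.ofNat 0, Int.ofNat 0, Int.ofNat 0, Int.ofNat 0, Int.ofNat 0, Int.ofNat 0, Int.ofNat 0, Int.ofNat 0, Int.negSucc 1, Int.ofNat 0, Int.ofNat 2],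
  [Int.ofNat 1, Int.ofNat 3, Int.ofNat 1, Int.ofNat 1, Int.negSucc 0, Int.negSucc 0, Int.ofNat 1, Int.ofNat 1, Int.ofNat 1, Int.ofNat 1, Int.negSucc 0, Int.negSucc 0, Int.negSucc 0, Int.ofNat 1, Int.negSucc 0, Int.negSucc 0, Int.ofNat 1, Int.negSucc 0, Int.negSucc 0, Int.ofNat 1, Int.negSucc 0, Int.negSucc 0, Int.ofNat 1, Int.ofNat 1],
  [Int.ofNat 1, Int.ofNat 1, Int.negSucc 0, Int.ofNat 1, Int.negSucc 0, Int.ofNat 1, Int.ofNat 1, Int.negSucc 0, Int.negSucc 0, Int.ofNat 1, Int.negSucc 0, Int.negSucc 0, Int.ofNat 1, Int.ofNat 1, Int.ofNat 1, Int.negSucc 0, Int.ofNat 1, Int.negSucc 0, Int.ofNat 3, Int.negSucc 0, Int.negSucc 0, Int.negSucc 0, Int.ofNat 1, Int.ofNat 1],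
  [Int.ofNat 0, Int.ofNat 0, Int.ofNat 2, Int.ofNat 0, Int.negSucc 1, Int.ofNat 0, Int.ofNat 2, Int.ofNat 0, Int.negSucc 1, Int.ofNat 2, Int.ofNat 0, Int.negSucc 1, Int.ofNat 0, Int.ofNat 0, Int.ofNat 0, Int.ofNat 0, Int.ofNat 0, Int.negSucc 1, Int.ofNat 2, Int.ofNat 0, Int.ofNat 0, Int.ofNat 0, Int.ofNat 0, Int.ofNat 0],
  [Int.ofNat 0, Int.ofNat 0, Int.negSucc 1, Int.ofNat 0, Int.negSucc 1, Int.ofNat 0, Int.negSucc 1, Int.ofNat 0, Int.negSucc 1, Int.negSucc 1, Int.ofNat 0, Int.negSucc 1, Int.ofNat 0, Int.ofNat 0, Int.ofNat 0, Int.ofNat 0, Int.ofNat 0, Int.negSucc 1, Int.negSucc 1, Int.ofNat 0, Int.ofNat 0, Int.ofNat 0, Int.ofNat 0, Int.ofNat 0],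
  [Int.ofNat 0, Int.ofNat 0, Int.negSucc 1, Int.negSucc 1, Int.ofNat 0, Int.negSucc 1, Int.ofNat 0, Int.ofNat 0, Int.ofNat 0, Int.ofNat 0, Int.ofNat 0, Int.ofNat 0, Int.ofNat 0, Int.negSucc 1, Int.negSucc 1, Int.negSucc 1, Int.ofNat 0, Int.ofNat 0, Int.negSucc 1, Int.negSucc 1, Int.ofNat 0, Int.ofNat 0, Int.ofNat 0, Int.ofNat 0],
  [Int.ofNat 0, Int.ofNat 0, Int.ofNat 2, Int.ofNat 2, Int.ofNat 0, Int.negSucc 1, Int.ofNat 0, Int.ofNat 0, Int.ofNat 0, Int.ofNat 0, Int.ofNat 0, Int.ofNat 0, Int.ofNat 0, Int.ofNat 2, Int.negSucc 1, Int.negSucc 1, Int.ofNat 0, Int.ofNat 0, Int.ofNat 2, Int.negSucc 1, Int.ofNat 0, Int.ofNat 0, Int.ofNat 0, Int.ofNat 0],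
  [Int.ofNat 0, Int.ofNat 0, Int.ofNat 0, Int.negSucc 1, Int.ofNat 0, Int.ofNat 0, Int.negSucc 1, Int.ofNat 2, Int.ofNat 0, Int.negSucc 1, Int.ofNat 0, Int.ofNat 2, Int.ofNat 0, Int.ofNat 0, Int.ofNat 2, Int.ofNat 2, Int.ofNat 0, Int.ofNat 0, Int.negSucc 1, Int.ofNat 0, Int.ofNat 0, Int.ofNat 0, Int.ofNat 0, Int.ofNat 0],
  [Int.ofNat 0, Int.ofNat 0, Int.ofNat 0, Int.negSucc 1, Int.ofNat 0, Int.ofNat 0, Int.negSucc 1, Int.negSucc 1, Int.ofNat 0, Int.ofNat 2, Int.ofNat 0, Int.negSucc 1, Int.ofNat 0, Int.ofNat 0, Int.ofNat 2, Int.ofNat 2, Int.ofNat 0, Int.ofNat 0, Int.ofNat 2, Int.ofNat 0, Int.ofNat 0, Int.ofNat 0, Int.ofNat 0, Int.ofNat 0],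
  [Int.ofNat 0, Int.ofNat 0, Int.ofNat 0, Int.ofNat 0, Int.negSucc 1, Int.ofNat 0, Int.ofNat 0, Int.negSucc 1, Int.negSucc 1, Int.ofNat 0, Int.ofNat 2, Int.ofNat 0, Int.negSucc 1, Int.ofNat 0, Int.ofNat 0, Int.ofNat 2, Int.ofNat 2, Int.ofNat 0, Int.ofNat 0, Int.ofNat 2, Int.ofNat 0, Int.ofNat 0, Int.ofNat 0, Int.ofNat 0],
  [Int.ofNat 0, Int.ofNat 0, Int.ofNat 0, Int.ofNat 0, Int.negSucc 1, Int.ofNat 0, Int.ofNat 0, Int.negSucc 1, Int.ofNat 0, Int.negSucc 1, Int.ofNat 0, Int.ofNat 2, Int.ofNat 0, Int.ofNat 0, Int.ofNat 0, Int.ofNat 0, Int.ofNat 2, Int.ofNat 0, Int.ofNat 2, Int.ofNat 2, Int.negSucc 1, Int.ofNat 0, Int.ofNat 0, Int.ofNat 0],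
  [Int.ofNat 0, Int.negSucc 1, Int.ofNat 0, Int.ofNat 0, Int.negSucc 1, Int.ofNat 0, Int.negSucc 1, Int.ofNat 0, Int.ofNat 2, Int.ofNat 0, Int.ofNat 0, Int.ofNat 0, Int.ofNat 0, Int.ofNat 2, Int.ofNat 0, Int.ofNat 2, Int.ofNat 2, Int.negSucc 1, Int.ofNat 0, Int.ofNat 0, Int.ofNat 0, Int.ofNat 0, Int.ofNat 0, Int.ofNat 0],
  [Int.negSucc 0, Int.ofNat 1, Int.negSucc 0, Int.ofNat 1, Int.negSucc 2, Int.ofNat 1, Int.negSucc 0, Int.ofNat 1, Int.ofNat 1, Int.negSucc 0, Int.negSucc 0, Int.negSucc 0, Int.negSucc 0, Int.ofNat 1, Int.ofNat 1, Int.ofNat 1, Int.ofNat 1, Int.negSucc 0, Int.negSucc 0, Int.ofNat 1, Int.negSucc 0, Int.ofNat 1, Int.negSucc 0, Int.negSucc 0],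
  [Int.negSucc 0, Int.negSucc 0, Int.negSucc 2, Int.ofNat 1, Int.negSucc 0, Int.ofNat 1, Int.negSucc 0, Int.negSucc 0, Int.negSucc 0, Int.ofNat 1, Int.negSucc 0, Int.negSucc 0, Int.negSucc 0, Int.ofNat 1, Int.negSucc 0, Int.ofNat 1, Int.ofNat 1, Int.ofNat 1, Int.ofNat 1, Int.negSucc 0, Int.ofNat 1, Int.ofNat 1, Int.ofNat 1, Int.negSucc 0],
  [Int.negSucc 1, Int.negSucc 1, Int.ofNat 0, Int.ofNat 0, Int.negSucc 1, Int.ofNat 0, Int.ofNat 0, Int.ofNat 0, Int.ofNat 0, Int.ofNat 0, Int.negSucc 1, Int.ofNat 0, Int.ofNat 0, Int.ofNat 0, Int.negSucc 1, Int.ofNat 0, Int.ofNat 0, Int.ofNat 0, Int.ofNat 2, Int.ofNat 0, Int.ofNat 0, Int.ofNat 2, Int.ofNat 0, Int.negSucc 1],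
  [Int.negSucc 1, Int.negSucc 1, Int.ofNat 0, Int.ofNat 0, Int.negSucc 1, Int.ofNat 0, Int.ofNat 0, Int.ofNat 0, Int.ofNat 0, Int.ofNat 0, Int.ofNat 2, Int.ofNat 0, Int.ofNat 0, Int.ofNat 0, Int.negSucc 1, Int.ofNat 0, Int.ofNat 0, Int.ofNat 0, Int.negSucc 1, Int.ofNat 0, Int.ofNat 0, Int.ofNat 2, Int.ofNat 0, Int.negSucc 1],
  [Int.ofNat 0, Int.ofNat 0, Int.ofNat 0, Int.ofNat 0, Int.ofNat 0, Int.negSucc 1, Int.ofNat 0, Int.ofNat 2, Int.negSucc 1, Int.ofNat 0, Int.ofNat 0, Int.ofNat 0, Int.ofNat 2, Int.ofNat 0, Int.ofNat 0, Int.ofNat 0, Int.negSucc 1, Int.ofNat 0, Int.negSucc 1, Int.ofNat 0, Int.negSucc 1, Int.ofNat 0, Int.ofNat 0, Int.negSucc 1],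
  [Int.ofNat 0, Int.ofNat 0, Int.ofNat 0, Int.ofNat 0, Int.ofNat 0, Int.ofNat 2, Int.ofNat 0, Int.ofNat 2, Int.negSucc 1, Int.ofNat 0, Int.ofNat 0, Int.ofNat 0, Int.ofNat 2, Int.ofNat 0, Int.ofNat 0, Int.ofNat 0, Int.negSucc 1, Int.ofNat 0, Int.ofNat 2, Int.ofNat 0, Int.negSucc 1, Int.ofNat 0, Int.ofNat 0, Int.negSucc 1],
  [Int.negSucc 0, Int.negSucc 0, Int.negSucc 0, Int.negSucc 0, Int.ofNat 1, Int.ofNat 1, Int.negSucc 0, Int.ofNat 1, Int.negSucc 2, Int.ofNat 1, Int.ofNat 1, Int.negSucc 0, Int.ofNat 1, Int.ofNat 1, Int.negSucc 0, Int.ofNat 1, Int.negSucc 0, Int.negSucc 0, Int.ofNat 1, Int.negSucc 0, Int.negSucc 0, Int.negSucc 0, Int.ofNat 1, Int.ofNat 1],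
  [Int.negSucc 0, Int.ofNat 1, Int.negSucc 0, Int.negSucc 0, Int.negSucc 0, Int.negSucc 0, Int.negSucc 0, Int.ofNat 1, Int.negSucc 0, Int.ofNat 1, Int.ofNat 1, Int.negSucc 0, Int.negSucc 2, Int.ofNat 1, Int.negSucc 0, Int.ofNat 1, Int.ofNat 1, Int.negSucc 0, Int.ofNat 1, Int.ofNat 1, Int.ofNat 1, Int.negSucc 0, Int.negSucc 0, Int.ofNat 1],
  [Int.ofNat 1, Int.negSucc 0, Int.ofNat 1, Int.ofNat 1, Int.negSucc 0, Int.ofNat 1, Int.negSucc 0, Int.ofNat 1, Int.ofNat 1, Int.negSucc 0, Int.negSucc 0, Int.ofNat 1, Int.negSucc 0, Int.ofNat 1, Int.ofNat 1, Int.negSucc 0, Int.ofNat 1, Int.ofNat 1, Int.ofNat 3, Int.ofNat 1, Int.negSucc 0, Int.negSucc 0, Int.negSucc 0, Int.negSucc 0],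
  [Int.negSucc 0, Int.negSucc 0, Int.negSucc 0, Int.ofNat 1, Int.negSucc 0, Int.ofNat 1, Int.ofNat 1, Int.negSucc 0, Int.ofNat 1, Int.negSucc 0, Int.ofNat 1, Int.ofNat 1, Int.negSucc 0, Int.negSucc 0, Int.ofNat 1, Int.negSucc 0, Int.ofNat 1, Int.ofNat 1, Int.negSucc 0, Int.ofNat 1, Int.ofNat 1, Int.ofNat 3, Int.ofNat 1, Int.negSucc 0],
  [Int.negSucc 0, Int.negSucc 0, Int.negSucc 0, Int.negSucc 0, Int.negSucc 0, Int.negSucc 0, Int.negSucc 0, Int.negSucc 2, Int.ofNat 1, Int.negSucc 0, Int.ofNat 1, Int.ofNat 1, Int.negSucc 0, Int.negSucc 0, Int.negSucc 0, Int.negSucc 0, Int.ofNat 1, Int.negSucc 0, Int.negSucc 0, Int.negSucc 0, Int.ofNat 1, Int.ofNat 1, Int.ofNat 1, Int.negSucc 0],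
  [Int.negSucc 0, Int.negSucc 0, Int.negSucc 0, Int.negSucc 0, Int.negSucc 0, Int.negSucc 0, Int.negSucc 2, Int.ofNat 1, Int.negSucc 0, Int.ofNat 1, Int.ofNat 1, Int.negSucc 0, Int.negSucc 0, Int.negSucc 0, Int.negSucc 0, Int.ofNat 1, Int.negSucc 0, Int.negSucc 0, Int.negSucc 0, Int.ofNat 1, Int.ofNat 1, Int.ofNat 1, Int.negSucc 0, Int.negSucc 0],
  [Int.ofNat 1, Int.negSucc 0, Int.ofNat 1, Int.negSucc 0, Int.negSucc 0, Int.negSucc 0, Int.negSucc 2, Int.negSucc 0, Int.negSucc 0, Int.negSucc 0, Int.negSucc 0, Int.ofNat 1, Int.negSucc 0, Int.negSucc 0, Int.negSucc 0, Int.ofNat 1, Int.negSucc 0, Int.negSucc 0, Int.ofNat 1, Int.ofNat 1, Int.ofNat 1, Int.negSucc 0, Int.negSucc 0, Int.negSucc 0],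
  [Int.ofNat 1, Int.ofNat 1, Int.ofNat 1, Int.negSucc 0, Int.negSucc 0, Int.negSucc 0, Int.negSucc 0, Int.ofNat 1, Int.negSucc 0, Int.negSucc 0, Int.negSucc 0, Int.negSucc 0, Int.negSucc 0, Int.negSucc 0, Int.ofNat 1, Int.ofNat 1, Int.negSucc 0, Int.negSucc 0, Int.negSucc 2, Int.negSucc 0, Int.negSucc 0, Int.negSucc 0, Int.ofNat 1, Int.negSucc 0],
  [Int.negSucc 0, Int.ofNat 1, Int.negSucc 0, Int.negSucc 0, Int.negSucc 0, Int.negSucc 0, Int.negSucc 0, Int.negSucc 0, Int.negSucc 0, Int.ofNat 1, Int.ofNat 1, Int.ofNat 1, Int.negSucc 0, Int.negSucc 0, Int.ofNat 1, Int.ofNat 1, Int.negSucc 0, Int.negSucc 0, Int.ofNat 3, Int.negSucc 0, Int.negSucc 0, Int.ofNat 1, Int.ofNat 1, Int.negSucc 0],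
  [Int.ofNat 1, Int.negSucc 0, Int.ofNat 1, Int.negSucc 0, Int.negSucc 0, Int.negSucc 0, Int.negSucc 0, Int.negSucc 0, Int.negSucc 0, Int.negSucc 0, Int.ofNat 1, Int.ofNat 1, Int.ofNat 1, Int.negSucc 0, Int.negSucc 0, Int.ofNat 1, Int.ofNat 1, Int.negSucc 0, Int.negSucc 0, Int.ofNat 3, Int.negSucc 0, Int.negSucc 0, Int.ofNat 1, Int.negSucc 0],
  [Int.negSucc 0, Int.ofNat 1, Int.negSucc 0, Int.ofNat 1, Int.negSucc 0, Int.ofNat 1, Int.negSucc 0, Int.negSucc 0, Int.negSucc 0, Int.negSucc 0, Int.ofNat 1, Int.ofNat 1, Int.ofNat 1, Int.negSucc 0, Int.ofNat 1, Int.ofNat 1, Int.ofNat 1, Int.ofNat 1, Int.negSucc 0, Int.ofNat 3, Int.negSucc 0, Int.negSucc 0, Int.ofNat 1, Int.ofNat 1],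
  [Int.ofNat 1, Int.negSucc 0, Int.ofNat 1, Int.negSucc 0, Int.negSucc 0, Int.negSucc 0, Int.negSucc 0, Int.ofNat 1, Int.ofNat 1, Int.ofNat 1, Int.negSucc 0, Int.ofNat 1, Int.ofNat 1, Int.ofNat 1, Int.ofNat 1, Int.negSucc 0, Int.ofNat 3, Int.negSucc 0, Int.negSucc 0, Int.ofNat 1, Int.negSucc 0, Int.ofNat 1, Int.negSucc 0, Int.ofNat 1],
  [Int.ofNat 0, Int.ofNat 2, Int.ofNat 0, Int.ofNat 0, Int.negSucc 1, Int.ofNat 0, Int.negSucc 1, Int.ofNat 0, Int.ofNat 0, Int.ofNat 2, Int.ofNat 0, Int.ofNat 0, Int.ofNat 0, Int.ofNat 0, Int.ofNat 2, Int.ofNat 0, Int.ofNat 2, Int.ofNat 0, Int.negSucc 1, Int.ofNat 0, Int.ofNat 0, Int.ofNat 0, Int.negSucc 1, Int.ofNat 0],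
  [Int.ofNat 0, Int.negSucc 1, Int.negSucc 1, Int.ofNat 0, Int.negSucc 1, Int.ofNat 0, Int.ofNat 0, Int.ofNat 0, Int.ofNat 0, Int.ofNat 0, Int.ofNat 0, Int.ofNat 0, Int.ofNat 2, Int.ofNat 2, Int.negSucc 1, Int.ofNat 0, Int.ofNat 0, Int.ofNat 2, Int.ofNat 2, Int.ofNat 0, Int.ofNat 0, Int.ofNat 0, Int.ofNat 0, Int.ofNat 0],
  [Int.negSucc 1, Int.ofNat 0, Int.ofNat 0, Int.ofNat 0, Int.negSucc 1, Int.ofNat 0, Int.ofNat 0, Int.ofNat 0, Int.negSucc 1, Int.ofNat 0, Int.ofNat 0, Int.negSucc 1, Int.ofNat 0, Int.ofNat 2, Int.negSucc 1, Int.ofNat 0, Int.ofNat 0, Int.ofNat 2, Int.ofNat 0, Int.ofNat 0, Int.ofNat 0, Int.ofNat 0, Int.ofNat 0, Int.negSucc 1],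
  [Int.negSucc 1, Int.ofNat 0, Int.ofNat 0, Int.ofNat 0, Int.negSucc 1, Int.ofNat 0, Int.ofNat 0, Int.ofNat 0, Int.negSucc 1, Int.ofNat 0, Int.ofNat 0, Int.negSucc 1, Int.ofNat 0, Int.ofNat 2, Int.negSucc 1, Int.ofNat 0, Int.ofNat 0, Int.ofNat 2, Int.ofNat 0, Int.ofNat 0, Int.ofNat 0, Int.ofNat 0, Int.ofNat 0, Int.negSucc 1],
  [Int.ofNat 0, Int.ofNat 0, Int.negSucc 1, Int.negSucc 1, Int.negSucc 1, Int.ofNat 0, Int.ofNat 0, Int.ofNat 0, Int.ofNat 0, Int.ofNat 0, Int.ofNat 2, Int.ofNat 0, Int.ofNat 0, Int.negSucc 1, Int.ofNat 2, Int.ofNat 0, Int.ofNat 0, Int.ofNat 0, Int.ofNat 0, Int.ofNat 0, Int.negSucc 1, Int.ofNat 0, Int.ofNat 0, Int.negSucc 1],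
  [Int.ofNat 0, Int.ofNat 0, Int.ofNat 2, Int.ofNat 2, Int.ofNat 2, Int.ofNat 0, Int.ofNat 0, Int.ofNat 0, Int.ofNat 0, Int.ofNat 0, Int.ofNat 2, Int.ofNat 0, Int.ofNat 0, Int.ofNat 2, Int.ofNat 2, Int.ofNat 0, Int.ofNat 0, Int.ofNat 0, Int.ofNat 0, Int.ofNat 0, Int.negSucc 1, Int.ofNat 0, Int.ofNat 0, Int.negSucc 1],
  [Int.negSucc 1, Int.ofNat 0, Int.ofNat 0, Int.ofNat 0, Int.ofNat 0, Int.ofNat 0, Int.ofNat 0, Int.ofNat 2, Int.negSucc 1, Int.ofNat 0, Int.ofNat 0, Int.ofNat 2, Int.ofNat 0, Int.ofNat 0, Int.ofNat 0, Int.ofNat 2, Int.ofNat 2, Int.ofNat 2, Int.ofNat 2, Int.ofNat 0, Int.ofNat 0, Int.ofNat 0, Int.ofNat 0, Int.ofNat 0],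
  [Int.ofNat 2, Int.ofNat 0, Int.ofNat 0, Int.ofNat 0, Int.ofNat 0, Int.ofNat 0, Int.ofNat 0, Int.negSucc 1, Int.negSucc 1, Int.ofNat 0, Int.ofNat 0, Int.negSucc 1, Int.ofNat 0, Int.ofNat 0, Int.ofNat 0, Int.ofNat 2, Int.ofNat 2, Int.ofNat 2, Int.negSucc 1, Int.ofNat 0, Int.ofNat 0, Int.ofNat 0, Int.ofNat 0, Int.ofNat 0],
  [Int.ofNat 0, Int.ofNat 2, Int.ofNat 0, Int.ofNat 0, Int.ofNat 0, Int.ofNat 0, Int.ofNat 0, Int.ofNat 0, Int.negSucc 1, Int.negSucc 1, Int.ofNat 0, Int.ofNat 0, Int.negSucc 1, Int.ofNat 0, Int.ofNat 0, Int.ofNat 0, Int.ofNat 2, Int.ofNat 2, Int.ofNat 2, Int.negSucc 1, Int.ofNat 0, Int.ofNat 0, Int.ofNat 0, Int.ofNat 0],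
  [Int.ofNat 1, Int.negSucc 0, Int.ofNat 1, Int.negSucc 0, Int.negSucc 0, Int.negSucc 0, Int.ofNat 1, Int.ofNat 1, Int.negSucc 0, Int.negSucc 0, Int.ofNat 1, Int.ofNat 1, Int.negSucc 0, Int.negSucc 0, Int.negSucc 0, Int.ofNat 1, Int.ofNat 1, Int.ofNat 1, Int.ofNat 3, Int.negSucc 0, Int.ofNat 1, Int.ofNat 1, Int.negSucc 0, Int.ofNat 1],
  [Int.negSucc 0, Int.negSucc 0, Int.negSucc 0, Int.ofNat 1, Int.ofNat 1, Int.negSucc 0, Int.negSucc 0, Int.ofNat 1, Int.ofNat 1, Int.negSucc 0, Int.negSucc 0, Int.negSucc 0, Int.ofNat 1, Int.ofNat 1, Int.ofNat 1, Int.ofNat 3, Int.negSucc 0, Int.ofNat 1, Int.ofNat 1, Int.negSucc 0, Int.ofNat 1, Int.negSucc 0, Int.ofNat 1, Int.ofNat 1],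
  [Int.ofNat 0, Int.ofNat 0, Int.ofNat 0, Int.ofNat 0, Int.ofNat 0, Int.negSucc 1, Int.ofNat 0, Int.ofNat 2, Int.ofNat 0, Int.negSucc 1, Int.negSucc 1, Int.negSucc 1, Int.ofNat 0, Int.ofNat 0, Int.ofNat 0, Int.ofNat 2, Int.negSucc 1, Int.ofNat 0, Int.ofNat 0, Int.ofNat 0, Int.ofNat 0, Int.ofNat 0, Int.ofNat 0, Int.negSucc 1],
  [Int.ofNat 0, Int.ofNat 0, Int.ofNat 0, Int.ofNat 0, Int.ofNat 0, Int.ofNat 2, Int.ofNat 0, Int.negSucc 1, Int.ofNat 0, Int.ofNat 0, Int.ofNat 0, Int.ofNat 0, Int.negSucc 1, Int.negSucc 1, Int.ofNat 0, Int.ofNat 2, Int.ofNat 0, Int.ofNat 0, Int.ofNat 0, Int.negSucc 1, Int.ofNat 0, Int.negSucc 1, Int.ofNat 0, Int.negSucc 1],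
  [Int.negSucc 0, Int.negSucc 0, Int.negSucc 0, Int.negSucc 0, Int.ofNat 1, Int.ofNat 1, Int.ofNat 3, Int.ofNat 1, Int.ofNat 1, Int.negSucc 0, Int.negSucc 0, Int.ofNat 1, Int.negSucc 0, Int.negSucc 0, Int.negSucc 0, Int.ofNat 1, Int.ofNat 1, Int.negSucc 0, Int.ofNat 1, Int.ofNat 1, Int.negSucc 0, Int.ofNat 1, Int.ofNat 1, Int.ofNat 1],
  [Int.negSucc 0, Int.negSucc 0, Int.ofNat 1, Int.negSucc 0, Int.ofNat 1, Int.negSucc 0, Int.negSucc 2, Int.ofNat 1, Int.ofNat 1, Int.ofNat 1, Int.ofNat 1, Int.ofNat 1, Int.negSucc 0, Int.negSucc 0, Int.negSucc 0, Int.negSucc 0, Int.ofNat 1, Int.negSucc 0, Int.negSucc 0, Int.ofNat 1, Int.negSucc 0, Int.ofNat 1, Int.negSucc 0, Int.ofNat 1],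
  [Int.negSucc 0, Int.negSucc 0, Int.negSucc 0, Int.ofNat 1, Int.ofNat 1, Int.negSucc 0, Int.negSucc 0, Int.ofNat 1, Int.negSucc 0, Int.negSucc 0, Int.negSucc 0, Int.negSucc 0, Int.ofNat 1, Int.negSucc 0, Int.ofNat 1, Int.ofNat 1, Int.ofNat 1, Int.ofNat 1, Int.negSucc 0, Int.negSucc 2, Int.negSucc 0, Int.ofNat 1, Int.ofNat 1, Int.ofNat 1],
  [Int.negSucc 0, Int.negSucc 0, Int.ofNat 1, Int.ofNat 1, Int.ofNat 1, Int.ofNat 1, Int.ofNat 1, Int.ofNat 1, Int.negSucc 0, Int.ofNat 1, Int.ofNat 1, Int.negSucc 0, Int.ofNat 1, Int.negSucc 0, Int.ofNat 1, Int.negSucc 0, Int.ofNat 1, Int.ofNat 1, Int.ofNat 1, Int.negSucc 2, Int.negSucc 0, Int.ofNat 1, Int.negSucc 0, Int.ofNat 1],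
  [Int.ofNat 1, Int.ofNat 1, Int.negSucc 0, Int.negSucc 0, Int.ofNat 1, Int.negSucc 0, Int.ofNat 1, Int.ofNat 1, Int.negSucc 0, Int.ofNat 1, Int.ofNat 1, Int.negSucc 0, Int.ofNat 1, Int.negSucc 0, Int.negSucc 0, Int.negSucc 0, Int.ofNat 1, Int.negSucc 0, Int.ofNat 1, Int.negSucc 2, Int.negSucc 0, Int.ofNat 1, Int.negSucc 0, Int.negSucc 0],
  [Int.ofNat 1, Int.ofNat 1, Int.ofNat 1, Int.negSucc 0, Int.negSucc 0, Int.ofNat 1, Int.ofNat 1, Int.negSucc 0, Int.ofNat 1, Int.ofNat 1, Int.ofNat 1, Int.negSucc 2, Int.negSucc 0, Int.ofNat 1, Int.negSucc 0, Int.negSucc 0, Int.negSucc 0, Int.negSucc 0, Int.ofNat 1, Int.negSucc 0, Int.ofNat 1, Int.negSucc 0, Int.negSucc 0, Int.negSucc 0],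
  [Int.ofNat 0, Int.ofNat 0, Int.ofNat 0, Int.ofNat 0, Int.ofNat 0, Int.ofNat 2, Int.ofNat 2, Int.ofNat 0, Int.ofNat 2, Int.ofNat 0, Int.ofNat 0, Int.negSucc 1, Int.ofNat 0, Int.ofNat 2, Int.ofNat 0, Int.negSucc 1, Int.ofNat 0, Int.ofNat 0, Int.ofNat 2, Int.ofNat 0, Int.ofNat 0, Int.ofNat 0, Int.ofNat 0, Int.ofNat 2],
  [Int.ofNat 0, Int.ofNat 0, Int.ofNat 0, Int.ofNat 0, Int.ofNat 0, Int.ofNat 0, Int.ofNat 0, Int.ofNat 0, Int.ofNat 2, Int.ofNat 2, Int.ofNat 0, Int.ofNat 2, Int.ofNat 0, Int.ofNat 0, Int.negSucc 1, Int.ofNat 0, Int.ofNat 2, Int.ofNat 0, Int.negSucc 1, Int.ofNat 0, Int.ofNat 0, Int.ofNat 2, Int.ofNat 0, Int.ofNat 2],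
  [Int.ofNat 1, Int.ofNat 1, Int.ofNat 1, Int.ofNat 1, Int.negSucc 0, Int.ofNat 1, Int.negSucc 0, Int.negSucc 0, Int.ofNat 1, Int.ofNat 1, Int.negSucc 0, Int.ofNat 1, Int.negSucc 0, Int.negSucc 0, Int.negSucc 0, Int.negSucc 0, Int.ofNat 1, Int.ofNat 1, Int.negSucc 2, Int.negSucc 0, Int.negSucc 0, Int.ofNat 1, Int.negSucc 0, Int.negSucc 0],
  [Int.ofNat 1, Int.ofNat 1, Int.ofNat 1, Int.negSucc 0, Int.ofNat 1, Int.negSucc 0, Int.negSucc 0, Int.ofNat 1, Int.ofNat 1, Int.negSucc 0, Int.ofNat 1, Int.negSucc 0, Int.negSucc 0, Int.negSucc 0, Int.negSucc 0, Int.ofNat 1, Int.ofNat 1, Int.negSucc 2, Int.negSucc 0, Int.negSucc 0, Int.ofNat 1, Int.negSucc 0, Int.ofNat 1, Int.negSucc 0],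
  [Int.negSucc 0, Int.ofNat 1, Int.negSucc 0, Int.negSucc 0, Int.ofNat 1, Int.negSucc 0, Int.negSucc 0, Int.negSucc 0, Int.ofNat 1, Int.ofNat 1, Int.negSucc 0, Int.ofNat 1, Int.negSucc 0, Int.negSucc 0, Int.negSucc 0, Int.ofNat 1, Int.ofNat 1, Int.negSucc 2, Int.ofNat 1, Int.negSucc 0, Int.ofNat 1, Int.ofNat 1, Int.ofNat 1, Int.negSucc 0],
  [Int.negSucc 0, Int.negSucc 0, Int.ofNat 1, Int.negSucc 0, Int.ofNat 1, Int.negSucc 0, Int.ofNat 1, Int.ofNat 1, Int.ofNat 1, Int.ofNat 1, Int.ofNat 1, Int.negSucc 0, Int.negSucc 0, Int.ofNat 1, Int.negSucc 0, Int.ofNat 1, Int.negSucc 0, Int.ofNat 1, Int.negSucc 0, Int.negSucc 2, Int.negSucc 0, Int.negSucc 0, Int.ofNat 1, Int.negSucc 0],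
  [Int.ofNat 1, Int.negSucc 0, Int.negSucc 0, Int.negSucc 0, Int.ofNat 1, Int.negSucc 0, Int.ofNat 1, Int.negSucc 0, Int.ofNat 1, Int.negSucc 0, Int.negSucc 0, Int.ofNat 1, Int.negSucc 0, Int.ofNat 1, Int.negSucc 0, Int.ofNat 1, Int.negSucc 0, Int.ofNat 1, Int.ofNat 1, Int.negSucc 2, Int.negSucc 0, Int.ofNat 1, Int.ofNat 1, Int.negSucc 0],
  [Int.ofNat 1, Int.ofNat 1, Int.negSucc 0, Int.negSucc 0, Int.negSucc 0, Int.ofNat 1, Int.negSucc 0, Int.ofNat 1, Int.negSucc 0, Int.ofNat 1, Int.negSucc 0, Int.negSucc 0, Int.ofNat 1, Int.negSucc 0, Int.ofNat 1, Int.negSucc 0, Int.ofNat 1, Int.negSucc 0, Int.ofNat 1, Int.ofNat 1, Int.negSucc 2, Int.negSucc 0, Int.ofNat 1, Int.negSucc 0],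
  [Int.negSucc 0, Int.negSucc 0, Int.ofNat 1, Int.negSucc 0, Int.negSucc 0, Int.ofNat 1, Int.negSucc 0, Int.ofNat 1, Int.negSucc 0, Int.ofNat 3, Int.ofNat 1, Int.negSucc 0, Int.ofNat 1, Int.negSucc 0, Int.ofNat 1, Int.ofNat 1, Int.ofNat 1, Int.negSucc 0, Int.ofNat 1, Int.ofNat 1, Int.negSucc 0, Int.negSucc 0, Int.ofNat 1, Int.ofNat 1],
  [Int.negSucc 0, Int.negSucc 0, Int.ofNat 1, Int.negSucc 0, Int.ofNat 1, Int.negSucc 0, Int.ofNat 3, Int.ofNat 1, Int.negSucc 0, Int.ofNat 1, Int.negSucc 0, Int.ofNat 1, Int.ofNat 1, Int.ofNat 1, Int.negSucc 0, Int.ofNat 1, Int.ofNat 1, Int.negSucc 0, Int.negSucc 0, Int.ofNat 1, Int.negSucc 0, Int.negSucc 0, Int.ofNat 1, Int.ofNat 1],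
  [Int.ofNat 1, Int.ofNat 1, Int.negSucc 0, Int.ofNat 1, Int.negSucc 0, Int.ofNat 1, Int.ofNat 1, Int.negSucc 0, Int.negSucc 0, Int.ofNat 1, Int.negSucc 0, Int.ofNat 1, Int.ofNat 1, Int.negSucc 0, Int.ofNat 1, Int.ofNat 1, Int.negSucc 0, Int.ofNat 1, Int.negSucc 0, Int.negSucc 0, Int.negSucc 0, Int.negSucc 2, Int.negSucc 0, Int.negSucc 0],
  [Int.ofNat 1, Int.ofNat 1, Int.negSucc 0, Int.ofNat 1, Int.negSucc 0, Int.negSucc 0, Int.negSucc 0, Int.negSucc 0, Int.ofNat 1, Int.negSucc 0, Int.negSucc 0, Int.ofNat 1, Int.ofNat 1, Int.negSucc 0, Int.negSucc 0, Int.ofNat 1, Int.negSucc 0, Int.ofNat 1, Int.ofNat 1, Int.ofNat 1, Int.negSucc 2, Int.ofNat 1, Int.negSucc 0, Int.negSucc 0],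
  [Int.negSucc 0, Int.negSucc 0, Int.ofNat 1, Int.ofNat 1, Int.ofNat 1, Int.negSucc 0, Int.negSucc 0, Int.negSucc 0, Int.negSucc 0, Int.ofNat 1, Int.ofNat 1, Int.negSucc 0, Int.negSucc 0, Int.ofNat 1, Int.negSucc 0, Int.ofNat 3, Int.ofNat 1, Int.ofNat 1, Int.negSucc 0, Int.ofNat 1, Int.negSucc 0, Int.ofNat 1, Int.ofNat 1, Int.ofNat 1],
  [Int.negSucc 0, Int.negSucc 0, Int.negSucc 0, Int.ofNat 1, Int.ofNat 1, Int.ofNat 1, Int.ofNat 1, Int.negSucc 0, Int.negSucc 0, Int.negSucc 0, Int.negSucc 0, Int.negSucc 0, Int.negSucc 0, Int.ofNat 1, Int.negSucc 0, Int.negSucc 2, Int.ofNat 1, Int.ofNat 1, Int.ofNat 1, Int.ofNat 1, Int.negSucc 0, Int.ofNat 1, Int.negSucc 0, Int.ofNat 1],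
  [Int.negSucc 0, Int.ofNat 1, Int.negSucc 0, Int.negSucc 0, Int.negSucc 0, Int.ofNat 1, Int.ofNat 1, Int.ofNat 1, Int.ofNat 1, Int.negSucc 0, Int.ofNat 1, Int.negSucc 0, Int.negSucc 2, Int.ofNat 1, Int.ofNat 1, Int.ofNat 1, Int.ofNat 1, Int.negSucc 0, Int.negSucc 0, Int.negSucc 0, Int.negSucc 0, Int.negSucc 0, Int.negSucc 0, Int.ofNat 1],
  [Int.ofNat 1, Int.negSucc 0, Int.ofNat 1, Int.ofNat 1, Int.ofNat 1, Int.ofNat 1, Int.negSucc 0, Int.ofNat 1, Int.negSucc 0, Int.ofNat 1, Int.ofNat 1, Int.negSucc 0, Int.ofNat 3, Int.negSucc 0, Int.ofNat 1, Int.ofNat 1, Int.negSucc 0, Int.negSucc 0, Int.ofNat 1, Int.negSucc 0, Int.negSucc 0, Int.negSucc 0, Int.negSucc 0, Int.ofNat 1],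
  [Int.ofNat 1, Int.negSucc 0, Int.negSucc 0, Int.ofNat 1, Int.negSucc 0, Int.ofNat 1, Int.negSucc 0, Int.negSucc 0, Int.negSucc 0, Int.ofNat 1, Int.negSucc 0, Int.ofNat 1, Int.negSucc 0, Int.ofNat 1, Int.ofNat 1, Int.ofNat 1, Int.ofNat 1, Int.ofNat 1, Int.ofNat 1, Int.negSucc 0, Int.negSucc 0, Int.ofNat 3, Int.negSucc 0, Int.ofNat 1],
  [Int.negSucc 0, Int.negSucc 0, Int.ofNat 1, Int.ofNat 1, Int.negSucc 0, Int.ofNat 1, Int.negSucc 0, Int.ofNat 1, Int.negSucc 0, Int.negSucc 0, Int.ofNat 1, Int.negSucc 0, Int.negSucc 0, Int.ofNat 1, Int.ofNat 1, Int.ofNat 1, Int.ofNat 1, Int.ofNat 1, Int.negSucc 0, Int.negSucc 0, Int.negSucc 0, Int.negSucc 2, Int.negSucc 0, Int.ofNat 1],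
  [Int.negSucc 0, Int.negSucc 0, Int.negSucc 0, Int.ofNat 1, Int.ofNat 1, Int.negSucc 0, Int.ofNat 1, Int.negSucc 0, Int.ofNat 1, Int.negSucc 0, Int.negSucc 0, Int.ofNat 1, Int.negSucc 0, Int.negSucc 0, Int.ofNat 1, Int.ofNat 1, Int.ofNat 1, Int.ofNat 1, Int.ofNat 1, Int.negSucc 0, Int.negSucc 0, Int.negSucc 0, Int.negSucc 2, Int.ofNat 1],
  [Int.ofNat 0, Int.ofNat 0, Int.ofNat 0, Int.ofNat 0, Int.ofNat 2, Int.negSucc 1, Int.ofNat 2, Int.ofNat 0, Int.ofNat 0, Int.ofNat 0, Int.ofNat 0, Int.ofNat 0, Int.negSucc 1, Int.ofNat 0, Int.ofNat 0, Int.ofNat 2, Int.ofNat 2, Int.ofNat 0, Int.ofNat 0, Int.ofNat 0, Int.ofNat 0, Int.ofNat 0, Int.negSucc 1, Int.negSucc 1],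
  [Int.ofNat 0, Int.ofNat 2, Int.negSucc 1, Int.ofNat 2, Int.ofNat 0, Int.ofNat 0, Int.ofNat 0, Int.ofNat 0, Int.ofNat 0, Int.negSucc 1, Int.ofNat 0, Int.ofNat 0, Int.ofNat 2, Int.ofNat 2, Int.ofNat 0, Int.ofNat 0, Int.ofNat 0, Int.ofNat 0, Int.ofNat 0, Int.negSucc 1, Int.ofNat 0, Int.ofNat 0, Int.ofNat 0, Int.negSucc 1],
  [Int.negSucc 0, Int.negSucc 2, Int.ofNat 1, Int.ofNat 1, Int.negSucc 0, Int.negSucc 0, Int.ofNat 1, Int.ofNat 1, Int.negSucc 0, Int.negSucc 0, Int.ofNat 1, Int.negSucc 0, Int.ofNat 1, Int.ofNat 1, Int.negSucc 0, Int.ofNat 1, Int.negSucc 0, Int.negSucc 0, Int.negSucc 0, Int.negSucc 0, Int.ofNat 1, Int.ofNat 1, Int.negSucc 0, Int.ofNat 1],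
  [Int.negSucc 0, Int.ofNat 1, Int.negSucc 0, Int.ofNat 1, Int.negSucc 0, Int.ofNat 1, Int.ofNat 1, Int.ofNat 1, Int.ofNat 1, Int.ofNat 1, Int.ofNat 1, Int.negSucc 0, Int.negSucc 0, Int.negSucc 0, Int.negSucc 0, Int.ofNat 1, Int.negSucc 0, Int.negSucc 0, Int.negSucc 2, Int.negSucc 0, Int.ofNat 1, Int.negSucc 0, Int.negSucc 0, Int.ofNat 1],
  [Int.ofNat 1, Int.negSucc 0, Int.ofNat 1, Int.ofNat 1, Int.ofNat 1, Int.ofNat 1, Int.ofNat 1, Int.ofNat 1, Int.ofNat 3, Int.negSucc 0, Int.negSucc 0, Int.ofNat 1, Int.ofNat 1, Int.ofNat 1, Int.negSucc 0, Int.negSucc 0, Int.ofNat 1, Int.negSucc 0, Int.negSucc 0, Int.negSucc 0, Int.negSucc 0, Int.negSucc 0, Int.ofNat 1, Int.negSucc 0],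
  [Int.ofNat 1, Int.negSucc 0, Int.negSucc 0, Int.ofNat 1, Int.ofNat 1, Int.negSucc 0, Int.negSucc 0, Int.ofNat 1, Int.ofNat 3, Int.ofNat 1, Int.ofNat 1, Int.ofNat 1, Int.ofNat 1, Int.ofNat 1, Int.negSucc 0, Int.ofNat 1, Int.ofNat 1, Int.negSucc 0, Int.ofNat 1, Int.negSucc 0, Int.negSucc 0, Int.negSucc 0, Int.negSucc 0, Int.negSucc 0],
  [Int.negSucc 0, Int.ofNat 1, Int.negSucc 0, Int.negSucc 0, Int.ofNat 1, Int.ofNat 1, Int.ofNat 1, Int.ofNat 1, Int.ofNat 1, Int.ofNat 1, Int.ofNat 1, Int.negSucc 0, Int.negSucc 0, Int.negSucc 0, Int.negSucc 0, Int.ofNat 1, Int.ofNat 1, Int.ofNat 3, Int.negSucc 0, Int.negSucc 0, Int.negSucc 0, Int.ofNat 1, Int.ofNat 1, Int.negSucc 0],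
  [Int.negSucc 0, Int.ofNat 1, Int.ofNat 1, Int.negSucc 0, Int.ofNat 1, Int.negSucc 0, Int.negSucc 0, Int.ofNat 1, Int.ofNat 1, Int.negSucc 0, Int.negSucc 0, Int.negSucc 0, Int.negSucc 0, Int.negSucc 0, Int.negSucc 0, Int.negSucc 0, Int.ofNat 1, Int.ofNat 3, Int.ofNat 1, Int.negSucc 0, Int.negSucc 0, Int.ofNat 1, Int.negSucc 0, Int.negSucc 0],
  [Int.ofNat 1, Int.negSucc 0, Int.negSucc 0, Int.negSucc 0, Int.ofNat 1, Int.negSucc 0, Int.negSucc 0, Int.ofNat 1, Int.ofNat 1, Int.ofNat 1, Int.ofNat 1, Int.negSucc 0, Int.negSucc 0, Int.negSucc 0, Int.negSucc 0, Int.ofNat 1, Int.ofNat 1, Int.ofNat 3, Int.ofNat 1, Int.negSucc 0, Int.ofNat 1, Int.ofNat 1, Int.negSucc 0, Int.ofNat 1],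
  [Int.ofNat 1, Int.ofNat 1, Int.negSucc 0, Int.negSucc 0, Int.negSucc 0, Int.ofNat 1, Int.negSucc 0, Int.negSucc 0, Int.ofNat 1, Int.negSucc 0, Int.ofNat 1, Int.negSucc 0, Int.ofNat 1, Int.ofNat 1, Int.ofNat 3, Int.ofNat 1, Int.negSucc 0, Int.negSucc 0, Int.ofNat 1, Int.negSucc 0, Int.ofNat 1, Int.ofNat 1, Int.negSucc 0, Int.ofNat 1],
  [Int.ofNat 0, Int.ofNat 0, Int.ofNat 2, Int.negSucc 1, Int.ofNat 0, Int.ofNat 0, Int.ofNat 0, Int.ofNat 0, Int.ofNat 0, Int.negSucc 1, Int.ofNat 0, Int.negSucc 1, Int.ofNat 0, Int.ofNat 2, Int.ofNat 2, Int.ofNat 0, Int.ofNat 0, Int.negSucc 1, Int.ofNat 0, Int.ofNat 0, Int.ofNat 0, Int.ofNat 2, Int.ofNat 0, Int.ofNat 0],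
  [Int.ofNat 0, Int.ofNat 2, Int.ofNat 0, Int.ofNat 0, Int.ofNat 0, Int.ofNat 2, Int.negSucc 1, Int.ofNat 0, Int.ofNat 0, Int.ofNat 0, Int.ofNat 0, Int.ofNat 0, Int.negSucc 1, Int.ofNat 0, Int.negSucc 1, Int.ofNat 0, Int.ofNat 2, Int.ofNat 2, Int.ofNat 0, Int.ofNat 0, Int.negSucc 1, Int.ofNat 0, Int.ofNat 0, Int.ofNat 0],
  [Int.ofNat 1, Int.negSucc 0, Int.ofNat 1, Int.negSucc 0, Int.negSucc 0, Int.ofNat 1, Int.negSucc 0, Int.ofNat 1, Int.ofNat 1, Int.ofNat 1, Int.ofNat 1, Int.ofNat 1, Int.negSucc 0, Int.negSucc 0, Int.negSucc 2, Int.ofNat 1, Int.ofNat 1, Int.ofNat 1, Int.ofNat 1, Int.ofNat 1, Int.negSucc 0, Int.ofNat 1, Int.negSucc 0, Int.ofNat 1],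
  [Int.negSucc 0, Int.ofNat 1, Int.negSucc 0, Int.negSucc 0, Int.ofNat 1, Int.negSucc 0, Int.ofNat 1, Int.ofNat 1, Int.ofNat 1, Int.ofNat 1, Int.ofNat 1, Int.negSucc 0, Int.negSucc 0, Int.negSucc 2, Int.ofNat 1, Int.ofNat 1, Int.ofNat 1, Int.ofNat 1, Int.ofNat 1, Int.negSucc 0, Int.ofNat 1, Int.negSucc 0, Int.ofNat 1, Int.ofNat 1],
  [Int.ofNat 1, Int.ofNat 1, Int.ofNat 1, Int.negSucc 0, Int.ofNat 1, Int.negSucc 0, Int.ofNat 1, Int.negSucc 0, Int.ofNat 1, Int.negSucc 0, Int.negSucc 0, Int.ofNat 1, Int.negSucc 0, Int.negSucc 2, Int.ofNat 1, Int.ofNat 1, Int.ofNat 1, Int.ofNat 1, Int.negSucc 0, Int.negSucc 0, Int.ofNat 1, Int.ofNat 1, Int.ofNat 1, Int.ofNat 1],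
  [Int.ofNat 1, Int.ofNat 1, Int.negSucc 0, Int.negSucc 0, Int.ofNat 1, Int.negSucc 0, Int.ofNat 1, Int.ofNat 1, Int.negSucc 0, Int.ofNat 1, Int.ofNat 1, Int.ofNat 1, Int.negSucc 2, Int.ofNat 1, Int.negSucc 0, Int.ofNat 1, Int.negSucc 0, Int.ofNat 1, Int.ofNat 1, Int.ofNat 1, Int.negSucc 0, Int.negSucc 0, Int.ofNat 1, Int.ofNat 1],
  [Int.negSucc 0, Int.ofNat 1, Int.ofNat 1, Int.negSucc 0, Int.ofNat 1, Int.negSucc 0, Int.ofNat 1, Int.negSucc 0, Int.negSucc 0, Int.negSucc 0, Int.negSucc 0, Int.negSucc 0, Int.negSucc 2, Int.ofNat 1, Int.negSucc 0, Int.ofNat 1, Int.negSucc 0, Int.ofNat 1, Int.negSucc 0, Int.ofNat 1, Int.negSucc 0, Int.ofNat 1, Int.ofNat 1, Int.ofNat 1],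
  [Int.ofNat 1, Int.negSucc 0, Int.ofNat 1, Int.ofNat 1, Int.negSucc 0, Int.ofNat 1, Int.negSucc 0, Int.ofNat 1, Int.negSucc 0, Int.negSucc 0, Int.negSucc 0, Int.negSucc 0, Int.negSucc 0, Int.negSucc 2, Int.ofNat 1, Int.negSucc 0, Int.ofNat 1, Int.negSucc 0, Int.ofNat 1, Int.negSucc 0, Int.ofNat 1, Int.negSucc 0, Int.ofNat 1, Int.ofNat 1],
  [Int.ofNat 0, Int.ofNat 2, Int.ofNat 0, Int.ofNat 0, Int.ofNat 0, Int.ofNat 0, Int.ofNat 0, Int.ofNat 2, Int.ofNat 0, Int.ofNat 0, Int.ofNat 0, Int.ofNat 0, Int.ofNat 0, Int.negSucc 1, Int.ofNat 0, Int.ofNat 0, Int.ofNat 2, Int.negSucc 1, Int.ofNat 2, Int.ofNat 0, Int.ofNat 2, Int.ofNat 0, Int.ofNat 2, Int.ofNat 0],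
  [Int.ofNat 0, Int.ofNat 0, Int.ofNat 0, Int.ofNat 0, Int.ofNat 2, Int.ofNat 0, Int.ofNat 0, Int.ofNat 0, Int.ofNat 0, Int.ofNat 0, Int.negSucc 1, Int.ofNat 0, Int.ofNat 0, Int.ofNat 2, Int.negSucc 1, Int.ofNat 2, Int.ofNat 0, Int.ofNat 2, Int.ofNat 0, Int.ofNat 2, Int.ofNat 0, Int.ofNat 2, Int.ofNat 0, Int.ofNat 0],
  [Int.ofNat 0, Int.ofNat 0, Int.ofNat 0, Int.ofNat 0, Int.ofNat 0, Int.ofNat 0, Int.negSucc 1, Int.negSucc 1, Int.ofNat 0, Int.ofNat 0, Int.negSucc 1, Int.ofNat 0, Int.ofNat 0, Int.ofNat 0, Int.negSucc 1, Int.ofNat 2, Int.negSucc 1, Int.ofNat 2, Int.ofNat 0, Int.ofNat 0, Int.ofNat 0, Int.ofNat 0, Int.negSucc 1, Int.ofNat 0],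
  [Int.ofNat 0, Int.negSucc 1, Int.ofNat 0, Int.ofNat 0, Int.ofNat 0, Int.negSucc 1, Int.ofNat 0, Int.negSucc 1, Int.ofNat 0, Int.ofNat 0, Int.ofNat 0, Int.ofNat 2, Int.ofNat 0, Int.negSucc 1, Int.negSucc 1, Int.ofNat 2, Int.ofNat 0, Int.negSucc 1, Int.ofNat 0, Int.ofNat 0, Int.ofNat 0, Int.ofNat 0, Int.ofNat 0, Int.ofNat 0],
  [Int.negSucc 0, Int.ofNat 1, Int.negSucc 0, Int.ofNat 3, Int.ofNat 1, Int.ofNat 1, Int.ofNat 1, Int.negSucc 0, Int.negSucc 0, Int.negSucc 0, Int.negSucc 0, Int.ofNat 1, Int.negSucc 0, Int.negSucc 0, Int.ofNat 1, Int.ofNat 1, Int.ofNat 1, Int.ofNat 1, Int.negSucc 0, Int.ofNat 1, Int.negSucc 0, Int.ofNat 1, Int.ofNat 1, Int.negSucc 0],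
  [Int.negSucc 0, Int.ofNat 1, Int.ofNat 1, Int.ofNat 3, Int.ofNat 1, Int.negSucc 0, Int.negSucc 0, Int.negSucc 0, Int.negSucc 0, Int.ofNat 1, Int.ofNat 1, Int.ofNat 1, Int.negSucc 0, Int.negSucc 0, Int.ofNat 1, Int.negSucc 0, Int.ofNat 1, Int.ofNat 1, Int.ofNat 1, Int.ofNat 1, Int.negSucc 0, Int.ofNat 1, Int.negSucc 0, Int.negSucc 0],
  [Int.ofNat 1, Int.ofNat 1, Int.ofNat 1, Int.negSucc 0, Int.ofNat 1, Int.negSucc 0, Int.ofNat 1, Int.ofNat 3, Int.negSucc 0, Int.negSucc 0, Int.negSucc 0, Int.negSucc 0, Int.negSucc 0, Int.ofNat 1, Int.ofNat 1, Int.ofNat 1, Int.ofNat 1, Int.negSucc 0, Int.ofNat 1, Int.ofNat 1, Int.negSucc 0, Int.ofNat 1, Int.negSucc 0, Int.negSucc 0],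
  [Int.negSucc 0, Int.negSucc 0, Int.negSucc 0, Int.ofNat 1, Int.negSucc 0, Int.negSucc 0, Int.negSucc 0, Int.ofNat 3, Int.ofNat 1, Int.ofNat 1, Int.negSucc 0, Int.negSucc 0, Int.ofNat 1, Int.negSucc 0, Int.ofNat 1, Int.ofNat 1, Int.negSucc 0, Int.negSucc 0, Int.negSucc 0, Int.ofNat 1, Int.negSucc 0, Int.ofNat 1, Int.negSucc 0, Int.negSucc 0],
  [Int.negSucc 0, Int.negSucc 0, Int.negSucc 0, Int.ofNat 1, Int.negSucc 0, Int.ofNat 1, Int.ofNat 1, Int.negSucc 0, Int.negSucc 0, Int.negSucc 0, Int.negSucc 0, Int.negSucc 0, Int.ofNat 1, Int.ofNat 3, Int.negSucc 0, Int.ofNat 1, Int.negSucc 0, Int.negSucc 0, Int.ofNat 1, Int.negSucc 0, Int.ofNat 1, Int.ofNat 1, Int.negSucc 0, Int.negSucc 0],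
  [Int.ofNat 1, Int.negSucc 0, Int.ofNat 1, Int.ofNat 1, Int.negSucc 0, Int.ofNat 1, Int.ofNat 1, Int.ofNat 1, Int.negSucc 0, Int.ofNat 1, Int.ofNat 1, Int.ofNat 1, Int.ofNat 1, Int.ofNat 3, Int.negSucc 0, Int.ofNat 1, Int.negSucc 0, Int.negSucc 0, Int.negSucc 0, Int.negSucc 0, Int.ofNat 1, Int.negSucc 0, Int.negSucc 0, Int.negSucc 0],
  [Int.negSucc 0, Int.ofNat 1, Int.negSucc 0, Int.ofNat 1, Int.ofNat 1, Int.negSucc 0, Int.ofNat 1, Int.ofNat 1, Int.ofNat 1, Int.negSucc 0, Int.ofNat 1, Int.ofNat 1, Int.ofNat 1, Int.ofNat 1, Int.ofNat 3, Int.negSucc 0, Int.ofNat 1, Int.negSucc 0, Int.negSucc 0, Int.negSucc 0, Int.negSucc 0, Int.ofNat 1, Int.negSucc 0, Int.negSucc 0],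
  [Int.ofNat 0, Int.negSucc 1, Int.ofNat 0, Int.ofNat 0, Int.ofNat 0, Int.negSucc 1, Int.ofNat 0, Int.ofNat 0, Int.ofNat 0, Int.ofNat 0, Int.ofNat 2, Int.ofNat 0, Int.ofNat 0, Int.ofNat 0, Int.ofNat 2, Int.ofNat 0, Int.ofNat 0, Int.negSucc 1, Int.negSucc 1, Int.negSucc 1, Int.ofNat 0, Int.ofNat 0, Int.negSucc 1, Int.ofNat 0],
  [Int.ofNat 0, Int.ofNat 0, Int.negSucc 1, Int.ofNat 0, Int.ofNat 0, Int.ofNat 0, Int.ofNat 0, Int.ofNat 2, Int.ofNat 0, Int.ofNat 0, Int.ofNat 0, Int.ofNat 2, Int.ofNat 0, Int.ofNat 0, Int.negSucc 1, Int.negSucc 1, Int.negSucc 1, Int.ofNat 0, Int.ofNat 0, Int.negSucc 1, Int.ofNat 0, Int.negSucc 1, Int.ofNat 0, Int.ofNat 0],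
  [Int.negSucc 0, Int.negSucc 0, Int.ofNat 1, Int.ofNat 1, Int.ofNat 1, Int.ofNat 1, Int.ofNat 1, Int.ofNat 3, Int.negSucc 0, Int.ofNat 1, Int.ofNat 1, Int.ofNat 1, Int.negSucc 0, Int.ofNat 1, Int.negSucc 0, Int.negSucc 0, Int.negSucc 0, Int.ofNat 1, Int.negSucc 0, Int.negSucc 0, Int.ofNat 1, Int.negSucc 0, Int.ofNat 1, Int.negSucc 0],
  [Int.negSucc 0, Int.ofNat 1, Int.ofNat 1, Int.ofNat 1, Int.negSucc 0, Int.ofNat 3, Int.ofNat 1, Int.ofNat 1, Int.negSucc 0, Int.ofNat 1, Int.ofNat 1, Int.ofNat 1, Int.ofNat 1, Int.negSucc 0, Int.ofNat 1, Int.negSucc 0, Int.negSucc 0, Int.negSucc 0, Int.negSucc 0, Int.ofNat 1, Int.negSucc 0, Int.ofNat 1, Int.negSucc 0, Int.negSucc 0],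
  [Int.ofNat 1, Int.negSucc 0, Int.negSucc 0, Int.negSucc 0, Int.ofNat 1, Int.ofNat 1, Int.negSucc 0, Int.negSucc 0, Int.negSucc 0, Int.ofNat 1, Int.ofNat 1, Int.ofNat 1, Int.ofNat 1, Int.ofNat 1, Int.negSucc 0, Int.negSucc 0, Int.ofNat 1, Int.negSucc 2, Int.negSucc 0, Int.negSucc 0, Int.negSucc 0, Int.negSucc 0, Int.ofNat 1, Int.ofNat 1],
  [Int.ofNat 1, Int.negSucc 0, Int.ofNat 1, Int.negSucc 0, Int.ofNat 1, Int.negSucc 0, Int.ofNat 1, Int.negSucc 0, Int.negSucc 0, Int.negSucc 0, Int.negSucc 0, Int.ofNat 1, Int.ofNat 1, Int.ofNat 1, Int.negSucc 0, Int.ofNat 1, Int.ofNat 1, Int.negSucc 2, Int.ofNat 1, Int.negSucc 0, Int.negSucc 0, Int.negSucc 0, Int.negSucc 0, Int.ofNat 1],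
  [Int.negSucc 0, Int.ofNat 1, Int.negSucc 0, Int.ofNat 1, Int.ofNat 1, Int.ofNat 1, Int.ofNat 1, Int.negSucc 0, Int.ofNat 1, Int.negSucc 0, Int.ofNat 1, Int.negSucc 2, Int.negSucc 0, Int.negSucc 0, Int.negSucc 0, Int.ofNat 1, Int.ofNat 1, Int.negSucc 0, Int.negSucc 0, Int.ofNat 1, Int.negSucc 0, Int.negSucc 0, Int.negSucc 0, Int.ofNat 1],
  [Int.negSucc 0, Int.ofNat 1, Int.ofNat 1, Int.ofNat 1, Int.ofNat 1, Int.negSucc 0, Int.negSucc 0, Int.negSucc 0, Int.ofNat 1, Int.ofNat 1, Int.negSucc 0, Int.negSucc 2, Int.negSucc 0, Int.negSucc 0, Int.negSucc 0, Int.negSucc 0, Int.ofNat 1, Int.negSucc 0, Int.ofNat 1, Int.ofNat 1, Int.negSucc 0, Int.negSucc 0, Int.ofNat 1, Int.ofNat 1],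
  [Int.ofNat 2, Int.ofNat 0, Int.ofNat 0, Int.ofNat 2, Int.ofNat 0, Int.ofNat 0, Int.ofNat 0, Int.ofNat 0, Int.ofNat 2, Int.ofNat 2, Int.ofNat 0, Int.negSucc 1, Int.ofNat 0, Int.negSucc 1, Int.ofNat 0, Int.ofNat 0, Int.ofNat 0, Int.ofNat 0, Int.ofNat 2, Int.ofNat 2, Int.ofNat 0, Int.ofNat 0, Int.ofNat 0, Int.ofNat 0],
  [Int.ofNat 2, Int.ofNat 2, Int.ofNat 0, Int.ofNat 2, Int.ofNat 0, Int.ofNat 0, Int.ofNat 0, Int.ofNat 0, Int.ofNat 0, Int.ofNat 0, Int.ofNat 0, Int.ofNat 2, Int.ofNat 2, Int.ofNat 2, Int.ofNat 0, Int.ofNat 0, Int.negSucc 1, Int.negSucc 1, Int.ofNat 0, Int.ofNat 0, Int.ofNat 0, Int.ofNat 0, Int.ofNat 0, Int.ofNat 0],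
  [Int.ofNat 0, Int.ofNat 0, Int.ofNat 2, Int.ofNat 2, Int.ofNat 0, Int.ofNat 0, Int.ofNat 0, Int.ofNat 0, Int.negSucc 1, Int.ofNat 0, Int.ofNat 0, Int.ofNat 0, Int.ofNat 0, Int.ofNat 2, Int.ofNat 0, Int.ofNat 0, Int.negSucc 1, Int.negSucc 1, Int.negSucc 1, Int.ofNat 0, Int.ofNat 0, Int.ofNat 0, Int.ofNat 0, Int.ofNat 2],
  [Int.ofNat 0, Int.ofNat 0, Int.ofNat 0, Int.ofNat 0, Int.ofNat 0, Int.ofNat 2, Int.ofNat 2, Int.ofNat 0, Int.ofNat 0, Int.ofNat 0, Int.ofNat 0, Int.negSucc 1, Int.ofNat 0, Int.ofNat 0, Int.ofNat 0, Int.ofNat 0, Int.ofNat 2, Int.ofNat 0, Int.ofNat 0, Int.negSucc 1, Int.negSucc 1, Int.negSucc 1, Int.ofNat 0, Int.ofNat 2],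
  [Int.ofNat 1, Int.ofNat 1, Int.ofNat 1, Int.negSucc 0, Int.negSucc 0, Int.ofNat 1, Int.ofNat 3, Int.ofNat 1, Int.ofNat 1, Int.ofNat 1, Int.ofNat 1, Int.negSucc 0, Int.ofNat 1, Int.negSucc 0, Int.negSucc 0, Int.ofNat 1, Int.ofNat 1, Int.negSucc 0, Int.ofNat 1, Int.negSucc 0, Int.negSucc 0, Int.negSucc 0, Int.negSucc 0, Int.negSucc 0],
  [Int.ofNat 1, Int.ofNat 1, Int.negSucc 0, Int.negSucc 0, Int.ofNat 1, Int.ofNat 3, Int.ofNat 1, Int.ofNat 1, Int.ofNat 1, Int.ofNat 1, Int.negSucc 0, Int.ofNat 1, Int.negSucc 0, Int.negSucc 0, Int.ofNat 1, Int.ofNat 1, Int.negSucc 0, Int.ofNat 1, Int.negSucc 0, Int.negSucc 0, Int.negSucc 0, Int.negSucc 0, Int.ofNat 1, Int.negSucc 0],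
  [Int.negSucc 0, Int.ofNat 1, Int.ofNat 1, Int.negSucc 0, Int.ofNat 1, Int.ofNat 3, Int.ofNat 1, Int.negSucc 0, Int.ofNat 1, Int.negSucc 0, Int.ofNat 1, Int.negSucc 0, Int.negSucc 0, Int.negSucc 0, Int.ofNat 1, Int.ofNat 1, Int.negSucc 0, Int.ofNat 1, Int.ofNat 1, Int.negSucc 0, Int.negSucc 0, Int.ofNat 1, Int.ofNat 1, Int.negSucc 0],
  [Int.negSucc 0, Int.ofNat 1, Int.ofNat 1, Int.negSucc 0, Int.ofNat 1, Int.ofNat 1, Int.ofNat 1, Int.negSucc 0, Int.negSucc 0, Int.negSucc 0, Int.ofNat 1, Int.ofNat 1, Int.negSucc 0, Int.ofNat 1, Int.negSucc 0, Int.ofNat 1, Int.negSucc 0, Int.ofNat 1, Int.ofNat 1, Int.ofNat 1, Int.ofNat 3, Int.negSucc 0, Int.negSucc 0, Int.negSucc 0],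
  [Int.ofNat 1, Int.ofNat 1, Int.negSucc 0, Int.negSucc 0, Int.ofNat 1, Int.ofNat 1, Int.ofNat 1, Int.ofNat 1, Int.negSucc 0, Int.ofNat 1, Int.negSucc 0, Int.negSucc 0, Int.negSucc 0, Int.ofNat 1, Int.negSucc 0, Int.ofNat 1, Int.negSucc 0, Int.ofNat 1, Int.negSucc 0, Int.ofNat 1, Int.ofNat 3, Int.ofNat 1, Int.negSucc 0, Int.negSucc 0],
  [Int.negSucc 0, Int.ofNat 1, Int.ofNat 1, Int.negSucc 0, Int.negSucc 0, Int.ofNat 1, Int.ofNat 1, Int.ofNat 1, Int.ofNat 1, Int.negSucc 0, Int.ofNat 1, Int.negSucc 0, Int.negSucc 0, Int.negSucc 0, Int.ofNat 1, Int.negSucc 0, Int.ofNat 1, Int.negSucc 0, Int.ofNat 1, Int.negSucc 0, Int.ofNat 1, Int.ofNat 3, Int.ofNat 1, Int.negSucc 0],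
  [Int.ofNat 1, Int.negSucc 0, Int.negSucc 0, Int.negSucc 0, Int.negSucc 0, Int.ofNat 1, Int.negSucc 0, Int.negSucc 0, Int.ofNat 1, Int.negSucc 0, Int.ofNat 1, Int.negSucc 0, Int.negSucc 0, Int.negSucc 0, Int.ofNat 1, Int.negSucc 0, Int.ofNat 1, Int.negSucc 0, Int.ofNat 1, Int.negSucc 2, Int.ofNat 1, Int.ofNat 1, Int.ofNat 1, Int.ofNat 1],
  [Int.negSucc 0, Int.negSucc 0, Int.ofNat 1, Int.negSucc 0, Int.negSucc 0, Int.ofNat 1, Int.negSucc 0, Int.ofNat 1, Int.negSucc 0, Int.negSucc 0, Int.negSucc 0, Int.ofNat 1, Int.negSucc 0, Int.ofNat 1, Int.negSucc 0, Int.ofNat 1, Int.negSucc 2, Int.ofNat 1, Int.ofNat 1, Int.ofNat 1, Int.ofNat 1, Int.negSucc 0, Int.negSucc 0, Int.ofNat 1],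
  [Int.ofNat 1, Int.ofNat 1, Int.negSucc 0, Int.negSucc 0, Int.ofNat 1, Int.ofNat 1, Int.negSucc 0, Int.ofNat 1, Int.negSucc 0, Int.negSucc 0, Int.negSucc 0, Int.ofNat 1, Int.negSucc 0, Int.ofNat 3, Int.negSucc 0, Int.ofNat 1, Int.negSucc 0, Int.ofNat 1, Int.ofNat 1, Int.ofNat 1, Int.ofNat 1, Int.negSucc 0, Int.ofNat 1, Int.negSucc 0],
  [Int.ofNat 1, Int.negSucc 0, Int.ofNat 1, Int.negSucc 0, Int.ofNat 1, Int.ofNat 1, Int.negSucc 0, Int.negSucc 0, Int.negSucc 0, Int.ofNat 3, Int.ofNat 1, Int.ofNat 1, Int.negSucc 0, Int.negSucc 0, Int.ofNat 1, Int.ofNat 1, Int.negSucc 0, Int.negSucc 0, Int.ofNat 1, Int.ofNat 1, Int.negSucc 0, Int.ofNat 1, Int.ofNat 1, Int.negSucc 0],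
  [Int.negSucc 0, Int.ofNat 1, Int.negSucc 0, Int.negSucc 0, Int.ofNat 1, Int.ofNat 1, Int.negSucc 0, Int.negSucc 0, Int.negSucc 0, Int.ofNat 1, Int.negSucc 0, Int.ofNat 1, Int.negSucc 0, Int.negSucc 0, Int.ofNat 1, Int.negSucc 0, Int.negSucc 0, Int.negSucc 0, Int.ofNat 1, Int.ofNat 1, Int.negSucc 2, Int.ofNat 1, Int.ofNat 1, Int.ofNat 1],
  [Int.negSucc 0, Int.ofNat 1, Int.ofNat 1, Int.negSucc 0, Int.ofNat 1, Int.negSucc 0, Int.ofNat 1, Int.negSucc 0, Int.negSucc 0, Int.negSucc 0, Int.ofNat 1, Int.ofNat 1, Int.negSucc 0, Int.negSucc 0, Int.ofNat 1, Int.ofNat 1, Int.negSucc 0, Int.negSucc 0, Int.negSucc 0, Int.ofNat 1, Int.negSucc 2, Int.ofNat 1, Int.negSucc 0, Int.ofNat 1],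
  [Int.ofNat 1, Int.negSucc 0, Int.ofNat 1, Int.negSucc 0, Int.ofNat 1, Int.ofNat 1, Int.ofNat 1, Int.negSucc 0, Int.negSucc 0, Int.negSucc 2, Int.negSucc 0, Int.negSucc 0, Int.ofNat 1, Int.ofNat 1, Int.negSucc 0, Int.negSucc 0, Int.ofNat 1, Int.negSucc 0, Int.negSucc 0, Int.ofNat 1, Int.negSucc 0, Int.ofNat 1, Int.negSucc 0, Int.ofNat 1],
  [Int.negSucc 0, Int.ofNat 1, Int.negSucc 0, Int.ofNat 1, Int.negSucc 0, Int.ofNat 1, Int.negSucc 0, Int.negSucc 0, Int.ofNat 1, Int.ofNat 3, Int.negSucc 0, Int.negSucc 0, Int.negSucc 0, Int.negSucc 0, Int.negSucc 0, Int.negSucc 0, Int.negSucc 0, Int.negSucc 0, Int.ofNat 1, Int.ofNat 1, Int.negSucc 0, Int.ofNat 1, Int.negSucc 0, Int.ofNat 1],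
  [Int.ofNat 1, Int.negSucc 0, Int.negSucc 0, Int.negSucc 0, Int.negSucc 0, Int.ofNat 3, Int.ofNat 1, Int.negSucc 0, Int.negSucc 0, Int.ofNat 1, Int.negSucc 0, Int.negSucc 0, Int.ofNat 1, Int.negSucc 0, Int.ofNat 1, Int.ofNat 1, Int.negSucc 0, Int.negSucc 0, Int.negSucc 0, Int.negSucc 0, Int.ofNat 1, Int.negSucc 0, Int.ofNat 1, Int.negSucc 0],
  [Int.negSucc 0, Int.negSucc 0, Int.ofNat 1, Int.negSucc 0, Int.negSucc 0, Int.ofNat 3, Int.ofNat 1, Int.ofNat 1, Int.negSucc 0, Int.negSucc 0, Int.ofNat 1, Int.ofNat 1, Int.ofNat 1, Int.negSucc 0, Int.ofNat 1, Int.ofNat 1, Int.negSucc 0, Int.negSucc 0, Int.ofNat 1, Int.negSucc 0, Int.ofNat 1, Int.ofNat 1, Int.ofNat 1, Int.negSucc 0],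
  [Int.ofNat 1, Int.negSucc 0, Int.negSucc 0, Int.ofNat 1, Int.negSucc 0, Int.negSucc 0, Int.ofNat 3, Int.ofNat 1, Int.ofNat 1, Int.negSucc 0, Int.negSucc 0, Int.ofNat 1, Int.ofNat 1, Int.ofNat 1, Int.negSucc 0, Int.ofNat 1, Int.ofNat 1, Int.negSucc 0, Int.negSucc 0, Int.ofNat 1, Int.negSucc 0, Int.ofNat 1, Int.ofNat 1, Int.negSucc 0],
  [Int.negSucc 1, Int.ofNat 0, Int.ofNat 0, Int.ofNat 2, Int.negSucc 1, Int.ofNat 0, Int.ofNat 0, Int.negSucc 1, Int.ofNat 0, Int.ofNat 0, Int.ofNat 0, Int.ofNat 0, Int.ofNat 0, Int.ofNat 0, Int.ofNat 0, Int.ofNat 2, Int.ofNat 0, Int.ofNat 0, Int.negSucc 1, Int.negSucc 1, Int.ofNat 0, Int.negSucc 1, Int.ofNat 0, Int.ofNat 0],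
  [Int.ofNat 2, Int.negSucc 1, Int.ofNat 0, Int.ofNat 0, Int.negSucc 1, Int.ofNat 0, Int.ofNat 0, Int.ofNat 0, Int.ofNat 0, Int.ofNat 0, Int.ofNat 0, Int.ofNat 0, Int.ofNat 2, Int.ofNat 0, Int.ofNat 0, Int.negSucc 1, Int.negSucc 1, Int.ofNat 0, Int.negSucc 1, Int.ofNat 0, Int.negSucc 1, Int.ofNat 0, Int.ofNat 0, Int.ofNat 0],
  [Int.negSucc 1, Int.ofNat 2, Int.ofNat 0, Int.ofNat 0, Int.ofNat 0, Int.ofNat 0, Int.ofNat 0, Int.ofNat 0, Int.ofNat 0, Int.ofNat 2, Int.ofNat 2, Int.ofNat 0, Int.ofNat 2, Int.ofNat 2, Int.ofNat 0, Int.ofNat 0, Int.ofNat 0, Int.ofNat 0, Int.negSucc 1, Int.ofNat 0, Int.ofNat 0, Int.ofNat 0, Int.ofNat 2, Int.ofNat 0],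
  [Int.negSucc 1, Int.ofNat 0, Int.ofNat 0, Int.ofNat 0, Int.negSucc 1, Int.ofNat 0, Int.ofNat 0, Int.ofNat 2, Int.ofNat 2, Int.ofNat 2, Int.ofNat 0, Int.ofNat 0, Int.ofNat 2, Int.ofNat 0, Int.ofNat 2, Int.ofNat 0, Int.ofNat 0, Int.ofNat 0, Int.ofNat 2, Int.ofNat 0, Int.ofNat 0, Int.ofNat 0, Int.ofNat 0, Int.ofNat 0],
  [Int.ofNat 1, Int.negSucc 0, Int.negSucc 0, Int.negSucc 0, Int.negSucc 0, Int.negSucc 0, Int.negSucc 0, Int.ofNat 1, Int.negSucc 0, Int.ofNat 1, Int.negSucc 0, Int.negSucc 2, Int.negSucc 0, Int.ofNat 1, Int.ofNat 1, Int.negSucc 0, Int.ofNat 1, Int.negSucc 0, Int.negSucc 0, Int.negSucc 0, Int.negSucc 0, Int.negSucc 0, Int.ofNat 1, Int.negSucc 0],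
  [Int.ofNat 1, Int.negSucc 0, Int.ofNat 1, Int.negSucc 0, Int.negSucc 0, Int.ofNat 1, Int.ofNat 1, Int.ofNat 1, Int.negSucc 0, Int.negSucc 0, Int.ofNat 1, Int.negSucc 2, Int.negSucc 0, Int.ofNat 1, Int.ofNat 1, Int.ofNat 1, Int.ofNat 1, Int.negSucc 0, Int.ofNat 1, Int.negSucc 0, Int.negSucc 0, Int.negSucc 0, Int.negSucc 0, Int.negSucc 0],
  [Int.negSucc 0, Int.ofNat 1, Int.ofNat 1, Int.ofNat 1, Int.negSucc 2, Int.ofNat 1, Int.negSucc 0, Int.ofNat 1, Int.ofNat 1, Int.negSucc 0, Int.ofNat 1, Int.negSucc 0, Int.negSucc 0, Int.negSucc 0, Int.negSucc 0, Int.ofNat 1, Int.negSucc 0, Int.negSucc 0, Int.ofNat 1, Int.ofNat 1, Int.negSucc 0, Int.negSucc 0, Int.ofNat 1, Int.negSucc 0],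
  [Int.negSucc 0, Int.ofNat 1, Int.negSucc 0, Int.ofNat 1, Int.negSucc 2, Int.negSucc 0, Int.ofNat 1, Int.ofNat 1, Int.ofNat 1, Int.ofNat 1, Int.negSucc 0, Int.negSucc 0, Int.negSucc 0, Int.negSucc 0, Int.negSucc 0, Int.negSucc 0, Int.negSucc 0, Int.negSucc 0, Int.negSucc 0, Int.ofNat 1, Int.negSucc 0, Int.negSucc 0, Int.negSucc 0, Int.negSucc 0],
  [Int.ofNat 0, Int.negSucc 1, Int.ofNat 0, Int.ofNat 2, Int.ofNat 0, Int.ofNat 0, Int.ofNat 0, Int.ofNat 0, Int.ofNat 2, Int.ofNat 2, Int.ofNat 0, Int.ofNat 0, Int.ofNat 0, Int.ofNat 2, Int.ofNat 0, Int.ofNat 0, Int.ofNat 2, Int.ofNat 0, Int.ofNat 0, Int.ofNat 0, Int.ofNat 0, Int.negSucc 1, Int.ofNat 2, Int.ofNat 0],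
  [Int.ofNat 0, Int.ofNat 0, Int.ofNat 0, Int.ofNat 2, Int.ofNat 0, Int.negSucc 1, Int.negSucc 1, Int.ofNat 0, Int.ofNat 2, Int.ofNat 0, Int.ofNat 0, Int.ofNat 0, Int.ofNat 2, Int.ofNat 2, Int.ofNat 0, Int.ofNat 0, Int.ofNat 2, Int.ofNat 0, Int.ofNat 0, Int.ofNat 2, Int.ofNat 0, Int.ofNat 0, Int.ofNat 0, Int.ofNat 0],
  [Int.ofNat 0, Int.ofNat 0, Int.ofNat 0, Int.ofNat 2, Int.negSucc 1, Int.negSucc 1, Int.negSucc 1, Int.ofNat 0, Int.ofNat 0, Int.ofNat 0, Int.ofNat 0, Int.negSucc 1, Int.ofNat 0, Int.ofNat 0, Int.ofNat 0, Int.ofNat 0, Int.ofNat 0, Int.ofNat 0, Int.negSucc 1, Int.ofNat 2, Int.ofNat 0, Int.ofNat 0, Int.negSucc 1, Int.ofNat 0],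
  [Int.ofNat 0, Int.ofNat 0, Int.negSucc 1, Int.ofNat 0, Int.ofNat 0, Int.ofNat 0, Int.ofNat 2, Int.negSucc 1, Int.negSucc 1, Int.negSucc 1, Int.ofNat 0, Int.ofNat 0, Int.ofNat 0, Int.ofNat 0, Int.negSucc 1, Int.ofNat 0, Int.ofNat 0, Int.ofNat 0, Int.ofNat 0, Int.ofNat 0, Int.ofNat 0, Int.negSucc 1, Int.ofNat 2, Int.ofNat 0],
  [Int.negSucc 0, Int.negSucc 0, Int.ofNat 1, Int.ofNat 1, Int.negSucc 0, Int.ofNat 1, Int.ofNat 3, Int.negSucc 0, Int.negSucc 0, Int.negSucc 0, Int.ofNat 1, Int.ofNat 1, Int.ofNat 1, Int.negSucc 0, Int.negSucc 0, Int.ofNat 1, Int.negSucc 0, Int.ofNat 1, Int.ofNat 1, Int.ofNat 1, Int.ofNat 1, Int.negSucc 0, Int.ofNat 1, Int.negSucc 0],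
  [Int.negSucc 0, Int.ofNat 1, Int.ofNat 1, Int.negSucc 0, Int.ofNat 1, Int.ofNat 3, Int.negSucc 0, Int.negSucc 0, Int.negSucc 0, Int.ofNat 1, Int.ofNat 1, Int.ofNat 1, Int.negSucc 0, Int.negSucc 0, Int.ofNat 1, Int.negSucc 0, Int.ofNat 1, Int.ofNat 1, Int.ofNat 1, Int.ofNat 1, Int.negSucc 0, Int.ofNat 1, Int.negSucc 0, Int.negSucc 0],
  [Int.ofNat 1, Int.ofNat 1, Int.negSucc 0, Int.negSucc 0, Int.ofNat 1, Int.ofNat 3, Int.negSucc 0, Int.ofNat 1, Int.negSucc 0, Int.negSucc 0, Int.negSucc 0, Int.negSucc 0, Int.negSucc 0, Int.negSucc 0, Int.ofNat 1, Int.negSucc 0, Int.ofNat 1, Int.ofNat 1, Int.negSucc 0, Int.ofNat 1, Int.negSucc 0, Int.negSucc 0, Int.negSucc 0, Int.negSucc 0],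
  [Int.ofNat 1, Int.negSucc 0, Int.negSucc 0, Int.negSucc 0, Int.ofNat 1, Int.negSucc 0, Int.ofNat 1, Int.negSucc 0, Int.negSucc 0, Int.ofNat 1, Int.negSucc 0, Int.ofNat 1, Int.negSucc 0, Int.negSucc 0, Int.ofNat 1, Int.negSucc 0, Int.negSucc 0, Int.negSucc 0, Int.negSucc 0, Int.ofNat 1, Int.ofNat 3, Int.ofNat 1, Int.negSucc 0, Int.negSucc 0],
  [Int.negSucc 0, Int.negSucc 0, Int.ofNat 1, Int.negSucc 0, Int.ofNat 1, Int.negSucc 0, Int.ofNat 1, Int.ofNat 1, Int.negSucc 0, Int.negSucc 0, Int.ofNat 1, Int.negSucc 0, Int.negSucc 0, Int.negSucc 0, Int.ofNat 1, Int.negSucc 0, Int.negSucc 0, Int.negSucc 0, Int.ofNat 1, Int.ofNat 1, Int.ofNat 3, Int.negSucc 0, Int.negSucc 0, Int.negSucc 0],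
  [Int.negSucc 0, Int.negSucc 0, Int.negSucc 0, Int.ofNat 1, Int.negSucc 0, Int.ofNat 1, Int.negSucc 0, Int.ofNat 1, Int.ofNat 1, Int.negSucc 0, Int.negSucc 0, Int.ofNat 1, Int.negSucc 0, Int.negSucc 0, Int.negSucc 0, Int.ofNat 1, Int.negSucc 0, Int.negSucc 0, Int.negSucc 0, Int.ofNat 1, Int.ofNat 1, Int.ofNat 3, Int.negSucc 0, Int.negSucc 0],
  [Int.negSucc 0, Int.negSucc 0, Int.negSucc 0, Int.ofNat 1, Int.ofNat 1, Int.ofNat 1, Int.negSucc 2, Int.negSucc 0, Int.ofNat 1, Int.negSucc 0, Int.negSucc 0, Int.ofNat 1, Int.negSucc 0, Int.ofNat 1, Int.negSucc 0, Int.ofNat 1, Int.ofNat 1, Int.negSucc 0, Int.negSucc 0, Int.negSucc 0, Int.ofNat 1, Int.ofNat 1, Int.ofNat 1, Int.negSucc 0],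
  [Int.ofNat 1, Int.ofNat 1, Int.ofNat 1, Int.negSucc 2, Int.negSucc 0, Int.ofNat 1, Int.negSucc 0, Int.negSucc 0, Int.ofNat 1, Int.negSucc 0, Int.ofNat 1, Int.negSucc 0, Int.ofNat 1, Int.ofNat 1, Int.negSucc 0, Int.negSucc 0, Int.negSucc 0, Int.ofNat 1, Int.ofNat 1, Int.ofNat 1, Int.negSucc 0, Int.negSucc 0, Int.negSucc 0, Int.negSucc 0],
  [Int.ofNat 0, Int.ofNat 0, Int.ofNat 0, Int.negSucc 1, Int.ofNat 0, Int.ofNat 2, Int.ofNat 0, Int.ofNat 0, Int.ofNat 0, Int.ofNat 0, Int.ofNat 2, Int.negSucc 1, Int.ofNat 0, Int.ofNat 2, Int.ofNat 0, Int.ofNat 0, Int.ofNat 0, Int.ofNat 2, Int.ofNat 0, Int.ofNat 2, Int.ofNat 0, Int.ofNat 0, Int.ofNat 0, Int.ofNat 2],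
  [Int.ofNat 0, Int.ofNat 0, Int.ofNat 0, Int.negSucc 1, Int.ofNat 0, Int.ofNat 0, Int.ofNat 0, Int.ofNat 2, Int.ofNat 0, Int.ofNat 2, Int.ofNat 0, Int.ofNat 2, Int.ofNat 0, Int.ofNat 0, Int.ofNat 0, Int.ofNat 0, Int.ofNat 0, Int.ofNat 0, Int.ofNat 0, Int.negSucc 1, Int.ofNat 0, Int.ofNat 2, Int.ofNat 2, Int.ofNat 2],
  [Int.ofNat 1, Int.ofNat 1, Int.ofNat 1, Int.negSucc 0, Int.negSucc 0, Int.ofNat 1, Int.negSucc 0, Int.ofNat 1, Int.negSucc 0, Int.ofNat 1, Int.negSucc 0, Int.ofNat 1, Int.negSucc 0, Int.negSucc 0, Int.ofNat 1, Int.negSucc 0, Int.negSucc 0, Int.ofNat 1, Int.negSucc 0, Int.negSucc 2, Int.negSucc 0, Int.ofNat 1, Int.ofNat 1, Int.negSucc 0],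
  [Int.ofNat 1, Int.ofNat 1, Int.negSucc 0, Int.negSucc 0, Int.negSucc 0, Int.negSucc 0, Int.ofNat 1, Int.ofNat 1, Int.negSucc 0, Int.negSucc 0, Int.ofNat 1, Int.ofNat 1, Int.negSucc 0, Int.negSucc 0, Int.ofNat 1, Int.ofNat 1, Int.negSucc 0, Int.ofNat 1, Int.ofNat 1, Int.negSucc 2, Int.negSucc 0, Int.ofNat 1, Int.negSucc 0, Int.negSucc 0],
  [Int.ofNat 1, Int.negSucc 0, Int.ofNat 1, Int.negSucc 0, Int.ofNat 1, Int.ofNat 1, Int.ofNat 1, Int.negSucc 0, Int.negSucc 0, Int.negSucc 0, Int.negSucc 0, Int.ofNat 1, Int.ofNat 1, Int.negSucc 0, Int.ofNat 1, Int.ofNat 1, Int.negSucc 2, Int.negSucc 0, Int.negSucc 0, Int.negSucc 0, Int.ofNat 1, Int.ofNat 1, Int.negSucc 0, Int.negSucc 0],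
  [Int.negSucc 0, Int.ofNat 1, Int.negSucc 0, Int.ofNat 1, Int.negSucc 0, Int.ofNat 1, Int.negSucc 0, Int.negSucc 0, Int.ofNat 1, Int.ofNat 1, Int.negSucc 0, Int.ofNat 1, Int.negSucc 0, Int.ofNat 1, Int.ofNat 1, Int.ofNat 1, Int.ofNat 3, Int.negSucc 0, Int.ofNat 1, Int.negSucc 0, Int.ofNat 1, Int.ofNat 1, Int.negSucc 0, Int.negSucc 0],
  [Int.negSucc 0, Int.negSucc 0, Int.ofNat 1, Int.ofNat 1, Int.negSucc 0, Int.ofNat 1, Int.negSucc 0, Int.ofNat 1, Int.ofNat 1, Int.ofNat 1, Int.ofNat 3, Int.negSucc 0, Int.ofNat 1, Int.negSucc 0, Int.ofNat 1, Int.ofNat 1, Int.negSucc 0, Int.negSucc 0, Int.ofNat 1, Int.negSucc 0, Int.ofNat 1, Int.negSucc 0, Int.ofNat 1, Int.negSucc 0],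
  [Int.ofNat 1, Int.negSucc 0, Int.negSucc 0, Int.ofNat 1, Int.negSucc 0, Int.ofNat 1, Int.negSucc 0, Int.negSucc 0, Int.ofNat 1, Int.negSucc 0, Int.negSucc 2, Int.ofNat 1, Int.ofNat 1, Int.negSucc 0, Int.ofNat 1, Int.ofNat 1, Int.negSucc 0, Int.negSucc 0, Int.negSucc 0, Int.negSucc 0, Int.ofNat 1, Int.ofNat 1, Int.ofNat 1, Int.negSucc 0],
  [Int.ofNat 1, Int.ofNat 1, Int.negSucc 0, Int.negSucc 0, Int.ofNat 1, Int.negSucc 0, Int.ofNat 1, Int.negSucc 0, Int.negSucc 0, Int.ofNat 1, Int.negSucc 0, Int.negSucc 2, Int.ofNat 1, Int.ofNat 1, Int.negSucc 0, Int.ofNat 1, Int.ofNat 1, Int.negSucc 0, Int.negSucc 0, Int.negSucc 0, Int.negSucc 0, Int.ofNat 1, Int.ofNat 1, Int.negSucc 0],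
  [Int.negSucc 0, Int.negSucc 0, Int.ofNat 1, Int.ofNat 1, Int.negSucc 0, Int.ofNat 1, Int.ofNat 1, Int.negSucc 0, Int.ofNat 1, Int.ofNat 1, Int.negSucc 0, Int.negSucc 0, Int.ofNat 3, Int.negSucc 0, Int.ofNat 1, Int.ofNat 1, Int.negSucc 0, Int.ofNat 1, Int.ofNat 1, Int.negSucc 0, Int.negSucc 0, Int.ofNat 1, Int.negSucc 0, Int.ofNat 1],
  [Int.ofNat 1, Int.negSucc 0, Int.ofNat 1, Int.ofNat 1, Int.negSucc 0, Int.ofNat 1, Int.ofNat 1, Int.negSucc 0, Int.negSucc 0, Int.ofNat 3, Int.negSucc 0, Int.ofNat 1, Int.ofNat 1, Int.negSucc 0, Int.ofNat 1, Int.ofNat 1, Int.negSucc 0, Int.negSucc 0, Int.ofNat 1, Int.negSucc 0, Int.negSucc 0, Int.negSucc 0, Int.ofNat 1, Int.ofNat 1],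
  [Int.ofNat 0, Int.ofNat 2, Int.ofNat 0, Int.ofNat 0, Int.ofNat 0, Int.ofNat 0, Int.ofNat 2, Int.ofNat 0, Int.negSucc 1, Int.ofNat 2, Int.negSucc 1, Int.ofNat 0, Int.ofNat 0, Int.ofNat 0, Int.ofNat 0, Int.ofNat 0, Int.ofNat 0, Int.negSucc 1, Int.ofNat 0, Int.ofNat 0, Int.negSucc 1, Int.ofNat 0, Int.ofNat 2, Int.ofNat 0],
  [Int.ofNat 0, Int.ofNat 2, Int.ofNat 0, Int.ofNat 0, Int.ofNat 0, Int.ofNat 0, Int.ofNat 0, Int.negSucc 1, Int.ofNat 0, Int.ofNat 0, Int.negSucc 1, Int.negSucc 1, Int.ofNat 2, Int.ofNat 0, Int.ofNat 2, Int.ofNat 0, Int.negSucc 1, Int.ofNat 0, Int.ofNat 2, Int.ofNat 0, Int.ofNat 0, Int.ofNat 0, Int.ofNat 0, Int.ofNat 0],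
  [Int.ofNat 1, Int.negSucc 0, Int.ofNat 1, Int.negSucc 0, Int.ofNat 1, Int.negSucc 0, Int.ofNat 1, Int.negSucc 0, Int.negSucc 0, Int.ofNat 1, Int.negSucc 0, Int.negSucc 2, Int.ofNat 1, Int.ofNat 1, Int.ofNat 1, Int.ofNat 1, Int.negSucc 0, Int.negSucc 0, Int.ofNat 1, Int.ofNat 1, Int.ofNat 1, Int.ofNat 1, Int.ofNat 1, Int.ofNat 1],
  [Int.ofNat 1, Int.negSucc 0, Int.negSucc 0, Int.negSucc 0, Int.ofNat 1, Int.ofNat 1, Int.negSucc 0, Int.negSucc 0, Int.negSucc 0, Int.negSucc 0, Int.ofNat 1, Int.negSucc 2, Int.ofNat 1, Int.ofNat 1, Int.ofNat 1, Int.negSucc 0, Int.negSucc 0, Int.negSucc 0, Int.negSucc 0, Int.ofNat 1, Int.ofNat 1, Int.ofNat 1, Int.negSucc 0, Int.ofNat 1],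
  [Int.ofNat 1, Int.ofNat 1, Int.ofNat 1, Int.negSucc 0, Int.negSucc 2, Int.ofNat 1, Int.ofNat 1, Int.ofNat 1, Int.negSucc 0, Int.negSucc 0, Int.negSucc 0, Int.negSucc 0, Int.ofNat 1, Int.negSucc 0, Int.ofNat 1, Int.negSucc 0, Int.ofNat 1, Int.negSucc 0, Int.ofNat 1, Int.negSucc 0, Int.negSucc 0, Int.negSucc 0, Int.negSucc 0, Int.ofNat 1],
  [Int.ofNat 1, Int.ofNat 1, Int.negSucc 0, Int.negSucc 0, Int.negSucc 2, Int.negSucc 0, Int.negSucc 0, Int.ofNat 1, Int.negSucc 0, Int.ofNat 1, Int.ofNat 1, Int.negSucc 0, Int.ofNat 1, Int.negSucc 0, Int.ofNat 1, Int.ofNat 1, Int.ofNat 1, Int.negSucc 0, Int.negSucc 0, Int.negSucc 0, Int.negSucc 0, Int.negSucc 0, Int.ofNat 1, Int.ofNat 1],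
  [Int.ofNat 0, Int.ofNat 0, Int.ofNat 2, Int.ofNat 0, Int.negSucc 1, Int.ofNat 0, Int.ofNat 0, Int.ofNat 2, Int.ofNat 0, Int.ofNat 0, Int.ofNat 0, Int.ofNat 0, Int.ofNat 2, Int.ofNat 0, Int.ofNat 2, Int.ofNat 0, Int.ofNat 2, Int.ofNat 0, Int.ofNat 0, Int.ofNat 0, Int.negSucc 1, Int.ofNat 0, Int.ofNat 2, Int.ofNat 0],
  [Int.ofNat 0, Int.ofNat 0, Int.ofNat 0, Int.ofNat 0, Int.ofNat 2, Int.ofNat 0, Int.ofNat 0, Int.ofNat 0, Int.ofNat 2, Int.ofNat 2, Int.ofNat 2, Int.ofNat 0, Int.ofNat 0, Int.ofNat 0, Int.ofNat 0, Int.ofNat 0, Int.ofNat 0, Int.ofNat 0, Int.negSucc 1, Int.ofNat 2, Int.ofNat 0, Int.negSucc 1, Int.ofNat 2, Int.ofNat 0],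
  [Int.ofNat 0, Int.ofNat 0, Int.ofNat 0, Int.ofNat 0, Int.ofNat 0, Int.ofNat 0, Int.ofNat 0, Int.ofNat 0, Int.ofNat 2, Int.ofNat 0, Int.ofNat 0, Int.ofNat 0, Int.ofNat 0, Int.negSucc 1, Int.ofNat 0, Int.negSucc 1, Int.negSucc 1, Int.ofNat 0, Int.negSucc 1, Int.ofNat 2, Int.negSucc 1, Int.negSucc 1, Int.ofNat 0, Int.ofNat 0],
  [Int.negSucc 1, Int.negSucc 1, Int.ofNat 0, Int.ofNat 0, Int.ofNat 0, Int.ofNat 0, Int.ofNat 0, Int.ofNat 0, Int.ofNat 0, Int.ofNat 0, Int.ofNat 0, Int.ofNat 2, Int.ofNat 0, Int.ofNat 0, Int.ofNat 0, Int.ofNat 0, Int.negSucc 1, Int.ofNat 0, Int.negSucc 1, Int.negSucc 1, Int.ofNat 0, Int.negSucc 1, Int.ofNat 2, Int.ofNat 0],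
  [Int.ofNat 0, Int.ofNat 0, Int.negSucc 1, Int.ofNat 0, Int.ofNat 0, Int.ofNat 0, Int.ofNat 2, Int.ofNat 2, Int.ofNat 0, Int.ofNat 0, Int.ofNat 0, Int.ofNat 2, Int.ofNat 0, Int.ofNat 0, Int.ofNat 0, Int.ofNat 0, Int.negSucc 1, Int.ofNat 0, Int.negSucc 1, Int.ofNat 0, Int.ofNat 0, Int.ofNat 0, Int.ofNat 2, Int.negSucc 1],
  [Int.ofNat 0, Int.negSucc 1, Int.ofNat 0, Int.ofNat 0, Int.ofNat 0, Int.ofNat 2, Int.ofNat 2, Int.ofNat 0, Int.ofNat 0, Int.ofNat 0, Int.ofNat 2, Int.ofNat 0, Int.ofNat 0, Int.ofNat 0, Int.ofNat 0, Int.negSucc 1, Int.ofNat 0, Int.negSucc 1, Int.ofNat 0, Int.ofNat 0, Int.ofNat 0, Int.ofNat 2, Int.ofNat 0, Int.negSucc 1],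
  [Int.ofNat 0, Int.negSucc 1, Int.ofNat 0, Int.ofNat 0, Int.ofNat 0, Int.ofNat 2, Int.ofNat 2, Int.ofNat 0, Int.ofNat 0, Int.ofNat 0, Int.negSucc 1, Int.ofNat 0, Int.ofNat 0, Int.ofNat 0, Int.ofNat 0, Int.negSucc 1, Int.ofNat 0, Int.negSucc 1, Int.ofNat 0, Int.ofNat 0, Int.ofNat 0, Int.negSucc 1, Int.ofNat 0, Int.negSucc 1],
  [Int.ofNat 0, Int.ofNat 0, Int.ofNat 0, Int.ofNat 0, Int.negSucc 1, Int.negSucc 1, Int.ofNat 0, Int.ofNat 0, Int.ofNat 0, Int.ofNat 0, Int.negSucc 1, Int.ofNat 0, Int.ofNat 0, Int.ofNat 0, Int.ofNat 0, Int.negSucc 1, Int.ofNat 0, Int.ofNat 0, Int.ofNat 2, Int.negSucc 1, Int.ofNat 2, Int.ofNat 0, Int.ofNat 0, Int.negSucc 1],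
  [Int.ofNat 0, Int.ofNat 0, Int.ofNat 0, Int.ofNat 0, Int.negSucc 1, Int.negSucc 1, Int.ofNat 0, Int.ofNat 0, Int.ofNat 0, Int.ofNat 0, Int.ofNat 2, Int.ofNat 0, Int.ofNat 0, Int.ofNat 0, Int.ofNat 0, Int.negSucc 1, Int.ofNat 0, Int.ofNat 0, Int.negSucc 1, Int.negSucc 1, Int.ofNat 2, Int.ofNat 0, Int.ofNat 0, Int.negSucc 1],
  [Int.ofNat 0, Int.ofNat 0, Int.ofNat 0, Int.ofNat 0, Int.ofNat 0, Int.negSucc 1, Int.negSucc 1, Int.ofNat 0, Int.ofNat 0, Int.ofNat 0, Int.ofNat 0, Int.ofNat 2, Int.ofNat 0, Int.ofNat 0, Int.ofNat 0, Int.ofNat 0, Int.negSucc 1, Int.ofNat 0, Int.ofNat 0, Int.negSucc 1, Int.negSucc 1, Int.ofNat 2, Int.ofNat 0, Int.negSucc 1],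
  [Int.negSucc 0, Int.negSucc 0, Int.negSucc 0, Int.ofNat 1, Int.ofNat 1, Int.negSucc 0, Int.negSucc 0, Int.ofNat 1, Int.negSucc 0, Int.ofNat 1, Int.ofNat 1, Int.ofNat 1, Int.negSucc 0, Int.ofNat 1, Int.ofNat 1, Int.ofNat 1, Int.negSucc 0, Int.ofNat 1, Int.negSucc 0, Int.negSucc 0, Int.negSucc 0, Int.ofNat 3, Int.ofNat 1, Int.ofNat 1],
  [Int.ofNat 1, Int.ofNat 1, Int.negSucc 0, Int.negSucc 0, Int.ofNat 1, Int.negSucc 0, Int.ofNat 1, Int.ofNat 1, Int.ofNat 1, Int.negSucc 0, Int.ofNat 1, Int.ofNat 1, Int.ofNat 1, Int.negSucc 0, Int.ofNat 1, Int.negSucc 0, Int.negSucc 0, Int.negSucc 0, Int.ofNat 3, Int.ofNat 1, Int.negSucc 0, Int.negSucc 0, Int.negSucc 0, Int.ofNat 1],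
  [Int.ofNat 0, Int.ofNat 0, Int.ofNat 2, Int.ofNat 0, Int.ofNat 2, Int.ofNat 0, Int.ofNat 0, Int.ofNat 0, Int.negSucc 1, Int.ofNat 0, Int.ofNat 2, Int.negSucc 1, Int.negSucc 1, Int.ofNat 0, Int.ofNat 2, Int.ofNat 0, Int.ofNat 0, Int.ofNat 0, Int.ofNat 0, Int.ofNat 0, Int.ofNat 0, Int.negSucc 1, Int.ofNat 0, Int.ofNat 0],
  [Int.ofNat 0, Int.ofNat 0, Int.ofNat 2, Int.ofNat 0, Int.ofNat 0, Int.ofNat 0, Int.ofNat 2, Int.ofNat 2, Int.negSucc 1, Int.ofNat 0, Int.ofNat 0, Int.ofNat 0, Int.ofNat 0, Int.ofNat 0, Int.ofNat 0, Int.ofNat 0, Int.negSucc 1, Int.ofNat 2, Int.ofNat 0, Int.negSucc 1, Int.negSucc 1, Int.ofNat 0, Int.ofNat 0, Int.ofNat 0],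
  [Int.ofNat 1, Int.ofNat 1, Int.negSucc 0, Int.negSucc 0, Int.ofNat 1, Int.negSucc 0, Int.ofNat 1, Int.ofNat 1, Int.negSucc 0, Int.ofNat 1, Int.ofNat 1, Int.ofNat 1, Int.ofNat 1, Int.ofNat 1, Int.negSucc 0, Int.ofNat 1, Int.negSucc 0, Int.ofNat 1, Int.ofNat 1, Int.negSucc 2, Int.negSucc 0, Int.negSucc 0, Int.ofNat 1, Int.ofNat 1],
  [Int.ofNat 1, Int.ofNat 1, Int.ofNat 1, Int.negSucc 0, Int.ofNat 1, Int.ofNat 1, Int.negSucc 0, Int.ofNat 1, Int.negSucc 0, Int.negSucc 0, Int.negSucc 0, Int.ofNat 1, Int.ofNat 1, Int.ofNat 1, Int.negSucc 0, Int.negSucc 0, Int.negSucc 0, Int.ofNat 1, Int.negSucc 0, Int.negSucc 2, Int.negSucc 0, Int.negSucc 0, Int.negSucc 0, Int.ofNat 1],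
  [Int.negSucc 0, Int.negSucc 0, Int.ofNat 1, Int.negSucc 0, Int.negSucc 0, Int.negSucc 0, Int.negSucc 0, Int.negSucc 0, Int.ofNat 1, Int.negSucc 0, Int.ofNat 1, Int.ofNat 1, Int.negSucc 0, Int.ofNat 1, Int.ofNat 1, Int.negSucc 0, Int.negSucc 2, Int.ofNat 1, Int.negSucc 0, Int.ofNat 1, Int.ofNat 1, Int.ofNat 1, Int.negSucc 0, Int.ofNat 1],
  [Int.ofNat 1, Int.ofNat 1, Int.negSucc 0, Int.ofNat 1, Int.ofNat 1, Int.negSucc 0, Int.ofNat 1, Int.negSucc 0, Int.negSucc 0, Int.ofNat 1, Int.ofNat 1, Int.ofNat 1, Int.ofNat 1, Int.negSucc 0, Int.ofNat 1, Int.negSucc 0, Int.ofNat 3, Int.ofNat 1, Int.ofNat 1, Int.ofNat 1, Int.ofNat 1, Int.ofNat 1, Int.negSucc 0, Int.ofNat 1],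
  [Int.ofNat 1, Int.negSucc 0, Int.ofNat 1, Int.negSucc 0, Int.ofNat 1, Int.ofNat 1, Int.ofNat 1, Int.negSucc 0, Int.ofNat 1, Int.negSucc 0, Int.ofNat 3, Int.negSucc 0, Int.ofNat 1, Int.negSucc 0, Int.ofNat 1, Int.ofNat 1, Int.ofNat 1, Int.ofNat 1, Int.ofNat 1, Int.ofNat 1, Int.negSucc 0, Int.ofNat 1, Int.ofNat 1, Int.ofNat 1],
  [Int.negSucc 0, Int.negSucc 0, Int.negSucc 0, Int.negSucc 0, Int.ofNat 1, Int.ofNat 1, Int.ofNat 1, Int.ofNat 1, Int.ofNat 1, Int.ofNat 1, Int.negSucc 2, Int.ofNat 1, Int.ofNat 1, Int.negSucc 0, Int.ofNat 1, Int.ofNat 1, Int.ofNat 1, Int.ofNat 1, Int.negSucc 0, Int.ofNat 1, Int.negSucc 0, Int.negSucc 0, Int.ofNat 1, Int.ofNat 1],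
  [Int.ofNat 1, Int.negSucc 0, Int.negSucc 0, Int.negSucc 0, Int.negSucc 0, Int.ofNat 1, Int.ofNat 1, Int.ofNat 1, Int.ofNat 1, Int.ofNat 1, Int.ofNat 1, Int.negSucc 2, Int.ofNat 1, Int.ofNat 1, Int.negSucc 0, Int.ofNat 1, Int.ofNat 1, Int.ofNat 1, Int.ofNat 1, Int.negSucc 0, Int.ofNat 1, Int.negSucc 0, Int.negSucc 0, Int.ofNat 1],
  [Int.negSucc 0, Int.ofNat 1, Int.ofNat 1, Int.negSucc 0, Int.negSucc 0, Int.ofNat 1, Int.ofNat 1, Int.ofNat 1, Int.ofNat 1, Int.negSucc 0, Int.negSucc 0, Int.negSucc 2, Int.ofNat 1, Int.ofNat 1, Int.negSucc 0, Int.negSucc 0, Int.ofNat 1, Int.ofNat 1, Int.ofNat 1, Int.negSucc 0, Int.negSucc 0, Int.negSucc 0, Int.negSucc 0, Int.negSucc 0],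
  [Int.negSucc 0, Int.negSucc 0, Int.ofNat 1, Int.ofNat 1, Int.ofNat 1, Int.ofNat 1, Int.negSucc 0, Int.negSucc 0, Int.negSucc 2, Int.ofNat 1, Int.ofNat 1, Int.negSucc 0, Int.negSucc 0, Int.ofNat 1, Int.ofNat 1, Int.ofNat 1, Int.negSucc 0, Int.negSucc 0, Int.negSucc 0, Int.negSucc 0, Int.negSucc 0, Int.ofNat 1, Int.ofNat 1, Int.negSucc 0],
  [Int.ofNat 0, Int.ofNat 0, Int.negSucc 1, Int.ofNat 0, Int.ofNat 0, Int.ofNat 0, Int.ofNat 0, Int.ofNat 0, Int.ofNat 0, Int.ofNat 0, Int.ofNat 0, Int.ofNat 2, Int.ofNat 2, Int.ofNat 0, Int.ofNat 0, Int.ofNat 0, Int.negSucc 1, Int.negSucc 1, Int.ofNat 2, Int.ofNat 0, Int.negSucc 1, Int.ofNat 2, Int.ofNat 0, Int.ofNat 0],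
  [Int.ofNat 0, Int.ofNat 0, Int.ofNat 0, Int.ofNat 0, Int.ofNat 2, Int.ofNat 0, Int.negSucc 1, Int.ofNat 0, Int.ofNat 2, Int.ofNat 0, Int.negSucc 1, Int.negSucc 1, Int.ofNat 0, Int.negSucc 1, Int.ofNat 0, Int.ofNat 0, Int.ofNat 0, Int.ofNat 0, Int.ofNat 0, Int.ofNat 2, Int.ofNat 2, Int.ofNat 0, Int.ofNat 0, Int.ofNat 0],
  [Int.ofNat 0, Int.ofNat 0, Int.ofNat 0, Int.ofNat 0, Int.ofNat 2, Int.ofNat 0, Int.negSucc 1, Int.ofNat 0, Int.ofNat 2, Int.ofNat 0, Int.negSucc 1, Int.negSucc 1, Int.ofNat 0, Int.negSucc 1, Int.ofNat 0, Int.ofNat 0, Int.ofNat 0, Int.ofNat 0, Int.ofNat 0, Int.ofNat 2, Int.ofNat 2, Int.ofNat 0, Int.ofNat 0, Int.ofNat 0],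
  [Int.ofNat 0, Int.ofNat 0, Int.ofNat 0, Int.ofNat 0, Int.ofNat 2, Int.ofNat 0, Int.ofNat 2, Int.ofNat 0, Int.ofNat 2, Int.ofNat 0, Int.ofNat 2, Int.negSucc 1, Int.ofNat 0, Int.negSucc 1, Int.ofNat 0, Int.ofNat 0, Int.ofNat 0, Int.ofNat 0, Int.ofNat 0, Int.ofNat 2, Int.ofNat 2, Int.ofNat 0, Int.ofNat 0, Int.ofNat 0],
  [Int.ofNat 2, Int.negSucc 1, Int.ofNat 0, Int.ofNat 0, Int.negSucc 1, Int.ofNat 0, Int.ofNat 0, Int.ofNat 2, Int.ofNat 0, Int.ofNat 0, Int.ofNat 0, Int.ofNat 0, Int.ofNat 0, Int.ofNat 0, Int.ofNat 2, Int.ofNat 0, Int.ofNat 2, Int.ofNat 2, Int.ofNat 0, Int.ofNat 2, Int.ofNat 0, Int.ofNat 0, Int.ofNat 0, Int.ofNat 0],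
  [Int.ofNat 2, Int.negSucc 1, Int.ofNat 0, Int.ofNat 0, Int.negSucc 1, Int.ofNat 0, Int.ofNat 0, Int.ofNat 2, Int.ofNat 0, Int.ofNat 0, Int.ofNat 0, Int.ofNat 0, Int.ofNat 0, Int.ofNat 0, Int.ofNat 2, Int.ofNat 0, Int.ofNat 2, Int.ofNat 2, Int.ofNat 0, Int.ofNat 2, Int.ofNat 0, Int.ofNat 0, Int.ofNat 0, Int.ofNat 0],
  [Int.negSucc 1, Int.ofNat 2, Int.ofNat 0, Int.negSucc 1, Int.negSucc 1, Int.negSucc 1, Int.negSucc 1, Int.ofNat 0, Int.ofNat 0, Int.ofNat 0, Int.ofNat 0, Int.ofNat 0, Int.ofNat 0, Int.ofNat 0, Int.ofNat 0, Int.ofNat 0, Int.ofNat 2, Int.ofNat 0, Int.ofNat 0, Int.ofNat 0, Int.ofNat 0, Int.negSucc 1, Int.ofNat 0, Int.ofNat 0],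
  [Int.negSucc 1, Int.ofNat 0, Int.negSucc 1, Int.negSucc 1, Int.ofNat 0, Int.negSucc 1, Int.ofNat 2, Int.negSucc 1, Int.ofNat 2, Int.ofNat 0, Int.ofNat 0, Int.ofNat 0, Int.ofNat 0, Int.ofNat 0, Int.ofNat 0, Int.ofNat 0, Int.ofNat 0, Int.ofNat 0, Int.negSucc 1, Int.ofNat 0, Int.ofNat 0, Int.ofNat 0, Int.ofNat 0, Int.ofNat 0],
  [Int.ofNat 0, Int.negSucc 1, Int.ofNat 0, Int.ofNat 0, Int.ofNat 0, Int.ofNat 0, Int.ofNat 2, Int.negSucc 1, Int.ofNat 2, Int.ofNat 0, Int.ofNat 0, Int.ofNat 0, Int.ofNat 0, Int.ofNat 0, Int.ofNat 2, Int.ofNat 0, Int.ofNat 0, Int.ofNat 2, Int.negSucc 1, Int.ofNat 0, Int.ofNat 0, Int.ofNat 0, Int.ofNat 0, Int.negSucc 1],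
  [Int.ofNat 0, Int.ofNat 0, Int.ofNat 0, Int.ofNat 0, Int.negSucc 1, Int.ofNat 0, Int.ofNat 0, Int.ofNat 0, Int.ofNat 0, Int.ofNat 2, Int.negSucc 1, Int.ofNat 2, Int.ofNat 0, Int.ofNat 0, Int.ofNat 0, Int.ofNat 0, Int.ofNat 0, Int.ofNat 2, Int.ofNat 0, Int.ofNat 0, Int.ofNat 2, Int.negSucc 1, Int.ofNat 0, Int.negSucc 1],
  [Int.negSucc 0, Int.negSucc 0, Int.negSucc 0, Int.negSucc 0, Int.negSucc 0, Int.negSucc 0, Int.ofNat 1, Int.ofNat 1, Int.negSucc 0, Int.ofNat 1, Int.negSucc 2, Int.ofNat 1, Int.negSucc 0, Int.ofNat 1, Int.negSucc 0, Int.negSucc 0, Int.ofNat 1, Int.ofNat 1, Int.negSucc 0, Int.ofNat 1, Int.ofNat 1, Int.negSucc 0, Int.ofNat 1, Int.ofNat 1],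
  [Int.negSucc 0, Int.negSucc 0, Int.negSucc 0, Int.negSucc 0, Int.negSucc 0, Int.ofNat 1, Int.ofNat 1, Int.negSucc 0, Int.ofNat 1, Int.negSucc 2, Int.ofNat 1, Int.negSucc 0, Int.ofNat 1, Int.negSucc 0, Int.negSucc 0, Int.ofNat 1, Int.ofNat 1, Int.negSucc 0, Int.ofNat 1, Int.ofNat 1, Int.negSucc 0, Int.ofNat 1, Int.negSucc 0, Int.ofNat 1],
  [Int.ofNat 1, Int.negSucc 0, Int.ofNat 1, Int.negSucc 0, Int.negSucc 0, Int.ofNat 1, Int.ofNat 1, Int.ofNat 1, Int.ofNat 1, Int.ofNat 3, Int.negSucc 0, Int.ofNat 1, Int.ofNat 1, Int.negSucc 0, Int.negSucc 0, Int.ofNat 1, Int.ofNat 1, Int.negSucc 0, Int.negSucc 0, Int.ofNat 1, Int.negSucc 0, Int.negSucc 0, Int.negSucc 0, Int.ofNat 1],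
  [Int.ofNat 1, Int.ofNat 1, Int.negSucc 0, Int.negSucc 0, Int.negSucc 0, Int.negSucc 0, Int.negSucc 0, Int.negSucc 0, Int.ofNat 3, Int.ofNat 1, Int.negSucc 0, Int.negSucc 0, Int.negSucc 0, Int.ofNat 1, Int.ofNat 1, Int.ofNat 1, Int.ofNat 1, Int.negSucc 0, Int.ofNat 1, Int.negSucc 0, Int.ofNat 1, Int.ofNat 1, Int.ofNat 1, Int.ofNat 1],
  [Int.negSucc 0, Int.ofNat 1, Int.ofNat 1, Int.negSucc 0, Int.negSucc 0, Int.negSucc 0, Int.negSucc 0, Int.ofNat 1, Int.ofNat 3, Int.negSucc 0, Int.ofNat 1, Int.ofNat 1, Int.negSucc 0, Int.ofNat 1, Int.ofNat 1, Int.ofNat 1, Int.ofNat 1, Int.negSucc 0, Int.negSucc 0, Int.negSucc 0, Int.ofNat 1, Int.negSucc 0, Int.ofNat 1, Int.ofNat 1],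
  [Int.ofNat 1, Int.negSucc 0, Int.ofNat 1, Int.ofNat 1, Int.negSucc 0, Int.negSucc 0, Int.negSucc 0, Int.negSucc 0, Int.ofNat 1, Int.ofNat 3, Int.negSucc 0, Int.ofNat 1, Int.ofNat 1, Int.negSucc 0, Int.ofNat 1, Int.ofNat 1, Int.ofNat 1, Int.ofNat 1, Int.negSucc 0, Int.negSucc 0, Int.negSucc 0, Int.ofNat 1, Int.negSucc 0, Int.ofNat 1],
  [Int.ofNat 0, Int.ofNat 2, Int.ofNat 0, Int.ofNat 0, Int.ofNat 0, Int.negSucc 1, Int.ofNat 0, Int.ofNat 0, Int.ofNat 0, Int.ofNat 2, Int.negSucc 1, Int.ofNat 0, Int.ofNat 0, Int.ofNat 0, Int.ofNat 0, Int.ofNat 0, Int.ofNat 2, Int.ofNat 0, Int.negSucc 1, Int.ofNat 0, Int.negSucc 1, Int.ofNat 2, Int.ofNat 0, Int.ofNat 0],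
  [Int.ofNat 0, Int.ofNat 0, Int.negSucc 1, Int.ofNat 0, Int.ofNat 0, Int.ofNat 0, Int.ofNat 2, Int.negSucc 1, Int.ofNat 0, Int.ofNat 0, Int.ofNat 0, Int.ofNat 0, Int.ofNat 0, Int.ofNat 2, Int.ofNat 0, Int.negSucc 1, Int.ofNat 0, Int.negSucc 1, Int.ofNat 2, Int.ofNat 0, Int.ofNat 0, Int.ofNat 2, Int.ofNat 0, Int.ofNat 0],
  [Int.negSucc 0, Int.negSucc 0, Int.ofNat 1, Int.ofNat 1, Int.negSucc 0, Int.ofNat 1, Int.ofNat 1, Int.negSucc 2, Int.negSucc 0, Int.ofNat 1, Int.ofNat 1, Int.negSucc 0, Int.negSucc 0, Int.ofNat 1, Int.ofNat 1, Int.negSucc 0, Int.negSucc 0, Int.negSucc 0, Int.ofNat 1, Int.negSucc 0, Int.ofNat 1, Int.ofNat 1, Int.negSucc 0, Int.negSucc 0],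
  [Int.negSucc 0, Int.ofNat 1, Int.negSucc 0, Int.ofNat 1, Int.ofNat 1, Int.negSucc 2, Int.ofNat 1, Int.ofNat 1, Int.negSucc 0, Int.ofNat 1, Int.ofNat 1, Int.negSucc 0, Int.ofNat 1, Int.negSucc 0, Int.negSucc 0, Int.negSucc 0, Int.negSucc 0, Int.ofNat 1, Int.negSucc 0, Int.negSucc 0, Int.ofNat 1, Int.ofNat 1, Int.negSucc 0, Int.negSucc 0],
  [Int.ofNat 0, Int.negSucc 1, Int.ofNat 0, Int.ofNat 2, Int.ofNat 2, Int.negSucc 1, Int.ofNat 0, Int.ofNat 0, Int.ofNat 0, Int.ofNat 0, Int.ofNat 0, Int.ofNat 0, Int.ofNat 2, Int.ofNat 0, Int.ofNat 0, Int.negSucc 1, Int.ofNat 0, Int.ofNat 2, Int.ofNat 0, Int.negSucc 1, Int.ofNat 0, Int.ofNat 0, Int.ofNat 0, Int.ofNat 0],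
  [Int.ofNat 0, Int.negSucc 1, Int.ofNat 0, Int.ofNat 2, Int.ofNat 2, Int.ofNat 2, Int.ofNat 0, Int.ofNat 0, Int.ofNat 0, Int.ofNat 0, Int.ofNat 0, Int.ofNat 0, Int.ofNat 2, Int.ofNat 0, Int.ofNat 0, Int.ofNat 2, Int.ofNat 0, Int.ofNat 2, Int.ofNat 0, Int.negSucc 1, Int.ofNat 0, Int.ofNat 0, Int.ofNat 0, Int.ofNat 0],
  [Int.ofNat 0, Int.ofNat 0, Int.ofNat 0, Int.ofNat 0, Int.ofNat 0, Int.ofNat 0, Int.ofNat 0, Int.ofNat 2, Int.ofNat 2, Int.ofNat 0, Int.ofNat 0, Int.ofNat 0, Int.ofNat 2, Int.ofNat 2, Int.ofNat 2, Int.ofNat 0, Int.negSucc 1, Int.ofNat 2, Int.ofNat 0, Int.ofNat 0, Int.ofNat 0, Int.negSucc 1, Int.ofNat 0, Int.ofNat 0],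
  [Int.ofNat 0, Int.ofNat 0, Int.ofNat 0, Int.ofNat 0, Int.ofNat 0, Int.ofNat 0, Int.ofNat 0, Int.ofNat 2, Int.negSucc 1, Int.ofNat 0, Int.ofNat 0, Int.ofNat 0, Int.negSucc 1, Int.negSucc 1, Int.ofNat 2, Int.ofNat 0, Int.ofNat 2, Int.ofNat 2, Int.ofNat 0, Int.ofNat 0, Int.ofNat 0, Int.negSucc 1, Int.ofNat 0, Int.ofNat 0],
  [Int.ofNat 0, Int.ofNat 0, Int.ofNat 0, Int.ofNat 0, Int.ofNat 2, Int.ofNat 0, Int.ofNat 0, Int.negSucc 1, Int.ofNat 0, Int.ofNat 0, Int.ofNat 2, Int.ofNat 0, Int.negSucc 1, Int.ofNat 2, Int.ofNat 0, Int.ofNat 0, Int.ofNat 0, Int.ofNat 0, Int.ofNat 2, Int.ofNat 0, Int.negSucc 1, Int.negSucc 1, Int.ofNat 0, Int.ofNat 0],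
  [Int.ofNat 0, Int.ofNat 0, Int.ofNat 0, Int.ofNat 0, Int.ofNat 2, Int.ofNat 0, Int.ofNat 0, Int.ofNat 2, Int.ofNat 0, Int.ofNat 0, Int.negSucc 1, Int.ofNat 0, Int.negSucc 1, Int.ofNat 2, Int.ofNat 0, Int.ofNat 0, Int.ofNat 0, Int.ofNat 0, Int.negSucc 1, Int.ofNat 0, Int.negSucc 1, Int.ofNat 2, Int.ofNat 0, Int.ofNat 0],
  [Int.ofNat 0, Int.ofNat 0, Int.ofNat 0, Int.ofNat 0, Int.ofNat 0, Int.ofNat 2, Int.ofNat 0, Int.ofNat 0, Int.ofNat 2, Int.ofNat 0, Int.ofNat 0, Int.negSucc 1, Int.ofNat 0, Int.negSucc 1, Int.ofNat 2, Int.ofNat 0, Int.ofNat 0, Int.ofNat 0, Int.ofNat 0, Int.negSucc 1, Int.ofNat 0, Int.negSucc 1, Int.ofNat 2, Int.ofNat 0],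
  [Int.ofNat 0, Int.ofNat 0, Int.ofNat 0, Int.negSucc 1, Int.ofNat 0, Int.ofNat 0, Int.ofNat 2, Int.ofNat 2, Int.ofNat 2, Int.ofNat 0, Int.ofNat 0, Int.negSucc 1, Int.ofNat 0, Int.negSucc 1, Int.ofNat 0, Int.ofNat 0, Int.ofNat 0, Int.negSucc 1, Int.ofNat 0, Int.ofNat 0, Int.ofNat 0, Int.ofNat 0, Int.ofNat 2, Int.ofNat 0],
  [Int.negSucc 1, Int.ofNat 0, Int.ofNat 0, Int.ofNat 2, Int.ofNat 2, Int.ofNat 2, Int.ofNat 0, Int.ofNat 0, Int.negSucc 1, Int.ofNat 0, Int.negSucc 1, Int.ofNat 0, Int.ofNat 0, Int.ofNat 0, Int.negSucc 1, Int.ofNat 0, Int.ofNat 0, Int.ofNat 0, Int.ofNat 0, Int.ofNat 2, Int.ofNat 0, Int.ofNat 0, Int.ofNat 0, Int.ofNat 0],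
  [Int.ofNat 1, Int.negSucc 0, Int.negSucc 0, Int.ofNat 1, Int.ofNat 1, Int.ofNat 1, Int.negSucc 0, Int.negSucc 0, Int.negSucc 0, Int.ofNat 1, Int.negSucc 0, Int.ofNat 1, Int.ofNat 1, Int.negSucc 0, Int.negSucc 2, Int.ofNat 1, Int.negSucc 0, Int.negSucc 0, Int.ofNat 1, Int.ofNat 1, Int.ofNat 1, Int.negSucc 0, Int.negSucc 0, Int.negSucc 0],
  [Int.ofNat 1, Int.negSucc 0, Int.ofNat 1, Int.ofNat 1, Int.ofNat 1, Int.negSucc 0, Int.negSucc 0, Int.negSucc 0, Int.ofNat 1, Int.negSucc 0, Int.ofNat 1, Int.negSucc 0, Int.ofNat 1, Int.negSucc 0, Int.negSucc 0, Int.ofNat 1, Int.negSucc 0, Int.negSucc 2, Int.negSucc 0, Int.ofNat 1, Int.negSucc 0, Int.ofNat 1, Int.ofNat 1, Int.negSucc 0],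
  [Int.negSucc 0, Int.ofNat 1, Int.negSucc 0, Int.ofNat 3, Int.ofNat 1, Int.ofNat 1, Int.negSucc 0, Int.negSucc 0, Int.ofNat 1, Int.negSucc 0, Int.ofNat 1, Int.negSucc 0, Int.ofNat 1, Int.negSucc 0, Int.ofNat 1, Int.ofNat 1, Int.negSucc 0, Int.negSucc 0, Int.negSucc 0, Int.ofNat 1, Int.negSucc 0, Int.ofNat 1, Int.ofNat 1, Int.ofNat 1],
  [Int.negSucc 0, Int.ofNat 1, Int.ofNat 1, Int.ofNat 3, Int.ofNat 1, Int.negSucc 0, Int.ofNat 1, Int.negSucc 0, Int.ofNat 1, Int.ofNat 1, Int.negSucc 0, Int.negSucc 0, Int.ofNat 1, Int.negSucc 0, Int.ofNat 1, Int.negSucc 0, Int.negSucc 0, Int.negSucc 0, Int.ofNat 1, Int.ofNat 1, Int.negSucc 0, Int.ofNat 1, Int.negSucc 0, Int.ofNat 1],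
  [Int.negSucc 0, Int.negSucc 0, Int.negSucc 0, Int.ofNat 1, Int.negSucc 0, Int.negSucc 0, Int.ofNat 1, Int.negSucc 0, Int.ofNat 1, Int.ofNat 3, Int.negSucc 0, Int.negSucc 0, Int.ofNat 1, Int.negSucc 0, Int.ofNat 1, Int.negSucc 0, Int.ofNat 1, Int.ofNat 1, Int.ofNat 1, Int.ofNat 1, Int.ofNat 1, Int.ofNat 1, Int.negSucc 0, Int.ofNat 1],
  [Int.negSucc 0, Int.negSucc 0, Int.ofNat 1, Int.ofNat 1, Int.negSucc 0, Int.ofNat 1, Int.negSucc 0, Int.negSucc 0, Int.ofNat 1, Int.negSucc 2, Int.ofNat 1, Int.negSucc 0, Int.ofNat 1, Int.negSucc 0, Int.ofNat 1, Int.ofNat 1, Int.ofNat 1, Int.ofNat 1, Int.negSucc 0, Int.ofNat 1, Int.ofNat 1, Int.ofNat 1, Int.ofNat 1, Int.ofNat 1],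
  [Int.ofNat 1, Int.ofNat 1, Int.negSucc 0, Int.negSucc 0, Int.negSucc 0, Int.negSucc 0, Int.negSucc 0, Int.negSucc 0, Int.ofNat 1, Int.negSucc 2, Int.ofNat 1, Int.negSucc 0, Int.ofNat 1, Int.negSucc 0, Int.negSucc 0, Int.ofNat 1, Int.ofNat 1, Int.negSucc 0, Int.negSucc 0, Int.ofNat 1, Int.ofNat 1, Int.ofNat 1, Int.ofNat 1, Int.negSucc 0],
  [Int.ofNat 1, Int.negSucc 0, Int.negSucc 0, Int.negSucc 0, Int.negSucc 0, Int.ofNat 1, Int.ofNat 1, Int.negSucc 0, Int.ofNat 1, Int.ofNat 1, Int.negSucc 0, Int.ofNat 1, Int.ofNat 1, Int.negSucc 2, Int.negSucc 0, Int.ofNat 1, Int.negSucc 0, Int.negSucc 0, Int.negSucc 0, Int.ofNat 1, Int.ofNat 1, Int.ofNat 1, Int.negSucc 0, Int.negSucc 0],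
  [Int.negSucc 1, Int.ofNat 0, Int.ofNat 0, Int.ofNat 0, Int.ofNat 2, Int.ofNat 2, Int.ofNat 0, Int.negSucc 1, Int.ofNat 0, Int.ofNat 0, Int.negSucc 1, Int.ofNat 0, Int.ofNat 0, Int.ofNat 0, Int.ofNat 0, Int.ofNat 0, Int.ofNat 2, Int.ofNat 0, Int.negSucc 1, Int.ofNat 0, Int.ofNat 0, Int.ofNat 0, Int.ofNat 2, Int.ofNat 0],
  [Int.ofNat 0, Int.ofNat 0, Int.ofNat 2, Int.negSucc 1, Int.ofNat 0, Int.ofNat 0, Int.ofNat 0, Int.ofNat 2, Int.ofNat 2, Int.ofNat 0, Int.negSucc 1, Int.ofNat 0, Int.ofNat 0, Int.negSucc 1, Int.ofNat 0, Int.ofNat 0, Int.ofNat 0, Int.ofNat 0, Int.ofNat 0, Int.ofNat 2, Int.ofNat 0, Int.negSucc 1, Int.ofNat 0, Int.ofNat 0],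
  [Int.ofNat 1, Int.ofNat 1, Int.negSucc 0, Int.negSucc 0, Int.ofNat 1, Int.ofNat 1, Int.negSucc 0, Int.ofNat 1, Int.ofNat 1, Int.ofNat 1, Int.negSucc 0, Int.negSucc 0, Int.negSucc 0, Int.negSucc 0, Int.ofNat 1, Int.ofNat 1, Int.ofNat 1, Int.ofNat 1, Int.negSucc 0, Int.ofNat 1, Int.ofNat 1, Int.negSucc 2, Int.ofNat 1, Int.ofNat 1],
  [Int.ofNat 1, Int.negSucc 0, Int.negSucc 0, Int.ofNat 1, Int.ofNat 1, Int.negSucc 0, Int.ofNat 1, Int.ofNat 1, Int.ofNat 1, Int.negSucc 0, Int.negSucc 0, Int.negSucc 0, Int.negSucc 0, Int.ofNat 1, Int.ofNat 1, Int.ofNat 1, Int.ofNat 1, Int.negSucc 0, Int.ofNat 1, Int.ofNat 1, Int.negSucc 2, Int.ofNat 1, Int.ofNat 1, Int.ofNat 1],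
  [Int.negSucc 0, Int.negSucc 0, Int.ofNat 1, Int.ofNat 1, Int.ofNat 1, Int.negSucc 0, Int.ofNat 1, Int.negSucc 0, Int.ofNat 1, Int.ofNat 1, Int.ofNat 1, Int.ofNat 1, Int.negSucc 0, Int.ofNat 1, Int.ofNat 1, Int.ofNat 1, Int.ofNat 1, Int.negSucc 0, Int.negSucc 0, Int.ofNat 1, Int.negSucc 2, Int.negSucc 0, Int.ofNat 1, Int.ofNat 1],
  [Int.negSucc 0, Int.ofNat 1, Int.negSucc 0, Int.ofNat 1, Int.negSucc 0, Int.ofNat 1, Int.ofNat 1, Int.negSucc 2, Int.ofNat 1, Int.ofNat 1, Int.negSucc 0, Int.ofNat 1, Int.ofNat 1, Int.ofNat 1, Int.ofNat 1, Int.ofNat 1, Int.negSucc 0, Int.ofNat 1, Int.ofNat 1, Int.negSucc 0, Int.negSucc 0, Int.negSucc 0, Int.ofNat 1, Int.ofNat 1],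
  [Int.ofNat 1, Int.ofNat 1, Int.ofNat 1, Int.ofNat 1, Int.negSucc 0, Int.ofNat 1, Int.ofNat 1, Int.ofNat 3, Int.ofNat 1, Int.negSucc 0, Int.ofNat 1, Int.negSucc 0, Int.ofNat 1, Int.ofNat 1, Int.ofNat 1, Int.ofNat 1, Int.negSucc 0, Int.ofNat 1, Int.negSucc 0, Int.negSucc 0, Int.negSucc 0, Int.ofNat 1, Int.ofNat 1, Int.ofNat 1],
  [Int.ofNat 1, Int.ofNat 1, Int.ofNat 1, Int.ofNat 1, Int.ofNat 1, Int.negSucc 0, Int.ofNat 1, Int.ofNat 1, Int.ofNat 3, Int.ofNat 1, Int.negSucc 0, Int.ofNat 1, Int.negSucc 0, Int.ofNat 1, Int.ofNat 1, Int.ofNat 1, Int.ofNat 1, Int.negSucc 0, Int.ofNat 1, Int.negSucc 0, Int.negSucc 0, Int.negSucc 0, Int.ofNat 1, Int.ofNat 1],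
  [Int.ofNat 1, Int.ofNat 1, Int.ofNat 1, Int.ofNat 1, Int.negSucc 0, Int.negSucc 0, Int.ofNat 1, Int.ofNat 1, Int.ofNat 1, Int.ofNat 1, Int.negSucc 0, Int.negSucc 0, Int.negSucc 2, Int.negSucc 0, Int.ofNat 1, Int.ofNat 1, Int.negSucc 0, Int.negSucc 0, Int.negSucc 0, Int.negSucc 0, Int.negSucc 0, Int.negSucc 0, Int.negSucc 0, Int.ofNat 1],
  [Int.ofNat 1, Int.negSucc 0, Int.negSucc 0, Int.ofNat 1, Int.ofNat 1, Int.ofNat 1, Int.ofNat 1, Int.negSucc 0, Int.negSucc 0, Int.negSucc 2, Int.negSucc 0, Int.ofNat 1, Int.ofNat 1, Int.negSucc 0, Int.negSucc 0, Int.negSucc 0, Int.negSucc 0, Int.negSucc 0, Int.negSucc 0, Int.negSucc 0, Int.ofNat 1, Int.ofNat 1, Int.ofNat 1, Int.ofNat 1],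
  [Int.negSucc 0, Int.ofNat 1, Int.ofNat 1, Int.ofNat 1, Int.ofNat 1, Int.ofNat 1, Int.ofNat 1, Int.negSucc 0, Int.negSucc 0, Int.negSucc 0, Int.ofNat 1, Int.ofNat 1, Int.ofNat 1, Int.negSucc 0, Int.negSucc 0, Int.ofNat 1, Int.negSucc 0, Int.negSucc 0, Int.negSucc 0, Int.negSucc 0, Int.ofNat 3, Int.ofNat 1, Int.ofNat 1, Int.negSucc 0],
  [Int.negSucc 0, Int.ofNat 1, Int.ofNat 1, Int.ofNat 1, Int.negSucc 0, Int.negSucc 0, Int.ofNat 1, Int.ofNat 1, Int.ofNat 1, Int.negSucc 0, Int.ofNat 3, Int.negSucc 0, Int.negSucc 0, Int.negSucc 0, Int.ofNat 1, Int.ofNat 1, Int.negSucc 0, Int.negSucc 0, Int.ofNat 1, Int.ofNat 1, Int.ofNat 1, Int.ofNat 1, Int.negSucc 0, Int.negSucc 0],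
  [Int.ofNat 1, Int.negSucc 0, Int.negSucc 0, Int.ofNat 1, Int.ofNat 1, Int.negSucc 0, Int.negSucc 0, Int.negSucc 0, Int.ofNat 1, Int.negSucc 2, Int.ofNat 1, Int.negSucc 0, Int.negSucc 0, Int.ofNat 1, Int.ofNat 1, Int.negSucc 0, Int.ofNat 1, Int.negSucc 0, Int.ofNat 1, Int.negSucc 0, Int.negSucc 0, Int.negSucc 0, Int.ofNat 1, Int.ofNat 1],
  [Int.ofNat 1, Int.negSucc 0, Int.ofNat 1, Int.ofNat 1, Int.ofNat 1, Int.ofNat 1, Int.ofNat 1, Int.negSucc 0, Int.ofNat 1, Int.ofNat 3, Int.negSucc 0, Int.negSucc 0, Int.negSucc 0, Int.ofNat 1, Int.ofNat 1, Int.ofNat 1, Int.ofNat 1, Int.negSucc 0, Int.negSucc 0, Int.negSucc 0, Int.negSucc 0, Int.negSucc 0, Int.negSucc 0, Int.ofNat 1],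
  [Int.negSucc 0, Int.ofNat 1, Int.negSucc 0, Int.ofNat 1, Int.ofNat 1, Int.ofNat 1, Int.negSucc 0, Int.ofNat 1, Int.ofNat 1, Int.negSucc 0, Int.ofNat 1, Int.negSucc 0, Int.ofNat 1, Int.ofNat 1, Int.negSucc 0, Int.negSucc 0, Int.negSucc 0, Int.negSucc 0, Int.ofNat 3, Int.ofNat 1, Int.ofNat 1, Int.negSucc 0, Int.negSucc 0, Int.ofNat 1],
  [Int.ofNat 1, Int.negSucc 0, Int.ofNat 1, Int.negSucc 0, Int.negSucc 0, Int.ofNat 1, Int.ofNat 1, Int.ofNat 1, Int.negSucc 0, Int.ofNat 1, Int.ofNat 1, Int.negSucc 0, Int.negSucc 0, Int.negSucc 0, Int.negSucc 0, Int.negSucc 0, Int.ofNat 1, Int.negSucc 0, Int.negSucc 2, Int.ofNat 1, Int.ofNat 1, Int.negSucc 0, Int.negSucc 0, Int.ofNat 1],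
  [Int.ofNat 1, Int.negSucc 0, Int.negSucc 0, Int.negSucc 0, Int.negSucc 0, Int.ofNat 1, Int.ofNat 1, Int.negSucc 0, Int.ofNat 1, Int.ofNat 1, Int.ofNat 1, Int.ofNat 1, Int.negSucc 0, Int.ofNat 1, Int.negSucc 2, Int.negSucc 0, Int.ofNat 1, Int.negSucc 0, Int.negSucc 0, Int.ofNat 1, Int.negSucc 0, Int.negSucc 0, Int.negSucc 0, Int.ofNat 1],
  [Int.negSucc 0, Int.negSucc 0, Int.ofNat 1, Int.negSucc 0, Int.negSucc 0, Int.ofNat 1, Int.ofNat 1, Int.ofNat 1, Int.ofNat 1, Int.negSucc 0, Int.negSucc 0, Int.negSucc 0, Int.negSucc 0, Int.ofNat 1, Int.negSucc 2, Int.negSucc 0, Int.ofNat 1, Int.negSucc 0, Int.ofNat 1, Int.ofNat 1, Int.negSucc 0, Int.ofNat 1, Int.negSucc 0, Int.ofNat 1],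
  [Int.negSucc 0, Int.negSucc 0, Int.negSucc 0, Int.ofNat 1, Int.negSucc 0, Int.negSucc 0, Int.ofNat 1, Int.ofNat 1, Int.ofNat 1, Int.ofNat 1, Int.negSucc 0, Int.negSucc 0, Int.negSucc 0, Int.negSucc 0, Int.ofNat 1, Int.negSucc 2, Int.negSucc 0, Int.ofNat 1, Int.negSucc 0, Int.ofNat 1, Int.ofNat 1, Int.negSucc 0, Int.ofNat 1, Int.ofNat 1],
  [Int.ofNat 0, Int.ofNat 0, Int.ofNat 0, Int.ofNat 0, Int.ofNat 0, Int.negSucc 1, Int.ofNat 0, Int.ofNat 0, Int.ofNat 2, Int.ofNat 2, Int.ofNat 0, Int.ofNat 0, Int.ofNat 0, Int.ofNat 0, Int.ofNat 0, Int.negSucc 1, Int.ofNat 0, Int.ofNat 0, Int.ofNat 0, Int.ofNat 0, Int.ofNat 2, Int.negSucc 1, Int.ofNat 2, Int.negSucc 1],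
  [Int.ofNat 0, Int.ofNat 0, Int.negSucc 1, Int.ofNat 0, Int.ofNat 0, Int.ofNat 2, Int.ofNat 2, Int.ofNat 0, Int.ofNat 0, Int.ofNat 0, Int.ofNat 0, Int.ofNat 0, Int.negSucc 1, Int.ofNat 0, Int.ofNat 0, Int.ofNat 0, Int.ofNat 0, Int.ofNat 2, Int.negSucc 1, Int.ofNat 2, Int.ofNat 0, Int.ofNat 0, Int.ofNat 0, Int.negSucc 1],
  [Int.negSucc 1, Int.negSucc 1, Int.ofNat 0, Int.negSucc 1, Int.ofNat 0, Int.ofNat 0, Int.ofNat 0, Int.negSucc 1, Int.ofNat 2, Int.ofNat 0, Int.ofNat 0, Int.ofNat 2, Int.ofNat 0, Int.ofNat 0, Int.negSucc 1, Int.ofNat 0, Int.ofNat 0, Int.ofNat 0, Int.ofNat 0, Int.ofNat 0, Int.ofNat 0, Int.negSucc 1, Int.ofNat 0, Int.ofNat 0],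
  [Int.negSucc 1, Int.ofNat 0, Int.ofNat 0, Int.negSucc 1, Int.ofNat 0, Int.negSucc 1, Int.ofNat 0, Int.ofNat 0, Int.ofNat 0, Int.ofNat 0, Int.ofNat 0, Int.ofNat 0, Int.ofNat 0, Int.ofNat 0, Int.ofNat 0, Int.ofNat 0, Int.ofNat 2, Int.negSucc 1, Int.negSucc 1, Int.ofNat 2, Int.negSucc 1, Int.ofNat 0, Int.ofNat 0, Int.ofNat 0],
  [Int.ofNat 1, Int.negSucc 0, Int.negSucc 0, Int.ofNat 1, Int.negSucc 0, Int.ofNat 1, Int.negSucc 0, Int.negSucc 0, Int.ofNat 1, Int.ofNat 1, Int.ofNat 1, Int.ofNat 1, Int.ofNat 1, Int.negSucc 0, Int.ofNat 3, Int.ofNat 1, Int.ofNat 1, Int.ofNat 1, Int.negSucc 0, Int.ofNat 1, Int.negSucc 0, Int.negSucc 0, Int.negSucc 0, Int.negSucc 0],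
  [Int.ofNat 1, Int.negSucc 0, Int.ofNat 1, Int.ofNat 1, Int.negSucc 0, Int.negSucc 0, Int.ofNat 1, Int.negSucc 0, Int.ofNat 1, Int.negSucc 0, Int.negSucc 0, Int.ofNat 1, Int.ofNat 1, Int.negSucc 0, Int.ofNat 3, Int.negSucc 0, Int.ofNat 1, Int.ofNat 1, Int.ofNat 1, Int.ofNat 1, Int.negSucc 0, Int.negSucc 0, Int.ofNat 1, Int.negSucc 0],
  [Int.negSucc 0, Int.negSucc 0, Int.negSucc 0, Int.ofNat 1, Int.ofNat 1, Int.ofNat 1, Int.ofNat 1, Int.negSucc 0, Int.ofNat 1, Int.ofNat 1, Int.negSucc 0, Int.ofNat 1, Int.negSucc 0, Int.ofNat 1, Int.ofNat 1, Int.ofNat 1, Int.negSucc 0, Int.ofNat 1, Int.ofNat 3, Int.ofNat 1, Int.negSucc 0, Int.negSucc 0, Int.negSucc 0, Int.negSucc 0],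
  [Int.negSucc 0, Int.negSucc 0, Int.ofNat 1, Int.ofNat 1, Int.ofNat 1, Int.negSucc 0, Int.negSucc 0, Int.negSucc 0, Int.ofNat 1, Int.negSucc 0, Int.ofNat 1, Int.ofNat 1, Int.negSucc 0, Int.ofNat 1, Int.ofNat 1, Int.negSucc 0, Int.negSucc 0, Int.ofNat 1, Int.negSucc 2, Int.ofNat 1, Int.negSucc 0, Int.negSucc 0, Int.ofNat 1, Int.negSucc 0],
  [Int.ofNat 0, Int.ofNat 0, Int.negSucc 1, Int.ofNat 0, Int.ofNat 0, Int.negSucc 1, Int.ofNat 0, Int.ofNat 0, Int.ofNat 2, Int.ofNat 0, Int.ofNat 2, Int.ofNat 2, Int.ofNat 0, Int.ofNat 0, Int.ofNat 0, Int.ofNat 0, Int.negSucc 1, Int.ofNat 0, Int.negSucc 1, Int.ofNat 2, Int.ofNat 0, Int.ofNat 0, Int.ofNat 0, Int.ofNat 0],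
  [Int.ofNat 0, Int.negSucc 1, Int.ofNat 0, Int.ofNat 0, Int.negSucc 1, Int.ofNat 0, Int.ofNat 0, Int.negSucc 1, Int.negSucc 1, Int.ofNat 0, Int.ofNat 0, Int.ofNat 2, Int.ofNat 2, Int.ofNat 0, Int.ofNat 0, Int.ofNat 0, Int.ofNat 0, Int.ofNat 2, Int.ofNat 0, Int.ofNat 0, Int.ofNat 2, Int.ofNat 0, Int.ofNat 0, Int.ofNat 0],
  [Int.negSucc 0, Int.ofNat 1, Int.negSucc 0, Int.negSucc 0, Int.negSucc 0, Int.negSucc 0, Int.ofNat 1, Int.negSucc 0, Int.negSucc 2, Int.negSucc 0, Int.negSucc 0, Int.ofNat 1, Int.ofNat 1, Int.ofNat 1, Int.negSucc 0, Int.negSucc 0, Int.ofNat 1, Int.ofNat 1, Int.negSucc 0, Int.ofNat 1, Int.ofNat 1, Int.ofNat 1, Int.ofNat 1, Int.negSucc 0],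
  [Int.ofNat 1, Int.ofNat 1, Int.ofNat 1, Int.negSucc 0, Int.ofNat 1, Int.negSucc 0, Int.negSucc 0, Int.negSucc 0, Int.negSucc 0, Int.ofNat 1, Int.negSucc 0, Int.negSucc 2, Int.negSucc 0, Int.negSucc 0, Int.ofNat 1, Int.ofNat 1, Int.ofNat 1, Int.negSucc 0, Int.negSucc 0, Int.ofNat 1, Int.ofNat 1, Int.negSucc 0, Int.ofNat 1, Int.negSucc 0],
  [Int.ofNat 0, Int.ofNat 0, Int.ofNat 0, Int.ofNat 0, Int.ofNat 0, Int.ofNat 0, Int.ofNat 0, Int.ofNat 0, Int.ofNat 2, Int.ofNat 0, Int.negSucc 1, Int.ofNat 0, Int.ofNat 2, Int.negSucc 1, Int.ofNat 2, Int.ofNat 0, Int.ofNat 0, Int.ofNat 0, Int.ofNat 2, Int.ofNat 2, Int.ofNat 0, Int.ofNat 0, Int.ofNat 0, Int.ofNat 2],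
  [Int.ofNat 0, Int.ofNat 0, Int.ofNat 0, Int.ofNat 0, Int.ofNat 0, Int.ofNat 0, Int.ofNat 0, Int.ofNat 2, Int.ofNat 0, Int.negSucc 1, Int.ofNat 0, Int.ofNat 2, Int.negSucc 1, Int.ofNat 2, Int.ofNat 0, Int.ofNat 0, Int.ofNat 0, Int.ofNat 2, Int.ofNat 2, Int.ofNat 0, Int.ofNat 0, Int.ofNat 0, Int.ofNat 0, Int.ofNat 2],
  [Int.ofNat 0, Int.ofNat 0, Int.ofNat 0, Int.ofNat 0, Int.ofNat 0, Int.ofNat 0, Int.ofNat 0, Int.negSucc 1, Int.ofNat 0, Int.ofNat 2, Int.ofNat 0, Int.negSucc 1, Int.negSucc 1, Int.ofNat 2, Int.ofNat 0, Int.ofNat 0, Int.ofNat 0, Int.ofNat 2, Int.negSucc 1, Int.ofNat 0, Int.ofNat 0, Int.ofNat 0, Int.ofNat 0, Int.ofNat 2],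
  [Int.ofNat 0, Int.ofNat 0, Int.negSucc 1, Int.ofNat 0, Int.ofNat 0, Int.ofNat 0, Int.ofNat 0, Int.ofNat 0, Int.ofNat 2, Int.ofNat 0, Int.ofNat 0, Int.ofNat 0, Int.ofNat 2, Int.ofNat 0, Int.ofNat 0, Int.ofNat 0, Int.negSucc 1, Int.ofNat 0, Int.ofNat 0, Int.ofNat 2, Int.ofNat 0, Int.negSucc 1, Int.negSucc 1, Int.ofNat 2],
  [Int.ofNat 0, Int.ofNat 0, Int.ofNat 2, Int.ofNat 0, Int.ofNat 0, Int.ofNat 0, Int.ofNat 0, Int.ofNat 0, Int.ofNat 2, Int.ofNat 0, Int.ofNat 0, Int.ofNat 0, Int.ofNat 2, Int.ofNat 0, Int.ofNat 0, Int.ofNat 0, Int.negSucc 1, Int.ofNat 0, Int.ofNat 0, Int.ofNat 2, Int.ofNat 0, Int.ofNat 2, Int.negSucc 1, Int.ofNat 2],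
  [Int.negSucc 1, Int.ofNat 0, Int.ofNat 0, Int.ofNat 2, Int.ofNat 0, Int.ofNat 0, Int.ofNat 0, Int.ofNat 0, Int.ofNat 0, Int.ofNat 2, Int.ofNat 0, Int.ofNat 0, Int.ofNat 0, Int.ofNat 2, Int.ofNat 0, Int.ofNat 0, Int.ofNat 0, Int.negSucc 1, Int.ofNat 0, Int.ofNat 0, Int.ofNat 2, Int.ofNat 0, Int.ofNat 2, Int.ofNat 2],
  [Int.ofNat 2, Int.ofNat 0, Int.ofNat 0, Int.ofNat 2, Int.negSucc 1, Int.ofNat 0, Int.ofNat 0, Int.ofNat 0, Int.ofNat 0, Int.ofNat 0, Int.negSucc 1, Int.ofNat 0, Int.ofNat 0, Int.ofNat 0, Int.ofNat 0, Int.negSucc 1, Int.negSucc 1, Int.negSucc 1, Int.ofNat 0, Int.ofNat 0, Int.ofNat 0, Int.ofNat 0, Int.ofNat 0, Int.negSucc 1],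
  [Int.ofNat 2, Int.negSucc 1, Int.ofNat 0, Int.ofNat 0, Int.ofNat 0, Int.ofNat 0, Int.ofNat 0, Int.negSucc 1, Int.ofNat 0, Int.ofNat 0, Int.ofNat 0, Int.ofNat 0, Int.negSucc 1, Int.negSucc 1, Int.negSucc 1, Int.ofNat 0, Int.ofNat 0, Int.ofNat 0, Int.ofNat 0, Int.ofNat 0, Int.ofNat 2, Int.ofNat 0, Int.ofNat 0, Int.negSucc 1],
  [Int.negSucc 2, Int.ofNat 1, Int.negSucc 0, Int.ofNat 1, Int.ofNat 1, Int.ofNat 1, Int.ofNat 1, Int.negSucc 0, Int.ofNat 1, Int.negSucc 0, Int.negSucc 0, Int.ofNat 1, Int.negSucc 0, Int.negSucc 0, Int.negSucc 0, Int.negSucc 0, Int.ofNat 1, Int.ofNat 1, Int.ofNat 1, Int.ofNat 1, Int.ofNat 1, Int.ofNat 1, Int.ofNat 1, Int.ofNat 1],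
  [Int.negSucc 2, Int.ofNat 1, Int.ofNat 1, Int.ofNat 1, Int.ofNat 1, Int.negSucc 0, Int.negSucc 0, Int.negSucc 0, Int.negSucc 0, Int.negSucc 0, Int.ofNat 1, Int.ofNat 1, Int.negSucc 0, Int.ofNat 1, Int.ofNat 1, Int.negSucc 0, Int.ofNat 1, Int.negSucc 0, Int.ofNat 1, Int.ofNat 1, Int.ofNat 1, Int.ofNat 1, Int.ofNat 1, Int.ofNat 1],
  [Int.ofNat 3, Int.negSucc 0, Int.negSucc 0, Int.ofNat 1, Int.negSucc 0, Int.negSucc 0, Int.negSucc 0, Int.negSucc 0, Int.negSucc 0, Int.negSucc 0, Int.ofNat 1, Int.ofNat 1, Int.negSucc 0, Int.negSucc 0, Int.ofNat 1, Int.negSucc 0, Int.negSucc 0, Int.negSucc 0, Int.ofNat 1, Int.ofNat 1, Int.ofNat 1, Int.ofNat 1, Int.negSucc 0, Int.negSucc 0],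
  [Int.ofNat 3, Int.negSucc 0, Int.ofNat 1, Int.ofNat 1, Int.negSucc 0, Int.ofNat 1, Int.ofNat 1, Int.negSucc 0, Int.negSucc 0, Int.ofNat 1, Int.negSucc 0, Int.ofNat 1, Int.negSucc 0, Int.negSucc 0, Int.ofNat 1, Int.ofNat 1, Int.negSucc 0, Int.negSucc 0, Int.negSucc 0, Int.ofNat 1, Int.ofNat 1, Int.ofNat 1, Int.ofNat 1, Int.negSucc 0],
  [Int.negSucc 0, Int.negSucc 0, Int.ofNat 1, Int.negSucc 0, Int.ofNat 1, Int.ofNat 1, Int.ofNat 1, Int.ofNat 1, Int.ofNat 1, Int.ofNat 1, Int.negSucc 0, Int.negSucc 0, Int.ofNat 1, Int.negSucc 0, Int.negSucc 0, Int.negSucc 0, Int.ofNat 1, Int.negSucc 0, Int.ofNat 1, Int.ofNat 1, Int.ofNat 3, Int.negSucc 0, Int.ofNat 1, Int.negSucc 0],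
  [Int.ofNat 1, Int.ofNat 1, Int.negSucc 0, Int.ofNat 1, Int.negSucc 0, Int.ofNat 1, Int.negSucc 0, Int.ofNat 1, Int.negSucc 0, Int.negSucc 0, Int.negSucc 0, Int.negSucc 0, Int.negSucc 0, Int.ofNat 1, Int.negSucc 0, Int.negSucc 0, Int.negSucc 0, Int.negSucc 0, Int.negSucc 0, Int.ofNat 1, Int.ofNat 3, Int.negSucc 0, Int.ofNat 1, Int.negSucc 0],
  [Int.negSucc 0, Int.ofNat 1, Int.negSucc 0, Int.negSucc 0, Int.negSucc 0, Int.negSucc 0, Int.ofNat 1, Int.ofNat 1, Int.ofNat 3, Int.ofNat 1, Int.negSucc 0, Int.negSucc 0, Int.negSucc 0, Int.ofNat 1, Int.negSucc 0, Int.ofNat 1, Int.negSucc 0, Int.negSucc 0, Int.negSucc 0, Int.negSucc 0, Int.negSucc 0, Int.negSucc 0, Int.ofNat 1, Int.ofNat 1],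
  [Int.ofNat 1, Int.ofNat 1, Int.ofNat 1, Int.negSucc 0, Int.negSucc 0, Int.negSucc 0, Int.ofNat 1, Int.negSucc 0, Int.ofNat 3, Int.negSucc 0, Int.ofNat 1, Int.ofNat 1, Int.negSucc 0, Int.ofNat 1, Int.negSucc 0, Int.ofNat 1, Int.negSucc 0, Int.negSucc 0, Int.ofNat 1, Int.negSucc 0, Int.negSucc 0, Int.ofNat 1, Int.ofNat 1, Int.ofNat 1],
  [Int.ofNat 1, Int.ofNat 1, Int.ofNat 1, Int.ofNat 1, Int.negSucc 0, Int.negSucc 0, Int.negSucc 0, Int.ofNat 1, Int.negSucc 0, Int.ofNat 3, Int.negSucc 0, Int.ofNat 1, Int.ofNat 1, Int.negSucc 0, Int.ofNat 1, Int.negSucc 0, Int.ofNat 1, Int.negSucc 0, Int.negSucc 0, Int.ofNat 1, Int.negSucc 0, Int.negSucc 0, Int.ofNat 1, Int.ofNat 1],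
  [Int.ofNat 1, Int.ofNat 1, Int.ofNat 1, Int.ofNat 1, Int.negSucc 0, Int.negSucc 0, Int.negSucc 0, Int.ofNat 1, Int.negSucc 0, Int.ofNat 3, Int.negSucc 0, Int.ofNat 1, Int.ofNat 1, Int.negSucc 0, Int.ofNat 1, Int.negSucc 0, Int.ofNat 1, Int.negSucc 0, Int.negSucc 0, Int.ofNat 1, Int.negSucc 0, Int.negSucc 0, Int.ofNat 1, Int.ofNat 1],
  [Int.ofNat 1, Int.negSucc 0, Int.negSucc 0, Int.negSucc 0, Int.ofNat 1, Int.negSucc 0, Int.ofNat 3, Int.negSucc 0, Int.ofNat 1, Int.ofNat 1, Int.negSucc 0, Int.ofNat 1, Int.negSucc 0, Int.ofNat 1, Int.negSucc 0, Int.negSucc 0, Int.ofNat 1, Int.negSucc 0, Int.negSucc 0, Int.ofNat 1, Int.ofNat 1, Int.ofNat 1, Int.ofNat 1, Int.ofNat 1],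
  [Int.negSucc 0, Int.ofNat 1, Int.ofNat 1, Int.ofNat 1, Int.negSucc 0, Int.ofNat 1, Int.ofNat 1, Int.negSucc 2, Int.ofNat 1, Int.ofNat 1, Int.negSucc 0, Int.ofNat 1, Int.negSucc 0, Int.negSucc 0, Int.ofNat 1, Int.negSucc 0, Int.negSucc 0, Int.ofNat 1, Int.negSucc 0, Int.negSucc 0, Int.ofNat 1, Int.negSucc 0, Int.negSucc 0, Int.negSucc 0],
  [Int.negSucc 0, Int.ofNat 1, Int.negSucc 0, Int.ofNat 1, Int.negSucc 0, Int.negSucc 2, Int.ofNat 1, Int.negSucc 0, Int.negSucc 0, Int.negSucc 0, Int.ofNat 1, Int.ofNat 1, Int.ofNat 1, Int.negSucc 0, Int.negSucc 0, Int.negSucc 0, Int.ofNat 1, Int.ofNat 1, Int.ofNat 1, Int.ofNat 1, Int.negSucc 0, Int.ofNat 1, Int.negSucc 0, Int.negSucc 0],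
  [Int.ofNat 0, Int.negSucc 1, Int.ofNat 0, Int.ofNat 2, Int.ofNat 0, Int.negSucc 1, Int.ofNat 0, Int.negSucc 1, Int.negSucc 1, Int.ofNat 0, Int.ofNat 2, Int.ofNat 0, Int.ofNat 0, Int.ofNat 0, Int.ofNat 0, Int.ofNat 0, Int.ofNat 2, Int.ofNat 2, Int.ofNat 0, Int.ofNat 0, Int.ofNat 0, Int.ofNat 0, Int.ofNat 0, Int.ofNat 0],
  [Int.ofNat 0, Int.negSucc 1, Int.ofNat 0, Int.ofNat 2, Int.ofNat 0, Int.ofNat 2, Int.ofNat 0, Int.negSucc 1, Int.negSucc 1, Int.ofNat 0, Int.negSucc 1, Int.ofNat 0, Int.ofNat 0, Int.ofNat 0, Int.ofNat 0, Int.ofNat 0, Int.ofNat 2, Int.ofNat 2, Int.ofNat 0, Int.ofNat 0, Int.ofNat 0, Int.ofNat 0, Int.ofNat 0, Int.ofNat 0],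
  [Int.ofNat 0, Int.ofNat 0, Int.ofNat 2, Int.ofNat 0, Int.ofNat 0, Int.ofNat 0, Int.ofNat 0, Int.negSucc 1, Int.ofNat 0, Int.ofNat 2, Int.ofNat 0, Int.ofNat 2, Int.ofNat 0, Int.ofNat 0, Int.ofNat 0, Int.ofNat 2, Int.ofNat 0, Int.negSucc 1, Int.ofNat 0, Int.ofNat 0, Int.negSucc 1, Int.ofNat 0, Int.negSucc 1, Int.ofNat 0],
  [Int.ofNat 0, Int.ofNat 0, Int.negSucc 1, Int.ofNat 0, Int.ofNat 0, Int.ofNat 0, Int.ofNat 0, Int.negSucc 1, Int.ofNat 0, Int.negSucc 1, Int.ofNat 0, Int.ofNat 2, Int.ofNat 0, Int.ofNat 0, Int.ofNat 0, Int.negSucc 1, Int.ofNat 0, Int.negSucc 1, Int.ofNat 0, Int.ofNat 0, Int.negSucc 1, Int.ofNat 0, Int.ofNat 2, Int.ofNat 0],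
  [Int.negSucc 0, Int.negSucc 0, Int.ofNat 1, Int.ofNat 1, Int.negSucc 0, Int.ofNat 1, Int.ofNat 1, Int.negSucc 0, Int.negSucc 0, Int.ofNat 1, Int.ofNat 3, Int.ofNat 1, Int.negSucc 0, Int.negSucc 0, Int.ofNat 1, Int.ofNat 1, Int.negSucc 0, Int.negSucc 0, Int.negSucc 0, Int.ofNat 1, Int.ofNat 1, Int.ofNat 1, Int.ofNat 1, Int.negSucc 0],
  [Int.negSucc 0, Int.negSucc 0, Int.ofNat 1, Int.ofNat 1, Int.ofNat 1, Int.ofNat 1, Int.negSucc 0, Int.ofNat 1, Int.negSucc 0, Int.negSucc 0, Int.negSucc 0, Int.ofNat 1, Int.negSucc 0, Int.ofNat 1, Int.negSucc 0, Int.ofNat 1, Int.negSucc 0, Int.ofNat 1, Int.negSucc 0, Int.ofNat 1, Int.ofNat 3, Int.ofNat 1, Int.ofNat 1, Int.negSucc 0],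
  [Int.ofNat 0, Int.ofNat 0, Int.negSucc 1, Int.ofNat 0, Int.ofNat 0, Int.ofNat 0, Int.negSucc 1, Int.ofNat 0, Int.ofNat 0, Int.negSucc 1, Int.negSucc 1, Int.ofNat 2, Int.ofNat 0, Int.ofNat 0, Int.negSucc 1, Int.ofNat 0, Int.negSucc 1, Int.ofNat 0, Int.ofNat 0, Int.ofNat 0, Int.ofNat 2, Int.ofNat 0, Int.ofNat 0, Int.ofNat 0],
  [Int.ofNat 2, Int.ofNat 0, Int.ofNat 0, Int.ofNat 0, Int.ofNat 0, Int.negSucc 1, Int.ofNat 0, Int.ofNat 0, Int.ofNat 0, Int.negSucc 1, Int.ofNat 0, Int.ofNat 0, Int.negSucc 1, Int.negSucc 1, Int.ofNat 2, Int.ofNat 0, Int.ofNat 0, Int.negSucc 1, Int.ofNat 0, Int.negSucc 1, Int.ofNat 0, Int.ofNat 0, Int.ofNat 0, Int.ofNat 0],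
  [Int.negSucc 0, Int.ofNat 1, Int.ofNat 1, Int.ofNat 1, Int.ofNat 1, Int.negSucc 0, Int.ofNat 1, Int.ofNat 1, Int.ofNat 1, Int.negSucc 0, Int.ofNat 1, Int.ofNat 1, Int.negSucc 0, Int.negSucc 0, Int.ofNat 3, Int.ofNat 1, Int.ofNat 1, Int.negSucc 0, Int.ofNat 1, Int.negSucc 0, Int.ofNat 1, Int.ofNat 1, Int.ofNat 1, Int.ofNat 1],
  [Int.ofNat 1, Int.ofNat 1, Int.ofNat 1, Int.ofNat 1, Int.negSucc 0, Int.ofNat 1, Int.ofNat 1, Int.ofNat 1, Int.negSucc 0, Int.ofNat 1, Int.ofNat 1, Int.negSucc 0, Int.negSucc 0, Int.ofNat 3, Int.ofNat 1, Int.ofNat 1, Int.negSucc 0, Int.ofNat 1, Int.negSucc 0, Int.ofNat 1, Int.ofNat 1, Int.ofNat 1, Int.negSucc 0, Int.ofNat 1],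
  [Int.negSucc 0, Int.ofNat 1, Int.negSucc 0, Int.ofNat 1, Int.negSucc 0, Int.ofNat 1, Int.ofNat 1, Int.negSucc 0, Int.negSucc 0, Int.negSucc 0, Int.negSucc 0, Int.ofNat 1, Int.negSucc 0, Int.ofNat 3, Int.ofNat 1, Int.ofNat 1, Int.negSucc 0, Int.ofNat 1, Int.ofNat 1, Int.ofNat 1, Int.ofNat 1, Int.negSucc 0, Int.negSucc 0, Int.ofNat 1],
  [Int.negSucc 0, Int.negSucc 0, Int.ofNat 1, Int.ofNat 1, Int.ofNat 1, Int.negSucc 0, Int.negSucc 0, Int.ofNat 1, Int.negSucc 0, Int.negSucc 0, Int.negSucc 0, Int.ofNat 1, Int.ofNat 3, Int.negSucc 0, Int.ofNat 1, Int.ofNat 1, Int.negSucc 0, Int.negSucc 0, Int.ofNat 1, Int.ofNat 1, Int.ofNat 1, Int.negSucc 0, Int.ofNat 1, Int.ofNat 1],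
  [Int.ofNat 1, Int.negSucc 0, Int.negSucc 0, Int.ofNat 1, Int.ofNat 1, Int.negSucc 0, Int.negSucc 0, Int.negSucc 0, Int.negSucc 0, Int.ofNat 1, Int.ofNat 1, Int.negSucc 0, Int.ofNat 3, Int.negSucc 0, Int.ofNat 1, Int.ofNat 1, Int.negSucc 0, Int.negSucc 0, Int.negSucc 0, Int.ofNat 1, Int.ofNat 1, Int.ofNat 1, Int.ofNat 1, Int.ofNat 1],
  [Int.ofNat 1, Int.ofNat 1, Int.negSucc 0, Int.negSucc 0, Int.ofNat 1, Int.ofNat 1, Int.negSucc 0, Int.negSucc 0, Int.negSucc 0, Int.negSucc 0, Int.ofNat 1, Int.ofNat 1, Int.negSucc 0, Int.ofNat 3, Int.negSucc 0, Int.ofNat 1, Int.ofNat 1, Int.negSucc 0, Int.negSucc 0, Int.negSucc 0, Int.ofNat 1, Int.ofNat 1, Int.ofNat 1, Int.ofNat 1],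
  [Int.ofNat 0, Int.ofNat 0, Int.ofNat 2, Int.ofNat 0, Int.negSucc 1, Int.ofNat 2, Int.ofNat 0, Int.ofNat 0, Int.ofNat 0, Int.negSucc 1, Int.ofNat 0, Int.ofNat 2, Int.ofNat 0, Int.ofNat 0, Int.ofNat 0, Int.ofNat 0, Int.negSucc 1, Int.ofNat 0, Int.ofNat 0, Int.ofNat 0, Int.ofNat 0, Int.ofNat 2, Int.negSucc 1, Int.ofNat 0],
  [Int.ofNat 0, Int.negSucc 1, Int.ofNat 2, Int.ofNat 0, Int.ofNat 0, Int.ofNat 0, Int.negSucc 1, Int.ofNat 0, Int.ofNat 2, Int.ofNat 0, Int.ofNat 0, Int.ofNat 0, Int.ofNat 0, Int.negSucc 1, Int.ofNat 0, Int.ofNat 0, Int.ofNat 0, Int.ofNat 0, Int.ofNat 2, Int.negSucc 1, Int.ofNat 0, Int.ofNat 0, Int.ofNat 2, Int.ofNat 0],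
  [Int.ofNat 0, Int.ofNat 2, Int.negSucc 1, Int.ofNat 0, Int.ofNat 0, Int.ofNat 0, Int.ofNat 0, Int.ofNat 2, Int.ofNat 0, Int.ofNat 0, Int.ofNat 0, Int.negSucc 1, Int.negSucc 1, Int.negSucc 1, Int.ofNat 0, Int.ofNat 0, Int.ofNat 0, Int.ofNat 0, Int.ofNat 0, Int.ofNat 0, Int.ofNat 0, Int.ofNat 2, Int.ofNat 2, Int.ofNat 0],
  [Int.ofNat 0, Int.ofNat 0, Int.ofNat 0, Int.ofNat 0, Int.ofNat 0, Int.ofNat 2, Int.negSucc 1, Int.ofNat 0, Int.negSucc 1, Int.negSucc 1, Int.ofNat 0, Int.ofNat 0, Int.ofNat 0, Int.ofNat 0, Int.ofNat 2, Int.ofNat 0, Int.ofNat 0, Int.ofNat 0, Int.ofNat 2, Int.negSucc 1, Int.ofNat 2, Int.ofNat 0, Int.ofNat 0, Int.ofNat 0],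
  [Int.ofNat 0, Int.ofNat 0, Int.ofNat 0, Int.negSucc 1, Int.ofNat 0, Int.ofNat 0, Int.ofNat 0, Int.ofNat 2, Int.negSucc 1, Int.negSucc 1, Int.ofNat 0, Int.ofNat 0, Int.ofNat 0, Int.ofNat 0, Int.ofNat 0, Int.ofNat 0, Int.ofNat 0, Int.negSucc 1, Int.ofNat 2, Int.ofNat 0, Int.ofNat 2, Int.ofNat 2, Int.ofNat 0, Int.ofNat 0],
  [Int.ofNat 0, Int.ofNat 0, Int.ofNat 0, Int.negSucc 1, Int.ofNat 0, Int.ofNat 0, Int.ofNat 0, Int.ofNat 2, Int.negSucc 1, Int.ofNat 2, Int.ofNat 0, Int.ofNat 0, Int.ofNat 0, Int.ofNat 0, Int.ofNat 0, Int.ofNat 0, Int.ofNat 0, Int.negSucc 1, Int.negSucc 1, Int.ofNat 0, Int.ofNat 2, Int.ofNat 2, Int.ofNat 0, Int.ofNat 0],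
  [Int.ofNat 0, Int.ofNat 0, Int.ofNat 0, Int.negSucc 1, Int.ofNat 0, Int.ofNat 0, Int.ofNat 2, Int.negSucc 1, Int.ofNat 0, Int.ofNat 2, Int.ofNat 0, Int.ofNat 2, Int.ofNat 0, Int.ofNat 0, Int.negSucc 1, Int.negSucc 1, Int.ofNat 0, Int.ofNat 0, Int.ofNat 2, Int.ofNat 0, Int.ofNat 0, Int.ofNat 0, Int.ofNat 0, Int.ofNat 0],
  [Int.ofNat 0, Int.ofNat 0, Int.ofNat 0, Int.ofNat 2, Int.ofNat 0, Int.ofNat 0, Int.negSucc 1, Int.negSucc 1, Int.ofNat 0, Int.negSucc 1, Int.ofNat 0, Int.ofNat 2, Int.ofNat 0, Int.ofNat 0, Int.negSucc 1, Int.negSucc 1, Int.ofNat 0, Int.ofNat 0, Int.negSucc 1, Int.ofNat 0, Int.ofNat 0, Int.ofNat 0, Int.ofNat 0, Int.ofNat 0],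
  [Int.ofNat 0, Int.ofNat 0, Int.ofNat 2, Int.negSucc 1, Int.ofNat 0, Int.negSucc 1, Int.ofNat 0, Int.ofNat 0, Int.ofNat 0, Int.ofNat 0, Int.ofNat 0, Int.ofNat 0, Int.ofNat 0, Int.negSucc 1, Int.negSucc 1, Int.ofNat 2, Int.ofNat 0, Int.ofNat 0, Int.negSucc 1, Int.negSucc 1, Int.ofNat 0, Int.ofNat 0, Int.ofNat 0, Int.ofNat 0],
  [Int.ofNat 0, Int.ofNat 0, Int.negSucc 1, Int.negSucc 1, Int.ofNat 0, Int.negSucc 1, Int.ofNat 0, Int.ofNat 0, Int.ofNat 0, Int.ofNat 0, Int.ofNat 0, Int.ofNat 0, Int.ofNat 0, Int.negSucc 1, Int.negSucc 1, Int.ofNat 2, Int.ofNat 0, Int.ofNat 0, Int.ofNat 2, Int.negSucc 1, Int.ofNat 0, Int.ofNat 0, Int.ofNat 0, Int.ofNat 0],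
  [Int.ofNat 0, Int.ofNat 0, Int.ofNat 0, Int.negSucc 1, Int.negSucc 1, Int.ofNat 0, Int.negSucc 1, Int.ofNat 0, Int.ofNat 0, Int.ofNat 0, Int.ofNat 0, Int.ofNat 0, Int.ofNat 0, Int.ofNat 0, Int.negSucc 1, Int.negSucc 1, Int.ofNat 2, Int.ofNat 0, Int.ofNat 0, Int.ofNat 2, Int.negSucc 1, Int.ofNat 0, Int.ofNat 0, Int.ofNat 0],
  [Int.ofNat 0, Int.ofNat 0, Int.ofNat 0, Int.ofNat 0, Int.negSucc 1, Int.ofNat 2, Int.negSucc 1, Int.ofNat 0, Int.ofNat 0, Int.ofNat 2, Int.ofNat 2, Int.ofNat 0, Int.ofNat 0, Int.ofNat 0, Int.ofNat 0, Int.ofNat 0, Int.ofNat 2, Int.ofNat 2, Int.ofNat 0, Int.ofNat 2, Int.ofNat 0, Int.ofNat 0, Int.ofNat 0, Int.ofNat 0],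
  [Int.ofNat 0, Int.negSucc 1, Int.ofNat 2, Int.negSucc 1, Int.ofNat 0, Int.ofNat 0, Int.ofNat 2, Int.ofNat 2, Int.ofNat 0, Int.ofNat 0, Int.ofNat 0, Int.ofNat 0, Int.ofNat 0, Int.ofNat 2, Int.ofNat 2, Int.ofNat 0, Int.ofNat 2, Int.ofNat 0, Int.ofNat 0, Int.ofNat 0, Int.ofNat 0, Int.ofNat 0, Int.ofNat 0, Int.ofNat 0],
  [Int.ofNat 0, Int.ofNat 2, Int.negSucc 1, Int.negSucc 1, Int.negSucc 1, Int.ofNat 0, Int.ofNat 0, Int.ofNat 0, Int.ofNat 0, Int.ofNat 0, Int.ofNat 0, Int.ofNat 0, Int.ofNat 0, Int.ofNat 0, Int.ofNat 2, Int.ofNat 0, Int.ofNat 0, Int.ofNat 0, Int.ofNat 0, Int.negSucc 1, Int.ofNat 0, Int.negSucc 1, Int.negSucc 1, Int.ofNat 0],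
  [Int.ofNat 0, Int.ofNat 0, Int.negSucc 1, Int.negSucc 1, Int.ofNat 0, Int.ofNat 0, Int.negSucc 1, Int.ofNat 0, Int.ofNat 0, Int.ofNat 0, Int.ofNat 0, Int.ofNat 0, Int.ofNat 0, Int.ofNat 0, Int.negSucc 1, Int.ofNat 0, Int.ofNat 0, Int.ofNat 2, Int.ofNat 2, Int.ofNat 0, Int.negSucc 1, Int.ofNat 0, Int.negSucc 1, Int.ofNat 0],
  [Int.negSucc 0, Int.negSucc 0, Int.ofNat 1, Int.negSucc 0, Int.ofNat 1, Int.ofNat 1, Int.negSucc 0, Int.ofNat 1, Int.negSucc 0, Int.ofNat 1, Int.ofNat 1, Int.negSucc 0, Int.negSucc 0, Int.ofNat 1, Int.negSucc 0, Int.ofNat 1, Int.ofNat 1, Int.ofNat 3, Int.ofNat 1, Int.ofNat 1, Int.negSucc 0, Int.ofNat 1, Int.negSucc 0, Int.negSucc 0],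
  [Int.negSucc 0, Int.negSucc 0, Int.negSucc 0, Int.negSucc 0, Int.ofNat 1, Int.negSucc 0, Int.ofNat 1, Int.ofNat 1, Int.negSucc 0, Int.negSucc 0, Int.negSucc 0, Int.negSucc 0, Int.negSucc 0, Int.ofNat 1, Int.negSucc 0, Int.negSucc 0, Int.ofNat 1, Int.ofNat 3, Int.negSucc 0, Int.ofNat 1, Int.negSucc 0, Int.ofNat 1, Int.ofNat 1, Int.negSucc 0],
  [Int.negSucc 0, Int.ofNat 1, Int.negSucc 0, Int.negSucc 0, Int.negSucc 0, Int.negSucc 0, Int.negSucc 0, Int.negSucc 0, Int.negSucc 0, Int.negSucc 0, Int.negSucc 0, Int.ofNat 3, Int.ofNat 1, Int.ofNat 1, Int.ofNat 1, Int.ofNat 1, Int.ofNat 1, Int.negSucc 0, Int.negSucc 0, Int.ofNat 1, Int.negSucc 0, Int.negSucc 0, Int.ofNat 1, Int.negSucc 0],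
  [Int.negSucc 0, Int.ofNat 1, Int.ofNat 1, Int.negSucc 0, Int.negSucc 0, Int.ofNat 1, Int.ofNat 1, Int.negSucc 0, Int.negSucc 0, Int.ofNat 1, Int.ofNat 1, Int.ofNat 3, Int.ofNat 1, Int.ofNat 1, Int.ofNat 1, Int.negSucc 0, Int.ofNat 1, Int.negSucc 0, Int.ofNat 1, Int.ofNat 1, Int.negSucc 0, Int.negSucc 0, Int.negSucc 0, Int.negSucc 0],
  [Int.ofNat 1, Int.negSucc 0, Int.negSucc 0, Int.negSucc 0, Int.negSucc 0, Int.ofNat 1, Int.ofNat 1, Int.negSucc 0, Int.negSucc 2, Int.ofNat 1, Int.ofNat 1, Int.ofNat 1, Int.negSucc 0, Int.ofNat 1, Int.ofNat 1, Int.negSucc 0, Int.ofNat 1, Int.negSucc 0, Int.negSucc 0, Int.ofNat 1, Int.negSucc 0, Int.negSucc 0, Int.negSucc 0, Int.ofNat 1],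
  [Int.ofNat 1, Int.negSucc 0, Int.ofNat 1, Int.negSucc 0, Int.negSucc 0, Int.negSucc 0, Int.negSucc 0, Int.ofNat 1, Int.ofNat 1, Int.negSucc 0, Int.negSucc 0, Int.ofNat 1, Int.negSucc 2, Int.ofNat 1, Int.negSucc 0, Int.negSucc 0, Int.ofNat 1, Int.ofNat 1, Int.negSucc 0, Int.negSucc 0, Int.ofNat 1, Int.negSucc 0, Int.ofNat 1, Int.ofNat 1],
  [Int.ofNat 0, Int.ofNat 2, Int.ofNat 0, Int.ofNat 0, Int.negSucc 1, Int.ofNat 0, Int.ofNat 0, Int.ofNat 2, Int.ofNat 2, Int.ofNat 0, Int.ofNat 0, Int.ofNat 2, Int.negSucc 1, Int.ofNat 0, Int.ofNat 0, Int.ofNat 0, Int.ofNat 0, Int.ofNat 2, Int.ofNat 0, Int.ofNat 0, Int.ofNat 2, Int.ofNat 0, Int.ofNat 0, Int.ofNat 0],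
  [Int.ofNat 2, Int.ofNat 0, Int.ofNat 0, Int.ofNat 0, Int.ofNat 2, Int.ofNat 0, Int.ofNat 0, Int.negSucc 1, Int.ofNat 0, Int.ofNat 0, Int.ofNat 2, Int.ofNat 2, Int.ofNat 0, Int.ofNat 0, Int.ofNat 2, Int.negSucc 1, Int.ofNat 0, Int.ofNat 0, Int.ofNat 0, Int.ofNat 0, Int.ofNat 2, Int.ofNat 0, Int.ofNat 0, Int.ofNat 0],
  [Int.negSucc 0, Int.ofNat 1, Int.ofNat 1, Int.negSucc 0, Int.ofNat 1, Int.negSucc 0, Int.ofNat 1, Int.negSucc 0, Int.negSucc 0, Int.negSucc 0, Int.ofNat 1, Int.ofNat 1, Int.negSucc 0, Int.negSucc 0, Int.ofNat 1, Int.negSucc 2, Int.negSucc 0, Int.negSucc 0, Int.negSucc 0, Int.ofNat 1, Int.ofNat 1, Int.ofNat 1, Int.negSucc 0, Int.ofNat 1],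
  [Int.ofNat 1, Int.ofNat 1, Int.negSucc 0, Int.ofNat 1, Int.negSucc 0, Int.ofNat 1, Int.negSucc 0, Int.negSucc 0, Int.negSucc 0, Int.ofNat 1, Int.ofNat 1, Int.negSucc 0, Int.negSucc 0, Int.ofNat 1, Int.negSucc 2, Int.negSucc 0, Int.negSucc 0, Int.negSucc 0, Int.ofNat 1, Int.ofNat 1, Int.ofNat 1, Int.negSucc 0, Int.negSucc 0, Int.ofNat 1],
  [Int.negSucc 0, Int.ofNat 1, Int.ofNat 1, Int.ofNat 1, Int.negSucc 0, Int.ofNat 1, Int.negSucc 0, Int.ofNat 1, Int.negSucc 0, Int.negSucc 0, Int.negSucc 0, Int.ofNat 1, Int.negSucc 0, Int.ofNat 1, Int.negSucc 2, Int.negSucc 0, Int.negSucc 0, Int.negSucc 0, Int.negSucc 0, Int.ofNat 1, Int.ofNat 1, Int.ofNat 1, Int.negSucc 0, Int.ofNat 1],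
  [Int.negSucc 0, Int.ofNat 1, Int.negSucc 0, Int.ofNat 1, Int.ofNat 1, Int.negSucc 0, Int.negSucc 0, Int.ofNat 1, Int.negSucc 0, Int.negSucc 0, Int.ofNat 1, Int.negSucc 2, Int.ofNat 1, Int.negSucc 0, Int.ofNat 1, Int.negSucc 0, Int.negSucc 0, Int.negSucc 0, Int.negSucc 0, Int.negSucc 0, Int.ofNat 1, Int.ofNat 1, Int.ofNat 1, Int.ofNat 1],
  [Int.ofNat 1, Int.ofNat 1, Int.ofNat 1, Int.ofNat 1, Int.ofNat 1, Int.negSucc 0, Int.negSucc 0, Int.negSucc 0, Int.negSucc 0, Int.ofNat 1, Int.negSucc 0, Int.ofNat 3, Int.ofNat 1, Int.negSucc 0, Int.ofNat 1, Int.negSucc 0, Int.negSucc 0, Int.negSucc 0, Int.ofNat 1, Int.negSucc 0, Int.ofNat 1, Int.negSucc 0, Int.ofNat 1, Int.ofNat 1],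
  [Int.ofNat 1, Int.ofNat 1, Int.ofNat 1, Int.ofNat 1, Int.ofNat 1, Int.ofNat 1, Int.negSucc 0, Int.negSucc 0, Int.negSucc 0, Int.negSucc 0, Int.ofNat 1, Int.negSucc 0, Int.ofNat 3, Int.ofNat 1, Int.negSucc 0, Int.ofNat 1, Int.negSucc 0, Int.negSucc 0, Int.negSucc 0, Int.ofNat 1, Int.negSucc 0, Int.ofNat 1, Int.negSucc 0, Int.ofNat 1],
  [Int.ofNat 1, Int.ofNat 1, Int.ofNat 1, Int.ofNat 1, Int.ofNat 1, Int.ofNat 1, Int.negSucc 0, Int.negSucc 0, Int.negSucc 0, Int.negSucc 0, Int.ofNat 1, Int.negSucc 0, Int.ofNat 3, Int.ofNat 1, Int.negSucc 0, Int.ofNat 1, Int.negSucc 0, Int.negSucc 0, Int.negSucc 0, Int.ofNat 1, Int.negSucc 0, Int.ofNat 1, Int.negSucc 0, Int.ofNat 1],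
  [Int.ofNat 1, Int.ofNat 1, Int.ofNat 1, Int.negSucc 0, Int.negSucc 0, Int.negSucc 0, Int.negSucc 0, Int.ofNat 1, Int.negSucc 0, Int.ofNat 3, Int.ofNat 1, Int.negSucc 0, Int.ofNat 1, Int.negSucc 0, Int.negSucc 0, Int.negSucc 0, Int.ofNat 1, Int.negSucc 0, Int.ofNat 1, Int.negSucc 0, Int.ofNat 1, Int.ofNat 1, Int.ofNat 1, Int.ofNat 1],
  [Int.ofNat 1, Int.ofNat 1, Int.ofNat 1, Int.ofNat 1, Int.negSucc 0, Int.ofNat 1, Int.negSucc 0, Int.ofNat 1, Int.negSucc 0, Int.ofNat 1, Int.negSucc 0, Int.negSucc 0, Int.ofNat 1, Int.negSucc 0, Int.ofNat 1, Int.negSucc 2, Int.ofNat 1, Int.ofNat 1, Int.ofNat 1, Int.negSucc 0, Int.negSucc 0, Int.ofNat 1, Int.ofNat 1, Int.ofNat 1],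
  [Int.ofNat 1, Int.negSucc 0, Int.negSucc 0, Int.ofNat 1, Int.ofNat 1, Int.ofNat 1, Int.ofNat 1, Int.negSucc 0, Int.ofNat 1, Int.negSucc 0, Int.negSucc 0, Int.ofNat 1, Int.ofNat 1, Int.ofNat 1, Int.ofNat 1, Int.negSucc 2, Int.negSucc 0, Int.ofNat 1, Int.ofNat 1, Int.negSucc 0, Int.ofNat 1, Int.ofNat 1, Int.negSucc 0, Int.ofNat 1],
  [Int.negSucc 0, Int.ofNat 1, Int.ofNat 1, Int.negSucc 0, Int.ofNat 1, Int.negSucc 0, Int.ofNat 1, Int.negSucc 0, Int.negSucc 0, Int.ofNat 1, Int.ofNat 1, Int.negSucc 0, Int.negSucc 0, Int.ofNat 1, Int.negSucc 0, Int.negSucc 0, Int.negSucc 0, Int.negSucc 0, Int.negSucc 0, Int.negSucc 0, Int.ofNat 3, Int.ofNat 1, Int.negSucc 0, Int.negSucc 0],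
  [Int.negSucc 0, Int.ofNat 1, Int.negSucc 0, Int.negSucc 0, Int.ofNat 1, Int.ofNat 1, Int.negSucc 0, Int.negSucc 0, Int.negSucc 0, Int.negSucc 0, Int.negSucc 0, Int.negSucc 0, Int.negSucc 0, Int.ofNat 1, Int.negSucc 0, Int.ofNat 1, Int.negSucc 0, Int.negSucc 0, Int.ofNat 1, Int.negSucc 0, Int.ofNat 3, Int.ofNat 1, Int.ofNat 1, Int.negSucc 0],
  [Int.negSucc 0, Int.negSucc 0, Int.negSucc 0, Int.negSucc 0, Int.negSucc 0, Int.negSucc 0, Int.ofNat 1, Int.negSucc 0, Int.ofNat 1, Int.ofNat 3, Int.ofNat 1, Int.negSucc 0, Int.ofNat 1, Int.ofNat 1, Int.negSucc 0, Int.ofNat 1, Int.negSucc 0, Int.negSucc 0, Int.negSucc 0, Int.negSucc 0, Int.negSucc 0, Int.ofNat 1, Int.ofNat 1, Int.negSucc 0],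
  [Int.ofNat 1, Int.ofNat 1, Int.ofNat 1, Int.ofNat 1, Int.ofNat 1, Int.negSucc 0, Int.negSucc 0, Int.negSucc 0, Int.negSucc 0, Int.negSucc 2, Int.ofNat 1, Int.negSucc 0, Int.negSucc 0, Int.negSucc 0, Int.negSucc 0, Int.ofNat 1, Int.ofNat 1, Int.negSucc 0, Int.ofNat 1, Int.negSucc 0, Int.negSucc 0, Int.ofNat 1, Int.ofNat 1, Int.negSucc 0],
  [Int.negSucc 0, Int.ofNat 1, Int.negSucc 0, Int.ofNat 1, Int.negSucc 0, Int.negSucc 2, Int.negSucc 0, Int.negSucc 0, Int.negSucc 0, Int.negSucc 0, Int.ofNat 1, Int.ofNat 1, Int.ofNat 1, Int.negSucc 0, Int.ofNat 1, Int.ofNat 1, Int.ofNat 1, Int.ofNat 1, Int.negSucc 0, Int.negSucc 0, Int.negSucc 0, Int.negSucc 0, Int.ofNat 1, Int.ofNat 1],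
  [Int.ofNat 1, Int.ofNat 1, Int.ofNat 1, Int.ofNat 1, Int.negSucc 0, Int.negSucc 2, Int.negSucc 0, Int.ofNat 1, Int.negSucc 0, Int.ofNat 1, Int.negSucc 0, Int.negSucc 0, Int.ofNat 1, Int.negSucc 0, Int.ofNat 1, Int.ofNat 1, Int.ofNat 1, Int.ofNat 1, Int.ofNat 1, Int.negSucc 0, Int.negSucc 0, Int.ofNat 1, Int.ofNat 1, Int.ofNat 1],
  [Int.ofNat 1, Int.ofNat 1, Int.ofNat 1, Int.ofNat 1, Int.ofNat 1, Int.negSucc 0, Int.negSucc 2, Int.negSucc 0, Int.ofNat 1, Int.negSucc 0, Int.ofNat 1, Int.negSucc 0, Int.negSucc 0, Int.ofNat 1, Int.negSucc 0, Int.ofNat 1, Int.ofNat 1, Int.ofNat 1, Int.ofNat 1, Int.ofNat 1, Int.negSucc 0, Int.negSucc 0, Int.ofNat 1, Int.ofNat 1],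
  [Int.ofNat 1, Int.ofNat 1, Int.ofNat 1, Int.ofNat 1, Int.negSucc 0, Int.negSucc 0, Int.negSucc 0, Int.ofNat 1, Int.ofNat 1, Int.negSucc 0, Int.ofNat 1, Int.negSucc 0, Int.negSucc 0, Int.negSucc 0, Int.negSucc 0, Int.ofNat 1, Int.negSucc 0, Int.ofNat 1, Int.ofNat 1, Int.ofNat 3, Int.negSucc 0, Int.ofNat 1, Int.negSucc 0, Int.ofNat 1],
  [Int.ofNat 1, Int.negSucc 0, Int.negSucc 0, Int.negSucc 0, Int.ofNat 1, Int.ofNat 1, Int.negSucc 0, Int.ofNat 1, Int.negSucc 0, Int.negSucc 0, Int.negSucc 0, Int.negSucc 0, Int.ofNat 1, Int.negSucc 0, Int.ofNat 1, Int.ofNat 1, Int.ofNat 3, Int.negSucc 0, Int.ofNat 1, Int.negSucc 0, Int.ofNat 1, Int.ofNat 1, Int.ofNat 1, Int.ofNat 1],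
  [Int.negSucc 0, Int.ofNat 1, Int.ofNat 1, Int.negSucc 0, Int.negSucc 0, Int.ofNat 1, Int.negSucc 0, Int.ofNat 1, Int.negSucc 0, Int.negSucc 0, Int.negSucc 0, Int.negSucc 0, Int.ofNat 1, Int.negSucc 2, Int.ofNat 1, Int.ofNat 1, Int.ofNat 1, Int.negSucc 0, Int.ofNat 1, Int.negSucc 0, Int.ofNat 1, Int.ofNat 1, Int.negSucc 0, Int.negSucc 0],
  [Int.negSucc 0, Int.negSucc 0, Int.negSucc 0, Int.negSucc 0, Int.ofNat 1, Int.ofNat 1, Int.ofNat 1, Int.negSucc 0, Int.ofNat 1, Int.negSucc 2, Int.ofNat 1, Int.negSucc 0, Int.negSucc 0, Int.ofNat 1, Int.negSucc 0, Int.ofNat 1, Int.negSucc 0, Int.ofNat 1, Int.ofNat 1, Int.negSucc 0, Int.ofNat 1, Int.ofNat 1, Int.negSucc 0, Int.negSucc 0],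
  [Int.negSucc 0, Int.negSucc 0, Int.negSucc 0, Int.negSucc 0, Int.ofNat 1, Int.ofNat 1, Int.ofNat 1, Int.negSucc 0, Int.ofNat 1, Int.negSucc 2, Int.ofNat 1, Int.negSucc 0, Int.negSucc 0, Int.ofNat 1, Int.negSucc 0, Int.ofNat 1, Int.negSucc 0, Int.ofNat 1, Int.ofNat 1, Int.negSucc 0, Int.ofNat 1, Int.ofNat 1, Int.negSucc 0, Int.negSucc 0],
  [Int.negSucc 0, Int.negSucc 0, Int.ofNat 1, Int.negSucc 0, Int.ofNat 1, Int.negSucc 0, Int.negSucc 0, Int.negSucc 0, Int.ofNat 1, Int.ofNat 3, Int.negSucc 0, Int.negSucc 0, Int.negSucc 0, Int.ofNat 1, Int.negSucc 0, Int.negSucc 0, Int.negSucc 0, Int.ofNat 1, Int.negSucc 0, Int.negSucc 0, Int.ofNat 1, Int.ofNat 1, Int.ofNat 1, Int.negSucc 0],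
  [Int.ofNat 1, Int.ofNat 1, Int.negSucc 0, Int.ofNat 1, Int.negSucc 0, Int.negSucc 0, Int.negSucc 0, Int.negSucc 0, Int.negSucc 0, Int.negSucc 0, Int.negSucc 0, Int.ofNat 1, Int.ofNat 1, Int.ofNat 1, Int.negSucc 0, Int.negSucc 0, Int.ofNat 1, Int.ofNat 1, Int.negSucc 0, Int.negSucc 0, Int.negSucc 0, Int.ofNat 3, Int.negSucc 0, Int.negSucc 0],
  [Int.ofNat 1, Int.ofNat 1, Int.ofNat 1, Int.ofNat 1, Int.negSucc 0, Int.ofNat 1, Int.ofNat 1, Int.negSucc 0, Int.negSucc 0, Int.ofNat 1, Int.ofNat 1, Int.ofNat 1, Int.ofNat 1, Int.ofNat 1, Int.negSucc 0, Int.ofNat 1, Int.ofNat 1, Int.ofNat 1, Int.ofNat 1, Int.negSucc 0, Int.negSucc 0, Int.ofNat 3, Int.ofNat 1, Int.negSucc 0],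
  [Int.ofNat 0, Int.ofNat 0, Int.ofNat 0, Int.ofNat 0, Int.negSucc 1, Int.ofNat 0, Int.ofNat 0, Int.negSucc 1, Int.negSucc 1, Int.ofNat 0, Int.ofNat 0, Int.ofNat 0, Int.ofNat 0, Int.ofNat 0, Int.negSucc 1, Int.ofNat 0, Int.ofNat 0, Int.ofNat 0, Int.ofNat 0, Int.negSucc 1, Int.negSucc 1, Int.ofNat 2, Int.ofNat 0, Int.ofNat 2],
  [Int.ofNat 0, Int.ofNat 0, Int.ofNat 0, Int.ofNat 0, Int.ofNat 0, Int.ofNat 2, Int.ofNat 0, Int.ofNat 0, Int.ofNat 0, Int.ofNat 0, Int.negSucc 1, Int.negSucc 1, Int.negSucc 1, Int.ofNat 0, Int.ofNat 0, Int.ofNat 0, Int.ofNat 0, Int.ofNat 0, Int.negSucc 1, Int.ofNat 0, Int.ofNat 0, Int.negSucc 1, Int.negSucc 1, Int.ofNat 2],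
  [Int.ofNat 1, Int.ofNat 1, Int.ofNat 1, Int.negSucc 0, Int.ofNat 1, Int.ofNat 1, Int.ofNat 1, Int.ofNat 1, Int.ofNat 3, Int.ofNat 1, Int.negSucc 0, Int.ofNat 1, Int.ofNat 1, Int.ofNat 1, Int.negSucc 0, Int.ofNat 1, Int.ofNat 1, Int.negSucc 0, Int.ofNat 1, Int.ofNat 1, Int.ofNat 1, Int.negSucc 0, Int.negSucc 0, Int.negSucc 0],
  [Int.ofNat 1, Int.negSucc 0, Int.negSucc 0, Int.ofNat 1, Int.ofNat 1, Int.ofNat 1, Int.negSucc 0, Int.ofNat 1, Int.ofNat 1, Int.ofNat 1, Int.ofNat 1, Int.ofNat 3, Int.ofNat 1, Int.negSucc 0, Int.ofNat 1, Int.ofNat 1, Int.ofNat 1, Int.negSucc 0, Int.ofNat 1, Int.ofNat 1, Int.negSucc 0, Int.ofNat 1, Int.ofNat 1, Int.negSucc 0],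
  [Int.negSucc 1, Int.ofNat 0, Int.ofNat 0, Int.ofNat 0, Int.ofNat 0, Int.ofNat 0, Int.negSucc 1, Int.ofNat 0, Int.negSucc 1, Int.ofNat 0, Int.ofNat 0, Int.ofNat 0, Int.negSucc 1, Int.negSucc 1, Int.ofNat 0, Int.ofNat 0, Int.ofNat 0, Int.negSucc 1, Int.negSucc 1, Int.ofNat 0, Int.negSucc 1, Int.ofNat 0, Int.ofNat 0, Int.ofNat 0],
  [Int.ofNat 0, Int.ofNat 0, Int.ofNat 0, Int.ofNat 0, Int.ofNat 0, Int.negSucc 1, Int.ofNat 0, Int.negSucc 1, Int.ofNat 0, Int.ofNat 0, Int.ofNat 0, Int.negSucc 1, Int.negSucc 1, Int.ofNat 0, Int.ofNat 0, Int.ofNat 0, Int.negSucc 1, Int.negSucc 1, Int.ofNat 0, Int.negSucc 1, Int.ofNat 0, Int.ofNat 0, Int.negSucc 1, Int.ofNat 0],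
  [Int.ofNat 0, Int.ofNat 0, Int.ofNat 0, Int.ofNat 0, Int.ofNat 0, Int.negSucc 1, Int.ofNat 0, Int.ofNat 2, Int.ofNat 0, Int.ofNat 0, Int.ofNat 0, Int.ofNat 2, Int.negSucc 1, Int.ofNat 0, Int.ofNat 0, Int.ofNat 0, Int.negSucc 1, Int.negSucc 1, Int.ofNat 0, Int.negSucc 1, Int.ofNat 0, Int.ofNat 0, Int.negSucc 1, Int.ofNat 0]]

set_option maxRecDepth 100000 in
theorem c1et22_chk : pmChk (List.replicate 14 [22, 0, 25, 26]).flatten nxL c1et22M 0 0 = true := by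
  decide +kernel

theorem c1et22_ne : wE letE2 (List.replicate 14 [22, 0, 25, 26]).flatten ≠ 1 ∧ wE letE2 (List.replicate 14 [22, 0, 25, 26]).flatten ≠ negElt :=
  ne_pm_of_chk nxL_mem c1et22_chk

end Cfsg.Agent.Lib.Helper92.OC1
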