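import Cfsg.Agent.Lib.Helper92.OutCo1C
import Cfsg.Agent.Lib.Helper92.OutCo1R1
import Cfsg.Agent.Lib.Helper92.OutCo1R2
import Cfsg.Agent.Lib.Helper92.OutCo1R3
import Cfsg.Prelude.Def_KGroupFacts

set_option autoImplicit false

open scoped Pointwise

namespace Cfsg.Agent.Lib.Helper92.OC1

open Cfsg Cfsg.Spor Cfsg.Agent.Lib.Helper7 Cfsg.Agent.Lib.Helper92 Cfsg.Agent.Lib.Helper92.OC2


/-! ### The elements which are not central -/

/-- The element is neither the identity nor the negation. -/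
def NePm (g : Co0) : Prop := g ≠ 1 ∧ g ≠ negElt

theorem NePm.pr_ne {g : Co0} (h : NePm g) : pr g ≠ 1 := fun e => by
  rcases pr_eq_one.mp e with e | e
  · exact h.1 e
  · exact h.2 e

theorem letE2_zero : letE2 0 = zE := by
  unfold letE2
  rw [if_neg (by norm_num), if_neg (by norm_num)]
  exact letE_zero

theorem letE2_x {k : ℕ} (h0 : k ≠ 0) (hk : k ≤ 22) : letE2 k = xE ^ k := by
  unfold letE2
  rw [if_neg (by omega), if_neg (by omega)]
  exact letE_x h0 hk

theorem letE2_e : letE2 25 = eDE := by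
  unfold letE2
  rw [if_pos rfl]

theorem letE2_t : letE2 26 = tauE := by
  unfold letE2
  rw [if_neg (by norm_num), if_pos rfl]

theorem ne_e {t : ℕ} (h0 : t ≠ 0) (ht : t ≤ 22)
    (h : wE letE2 (List.replicate 14 [t, 0, 25]).flatten ≠ 1 ∧
      wE letE2 (List.replicate 14 [t, 0, 25]).flatten ≠ negElt) :
    NePm ((xE ^ t * (zE * kap 1)) ^ 14) := by
  have e : wE letE2 (List.replicate 14 [t, 0, 25]).flatten = (xE ^ t * (zE * kap 1)) ^ 14 := by
    rw [← wE_pow]
    simp only [wE_cons, wE_nil, mul_one]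
    rw [letE2_x h0 ht, letE2_zero, letE2_e]
    rfl
  rw [← e]
  exact h

theorem ne_te {t : ℕ} (h0 : t ≠ 0) (ht : t ≤ 22)
    (h : wE letE2 (List.replicate 14 [t, 0, 26, 25]).flatten ≠ 1 ∧
      wE letE2 (List.replicate 14 [t, 0, 26, 25]).flatten ≠ negElt) :
    NePm ((xE ^ t * (zE * kap 3)) ^ 14) := by
  have e : wE letE2 (List.replicate 14 [t, 0, 26, 25]).flatten =
      (xE ^ t * (zE * kap 3)) ^ 14 := by
    rw [← wE_pow]
    simp only [wE_cons, wE_nil, mul_one]
    rw [letE2_x h0 ht, letE2_zero, letE2_e, letE2_t]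
    rfl
  rw [← e]
  exact h

theorem ne_et {t : ℕ} (h0 : t ≠ 0) (ht : t ≤ 22)
    (h : wE letE2 (List.replicate 14 [t, 0, 25, 26]).flatten ≠ 1 ∧
      wE letE2 (List.replicate 14 [t, 0, 25, 26]).flatten ≠ negElt) :
    NePm ((xE ^ t * (zE * kap 4)) ^ 14) := by
  have e : wE letE2 (List.replicate 14 [t, 0, 25, 26]).flatten =
      (xE ^ t * (zE * kap 4)) ^ 14 := by
    rw [← wE_pow]
    simp only [wE_cons, wE_nil, mul_one]
    rw [letE2_x h0 ht, letE2_zero, letE2_e, letE2_t]
    rfl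
  rw [← e]
  exact h

theorem xze_ne : ∀ t, 1 ≤ t → t ≤ 22 → NePm ((xE ^ t * (zE * kap 1)) ^ 14) := by
  intro t h1 h22
  interval_cases t
  · exact ne_e (by norm_num) (by norm_num) c1e1_ne
  · exact ne_e (by norm_num) (by norm_num) c1e2_ne
  · exact ne_e (by norm_num) (by norm_num) c1e3_ne
  · exact ne_e (by norm_num) (by norm_num) c1e4_ne
  · exact ne_e (by norm_num) (by norm_num) c1e5_ne
  · exact ne_e (by norm_num) (by norm_num) c1e6_ne
  · exact ne_e (by norm_num) (by norm_num) c1e7_ne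
  · exact ne_e (by norm_num) (by norm_num) c1e8_ne
  · exact ne_e (by norm_num) (by norm_num) c1e9_ne
  · exact ne_e (by norm_num) (by norm_num) c1e10_ne
  · exact ne_e (by norm_num) (by norm_num) c1e11_ne
  · exact ne_e (by norm_num) (by norm_num) c1e12_ne
  · exact ne_e (by norm_num) (by norm_num) c1e13_ne
  · exact ne_e (by norm_num) (by norm_num) c1e14_ne
  · exact ne_e (by norm_num) (by norm_num) c1e15_ne
  · exact ne_e (by norm_num) (by norm_num) c1e16_ne
  · exact ne_e (by norm_num) (by norm_num) c1e17_ne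
  · exact ne_e (by norm_num) (by norm_num) c1e18_ne
  · exact ne_e (by norm_num) (by norm_num) c1e19_ne
  · exact ne_e (by norm_num) (by norm_num) c1e20_ne
  · exact ne_e (by norm_num) (by norm_num) c1e21_ne
  · exact ne_e (by norm_num) (by norm_num) c1e22_ne

theorem xzte_ne : ∀ t, 1 ≤ t → t ≤ 22 → NePm ((xE ^ t * (zE * kap 3)) ^ 14) := by
  intro t h1 h22
  interval_cases t
  · exact ne_te (by norm_num) (by norm_num) c1te1_ne
  · exact ne_te (by norm_num) (by norm_num) c1te2_ne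
  · exact ne_te (by norm_num) (by norm_num) c1te3_ne
  · exact ne_te (by norm_num) (by norm_num) c1te4_ne
  · exact ne_te (by norm_num) (by norm_num) c1te5_ne
  · exact ne_te (by norm_num) (by norm_num) c1te6_ne
  · exact ne_te (by norm_num) (by norm_num) c1te7_ne
  · exact ne_te (by norm_num) (by norm_num) c1te8_ne
  · exact ne_te (by norm_num) (by norm_num) c1te9_ne
  · exact ne_te (by norm_num) (by norm_num) c1te10_ne
  · exact ne_te (by norm_num) (by norm_num) c1te11_ne
  · exact ne_te (by norm_num) (by norm_num) c1te12_ne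
  · exact ne_te (by norm_num) (by norm_num) c1te13_ne
  · exact ne_te (by norm_num) (by norm_num) c1te14_ne
  · exact ne_te (by norm_num) (by norm_num) c1te15_ne
  · exact ne_te (by norm_num) (by norm_num) c1te16_ne
  · exact ne_te (by norm_num) (by norm_num) c1te17_ne
  · exact ne_te (by norm_num) (by norm_num) c1te18_ne
  · exact ne_te (by norm_num) (by norm_num) c1te19_ne
  · exact ne_te (by norm_num) (by norm_num) c1te20_ne
  · exact ne_te (by norm_num) (by norm_num) c1te21_ne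
  · exact ne_te (by norm_num) (by norm_num) c1te22_ne

theorem xzet_ne : ∀ t, 1 ≤ t → t ≤ 22 → NePm ((xE ^ t * (zE * kap 4)) ^ 14) := by
  intro t h1 h22
  interval_cases t
  · exact ne_et (by norm_num) (by norm_num) c1et1_ne
  · exact ne_et (by norm_num) (by norm_num) c1et2_ne
  · exact ne_et (by norm_num) (by norm_num) c1et3_ne
  · exact ne_et (by norm_num) (by norm_num) c1et4_ne
  · exact ne_et (by norm_num) (by norm_num) c1et5_ne
  · exact ne_et (by norm_num) (by norm_num) c1et6_ne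
  · exact ne_et (by norm_num) (by norm_num) c1et7_ne
  · exact ne_et (by norm_num) (by norm_num) c1et8_ne
  · exact ne_et (by norm_num) (by norm_num) c1et9_ne
  · exact ne_et (by norm_num) (by norm_num) c1et10_ne
  · exact ne_et (by norm_num) (by norm_num) c1et11_ne
  · exact ne_et (by norm_num) (by norm_num) c1et12_ne
  · exact ne_et (by norm_num) (by norm_num) c1et13_ne
  · exact ne_et (by norm_num) (by norm_num) c1et14_ne
  · exact ne_et (by norm_num) (by norm_num) c1et15_ne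
  · exact ne_et (by norm_num) (by norm_num) c1et16_ne
  · exact ne_et (by norm_num) (by norm_num) c1et17_ne
  · exact ne_et (by norm_num) (by norm_num) c1et18_ne
  · exact ne_et (by norm_num) (by norm_num) c1et19_ne
  · exact ne_et (by norm_num) (by norm_num) c1et20_ne
  · exact ne_et (by norm_num) (by norm_num) c1et21_ne
  · exact ne_et (by norm_num) (by norm_num) c1et22_ne

theorem zt_ne : NePm ((zE * kap 2) ^ 2) := by
  have h := c2t_ne
  have e : wE letE2 (List.replicate 2 [0, 26]).flatten = (zE * kap 2) ^ 2 := by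
    rw [← wE_pow]
    simp only [wE_cons, wE_nil, mul_one]
    rw [letE2_zero, letE2_t]
    rfl
  rw [e] at h
  exact h

theorem zete_ne : NePm ((zE * kap 5) ^ 2) := by
  have h := c2ete_ne
  have e : wE letE2 (List.replicate 2 [0, 25, 26, 25]).flatten = (zE * kap 5) ^ 2 := by
    rw [← wE_pow]
    simp only [wE_cons, wE_nil, mul_one]
    rw [letE2_zero, letE2_t, letE2_e, ← mul_assoc eDE]
    rfl
  rw [e] at h
  exact h

theorem te22_ne : NePm (kap 3 ^ 22) := by
  have h := c3te_ne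
  have e : wE letE2 (List.replicate 22 [26, 25]).flatten = kap 3 ^ 22 := by
    rw [← wE_pow]
    simp only [wE_cons, wE_nil, mul_one]
    rw [letE2_t, letE2_e]
    rfl
  rw [e] at h
  exact h

theorem et22_ne : NePm (kap 4 ^ 22) := by
  have h := c3et_ne
  have e : wE letE2 (List.replicate 22 [25, 26]).flatten = kap 4 ^ 22 := by
    rw [← wE_pow]
    simp only [wE_cons, wE_nil, mul_one]
    rw [letE2_t, letE2_e]
    rfl
  rw [e] at h
  exact h

theorem e_ne : NePm eDE := by
  have h := c4e_ne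
  simp only [wE_cons, wE_nil, mul_one] at h
  rw [letE2_e] at h
  exact h

/-! ### The images of the involution and of the element of order `23` -/

theorem Xb_pow_mod (k : ℕ) : Xb ^ k = Xb ^ (k % 23) := by rw [← Xb_order, pow_mod_orderOf]

theorem xE_pow_mod (k : ℕ) : xE ^ k = xE ^ (k % 23) := by rw [← xE_order, pow_mod_orderOf]

theorem stab_pr {s : Co0} (hs : s ∈ MulAction.stabilizer Co0 crx) (h : pr s = 1) : s = 1 := by
  rcases pr_eq_one.mp h with e | e
  · exact e
  · exact absurd e (fix_ne_neg (MulAction.mem_stabilizer_iff.mp hs))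

/-- The possible images of the involution. -/
theorem case_kappa (γ : MulAut Co1) (k i : ℕ) (hi : i < 6) (hX : γ Xb = Xb ^ k)
    (hZ : γ Zb = Zb * pr (kap i)) : i = 0 ∧ γ Xb = Xb := by
  have hX1 : Xb ≠ 1 := by
    intro h
    have := Xb_order
    rw [h, orderOf_one] at this
    norm_num at this
  have hk : Xb ^ k ≠ 1 := by
    intro h
    rw [h] at hX
    exact hX1 (γ.injective (by rw [hX, map_one]))
  rw [Xb_pow_mod] at hX hk
  have hlt : k % 23 < 23 := Nat.mod_lt _ (by norm_num)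
  generalize k % 23 = r at hlt hX hk
  have h0 : r ≠ 0 := by
    rintro rfl
    exact hk (pow_zero Xb)
  have hr1 : pr ((xE ^ r * (zE * kap i)) ^ 14) = 1 := by
    have := congrArg γ hXZb
    rw [map_pow, map_mul, hX, hZ, map_one] at this
    rw [map_pow, map_mul, map_mul, map_pow]
    exact this
  have hr0 : pr ((zE * kap i) ^ 2) = 1 := by
    have := congrArg γ hZb2
    rw [map_mul, hZ, map_one] at this
    rw [map_pow, map_mul, pow_two]
    exact this
  have hi' : i = 0 ∨ i = 1 ∨ i = 2 ∨ i = 3 ∨ i = 4 ∨ i = 5 := by omega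
  rcases hi' with rfl | rfl | rfl | rfl | rfl | rfl
  · refine ⟨rfl, ?_⟩
    have hxS : xE ∈ MulAction.stabilizer Co0 crx := MulAction.mem_stabilizer_iff.mpr xE_fix
    have hzS : zE ∈ MulAction.stabilizer Co0 crx := MulAction.mem_stabilizer_iff.mpr zE_fix
    have hk0 : kap 0 = 1 := rfl
    have e1 : (xE ^ r * zE) ^ 14 = 1 := by
      apply stab_pr
      · exact Subgroup.pow_mem _ (Subgroup.mul_mem _ (Subgroup.pow_mem _ hxS r) hzS) 14
      · rw [hk0, mul_one] at hr1
        exact hr1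
    have hr : r = 1 ∨ r = 22 := by
      by_contra hne
      have hne' : r ≠ 1 ∧ r ≠ 22 := not_or.mp hne
      exact xz_ne r (by omega) (by omega) e1
    rcases hr with rfl | rfl
    · rw [hX, pow_one]
    · exfalso
      have hr2 : pr ((xE ^ 22 * zE * (xE ^ 22) ^ 3 * zE * (xE ^ 22) ^ 2 * zE) ^ 14) = 1 := by
        have := congrArg γ hXZb2
        simp only [map_pow, map_mul, hX, hZ, map_one] at this
        have hk0' : pr (kap 0) = 1 := map_one pr
        rw [hk0', mul_one] at this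
        simp only [map_pow, map_mul]
        exact this
      have e2 := stab_pr (Subgroup.pow_mem _ (Subgroup.mul_mem _ (Subgroup.mul_mem _
        (Subgroup.mul_mem _ (Subgroup.mul_mem _ (Subgroup.mul_mem _ (Subgroup.pow_mem _ hxS 22)
        hzS) (Subgroup.pow_mem _ (Subgroup.pow_mem _ hxS 22) 3)) hzS)
        (Subgroup.pow_mem _ (Subgroup.pow_mem _ hxS 22) 2)) hzS) 14) hr2
      have e3 : (xE ^ 22) ^ 3 = xE ^ 20 := by rw [← pow_mul, xE_pow_mod]
      have e4 : (xE ^ 22) ^ 2 = xE ^ 21 := by rw [← pow_mul, xE_pow_mod]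
      rw [e3, e4] at e2
      exact xz_ne2 e2
  · exact absurd hr1 (xze_ne r (by omega) (by omega)).pr_ne
  · exact absurd hr0 zt_ne.pr_ne
  · exact absurd hr1 (xzte_ne r (by omega) (by omega)).pr_ne
  · exact absurd hr1 (xzet_ne r (by omega) (by omega)).pr_ne
  · exact absurd hr0 zete_ne.pr_ne

/-! ### The image of the third generator -/

theorem pow_mul_inverter {G : Type*} [Group G] {n z : G} (hzn : z * n * z⁻¹ = n⁻¹) (a : ℕ) :
    n ^ a * z = z * (n ^ a)⁻¹ := by
  have h : z * n ^ a * z⁻¹ = (n ^ a)⁻¹ := by rw [← conj_pow, hzn, inv_pow]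
  have h2 : z * n ^ a = (n ^ a)⁻¹ * z := by
    rw [← h]
    group
  calc n ^ a * z = n ^ a * (z * n ^ a) * (n ^ a)⁻¹ := by group
    _ = n ^ a * ((n ^ a)⁻¹ * z) * (n ^ a)⁻¹ := by rw [h2]
    _ = z * (n ^ a)⁻¹ := by group

theorem zk_sq (l m : ℕ)
    (h : Zb * (pr (kap l) * Nb ^ m) * (Zb * (pr (kap l) * Nb ^ m)) = 1) :
    pr ((zE * kap l) ^ 2) = 1 := by
  have hKN : Commute (pr (kap l)) Nb := hKNb l
  have hc : pr (kap l) * (Nb ^ m)⁻¹ = (Nb ^ m)⁻¹ * pr (kap l) :=
    ((hKN.pow_right m).inv_right).eq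
  rw [map_pow, map_mul, pow_two]
  show Zb * pr (kap l) * (Zb * pr (kap l)) = 1
  calc Zb * pr (kap l) * (Zb * pr (kap l))
      = Zb * pr (kap l) * Zb * (pr (kap l) * (Nb ^ m)⁻¹) * Nb ^ m := by group
    _ = Zb * pr (kap l) * Zb * ((Nb ^ m)⁻¹ * pr (kap l)) * Nb ^ m := by rw [hc]
    _ = Zb * pr (kap l) * (Zb * (Nb ^ m)⁻¹) * pr (kap l) * Nb ^ m := by group
    _ = Zb * pr (kap l) * (Nb ^ m * Zb) * pr (kap l) * Nb ^ m := by
      rw [pow_mul_inverter hZNb m]
    _ = Zb * (pr (kap l) * Nb ^ m) * (Zb * (pr (kap l) * Nb ^ m)) := by group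
    _ = 1 := h

theorem k22 (l m : ℕ) (h : pr (kap l) * pr (kap l) * (Nb ^ m * Nb ^ m) = 1) :
    pr (kap l ^ 22) = 1 := by
  have h1 : pr (kap l) * pr (kap l) = (Nb ^ m * Nb ^ m)⁻¹ := eq_inv_of_mul_eq_one_left h
  have h2 : pr (kap l ^ 22) = (pr (kap l) * pr (kap l)) ^ 11 := by
    rw [map_pow, ← pow_two, ← pow_mul]
  rw [h2, h1, inv_pow, ← pow_add, ← pow_mul, mul_comm, pow_mul, Nb_pow11, one_pow, inv_one]

/-- An automorphism which fixes the images of the two generators of the stabiliser fixes the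
image of the third generator. -/
theorem case_e (γ : MulAut Co1) (hX : γ Xb = Xb) (hZ : γ Zb = Zb) : γ Eb = Eb := by
  have hN : γ Nb = Nb := fix_stab γ hX hZ nE nE_fix
  have hV : γ Eb * Nb = Nb * γ Eb := by
    have := congrArg γ hENb
    rw [map_mul, map_mul, hN] at this
    exact this
  obtain ⟨l, hl, m, hVe⟩ := lift_commute (γ Eb) hV
  have hV2 : γ Eb * γ Eb = 1 := by rw [← map_mul, hEb2, map_one]
  have hZV : Zb * γ Eb * (Zb * γ Eb) = 1 := by
    have := congrArg γ hZEb
    rw [map_mul, map_mul, hZ, map_one] at this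
    exact this
  have hV1 : γ Eb ≠ 1 := by
    intro h
    have : Eb = 1 := γ.injective (by rw [h, map_one])
    exact e_ne.pr_ne this
  have hKN : Commute (pr (kap l)) Nb := hKNb l
  have hKNm : Commute (pr (kap l)) (Nb ^ m) := hKN.pow_right m
  have hsq : pr (kap l) * pr (kap l) * (Nb ^ m * Nb ^ m) = 1 := by
    rw [hVe] at hV2
    calc pr (kap l) * pr (kap l) * (Nb ^ m * Nb ^ m)
        = pr (kap l) * (pr (kap l) * Nb ^ m) * Nb ^ m := by group
      _ = pr (kap l) * (Nb ^ m * pr (kap l)) * Nb ^ m := by rw [hKNm.eq]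
      _ = pr (kap l) * Nb ^ m * (pr (kap l) * Nb ^ m) := by group
      _ = 1 := hV2
  have hNm : Nb ^ m * Nb ^ m = 1 → Nb ^ m = 1 := by
    intro h
    rw [← pow_add] at h
    have hd : 11 ∣ m + m := by
      rw [← Nb_order]
      exact orderOf_dvd_of_pow_eq_one h
    have hd' : 11 ∣ m := by omega
    obtain ⟨c, rfl⟩ := hd'
    rw [pow_mul, Nb_pow11, one_pow]
  rw [hVe] at hZV
  have hl' : l = 0 ∨ l = 1 ∨ l = 2 ∨ l = 3 ∨ l = 4 ∨ l = 5 := by omega
  rcases hl' with rfl | rfl | rfl | rfl | rfl | rfl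
  · exfalso
    have hk0 : pr (kap 0) = 1 := map_one pr
    rw [hk0, one_mul, one_mul] at hsq
    rw [hVe, hk0, one_mul] at hV1
    exact hV1 (hNm hsq)
  · have hk1 : pr (kap 1) = Eb := rfl
    rw [hk1, hEb2, one_mul] at hsq
    rw [hVe, hk1, hNm hsq, mul_one]
  · exact absurd (zk_sq 2 m hZV) zt_ne.pr_ne
  · exact absurd (k22 3 m hsq) te22_ne.pr_ne
  · exact absurd (k22 4 m hsq) et22_ne.pr_ne
  · exact absurd (zk_sq 5 m hZV) zete_ne.pr_ne

/-! ### The outer automorphism group -/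

theorem aut_inner1 (α : MulAut Co1) : α ∈ Cfsg.Inn Co1 := by
  obtain ⟨g, k, j, h1, h2⟩ := Cfsg.Agent.Lib.Helper27.AutTower.normal_form Xb_order Nb_order
    hq23 hq11 hNXb α
  have hN1 : Nb ≠ 1 := by
    intro h
    have := Nb_order
    rw [h, orderOf_one] at this
    norm_num at this
  obtain ⟨β, hβ⟩ : ∃ β, β = MulAut.conj g * α := ⟨_, rfl⟩
  have hβX : β Xb = Xb ^ k := by
    rw [hβ]
    exact h1
  have hβN : β Nb = Nb ^ j := by
    rw [hβ]
    exact h2
  have hj : Nb ^ j ≠ 1 := by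
    rw [← hβN]
    intro h
    exact hN1 (β.injective (by rw [h, map_one]))
  obtain ⟨l, hl⟩ := Cfsg.Agent.Lib.Helper27.AutTower.exists_pow_pow_eq Nb_order hj
  have hc : β Zb * Nb ^ j * (β Zb)⁻¹ = (Nb ^ j)⁻¹ := by
    have := congrArg β hZNb
    rw [map_mul, map_mul, map_inv, map_inv, hβN] at this
    exact this
  have hc2 : β Zb * Nb * (β Zb)⁻¹ = Nb⁻¹ := by
    have := congrArg (· ^ l) hc
    simp only [conj_pow, inv_pow, hl] at this
    exact this
  obtain ⟨i, hi, m, hW⟩ := lift_invert (β Zb) hc2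
  obtain ⟨γ, hγ⟩ : ∃ γ, γ = MulAut.conj (Nb ^ (6 * m)) * β := ⟨_, rfl⟩
  have hγZ : γ Zb = Zb * pr (kap i) := by
    rw [hγ]
    show Nb ^ (6 * m) * β Zb * (Nb ^ (6 * m))⁻¹ = _
    rw [hW]
    exact conj_normalise Nb_pow11 hZNb (hKNb i) m
  have hγX : ∃ k', γ Xb = Xb ^ k' := by
    have hnN := Cfsg.Agent.Lib.Helper27.AutTower.mem_normalizer_zpowers hNXb
    have hiN : Nb ^ (6 * m) ∈ Subgroup.normalizer (Subgroup.zpowers Xb : Set Co1) :=
      Subgroup.pow_mem _ hnN _
    have hxk : β Xb ∈ Subgroup.zpowers Xb := by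
      rw [hβX]
      exact Subgroup.pow_mem _ (Subgroup.mem_zpowers Xb) k
    obtain ⟨k', hk'⟩ := Cfsg.Agent.Lib.Helper27.AutTower.exists_pow_of_mem_zpowers
      ((Subgroup.mem_normalizer_iff.1 hiN (β Xb)).1 hxk)
    exact ⟨k', by rw [hγ]; exact hk'⟩
  obtain ⟨k', hγX⟩ := hγX
  obtain ⟨rfl, hγX1⟩ := case_kappa γ k' i hi hγX hγZ
  have hγZ1 : γ Zb = Zb := by
    rw [hγZ]
    show Zb * pr 1 = Zb
    rw [map_one, mul_one]
  have hγ1 : γ = 1 := eq_one_of_fix γ hγX1 hγZ1 (case_e γ hγX1 hγZ1)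
  have hα : MulAut.conj (Nb ^ (6 * m) * g) * α = 1 := by
    rw [map_mul, mul_assoc, ← hβ, ← hγ, hγ1]
  have : α = (MulAut.conj (Nb ^ (6 * m) * g))⁻¹ := by
    rw [← mul_one (MulAut.conj (Nb ^ (6 * m) * g))⁻¹, ← hα, inv_mul_cancel_left]
  rw [this]
  exact Subgroup.inv_mem _ ⟨_, rfl⟩

/-- The outer automorphism group of the group of the lattice modulo its centre is trivial. -/
theorem out_co1 : Nat.card (Cfsg.Out Spor.Co1) = 1 := by
  show (Cfsg.Inn Spor.Co1).index = 1
  rw [Subgroup.index_eq_one, eq_top_iff]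
  intro α _
  exact aut_inner1 α

end Cfsg.Agent.Lib.Helper92.OC1
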