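import Cfsg.Agent.Lib.Helper92.LeechCrossMax

set_option autoImplicit false

open scoped Pointwise

namespace Cfsg.Agent.Lib.Helper92.OC2

open Cfsg Cfsg.Spor Cfsg.Agent.Lib.Helper7 Cfsg.Agent.Lib.Helper92

/-! ### Elements of the group of the lattice acting on lists -/

/-- The element acts on lists by the map. -/
def Acts (g : Co0) (f : List ℤ → List ℤ) : Prop :=
  ∀ (l : List ℤ) (h : vecOf l ∈ leechLattice),
    ((g • (⟨vecOf l, h⟩ : leechLattice) : leechLattice) : GolayPt → ℤ) = vecOf (f l)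

theorem Acts.mem {g : Co0} {f : List ℤ → List ℤ} (hg : Acts g f) {l : List ℤ}
    (h : vecOf l ∈ leechLattice) : vecOf (f l) ∈ leechLattice := by
  rw [← hg l h]
  exact Subtype.coe_prop _

theorem Acts.smul_eq {g : Co0} {f : List ℤ → List ℤ} (hg : Acts g f) {l : List ℤ}
    (h : vecOf l ∈ leechLattice) :
    g • (⟨vecOf l, h⟩ : leechLattice) = ⟨vecOf (f l), hg.mem h⟩ := Subtype.ext (hg l h)

theorem acts_one : Acts 1 (fun l => l) := fun l h => by rw [one_smul]

theorem Acts.mul {g g' : Co0} {f f' : List ℤ → List ℤ} (hg : Acts g f) (hg' : Acts g' f') :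
    Acts (g * g') (fun l => f (f' l)) := by
  intro l h
  rw [mul_smul, hg'.smul_eq h]
  exact hg (f' l) (hg'.mem h)

theorem Acts.pow {g : Co0} {f : List ℤ → List ℤ} (hg : Acts g f) (k : ℕ) :
    Acts (g ^ k) (f^[k]) := by
  induction k with
  | zero =>
    rw [pow_zero]
    exact acts_one
  | succ k ih =>
    rw [pow_succ]
    exact ih.mul hg

theorem acts_of_good {f : List ℤ → List ℤ} (h : Good f) : ∃ g : Co0, Acts g f := h

/-! ### The standard frame -/

/-- The list of `±8 e_j` for the entry `±(j+1)`. -/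
def sL (a : ℤ) : List ℤ :=
  (List.range 24).map (fun j => if j + 1 = a.natAbs then 8 * a.sign else 0)

/-- The vector `±8 e_j` for the entry `±(j+1)`. -/
def sE (a : ℤ) : GolayPt → ℤ := fun p => if idx p + 1 = a.natAbs then 8 * a.sign else 0

theorem vecOf_sL (a : ℤ) : vecOf (sL a) = sE a := by
  funext p
  exact vecOf_map _ p

theorem sE_succ {j : ℕ} (hj : j < 24) : sE ((j : ℤ) + 1) = vecEight (pt j) := by
  funext p
  unfold sE vecEight
  have h1 : ((j : ℤ) + 1).natAbs = j + 1 := by omega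
  have h2 : ((j : ℤ) + 1).sign = 1 := Int.sign_eq_one_of_pos (by omega)
  rw [h1, h2]
  by_cases h : p = pt j
  · subst h
    rw [idx_pt hj, if_pos rfl, if_pos rfl]
    rfl
  · have : idx p ≠ j := fun e => h (by rw [← e, pt_idx])
    rw [if_neg (by omega), if_neg h]

theorem sE_neg (a : ℤ) : sE (-a) = -sE a := by
  funext p
  unfold sE
  simp only [Int.natAbs_neg, Int.sign_neg, Pi.neg_apply]
  split_ifs <;> ring

/-- The list of `8 e_i`. -/
def e8 (i : ℕ) : List ℤ := sL ((i : ℤ) + 1)

theorem vecOf_e8 {i : ℕ} (hi : i < 24) : vecOf (e8 i) = vecEight (pt i) := by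
  unfold e8
  rw [vecOf_sL, sE_succ hi]

theorem e8_mem {i : ℕ} (hi : i < 24) : vecOf (e8 i) ∈ leechLattice := by
  rw [vecOf_e8 hi]
  exact vecEight_mem _

theorem latEight_pt {i : ℕ} (hi : i < 24) :
    latEight (pt i) = ⟨vecOf (e8 i), e8_mem hi⟩ := Subtype.ext (vecOf_e8 hi).symm

/-- Two elements which agree on the standard frame are equal. -/
theorem co0_ext8 {g g' : Co0} (h : ∀ i : GolayPt, g • latEight i = g' • latEight i) : g = g' := by
  have key : ∀ v : leechLattice, g⁻¹ • v = g'⁻¹ • v := by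
    intro v
    apply Subtype.ext
    funext j
    have h1 := co0_smul_dotInt g (g⁻¹ • v) (latEight j)
    have h2 := co0_smul_dotInt g' (g'⁻¹ • v) (latEight j)
    rw [smul_inv_smul] at h1 h2
    rw [h j] at h1
    have e := h1.symm.trans h2
    have c1 := dotInt_vecEight ((g⁻¹ • v : leechLattice) : GolayPt → ℤ) j
    have c2 := dotInt_vecEight ((g'⁻¹ • v : leechLattice) : GolayPt → ℤ) j
    change dotInt _ (vecEight j) = dotInt _ (vecEight j) at e
    rw [c1, c2] at e
    omega
  have e : g⁻¹ = g'⁻¹ := by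
    apply Subtype.ext
    apply Equiv.ext
    intro v
    exact key v
  exact inv_injective e

/-- The check that two maps agree on the standard frame. -/
def basisChk (f f' : List ℤ → List ℤ) : Bool :=
  (List.range 24).all (fun i => listEqB (f (e8 i)) (f' (e8 i)))

theorem eq_of_chk {g g' : Co0} {f f' : List ℤ → List ℤ} (hg : Acts g f) (hg' : Acts g' f')
    (h : basisChk f f' = true) : g = g' := by
  apply co0_ext8
  intro p
  have hp := idx_lt p
  have e := (listEqB_iff _ _).mp (List.all_eq_true.mp h (idx p) (List.mem_range.mpr hp))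
  have hl : latEight p = ⟨vecOf (e8 (idx p)), e8_mem hp⟩ := by
    rw [← latEight_pt hp, pt_idx]
  rw [hl]
  apply Subtype.ext
  rw [hg _ _, hg' _ _, e]

/-- An element acting as the identity on the standard frame is trivial. -/
theorem eq_one_of_chk {g : Co0} {f : List ℤ → List ℤ} (hg : Acts g f)
    (h : basisChk f (fun l => l) = true) : g = 1 := eq_of_chk hg acts_one h

/-- An element moving a list is not trivial. -/
theorem ne_one_of_chk {g : Co0} {f : List ℤ → List ℤ} (hg : Acts g f) (i j : ℕ) (hi : i < 24)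
    (hj : j < 24) (h : (f (e8 i)).getD j 0 ≠ (e8 i).getD j 0) : g ≠ 1 := by
  intro e
  have h1 := hg (e8 i) (e8_mem hi)
  rw [e, one_smul] at h1
  have h2 : vecOf (e8 i) (pt j) = vecOf (f (e8 i)) (pt j) := congrFun h1 (pt j)
  rw [vecOf_pt _ hj, vecOf_pt _ hj] at h2
  exact h h2.symm

/-! ### Words -/

/-- The element of a word in the letters. -/
def wE (E : ℕ → Co0) (w : List ℕ) : Co0 := (w.map E).prod

/-- The map of a word in the letters. -/
def wL (L : ℕ → List ℤ → List ℤ) (w : List ℕ) (l : List ℤ) : List ℤ :=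
  w.foldr (fun k acc => L k acc) l

theorem wE_acts {E : ℕ → Co0} {L : ℕ → List ℤ → List ℤ} (h : ∀ k, Acts (E k) (L k))
    (w : List ℕ) : Acts (wE E w) (wL L w) := by
  induction w with
  | nil => exact acts_one
  | cons k w ih => exact (h k).mul ih

theorem wE_append (E : ℕ → Co0) (w w' : List ℕ) : wE E (w ++ w') = wE E w * wE E w' := by
  unfold wE
  rw [List.map_append, List.prod_append]

theorem wE_mem {E : ℕ → Co0} {F : Subgroup Co0} (h : ∀ k, E k ∈ F) (w : List ℕ) : wE E w ∈ F := by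
  unfold wE
  apply Subgroup.list_prod_mem
  intro x hx
  obtain ⟨k, -, rfl⟩ := List.mem_map.mp hx
  exact h k

theorem wE_pow (E : ℕ → Co0) (w : List ℕ) (m : ℕ) :
    wE E w ^ m = wE E (List.replicate m w).flatten := by
  induction m with
  | zero => simp [wE]
  | succ m ih =>
    rw [pow_succ', ih, List.replicate_succ, List.flatten_cons, wE_append]

/-! ### Signed permutations of the frame -/

/-- The element maps `8 e_i` to the signed frame vector of the entry. -/
def SP (t : Co0) (tab : List ℤ) : Prop :=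
  ∀ i < 24, (1 ≤ (tab.getD i 0).natAbs ∧ (tab.getD i 0).natAbs ≤ 24) ∧
    ((t • latEight (pt i) : leechLattice) : GolayPt → ℤ) = sE (tab.getD i 0)

/-- Composition of tables. -/
def compTab (t1 t2 : List ℤ) : List ℤ :=
  (List.range 24).map (fun i => (t2.getD i 0).sign * t1.getD ((t2.getD i 0).natAbs - 1) 0)

theorem SP.mul {t1 t2 : Co0} {tab1 tab2 : List ℤ} (h1 : SP t1 tab1) (h2 : SP t2 tab2) :
    SP (t1 * t2) (compTab tab1 tab2) := by
  intro i hi
  obtain ⟨⟨a1, a2⟩, e2⟩ := h2 i hi
  have hj : (tab2.getD i 0).natAbs - 1 < 24 := by omega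
  obtain ⟨⟨b1, b2⟩, e1⟩ := h1 _ hj
  have hc : (compTab tab1 tab2).getD i 0 =
      (tab2.getD i 0).sign * tab1.getD ((tab2.getD i 0).natAbs - 1) 0 :=
    getD_map_range24 _ hi
  rw [hc, mul_smul]
  generalize tab2.getD i 0 = a at a1 a2 e2 hj b1 b2 e1
  generalize hb : tab1.getD (a.natAbs - 1) 0 = b at b1 b2 e1
  rcases lt_trichotomy a 0 with ha | ha | ha
  · have hs : a.sign = -1 := Int.sign_eq_neg_one_of_neg ha
    have ea : a = -(((a.natAbs - 1 : ℕ) : ℤ) + 1) := by omega
    rw [hs, neg_one_mul, Int.natAbs_neg]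
    refine ⟨⟨b1, b2⟩, ?_⟩
    have e3 : t2 • latEight (pt i) = -latEight (pt (a.natAbs - 1)) := by
      apply Subtype.ext
      rw [e2, ea, sE_neg, sE_succ (by omega)]
      have : (-(((a.natAbs - 1 : ℕ) : ℤ) + 1)).natAbs - 1 = a.natAbs - 1 := by omega
      rw [this]
      rfl
    rw [e3, co0_smul_neg, sE_neg]
    show -((t1 • latEight (pt (a.natAbs - 1)) : leechLattice) : GolayPt → ℤ) = -sE b
    rw [e1]
  · omega
  · have hs : a.sign = 1 := Int.sign_eq_one_of_pos ha
    have ea : a = ((a.natAbs - 1 : ℕ) : ℤ) + 1 := by omega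
    rw [hs, one_mul]
    refine ⟨⟨b1, b2⟩, ?_⟩
    have e3 : t2 • latEight (pt i) = latEight (pt (a.natAbs - 1)) := by
      apply Subtype.ext
      rw [e2, ea, sE_succ (by omega)]
      have : (((a.natAbs - 1 : ℕ) : ℤ) + 1).natAbs - 1 = a.natAbs - 1 := by omega
      rw [this]
      rfl
    rw [e3, e1]

/-- The check that a map acts on the frame by the table. -/
def tabChk (f : List ℤ → List ℤ) (tab : List ℤ) : Bool :=
  (List.range 24).all (fun i => decide (1 ≤ (tab.getD i 0).natAbs) &&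
    decide ((tab.getD i 0).natAbs ≤ 24) && listEqB (f (e8 i)) (sL (tab.getD i 0)))

theorem SP.of_chk {g : Co0} {f : List ℤ → List ℤ} {tab : List ℤ} (hg : Acts g f)
    (h : tabChk f tab = true) : SP g tab := by
  intro i hi
  have := List.all_eq_true.mp h i (List.mem_range.mpr hi)
  simp only [Bool.and_eq_true, decide_eq_true_eq] at this
  obtain ⟨⟨c1, c2⟩, c3⟩ := this
  refine ⟨⟨c1, c2⟩, ?_⟩
  rw [latEight_pt hi, hg _ _, (listEqB_iff _ _).mp c3, vecOf_sL]

/-- The identity table. -/
def idTab : List ℤ := (List.range 24).map (fun i => (i : ℤ) + 1)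

theorem SP.one : SP 1 idTab := by
  intro i hi
  have e : idTab.getD i 0 = (i : ℤ) + 1 := getD_map_range24 (fun i => (i : ℤ) + 1) hi
  rw [e, one_smul, sE_succ hi]
  exact ⟨⟨by omega, by omega⟩, rfl⟩

/-- The table of a word in given tables. -/
def tabW (tabs : List (List ℤ)) (w : List ℕ) : List ℤ :=
  w.foldr (fun k acc => compTab (tabs.getD k idTab) acc) idTab

theorem SP.word {F : Subgroup Co0} {tabs : List (List ℤ)}
    (h : ∀ k, ∃ t ∈ F, SP t (tabs.getD k idTab)) (w : List ℕ) :
    ∃ t ∈ F, SP t (tabW tabs w) := by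
  induction w with
  | nil => exact ⟨1, F.one_mem, SP.one⟩
  | cons k w ih =>
    obtain ⟨t1, m1, s1⟩ := h k
    obtain ⟨t2, m2, s2⟩ := ih
    exact ⟨t1 * t2, F.mul_mem m1 m2, s1.mul s2⟩

end Cfsg.Agent.Lib.Helper92.OC2
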