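import Cfsg.Agent.Lib.Helper92.OutCo2Ga
import Cfsg.Agent.Lib.Helper27.AutTower

set_option autoImplicit false

open scoped Pointwise

namespace Cfsg.Agent.Lib.Helper92.OC2

open Cfsg Cfsg.Spor Cfsg.Agent.Lib.Helper7 Cfsg.Agent.Lib.Helper92

/-! ### The centraliser of the element of order `11` -/

/-- The permutation of the element of order `11`. -/
noncomputable def sgP : Equiv.Perm GolayPt := evalW L5 wS

theorem sgP_rep : RepT sgP tS := by
  have := L5_repW wS
  rw [tS_eq] at this
  exact this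

theorem sgP_inv_rep : RepT sgP⁻¹ tSi := by
  have := (L5_repW wS).inv
  rw [tSi_eq] at this
  exact this

/-- The doubling map and its inverse on indices. -/
def dbl (i : ℕ) : ℕ := nlane tS i

def hlv (i : ℕ) : ℕ := nlane tSi i

theorem dbl_lt (i : ℕ) : dbl i < 24 := nlane_lt _ _

theorem hlv_lt (i : ℕ) : hlv i < 24 := nlane_lt _ _

theorem sgP_pt {i : ℕ} (hi : i < 24) : sgP (pt i) = pt (dbl i) := sgP_rep.apply_pt hi

theorem sgP_inv_pt {i : ℕ} (hi : i < 24) : sgP⁻¹ (pt i) = pt (hlv i) := sgP_inv_rep.apply_pt hi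

theorem nE_coe (v : leechLattice) :
    ((nE • v : leechLattice) : GolayPt → ℤ) = permVec sgP (v : GolayPt → ℤ) := rfl

theorem permVec_single (σ : Equiv.Perm GolayPt) (p : GolayPt) (a : ℤ) :
    permVec σ (Pi.single p a) = Pi.single (σ p) a := by
  funext q
  unfold permVec
  by_cases h : q = σ p
  · rw [h, Equiv.symm_apply_apply, Pi.single_eq_same, Pi.single_eq_same]
  · have : σ.symm q ≠ p := fun h' => h (by rw [← h', Equiv.apply_symm_apply])
    rw [Pi.single_eq_of_ne this, Pi.single_eq_of_ne h]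

theorem nE_frame (p : GolayPt) : nE • latEight p = latEight (sgP p) := by
  apply Subtype.ext
  rw [nE_coe]
  show permVec sgP (vecEight p) = vecEight (sgP p)
  rw [vecEight_eq_single, permVec_single, vecEight_eq_single]

theorem iter_lt (d : ℕ → ℕ) (hd : ∀ i, d i < 24) {s : ℕ} (hs : s < 24) (j : ℕ) :
    d^[j] s < 24 := by
  induction j with
  | zero => exact hs
  | succ j ih =>
    rw [Function.iterate_succ_apply']
    exact hd _

/-- A permutation which intertwines the permutation of order `11` with another one is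
determined on an orbit by one value. -/
theorem chain_apply {ρ σ' : Equiv.Perm GolayPt} {d' : ℕ → ℕ}
    (hcomm : ∀ q, ρ (sgP q) = σ' (ρ q))
    (hσ' : ∀ i < 24, σ' (pt i) = pt (d' i)) (hd' : ∀ i, d' i < 24)
    {s a : ℕ} (hs : s < 24) (ha : a < 24) (h : ρ (pt s) = pt a) (j : ℕ) :
    ρ (pt (dbl^[j] s)) = pt (d'^[j] a) := by
  induction j with
  | zero => exact h
  | succ j ih =>
    rw [Function.iterate_succ_apply', Function.iterate_succ_apply',
      ← sgP_pt (iter_lt dbl dbl_lt hs j), hcomm, ih, hσ' _ (iter_lt d' hd' ha j)]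

/-- The position of an index in the two orbits of length `11`: `j` for the `j`-th iterate of
`1` and `11 + j` for the `j`-th iterate of `5`. -/
def jOf (i : ℕ) : ℕ :=
  ([0, 0, 1, 8, 2, 11, 9, 20, 3, 5, 12, 15, 10, 7, 21, 19, 4, 14, 6, 18, 13, 17, 16, 0] :
    List ℕ).getD i 0

theorem jOf_spec : ∀ i < 24, i ≠ 0 → i ≠ 23 →
    (jOf i < 11 ∧ dbl^[jOf i] 1 = i) ∨ (11 ≤ jOf i ∧ dbl^[jOf i - 11] 5 = i) := by
  decide +kernel

/-- The table of the permutation with given values at `1` and `5`. -/
def cF (d : ℕ → ℕ) (a b i : ℕ) : ℕ :=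
  if i = 0 then 0 else if i = 23 then 23 else
  if jOf i < 11 then d^[jOf i] a else d^[jOf i - 11] b

theorem cF_lt {d : ℕ → ℕ} (hd : ∀ i, d i < 24) {a b : ℕ} (ha : a < 24) (hb : b < 24) (i : ℕ) :
    cF d a b i < 24 := by
  unfold cF
  split_ifs
  · norm_num
  · norm_num
  · exact iter_lt d hd ha _
  · exact iter_lt d hd hb _

theorem cF_rep {ρ σ' : Equiv.Perm GolayPt} {d' : ℕ → ℕ} (hcomm : ∀ q, ρ (sgP q) = σ' (ρ q))
    (hσ' : ∀ i < 24, σ' (pt i) = pt (d' i)) (hd' : ∀ i, d' i < 24)
    (h0 : ρ (pt 0) = pt 0) (hn : ρ none = none) {a b : ℕ} (ha : a < 24) (hb : b < 24)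
    (h1 : ρ (pt 1) = pt a) (h5 : ρ (pt 5) = pt b) : RepT ρ (packTab (cF d' a b) 24) := by
  intro p
  have hi := idx_lt p
  have hl : nlane (packTab (cF d' a b) 24) (idx p) = cF d' a b (idx p) := by
    rw [nlane_eq, lane_packTab _ (fun i => lt_trans (cF_lt hd' ha hb i) (by norm_num)) 24 _ hi]
    exact Nat.min_eq_left (Nat.le_of_lt_succ (cF_lt hd' ha hb _))
  rw [hl]
  conv_lhs => rw [← pt_idx p]
  generalize idx p = i at hi
  unfold cF
  by_cases i0 : i = 0
  · rw [if_pos i0, i0]
    exact h0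
  · rw [if_neg i0]
    by_cases i23 : i = 23
    · rw [if_pos i23, i23, pt_23]
      exact hn
    · rw [if_neg i23]
      rcases jOf_spec i hi i0 i23 with ⟨hj, e⟩ | ⟨hj, e⟩
      · rw [if_pos hj]
        have := chain_apply hcomm hσ' hd' (by norm_num) ha h1 (jOf i)
        rw [e] at this
        exact this
      · rw [if_neg (by omega)]
        have := chain_apply hcomm hσ' hd' (by norm_num) hb h5 (jOf i - 11)
        rw [e] at this
        exact this

theorem rows_code : rows.all (fun r => isCode r && decide (r < 2 ^ 24)) = true := by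
  decide +kernel

theorem rows_test {π : Equiv.Perm GolayPt} (hπ : π ∈ M24) {t : ℕ} (h : RepT π⁻¹ t) :
    rows.all (fun m => isCode (Cfsg.Agent.Lib.Helper92.permMask t m)) = true := by
  rw [List.all_eq_true]
  intro m hm
  have hc := List.all_eq_true.mp rows_code m hm
  rw [Bool.and_eq_true, decide_eq_true_eq] at hc
  have h1 : wordOf m ∈ golayCode := (wordOf_mem_golayCode_iff hc.2).mpr hc.1
  have h2 := comp_symm_mem_of_mem_M24 hπ h1
  rw [← wordOf_permMask h m] at h2
  exact (wordOf_mem_golayCode_iff (Cfsg.Agent.Lib.Helper92.permMask_lt t m)).mp h2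

theorem cent_sign : (List.range 4096).all (fun k => (enc k).testBit 0 || (enc k).testBit 23 ||
    !((List.range 24).all (fun i => (enc k).testBit (dbl i) == (enc k).testBit i)) ||
    (enc k == 0)) = true := by
  decide +kernel

theorem cent_enum : (List.range 24).all (fun a => (List.range 24).all (fun b =>
    a == 0 || a == 23 || b == 0 || b == 23 ||
    !(rows.all (fun m => isCode (Cfsg.Agent.Lib.Helper92.permMask (packTab (cF dbl a b) 24) m))) ||
    (List.range 11).any (fun k =>
      packTab (cF dbl a b) 24 == evalT T5 (List.replicate k wS).flatten))) = true := by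
  decide +kernel

theorem inv_enum : (List.range 24).all (fun a => (List.range 24).all (fun b =>
    a == 0 || a == 23 || b == 0 || b == 23 ||
    !(rows.all (fun m => isCode (Cfsg.Agent.Lib.Helper92.permMask (packTab (cF hlv a b) 24) m))))) =
    true := by
  decide +kernel

/-- The representative of the orbit of an index. -/
def repL : List ℕ := [0, 1, 1, 1, 1, 5, 1, 5, 1, 1, 5, 5, 1, 1, 5, 5, 1, 5, 1, 5, 5, 5, 5, 23]

theorem rep_spec : ∀ i < 24, repL.getD i 0 < 24 ∧ ∃ j < 11, dbl^[j] (repL.getD i 0) = i := by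
  decide +kernel

/-- The list of a vector which is constant on the orbits. -/
def vL (A B C D : ℤ) : List ℤ :=
  [A, C, C, C, C, D, C, D, C, C, D, D, C, C, D, D, C, D, C, D, D, D, D, B]

theorem orbit_const (yv : GolayPt → ℤ) (h : ∀ q, yv (sgP q) = yv q) :
    yv = vecOf (vL (yv (pt 0)) (yv (pt 23)) (yv (pt 1)) (yv (pt 5))) := by
  have hchain : ∀ s < 24, ∀ j, yv (pt (dbl^[j] s)) = yv (pt s) := by
    intro s hs j
    induction j with
    | zero => rfl
    | succ j ih =>
      rw [Function.iterate_succ_apply', ← sgP_pt (iter_lt dbl dbl_lt hs j), h, ih]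
  have hrep : ∀ i < 24, yv (pt i) = yv (pt (repL.getD i 0)) := by
    intro i hi
    obtain ⟨hlt, j, -, e⟩ := rep_spec i hi
    have := hchain _ hlt j
    rw [e] at this
    exact this
  symm
  apply vecOf_eq_of_forall
  intro j hj
  rw [hrep j hj]
  interval_cases j <;> rfl

theorem nE_crz : nE • crz = crz :=
  fix_of_acts nE_acts nxL_mem ((listEqB_iff _ _).mp (by decide +kernel))

theorem zE_crz : zE • crz = -crz := by
  apply eq_neg_of_dot crz_norm ((co0_smul_sqNorm zE crz).trans crz_norm)
  have h := zE_acts nxL nxL_mem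
  rw [h]
  exact (dotInt_vecOf _ _).trans (by decide +kernel)

/-- An element of the stabiliser which commutes with the element of order `11` maps the second
base vector to itself or to its opposite. -/
theorem cent_crz (c : Co0) (hc : c • crx = crx) (hcn : c * nE = nE * c) :
    c • crz = crz ∨ c • crz = -crz := by
  have hfix : nE • (c • crz) = c • crz := by rw [← mul_smul, ← hcn, mul_smul, nE_crz]
  have hn0 : sqNorm ((c • crz : leechLattice) : GolayPt → ℤ) = 32 :=
    (co0_smul_sqNorm c crz).trans crz_norm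
  have hd0 : dotInt (vecOf a0L) ((c • crz : leechLattice) : GolayPt → ℤ) = 0 :=
    (dot_smul_fix hc crz).trans crx_crz
  obtain ⟨yv, hyv⟩ : ∃ yv : GolayPt → ℤ, yv = ((c • crz : leechLattice) : GolayPt → ℤ) :=
    ⟨_, rfl⟩
  have hperm : ∀ q, yv (sgP q) = yv q := by
    intro q
    have h1 := congrFun (congrArg Subtype.val hfix) (sgP q)
    change permVec sgP ((c • crz : leechLattice) : GolayPt → ℤ) (sgP q) = _ at h1
    unfold permVec at h1
    rw [Equiv.symm_apply_apply] at h1
    rw [hyv]
    exact h1.symm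
  have hv := orbit_const yv hperm
  generalize yv (pt 0) = A at hv
  generalize yv (pt 23) = B at hv
  generalize yv (pt 1) = C at hv
  generalize yv (pt 5) = D at hv
  have hn := hn0
  have hd := hd0
  have hz : dotInt (vecOf nxL) ((c • crz : leechLattice) : GolayPt → ℤ) = -4 * A + 4 * B := by
    rw [← hyv, hv, dotL_vecOf (by rfl) (by rfl)]
    simp only [vL, nxL, dotL]
    ring
  rw [← hyv, hv] at hn hd
  rw [sqNorm_vecOf_dotL (by rfl)] at hn
  rw [dotL_vecOf (by rfl) (by rfl)] at hd
  simp only [vL, a0L, dotL] at hn hd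
  have hAB : B = -A := by linarith
  have hBB : B * B = A * A := by
    rw [hAB]
    ring
  have hq : 2 * (A * A) + 11 * (C * C) + 11 * (D * D) = 32 := by linarith
  have hC1 : -1 ≤ C ∧ C ≤ 1 := by
    constructor <;> nlinarith [mul_self_nonneg A, mul_self_nonneg D, mul_self_nonneg C]
  have hD1 : -1 ≤ D ∧ D ≤ 1 := by
    constructor <;> nlinarith [mul_self_nonneg A, mul_self_nonneg D, mul_self_nonneg C]
  have hA1 : -4 ≤ A ∧ A ≤ 4 := by
    constructor <;> nlinarith [mul_self_nonneg A, mul_self_nonneg D, mul_self_nonneg C]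
  have key : A = 4 ∨ A = -4 := by
    obtain ⟨c1, c2⟩ := hC1
    obtain ⟨d1, d2⟩ := hD1
    obtain ⟨a1, a2⟩ := hA1
    clear hn hd hv hz hAB hBB
    interval_cases C <;> interval_cases D <;> interval_cases A <;> omega
  rcases key with hA | hA
  · right
    apply eq_neg_of_dot crz_norm hn0
    rw [hz, hAB, hA]
    norm_num
  · left
    apply eq_of_dot_eq crz_norm hn0
    rw [hz, hAB, hA]
    norm_num

theorem pt_inj {i j : ℕ} (hi : i < 24) (hj : j < 24) (h : pt i = pt j) : i = j := by
  have := congrArg idx h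
  rwa [idx_pt hi, idx_pt hj] at this

theorem pcE_pow' (w : List ℕ) (k : ℕ) : pcE w ^ k = pcE (List.replicate k w).flatten := by
  induction k with
  | zero =>
    rw [pow_zero]
    exact pcE_nil.symm
  | succ k ih =>
    rw [pow_succ', ih, ← pcE_append]
    rfl

/-- The values at `1` and `5` of a permutation fixing the two points. -/
theorem val_props {ρ : Equiv.Perm GolayPt} (h0 : ρ (pt 0) = pt 0) (hn : ρ none = none) {s : ℕ}
    (hs : s < 24) (s0 : s ≠ 0) (s23 : s ≠ 23) :
    ρ (pt s) = pt (idx (ρ (pt s))) ∧ idx (ρ (pt s)) ≠ 0 ∧ idx (ρ (pt s)) ≠ 23 := by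
  refine ⟨(pt_idx _).symm, fun e => ?_, fun e => ?_⟩
  · have h1 : ρ (pt s) = pt 0 := by rw [← pt_idx (ρ (pt s)), e]
    exact s0 (pt_inj hs (by norm_num) (ρ.injective (h1.trans h0.symm)))
  · have h1 : ρ (pt s) = pt 23 := by rw [← pt_idx (ρ (pt s)), e]
    rw [pt_23] at h1
    have h2 := ρ.injective (h1.trans hn.symm)
    rw [← pt_23] at h2
    exact s23 (pt_inj hs (by norm_num) h2)

/-- A monomial element of the stabiliser of the two base vectors which commutes with the
element of order `11` is a power of it. -/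
theorem cent_mono (c : Co0) (h1 : c • crx = crx) (h2 : c • crz = crz) (hcn : c * nE = nE * c) :
    c ∈ Subgroup.zpowers nE := by
  obtain ⟨π, hπ, u, hu, hform, hn, h0, un, u0⟩ := mono_of_fix c h1 h2
  have hrel : ∀ p, π (sgP p) = sgP (π p) ∧ sgn u (π (sgP p)) * 8 = sgn u (π p) * 8 := by
    intro p
    have e1 : (((c * nE) • latEight p : leechLattice) : GolayPt → ℤ) =
        Pi.single (π (sgP p)) (sgn u (π (sgP p)) * 8) := by
      rw [mul_smul, nE_frame]
      exact mono_frame hform (sgP p)
    have e2 : (((nE * c) • latEight p : leechLattice) : GolayPt → ℤ) =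
        Pi.single (sgP (π p)) (sgn u (π p) * 8) := by
      rw [mul_smul, nE_coe, mono_frame hform p, permVec_single]
    rw [hcn, e2] at e1
    have := single_inj (sgn_ne_zero u _) e1
    exact ⟨this.1.symm, this.2.symm⟩
  have hpi : ∀ q, π (π⁻¹ q) = q := fun q => π.apply_symm_apply q
  have hρc : ∀ q, π⁻¹ (sgP q) = sgP (π⁻¹ q) := by
    intro q
    rw [Equiv.Perm.inv_eq_iff_eq, (hrel (π⁻¹ q)).1, hpi]
  have ρ0 : π⁻¹ (pt 0) = pt 0 := by rw [Equiv.Perm.inv_eq_iff_eq, h0]
  have ρn : π⁻¹ none = none := by rw [Equiv.Perm.inv_eq_iff_eq, hn]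
  obtain ⟨a1, a2, a3⟩ := val_props ρ0 ρn (s := 1) (by norm_num) (by norm_num) (by norm_num)
  obtain ⟨b1, b2, b3⟩ := val_props ρ0 ρn (s := 5) (by norm_num) (by norm_num) (by norm_num)
  have ha := idx_lt (π⁻¹ (pt 1))
  have hb := idx_lt (π⁻¹ (pt 5))
  have hrep := cF_rep hρc (fun i hi => sgP_pt hi) dbl_lt ρ0 ρn ha hb a1 b1
  have htest := rows_test hπ hrep
  have hE := List.all_eq_true.mp (List.all_eq_true.mp cent_enum _ (List.mem_range.mpr ha)) _
    (List.mem_range.mpr hb)
  rw [htest] at hE
  simp only [Bool.or_eq_true, beq_iff_eq, Bool.not_true, List.any_eq_true, List.mem_range] at hE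
  obtain ⟨k, hk⟩ : ∃ k, packTab (cF dbl (idx (π⁻¹ (pt 1))) (idx (π⁻¹ (pt 5)))) 24 =
      evalT T5 (List.replicate k wS).flatten := by
    rcases hE with ((((e | e) | e) | e) | e) | ⟨k, -, e⟩
    · exact absurd e a2
    · exact absurd e a3
    · exact absurd e b2
    · exact absurd e b3
    · exact absurd e (by decide)
    · exact ⟨k, e⟩
  rw [hk] at hrep
  have hρ : π⁻¹ = evalW L5 (List.replicate k wS).flatten := hrep.ext (L5_repW _)
  -- the signs
  have hu_inv : ∀ q, u (sgP q) = u q := by
    intro q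
    have := (hrel (π⁻¹ q)).2
    rw [(hrel (π⁻¹ q)).1, hpi] at this
    unfold sgn at this
    rcases zmod2_cases (u (sgP q)) with e1 | e1 <;> rcases zmod2_cases (u q) with e2 | e2
    · rw [e1, e2]
    · rw [e1, e2] at this
      simp at this
    · rw [e1, e2] at this
      simp at this
    · rw [e1, e2]
  have hbit : ∀ i < 24, ((maskOf u).testBit i = true ↔ u (pt i) = 1) := by
    intro i hi
    have hw := congrFun (wordOf_maskOf u) (pt i)
    unfold wordOf at hw
    rw [idx_pt hi] at hw
    constructor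
    · intro hb
      rw [if_pos hb] at hw
      exact hw.symm
    · intro h1
      by_contra hb
      rw [if_neg hb, h1] at hw
      exact absurd hw (by decide)
  have hcode := (mem_golayCode_iff_isCode u).mp hu
  unfold isCode at hcode
  rw [beq_iff_eq] at hcode
  have hlt := maskOf_lt u
  have hk12 : maskOf u >>> 12 < 4096 := by
    rw [Nat.shiftRight_eq_div_pow]
    omega
  have hS := List.all_eq_true.mp cent_sign _ (List.mem_range.mpr hk12)
  rw [hcode] at hS
  have hall : (List.range 24).all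
      (fun i => (maskOf u).testBit (dbl i) == (maskOf u).testBit i) = true := by
    rw [List.all_eq_true]
    intro i hi
    rw [List.mem_range] at hi
    rw [beq_iff_eq, Bool.eq_iff_iff, hbit _ (dbl_lt i), hbit i hi, ← sgP_pt hi, hu_inv]
  rw [hall] at hS
  simp only [Bool.or_eq_true, Bool.not_true, beq_iff_eq] at hS
  have hu0 : u = 0 := by
    rcases hS with ((e | e) | e) | e
    · have := (hbit 0 (by norm_num)).mp e
      rw [u0] at this
      exact absurd this (by decide)
    · have := (hbit 23 (by norm_num)).mp e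
      rw [pt_23, un] at this
      exact absurd this (by decide)
    · exact absurd e (by decide)
    · rw [← wordOf_maskOf u, e, wordOf_zero]
  have hone : pcE (List.replicate k wS).flatten * c = 1 := by
    apply Subtype.ext
    apply Equiv.ext
    intro v
    apply Subtype.ext
    show permVec (evalW L5 (List.replicate k wS).flatten) ((c • v : leechLattice) : GolayPt → ℤ) =
      (v : GolayPt → ℤ)
    rw [hform v, ← hρ, hu0]
    funext q
    show sgn 0 (π q) * (v : GolayPt → ℤ) (π.symm (π q)) = (v : GolayPt → ℤ) q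
    rw [Equiv.symm_apply_apply]
    unfold sgn
    simp
  have hc : c = (nE ^ k)⁻¹ := by
    have e : nE ^ k = pcE (List.replicate k wS).flatten := pcE_pow' wS k
    rw [e]
    exact eq_inv_of_mul_eq_one_right hone
  rw [hc]
  exact Subgroup.inv_mem _ (Subgroup.pow_mem _ (Subgroup.mem_zpowers nE) k)

/-- No monomial element of the stabiliser of the two base vectors inverts the element of
order `11`. -/
theorem no_invert (c : Co0) (h1 : c • crx = crx) (h2 : c • crz = crz) (hcn : nE * c * nE = c) :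
    False := by
  obtain ⟨π, hπ, u, hu, hform, hn, h0, un, u0⟩ := mono_of_fix c h1 h2
  have hrel : ∀ p, sgP (π (sgP p)) = π p := by
    intro p
    have e1 : (((nE * c * nE) • latEight p : leechLattice) : GolayPt → ℤ) =
        Pi.single (sgP (π (sgP p))) (sgn u (π (sgP p)) * 8) := by
      rw [mul_smul, mul_smul, nE_frame, nE_coe, mono_frame hform (sgP p), permVec_single]
    rw [hcn, mono_frame hform p] at e1
    exact (single_inj (sgn_ne_zero u _) e1).1.symm
  have hpi : ∀ q, π (π⁻¹ q) = q := fun q => π.apply_symm_apply q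
  have hsi : ∀ q, sgP (sgP⁻¹ q) = q := fun q => sgP.apply_symm_apply q
  have hρc : ∀ q, π⁻¹ (sgP q) = sgP⁻¹ (π⁻¹ q) := by
    intro q
    have := hrel (sgP⁻¹ (π⁻¹ q))
    rw [hsi, hpi] at this
    rw [Equiv.Perm.inv_eq_iff_eq]
    exact this
  have ρ0 : π⁻¹ (pt 0) = pt 0 := by rw [Equiv.Perm.inv_eq_iff_eq, h0]
  have ρn : π⁻¹ none = none := by rw [Equiv.Perm.inv_eq_iff_eq, hn]
  obtain ⟨a1, a2, a3⟩ := val_props ρ0 ρn (s := 1) (by norm_num) (by norm_num) (by norm_num)
  obtain ⟨b1, b2, b3⟩ := val_props ρ0 ρn (s := 5) (by norm_num) (by norm_num) (by norm_num)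
  have ha := idx_lt (π⁻¹ (pt 1))
  have hb := idx_lt (π⁻¹ (pt 5))
  have hrep := cF_rep hρc (fun i hi => sgP_inv_pt hi) hlv_lt ρ0 ρn ha hb a1 b1
  have htest := rows_test hπ hrep
  have hE := List.all_eq_true.mp (List.all_eq_true.mp inv_enum _ (List.mem_range.mpr ha)) _
    (List.mem_range.mpr hb)
  rw [htest] at hE
  simp only [Bool.or_eq_true, beq_iff_eq, Bool.not_true] at hE
  rcases hE with (((e | e) | e) | e) | e
  · exact a2 e
  · exact a3 e
  · exact b2 e
  · exact b3 e
  · exact absurd e (by decide)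

/-- The centraliser of the element of order `11` in the stabiliser of the first base vector. -/
theorem cent_nE (hzz : zE * zE = 1) (hznzn : zE * nE * zE * nE = 1) (c : Co0)
    (hc : c • crx = crx) (hcn : c * nE = nE * c) : c ∈ Subgroup.zpowers nE := by
  rcases cent_crz c hc hcn with h | h
  · exact cent_mono c hc h hcn
  · exfalso
    apply no_invert (zE * c)
    · rw [mul_smul, hc, zE_fix]
    · rw [mul_smul, h, co0_smul_neg, zE_crz, neg_neg]
    · have e : nE * zE * nE = zE := by
        have h1 : zE * (nE * zE * nE) = 1 := by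
          rw [← hznzn]
          group
        have h2 : zE⁻¹ = zE := inv_eq_of_mul_eq_one_right hzz
        rw [← h2]
        exact (inv_eq_of_mul_eq_one_right h1).symm
      calc nE * (zE * c) * nE = nE * zE * (c * nE) := by group
        _ = nE * zE * (nE * c) := by rw [hcn]
        _ = nE * zE * nE * c := by group
        _ = zE * c := by rw [e]

theorem invert_form {G : Type*} [Group G] {n z : G} (hn : n ^ 11 = 1)
    (hzn : z * n * z⁻¹ = n⁻¹) (k : ℕ) : z * n ^ k = n ^ (5 * k) * z * (n ^ (5 * k))⁻¹ := by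
  have h : ∀ m : ℕ, z * n ^ m * z⁻¹ = (n ^ m)⁻¹ := by
    intro m
    rw [← conj_pow, hzn, inv_pow]
  have h1 : z * n ^ k = (n ^ k)⁻¹ * z := by
    rw [← h k]
    group
  have h3 : z * (n ^ (5 * k))⁻¹ * z⁻¹ = n ^ (5 * k) := by
    have e : z * (n ^ (5 * k))⁻¹ * z⁻¹ = (z * n ^ (5 * k) * z⁻¹)⁻¹ := by group
    rw [e, h (5 * k), inv_inv]
  have h2 : z * (n ^ (5 * k))⁻¹ = n ^ (5 * k) * z := by
    calc z * (n ^ (5 * k))⁻¹ = z * (n ^ (5 * k))⁻¹ * z⁻¹ * z := by group
      _ = n ^ (5 * k) * z := by rw [h3]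
  have h4 : (n ^ k)⁻¹ = n ^ (5 * k) * n ^ (5 * k) := by
    apply inv_eq_of_mul_eq_one_right
    rw [← pow_add, ← pow_add]
    have : k + (5 * k + 5 * k) = 11 * k := by ring
    rw [this, pow_mul, hn, one_pow]
  rw [h1, h4, mul_assoc (n ^ (5 * k)) z, h2, ← mul_assoc]

/-- The elements of the stabiliser which invert the element of order `11` are the conjugates of
the involution by its powers. -/
theorem invert_nE (hzz : zE * zE = 1) (hznzn : zE * nE * zE * nE = 1) (hn11 : nE ^ 11 = 1)
    (g : Co0) (hg : g • crx = crx) (hgn : g * nE * g⁻¹ = nE⁻¹) :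
    ∃ i : ℕ, g = nE ^ i * zE * (nE ^ i)⁻¹ := by
  have : Finite Co0 := Nat.finite_of_card_ne_zero (by rw [card_co0]; norm_num)
  have hzi : zE⁻¹ = zE := inv_eq_of_mul_eq_one_right hzz
  have hzn : zE * nE * zE⁻¹ = nE⁻¹ := by
    rw [hzi]
    exact eq_inv_of_mul_eq_one_left hznzn
  have hcent : (zE * g) * nE = nE * (zE * g) := by
    have h1 : g * nE = nE⁻¹ * g := by
      rw [← hgn]
      group
    have h2 : zE * nE⁻¹ = nE * zE := by
      have h3 : zE * nE⁻¹ * zE⁻¹ = nE := by
        have e : zE * nE⁻¹ * zE⁻¹ = (zE * nE * zE⁻¹)⁻¹ := by group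
        rw [e, hzn, inv_inv]
      calc zE * nE⁻¹ = zE * nE⁻¹ * zE⁻¹ * zE := by group
        _ = nE * zE := by rw [h3]
    calc zE * g * nE = zE * (g * nE) := by group
      _ = zE * (nE⁻¹ * g) := by rw [h1]
      _ = zE * nE⁻¹ * g := by group
      _ = nE * zE * g := by rw [h2]
      _ = nE * (zE * g) := by group
  have hmem := cent_nE hzz hznzn (zE * g) (by rw [mul_smul, hg, zE_fix]) hcent
  obtain ⟨k, hk⟩ := Cfsg.Agent.Lib.Helper27.AutTower.exists_pow_of_mem_zpowers hmem
  have hgk : g = zE * nE ^ k := by rw [← hk, ← mul_assoc, hzz, one_mul]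
  exact ⟨5 * k, hgk.trans (invert_form hn11 hzn k)⟩

end Cfsg.Agent.Lib.Helper92.OC2
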