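import Cfsg.Agent.Lib.Helper92.OutCo2M

set_option autoImplicit false

namespace Cfsg.Agent.Lib.Helper92.OC2

open Cfsg Cfsg.Spor Cfsg.Agent.Lib.Helper7 Cfsg.Agent.Lib.Helper92

/-- The primitives of the conjugating element. -/
def hP : List Prim :=
  [Prim.S 4490852 1096, Prim.X, Prim.P 974380510768821363662145534143076928 [4], Prim.X, Prim.P 980798401806566274455654461655243444 [0, 0, 0], Prim.Y, Prim.P 956302485175575353788796878166559809 [3], Prim.S 2363013 576]

/-- The primitives of its inverse. -/
def hIP : List Prim :=
  [Prim.S 2363013 576, Prim.P 983478296959358443554250846857397270 [0], Prim.X, Prim.P 958020233522794296771657265635857539 [3, 3, 3], Prim.Y, Prim.P 980275914351787324191492553553580224 [2], Prim.Y, Prim.S 4490852 1096]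

/-- The word of the element of order `23` of the code group. -/
def wA : List ℕ := [0, 4, 3, 3, 4, 4, 0, 0, 0, 0]

/-- Packed tables of the inverses of its powers. -/
def tAks : List ℕ := [984818244535754528103549039458486304, 972744929535866887396058920210697861, 956931157618836668719103934987936770, 982117704287495854558425265314616483, 955955011389637823148795644639129673, 962615024609259671920685522751166581, 958330086914147443407360708857777452, 959982305428017154359870128244996774, 967519712196907104868782488930240915, 982828948536257653245239807374303438, 971626590929792050504378937582667378, 963803230008834727773989150237273544, 980462361392284228895618089912635985, 973861204487252784011670431599149323, 979655126615094503661688687563193892, 966299631771602396571627574884804976, 977510933468118096522033223055383695, 970491840325987604273019825295907338, 960587740428117865625033777774376423, 976363879182163389461142653998073174, 974963593027460764990564793868898541, 968502037631803986061956597660418753, 964835747826906726832907989132842420]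

/-- The word of the element of order `11`, and of its inverse. -/
def wS : List ℕ := [1, 3, 3, 3, 3, 1, 0, 0, 1, 0, 0, 0, 1, 0, 0, 0, 0, 0]

def wSi : List ℕ := [3, 3, 3, 3, 3, 1, 3, 3, 3, 1, 3, 3, 1, 0, 0, 0, 0, 1]

/-- Packed table of the element of order `11`, and of its inverse. -/
def tS : ℕ := 983435072843990828779021698901151808

def tSi : ℕ := 970567384681219435340729552166356352

end Cfsg.Agent.Lib.Helper92.OC2
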