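import Cfsg.Agent.Lib.Helper92.OutCo2G
import Cfsg.Agent.Lib.Helper92.OutCo2C
import Cfsg.Prelude.Def_KGroupFacts

set_option autoImplicit false

open scoped Pointwise

namespace Cfsg.Agent.Lib.Helper92.OC2

open Cfsg Cfsg.Spor Cfsg.Agent.Lib.Helper7 Cfsg.Agent.Lib.Helper92

/-! ### The outer automorphism group of the stabiliser of a minimal vector -/

/-- The stabiliser of the first base vector. -/
abbrev GS : Subgroup Co0 := MulAction.stabilizer Co0 crx

/-- The three elements in the stabiliser. -/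
noncomputable def X : ↥GS := ⟨xE, MulAction.mem_stabilizer_iff.mpr xE_fix⟩

noncomputable def N : ↥GS := ⟨nE, MulAction.mem_stabilizer_iff.mpr nE_fix⟩

noncomputable def Z : ↥GS := ⟨zE, MulAction.mem_stabilizer_iff.mpr zE_fix⟩

theorem GS_card : Nat.card ↥GS = 42305421312000 := (co2_isCo2 crx crx_norm).2

instance GS_finite : Finite ↥GS := Nat.finite_of_card_ne_zero (by rw [GS_card]; norm_num)

theorem X_order : orderOf X = 23 := by
  rw [← xE_order]
  exact Subgroup.orderOf_mk _ _

theorem N_order : orderOf N = 11 := by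
  rw [← nE_order]
  exact Subgroup.orderOf_mk _ _

theorem hp23 : ¬ 23 ^ 2 ∣ Nat.card ↥GS := by
  rw [GS_card]
  norm_num

theorem hp11 : ¬ 11 ^ 2 ∣ Nat.card ↥GS := by
  rw [GS_card]
  norm_num

theorem hNX : N * X * N⁻¹ = X ^ 9 := Subtype.ext nx_rel

theorem hZ2 : Z * Z = 1 := Subtype.ext zE_sq

theorem hZ1 : Z ≠ 1 := fun h => zE_ne (congrArg Subtype.val h)

theorem hZN : Z * N * Z⁻¹ = N⁻¹ := by
  apply Subtype.ext
  show zE * nE * zE⁻¹ = nE⁻¹
  have hzi : zE⁻¹ = zE := inv_eq_of_mul_eq_one_right zE_sq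
  rw [hzi]
  exact eq_inv_of_mul_eq_one_left zn_rel

theorem hinvG : ∀ g : ↥GS, g * g = 1 → g ≠ 1 → g * N * g⁻¹ = N⁻¹ →
    ∃ i : ℕ, g = N ^ i * Z * (N ^ i)⁻¹ := by
  intro g _ _ h
  obtain ⟨i, hi⟩ := invert_nE zE_sq zn_rel nE_pow11 g.1 (MulAction.mem_stabilizer_iff.mp g.2)
    (congrArg Subtype.val h)
  exact ⟨i, Subtype.ext hi⟩

theorem hgen : Subgroup.closure {X, Z} = (⊤ : Subgroup ↥GS) := by
  apply Subgroup.map_injective GS.subtype_injective
  rw [MonoidHom.map_closure, ← MonoidHom.range_eq_map, Subgroup.range_subtype]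
  have e : (GS.subtype '' {X, Z} : Set Co0) = {xE, zE} := by
    rw [Set.image_pair]
    rfl
  rw [e]
  exact FG_eq

theorem aut_inner (α : MulAut ↥GS) : α ∈ Cfsg.Inn ↥GS := by
  obtain ⟨g, k, h1, h2⟩ := Cfsg.Agent.Lib.Helper27.AutTower.normal_form_invert X_order N_order
    hp23 hp11 hNX hZ2 hZ1 hZN hinvG α
  have hX1 : X ≠ 1 := fun h => xE_ne (congrArg Subtype.val h)
  have hγX : (MulAut.conj g * α) X = X ^ k := h1
  have hγZ : (MulAut.conj g * α) Z = Z := h2
  have hk : X ^ k ≠ 1 := by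
    intro h
    rw [h] at hγX
    exact hX1 ((MulAut.conj g * α).injective (by rw [hγX, map_one]))
  have hkm : X ^ k = X ^ (k % 23) := by rw [← X_order, pow_mod_orderOf]
  have hr1 : (X ^ k * Z) ^ 14 = 1 := by
    have e : (X * Z) ^ 14 = 1 := Subtype.ext xz_rel
    have := congrArg (MulAut.conj g * α) e
    rw [map_pow, map_mul, hγX, hγZ, map_one] at this
    exact this
  have hr2 : (X ^ k * Z * (X ^ k) ^ 3 * Z * (X ^ k) ^ 2 * Z) ^ 14 = 1 := by
    have e : (X * Z * X ^ 3 * Z * X ^ 2 * Z) ^ 14 = 1 := Subtype.ext xz_rel2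
    have := congrArg (MulAut.conj g * α) e
    simp only [map_pow, map_mul, hγX, hγZ, map_one] at this
    exact this
  have hk1 : k % 23 = 1 := by
    have hlt : k % 23 < 23 := Nat.mod_lt _ (by norm_num)
    rw [hkm] at hr1 hr2 hk
    generalize k % 23 = r at hlt hr1 hr2 hk
    by_contra hne
    have h0 : r ≠ 0 := by
      rintro rfl
      exact hk (pow_zero X)
    by_cases h22 : r = 22
    · subst h22
      have e3 : (X ^ 22) ^ 3 = X ^ 20 := by
        rw [← pow_mul]
        have : X ^ (22 * 3) = X ^ ((22 * 3) % orderOf X) := (pow_mod_orderOf X (22 * 3)).symm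
        rw [this, X_order]
      have e2 : (X ^ 22) ^ 2 = X ^ 21 := by
        rw [← pow_mul]
        have : X ^ (22 * 2) = X ^ ((22 * 2) % orderOf X) := (pow_mod_orderOf X (22 * 2)).symm
        rw [this, X_order]
      rw [e3, e2] at hr2
      exact xz_ne2 (congrArg Subtype.val hr2)
    · exact xz_ne r (by omega) (by omega) (congrArg Subtype.val hr1)
  have hone : MulAut.conj g * α = 1 := by
    apply Cfsg.Agent.Lib.Helper27.AutTower.eq_of_gen hgen
    · rw [hγX, hkm, hk1, pow_one]
      rfl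
    · rw [hγZ]
      rfl
  have : α = (MulAut.conj g)⁻¹ := by
    rw [← mul_one (MulAut.conj g)⁻¹, ← hone, inv_mul_cancel_left]
  rw [this]
  exact Subgroup.inv_mem _ ⟨g, rfl⟩

theorem out_GS : Nat.card (Cfsg.Out ↥GS) = 1 := by
  show (Cfsg.Inn ↥GS).index = 1
  rw [Subgroup.index_eq_one, eq_top_iff]
  intro α _
  exact aut_inner α

/-! ### Transfer to the group of the definition -/

theorem leechU_eq : leechU = crx := by
  apply Subtype.ext
  show vecU = vecOf a0L
  exact (vecOf_eq_of_forall (by decide +kernel)).symm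

/-- The identification of the two descriptions of the stabiliser. -/
noncomputable def co2Iso : ↥Spor.Co2 ≃* ↥GS where
  toFun g := ⟨⟨g.1, (Subgroup.mem_inf.mp
      (show g.1 ∈ Co0 ⊓ MulAction.stabilizer (Equiv.Perm leechLattice) leechU from g.2)).1⟩, by
    rw [MulAction.mem_stabilizer_iff]
    have := MulAction.mem_stabilizer_iff.mp (Subgroup.mem_inf.mp
      (show g.1 ∈ Co0 ⊓ MulAction.stabilizer (Equiv.Perm leechLattice) leechU from g.2)).2
    rw [leechU_eq] at this
    exact this⟩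
  invFun h := ⟨h.1.1, show h.1.1 ∈ Co0 ⊓ MulAction.stabilizer (Equiv.Perm leechLattice) leechU from
    Subgroup.mem_inf.mpr ⟨h.1.2, by
      rw [MulAction.mem_stabilizer_iff, leechU_eq]
      exact MulAction.mem_stabilizer_iff.mp h.2⟩⟩
  left_inv _ := rfl
  right_inv _ := rfl
  map_mul' _ _ := rfl

section

universe u

variable {G G' : Type u} [Group G] [Group G']

theorem mulAut_congr_conj (e : G ≃* G') (g : G) :
    MulAut.congr e (MulAut.conj g) = MulAut.conj (e g) := by
  ext z
  show e (g * e.symm z * g⁻¹) = e g * z * (e g)⁻¹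
  rw [map_mul, map_mul, map_inv, e.apply_symm_apply]

/-- Isomorphic groups have outer automorphism groups of the same order. -/
theorem outCard_congr (e : G ≃* G') : Nat.card (Cfsg.Out G) = Nat.card (Cfsg.Out G') := by
  have he : (Cfsg.Inn G).map (MulAut.congr e : MulAut G →* MulAut G') = Cfsg.Inn G' := by
    ext x
    constructor
    · rintro ⟨y, ⟨g, rfl⟩, rfl⟩
      exact ⟨e g, (mulAut_congr_conj e g).symm⟩
    · rintro ⟨g', rfl⟩
      refine ⟨MulAut.conj (e.symm g'), ⟨e.symm g', rfl⟩, ?_⟩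
      show MulAut.congr e (MulAut.conj (e.symm g')) = MulAut.conj g'
      rw [mulAut_congr_conj, e.apply_symm_apply]
  exact Nat.card_congr (QuotientGroup.congr (Cfsg.Inn G) (Cfsg.Inn G') (MulAut.congr e) he).toEquiv

end

/-- The outer automorphism group of the stabiliser of the minimal vector is trivial. -/
theorem out_co2 : Nat.card (Cfsg.Out ↥Spor.Co2) = 1 := by
  rw [outCard_congr co2Iso]
  exact out_GS

end Cfsg.Agent.Lib.Helper92.OC2
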