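import Cfsg.Agent.Lib.Helper92.OutCo2W

set_option autoImplicit false

namespace Cfsg.Agent.Lib.Helper92.OC2

open Cfsg Cfsg.Spor Cfsg.Agent.Lib.Helper7 Cfsg.Agent.Lib.Helper92

/-- A word which is trivial. -/
def r1W : List ℕ := [1, 0, 1, 0, 1, 0, 1, 0, 1, 0, 1, 0, 1, 0, 1, 0, 1, 0, 1, 0, 1, 0, 1, 0, 1, 0, 1, 0]

set_option maxRecDepth 100000 in
def r1M0 : List (List ℤ) :=
  [[Int.ofNat 4, Int.ofNat 0, Int.ofNat 0, Int.ofNat 0, Int.ofNat 0, Int.ofNat 0, Int.ofNat 0, Int.ofNat 0, Int.ofNat 0, Int.ofNat 0, Int.ofNat 0, Int.ofNat 0, Int.ofNat 0, Int.ofNat 0, Int.ofNat 0, Int.ofNat 0, Int.ofNat 0, Int.ofNat 0, Int.ofNat 0, Int.ofNat 0, Int.ofNat 0, Int.ofNat 0, Int.ofNat 0, Int.ofNat 4],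
  [Int.negSucc 3, Int.ofNat 0, Int.ofNat 0, Int.ofNat 0, Int.ofNat 0, Int.ofNat 0, Int.ofNat 0, Int.ofNat 0, Int.ofNat 0, Int.ofNat 0, Int.ofNat 0, Int.ofNat 0, Int.ofNat 0, Int.ofNat 0, Int.ofNat 0, Int.ofNat 0, Int.ofNat 0, Int.ofNat 0, Int.ofNat 0, Int.ofNat 0, Int.ofNat 0, Int.ofNat 0, Int.ofNat 0, Int.ofNat 4],
  [Int.ofNat 0, Int.negSucc 3, Int.ofNat 0, Int.ofNat 0, Int.ofNat 0, Int.ofNat 0, Int.ofNat 0, Int.ofNat 0, Int.ofNat 0, Int.ofNat 0, Int.ofNat 0, Int.ofNat 0, Int.ofNat 0, Int.ofNat 0, Int.ofNat 0, Int.ofNat 0, Int.ofNat 0, Int.ofNat 0, Int.ofNat 0, Int.ofNat 0, Int.ofNat 0, Int.ofNat 0, Int.ofNat 0, Int.ofNat 4],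
  [Int.ofNat 0, Int.ofNat 4, Int.ofNat 0, Int.ofNat 0, Int.ofNat 0, Int.ofNat 0, Int.ofNat 0, Int.ofNat 0, Int.ofNat 0, Int.ofNat 0, Int.ofNat 0, Int.ofNat 0, Int.ofNat 0, Int.ofNat 0, Int.ofNat 0, Int.ofNat 0, Int.ofNat 0, Int.ofNat 0, Int.ofNat 0, Int.ofNat 0, Int.ofNat 0, Int.ofNat 0, Int.ofNat 0, Int.negSucc 3],
  [Int.ofNat 0, Int.ofNat 0, Int.ofNat 0, Int.ofNat 0, Int.ofNat 0, Int.ofNat 0, Int.ofNat 0, Int.ofNat 0, Int.ofNat 0, Int.ofNat 0, Int.ofNat 0, Int.ofNat 0, Int.ofNat 0, Int.ofNat 0, Int.ofNat 0, Int.ofNat 0, Int.ofNat 0, Int.ofNat 0, Int.ofNat 0, Int.ofNat 0, Int.ofNat 0, Int.ofNat 4, Int.ofNat 0, Int.negSucc 3],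
  [Int.negSucc 1, Int.negSucc 1, Int.negSucc 1, Int.ofNat 0, Int.ofNat 0, Int.ofNat 0, Int.negSucc 1, Int.negSucc 1, Int.ofNat 0, Int.ofNat 0, Int.ofNat 0, Int.ofNat 0, Int.ofNat 0, Int.ofNat 0, Int.ofNat 0, Int.ofNat 0, Int.ofNat 0, Int.ofNat 0, Int.ofNat 0, Int.negSucc 1, Int.ofNat 0, Int.ofNat 2, Int.ofNat 0, Int.ofNat 2],
  [Int.negSucc 1, Int.negSucc 1, Int.ofNat 0, Int.ofNat 0, Int.ofNat 0, Int.negSucc 1, Int.negSucc 1, Int.ofNat 0, Int.ofNat 0, Int.ofNat 0, Int.ofNat 0, Int.ofNat 0, Int.ofNat 0, Int.ofNat 0, Int.ofNat 0, Int.ofNat 0, Int.ofNat 0, Int.ofNat 0, Int.negSucc 1, Int.ofNat 0, Int.ofNat 2, Int.ofNat 0, Int.negSucc 1, Int.ofNat 2],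
  [Int.ofNat 1, Int.ofNat 1, Int.negSucc 0, Int.ofNat 1, Int.ofNat 1, Int.negSucc 0, Int.negSucc 0, Int.ofNat 1, Int.ofNat 1, Int.negSucc 0, Int.negSucc 0, Int.ofNat 1, Int.ofNat 1, Int.ofNat 1, Int.ofNat 1, Int.negSucc 0, Int.ofNat 1, Int.ofNat 1, Int.negSucc 0, Int.ofNat 1, Int.ofNat 1, Int.ofNat 1, Int.negSucc 0, Int.negSucc 2],
  [Int.ofNat 1, Int.ofNat 1, Int.ofNat 1, Int.ofNat 1, Int.ofNat 1, Int.ofNat 1, Int.ofNat 1, Int.ofNat 1, Int.ofNat 1, Int.ofNat 1, Int.ofNat 1, Int.ofNat 1, Int.ofNat 1, Int.ofNat 1, Int.ofNat 1, Int.ofNat 1, Int.ofNat 1, Int.ofNat 1, Int.ofNat 1, Int.ofNat 1, Int.ofNat 1, Int.ofNat 1, Int.ofNat 1, Int.negSucc 2],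
  [Int.ofNat 1, Int.ofNat 1, Int.ofNat 1, Int.ofNat 1, Int.ofNat 1, Int.ofNat 1, Int.ofNat 1, Int.ofNat 1, Int.ofNat 1, Int.ofNat 1, Int.ofNat 1, Int.ofNat 1, Int.ofNat 1, Int.ofNat 1, Int.ofNat 1, Int.ofNat 1, Int.ofNat 1, Int.ofNat 1, Int.ofNat 1, Int.ofNat 1, Int.ofNat 1, Int.ofNat 1, Int.ofNat 1, Int.negSucc 2],
  [Int.ofNat 1, Int.ofNat 1, Int.negSucc 0, Int.ofNat 1, Int.ofNat 1, Int.negSucc 0, Int.negSucc 0, Int.ofNat 1, Int.ofNat 1, Int.negSucc 0, Int.negSucc 0, Int.ofNat 1, Int.ofNat 1, Int.ofNat 1, Int.ofNat 1, Int.negSucc 0, Int.ofNat 1, Int.ofNat 1, Int.negSucc 0, Int.ofNat 1, Int.ofNat 1, Int.ofNat 1, Int.negSucc 0, Int.negSucc 2],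
  [Int.negSucc 1, Int.negSucc 1, Int.ofNat 0, Int.ofNat 0, Int.ofNat 0, Int.negSucc 1, Int.negSucc 1, Int.ofNat 0, Int.ofNat 0, Int.ofNat 0, Int.ofNat 0, Int.ofNat 0, Int.ofNat 0, Int.ofNat 0, Int.ofNat 0, Int.ofNat 0, Int.ofNat 0, Int.ofNat 0, Int.negSucc 1, Int.ofNat 0, Int.ofNat 2, Int.ofNat 0, Int.negSucc 1, Int.ofNat 2],
  [Int.negSucc 1, Int.negSucc 1, Int.negSucc 1, Int.ofNat 0, Int.ofNat 0, Int.ofNat 0, Int.negSucc 1, Int.negSucc 1, Int.ofNat 0, Int.ofNat 0, Int.ofNat 0, Int.ofNat 0, Int.ofNat 0, Int.ofNat 0, Int.ofNat 0, Int.ofNat 0, Int.ofNat 0, Int.ofNat 0, Int.ofNat 0, Int.negSucc 1, Int.ofNat 0, Int.ofNat 2, Int.ofNat 0, Int.ofNat 2],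
  [Int.ofNat 0, Int.ofNat 0, Int.ofNat 0, Int.ofNat 0, Int.ofNat 0, Int.ofNat 0, Int.ofNat 0, Int.ofNat 0, Int.ofNat 0, Int.ofNat 0, Int.ofNat 0, Int.ofNat 0, Int.ofNat 0, Int.ofNat 0, Int.ofNat 0, Int.ofNat 0, Int.ofNat 0, Int.ofNat 0, Int.ofNat 0, Int.ofNat 0, Int.ofNat 0, Int.ofNat 4, Int.ofNat 0, Int.negSucc 3],
  [Int.ofNat 0, Int.ofNat 4, Int.ofNat 0, Int.ofNat 0, Int.ofNat 0, Int.ofNat 0, Int.ofNat 0, Int.ofNat 0, Int.ofNat 0, Int.ofNat 0, Int.ofNat 0, Int.ofNat 0, Int.ofNat 0, Int.ofNat 0, Int.ofNat 0, Int.ofNat 0, Int.ofNat 0, Int.ofNat 0, Int.ofNat 0, Int.ofNat 0, Int.ofNat 0, Int.ofNat 0, Int.ofNat 0, Int.negSucc 3],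
  [Int.ofNat 0, Int.negSucc 3, Int.ofNat 0, Int.ofNat 0, Int.ofNat 0, Int.ofNat 0, Int.ofNat 0, Int.ofNat 0, Int.ofNat 0, Int.ofNat 0, Int.ofNat 0, Int.ofNat 0, Int.ofNat 0, Int.ofNat 0, Int.ofNat 0, Int.ofNat 0, Int.ofNat 0, Int.ofNat 0, Int.ofNat 0, Int.ofNat 0, Int.ofNat 0, Int.ofNat 0, Int.ofNat 0, Int.ofNat 4],
  [Int.negSucc 3, Int.ofNat 0, Int.ofNat 0, Int.ofNat 0, Int.ofNat 0, Int.ofNat 0, Int.ofNat 0, Int.ofNat 0, Int.ofNat 0, Int.ofNat 0, Int.ofNat 0, Int.ofNat 0, Int.ofNat 0, Int.ofNat 0, Int.ofNat 0, Int.ofNat 0, Int.ofNat 0, Int.ofNat 0, Int.ofNat 0, Int.ofNat 0, Int.ofNat 0, Int.ofNat 0, Int.ofNat 0, Int.ofNat 4],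
  [Int.ofNat 4, Int.ofNat 0, Int.ofNat 0, Int.ofNat 0, Int.ofNat 0, Int.ofNat 0, Int.ofNat 0, Int.ofNat 0, Int.ofNat 0, Int.ofNat 0, Int.ofNat 0, Int.ofNat 0, Int.ofNat 0, Int.ofNat 0, Int.ofNat 0, Int.ofNat 0, Int.ofNat 0, Int.ofNat 0, Int.ofNat 0, Int.ofNat 0, Int.ofNat 0, Int.ofNat 0, Int.ofNat 0, Int.ofNat 4],
  [Int.ofNat 4, Int.ofNat 0, Int.ofNat 0, Int.ofNat 0, Int.ofNat 0, Int.ofNat 0, Int.ofNat 0, Int.ofNat 0, Int.ofNat 0, Int.ofNat 0, Int.ofNat 0, Int.ofNat 0, Int.ofNat 0, Int.ofNat 0, Int.ofNat 0, Int.ofNat 0, Int.ofNat 0, Int.ofNat 0, Int.ofNat 0, Int.ofNat 0, Int.ofNat 0, Int.ofNat 0, Int.ofNat 0, Int.ofNat 4],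
  [Int.negSucc 3, Int.ofNat 0, Int.ofNat 0, Int.ofNat 0, Int.ofNat 0, Int.ofNat 0, Int.ofNat 0, Int.ofNat 0, Int.ofNat 0, Int.ofNat 0, Int.ofNat 0, Int.ofNat 0, Int.ofNat 0, Int.ofNat 0, Int.ofNat 0, Int.ofNat 0, Int.ofNat 0, Int.ofNat 0, Int.ofNat 0, Int.ofNat 0, Int.ofNat 0, Int.ofNat 0, Int.ofNat 0, Int.ofNat 4],
  [Int.ofNat 0, Int.negSucc 3, Int.ofNat 0, Int.ofNat 0, Int.ofNat 0, Int.ofNat 0, Int.ofNat 0, Int.ofNat 0, Int.ofNat 0, Int.ofNat 0, Int.ofNat 0, Int.ofNat 0, Int.ofNat 0, Int.ofNat 0, Int.ofNat 0, Int.ofNat 0, Int.ofNat 0, Int.ofNat 0, Int.ofNat 0, Int.ofNat 0, Int.ofNat 0, Int.ofNat 0, Int.ofNat 0, Int.ofNat 4],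
  [Int.ofNat 0, Int.ofNat 4, Int.ofNat 0, Int.ofNat 0, Int.ofNat 0, Int.ofNat 0, Int.ofNat 0, Int.ofNat 0, Int.ofNat 0, Int.ofNat 0, Int.ofNat 0, Int.ofNat 0, Int.ofNat 0, Int.ofNat 0, Int.ofNat 0, Int.ofNat 0, Int.ofNat 0, Int.ofNat 0, Int.ofNat 0, Int.ofNat 0, Int.ofNat 0, Int.ofNat 0, Int.ofNat 0, Int.negSucc 3],
  [Int.ofNat 0, Int.ofNat 0, Int.ofNat 0, Int.ofNat 0, Int.ofNat 0, Int.ofNat 0, Int.ofNat 0, Int.ofNat 0, Int.ofNat 0, Int.ofNat 0, Int.ofNat 0, Int.ofNat 0, Int.ofNat 0, Int.ofNat 0, Int.ofNat 0, Int.ofNat 0, Int.ofNat 0, Int.ofNat 0, Int.ofNat 0, Int.ofNat 0, Int.ofNat 0, Int.ofNat 4, Int.ofNat 0, Int.negSucc 3],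
  [Int.negSucc 1, Int.negSucc 1, Int.negSucc 1, Int.ofNat 0, Int.ofNat 0, Int.ofNat 0, Int.negSucc 1, Int.negSucc 1, Int.ofNat 0, Int.ofNat 0, Int.ofNat 0, Int.ofNat 0, Int.ofNat 0, Int.ofNat 0, Int.ofNat 0, Int.ofNat 0, Int.ofNat 0, Int.ofNat 0, Int.ofNat 0, Int.negSucc 1, Int.ofNat 0, Int.ofNat 2, Int.ofNat 0, Int.ofNat 2],
  [Int.negSucc 1, Int.negSucc 1, Int.ofNat 0, Int.ofNat 0, Int.ofNat 0, Int.negSucc 1, Int.negSucc 1, Int.ofNat 0, Int.ofNat 0, Int.ofNat 0, Int.ofNat 0, Int.ofNat 0, Int.ofNat 0, Int.ofNat 0, Int.ofNat 0, Int.ofNat 0, Int.ofNat 0, Int.ofNat 0, Int.negSucc 1, Int.ofNat 0, Int.ofNat 2, Int.ofNat 0, Int.negSucc 1, Int.ofNat 2],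
  [Int.ofNat 1, Int.ofNat 1, Int.negSucc 0, Int.ofNat 1, Int.ofNat 1, Int.negSucc 0, Int.negSucc 0, Int.ofNat 1, Int.ofNat 1, Int.negSucc 0, Int.negSucc 0, Int.ofNat 1, Int.ofNat 1, Int.ofNat 1, Int.ofNat 1, Int.negSucc 0, Int.ofNat 1, Int.ofNat 1, Int.negSucc 0, Int.ofNat 1, Int.ofNat 1, Int.ofNat 1, Int.negSucc 0, Int.negSucc 2],
  [Int.ofNat 1, Int.ofNat 1, Int.ofNat 1, Int.ofNat 1, Int.ofNat 1, Int.ofNat 1, Int.ofNat 1, Int.ofNat 1, Int.ofNat 1, Int.ofNat 1, Int.ofNat 1, Int.ofNat 1, Int.ofNat 1, Int.ofNat 1, Int.ofNat 1, Int.ofNat 1, Int.ofNat 1, Int.ofNat 1, Int.ofNat 1, Int.ofNat 1, Int.ofNat 1, Int.ofNat 1, Int.ofNat 1, Int.negSucc 2],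
  [Int.ofNat 1, Int.ofNat 1, Int.ofNat 1, Int.ofNat 1, Int.ofNat 1, Int.ofNat 1, Int.ofNat 1, Int.ofNat 1, Int.ofNat 1, Int.ofNat 1, Int.ofNat 1, Int.ofNat 1, Int.ofNat 1, Int.ofNat 1, Int.ofNat 1, Int.ofNat 1, Int.ofNat 1, Int.ofNat 1, Int.ofNat 1, Int.ofNat 1, Int.ofNat 1, Int.ofNat 1, Int.ofNat 1, Int.negSucc 2],
  [Int.ofNat 1, Int.ofNat 1, Int.negSucc 0, Int.ofNat 1, Int.ofNat 1, Int.negSucc 0, Int.negSucc 0, Int.ofNat 1, Int.ofNat 1, Int.negSucc 0, Int.negSucc 0, Int.ofNat 1, Int.ofNat 1, Int.ofNat 1, Int.ofNat 1, Int.negSucc 0, Int.ofNat 1, Int.ofNat 1, Int.negSucc 0, Int.ofNat 1, Int.ofNat 1, Int.ofNat 1, Int.negSucc 0, Int.negSucc 2],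
  [Int.negSucc 1, Int.negSucc 1, Int.ofNat 0, Int.ofNat 0, Int.ofNat 0, Int.negSucc 1, Int.negSucc 1, Int.ofNat 0, Int.ofNat 0, Int.ofNat 0, Int.ofNat 0, Int.ofNat 0, Int.ofNat 0, Int.ofNat 0, Int.ofNat 0, Int.ofNat 0, Int.ofNat 0, Int.ofNat 0, Int.negSucc 1, Int.ofNat 0, Int.ofNat 2, Int.ofNat 0, Int.negSucc 1, Int.ofNat 2],
  [Int.negSucc 1, Int.negSucc 1, Int.negSucc 1, Int.ofNat 0, Int.ofNat 0, Int.ofNat 0, Int.negSucc 1, Int.negSucc 1, Int.ofNat 0, Int.ofNat 0, Int.ofNat 0, Int.ofNat 0, Int.ofNat 0, Int.ofNat 0, Int.ofNat 0, Int.ofNat 0, Int.ofNat 0, Int.ofNat 0, Int.ofNat 0, Int.negSucc 1, Int.ofNat 0, Int.ofNat 2, Int.ofNat 0, Int.ofNat 2],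
  [Int.ofNat 0, Int.ofNat 0, Int.ofNat 0, Int.ofNat 0, Int.ofNat 0, Int.ofNat 0, Int.ofNat 0, Int.ofNat 0, Int.ofNat 0, Int.ofNat 0, Int.ofNat 0, Int.ofNat 0, Int.ofNat 0, Int.ofNat 0, Int.ofNat 0, Int.ofNat 0, Int.ofNat 0, Int.ofNat 0, Int.ofNat 0, Int.ofNat 0, Int.ofNat 0, Int.ofNat 4, Int.ofNat 0, Int.negSucc 3],
  [Int.ofNat 0, Int.ofNat 4, Int.ofNat 0, Int.ofNat 0, Int.ofNat 0, Int.ofNat 0, Int.ofNat 0, Int.ofNat 0, Int.ofNat 0, Int.ofNat 0, Int.ofNat 0, Int.ofNat 0, Int.ofNat 0, Int.ofNat 0, Int.ofNat 0, Int.ofNat 0, Int.ofNat 0, Int.ofNat 0, Int.ofNat 0, Int.ofNat 0, Int.ofNat 0, Int.ofNat 0, Int.ofNat 0, Int.negSucc 3],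
  [Int.ofNat 0, Int.negSucc 3, Int.ofNat 0, Int.ofNat 0, Int.ofNat 0, Int.ofNat 0, Int.ofNat 0, Int.ofNat 0, Int.ofNat 0, Int.ofNat 0, Int.ofNat 0, Int.ofNat 0, Int.ofNat 0, Int.ofNat 0, Int.ofNat 0, Int.ofNat 0, Int.ofNat 0, Int.ofNat 0, Int.ofNat 0, Int.ofNat 0, Int.ofNat 0, Int.ofNat 0, Int.ofNat 0, Int.ofNat 4],
  [Int.negSucc 3, Int.ofNat 0, Int.ofNat 0, Int.ofNat 0, Int.ofNat 0, Int.ofNat 0, Int.ofNat 0, Int.ofNat 0, Int.ofNat 0, Int.ofNat 0, Int.ofNat 0, Int.ofNat 0, Int.ofNat 0, Int.ofNat 0, Int.ofNat 0, Int.ofNat 0, Int.ofNat 0, Int.ofNat 0, Int.ofNat 0, Int.ofNat 0, Int.ofNat 0, Int.ofNat 0, Int.ofNat 0, Int.ofNat 4],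
  [Int.ofNat 4, Int.ofNat 0, Int.ofNat 0, Int.ofNat 0, Int.ofNat 0, Int.ofNat 0, Int.ofNat 0, Int.ofNat 0, Int.ofNat 0, Int.ofNat 0, Int.ofNat 0, Int.ofNat 0, Int.ofNat 0, Int.ofNat 0, Int.ofNat 0, Int.ofNat 0, Int.ofNat 0, Int.ofNat 0, Int.ofNat 0, Int.ofNat 0, Int.ofNat 0, Int.ofNat 0, Int.ofNat 0, Int.ofNat 4],
  [Int.ofNat 4, Int.ofNat 0, Int.ofNat 0, Int.ofNat 0, Int.ofNat 0, Int.ofNat 0, Int.ofNat 0, Int.ofNat 0, Int.ofNat 0, Int.ofNat 0, Int.ofNat 0, Int.ofNat 0, Int.ofNat 0, Int.ofNat 0, Int.ofNat 0, Int.ofNat 0, Int.ofNat 0, Int.ofNat 0, Int.ofNat 0, Int.ofNat 0, Int.ofNat 0, Int.ofNat 0, Int.ofNat 0, Int.ofNat 4],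
  [Int.negSucc 3, Int.ofNat 0, Int.ofNat 0, Int.ofNat 0, Int.ofNat 0, Int.ofNat 0, Int.ofNat 0, Int.ofNat 0, Int.ofNat 0, Int.ofNat 0, Int.ofNat 0, Int.ofNat 0, Int.ofNat 0, Int.ofNat 0, Int.ofNat 0, Int.ofNat 0, Int.ofNat 0, Int.ofNat 0, Int.ofNat 0, Int.ofNat 0, Int.ofNat 0, Int.ofNat 0, Int.ofNat 0, Int.ofNat 4],
  [Int.ofNat 0, Int.negSucc 3, Int.ofNat 0, Int.ofNat 0, Int.ofNat 0, Int.ofNat 0, Int.ofNat 0, Int.ofNat 0, Int.ofNat 0, Int.ofNat 0, Int.ofNat 0, Int.ofNat 0, Int.ofNat 0, Int.ofNat 0, Int.ofNat 0, Int.ofNat 0, Int.ofNat 0, Int.ofNat 0, Int.ofNat 0, Int.ofNat 0, Int.ofNat 0, Int.ofNat 0, Int.ofNat 0, Int.ofNat 4],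
  [Int.ofNat 0, Int.ofNat 4, Int.ofNat 0, Int.ofNat 0, Int.ofNat 0, Int.ofNat 0, Int.ofNat 0, Int.ofNat 0, Int.ofNat 0, Int.ofNat 0, Int.ofNat 0, Int.ofNat 0, Int.ofNat 0, Int.ofNat 0, Int.ofNat 0, Int.ofNat 0, Int.ofNat 0, Int.ofNat 0, Int.ofNat 0, Int.ofNat 0, Int.ofNat 0, Int.ofNat 0, Int.ofNat 0, Int.negSucc 3],
  [Int.ofNat 0, Int.ofNat 0, Int.ofNat 0, Int.ofNat 0, Int.ofNat 0, Int.ofNat 0, Int.ofNat 0, Int.ofNat 0, Int.ofNat 0, Int.ofNat 0, Int.ofNat 0, Int.ofNat 0, Int.ofNat 0, Int.ofNat 0, Int.ofNat 0, Int.ofNat 0, Int.ofNat 0, Int.ofNat 0, Int.ofNat 0, Int.ofNat 0, Int.ofNat 0, Int.ofNat 4, Int.ofNat 0, Int.negSucc 3],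
  [Int.negSucc 1, Int.negSucc 1, Int.negSucc 1, Int.ofNat 0, Int.ofNat 0, Int.ofNat 0, Int.negSucc 1, Int.negSucc 1, Int.ofNat 0, Int.ofNat 0, Int.ofNat 0, Int.ofNat 0, Int.ofNat 0, Int.ofNat 0, Int.ofNat 0, Int.ofNat 0, Int.ofNat 0, Int.ofNat 0, Int.ofNat 0, Int.negSucc 1, Int.ofNat 0, Int.ofNat 2, Int.ofNat 0, Int.ofNat 2],
  [Int.negSucc 1, Int.negSucc 1, Int.ofNat 0, Int.ofNat 0, Int.ofNat 0, Int.negSucc 1, Int.negSucc 1, Int.ofNat 0, Int.ofNat 0, Int.ofNat 0, Int.ofNat 0, Int.ofNat 0, Int.ofNat 0, Int.ofNat 0, Int.ofNat 0, Int.ofNat 0, Int.ofNat 0, Int.ofNat 0, Int.negSucc 1, Int.ofNat 0, Int.ofNat 2, Int.ofNat 0, Int.negSucc 1, Int.ofNat 2],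
  [Int.ofNat 1, Int.ofNat 1, Int.negSucc 0, Int.ofNat 1, Int.ofNat 1, Int.negSucc 0, Int.negSucc 0, Int.ofNat 1, Int.ofNat 1, Int.negSucc 0, Int.negSucc 0, Int.ofNat 1, Int.ofNat 1, Int.ofNat 1, Int.ofNat 1, Int.negSucc 0, Int.ofNat 1, Int.ofNat 1, Int.negSucc 0, Int.ofNat 1, Int.ofNat 1, Int.ofNat 1, Int.negSucc 0, Int.negSucc 2],
  [Int.ofNat 1, Int.ofNat 1, Int.ofNat 1, Int.ofNat 1, Int.ofNat 1, Int.ofNat 1, Int.ofNat 1, Int.ofNat 1, Int.ofNat 1, Int.ofNat 1, Int.ofNat 1, Int.ofNat 1, Int.ofNat 1, Int.ofNat 1, Int.ofNat 1, Int.ofNat 1, Int.ofNat 1, Int.ofNat 1, Int.ofNat 1, Int.ofNat 1, Int.ofNat 1, Int.ofNat 1, Int.ofNat 1, Int.negSucc 2],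
  [Int.ofNat 1, Int.ofNat 1, Int.ofNat 1, Int.ofNat 1, Int.ofNat 1, Int.ofNat 1, Int.ofNat 1, Int.ofNat 1, Int.ofNat 1, Int.ofNat 1, Int.ofNat 1, Int.ofNat 1, Int.ofNat 1, Int.ofNat 1, Int.ofNat 1, Int.ofNat 1, Int.ofNat 1, Int.ofNat 1, Int.ofNat 1, Int.ofNat 1, Int.ofNat 1, Int.ofNat 1, Int.ofNat 1, Int.negSucc 2],
  [Int.ofNat 1, Int.ofNat 1, Int.negSucc 0, Int.ofNat 1, Int.ofNat 1, Int.negSucc 0, Int.negSucc 0, Int.ofNat 1, Int.ofNat 1, Int.negSucc 0, Int.negSucc 0, Int.ofNat 1, Int.ofNat 1, Int.ofNat 1, Int.ofNat 1, Int.negSucc 0, Int.ofNat 1, Int.ofNat 1, Int.negSucc 0, Int.ofNat 1, Int.ofNat 1, Int.ofNat 1, Int.negSucc 0, Int.negSucc 2],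
  [Int.negSucc 1, Int.negSucc 1, Int.ofNat 0, Int.ofNat 0, Int.ofNat 0, Int.negSucc 1, Int.negSucc 1, Int.ofNat 0, Int.ofNat 0, Int.ofNat 0, Int.ofNat 0, Int.ofNat 0, Int.ofNat 0, Int.ofNat 0, Int.ofNat 0, Int.ofNat 0, Int.ofNat 0, Int.ofNat 0, Int.negSucc 1, Int.ofNat 0, Int.ofNat 2, Int.ofNat 0, Int.negSucc 1, Int.ofNat 2],
  [Int.negSucc 1, Int.negSucc 1, Int.negSucc 1, Int.ofNat 0, Int.ofNat 0, Int.ofNat 0, Int.negSucc 1, Int.negSucc 1, Int.ofNat 0, Int.ofNat 0, Int.ofNat 0, Int.ofNat 0, Int.ofNat 0, Int.ofNat 0, Int.ofNat 0, Int.ofNat 0, Int.ofNat 0, Int.ofNat 0, Int.ofNat 0, Int.negSucc 1, Int.ofNat 0, Int.ofNat 2, Int.ofNat 0, Int.ofNat 2],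
  [Int.ofNat 0, Int.ofNat 0, Int.ofNat 0, Int.ofNat 0, Int.ofNat 0, Int.ofNat 0, Int.ofNat 0, Int.ofNat 0, Int.ofNat 0, Int.ofNat 0, Int.ofNat 0, Int.ofNat 0, Int.ofNat 0, Int.ofNat 0, Int.ofNat 0, Int.ofNat 0, Int.ofNat 0, Int.ofNat 0, Int.ofNat 0, Int.ofNat 0, Int.ofNat 0, Int.ofNat 4, Int.ofNat 0, Int.negSucc 3],
  [Int.ofNat 0, Int.ofNat 4, Int.ofNat 0, Int.ofNat 0, Int.ofNat 0, Int.ofNat 0, Int.ofNat 0, Int.ofNat 0, Int.ofNat 0, Int.ofNat 0, Int.ofNat 0, Int.ofNat 0, Int.ofNat 0, Int.ofNat 0, Int.ofNat 0, Int.ofNat 0, Int.ofNat 0, Int.ofNat 0, Int.ofNat 0, Int.ofNat 0, Int.ofNat 0, Int.ofNat 0, Int.ofNat 0, Int.negSucc 3],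
  [Int.ofNat 0, Int.negSucc 3, Int.ofNat 0, Int.ofNat 0, Int.ofNat 0, Int.ofNat 0, Int.ofNat 0, Int.ofNat 0, Int.ofNat 0, Int.ofNat 0, Int.ofNat 0, Int.ofNat 0, Int.ofNat 0, Int.ofNat 0, Int.ofNat 0, Int.ofNat 0, Int.ofNat 0, Int.ofNat 0, Int.ofNat 0, Int.ofNat 0, Int.ofNat 0, Int.ofNat 0, Int.ofNat 0, Int.ofNat 4],
  [Int.negSucc 3, Int.ofNat 0, Int.ofNat 0, Int.ofNat 0, Int.ofNat 0, Int.ofNat 0, Int.ofNat 0, Int.ofNat 0, Int.ofNat 0, Int.ofNat 0, Int.ofNat 0, Int.ofNat 0, Int.ofNat 0, Int.ofNat 0, Int.ofNat 0, Int.ofNat 0, Int.ofNat 0, Int.ofNat 0, Int.ofNat 0, Int.ofNat 0, Int.ofNat 0, Int.ofNat 0, Int.ofNat 0, Int.ofNat 4],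
  [Int.ofNat 4, Int.ofNat 0, Int.ofNat 0, Int.ofNat 0, Int.ofNat 0, Int.ofNat 0, Int.ofNat 0, Int.ofNat 0, Int.ofNat 0, Int.ofNat 0, Int.ofNat 0, Int.ofNat 0, Int.ofNat 0, Int.ofNat 0, Int.ofNat 0, Int.ofNat 0, Int.ofNat 0, Int.ofNat 0, Int.ofNat 0, Int.ofNat 0, Int.ofNat 0, Int.ofNat 0, Int.ofNat 0, Int.ofNat 4],
  [Int.ofNat 4, Int.ofNat 0, Int.ofNat 0, Int.ofNat 0, Int.ofNat 0, Int.ofNat 0, Int.ofNat 0, Int.ofNat 0, Int.ofNat 0, Int.ofNat 0, Int.ofNat 0, Int.ofNat 0, Int.ofNat 0, Int.ofNat 0, Int.ofNat 0, Int.ofNat 0, Int.ofNat 0, Int.ofNat 0, Int.ofNat 0, Int.ofNat 0, Int.ofNat 0, Int.ofNat 0, Int.ofNat 0, Int.ofNat 4],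
  [Int.negSucc 3, Int.ofNat 0, Int.ofNat 0, Int.ofNat 0, Int.ofNat 0, Int.ofNat 0, Int.ofNat 0, Int.ofNat 0, Int.ofNat 0, Int.ofNat 0, Int.ofNat 0, Int.ofNat 0, Int.ofNat 0, Int.ofNat 0, Int.ofNat 0, Int.ofNat 0, Int.ofNat 0, Int.ofNat 0, Int.ofNat 0, Int.ofNat 0, Int.ofNat 0, Int.ofNat 0, Int.ofNat 0, Int.ofNat 4],
  [Int.ofNat 0, Int.negSucc 3, Int.ofNat 0, Int.ofNat 0, Int.ofNat 0, Int.ofNat 0, Int.ofNat 0, Int.ofNat 0, Int.ofNat 0, Int.ofNat 0, Int.ofNat 0, Int.ofNat 0, Int.ofNat 0, Int.ofNat 0, Int.ofNat 0, Int.ofNat 0, Int.ofNat 0, Int.ofNat 0, Int.ofNat 0, Int.ofNat 0, Int.ofNat 0, Int.ofNat 0, Int.ofNat 0, Int.ofNat 4],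
  [Int.ofNat 0, Int.ofNat 4, Int.ofNat 0, Int.ofNat 0, Int.ofNat 0, Int.ofNat 0, Int.ofNat 0, Int.ofNat 0, Int.ofNat 0, Int.ofNat 0, Int.ofNat 0, Int.ofNat 0, Int.ofNat 0, Int.ofNat 0, Int.ofNat 0, Int.ofNat 0, Int.ofNat 0, Int.ofNat 0, Int.ofNat 0, Int.ofNat 0, Int.ofNat 0, Int.ofNat 0, Int.ofNat 0, Int.negSucc 3],
  [Int.ofNat 0, Int.ofNat 0, Int.ofNat 0, Int.ofNat 0, Int.ofNat 0, Int.ofNat 0, Int.ofNat 0, Int.ofNat 0, Int.ofNat 0, Int.ofNat 0, Int.ofNat 0, Int.ofNat 0, Int.ofNat 0, Int.ofNat 0, Int.ofNat 0, Int.ofNat 0, Int.ofNat 0, Int.ofNat 0, Int.ofNat 0, Int.ofNat 0, Int.ofNat 0, Int.ofNat 4, Int.ofNat 0, Int.negSucc 3],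
  [Int.negSucc 1, Int.negSucc 1, Int.negSucc 1, Int.ofNat 0, Int.ofNat 0, Int.ofNat 0, Int.negSucc 1, Int.negSucc 1, Int.ofNat 0, Int.ofNat 0, Int.ofNat 0, Int.ofNat 0, Int.ofNat 0, Int.ofNat 0, Int.ofNat 0, Int.ofNat 0, Int.ofNat 0, Int.ofNat 0, Int.ofNat 0, Int.negSucc 1, Int.ofNat 0, Int.ofNat 2, Int.ofNat 0, Int.ofNat 2],
  [Int.negSucc 1, Int.negSucc 1, Int.ofNat 0, Int.ofNat 0, Int.ofNat 0, Int.negSucc 1, Int.negSucc 1, Int.ofNat 0, Int.ofNat 0, Int.ofNat 0, Int.ofNat 0, Int.ofNat 0, Int.ofNat 0, Int.ofNat 0, Int.ofNat 0, Int.ofNat 0, Int.ofNat 0, Int.ofNat 0, Int.negSucc 1, Int.ofNat 0, Int.ofNat 2, Int.ofNat 0, Int.negSucc 1, Int.ofNat 2],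
  [Int.ofNat 1, Int.ofNat 1, Int.negSucc 0, Int.ofNat 1, Int.ofNat 1, Int.negSucc 0, Int.negSucc 0, Int.ofNat 1, Int.ofNat 1, Int.negSucc 0, Int.negSucc 0, Int.ofNat 1, Int.ofNat 1, Int.ofNat 1, Int.ofNat 1, Int.negSucc 0, Int.ofNat 1, Int.ofNat 1, Int.negSucc 0, Int.ofNat 1, Int.ofNat 1, Int.ofNat 1, Int.negSucc 0, Int.negSucc 2],
  [Int.ofNat 1, Int.ofNat 1, Int.ofNat 1, Int.ofNat 1, Int.ofNat 1, Int.ofNat 1, Int.ofNat 1, Int.ofNat 1, Int.ofNat 1, Int.ofNat 1, Int.ofNat 1, Int.ofNat 1, Int.ofNat 1, Int.ofNat 1, Int.ofNat 1, Int.ofNat 1, Int.ofNat 1, Int.ofNat 1, Int.ofNat 1, Int.ofNat 1, Int.ofNat 1, Int.ofNat 1, Int.ofNat 1, Int.negSucc 2],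
  [Int.ofNat 1, Int.ofNat 1, Int.ofNat 1, Int.ofNat 1, Int.ofNat 1, Int.ofNat 1, Int.ofNat 1, Int.ofNat 1, Int.ofNat 1, Int.ofNat 1, Int.ofNat 1, Int.ofNat 1, Int.ofNat 1, Int.ofNat 1, Int.ofNat 1, Int.ofNat 1, Int.ofNat 1, Int.ofNat 1, Int.ofNat 1, Int.ofNat 1, Int.ofNat 1, Int.ofNat 1, Int.ofNat 1, Int.negSucc 2],
  [Int.ofNat 1, Int.ofNat 1, Int.negSucc 0, Int.ofNat 1, Int.ofNat 1, Int.negSucc 0, Int.negSucc 0, Int.ofNat 1, Int.ofNat 1, Int.negSucc 0, Int.negSucc 0, Int.ofNat 1, Int.ofNat 1, Int.ofNat 1, Int.ofNat 1, Int.negSucc 0, Int.ofNat 1, Int.ofNat 1, Int.negSucc 0, Int.ofNat 1, Int.ofNat 1, Int.ofNat 1, Int.negSucc 0, Int.negSucc 2],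
  [Int.negSucc 1, Int.negSucc 1, Int.ofNat 0, Int.ofNat 0, Int.ofNat 0, Int.negSucc 1, Int.negSucc 1, Int.ofNat 0, Int.ofNat 0, Int.ofNat 0, Int.ofNat 0, Int.ofNat 0, Int.ofNat 0, Int.ofNat 0, Int.ofNat 0, Int.ofNat 0, Int.ofNat 0, Int.ofNat 0, Int.negSucc 1, Int.ofNat 0, Int.ofNat 2, Int.ofNat 0, Int.negSucc 1, Int.ofNat 2],
  [Int.negSucc 1, Int.negSucc 1, Int.negSucc 1, Int.ofNat 0, Int.ofNat 0, Int.ofNat 0, Int.negSucc 1, Int.negSucc 1, Int.ofNat 0, Int.ofNat 0, Int.ofNat 0, Int.ofNat 0, Int.ofNat 0, Int.ofNat 0, Int.ofNat 0, Int.ofNat 0, Int.ofNat 0, Int.ofNat 0, Int.ofNat 0, Int.negSucc 1, Int.ofNat 0, Int.ofNat 2, Int.ofNat 0, Int.ofNat 2],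
  [Int.ofNat 0, Int.ofNat 0, Int.ofNat 0, Int.ofNat 0, Int.ofNat 0, Int.ofNat 0, Int.ofNat 0, Int.ofNat 0, Int.ofNat 0, Int.ofNat 0, Int.ofNat 0, Int.ofNat 0, Int.ofNat 0, Int.ofNat 0, Int.ofNat 0, Int.ofNat 0, Int.ofNat 0, Int.ofNat 0, Int.ofNat 0, Int.ofNat 0, Int.ofNat 0, Int.ofNat 4, Int.ofNat 0, Int.negSucc 3],
  [Int.ofNat 0, Int.ofNat 4, Int.ofNat 0, Int.ofNat 0, Int.ofNat 0, Int.ofNat 0, Int.ofNat 0, Int.ofNat 0, Int.ofNat 0, Int.ofNat 0, Int.ofNat 0, Int.ofNat 0, Int.ofNat 0, Int.ofNat 0, Int.ofNat 0, Int.ofNat 0, Int.ofNat 0, Int.ofNat 0, Int.ofNat 0, Int.ofNat 0, Int.ofNat 0, Int.ofNat 0, Int.ofNat 0, Int.negSucc 3],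
  [Int.ofNat 0, Int.negSucc 3, Int.ofNat 0, Int.ofNat 0, Int.ofNat 0, Int.ofNat 0, Int.ofNat 0, Int.ofNat 0, Int.ofNat 0, Int.ofNat 0, Int.ofNat 0, Int.ofNat 0, Int.ofNat 0, Int.ofNat 0, Int.ofNat 0, Int.ofNat 0, Int.ofNat 0, Int.ofNat 0, Int.ofNat 0, Int.ofNat 0, Int.ofNat 0, Int.ofNat 0, Int.ofNat 0, Int.ofNat 4],
  [Int.negSucc 3, Int.ofNat 0, Int.ofNat 0, Int.ofNat 0, Int.ofNat 0, Int.ofNat 0, Int.ofNat 0, Int.ofNat 0, Int.ofNat 0, Int.ofNat 0, Int.ofNat 0, Int.ofNat 0, Int.ofNat 0, Int.ofNat 0, Int.ofNat 0, Int.ofNat 0, Int.ofNat 0, Int.ofNat 0, Int.ofNat 0, Int.ofNat 0, Int.ofNat 0, Int.ofNat 0, Int.ofNat 0, Int.ofNat 4],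
  [Int.ofNat 4, Int.ofNat 0, Int.ofNat 0, Int.ofNat 0, Int.ofNat 0, Int.ofNat 0, Int.ofNat 0, Int.ofNat 0, Int.ofNat 0, Int.ofNat 0, Int.ofNat 0, Int.ofNat 0, Int.ofNat 0, Int.ofNat 0, Int.ofNat 0, Int.ofNat 0, Int.ofNat 0, Int.ofNat 0, Int.ofNat 0, Int.ofNat 0, Int.ofNat 0, Int.ofNat 0, Int.ofNat 0, Int.ofNat 4],
  [Int.ofNat 4, Int.ofNat 0, Int.ofNat 0, Int.ofNat 0, Int.ofNat 0, Int.ofNat 0, Int.ofNat 0, Int.ofNat 0, Int.ofNat 0, Int.ofNat 0, Int.ofNat 0, Int.ofNat 0, Int.ofNat 0, Int.ofNat 0, Int.ofNat 0, Int.ofNat 0, Int.ofNat 0, Int.ofNat 0, Int.ofNat 0, Int.ofNat 0, Int.ofNat 0, Int.ofNat 0, Int.ofNat 0, Int.ofNat 4],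
  [Int.negSucc 3, Int.ofNat 0, Int.ofNat 0, Int.ofNat 0, Int.ofNat 0, Int.ofNat 0, Int.ofNat 0, Int.ofNat 0, Int.ofNat 0, Int.ofNat 0, Int.ofNat 0, Int.ofNat 0, Int.ofNat 0, Int.ofNat 0, Int.ofNat 0, Int.ofNat 0, Int.ofNat 0, Int.ofNat 0, Int.ofNat 0, Int.ofNat 0, Int.ofNat 0, Int.ofNat 0, Int.ofNat 0, Int.ofNat 4],
  [Int.ofNat 0, Int.negSucc 3, Int.ofNat 0, Int.ofNat 0, Int.ofNat 0, Int.ofNat 0, Int.ofNat 0, Int.ofNat 0, Int.ofNat 0, Int.ofNat 0, Int.ofNat 0, Int.ofNat 0, Int.ofNat 0, Int.ofNat 0, Int.ofNat 0, Int.ofNat 0, Int.ofNat 0, Int.ofNat 0, Int.ofNat 0, Int.ofNat 0, Int.ofNat 0, Int.ofNat 0, Int.ofNat 0, Int.ofNat 4],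
  [Int.ofNat 0, Int.ofNat 4, Int.ofNat 0, Int.ofNat 0, Int.ofNat 0, Int.ofNat 0, Int.ofNat 0, Int.ofNat 0, Int.ofNat 0, Int.ofNat 0, Int.ofNat 0, Int.ofNat 0, Int.ofNat 0, Int.ofNat 0, Int.ofNat 0, Int.ofNat 0, Int.ofNat 0, Int.ofNat 0, Int.ofNat 0, Int.ofNat 0, Int.ofNat 0, Int.ofNat 0, Int.ofNat 0, Int.negSucc 3],
  [Int.ofNat 0, Int.ofNat 0, Int.ofNat 0, Int.ofNat 0, Int.ofNat 0, Int.ofNat 0, Int.ofNat 0, Int.ofNat 0, Int.ofNat 0, Int.ofNat 0, Int.ofNat 0, Int.ofNat 0, Int.ofNat 0, Int.ofNat 0, Int.ofNat 0, Int.ofNat 0, Int.ofNat 0, Int.ofNat 0, Int.ofNat 0, Int.ofNat 0, Int.ofNat 0, Int.ofNat 4, Int.ofNat 0, Int.negSucc 3],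
  [Int.negSucc 1, Int.negSucc 1, Int.negSucc 1, Int.ofNat 0, Int.ofNat 0, Int.ofNat 0, Int.negSucc 1, Int.negSucc 1, Int.ofNat 0, Int.ofNat 0, Int.ofNat 0, Int.ofNat 0, Int.ofNat 0, Int.ofNat 0, Int.ofNat 0, Int.ofNat 0, Int.ofNat 0, Int.ofNat 0, Int.ofNat 0, Int.negSucc 1, Int.ofNat 0, Int.ofNat 2, Int.ofNat 0, Int.ofNat 2],
  [Int.negSucc 1, Int.negSucc 1, Int.ofNat 0, Int.ofNat 0, Int.ofNat 0, Int.negSucc 1, Int.negSucc 1, Int.ofNat 0, Int.ofNat 0, Int.ofNat 0, Int.ofNat 0, Int.ofNat 0, Int.ofNat 0, Int.ofNat 0, Int.ofNat 0, Int.ofNat 0, Int.ofNat 0, Int.ofNat 0, Int.negSucc 1, Int.ofNat 0, Int.ofNat 2, Int.ofNat 0, Int.negSucc 1, Int.ofNat 2],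
  [Int.ofNat 1, Int.ofNat 1, Int.negSucc 0, Int.ofNat 1, Int.ofNat 1, Int.negSucc 0, Int.negSucc 0, Int.ofNat 1, Int.ofNat 1, Int.negSucc 0, Int.negSucc 0, Int.ofNat 1, Int.ofNat 1, Int.ofNat 1, Int.ofNat 1, Int.negSucc 0, Int.ofNat 1, Int.ofNat 1, Int.negSucc 0, Int.ofNat 1, Int.ofNat 1, Int.ofNat 1, Int.negSucc 0, Int.negSucc 2],
  [Int.ofNat 1, Int.ofNat 1, Int.ofNat 1, Int.ofNat 1, Int.ofNat 1, Int.ofNat 1, Int.ofNat 1, Int.ofNat 1, Int.ofNat 1, Int.ofNat 1, Int.ofNat 1, Int.ofNat 1, Int.ofNat 1, Int.ofNat 1, Int.ofNat 1, Int.ofNat 1, Int.ofNat 1, Int.ofNat 1, Int.ofNat 1, Int.ofNat 1, Int.ofNat 1, Int.ofNat 1, Int.ofNat 1, Int.negSucc 2],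
  [Int.ofNat 1, Int.ofNat 1, Int.ofNat 1, Int.ofNat 1, Int.ofNat 1, Int.ofNat 1, Int.ofNat 1, Int.ofNat 1, Int.ofNat 1, Int.ofNat 1, Int.ofNat 1, Int.ofNat 1, Int.ofNat 1, Int.ofNat 1, Int.ofNat 1, Int.ofNat 1, Int.ofNat 1, Int.ofNat 1, Int.ofNat 1, Int.ofNat 1, Int.ofNat 1, Int.ofNat 1, Int.ofNat 1, Int.negSucc 2],
  [Int.ofNat 1, Int.ofNat 1, Int.negSucc 0, Int.ofNat 1, Int.ofNat 1, Int.negSucc 0, Int.negSucc 0, Int.ofNat 1, Int.ofNat 1, Int.negSucc 0, Int.negSucc 0, Int.ofNat 1, Int.ofNat 1, Int.ofNat 1, Int.ofNat 1, Int.negSucc 0, Int.ofNat 1, Int.ofNat 1, Int.negSucc 0, Int.ofNat 1, Int.ofNat 1, Int.ofNat 1, Int.negSucc 0, Int.negSucc 2],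
  [Int.negSucc 1, Int.negSucc 1, Int.ofNat 0, Int.ofNat 0, Int.ofNat 0, Int.negSucc 1, Int.negSucc 1, Int.ofNat 0, Int.ofNat 0, Int.ofNat 0, Int.ofNat 0, Int.ofNat 0, Int.ofNat 0, Int.ofNat 0, Int.ofNat 0, Int.ofNat 0, Int.ofNat 0, Int.ofNat 0, Int.negSucc 1, Int.ofNat 0, Int.ofNat 2, Int.ofNat 0, Int.negSucc 1, Int.ofNat 2],
  [Int.negSucc 1, Int.negSucc 1, Int.negSucc 1, Int.ofNat 0, Int.ofNat 0, Int.ofNat 0, Int.negSucc 1, Int.negSucc 1, Int.ofNat 0, Int.ofNat 0, Int.ofNat 0, Int.ofNat 0, Int.ofNat 0, Int.ofNat 0, Int.ofNat 0, Int.ofNat 0, Int.ofNat 0, Int.ofNat 0, Int.ofNat 0, Int.negSucc 1, Int.ofNat 0, Int.ofNat 2, Int.ofNat 0, Int.ofNat 2],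
  [Int.ofNat 0, Int.ofNat 0, Int.ofNat 0, Int.ofNat 0, Int.ofNat 0, Int.ofNat 0, Int.ofNat 0, Int.ofNat 0, Int.ofNat 0, Int.ofNat 0, Int.ofNat 0, Int.ofNat 0, Int.ofNat 0, Int.ofNat 0, Int.ofNat 0, Int.ofNat 0, Int.ofNat 0, Int.ofNat 0, Int.ofNat 0, Int.ofNat 0, Int.ofNat 0, Int.ofNat 4, Int.ofNat 0, Int.negSucc 3],
  [Int.ofNat 0, Int.ofNat 4, Int.ofNat 0, Int.ofNat 0, Int.ofNat 0, Int.ofNat 0, Int.ofNat 0, Int.ofNat 0, Int.ofNat 0, Int.ofNat 0, Int.ofNat 0, Int.ofNat 0, Int.ofNat 0, Int.ofNat 0, Int.ofNat 0, Int.ofNat 0, Int.ofNat 0, Int.ofNat 0, Int.ofNat 0, Int.ofNat 0, Int.ofNat 0, Int.ofNat 0, Int.ofNat 0, Int.negSucc 3],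
  [Int.ofNat 0, Int.negSucc 3, Int.ofNat 0, Int.ofNat 0, Int.ofNat 0, Int.ofNat 0, Int.ofNat 0, Int.ofNat 0, Int.ofNat 0, Int.ofNat 0, Int.ofNat 0, Int.ofNat 0, Int.ofNat 0, Int.ofNat 0, Int.ofNat 0, Int.ofNat 0, Int.ofNat 0, Int.ofNat 0, Int.ofNat 0, Int.ofNat 0, Int.ofNat 0, Int.ofNat 0, Int.ofNat 0, Int.ofNat 4],
  [Int.negSucc 3, Int.ofNat 0, Int.ofNat 0, Int.ofNat 0, Int.ofNat 0, Int.ofNat 0, Int.ofNat 0, Int.ofNat 0, Int.ofNat 0, Int.ofNat 0, Int.ofNat 0, Int.ofNat 0, Int.ofNat 0, Int.ofNat 0, Int.ofNat 0, Int.ofNat 0, Int.ofNat 0, Int.ofNat 0, Int.ofNat 0, Int.ofNat 0, Int.ofNat 0, Int.ofNat 0, Int.ofNat 0, Int.ofNat 4],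
  [Int.ofNat 4, Int.ofNat 0, Int.ofNat 0, Int.ofNat 0, Int.ofNat 0, Int.ofNat 0, Int.ofNat 0, Int.ofNat 0, Int.ofNat 0, Int.ofNat 0, Int.ofNat 0, Int.ofNat 0, Int.ofNat 0, Int.ofNat 0, Int.ofNat 0, Int.ofNat 0, Int.ofNat 0, Int.ofNat 0, Int.ofNat 0, Int.ofNat 0, Int.ofNat 0, Int.ofNat 0, Int.ofNat 0, Int.ofNat 4],
  [Int.ofNat 4, Int.ofNat 0, Int.ofNat 0, Int.ofNat 0, Int.ofNat 0, Int.ofNat 0, Int.ofNat 0, Int.ofNat 0, Int.ofNat 0, Int.ofNat 0, Int.ofNat 0, Int.ofNat 0, Int.ofNat 0, Int.ofNat 0, Int.ofNat 0, Int.ofNat 0, Int.ofNat 0, Int.ofNat 0, Int.ofNat 0, Int.ofNat 0, Int.ofNat 0, Int.ofNat 0, Int.ofNat 0, Int.ofNat 4],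
  [Int.negSucc 3, Int.ofNat 0, Int.ofNat 0, Int.ofNat 0, Int.ofNat 0, Int.ofNat 0, Int.ofNat 0, Int.ofNat 0, Int.ofNat 0, Int.ofNat 0, Int.ofNat 0, Int.ofNat 0, Int.ofNat 0, Int.ofNat 0, Int.ofNat 0, Int.ofNat 0, Int.ofNat 0, Int.ofNat 0, Int.ofNat 0, Int.ofNat 0, Int.ofNat 0, Int.ofNat 0, Int.ofNat 0, Int.ofNat 4],
  [Int.ofNat 0, Int.negSucc 3, Int.ofNat 0, Int.ofNat 0, Int.ofNat 0, Int.ofNat 0, Int.ofNat 0, Int.ofNat 0, Int.ofNat 0, Int.ofNat 0, Int.ofNat 0, Int.ofNat 0, Int.ofNat 0, Int.ofNat 0, Int.ofNat 0, Int.ofNat 0, Int.ofNat 0, Int.ofNat 0, Int.ofNat 0, Int.ofNat 0, Int.ofNat 0, Int.ofNat 0, Int.ofNat 0, Int.ofNat 4],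
  [Int.ofNat 0, Int.ofNat 4, Int.ofNat 0, Int.ofNat 0, Int.ofNat 0, Int.ofNat 0, Int.ofNat 0, Int.ofNat 0, Int.ofNat 0, Int.ofNat 0, Int.ofNat 0, Int.ofNat 0, Int.ofNat 0, Int.ofNat 0, Int.ofNat 0, Int.ofNat 0, Int.ofNat 0, Int.ofNat 0, Int.ofNat 0, Int.ofNat 0, Int.ofNat 0, Int.ofNat 0, Int.ofNat 0, Int.negSucc 3],
  [Int.ofNat 0, Int.ofNat 0, Int.ofNat 0, Int.ofNat 0, Int.ofNat 0, Int.ofNat 0, Int.ofNat 0, Int.ofNat 0, Int.ofNat 0, Int.ofNat 0, Int.ofNat 0, Int.ofNat 0, Int.ofNat 0, Int.ofNat 0, Int.ofNat 0, Int.ofNat 0, Int.ofNat 0, Int.ofNat 0, Int.ofNat 0, Int.ofNat 0, Int.ofNat 0, Int.ofNat 4, Int.ofNat 0, Int.negSucc 3],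
  [Int.negSucc 1, Int.negSucc 1, Int.negSucc 1, Int.ofNat 0, Int.ofNat 0, Int.ofNat 0, Int.negSucc 1, Int.negSucc 1, Int.ofNat 0, Int.ofNat 0, Int.ofNat 0, Int.ofNat 0, Int.ofNat 0, Int.ofNat 0, Int.ofNat 0, Int.ofNat 0, Int.ofNat 0, Int.ofNat 0, Int.ofNat 0, Int.negSucc 1, Int.ofNat 0, Int.ofNat 2, Int.ofNat 0, Int.ofNat 2],
  [Int.negSucc 1, Int.negSucc 1, Int.ofNat 0, Int.ofNat 0, Int.ofNat 0, Int.negSucc 1, Int.negSucc 1, Int.ofNat 0, Int.ofNat 0, Int.ofNat 0, Int.ofNat 0, Int.ofNat 0, Int.ofNat 0, Int.ofNat 0, Int.ofNat 0, Int.ofNat 0, Int.ofNat 0, Int.ofNat 0, Int.negSucc 1, Int.ofNat 0, Int.ofNat 2, Int.ofNat 0, Int.negSucc 1, Int.ofNat 2],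
  [Int.ofNat 1, Int.ofNat 1, Int.negSucc 0, Int.ofNat 1, Int.ofNat 1, Int.negSucc 0, Int.negSucc 0, Int.ofNat 1, Int.ofNat 1, Int.negSucc 0, Int.negSucc 0, Int.ofNat 1, Int.ofNat 1, Int.ofNat 1, Int.ofNat 1, Int.negSucc 0, Int.ofNat 1, Int.ofNat 1, Int.negSucc 0, Int.ofNat 1, Int.ofNat 1, Int.ofNat 1, Int.negSucc 0, Int.negSucc 2],
  [Int.ofNat 1, Int.ofNat 1, Int.ofNat 1, Int.ofNat 1, Int.ofNat 1, Int.ofNat 1, Int.ofNat 1, Int.ofNat 1, Int.ofNat 1, Int.ofNat 1, Int.ofNat 1, Int.ofNat 1, Int.ofNat 1, Int.ofNat 1, Int.ofNat 1, Int.ofNat 1, Int.ofNat 1, Int.ofNat 1, Int.ofNat 1, Int.ofNat 1, Int.ofNat 1, Int.ofNat 1, Int.ofNat 1, Int.negSucc 2],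
  [Int.ofNat 1, Int.ofNat 1, Int.ofNat 1, Int.ofNat 1, Int.ofNat 1, Int.ofNat 1, Int.ofNat 1, Int.ofNat 1, Int.ofNat 1, Int.ofNat 1, Int.ofNat 1, Int.ofNat 1, Int.ofNat 1, Int.ofNat 1, Int.ofNat 1, Int.ofNat 1, Int.ofNat 1, Int.ofNat 1, Int.ofNat 1, Int.ofNat 1, Int.ofNat 1, Int.ofNat 1, Int.ofNat 1, Int.negSucc 2],
  [Int.ofNat 1, Int.ofNat 1, Int.negSucc 0, Int.ofNat 1, Int.ofNat 1, Int.negSucc 0, Int.negSucc 0, Int.ofNat 1, Int.ofNat 1, Int.negSucc 0, Int.negSucc 0, Int.ofNat 1, Int.ofNat 1, Int.ofNat 1, Int.ofNat 1, Int.negSucc 0, Int.ofNat 1, Int.ofNat 1, Int.negSucc 0, Int.ofNat 1, Int.ofNat 1, Int.ofNat 1, Int.negSucc 0, Int.negSucc 2],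
  [Int.negSucc 1, Int.negSucc 1, Int.ofNat 0, Int.ofNat 0, Int.ofNat 0, Int.negSucc 1, Int.negSucc 1, Int.ofNat 0, Int.ofNat 0, Int.ofNat 0, Int.ofNat 0, Int.ofNat 0, Int.ofNat 0, Int.ofNat 0, Int.ofNat 0, Int.ofNat 0, Int.ofNat 0, Int.ofNat 0, Int.negSucc 1, Int.ofNat 0, Int.ofNat 2, Int.ofNat 0, Int.negSucc 1, Int.ofNat 2],
  [Int.negSucc 1, Int.negSucc 1, Int.negSucc 1, Int.ofNat 0, Int.ofNat 0, Int.ofNat 0, Int.negSucc 1, Int.negSucc 1, Int.ofNat 0, Int.ofNat 0, Int.ofNat 0, Int.ofNat 0, Int.ofNat 0, Int.ofNat 0, Int.ofNat 0, Int.ofNat 0, Int.ofNat 0, Int.ofNat 0, Int.ofNat 0, Int.negSucc 1, Int.ofNat 0, Int.ofNat 2, Int.ofNat 0, Int.ofNat 2],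
  [Int.ofNat 0, Int.ofNat 0, Int.ofNat 0, Int.ofNat 0, Int.ofNat 0, Int.ofNat 0, Int.ofNat 0, Int.ofNat 0, Int.ofNat 0, Int.ofNat 0, Int.ofNat 0, Int.ofNat 0, Int.ofNat 0, Int.ofNat 0, Int.ofNat 0, Int.ofNat 0, Int.ofNat 0, Int.ofNat 0, Int.ofNat 0, Int.ofNat 0, Int.ofNat 0, Int.ofNat 4, Int.ofNat 0, Int.negSucc 3],
  [Int.ofNat 0, Int.ofNat 4, Int.ofNat 0, Int.ofNat 0, Int.ofNat 0, Int.ofNat 0, Int.ofNat 0, Int.ofNat 0, Int.ofNat 0, Int.ofNat 0, Int.ofNat 0, Int.ofNat 0, Int.ofNat 0, Int.ofNat 0, Int.ofNat 0, Int.ofNat 0, Int.ofNat 0, Int.ofNat 0, Int.ofNat 0, Int.ofNat 0, Int.ofNat 0, Int.ofNat 0, Int.ofNat 0, Int.negSucc 3],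
  [Int.ofNat 0, Int.negSucc 3, Int.ofNat 0, Int.ofNat 0, Int.ofNat 0, Int.ofNat 0, Int.ofNat 0, Int.ofNat 0, Int.ofNat 0, Int.ofNat 0, Int.ofNat 0, Int.ofNat 0, Int.ofNat 0, Int.ofNat 0, Int.ofNat 0, Int.ofNat 0, Int.ofNat 0, Int.ofNat 0, Int.ofNat 0, Int.ofNat 0, Int.ofNat 0, Int.ofNat 0, Int.ofNat 0, Int.ofNat 4],
  [Int.negSucc 3, Int.ofNat 0, Int.ofNat 0, Int.ofNat 0, Int.ofNat 0, Int.ofNat 0, Int.ofNat 0, Int.ofNat 0, Int.ofNat 0, Int.ofNat 0, Int.ofNat 0, Int.ofNat 0, Int.ofNat 0, Int.ofNat 0, Int.ofNat 0, Int.ofNat 0, Int.ofNat 0, Int.ofNat 0, Int.ofNat 0, Int.ofNat 0, Int.ofNat 0, Int.ofNat 0, Int.ofNat 0, Int.ofNat 4],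
  [Int.ofNat 4, Int.ofNat 0, Int.ofNat 0, Int.ofNat 0, Int.ofNat 0, Int.ofNat 0, Int.ofNat 0, Int.ofNat 0, Int.ofNat 0, Int.ofNat 0, Int.ofNat 0, Int.ofNat 0, Int.ofNat 0, Int.ofNat 0, Int.ofNat 0, Int.ofNat 0, Int.ofNat 0, Int.ofNat 0, Int.ofNat 0, Int.ofNat 0, Int.ofNat 0, Int.ofNat 0, Int.ofNat 0, Int.ofNat 4],
  [Int.ofNat 4, Int.ofNat 0, Int.ofNat 0, Int.ofNat 0, Int.ofNat 0, Int.ofNat 0, Int.ofNat 0, Int.ofNat 0, Int.ofNat 0, Int.ofNat 0, Int.ofNat 0, Int.ofNat 0, Int.ofNat 0, Int.ofNat 0, Int.ofNat 0, Int.ofNat 0, Int.ofNat 0, Int.ofNat 0, Int.ofNat 0, Int.ofNat 0, Int.ofNat 0, Int.ofNat 0, Int.ofNat 0, Int.ofNat 4],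
  [Int.negSucc 3, Int.ofNat 0, Int.ofNat 0, Int.ofNat 0, Int.ofNat 0, Int.ofNat 0, Int.ofNat 0, Int.ofNat 0, Int.ofNat 0, Int.ofNat 0, Int.ofNat 0, Int.ofNat 0, Int.ofNat 0, Int.ofNat 0, Int.ofNat 0, Int.ofNat 0, Int.ofNat 0, Int.ofNat 0, Int.ofNat 0, Int.ofNat 0, Int.ofNat 0, Int.ofNat 0, Int.ofNat 0, Int.ofNat 4],
  [Int.ofNat 0, Int.negSucc 3, Int.ofNat 0, Int.ofNat 0, Int.ofNat 0, Int.ofNat 0, Int.ofNat 0, Int.ofNat 0, Int.ofNat 0, Int.ofNat 0, Int.ofNat 0, Int.ofNat 0, Int.ofNat 0, Int.ofNat 0, Int.ofNat 0, Int.ofNat 0, Int.ofNat 0, Int.ofNat 0, Int.ofNat 0, Int.ofNat 0, Int.ofNat 0, Int.ofNat 0, Int.ofNat 0, Int.ofNat 4],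
  [Int.ofNat 0, Int.ofNat 4, Int.ofNat 0, Int.ofNat 0, Int.ofNat 0, Int.ofNat 0, Int.ofNat 0, Int.ofNat 0, Int.ofNat 0, Int.ofNat 0, Int.ofNat 0, Int.ofNat 0, Int.ofNat 0, Int.ofNat 0, Int.ofNat 0, Int.ofNat 0, Int.ofNat 0, Int.ofNat 0, Int.ofNat 0, Int.ofNat 0, Int.ofNat 0, Int.ofNat 0, Int.ofNat 0, Int.negSucc 3],
  [Int.ofNat 0, Int.ofNat 0, Int.ofNat 0, Int.ofNat 0, Int.ofNat 0, Int.ofNat 0, Int.ofNat 0, Int.ofNat 0, Int.ofNat 0, Int.ofNat 0, Int.ofNat 0, Int.ofNat 0, Int.ofNat 0, Int.ofNat 0, Int.ofNat 0, Int.ofNat 0, Int.ofNat 0, Int.ofNat 0, Int.ofNat 0, Int.ofNat 0, Int.ofNat 0, Int.ofNat 4, Int.ofNat 0, Int.negSucc 3],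
  [Int.negSucc 1, Int.negSucc 1, Int.negSucc 1, Int.ofNat 0, Int.ofNat 0, Int.ofNat 0, Int.negSucc 1, Int.negSucc 1, Int.ofNat 0, Int.ofNat 0, Int.ofNat 0, Int.ofNat 0, Int.ofNat 0, Int.ofNat 0, Int.ofNat 0, Int.ofNat 0, Int.ofNat 0, Int.ofNat 0, Int.ofNat 0, Int.negSucc 1, Int.ofNat 0, Int.ofNat 2, Int.ofNat 0, Int.ofNat 2],
  [Int.negSucc 1, Int.negSucc 1, Int.ofNat 0, Int.ofNat 0, Int.ofNat 0, Int.negSucc 1, Int.negSucc 1, Int.ofNat 0, Int.ofNat 0, Int.ofNat 0, Int.ofNat 0, Int.ofNat 0, Int.ofNat 0, Int.ofNat 0, Int.ofNat 0, Int.ofNat 0, Int.ofNat 0, Int.ofNat 0, Int.negSucc 1, Int.ofNat 0, Int.ofNat 2, Int.ofNat 0, Int.negSucc 1, Int.ofNat 2],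
  [Int.ofNat 1, Int.ofNat 1, Int.negSucc 0, Int.ofNat 1, Int.ofNat 1, Int.negSucc 0, Int.negSucc 0, Int.ofNat 1, Int.ofNat 1, Int.negSucc 0, Int.negSucc 0, Int.ofNat 1, Int.ofNat 1, Int.ofNat 1, Int.ofNat 1, Int.negSucc 0, Int.ofNat 1, Int.ofNat 1, Int.negSucc 0, Int.ofNat 1, Int.ofNat 1, Int.ofNat 1, Int.negSucc 0, Int.negSucc 2],
  [Int.ofNat 1, Int.ofNat 1, Int.ofNat 1, Int.ofNat 1, Int.ofNat 1, Int.ofNat 1, Int.ofNat 1, Int.ofNat 1, Int.ofNat 1, Int.ofNat 1, Int.ofNat 1, Int.ofNat 1, Int.ofNat 1, Int.ofNat 1, Int.ofNat 1, Int.ofNat 1, Int.ofNat 1, Int.ofNat 1, Int.ofNat 1, Int.ofNat 1, Int.ofNat 1, Int.ofNat 1, Int.ofNat 1, Int.negSucc 2],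
  [Int.ofNat 1, Int.ofNat 1, Int.ofNat 1, Int.ofNat 1, Int.ofNat 1, Int.ofNat 1, Int.ofNat 1, Int.ofNat 1, Int.ofNat 1, Int.ofNat 1, Int.ofNat 1, Int.ofNat 1, Int.ofNat 1, Int.ofNat 1, Int.ofNat 1, Int.ofNat 1, Int.ofNat 1, Int.ofNat 1, Int.ofNat 1, Int.ofNat 1, Int.ofNat 1, Int.ofNat 1, Int.ofNat 1, Int.negSucc 2],
  [Int.ofNat 1, Int.ofNat 1, Int.negSucc 0, Int.ofNat 1, Int.ofNat 1, Int.negSucc 0, Int.negSucc 0, Int.ofNat 1, Int.ofNat 1, Int.negSucc 0, Int.negSucc 0, Int.ofNat 1, Int.ofNat 1, Int.ofNat 1, Int.ofNat 1, Int.negSucc 0, Int.ofNat 1, Int.ofNat 1, Int.negSucc 0, Int.ofNat 1, Int.ofNat 1, Int.ofNat 1, Int.negSucc 0, Int.negSucc 2],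
  [Int.negSucc 1, Int.negSucc 1, Int.ofNat 0, Int.ofNat 0, Int.ofNat 0, Int.negSucc 1, Int.negSucc 1, Int.ofNat 0, Int.ofNat 0, Int.ofNat 0, Int.ofNat 0, Int.ofNat 0, Int.ofNat 0, Int.ofNat 0, Int.ofNat 0, Int.ofNat 0, Int.ofNat 0, Int.ofNat 0, Int.negSucc 1, Int.ofNat 0, Int.ofNat 2, Int.ofNat 0, Int.negSucc 1, Int.ofNat 2],
  [Int.negSucc 1, Int.negSucc 1, Int.negSucc 1, Int.ofNat 0, Int.ofNat 0, Int.ofNat 0, Int.negSucc 1, Int.negSucc 1, Int.ofNat 0, Int.ofNat 0, Int.ofNat 0, Int.ofNat 0, Int.ofNat 0, Int.ofNat 0, Int.ofNat 0, Int.ofNat 0, Int.ofNat 0, Int.ofNat 0, Int.ofNat 0, Int.negSucc 1, Int.ofNat 0, Int.ofNat 2, Int.ofNat 0, Int.ofNat 2],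
  [Int.ofNat 0, Int.ofNat 0, Int.ofNat 0, Int.ofNat 0, Int.ofNat 0, Int.ofNat 0, Int.ofNat 0, Int.ofNat 0, Int.ofNat 0, Int.ofNat 0, Int.ofNat 0, Int.ofNat 0, Int.ofNat 0, Int.ofNat 0, Int.ofNat 0, Int.ofNat 0, Int.ofNat 0, Int.ofNat 0, Int.ofNat 0, Int.ofNat 0, Int.ofNat 0, Int.ofNat 4, Int.ofNat 0, Int.negSucc 3],
  [Int.ofNat 0, Int.ofNat 4, Int.ofNat 0, Int.ofNat 0, Int.ofNat 0, Int.ofNat 0, Int.ofNat 0, Int.ofNat 0, Int.ofNat 0, Int.ofNat 0, Int.ofNat 0, Int.ofNat 0, Int.ofNat 0, Int.ofNat 0, Int.ofNat 0, Int.ofNat 0, Int.ofNat 0, Int.ofNat 0, Int.ofNat 0, Int.ofNat 0, Int.ofNat 0, Int.ofNat 0, Int.ofNat 0, Int.negSucc 3],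
  [Int.ofNat 0, Int.negSucc 3, Int.ofNat 0, Int.ofNat 0, Int.ofNat 0, Int.ofNat 0, Int.ofNat 0, Int.ofNat 0, Int.ofNat 0, Int.ofNat 0, Int.ofNat 0, Int.ofNat 0, Int.ofNat 0, Int.ofNat 0, Int.ofNat 0, Int.ofNat 0, Int.ofNat 0, Int.ofNat 0, Int.ofNat 0, Int.ofNat 0, Int.ofNat 0, Int.ofNat 0, Int.ofNat 0, Int.ofNat 4],
  [Int.negSucc 3, Int.ofNat 0, Int.ofNat 0, Int.ofNat 0, Int.ofNat 0, Int.ofNat 0, Int.ofNat 0, Int.ofNat 0, Int.ofNat 0, Int.ofNat 0, Int.ofNat 0, Int.ofNat 0, Int.ofNat 0, Int.ofNat 0, Int.ofNat 0, Int.ofNat 0, Int.ofNat 0, Int.ofNat 0, Int.ofNat 0, Int.ofNat 0, Int.ofNat 0, Int.ofNat 0, Int.ofNat 0, Int.ofNat 4],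
  [Int.ofNat 4, Int.ofNat 0, Int.ofNat 0, Int.ofNat 0, Int.ofNat 0, Int.ofNat 0, Int.ofNat 0, Int.ofNat 0, Int.ofNat 0, Int.ofNat 0, Int.ofNat 0, Int.ofNat 0, Int.ofNat 0, Int.ofNat 0, Int.ofNat 0, Int.ofNat 0, Int.ofNat 0, Int.ofNat 0, Int.ofNat 0, Int.ofNat 0, Int.ofNat 0, Int.ofNat 0, Int.ofNat 0, Int.ofNat 4],
  [Int.ofNat 4, Int.ofNat 0, Int.ofNat 0, Int.ofNat 0, Int.ofNat 0, Int.ofNat 0, Int.ofNat 0, Int.ofNat 0, Int.ofNat 0, Int.ofNat 0, Int.ofNat 0, Int.ofNat 0, Int.ofNat 0, Int.ofNat 0, Int.ofNat 0, Int.ofNat 0, Int.ofNat 0, Int.ofNat 0, Int.ofNat 0, Int.ofNat 0, Int.ofNat 0, Int.ofNat 0, Int.ofNat 0, Int.ofNat 4],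
  [Int.negSucc 3, Int.ofNat 0, Int.ofNat 0, Int.ofNat 0, Int.ofNat 0, Int.ofNat 0, Int.ofNat 0, Int.ofNat 0, Int.ofNat 0, Int.ofNat 0, Int.ofNat 0, Int.ofNat 0, Int.ofNat 0, Int.ofNat 0, Int.ofNat 0, Int.ofNat 0, Int.ofNat 0, Int.ofNat 0, Int.ofNat 0, Int.ofNat 0, Int.ofNat 0, Int.ofNat 0, Int.ofNat 0, Int.ofNat 4],
  [Int.ofNat 0, Int.negSucc 3, Int.ofNat 0, Int.ofNat 0, Int.ofNat 0, Int.ofNat 0, Int.ofNat 0, Int.ofNat 0, Int.ofNat 0, Int.ofNat 0, Int.ofNat 0, Int.ofNat 0, Int.ofNat 0, Int.ofNat 0, Int.ofNat 0, Int.ofNat 0, Int.ofNat 0, Int.ofNat 0, Int.ofNat 0, Int.ofNat 0, Int.ofNat 0, Int.ofNat 0, Int.ofNat 0, Int.ofNat 4],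
  [Int.ofNat 0, Int.ofNat 4, Int.ofNat 0, Int.ofNat 0, Int.ofNat 0, Int.ofNat 0, Int.ofNat 0, Int.ofNat 0, Int.ofNat 0, Int.ofNat 0, Int.ofNat 0, Int.ofNat 0, Int.ofNat 0, Int.ofNat 0, Int.ofNat 0, Int.ofNat 0, Int.ofNat 0, Int.ofNat 0, Int.ofNat 0, Int.ofNat 0, Int.ofNat 0, Int.ofNat 0, Int.ofNat 0, Int.negSucc 3],
  [Int.ofNat 0, Int.ofNat 0, Int.ofNat 0, Int.ofNat 0, Int.ofNat 0, Int.ofNat 0, Int.ofNat 0, Int.ofNat 0, Int.ofNat 0, Int.ofNat 0, Int.ofNat 0, Int.ofNat 0, Int.ofNat 0, Int.ofNat 0, Int.ofNat 0, Int.ofNat 0, Int.ofNat 0, Int.ofNat 0, Int.ofNat 0, Int.ofNat 0, Int.ofNat 0, Int.ofNat 4, Int.ofNat 0, Int.negSucc 3],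
  [Int.negSucc 1, Int.negSucc 1, Int.negSucc 1, Int.ofNat 0, Int.ofNat 0, Int.ofNat 0, Int.negSucc 1, Int.negSucc 1, Int.ofNat 0, Int.ofNat 0, Int.ofNat 0, Int.ofNat 0, Int.ofNat 0, Int.ofNat 0, Int.ofNat 0, Int.ofNat 0, Int.ofNat 0, Int.ofNat 0, Int.ofNat 0, Int.negSucc 1, Int.ofNat 0, Int.ofNat 2, Int.ofNat 0, Int.ofNat 2],
  [Int.negSucc 1, Int.negSucc 1, Int.ofNat 0, Int.ofNat 0, Int.ofNat 0, Int.negSucc 1, Int.negSucc 1, Int.ofNat 0, Int.ofNat 0, Int.ofNat 0, Int.ofNat 0, Int.ofNat 0, Int.ofNat 0, Int.ofNat 0, Int.ofNat 0, Int.ofNat 0, Int.ofNat 0, Int.ofNat 0, Int.negSucc 1, Int.ofNat 0, Int.ofNat 2, Int.ofNat 0, Int.negSucc 1, Int.ofNat 2],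
  [Int.ofNat 1, Int.ofNat 1, Int.negSucc 0, Int.ofNat 1, Int.ofNat 1, Int.negSucc 0, Int.negSucc 0, Int.ofNat 1, Int.ofNat 1, Int.negSucc 0, Int.negSucc 0, Int.ofNat 1, Int.ofNat 1, Int.ofNat 1, Int.ofNat 1, Int.negSucc 0, Int.ofNat 1, Int.ofNat 1, Int.negSucc 0, Int.ofNat 1, Int.ofNat 1, Int.ofNat 1, Int.negSucc 0, Int.negSucc 2],
  [Int.ofNat 1, Int.ofNat 1, Int.ofNat 1, Int.ofNat 1, Int.ofNat 1, Int.ofNat 1, Int.ofNat 1, Int.ofNat 1, Int.ofNat 1, Int.ofNat 1, Int.ofNat 1, Int.ofNat 1, Int.ofNat 1, Int.ofNat 1, Int.ofNat 1, Int.ofNat 1, Int.ofNat 1, Int.ofNat 1, Int.ofNat 1, Int.ofNat 1, Int.ofNat 1, Int.ofNat 1, Int.ofNat 1, Int.negSucc 2],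
  [Int.ofNat 1, Int.ofNat 1, Int.ofNat 1, Int.ofNat 1, Int.ofNat 1, Int.ofNat 1, Int.ofNat 1, Int.ofNat 1, Int.ofNat 1, Int.ofNat 1, Int.ofNat 1, Int.ofNat 1, Int.ofNat 1, Int.ofNat 1, Int.ofNat 1, Int.ofNat 1, Int.ofNat 1, Int.ofNat 1, Int.ofNat 1, Int.ofNat 1, Int.ofNat 1, Int.ofNat 1, Int.ofNat 1, Int.negSucc 2],
  [Int.ofNat 1, Int.ofNat 1, Int.negSucc 0, Int.ofNat 1, Int.ofNat 1, Int.negSucc 0, Int.negSucc 0, Int.ofNat 1, Int.ofNat 1, Int.negSucc 0, Int.negSucc 0, Int.ofNat 1, Int.ofNat 1, Int.ofNat 1, Int.ofNat 1, Int.negSucc 0, Int.ofNat 1, Int.ofNat 1, Int.negSucc 0, Int.ofNat 1, Int.ofNat 1, Int.ofNat 1, Int.negSucc 0, Int.negSucc 2],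
  [Int.negSucc 1, Int.negSucc 1, Int.ofNat 0, Int.ofNat 0, Int.ofNat 0, Int.negSucc 1, Int.negSucc 1, Int.ofNat 0, Int.ofNat 0, Int.ofNat 0, Int.ofNat 0, Int.ofNat 0, Int.ofNat 0, Int.ofNat 0, Int.ofNat 0, Int.ofNat 0, Int.ofNat 0, Int.ofNat 0, Int.negSucc 1, Int.ofNat 0, Int.ofNat 2, Int.ofNat 0, Int.negSucc 1, Int.ofNat 2],
  [Int.negSucc 1, Int.negSucc 1, Int.negSucc 1, Int.ofNat 0, Int.ofNat 0, Int.ofNat 0, Int.negSucc 1, Int.negSucc 1, Int.ofNat 0, Int.ofNat 0, Int.ofNat 0, Int.ofNat 0, Int.ofNat 0, Int.ofNat 0, Int.ofNat 0, Int.ofNat 0, Int.ofNat 0, Int.ofNat 0, Int.ofNat 0, Int.negSucc 1, Int.ofNat 0, Int.ofNat 2, Int.ofNat 0, Int.ofNat 2],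
  [Int.ofNat 0, Int.ofNat 0, Int.ofNat 0, Int.ofNat 0, Int.ofNat 0, Int.ofNat 0, Int.ofNat 0, Int.ofNat 0, Int.ofNat 0, Int.ofNat 0, Int.ofNat 0, Int.ofNat 0, Int.ofNat 0, Int.ofNat 0, Int.ofNat 0, Int.ofNat 0, Int.ofNat 0, Int.ofNat 0, Int.ofNat 0, Int.ofNat 0, Int.ofNat 0, Int.ofNat 4, Int.ofNat 0, Int.negSucc 3],
  [Int.ofNat 0, Int.ofNat 4, Int.ofNat 0, Int.ofNat 0, Int.ofNat 0, Int.ofNat 0, Int.ofNat 0, Int.ofNat 0, Int.ofNat 0, Int.ofNat 0, Int.ofNat 0, Int.ofNat 0, Int.ofNat 0, Int.ofNat 0, Int.ofNat 0, Int.ofNat 0, Int.ofNat 0, Int.ofNat 0, Int.ofNat 0, Int.ofNat 0, Int.ofNat 0, Int.ofNat 0, Int.ofNat 0, Int.negSucc 3],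
  [Int.ofNat 0, Int.negSucc 3, Int.ofNat 0, Int.ofNat 0, Int.ofNat 0, Int.ofNat 0, Int.ofNat 0, Int.ofNat 0, Int.ofNat 0, Int.ofNat 0, Int.ofNat 0, Int.ofNat 0, Int.ofNat 0, Int.ofNat 0, Int.ofNat 0, Int.ofNat 0, Int.ofNat 0, Int.ofNat 0, Int.ofNat 0, Int.ofNat 0, Int.ofNat 0, Int.ofNat 0, Int.ofNat 0, Int.ofNat 4],
  [Int.negSucc 3, Int.ofNat 0, Int.ofNat 0, Int.ofNat 0, Int.ofNat 0, Int.ofNat 0, Int.ofNat 0, Int.ofNat 0, Int.ofNat 0, Int.ofNat 0, Int.ofNat 0, Int.ofNat 0, Int.ofNat 0, Int.ofNat 0, Int.ofNat 0, Int.ofNat 0, Int.ofNat 0, Int.ofNat 0, Int.ofNat 0, Int.ofNat 0, Int.ofNat 0, Int.ofNat 0, Int.ofNat 0, Int.ofNat 4],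
  [Int.ofNat 4, Int.ofNat 0, Int.ofNat 0, Int.ofNat 0, Int.ofNat 0, Int.ofNat 0, Int.ofNat 0, Int.ofNat 0, Int.ofNat 0, Int.ofNat 0, Int.ofNat 0, Int.ofNat 0, Int.ofNat 0, Int.ofNat 0, Int.ofNat 0, Int.ofNat 0, Int.ofNat 0, Int.ofNat 0, Int.ofNat 0, Int.ofNat 0, Int.ofNat 0, Int.ofNat 0, Int.ofNat 0, Int.ofNat 4],
  [Int.ofNat 4, Int.ofNat 0, Int.ofNat 0, Int.ofNat 0, Int.ofNat 0, Int.ofNat 0, Int.ofNat 0, Int.ofNat 0, Int.ofNat 0, Int.ofNat 0, Int.ofNat 0, Int.ofNat 0, Int.ofNat 0, Int.ofNat 0, Int.ofNat 0, Int.ofNat 0, Int.ofNat 0, Int.ofNat 0, Int.ofNat 0, Int.ofNat 0, Int.ofNat 0, Int.ofNat 0, Int.ofNat 0, Int.ofNat 4],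
  [Int.negSucc 3, Int.ofNat 0, Int.ofNat 0, Int.ofNat 0, Int.ofNat 0, Int.ofNat 0, Int.ofNat 0, Int.ofNat 0, Int.ofNat 0, Int.ofNat 0, Int.ofNat 0, Int.ofNat 0, Int.ofNat 0, Int.ofNat 0, Int.ofNat 0, Int.ofNat 0, Int.ofNat 0, Int.ofNat 0, Int.ofNat 0, Int.ofNat 0, Int.ofNat 0, Int.ofNat 0, Int.ofNat 0, Int.ofNat 4],
  [Int.ofNat 0, Int.negSucc 3, Int.ofNat 0, Int.ofNat 0, Int.ofNat 0, Int.ofNat 0, Int.ofNat 0, Int.ofNat 0, Int.ofNat 0, Int.ofNat 0, Int.ofNat 0, Int.ofNat 0, Int.ofNat 0, Int.ofNat 0, Int.ofNat 0, Int.ofNat 0, Int.ofNat 0, Int.ofNat 0, Int.ofNat 0, Int.ofNat 0, Int.ofNat 0, Int.ofNat 0, Int.ofNat 0, Int.ofNat 4],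
  [Int.ofNat 0, Int.ofNat 4, Int.ofNat 0, Int.ofNat 0, Int.ofNat 0, Int.ofNat 0, Int.ofNat 0, Int.ofNat 0, Int.ofNat 0, Int.ofNat 0, Int.ofNat 0, Int.ofNat 0, Int.ofNat 0, Int.ofNat 0, Int.ofNat 0, Int.ofNat 0, Int.ofNat 0, Int.ofNat 0, Int.ofNat 0, Int.ofNat 0, Int.ofNat 0, Int.ofNat 0, Int.ofNat 0, Int.negSucc 3],
  [Int.ofNat 0, Int.ofNat 0, Int.ofNat 0, Int.ofNat 0, Int.ofNat 0, Int.ofNat 0, Int.ofNat 0, Int.ofNat 0, Int.ofNat 0, Int.ofNat 0, Int.ofNat 0, Int.ofNat 0, Int.ofNat 0, Int.ofNat 0, Int.ofNat 0, Int.ofNat 0, Int.ofNat 0, Int.ofNat 0, Int.ofNat 0, Int.ofNat 0, Int.ofNat 0, Int.ofNat 4, Int.ofNat 0, Int.negSucc 3],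
  [Int.negSucc 1, Int.negSucc 1, Int.negSucc 1, Int.ofNat 0, Int.ofNat 0, Int.ofNat 0, Int.negSucc 1, Int.negSucc 1, Int.ofNat 0, Int.ofNat 0, Int.ofNat 0, Int.ofNat 0, Int.ofNat 0, Int.ofNat 0, Int.ofNat 0, Int.ofNat 0, Int.ofNat 0, Int.ofNat 0, Int.ofNat 0, Int.negSucc 1, Int.ofNat 0, Int.ofNat 2, Int.ofNat 0, Int.ofNat 2],
  [Int.negSucc 1, Int.negSucc 1, Int.ofNat 0, Int.ofNat 0, Int.ofNat 0, Int.negSucc 1, Int.negSucc 1, Int.ofNat 0, Int.ofNat 0, Int.ofNat 0, Int.ofNat 0, Int.ofNat 0, Int.ofNat 0, Int.ofNat 0, Int.ofNat 0, Int.ofNat 0, Int.ofNat 0, Int.ofNat 0, Int.negSucc 1, Int.ofNat 0, Int.ofNat 2, Int.ofNat 0, Int.negSucc 1, Int.ofNat 2],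
  [Int.ofNat 1, Int.ofNat 1, Int.negSucc 0, Int.ofNat 1, Int.ofNat 1, Int.negSucc 0, Int.negSucc 0, Int.ofNat 1, Int.ofNat 1, Int.negSucc 0, Int.negSucc 0, Int.ofNat 1, Int.ofNat 1, Int.ofNat 1, Int.ofNat 1, Int.negSucc 0, Int.ofNat 1, Int.ofNat 1, Int.negSucc 0, Int.ofNat 1, Int.ofNat 1, Int.ofNat 1, Int.negSucc 0, Int.negSucc 2],
  [Int.ofNat 1, Int.ofNat 1, Int.ofNat 1, Int.ofNat 1, Int.ofNat 1, Int.ofNat 1, Int.ofNat 1, Int.ofNat 1, Int.ofNat 1, Int.ofNat 1, Int.ofNat 1, Int.ofNat 1, Int.ofNat 1, Int.ofNat 1, Int.ofNat 1, Int.ofNat 1, Int.ofNat 1, Int.ofNat 1, Int.ofNat 1, Int.ofNat 1, Int.ofNat 1, Int.ofNat 1, Int.ofNat 1, Int.negSucc 2],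
  [Int.ofNat 1, Int.ofNat 1, Int.ofNat 1, Int.ofNat 1, Int.ofNat 1, Int.ofNat 1, Int.ofNat 1, Int.ofNat 1, Int.ofNat 1, Int.ofNat 1, Int.ofNat 1, Int.ofNat 1, Int.ofNat 1, Int.ofNat 1, Int.ofNat 1, Int.ofNat 1, Int.ofNat 1, Int.ofNat 1, Int.ofNat 1, Int.ofNat 1, Int.ofNat 1, Int.ofNat 1, Int.ofNat 1, Int.negSucc 2],
  [Int.ofNat 1, Int.ofNat 1, Int.negSucc 0, Int.ofNat 1, Int.ofNat 1, Int.negSucc 0, Int.negSucc 0, Int.ofNat 1, Int.ofNat 1, Int.negSucc 0, Int.negSucc 0, Int.ofNat 1, Int.ofNat 1, Int.ofNat 1, Int.ofNat 1, Int.negSucc 0, Int.ofNat 1, Int.ofNat 1, Int.negSucc 0, Int.ofNat 1, Int.ofNat 1, Int.ofNat 1, Int.negSucc 0, Int.negSucc 2],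
  [Int.negSucc 1, Int.negSucc 1, Int.ofNat 0, Int.ofNat 0, Int.ofNat 0, Int.negSucc 1, Int.negSucc 1, Int.ofNat 0, Int.ofNat 0, Int.ofNat 0, Int.ofNat 0, Int.ofNat 0, Int.ofNat 0, Int.ofNat 0, Int.ofNat 0, Int.ofNat 0, Int.ofNat 0, Int.ofNat 0, Int.negSucc 1, Int.ofNat 0, Int.ofNat 2, Int.ofNat 0, Int.negSucc 1, Int.ofNat 2],
  [Int.negSucc 1, Int.negSucc 1, Int.negSucc 1, Int.ofNat 0, Int.ofNat 0, Int.ofNat 0, Int.negSucc 1, Int.negSucc 1, Int.ofNat 0, Int.ofNat 0, Int.ofNat 0, Int.ofNat 0, Int.ofNat 0, Int.ofNat 0, Int.ofNat 0, Int.ofNat 0, Int.ofNat 0, Int.ofNat 0, Int.ofNat 0, Int.negSucc 1, Int.ofNat 0, Int.ofNat 2, Int.ofNat 0, Int.ofNat 2],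
  [Int.ofNat 0, Int.ofNat 0, Int.ofNat 0, Int.ofNat 0, Int.ofNat 0, Int.ofNat 0, Int.ofNat 0, Int.ofNat 0, Int.ofNat 0, Int.ofNat 0, Int.ofNat 0, Int.ofNat 0, Int.ofNat 0, Int.ofNat 0, Int.ofNat 0, Int.ofNat 0, Int.ofNat 0, Int.ofNat 0, Int.ofNat 0, Int.ofNat 0, Int.ofNat 0, Int.ofNat 4, Int.ofNat 0, Int.negSucc 3],
  [Int.ofNat 0, Int.ofNat 4, Int.ofNat 0, Int.ofNat 0, Int.ofNat 0, Int.ofNat 0, Int.ofNat 0, Int.ofNat 0, Int.ofNat 0, Int.ofNat 0, Int.ofNat 0, Int.ofNat 0, Int.ofNat 0, Int.ofNat 0, Int.ofNat 0, Int.ofNat 0, Int.ofNat 0, Int.ofNat 0, Int.ofNat 0, Int.ofNat 0, Int.ofNat 0, Int.ofNat 0, Int.ofNat 0, Int.negSucc 3],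
  [Int.ofNat 0, Int.negSucc 3, Int.ofNat 0, Int.ofNat 0, Int.ofNat 0, Int.ofNat 0, Int.ofNat 0, Int.ofNat 0, Int.ofNat 0, Int.ofNat 0, Int.ofNat 0, Int.ofNat 0, Int.ofNat 0, Int.ofNat 0, Int.ofNat 0, Int.ofNat 0, Int.ofNat 0, Int.ofNat 0, Int.ofNat 0, Int.ofNat 0, Int.ofNat 0, Int.ofNat 0, Int.ofNat 0, Int.ofNat 4],
  [Int.negSucc 3, Int.ofNat 0, Int.ofNat 0, Int.ofNat 0, Int.ofNat 0, Int.ofNat 0, Int.ofNat 0, Int.ofNat 0, Int.ofNat 0, Int.ofNat 0, Int.ofNat 0, Int.ofNat 0, Int.ofNat 0, Int.ofNat 0, Int.ofNat 0, Int.ofNat 0, Int.ofNat 0, Int.ofNat 0, Int.ofNat 0, Int.ofNat 0, Int.ofNat 0, Int.ofNat 0, Int.ofNat 0, Int.ofNat 4],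
  [Int.ofNat 4, Int.ofNat 0, Int.ofNat 0, Int.ofNat 0, Int.ofNat 0, Int.ofNat 0, Int.ofNat 0, Int.ofNat 0, Int.ofNat 0, Int.ofNat 0, Int.ofNat 0, Int.ofNat 0, Int.ofNat 0, Int.ofNat 0, Int.ofNat 0, Int.ofNat 0, Int.ofNat 0, Int.ofNat 0, Int.ofNat 0, Int.ofNat 0, Int.ofNat 0, Int.ofNat 0, Int.ofNat 0, Int.ofNat 4],
  [Int.ofNat 4, Int.ofNat 0, Int.ofNat 0, Int.ofNat 0, Int.ofNat 0, Int.ofNat 0, Int.ofNat 0, Int.ofNat 0, Int.ofNat 0, Int.ofNat 0, Int.ofNat 0, Int.ofNat 0, Int.ofNat 0, Int.ofNat 0, Int.ofNat 0, Int.ofNat 0, Int.ofNat 0, Int.ofNat 0, Int.ofNat 0, Int.ofNat 0, Int.ofNat 0, Int.ofNat 0, Int.ofNat 0, Int.ofNat 4],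
  [Int.negSucc 3, Int.ofNat 0, Int.ofNat 0, Int.ofNat 0, Int.ofNat 0, Int.ofNat 0, Int.ofNat 0, Int.ofNat 0, Int.ofNat 0, Int.ofNat 0, Int.ofNat 0, Int.ofNat 0, Int.ofNat 0, Int.ofNat 0, Int.ofNat 0, Int.ofNat 0, Int.ofNat 0, Int.ofNat 0, Int.ofNat 0, Int.ofNat 0, Int.ofNat 0, Int.ofNat 0, Int.ofNat 0, Int.ofNat 4],
  [Int.ofNat 0, Int.negSucc 3, Int.ofNat 0, Int.ofNat 0, Int.ofNat 0, Int.ofNat 0, Int.ofNat 0, Int.ofNat 0, Int.ofNat 0, Int.ofNat 0, Int.ofNat 0, Int.ofNat 0, Int.ofNat 0, Int.ofNat 0, Int.ofNat 0, Int.ofNat 0, Int.ofNat 0, Int.ofNat 0, Int.ofNat 0, Int.ofNat 0, Int.ofNat 0, Int.ofNat 0, Int.ofNat 0, Int.ofNat 4],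
  [Int.ofNat 0, Int.ofNat 4, Int.ofNat 0, Int.ofNat 0, Int.ofNat 0, Int.ofNat 0, Int.ofNat 0, Int.ofNat 0, Int.ofNat 0, Int.ofNat 0, Int.ofNat 0, Int.ofNat 0, Int.ofNat 0, Int.ofNat 0, Int.ofNat 0, Int.ofNat 0, Int.ofNat 0, Int.ofNat 0, Int.ofNat 0, Int.ofNat 0, Int.ofNat 0, Int.ofNat 0, Int.ofNat 0, Int.negSucc 3],
  [Int.ofNat 0, Int.ofNat 0, Int.ofNat 0, Int.ofNat 0, Int.ofNat 0, Int.ofNat 0, Int.ofNat 0, Int.ofNat 0, Int.ofNat 0, Int.ofNat 0, Int.ofNat 0, Int.ofNat 0, Int.ofNat 0, Int.ofNat 0, Int.ofNat 0, Int.ofNat 0, Int.ofNat 0, Int.ofNat 0, Int.ofNat 0, Int.ofNat 0, Int.ofNat 0, Int.ofNat 4, Int.ofNat 0, Int.negSucc 3],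
  [Int.negSucc 1, Int.negSucc 1, Int.negSucc 1, Int.ofNat 0, Int.ofNat 0, Int.ofNat 0, Int.negSucc 1, Int.negSucc 1, Int.ofNat 0, Int.ofNat 0, Int.ofNat 0, Int.ofNat 0, Int.ofNat 0, Int.ofNat 0, Int.ofNat 0, Int.ofNat 0, Int.ofNat 0, Int.ofNat 0, Int.ofNat 0, Int.negSucc 1, Int.ofNat 0, Int.ofNat 2, Int.ofNat 0, Int.ofNat 2],
  [Int.negSucc 1, Int.negSucc 1, Int.ofNat 0, Int.ofNat 0, Int.ofNat 0, Int.negSucc 1, Int.negSucc 1, Int.ofNat 0, Int.ofNat 0, Int.ofNat 0, Int.ofNat 0, Int.ofNat 0, Int.ofNat 0, Int.ofNat 0, Int.ofNat 0, Int.ofNat 0, Int.ofNat 0, Int.ofNat 0, Int.negSucc 1, Int.ofNat 0, Int.ofNat 2, Int.ofNat 0, Int.negSucc 1, Int.ofNat 2],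
  [Int.ofNat 1, Int.ofNat 1, Int.negSucc 0, Int.ofNat 1, Int.ofNat 1, Int.negSucc 0, Int.negSucc 0, Int.ofNat 1, Int.ofNat 1, Int.negSucc 0, Int.negSucc 0, Int.ofNat 1, Int.ofNat 1, Int.ofNat 1, Int.ofNat 1, Int.negSucc 0, Int.ofNat 1, Int.ofNat 1, Int.negSucc 0, Int.ofNat 1, Int.ofNat 1, Int.ofNat 1, Int.negSucc 0, Int.negSucc 2],
  [Int.ofNat 1, Int.ofNat 1, Int.ofNat 1, Int.ofNat 1, Int.ofNat 1, Int.ofNat 1, Int.ofNat 1, Int.ofNat 1, Int.ofNat 1, Int.ofNat 1, Int.ofNat 1, Int.ofNat 1, Int.ofNat 1, Int.ofNat 1, Int.ofNat 1, Int.ofNat 1, Int.ofNat 1, Int.ofNat 1, Int.ofNat 1, Int.ofNat 1, Int.ofNat 1, Int.ofNat 1, Int.ofNat 1, Int.negSucc 2],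
  [Int.ofNat 1, Int.ofNat 1, Int.ofNat 1, Int.ofNat 1, Int.ofNat 1, Int.ofNat 1, Int.ofNat 1, Int.ofNat 1, Int.ofNat 1, Int.ofNat 1, Int.ofNat 1, Int.ofNat 1, Int.ofNat 1, Int.ofNat 1, Int.ofNat 1, Int.ofNat 1, Int.ofNat 1, Int.ofNat 1, Int.ofNat 1, Int.ofNat 1, Int.ofNat 1, Int.ofNat 1, Int.ofNat 1, Int.negSucc 2],
  [Int.ofNat 1, Int.ofNat 1, Int.negSucc 0, Int.ofNat 1, Int.ofNat 1, Int.negSucc 0, Int.negSucc 0, Int.ofNat 1, Int.ofNat 1, Int.negSucc 0, Int.negSucc 0, Int.ofNat 1, Int.ofNat 1, Int.ofNat 1, Int.ofNat 1, Int.negSucc 0, Int.ofNat 1, Int.ofNat 1, Int.negSucc 0, Int.ofNat 1, Int.ofNat 1, Int.ofNat 1, Int.negSucc 0, Int.negSucc 2],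
  [Int.negSucc 1, Int.negSucc 1, Int.ofNat 0, Int.ofNat 0, Int.ofNat 0, Int.negSucc 1, Int.negSucc 1, Int.ofNat 0, Int.ofNat 0, Int.ofNat 0, Int.ofNat 0, Int.ofNat 0, Int.ofNat 0, Int.ofNat 0, Int.ofNat 0, Int.ofNat 0, Int.ofNat 0, Int.ofNat 0, Int.negSucc 1, Int.ofNat 0, Int.ofNat 2, Int.ofNat 0, Int.negSucc 1, Int.ofNat 2],
  [Int.negSucc 1, Int.negSucc 1, Int.negSucc 1, Int.ofNat 0, Int.ofNat 0, Int.ofNat 0, Int.negSucc 1, Int.negSucc 1, Int.ofNat 0, Int.ofNat 0, Int.ofNat 0, Int.ofNat 0, Int.ofNat 0, Int.ofNat 0, Int.ofNat 0, Int.ofNat 0, Int.ofNat 0, Int.ofNat 0, Int.ofNat 0, Int.negSucc 1, Int.ofNat 0, Int.ofNat 2, Int.ofNat 0, Int.ofNat 2],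
  [Int.ofNat 0, Int.ofNat 0, Int.ofNat 0, Int.ofNat 0, Int.ofNat 0, Int.ofNat 0, Int.ofNat 0, Int.ofNat 0, Int.ofNat 0, Int.ofNat 0, Int.ofNat 0, Int.ofNat 0, Int.ofNat 0, Int.ofNat 0, Int.ofNat 0, Int.ofNat 0, Int.ofNat 0, Int.ofNat 0, Int.ofNat 0, Int.ofNat 0, Int.ofNat 0, Int.ofNat 4, Int.ofNat 0, Int.negSucc 3],
  [Int.ofNat 0, Int.ofNat 4, Int.ofNat 0, Int.ofNat 0, Int.ofNat 0, Int.ofNat 0, Int.ofNat 0, Int.ofNat 0, Int.ofNat 0, Int.ofNat 0, Int.ofNat 0, Int.ofNat 0, Int.ofNat 0, Int.ofNat 0, Int.ofNat 0, Int.ofNat 0, Int.ofNat 0, Int.ofNat 0, Int.ofNat 0, Int.ofNat 0, Int.ofNat 0, Int.ofNat 0, Int.ofNat 0, Int.negSucc 3],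
  [Int.ofNat 0, Int.negSucc 3, Int.ofNat 0, Int.ofNat 0, Int.ofNat 0, Int.ofNat 0, Int.ofNat 0, Int.ofNat 0, Int.ofNat 0, Int.ofNat 0, Int.ofNat 0, Int.ofNat 0, Int.ofNat 0, Int.ofNat 0, Int.ofNat 0, Int.ofNat 0, Int.ofNat 0, Int.ofNat 0, Int.ofNat 0, Int.ofNat 0, Int.ofNat 0, Int.ofNat 0, Int.ofNat 0, Int.ofNat 4],
  [Int.negSucc 3, Int.ofNat 0, Int.ofNat 0, Int.ofNat 0, Int.ofNat 0, Int.ofNat 0, Int.ofNat 0, Int.ofNat 0, Int.ofNat 0, Int.ofNat 0, Int.ofNat 0, Int.ofNat 0, Int.ofNat 0, Int.ofNat 0, Int.ofNat 0, Int.ofNat 0, Int.ofNat 0, Int.ofNat 0, Int.ofNat 0, Int.ofNat 0, Int.ofNat 0, Int.ofNat 0, Int.ofNat 0, Int.ofNat 4],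
  [Int.ofNat 4, Int.ofNat 0, Int.ofNat 0, Int.ofNat 0, Int.ofNat 0, Int.ofNat 0, Int.ofNat 0, Int.ofNat 0, Int.ofNat 0, Int.ofNat 0, Int.ofNat 0, Int.ofNat 0, Int.ofNat 0, Int.ofNat 0, Int.ofNat 0, Int.ofNat 0, Int.ofNat 0, Int.ofNat 0, Int.ofNat 0, Int.ofNat 0, Int.ofNat 0, Int.ofNat 0, Int.ofNat 0, Int.ofNat 4],
  [Int.ofNat 4, Int.ofNat 0, Int.ofNat 0, Int.ofNat 0, Int.ofNat 0, Int.ofNat 0, Int.ofNat 0, Int.ofNat 0, Int.ofNat 0, Int.ofNat 0, Int.ofNat 0, Int.ofNat 0, Int.ofNat 0, Int.ofNat 0, Int.ofNat 0, Int.ofNat 0, Int.ofNat 0, Int.ofNat 0, Int.ofNat 0, Int.ofNat 0, Int.ofNat 0, Int.ofNat 0, Int.ofNat 0, Int.ofNat 4],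
  [Int.negSucc 3, Int.ofNat 0, Int.ofNat 0, Int.ofNat 0, Int.ofNat 0, Int.ofNat 0, Int.ofNat 0, Int.ofNat 0, Int.ofNat 0, Int.ofNat 0, Int.ofNat 0, Int.ofNat 0, Int.ofNat 0, Int.ofNat 0, Int.ofNat 0, Int.ofNat 0, Int.ofNat 0, Int.ofNat 0, Int.ofNat 0, Int.ofNat 0, Int.ofNat 0, Int.ofNat 0, Int.ofNat 0, Int.ofNat 4],
  [Int.ofNat 0, Int.negSucc 3, Int.ofNat 0, Int.ofNat 0, Int.ofNat 0, Int.ofNat 0, Int.ofNat 0, Int.ofNat 0, Int.ofNat 0, Int.ofNat 0, Int.ofNat 0, Int.ofNat 0, Int.ofNat 0, Int.ofNat 0, Int.ofNat 0, Int.ofNat 0, Int.ofNat 0, Int.ofNat 0, Int.ofNat 0, Int.ofNat 0, Int.ofNat 0, Int.ofNat 0, Int.ofNat 0, Int.ofNat 4],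
  [Int.ofNat 0, Int.ofNat 4, Int.ofNat 0, Int.ofNat 0, Int.ofNat 0, Int.ofNat 0, Int.ofNat 0, Int.ofNat 0, Int.ofNat 0, Int.ofNat 0, Int.ofNat 0, Int.ofNat 0, Int.ofNat 0, Int.ofNat 0, Int.ofNat 0, Int.ofNat 0, Int.ofNat 0, Int.ofNat 0, Int.ofNat 0, Int.ofNat 0, Int.ofNat 0, Int.ofNat 0, Int.ofNat 0, Int.negSucc 3],
  [Int.ofNat 0, Int.ofNat 0, Int.ofNat 0, Int.ofNat 0, Int.ofNat 0, Int.ofNat 0, Int.ofNat 0, Int.ofNat 0, Int.ofNat 0, Int.ofNat 0, Int.ofNat 0, Int.ofNat 0, Int.ofNat 0, Int.ofNat 0, Int.ofNat 0, Int.ofNat 0, Int.ofNat 0, Int.ofNat 0, Int.ofNat 0, Int.ofNat 0, Int.ofNat 0, Int.ofNat 4, Int.ofNat 0, Int.negSucc 3],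
  [Int.negSucc 1, Int.negSucc 1, Int.negSucc 1, Int.ofNat 0, Int.ofNat 0, Int.ofNat 0, Int.negSucc 1, Int.negSucc 1, Int.ofNat 0, Int.ofNat 0, Int.ofNat 0, Int.ofNat 0, Int.ofNat 0, Int.ofNat 0, Int.ofNat 0, Int.ofNat 0, Int.ofNat 0, Int.ofNat 0, Int.ofNat 0, Int.negSucc 1, Int.ofNat 0, Int.ofNat 2, Int.ofNat 0, Int.ofNat 2],
  [Int.negSucc 1, Int.negSucc 1, Int.ofNat 0, Int.ofNat 0, Int.ofNat 0, Int.negSucc 1, Int.negSucc 1, Int.ofNat 0, Int.ofNat 0, Int.ofNat 0, Int.ofNat 0, Int.ofNat 0, Int.ofNat 0, Int.ofNat 0, Int.ofNat 0, Int.ofNat 0, Int.ofNat 0, Int.ofNat 0, Int.negSucc 1, Int.ofNat 0, Int.ofNat 2, Int.ofNat 0, Int.negSucc 1, Int.ofNat 2],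
  [Int.ofNat 1, Int.ofNat 1, Int.negSucc 0, Int.ofNat 1, Int.ofNat 1, Int.negSucc 0, Int.negSucc 0, Int.ofNat 1, Int.ofNat 1, Int.negSucc 0, Int.negSucc 0, Int.ofNat 1, Int.ofNat 1, Int.ofNat 1, Int.ofNat 1, Int.negSucc 0, Int.ofNat 1, Int.ofNat 1, Int.negSucc 0, Int.ofNat 1, Int.ofNat 1, Int.ofNat 1, Int.negSucc 0, Int.negSucc 2],
  [Int.ofNat 1, Int.ofNat 1, Int.ofNat 1, Int.ofNat 1, Int.ofNat 1, Int.ofNat 1, Int.ofNat 1, Int.ofNat 1, Int.ofNat 1, Int.ofNat 1, Int.ofNat 1, Int.ofNat 1, Int.ofNat 1, Int.ofNat 1, Int.ofNat 1, Int.ofNat 1, Int.ofNat 1, Int.ofNat 1, Int.ofNat 1, Int.ofNat 1, Int.ofNat 1, Int.ofNat 1, Int.ofNat 1, Int.negSucc 2],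
  [Int.ofNat 1, Int.ofNat 1, Int.ofNat 1, Int.ofNat 1, Int.ofNat 1, Int.ofNat 1, Int.ofNat 1, Int.ofNat 1, Int.ofNat 1, Int.ofNat 1, Int.ofNat 1, Int.ofNat 1, Int.ofNat 1, Int.ofNat 1, Int.ofNat 1, Int.ofNat 1, Int.ofNat 1, Int.ofNat 1, Int.ofNat 1, Int.ofNat 1, Int.ofNat 1, Int.ofNat 1, Int.ofNat 1, Int.negSucc 2],
  [Int.ofNat 1, Int.ofNat 1, Int.negSucc 0, Int.ofNat 1, Int.ofNat 1, Int.negSucc 0, Int.negSucc 0, Int.ofNat 1, Int.ofNat 1, Int.negSucc 0, Int.negSucc 0, Int.ofNat 1, Int.ofNat 1, Int.ofNat 1, Int.ofNat 1, Int.negSucc 0, Int.ofNat 1, Int.ofNat 1, Int.negSucc 0, Int.ofNat 1, Int.ofNat 1, Int.ofNat 1, Int.negSucc 0, Int.negSucc 2],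
  [Int.negSucc 1, Int.negSucc 1, Int.ofNat 0, Int.ofNat 0, Int.ofNat 0, Int.negSucc 1, Int.negSucc 1, Int.ofNat 0, Int.ofNat 0, Int.ofNat 0, Int.ofNat 0, Int.ofNat 0, Int.ofNat 0, Int.ofNat 0, Int.ofNat 0, Int.ofNat 0, Int.ofNat 0, Int.ofNat 0, Int.negSucc 1, Int.ofNat 0, Int.ofNat 2, Int.ofNat 0, Int.negSucc 1, Int.ofNat 2],
  [Int.negSucc 1, Int.negSucc 1, Int.negSucc 1, Int.ofNat 0, Int.ofNat 0, Int.ofNat 0, Int.negSucc 1, Int.negSucc 1, Int.ofNat 0, Int.ofNat 0, Int.ofNat 0, Int.ofNat 0, Int.ofNat 0, Int.ofNat 0, Int.ofNat 0, Int.ofNat 0, Int.ofNat 0, Int.ofNat 0, Int.ofNat 0, Int.negSucc 1, Int.ofNat 0, Int.ofNat 2, Int.ofNat 0, Int.ofNat 2],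
  [Int.ofNat 0, Int.ofNat 0, Int.ofNat 0, Int.ofNat 0, Int.ofNat 0, Int.ofNat 0, Int.ofNat 0, Int.ofNat 0, Int.ofNat 0, Int.ofNat 0, Int.ofNat 0, Int.ofNat 0, Int.ofNat 0, Int.ofNat 0, Int.ofNat 0, Int.ofNat 0, Int.ofNat 0, Int.ofNat 0, Int.ofNat 0, Int.ofNat 0, Int.ofNat 0, Int.ofNat 4, Int.ofNat 0, Int.negSucc 3],
  [Int.ofNat 0, Int.ofNat 4, Int.ofNat 0, Int.ofNat 0, Int.ofNat 0, Int.ofNat 0, Int.ofNat 0, Int.ofNat 0, Int.ofNat 0, Int.ofNat 0, Int.ofNat 0, Int.ofNat 0, Int.ofNat 0, Int.ofNat 0, Int.ofNat 0, Int.ofNat 0, Int.ofNat 0, Int.ofNat 0, Int.ofNat 0, Int.ofNat 0, Int.ofNat 0, Int.ofNat 0, Int.ofNat 0, Int.negSucc 3],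
  [Int.ofNat 0, Int.negSucc 3, Int.ofNat 0, Int.ofNat 0, Int.ofNat 0, Int.ofNat 0, Int.ofNat 0, Int.ofNat 0, Int.ofNat 0, Int.ofNat 0, Int.ofNat 0, Int.ofNat 0, Int.ofNat 0, Int.ofNat 0, Int.ofNat 0, Int.ofNat 0, Int.ofNat 0, Int.ofNat 0, Int.ofNat 0, Int.ofNat 0, Int.ofNat 0, Int.ofNat 0, Int.ofNat 0, Int.ofNat 4],
  [Int.negSucc 3, Int.ofNat 0, Int.ofNat 0, Int.ofNat 0, Int.ofNat 0, Int.ofNat 0, Int.ofNat 0, Int.ofNat 0, Int.ofNat 0, Int.ofNat 0, Int.ofNat 0, Int.ofNat 0, Int.ofNat 0, Int.ofNat 0, Int.ofNat 0, Int.ofNat 0, Int.ofNat 0, Int.ofNat 0, Int.ofNat 0, Int.ofNat 0, Int.ofNat 0, Int.ofNat 0, Int.ofNat 0, Int.ofNat 4],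
  [Int.ofNat 4, Int.ofNat 0, Int.ofNat 0, Int.ofNat 0, Int.ofNat 0, Int.ofNat 0, Int.ofNat 0, Int.ofNat 0, Int.ofNat 0, Int.ofNat 0, Int.ofNat 0, Int.ofNat 0, Int.ofNat 0, Int.ofNat 0, Int.ofNat 0, Int.ofNat 0, Int.ofNat 0, Int.ofNat 0, Int.ofNat 0, Int.ofNat 0, Int.ofNat 0, Int.ofNat 0, Int.ofNat 0, Int.ofNat 4],
  [Int.ofNat 4, Int.ofNat 0, Int.ofNat 0, Int.ofNat 0, Int.ofNat 0, Int.ofNat 0, Int.ofNat 0, Int.ofNat 0, Int.ofNat 0, Int.ofNat 0, Int.ofNat 0, Int.ofNat 0, Int.ofNat 0, Int.ofNat 0, Int.ofNat 0, Int.ofNat 0, Int.ofNat 0, Int.ofNat 0, Int.ofNat 0, Int.ofNat 0, Int.ofNat 0, Int.ofNat 0, Int.ofNat 0, Int.ofNat 4],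
  [Int.negSucc 3, Int.ofNat 0, Int.ofNat 0, Int.ofNat 0, Int.ofNat 0, Int.ofNat 0, Int.ofNat 0, Int.ofNat 0, Int.ofNat 0, Int.ofNat 0, Int.ofNat 0, Int.ofNat 0, Int.ofNat 0, Int.ofNat 0, Int.ofNat 0, Int.ofNat 0, Int.ofNat 0, Int.ofNat 0, Int.ofNat 0, Int.ofNat 0, Int.ofNat 0, Int.ofNat 0, Int.ofNat 0, Int.ofNat 4],
  [Int.ofNat 0, Int.negSucc 3, Int.ofNat 0, Int.ofNat 0, Int.ofNat 0, Int.ofNat 0, Int.ofNat 0, Int.ofNat 0, Int.ofNat 0, Int.ofNat 0, Int.ofNat 0, Int.ofNat 0, Int.ofNat 0, Int.ofNat 0, Int.ofNat 0, Int.ofNat 0, Int.ofNat 0, Int.ofNat 0, Int.ofNat 0, Int.ofNat 0, Int.ofNat 0, Int.ofNat 0, Int.ofNat 0, Int.ofNat 4],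
  [Int.ofNat 0, Int.ofNat 4, Int.ofNat 0, Int.ofNat 0, Int.ofNat 0, Int.ofNat 0, Int.ofNat 0, Int.ofNat 0, Int.ofNat 0, Int.ofNat 0, Int.ofNat 0, Int.ofNat 0, Int.ofNat 0, Int.ofNat 0, Int.ofNat 0, Int.ofNat 0, Int.ofNat 0, Int.ofNat 0, Int.ofNat 0, Int.ofNat 0, Int.ofNat 0, Int.ofNat 0, Int.ofNat 0, Int.negSucc 3],
  [Int.ofNat 0, Int.ofNat 0, Int.ofNat 0, Int.ofNat 0, Int.ofNat 0, Int.ofNat 0, Int.ofNat 0, Int.ofNat 0, Int.ofNat 0, Int.ofNat 0, Int.ofNat 0, Int.ofNat 0, Int.ofNat 0, Int.ofNat 0, Int.ofNat 0, Int.ofNat 0, Int.ofNat 0, Int.ofNat 0, Int.ofNat 0, Int.ofNat 0, Int.ofNat 0, Int.ofNat 4, Int.ofNat 0, Int.negSucc 3],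
  [Int.negSucc 1, Int.negSucc 1, Int.negSucc 1, Int.ofNat 0, Int.ofNat 0, Int.ofNat 0, Int.negSucc 1, Int.negSucc 1, Int.ofNat 0, Int.ofNat 0, Int.ofNat 0, Int.ofNat 0, Int.ofNat 0, Int.ofNat 0, Int.ofNat 0, Int.ofNat 0, Int.ofNat 0, Int.ofNat 0, Int.ofNat 0, Int.negSucc 1, Int.ofNat 0, Int.ofNat 2, Int.ofNat 0, Int.ofNat 2],
  [Int.negSucc 1, Int.negSucc 1, Int.ofNat 0, Int.ofNat 0, Int.ofNat 0, Int.negSucc 1, Int.negSucc 1, Int.ofNat 0, Int.ofNat 0, Int.ofNat 0, Int.ofNat 0, Int.ofNat 0, Int.ofNat 0, Int.ofNat 0, Int.ofNat 0, Int.ofNat 0, Int.ofNat 0, Int.ofNat 0, Int.negSucc 1, Int.ofNat 0, Int.ofNat 2, Int.ofNat 0, Int.negSucc 1, Int.ofNat 2],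
  [Int.ofNat 1, Int.ofNat 1, Int.negSucc 0, Int.ofNat 1, Int.ofNat 1, Int.negSucc 0, Int.negSucc 0, Int.ofNat 1, Int.ofNat 1, Int.negSucc 0, Int.negSucc 0, Int.ofNat 1, Int.ofNat 1, Int.ofNat 1, Int.ofNat 1, Int.negSucc 0, Int.ofNat 1, Int.ofNat 1, Int.negSucc 0, Int.ofNat 1, Int.ofNat 1, Int.ofNat 1, Int.negSucc 0, Int.negSucc 2],
  [Int.ofNat 1, Int.ofNat 1, Int.ofNat 1, Int.ofNat 1, Int.ofNat 1, Int.ofNat 1, Int.ofNat 1, Int.ofNat 1, Int.ofNat 1, Int.ofNat 1, Int.ofNat 1, Int.ofNat 1, Int.ofNat 1, Int.ofNat 1, Int.ofNat 1, Int.ofNat 1, Int.ofNat 1, Int.ofNat 1, Int.ofNat 1, Int.ofNat 1, Int.ofNat 1, Int.ofNat 1, Int.ofNat 1, Int.negSucc 2],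
  [Int.ofNat 1, Int.ofNat 1, Int.ofNat 1, Int.ofNat 1, Int.ofNat 1, Int.ofNat 1, Int.ofNat 1, Int.ofNat 1, Int.ofNat 1, Int.ofNat 1, Int.ofNat 1, Int.ofNat 1, Int.ofNat 1, Int.ofNat 1, Int.ofNat 1, Int.ofNat 1, Int.ofNat 1, Int.ofNat 1, Int.ofNat 1, Int.ofNat 1, Int.ofNat 1, Int.ofNat 1, Int.ofNat 1, Int.negSucc 2],
  [Int.ofNat 1, Int.ofNat 1, Int.negSucc 0, Int.ofNat 1, Int.ofNat 1, Int.negSucc 0, Int.negSucc 0, Int.ofNat 1, Int.ofNat 1, Int.negSucc 0, Int.negSucc 0, Int.ofNat 1, Int.ofNat 1, Int.ofNat 1, Int.ofNat 1, Int.negSucc 0, Int.ofNat 1, Int.ofNat 1, Int.negSucc 0, Int.ofNat 1, Int.ofNat 1, Int.ofNat 1, Int.negSucc 0, Int.negSucc 2],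
  [Int.negSucc 1, Int.negSucc 1, Int.ofNat 0, Int.ofNat 0, Int.ofNat 0, Int.negSucc 1, Int.negSucc 1, Int.ofNat 0, Int.ofNat 0, Int.ofNat 0, Int.ofNat 0, Int.ofNat 0, Int.ofNat 0, Int.ofNat 0, Int.ofNat 0, Int.ofNat 0, Int.ofNat 0, Int.ofNat 0, Int.negSucc 1, Int.ofNat 0, Int.ofNat 2, Int.ofNat 0, Int.negSucc 1, Int.ofNat 2],
  [Int.negSucc 1, Int.negSucc 1, Int.negSucc 1, Int.ofNat 0, Int.ofNat 0, Int.ofNat 0, Int.negSucc 1, Int.negSucc 1, Int.ofNat 0, Int.ofNat 0, Int.ofNat 0, Int.ofNat 0, Int.ofNat 0, Int.ofNat 0, Int.ofNat 0, Int.ofNat 0, Int.ofNat 0, Int.ofNat 0, Int.ofNat 0, Int.negSucc 1, Int.ofNat 0, Int.ofNat 2, Int.ofNat 0, Int.ofNat 2],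
  [Int.ofNat 0, Int.ofNat 0, Int.ofNat 0, Int.ofNat 0, Int.ofNat 0, Int.ofNat 0, Int.ofNat 0, Int.ofNat 0, Int.ofNat 0, Int.ofNat 0, Int.ofNat 0, Int.ofNat 0, Int.ofNat 0, Int.ofNat 0, Int.ofNat 0, Int.ofNat 0, Int.ofNat 0, Int.ofNat 0, Int.ofNat 0, Int.ofNat 0, Int.ofNat 0, Int.ofNat 4, Int.ofNat 0, Int.negSucc 3],
  [Int.ofNat 0, Int.ofNat 4, Int.ofNat 0, Int.ofNat 0, Int.ofNat 0, Int.ofNat 0, Int.ofNat 0, Int.ofNat 0, Int.ofNat 0, Int.ofNat 0, Int.ofNat 0, Int.ofNat 0, Int.ofNat 0, Int.ofNat 0, Int.ofNat 0, Int.ofNat 0, Int.ofNat 0, Int.ofNat 0, Int.ofNat 0, Int.ofNat 0, Int.ofNat 0, Int.ofNat 0, Int.ofNat 0, Int.negSucc 3],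
  [Int.ofNat 0, Int.negSucc 3, Int.ofNat 0, Int.ofNat 0, Int.ofNat 0, Int.ofNat 0, Int.ofNat 0, Int.ofNat 0, Int.ofNat 0, Int.ofNat 0, Int.ofNat 0, Int.ofNat 0, Int.ofNat 0, Int.ofNat 0, Int.ofNat 0, Int.ofNat 0, Int.ofNat 0, Int.ofNat 0, Int.ofNat 0, Int.ofNat 0, Int.ofNat 0, Int.ofNat 0, Int.ofNat 0, Int.ofNat 4],
  [Int.negSucc 3, Int.ofNat 0, Int.ofNat 0, Int.ofNat 0, Int.ofNat 0, Int.ofNat 0, Int.ofNat 0, Int.ofNat 0, Int.ofNat 0, Int.ofNat 0, Int.ofNat 0, Int.ofNat 0, Int.ofNat 0, Int.ofNat 0, Int.ofNat 0, Int.ofNat 0, Int.ofNat 0, Int.ofNat 0, Int.ofNat 0, Int.ofNat 0, Int.ofNat 0, Int.ofNat 0, Int.ofNat 0, Int.ofNat 4],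
  [Int.ofNat 4, Int.ofNat 0, Int.ofNat 0, Int.ofNat 0, Int.ofNat 0, Int.ofNat 0, Int.ofNat 0, Int.ofNat 0, Int.ofNat 0, Int.ofNat 0, Int.ofNat 0, Int.ofNat 0, Int.ofNat 0, Int.ofNat 0, Int.ofNat 0, Int.ofNat 0, Int.ofNat 0, Int.ofNat 0, Int.ofNat 0, Int.ofNat 0, Int.ofNat 0, Int.ofNat 0, Int.ofNat 0, Int.ofNat 4],
  [Int.ofNat 4, Int.ofNat 0, Int.ofNat 0, Int.ofNat 0, Int.ofNat 0, Int.ofNat 0, Int.ofNat 0, Int.ofNat 0, Int.ofNat 0, Int.ofNat 0, Int.ofNat 0, Int.ofNat 0, Int.ofNat 0, Int.ofNat 0, Int.ofNat 0, Int.ofNat 0, Int.ofNat 0, Int.ofNat 0, Int.ofNat 0, Int.ofNat 0, Int.ofNat 0, Int.ofNat 0, Int.ofNat 0, Int.ofNat 4],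
  [Int.negSucc 3, Int.ofNat 0, Int.ofNat 0, Int.ofNat 0, Int.ofNat 0, Int.ofNat 0, Int.ofNat 0, Int.ofNat 0, Int.ofNat 0, Int.ofNat 0, Int.ofNat 0, Int.ofNat 0, Int.ofNat 0, Int.ofNat 0, Int.ofNat 0, Int.ofNat 0, Int.ofNat 0, Int.ofNat 0, Int.ofNat 0, Int.ofNat 0, Int.ofNat 0, Int.ofNat 0, Int.ofNat 0, Int.ofNat 4],
  [Int.ofNat 0, Int.negSucc 3, Int.ofNat 0, Int.ofNat 0, Int.ofNat 0, Int.ofNat 0, Int.ofNat 0, Int.ofNat 0, Int.ofNat 0, Int.ofNat 0, Int.ofNat 0, Int.ofNat 0, Int.ofNat 0, Int.ofNat 0, Int.ofNat 0, Int.ofNat 0, Int.ofNat 0, Int.ofNat 0, Int.ofNat 0, Int.ofNat 0, Int.ofNat 0, Int.ofNat 0, Int.ofNat 0, Int.ofNat 4],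
  [Int.ofNat 0, Int.ofNat 4, Int.ofNat 0, Int.ofNat 0, Int.ofNat 0, Int.ofNat 0, Int.ofNat 0, Int.ofNat 0, Int.ofNat 0, Int.ofNat 0, Int.ofNat 0, Int.ofNat 0, Int.ofNat 0, Int.ofNat 0, Int.ofNat 0, Int.ofNat 0, Int.ofNat 0, Int.ofNat 0, Int.ofNat 0, Int.ofNat 0, Int.ofNat 0, Int.ofNat 0, Int.ofNat 0, Int.negSucc 3],
  [Int.ofNat 0, Int.ofNat 0, Int.ofNat 0, Int.ofNat 0, Int.ofNat 0, Int.ofNat 0, Int.ofNat 0, Int.ofNat 0, Int.ofNat 0, Int.ofNat 0, Int.ofNat 0, Int.ofNat 0, Int.ofNat 0, Int.ofNat 0, Int.ofNat 0, Int.ofNat 0, Int.ofNat 0, Int.ofNat 0, Int.ofNat 0, Int.ofNat 0, Int.ofNat 0, Int.ofNat 4, Int.ofNat 0, Int.negSucc 3],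
  [Int.negSucc 1, Int.negSucc 1, Int.negSucc 1, Int.ofNat 0, Int.ofNat 0, Int.ofNat 0, Int.negSucc 1, Int.negSucc 1, Int.ofNat 0, Int.ofNat 0, Int.ofNat 0, Int.ofNat 0, Int.ofNat 0, Int.ofNat 0, Int.ofNat 0, Int.ofNat 0, Int.ofNat 0, Int.ofNat 0, Int.ofNat 0, Int.negSucc 1, Int.ofNat 0, Int.ofNat 2, Int.ofNat 0, Int.ofNat 2],
  [Int.negSucc 1, Int.negSucc 1, Int.ofNat 0, Int.ofNat 0, Int.ofNat 0, Int.negSucc 1, Int.negSucc 1, Int.ofNat 0, Int.ofNat 0, Int.ofNat 0, Int.ofNat 0, Int.ofNat 0, Int.ofNat 0, Int.ofNat 0, Int.ofNat 0, Int.ofNat 0, Int.ofNat 0, Int.ofNat 0, Int.negSucc 1, Int.ofNat 0, Int.ofNat 2, Int.ofNat 0, Int.negSucc 1, Int.ofNat 2],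
  [Int.ofNat 1, Int.ofNat 1, Int.negSucc 0, Int.ofNat 1, Int.ofNat 1, Int.negSucc 0, Int.negSucc 0, Int.ofNat 1, Int.ofNat 1, Int.negSucc 0, Int.negSucc 0, Int.ofNat 1, Int.ofNat 1, Int.ofNat 1, Int.ofNat 1, Int.negSucc 0, Int.ofNat 1, Int.ofNat 1, Int.negSucc 0, Int.ofNat 1, Int.ofNat 1, Int.ofNat 1, Int.negSucc 0, Int.negSucc 2],
  [Int.ofNat 1, Int.ofNat 1, Int.ofNat 1, Int.ofNat 1, Int.ofNat 1, Int.ofNat 1, Int.ofNat 1, Int.ofNat 1, Int.ofNat 1, Int.ofNat 1, Int.ofNat 1, Int.ofNat 1, Int.ofNat 1, Int.ofNat 1, Int.ofNat 1, Int.ofNat 1, Int.ofNat 1, Int.ofNat 1, Int.ofNat 1, Int.ofNat 1, Int.ofNat 1, Int.ofNat 1, Int.ofNat 1, Int.negSucc 2],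
  [Int.ofNat 1, Int.ofNat 1, Int.ofNat 1, Int.ofNat 1, Int.ofNat 1, Int.ofNat 1, Int.ofNat 1, Int.ofNat 1, Int.ofNat 1, Int.ofNat 1, Int.ofNat 1, Int.ofNat 1, Int.ofNat 1, Int.ofNat 1, Int.ofNat 1, Int.ofNat 1, Int.ofNat 1, Int.ofNat 1, Int.ofNat 1, Int.ofNat 1, Int.ofNat 1, Int.ofNat 1, Int.ofNat 1, Int.negSucc 2],
  [Int.ofNat 1, Int.ofNat 1, Int.negSucc 0, Int.ofNat 1, Int.ofNat 1, Int.negSucc 0, Int.negSucc 0, Int.ofNat 1, Int.ofNat 1, Int.negSucc 0, Int.negSucc 0, Int.ofNat 1, Int.ofNat 1, Int.ofNat 1, Int.ofNat 1, Int.negSucc 0, Int.ofNat 1, Int.ofNat 1, Int.negSucc 0, Int.ofNat 1, Int.ofNat 1, Int.ofNat 1, Int.negSucc 0, Int.negSucc 2],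
  [Int.negSucc 1, Int.negSucc 1, Int.ofNat 0, Int.ofNat 0, Int.ofNat 0, Int.negSucc 1, Int.negSucc 1, Int.ofNat 0, Int.ofNat 0, Int.ofNat 0, Int.ofNat 0, Int.ofNat 0, Int.ofNat 0, Int.ofNat 0, Int.ofNat 0, Int.ofNat 0, Int.ofNat 0, Int.ofNat 0, Int.negSucc 1, Int.ofNat 0, Int.ofNat 2, Int.ofNat 0, Int.negSucc 1, Int.ofNat 2],
  [Int.negSucc 1, Int.negSucc 1, Int.negSucc 1, Int.ofNat 0, Int.ofNat 0, Int.ofNat 0, Int.negSucc 1, Int.negSucc 1, Int.ofNat 0, Int.ofNat 0, Int.ofNat 0, Int.ofNat 0, Int.ofNat 0, Int.ofNat 0, Int.ofNat 0, Int.ofNat 0, Int.ofNat 0, Int.ofNat 0, Int.ofNat 0, Int.negSucc 1, Int.ofNat 0, Int.ofNat 2, Int.ofNat 0, Int.ofNat 2],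
  [Int.ofNat 0, Int.ofNat 0, Int.ofNat 0, Int.ofNat 0, Int.ofNat 0, Int.ofNat 0, Int.ofNat 0, Int.ofNat 0, Int.ofNat 0, Int.ofNat 0, Int.ofNat 0, Int.ofNat 0, Int.ofNat 0, Int.ofNat 0, Int.ofNat 0, Int.ofNat 0, Int.ofNat 0, Int.ofNat 0, Int.ofNat 0, Int.ofNat 0, Int.ofNat 0, Int.ofNat 4, Int.ofNat 0, Int.negSucc 3],
  [Int.ofNat 0, Int.ofNat 4, Int.ofNat 0, Int.ofNat 0, Int.ofNat 0, Int.ofNat 0, Int.ofNat 0, Int.ofNat 0, Int.ofNat 0, Int.ofNat 0, Int.ofNat 0, Int.ofNat 0, Int.ofNat 0, Int.ofNat 0, Int.ofNat 0, Int.ofNat 0, Int.ofNat 0, Int.ofNat 0, Int.ofNat 0, Int.ofNat 0, Int.ofNat 0, Int.ofNat 0, Int.ofNat 0, Int.negSucc 3],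
  [Int.ofNat 0, Int.negSucc 3, Int.ofNat 0, Int.ofNat 0, Int.ofNat 0, Int.ofNat 0, Int.ofNat 0, Int.ofNat 0, Int.ofNat 0, Int.ofNat 0, Int.ofNat 0, Int.ofNat 0, Int.ofNat 0, Int.ofNat 0, Int.ofNat 0, Int.ofNat 0, Int.ofNat 0, Int.ofNat 0, Int.ofNat 0, Int.ofNat 0, Int.ofNat 0, Int.ofNat 0, Int.ofNat 0, Int.ofNat 4],
  [Int.negSucc 3, Int.ofNat 0, Int.ofNat 0, Int.ofNat 0, Int.ofNat 0, Int.ofNat 0, Int.ofNat 0, Int.ofNat 0, Int.ofNat 0, Int.ofNat 0, Int.ofNat 0, Int.ofNat 0, Int.ofNat 0, Int.ofNat 0, Int.ofNat 0, Int.ofNat 0, Int.ofNat 0, Int.ofNat 0, Int.ofNat 0, Int.ofNat 0, Int.ofNat 0, Int.ofNat 0, Int.ofNat 0, Int.ofNat 4],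
  [Int.ofNat 4, Int.ofNat 0, Int.ofNat 0, Int.ofNat 0, Int.ofNat 0, Int.ofNat 0, Int.ofNat 0, Int.ofNat 0, Int.ofNat 0, Int.ofNat 0, Int.ofNat 0, Int.ofNat 0, Int.ofNat 0, Int.ofNat 0, Int.ofNat 0, Int.ofNat 0, Int.ofNat 0, Int.ofNat 0, Int.ofNat 0, Int.ofNat 0, Int.ofNat 0, Int.ofNat 0, Int.ofNat 0, Int.ofNat 4],
  [Int.ofNat 4, Int.ofNat 0, Int.ofNat 0, Int.ofNat 0, Int.ofNat 0, Int.ofNat 0, Int.ofNat 0, Int.ofNat 0, Int.ofNat 0, Int.ofNat 0, Int.ofNat 0, Int.ofNat 0, Int.ofNat 0, Int.ofNat 0, Int.ofNat 0, Int.ofNat 0, Int.ofNat 0, Int.ofNat 0, Int.ofNat 0, Int.ofNat 0, Int.ofNat 0, Int.ofNat 0, Int.ofNat 0, Int.ofNat 4],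
  [Int.negSucc 3, Int.ofNat 0, Int.ofNat 0, Int.ofNat 0, Int.ofNat 0, Int.ofNat 0, Int.ofNat 0, Int.ofNat 0, Int.ofNat 0, Int.ofNat 0, Int.ofNat 0, Int.ofNat 0, Int.ofNat 0, Int.ofNat 0, Int.ofNat 0, Int.ofNat 0, Int.ofNat 0, Int.ofNat 0, Int.ofNat 0, Int.ofNat 0, Int.ofNat 0, Int.ofNat 0, Int.ofNat 0, Int.ofNat 4],
  [Int.ofNat 0, Int.negSucc 3, Int.ofNat 0, Int.ofNat 0, Int.ofNat 0, Int.ofNat 0, Int.ofNat 0, Int.ofNat 0, Int.ofNat 0, Int.ofNat 0, Int.ofNat 0, Int.ofNat 0, Int.ofNat 0, Int.ofNat 0, Int.ofNat 0, Int.ofNat 0, Int.ofNat 0, Int.ofNat 0, Int.ofNat 0, Int.ofNat 0, Int.ofNat 0, Int.ofNat 0, Int.ofNat 0, Int.ofNat 4],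
  [Int.ofNat 0, Int.ofNat 4, Int.ofNat 0, Int.ofNat 0, Int.ofNat 0, Int.ofNat 0, Int.ofNat 0, Int.ofNat 0, Int.ofNat 0, Int.ofNat 0, Int.ofNat 0, Int.ofNat 0, Int.ofNat 0, Int.ofNat 0, Int.ofNat 0, Int.ofNat 0, Int.ofNat 0, Int.ofNat 0, Int.ofNat 0, Int.ofNat 0, Int.ofNat 0, Int.ofNat 0, Int.ofNat 0, Int.negSucc 3],
  [Int.ofNat 0, Int.ofNat 0, Int.ofNat 0, Int.ofNat 0, Int.ofNat 0, Int.ofNat 0, Int.ofNat 0, Int.ofNat 0, Int.ofNat 0, Int.ofNat 0, Int.ofNat 0, Int.ofNat 0, Int.ofNat 0, Int.ofNat 0, Int.ofNat 0, Int.ofNat 0, Int.ofNat 0, Int.ofNat 0, Int.ofNat 0, Int.ofNat 0, Int.ofNat 0, Int.ofNat 4, Int.ofNat 0, Int.negSucc 3],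
  [Int.negSucc 1, Int.negSucc 1, Int.negSucc 1, Int.ofNat 0, Int.ofNat 0, Int.ofNat 0, Int.negSucc 1, Int.negSucc 1, Int.ofNat 0, Int.ofNat 0, Int.ofNat 0, Int.ofNat 0, Int.ofNat 0, Int.ofNat 0, Int.ofNat 0, Int.ofNat 0, Int.ofNat 0, Int.ofNat 0, Int.ofNat 0, Int.negSucc 1, Int.ofNat 0, Int.ofNat 2, Int.ofNat 0, Int.ofNat 2],
  [Int.negSucc 1, Int.negSucc 1, Int.ofNat 0, Int.ofNat 0, Int.ofNat 0, Int.negSucc 1, Int.negSucc 1, Int.ofNat 0, Int.ofNat 0, Int.ofNat 0, Int.ofNat 0, Int.ofNat 0, Int.ofNat 0, Int.ofNat 0, Int.ofNat 0, Int.ofNat 0, Int.ofNat 0, Int.ofNat 0, Int.negSucc 1, Int.ofNat 0, Int.ofNat 2, Int.ofNat 0, Int.negSucc 1, Int.ofNat 2],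
  [Int.ofNat 1, Int.ofNat 1, Int.negSucc 0, Int.ofNat 1, Int.ofNat 1, Int.negSucc 0, Int.negSucc 0, Int.ofNat 1, Int.ofNat 1, Int.negSucc 0, Int.negSucc 0, Int.ofNat 1, Int.ofNat 1, Int.ofNat 1, Int.ofNat 1, Int.negSucc 0, Int.ofNat 1, Int.ofNat 1, Int.negSucc 0, Int.ofNat 1, Int.ofNat 1, Int.ofNat 1, Int.negSucc 0, Int.negSucc 2],
  [Int.ofNat 1, Int.ofNat 1, Int.ofNat 1, Int.ofNat 1, Int.ofNat 1, Int.ofNat 1, Int.ofNat 1, Int.ofNat 1, Int.ofNat 1, Int.ofNat 1, Int.ofNat 1, Int.ofNat 1, Int.ofNat 1, Int.ofNat 1, Int.ofNat 1, Int.ofNat 1, Int.ofNat 1, Int.ofNat 1, Int.ofNat 1, Int.ofNat 1, Int.ofNat 1, Int.ofNat 1, Int.ofNat 1, Int.negSucc 2],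
  [Int.ofNat 1, Int.ofNat 1, Int.ofNat 1, Int.ofNat 1, Int.ofNat 1, Int.ofNat 1, Int.ofNat 1, Int.ofNat 1, Int.ofNat 1, Int.ofNat 1, Int.ofNat 1, Int.ofNat 1, Int.ofNat 1, Int.ofNat 1, Int.ofNat 1, Int.ofNat 1, Int.ofNat 1, Int.ofNat 1, Int.ofNat 1, Int.ofNat 1, Int.ofNat 1, Int.ofNat 1, Int.ofNat 1, Int.negSucc 2],
  [Int.ofNat 1, Int.ofNat 1, Int.negSucc 0, Int.ofNat 1, Int.ofNat 1, Int.negSucc 0, Int.negSucc 0, Int.ofNat 1, Int.ofNat 1, Int.negSucc 0, Int.negSucc 0, Int.ofNat 1, Int.ofNat 1, Int.ofNat 1, Int.ofNat 1, Int.negSucc 0, Int.ofNat 1, Int.ofNat 1, Int.negSucc 0, Int.ofNat 1, Int.ofNat 1, Int.ofNat 1, Int.negSucc 0, Int.negSucc 2],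
  [Int.negSucc 1, Int.negSucc 1, Int.ofNat 0, Int.ofNat 0, Int.ofNat 0, Int.negSucc 1, Int.negSucc 1, Int.ofNat 0, Int.ofNat 0, Int.ofNat 0, Int.ofNat 0, Int.ofNat 0, Int.ofNat 0, Int.ofNat 0, Int.ofNat 0, Int.ofNat 0, Int.ofNat 0, Int.ofNat 0, Int.negSucc 1, Int.ofNat 0, Int.ofNat 2, Int.ofNat 0, Int.negSucc 1, Int.ofNat 2],
  [Int.negSucc 1, Int.negSucc 1, Int.negSucc 1, Int.ofNat 0, Int.ofNat 0, Int.ofNat 0, Int.negSucc 1, Int.negSucc 1, Int.ofNat 0, Int.ofNat 0, Int.ofNat 0, Int.ofNat 0, Int.ofNat 0, Int.ofNat 0, Int.ofNat 0, Int.ofNat 0, Int.ofNat 0, Int.ofNat 0, Int.ofNat 0, Int.negSucc 1, Int.ofNat 0, Int.ofNat 2, Int.ofNat 0, Int.ofNat 2],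
  [Int.ofNat 0, Int.ofNat 0, Int.ofNat 0, Int.ofNat 0, Int.ofNat 0, Int.ofNat 0, Int.ofNat 0, Int.ofNat 0, Int.ofNat 0, Int.ofNat 0, Int.ofNat 0, Int.ofNat 0, Int.ofNat 0, Int.ofNat 0, Int.ofNat 0, Int.ofNat 0, Int.ofNat 0, Int.ofNat 0, Int.ofNat 0, Int.ofNat 0, Int.ofNat 0, Int.ofNat 4, Int.ofNat 0, Int.negSucc 3],
  [Int.ofNat 0, Int.ofNat 4, Int.ofNat 0, Int.ofNat 0, Int.ofNat 0, Int.ofNat 0, Int.ofNat 0, Int.ofNat 0, Int.ofNat 0, Int.ofNat 0, Int.ofNat 0, Int.ofNat 0, Int.ofNat 0, Int.ofNat 0, Int.ofNat 0, Int.ofNat 0, Int.ofNat 0, Int.ofNat 0, Int.ofNat 0, Int.ofNat 0, Int.ofNat 0, Int.ofNat 0, Int.ofNat 0, Int.negSucc 3],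
  [Int.ofNat 0, Int.negSucc 3, Int.ofNat 0, Int.ofNat 0, Int.ofNat 0, Int.ofNat 0, Int.ofNat 0, Int.ofNat 0, Int.ofNat 0, Int.ofNat 0, Int.ofNat 0, Int.ofNat 0, Int.ofNat 0, Int.ofNat 0, Int.ofNat 0, Int.ofNat 0, Int.ofNat 0, Int.ofNat 0, Int.ofNat 0, Int.ofNat 0, Int.ofNat 0, Int.ofNat 0, Int.ofNat 0, Int.ofNat 4],
  [Int.negSucc 3, Int.ofNat 0, Int.ofNat 0, Int.ofNat 0, Int.ofNat 0, Int.ofNat 0, Int.ofNat 0, Int.ofNat 0, Int.ofNat 0, Int.ofNat 0, Int.ofNat 0, Int.ofNat 0, Int.ofNat 0, Int.ofNat 0, Int.ofNat 0, Int.ofNat 0, Int.ofNat 0, Int.ofNat 0, Int.ofNat 0, Int.ofNat 0, Int.ofNat 0, Int.ofNat 0, Int.ofNat 0, Int.ofNat 4],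
  [Int.ofNat 4, Int.ofNat 0, Int.ofNat 0, Int.ofNat 0, Int.ofNat 0, Int.ofNat 0, Int.ofNat 0, Int.ofNat 0, Int.ofNat 0, Int.ofNat 0, Int.ofNat 0, Int.ofNat 0, Int.ofNat 0, Int.ofNat 0, Int.ofNat 0, Int.ofNat 0, Int.ofNat 0, Int.ofNat 0, Int.ofNat 0, Int.ofNat 0, Int.ofNat 0, Int.ofNat 0, Int.ofNat 0, Int.ofNat 4]]

set_option maxRecDepth 100000 in
theorem r1_chk0 : cChk r1W a0L r1M0 a0L = true := by
  decide +kernel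

set_option maxRecDepth 100000 in
def r1M1 : List (List ℤ) :=
  [[Int.ofNat 4, Int.ofNat 0, Int.ofNat 0, Int.ofNat 0, Int.ofNat 0, Int.ofNat 0, Int.ofNat 0, Int.ofNat 0, Int.ofNat 0, Int.ofNat 0, Int.ofNat 0, Int.ofNat 0, Int.ofNat 0, Int.ofNat 0, Int.ofNat 0, Int.ofNat 0, Int.ofNat 0, Int.ofNat 0, Int.ofNat 0, Int.ofNat 0, Int.ofNat 0, Int.ofNat 0, Int.ofNat 0, Int.negSucc 3],
  [Int.negSucc 3, Int.ofNat 0, Int.ofNat 0, Int.ofNat 0, Int.ofNat 0, Int.ofNat 0, Int.ofNat 0, Int.ofNat 0, Int.ofNat 0, Int.ofNat 0, Int.ofNat 0, Int.ofNat 0, Int.ofNat 0, Int.ofNat 0, Int.ofNat 0, Int.ofNat 0, Int.ofNat 0, Int.ofNat 0, Int.ofNat 0, Int.ofNat 0, Int.ofNat 0, Int.ofNat 0, Int.ofNat 0, Int.negSucc 3],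
  [Int.ofNat 0, Int.negSucc 3, Int.ofNat 0, Int.ofNat 0, Int.ofNat 0, Int.ofNat 0, Int.ofNat 0, Int.ofNat 0, Int.ofNat 0, Int.ofNat 0, Int.ofNat 0, Int.ofNat 0, Int.ofNat 0, Int.ofNat 0, Int.ofNat 0, Int.ofNat 0, Int.ofNat 0, Int.ofNat 0, Int.ofNat 0, Int.ofNat 0, Int.ofNat 0, Int.ofNat 0, Int.ofNat 0, Int.negSucc 3],
  [Int.negSucc 3, Int.ofNat 0, Int.negSucc 3, Int.ofNat 0, Int.ofNat 0, Int.ofNat 0, Int.ofNat 0, Int.ofNat 0, Int.ofNat 0, Int.ofNat 0, Int.ofNat 0, Int.ofNat 0, Int.ofNat 0, Int.ofNat 0, Int.ofNat 0, Int.ofNat 0, Int.ofNat 0, Int.ofNat 0, Int.ofNat 0, Int.ofNat 0, Int.ofNat 0, Int.ofNat 0, Int.ofNat 0, Int.ofNat 0],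
  [Int.ofNat 0, Int.ofNat 0, Int.ofNat 0, Int.ofNat 0, Int.ofNat 0, Int.ofNat 0, Int.ofNat 0, Int.ofNat 0, Int.ofNat 0, Int.ofNat 0, Int.ofNat 0, Int.ofNat 0, Int.ofNat 0, Int.ofNat 0, Int.ofNat 0, Int.ofNat 0, Int.ofNat 0, Int.ofNat 0, Int.ofNat 0, Int.ofNat 0, Int.negSucc 3, Int.ofNat 0, Int.negSucc 3, Int.ofNat 0],
  [Int.ofNat 0, Int.ofNat 0, Int.ofNat 0, Int.ofNat 0, Int.ofNat 2, Int.ofNat 0, Int.ofNat 0, Int.ofNat 0, Int.ofNat 0, Int.ofNat 2, Int.ofNat 2, Int.ofNat 0, Int.ofNat 0, Int.ofNat 2, Int.ofNat 0, Int.ofNat 2, Int.ofNat 2, Int.ofNat 0, Int.ofNat 0, Int.ofNat 0, Int.negSucc 1, Int.ofNat 0, Int.negSucc 1, Int.ofNat 0],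
  [Int.ofNat 0, Int.ofNat 0, Int.ofNat 2, Int.ofNat 0, Int.ofNat 0, Int.ofNat 0, Int.ofNat 0, Int.ofNat 2, Int.ofNat 0, Int.ofNat 2, Int.negSucc 1, Int.ofNat 0, Int.ofNat 2, Int.ofNat 2, Int.negSucc 1, Int.ofNat 2, Int.ofNat 0, Int.ofNat 0, Int.ofNat 0, Int.ofNat 0, Int.ofNat 0, Int.ofNat 0, Int.ofNat 0, Int.ofNat 0],
  [Int.ofNat 1, Int.ofNat 1, Int.negSucc 0, Int.ofNat 1, Int.negSucc 0, Int.ofNat 1, Int.negSucc 0, Int.ofNat 1, Int.negSucc 0, Int.ofNat 1, Int.negSucc 2, Int.negSucc 0, Int.ofNat 1, Int.ofNat 1, Int.negSucc 0, Int.ofNat 1, Int.negSucc 0, Int.ofNat 1, Int.negSucc 0, Int.negSucc 0, Int.negSucc 0, Int.negSucc 0, Int.negSucc 0, Int.ofNat 1],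
  [Int.ofNat 1, Int.ofNat 1, Int.ofNat 1, Int.ofNat 1, Int.negSucc 0, Int.negSucc 0, Int.ofNat 1, Int.ofNat 1, Int.negSucc 0, Int.negSucc 0, Int.ofNat 3, Int.negSucc 0, Int.ofNat 1, Int.ofNat 1, Int.negSucc 0, Int.negSucc 0, Int.negSucc 0, Int.ofNat 1, Int.ofNat 1, Int.negSucc 0, Int.negSucc 0, Int.negSucc 0, Int.ofNat 1, Int.ofNat 1],
  [Int.negSucc 0, Int.negSucc 0, Int.ofNat 1, Int.negSucc 0, Int.negSucc 0, Int.ofNat 1, Int.negSucc 0, Int.ofNat 1, Int.ofNat 1, Int.negSucc 0, Int.ofNat 1, Int.negSucc 0, Int.ofNat 1, Int.ofNat 1, Int.ofNat 1, Int.ofNat 3, Int.negSucc 0, Int.negSucc 0, Int.negSucc 0, Int.negSucc 0, Int.ofNat 1, Int.ofNat 1, Int.ofNat 1, Int.ofNat 1],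
  [Int.negSucc 0, Int.negSucc 0, Int.negSucc 0, Int.negSucc 0, Int.negSucc 0, Int.negSucc 0, Int.ofNat 1, Int.ofNat 1, Int.ofNat 1, Int.ofNat 1, Int.negSucc 0, Int.negSucc 0, Int.ofNat 1, Int.ofNat 1, Int.ofNat 1, Int.negSucc 2, Int.negSucc 0, Int.negSucc 0, Int.ofNat 1, Int.negSucc 0, Int.ofNat 1, Int.ofNat 1, Int.negSucc 0, Int.ofNat 1],
  [Int.ofNat 0, Int.ofNat 0, Int.ofNat 0, Int.ofNat 0, Int.ofNat 0, Int.ofNat 0, Int.ofNat 0, Int.ofNat 0, Int.ofNat 0, Int.ofNat 2, Int.ofNat 0, Int.negSucc 1, Int.ofNat 0, Int.ofNat 2, Int.ofNat 2, Int.negSucc 1, Int.ofNat 0, Int.ofNat 0, Int.ofNat 0, Int.negSucc 1, Int.ofNat 2, Int.ofNat 0, Int.ofNat 0, Int.negSucc 1],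
  [Int.ofNat 0, Int.ofNat 0, Int.ofNat 0, Int.ofNat 0, Int.ofNat 0, Int.ofNat 0, Int.ofNat 0, Int.ofNat 0, Int.ofNat 0, Int.ofNat 0, Int.ofNat 0, Int.negSucc 1, Int.ofNat 0, Int.ofNat 2, Int.ofNat 0, Int.negSucc 1, Int.ofNat 2, Int.negSucc 1, Int.ofNat 0, Int.ofNat 0, Int.ofNat 0, Int.ofNat 2, Int.ofNat 2, Int.negSucc 1],
  [Int.negSucc 0, Int.negSucc 0, Int.negSucc 0, Int.ofNat 1, Int.negSucc 2, Int.ofNat 1, Int.negSucc 0, Int.negSucc 0, Int.ofNat 1, Int.ofNat 1, Int.ofNat 1, Int.negSucc 0, Int.ofNat 1, Int.negSucc 0, Int.ofNat 1, Int.negSucc 0, Int.negSucc 0, Int.negSucc 0, Int.ofNat 1, Int.negSucc 0, Int.ofNat 1, Int.ofNat 1, Int.negSucc 0, Int.ofNat 1],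
  [Int.ofNat 1, Int.ofNat 1, Int.negSucc 0, Int.negSucc 0, Int.negSucc 0, Int.negSucc 0, Int.ofNat 1, Int.negSucc 2, Int.ofNat 1, Int.negSucc 0, Int.negSucc 0, Int.ofNat 1, Int.ofNat 1, Int.ofNat 1, Int.negSucc 0, Int.ofNat 1, Int.negSucc 0, Int.ofNat 1, Int.negSucc 0, Int.negSucc 0, Int.negSucc 0, Int.ofNat 1, Int.negSucc 0, Int.ofNat 1],
  [Int.ofNat 0, Int.ofNat 0, Int.ofNat 2, Int.ofNat 0, Int.ofNat 0, Int.ofNat 0, Int.ofNat 2, Int.negSucc 1, Int.ofNat 0, Int.ofNat 0, Int.ofNat 0, Int.ofNat 0, Int.ofNat 0, Int.ofNat 2, Int.ofNat 0, Int.ofNat 2, Int.ofNat 0, Int.ofNat 2, Int.negSucc 1, Int.ofNat 0, Int.ofNat 0, Int.ofNat 2, Int.ofNat 0, Int.ofNat 0],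
  [Int.ofNat 0, Int.ofNat 2, Int.ofNat 0, Int.ofNat 0, Int.ofNat 0, Int.ofNat 2, Int.negSucc 1, Int.ofNat 0, Int.ofNat 0, Int.ofNat 0, Int.ofNat 0, Int.ofNat 0, Int.ofNat 2, Int.ofNat 0, Int.ofNat 2, Int.ofNat 0, Int.ofNat 2, Int.negSucc 1, Int.ofNat 0, Int.ofNat 0, Int.ofNat 2, Int.ofNat 0, Int.ofNat 0, Int.ofNat 0],
  [Int.ofNat 0, Int.ofNat 2, Int.ofNat 0, Int.ofNat 0, Int.ofNat 0, Int.ofNat 2, Int.negSucc 1, Int.ofNat 0, Int.ofNat 0, Int.ofNat 0, Int.ofNat 0, Int.ofNat 0, Int.ofNat 2, Int.ofNat 0, Int.ofNat 2, Int.ofNat 0, Int.ofNat 2, Int.negSucc 1, Int.ofNat 0, Int.ofNat 0, Int.ofNat 2, Int.ofNat 0, Int.ofNat 0, Int.ofNat 0],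
  [Int.ofNat 0, Int.ofNat 0, Int.ofNat 0, Int.ofNat 0, Int.negSucc 1, Int.ofNat 0, Int.ofNat 0, Int.ofNat 0, Int.ofNat 2, Int.ofNat 2, Int.ofNat 2, Int.ofNat 0, Int.ofNat 0, Int.ofNat 0, Int.ofNat 0, Int.ofNat 0, Int.ofNat 0, Int.ofNat 0, Int.ofNat 2, Int.negSucc 1, Int.ofNat 0, Int.ofNat 2, Int.ofNat 2, Int.ofNat 0],
  [Int.ofNat 0, Int.ofNat 0, Int.ofNat 0, Int.ofNat 0, Int.negSucc 1, Int.ofNat 0, Int.ofNat 0, Int.ofNat 0, Int.ofNat 2, Int.negSucc 1, Int.negSucc 1, Int.ofNat 0, Int.ofNat 0, Int.ofNat 0, Int.ofNat 0, Int.ofNat 0, Int.ofNat 0, Int.ofNat 0, Int.negSucc 1, Int.negSucc 1, Int.ofNat 0, Int.negSucc 1, Int.ofNat 2, Int.ofNat 0],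
  [Int.ofNat 2, Int.ofNat 0, Int.ofNat 0, Int.ofNat 0, Int.ofNat 0, Int.negSucc 1, Int.ofNat 0, Int.ofNat 0, Int.ofNat 0, Int.ofNat 2, Int.negSucc 1, Int.negSucc 1, Int.ofNat 0, Int.ofNat 0, Int.ofNat 0, Int.ofNat 0, Int.ofNat 0, Int.ofNat 0, Int.ofNat 0, Int.negSucc 1, Int.negSucc 1, Int.ofNat 0, Int.negSucc 1, Int.ofNat 0],
  [Int.negSucc 0, Int.ofNat 1, Int.ofNat 1, Int.ofNat 1, Int.ofNat 1, Int.negSucc 0, Int.ofNat 1, Int.ofNat 1, Int.ofNat 1, Int.ofNat 3, Int.negSucc 0, Int.negSucc 0, Int.ofNat 1, Int.ofNat 1, Int.ofNat 1, Int.ofNat 1, Int.ofNat 1, Int.ofNat 1, Int.ofNat 1, Int.negSucc 0, Int.negSucc 0, Int.ofNat 1, Int.negSucc 0, Int.ofNat 1],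
  [Int.ofNat 1, Int.ofNat 1, Int.negSucc 0, Int.ofNat 1, Int.ofNat 1, Int.ofNat 1, Int.ofNat 3, Int.negSucc 0, Int.negSucc 0, Int.ofNat 1, Int.ofNat 1, Int.ofNat 1, Int.ofNat 1, Int.ofNat 1, Int.ofNat 1, Int.ofNat 1, Int.negSucc 0, Int.negSucc 0, Int.ofNat 1, Int.negSucc 0, Int.negSucc 0, Int.ofNat 1, Int.ofNat 1, Int.ofNat 1],
  [Int.ofNat 0, Int.ofNat 0, Int.ofNat 2, Int.ofNat 0, Int.ofNat 0, Int.ofNat 0, Int.ofNat 2, Int.negSucc 1, Int.negSucc 1, Int.ofNat 0, Int.ofNat 0, Int.ofNat 0, Int.ofNat 0, Int.ofNat 0, Int.ofNat 0, Int.ofNat 0, Int.negSucc 1, Int.negSucc 1, Int.ofNat 0, Int.negSucc 1, Int.negSucc 1, Int.ofNat 0, Int.ofNat 0, Int.ofNat 0],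
  [Int.ofNat 0, Int.ofNat 2, Int.ofNat 0, Int.ofNat 0, Int.ofNat 0, Int.negSucc 1, Int.ofNat 2, Int.ofNat 0, Int.ofNat 0, Int.ofNat 0, Int.negSucc 1, Int.negSucc 1, Int.ofNat 0, Int.negSucc 1, Int.ofNat 0, Int.ofNat 0, Int.negSucc 1, Int.ofNat 0, Int.ofNat 0, Int.ofNat 0, Int.ofNat 0, Int.ofNat 0, Int.negSucc 1, Int.ofNat 0],
  [Int.ofNat 1, Int.negSucc 0, Int.ofNat 1, Int.ofNat 1, Int.ofNat 3, Int.negSucc 0, Int.ofNat 1, Int.negSucc 0, Int.ofNat 1, Int.ofNat 1, Int.negSucc 0, Int.negSucc 0, Int.ofNat 1, Int.ofNat 1, Int.ofNat 1, Int.ofNat 1, Int.ofNat 1, Int.ofNat 1, Int.ofNat 1, Int.negSucc 0, Int.ofNat 1, Int.negSucc 0, Int.ofNat 1, Int.ofNat 1],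
  [Int.ofNat 1, Int.negSucc 0, Int.negSucc 0, Int.ofNat 1, Int.ofNat 3, Int.ofNat 1, Int.negSucc 0, Int.negSucc 0, Int.ofNat 1, Int.negSucc 0, Int.ofNat 1, Int.negSucc 0, Int.ofNat 1, Int.ofNat 1, Int.ofNat 1, Int.negSucc 0, Int.ofNat 1, Int.ofNat 1, Int.negSucc 0, Int.negSucc 0, Int.ofNat 1, Int.negSucc 0, Int.negSucc 0, Int.ofNat 1],
  [Int.ofNat 1, Int.ofNat 1, Int.ofNat 1, Int.negSucc 0, Int.ofNat 1, Int.negSucc 0, Int.negSucc 0, Int.negSucc 0, Int.ofNat 1, Int.negSucc 0, Int.negSucc 0, Int.ofNat 3, Int.negSucc 0, Int.negSucc 0, Int.negSucc 0, Int.ofNat 1, Int.negSucc 0, Int.negSucc 0, Int.ofNat 1, Int.ofNat 1, Int.ofNat 1, Int.ofNat 1, Int.ofNat 1, Int.ofNat 1],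
  [Int.ofNat 1, Int.ofNat 1, Int.negSucc 0, Int.negSucc 0, Int.ofNat 1, Int.ofNat 1, Int.ofNat 1, Int.negSucc 0, Int.ofNat 1, Int.ofNat 1, Int.ofNat 1, Int.ofNat 3, Int.negSucc 0, Int.negSucc 0, Int.negSucc 0, Int.negSucc 0, Int.negSucc 0, Int.negSucc 0, Int.negSucc 0, Int.ofNat 1, Int.ofNat 1, Int.ofNat 1, Int.negSucc 0, Int.ofNat 1],
  [Int.ofNat 0, Int.ofNat 0, Int.ofNat 2, Int.ofNat 0, Int.ofNat 2, Int.ofNat 2, Int.ofNat 0, Int.negSucc 1, Int.ofNat 0, Int.ofNat 0, Int.ofNat 0, Int.ofNat 2, Int.negSucc 1, Int.ofNat 0, Int.ofNat 0, Int.negSucc 1, Int.ofNat 0, Int.ofNat 0, Int.negSucc 1, Int.ofNat 0, Int.ofNat 0, Int.ofNat 0, Int.ofNat 0, Int.ofNat 0],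
  [Int.ofNat 0, Int.negSucc 1, Int.ofNat 0, Int.ofNat 0, Int.ofNat 2, Int.ofNat 0, Int.ofNat 0, Int.ofNat 2, Int.ofNat 0, Int.negSucc 1, Int.negSucc 1, Int.ofNat 0, Int.ofNat 0, Int.ofNat 0, Int.ofNat 0, Int.negSucc 1, Int.ofNat 0, Int.ofNat 2, Int.ofNat 2, Int.ofNat 0, Int.ofNat 0, Int.ofNat 0, Int.ofNat 0, Int.ofNat 0],
  [Int.negSucc 0, Int.ofNat 1, Int.negSucc 0, Int.negSucc 0, Int.ofNat 1, Int.negSucc 0, Int.negSucc 0, Int.ofNat 1, Int.negSucc 0, Int.ofNat 1, Int.ofNat 1, Int.negSucc 0, Int.negSucc 0, Int.negSucc 0, Int.negSucc 0, Int.ofNat 1, Int.negSucc 0, Int.ofNat 1, Int.ofNat 1, Int.negSucc 0, Int.ofNat 3, Int.negSucc 0, Int.negSucc 0, Int.negSucc 0],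
  [Int.ofNat 3, Int.negSucc 0, Int.negSucc 0, Int.negSucc 0, Int.ofNat 1, Int.negSucc 0, Int.negSucc 0, Int.ofNat 1, Int.negSucc 0, Int.negSucc 0, Int.ofNat 1, Int.negSucc 0, Int.ofNat 1, Int.ofNat 1, Int.negSucc 0, Int.negSucc 0, Int.negSucc 0, Int.negSucc 0, Int.ofNat 1, Int.negSucc 0, Int.ofNat 1, Int.ofNat 1, Int.negSucc 0, Int.negSucc 0],
  [Int.negSucc 2, Int.ofNat 1, Int.ofNat 1, Int.ofNat 1, Int.ofNat 1, Int.ofNat 1, Int.negSucc 0, Int.ofNat 1, Int.negSucc 0, Int.negSucc 0, Int.ofNat 1, Int.negSucc 0, Int.ofNat 1, Int.ofNat 1, Int.ofNat 1, Int.negSucc 0, Int.negSucc 0, Int.ofNat 1, Int.ofNat 1, Int.negSucc 0, Int.ofNat 1, Int.ofNat 1, Int.negSucc 0, Int.ofNat 1],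
  [Int.ofNat 1, Int.ofNat 1, Int.ofNat 1, Int.ofNat 1, Int.ofNat 1, Int.negSucc 0, Int.ofNat 1, Int.negSucc 0, Int.negSucc 0, Int.ofNat 1, Int.negSucc 0, Int.ofNat 1, Int.ofNat 1, Int.ofNat 1, Int.negSucc 0, Int.negSucc 0, Int.ofNat 1, Int.ofNat 1, Int.negSucc 0, Int.ofNat 1, Int.ofNat 1, Int.negSucc 0, Int.negSucc 2, Int.ofNat 1],
  [Int.negSucc 0, Int.ofNat 1, Int.negSucc 0, Int.ofNat 1, Int.ofNat 1, Int.negSucc 0, Int.ofNat 1, Int.ofNat 1, Int.negSucc 0, Int.negSucc 0, Int.ofNat 1, Int.negSucc 0, Int.ofNat 1, Int.ofNat 1, Int.negSucc 0, Int.negSucc 0, Int.ofNat 1, Int.ofNat 1, Int.ofNat 1, Int.ofNat 1, Int.ofNat 1, Int.ofNat 1, Int.negSucc 2, Int.ofNat 1],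
  [Int.ofNat 1, Int.negSucc 2, Int.negSucc 0, Int.negSucc 0, Int.ofNat 1, Int.negSucc 0, Int.ofNat 1, Int.ofNat 1, Int.ofNat 1, Int.negSucc 0, Int.ofNat 1, Int.negSucc 0, Int.ofNat 1, Int.ofNat 1, Int.ofNat 1, Int.ofNat 1, Int.ofNat 1, Int.ofNat 1, Int.negSucc 0, Int.ofNat 1, Int.negSucc 0, Int.ofNat 1, Int.ofNat 1, Int.negSucc 0],
  [Int.negSucc 0, Int.negSucc 2, Int.ofNat 1, Int.negSucc 0, Int.ofNat 1, Int.negSucc 0, Int.ofNat 1, Int.negSucc 0, Int.ofNat 1, Int.ofNat 1, Int.negSucc 0, Int.ofNat 1, Int.ofNat 1, Int.ofNat 1, Int.ofNat 1, Int.ofNat 1, Int.ofNat 1, Int.ofNat 1, Int.ofNat 1, Int.ofNat 1, Int.negSucc 0, Int.negSucc 0, Int.ofNat 1, Int.negSucc 0],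
  [Int.ofNat 1, Int.negSucc 0, Int.negSucc 2, Int.ofNat 1, Int.negSucc 0, Int.ofNat 1, Int.negSucc 0, Int.ofNat 1, Int.negSucc 0, Int.ofNat 1, Int.ofNat 1, Int.negSucc 0, Int.ofNat 1, Int.ofNat 1, Int.ofNat 1, Int.ofNat 1, Int.ofNat 1, Int.ofNat 1, Int.ofNat 1, Int.ofNat 1, Int.ofNat 1, Int.negSucc 0, Int.negSucc 0, Int.negSucc 0],
  [Int.negSucc 2, Int.negSucc 0, Int.ofNat 1, Int.negSucc 0, Int.negSucc 0, Int.negSucc 0, Int.negSucc 0, Int.ofNat 1, Int.negSucc 0, Int.negSucc 0, Int.negSucc 0, Int.negSucc 0, Int.ofNat 1, Int.ofNat 1, Int.negSucc 0, Int.negSucc 0, Int.ofNat 1, Int.negSucc 0, Int.ofNat 1, Int.ofNat 1, Int.negSucc 0, Int.negSucc 0, Int.negSucc 0, Int.negSucc 0],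
  [Int.negSucc 0, Int.negSucc 0, Int.negSucc 0, Int.negSucc 0, Int.ofNat 1, Int.negSucc 0, Int.negSucc 0, Int.negSucc 0, Int.negSucc 0, Int.ofNat 1, Int.ofNat 1, Int.negSucc 0, Int.negSucc 0, Int.ofNat 1, Int.negSucc 0, Int.ofNat 1, Int.ofNat 1, Int.negSucc 0, Int.negSucc 0, Int.negSucc 0, Int.negSucc 2, Int.negSucc 0, Int.ofNat 1, Int.negSucc 0],
  [Int.negSucc 0, Int.negSucc 0, Int.negSucc 0, Int.ofNat 1, Int.negSucc 0, Int.ofNat 1, Int.ofNat 1, Int.ofNat 1, Int.ofNat 1, Int.ofNat 1, Int.ofNat 1, Int.ofNat 1, Int.ofNat 1, Int.negSucc 0, Int.ofNat 1, Int.ofNat 1, Int.negSucc 0, Int.ofNat 1, Int.ofNat 1, Int.ofNat 1, Int.negSucc 2, Int.ofNat 1, Int.negSucc 0, Int.negSucc 0],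
  [Int.negSucc 0, Int.ofNat 1, Int.negSucc 0, Int.ofNat 1, Int.ofNat 1, Int.ofNat 1, Int.negSucc 0, Int.ofNat 1, Int.ofNat 1, Int.negSucc 0, Int.negSucc 2, Int.ofNat 1, Int.ofNat 1, Int.negSucc 0, Int.negSucc 0, Int.ofNat 1, Int.ofNat 1, Int.ofNat 1, Int.negSucc 0, Int.ofNat 1, Int.ofNat 1, Int.ofNat 1, Int.ofNat 1, Int.negSucc 0],
  [Int.ofNat 0, Int.negSucc 1, Int.ofNat 0, Int.ofNat 0, Int.ofNat 0, Int.ofNat 0, Int.negSucc 1, Int.ofNat 0, Int.ofNat 0, Int.ofNat 0, Int.negSucc 1, Int.ofNat 0, Int.ofNat 0, Int.negSucc 1, Int.negSucc 1, Int.ofNat 2, Int.ofNat 0, Int.ofNat 0, Int.negSucc 1, Int.ofNat 0, Int.ofNat 2, Int.ofNat 0, Int.ofNat 0, Int.ofNat 0],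
  [Int.ofNat 0, Int.negSucc 1, Int.ofNat 0, Int.ofNat 0, Int.ofNat 0, Int.ofNat 0, Int.ofNat 2, Int.ofNat 0, Int.ofNat 0, Int.ofNat 0, Int.ofNat 2, Int.ofNat 0, Int.ofNat 0, Int.negSucc 1, Int.negSucc 1, Int.negSucc 1, Int.ofNat 0, Int.ofNat 0, Int.ofNat 2, Int.ofNat 0, Int.ofNat 2, Int.ofNat 0, Int.ofNat 0, Int.ofNat 0],
  [Int.ofNat 0, Int.ofNat 2, Int.ofNat 0, Int.ofNat 0, Int.ofNat 0, Int.ofNat 0, Int.ofNat 0, Int.ofNat 0, Int.ofNat 0, Int.ofNat 0, Int.ofNat 0, Int.ofNat 0, Int.ofNat 2, Int.negSucc 1, Int.ofNat 2, Int.ofNat 2, Int.negSucc 1, Int.ofNat 0, Int.ofNat 0, Int.negSucc 1, Int.ofNat 0, Int.ofNat 0, Int.negSucc 1, Int.ofNat 0],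
  [Int.ofNat 0, Int.ofNat 2, Int.ofNat 0, Int.ofNat 0, Int.ofNat 0, Int.ofNat 0, Int.ofNat 0, Int.ofNat 0, Int.ofNat 0, Int.ofNat 0, Int.ofNat 0, Int.ofNat 0, Int.ofNat 2, Int.negSucc 1, Int.ofNat 2, Int.negSucc 1, Int.negSucc 1, Int.ofNat 0, Int.ofNat 0, Int.negSucc 1, Int.ofNat 0, Int.ofNat 0, Int.ofNat 2, Int.ofNat 0],
  [Int.ofNat 1, Int.negSucc 0, Int.ofNat 1, Int.negSucc 0, Int.ofNat 1, Int.negSucc 0, Int.ofNat 1, Int.ofNat 1, Int.negSucc 0, Int.ofNat 1, Int.ofNat 1, Int.negSucc 0, Int.ofNat 1, Int.negSucc 0, Int.ofNat 1, Int.negSucc 0, Int.negSucc 0, Int.negSucc 0, Int.negSucc 0, Int.negSucc 0, Int.ofNat 1, Int.ofNat 1, Int.ofNat 3, Int.ofNat 1],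
  [Int.ofNat 1, Int.negSucc 0, Int.ofNat 1, Int.negSucc 0, Int.ofNat 1, Int.ofNat 1, Int.negSucc 0, Int.negSucc 0, Int.negSucc 0, Int.ofNat 1, Int.ofNat 1, Int.negSucc 0, Int.negSucc 0, Int.ofNat 1, Int.negSucc 0, Int.negSucc 0, Int.negSucc 0, Int.negSucc 0, Int.ofNat 1, Int.ofNat 3, Int.ofNat 1, Int.ofNat 1, Int.ofNat 1, Int.ofNat 1],
  [Int.ofNat 0, Int.ofNat 2, Int.ofNat 0, Int.ofNat 0, Int.ofNat 0, Int.ofNat 2, Int.negSucc 1, Int.negSucc 1, Int.ofNat 0, Int.ofNat 0, Int.ofNat 0, Int.ofNat 0, Int.ofNat 0, Int.ofNat 0, Int.ofNat 0, Int.negSucc 1, Int.negSucc 1, Int.ofNat 0, Int.ofNat 2, Int.ofNat 2, Int.ofNat 0, Int.ofNat 0, Int.ofNat 0, Int.ofNat 0],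
  [Int.ofNat 0, Int.ofNat 0, Int.ofNat 0, Int.ofNat 0, Int.ofNat 2, Int.ofNat 0, Int.ofNat 0, Int.ofNat 0, Int.ofNat 2, Int.negSucc 1, Int.negSucc 1, Int.ofNat 0, Int.ofNat 0, Int.ofNat 0, Int.ofNat 0, Int.ofNat 0, Int.ofNat 0, Int.ofNat 0, Int.negSucc 1, Int.negSucc 1, Int.ofNat 0, Int.ofNat 2, Int.ofNat 2, Int.ofNat 0],
  [Int.ofNat 0, Int.ofNat 0, Int.ofNat 0, Int.ofNat 0, Int.ofNat 0, Int.ofNat 0, Int.ofNat 0, Int.ofNat 0, Int.ofNat 2, Int.ofNat 0, Int.ofNat 0, Int.ofNat 0, Int.ofNat 0, Int.negSucc 1, Int.ofNat 0, Int.ofNat 2, Int.negSucc 1, Int.ofNat 0, Int.negSucc 1, Int.negSucc 1, Int.ofNat 2, Int.ofNat 2, Int.ofNat 0, Int.ofNat 0],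
  [Int.ofNat 0, Int.ofNat 0, Int.ofNat 0, Int.ofNat 0, Int.ofNat 0, Int.ofNat 0, Int.ofNat 0, Int.ofNat 2, Int.ofNat 0, Int.ofNat 0, Int.ofNat 0, Int.ofNat 0, Int.negSucc 1, Int.ofNat 0, Int.ofNat 2, Int.negSucc 1, Int.ofNat 0, Int.negSucc 1, Int.negSucc 1, Int.ofNat 2, Int.ofNat 2, Int.ofNat 0, Int.ofNat 0, Int.ofNat 0],
  [Int.ofNat 0, Int.ofNat 0, Int.ofNat 0, Int.ofNat 0, Int.ofNat 0, Int.ofNat 0, Int.ofNat 0, Int.negSucc 1, Int.ofNat 0, Int.ofNat 0, Int.ofNat 0, Int.ofNat 0, Int.negSucc 1, Int.ofNat 0, Int.ofNat 2, Int.negSucc 1, Int.ofNat 0, Int.negSucc 1, Int.ofNat 2, Int.ofNat 2, Int.ofNat 2, Int.ofNat 0, Int.ofNat 0, Int.ofNat 0],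
  [Int.ofNat 0, Int.ofNat 0, Int.ofNat 0, Int.negSucc 1, Int.negSucc 1, Int.ofNat 0, Int.ofNat 2, Int.ofNat 0, Int.ofNat 2, Int.ofNat 0, Int.ofNat 0, Int.ofNat 0, Int.ofNat 0, Int.negSucc 1, Int.ofNat 2, Int.ofNat 0, Int.ofNat 0, Int.ofNat 0, Int.ofNat 2, Int.ofNat 0, Int.ofNat 0, Int.negSucc 1, Int.ofNat 0, Int.ofNat 0],
  [Int.ofNat 0, Int.ofNat 0, Int.ofNat 0, Int.negSucc 1, Int.negSucc 1, Int.ofNat 0, Int.ofNat 2, Int.ofNat 0, Int.ofNat 2, Int.ofNat 0, Int.ofNat 0, Int.ofNat 0, Int.ofNat 0, Int.negSucc 1, Int.ofNat 2, Int.ofNat 0, Int.ofNat 0, Int.ofNat 0, Int.negSucc 1, Int.ofNat 0, Int.ofNat 0, Int.ofNat 2, Int.ofNat 0, Int.ofNat 0],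
  [Int.ofNat 0, Int.ofNat 0, Int.ofNat 0, Int.ofNat 0, Int.negSucc 1, Int.negSucc 1, Int.ofNat 0, Int.ofNat 2, Int.ofNat 0, Int.ofNat 2, Int.ofNat 0, Int.ofNat 0, Int.ofNat 0, Int.ofNat 0, Int.negSucc 1, Int.ofNat 2, Int.ofNat 0, Int.ofNat 0, Int.ofNat 0, Int.negSucc 1, Int.ofNat 0, Int.ofNat 0, Int.ofNat 2, Int.ofNat 0],
  [Int.ofNat 0, Int.ofNat 0, Int.ofNat 0, Int.ofNat 2, Int.negSucc 1, Int.ofNat 0, Int.ofNat 0, Int.ofNat 2, Int.ofNat 0, Int.ofNat 0, Int.negSucc 1, Int.ofNat 0, Int.ofNat 0, Int.ofNat 0, Int.ofNat 0, Int.ofNat 0, Int.ofNat 0, Int.ofNat 2, Int.ofNat 0, Int.negSucc 1, Int.negSucc 1, Int.ofNat 0, Int.ofNat 2, Int.ofNat 0],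
  [Int.ofNat 2, Int.negSucc 1, Int.ofNat 0, Int.ofNat 0, Int.ofNat 2, Int.ofNat 0, Int.ofNat 0, Int.negSucc 1, Int.ofNat 0, Int.ofNat 0, Int.ofNat 0, Int.ofNat 0, Int.ofNat 0, Int.ofNat 0, Int.ofNat 2, Int.ofNat 0, Int.negSucc 1, Int.negSucc 1, Int.ofNat 0, Int.ofNat 2, Int.ofNat 0, Int.ofNat 0, Int.ofNat 0, Int.ofNat 0],
  [Int.negSucc 1, Int.ofNat 2, Int.ofNat 0, Int.ofNat 0, Int.ofNat 2, Int.ofNat 0, Int.ofNat 0, Int.negSucc 1, Int.ofNat 0, Int.ofNat 0, Int.ofNat 0, Int.ofNat 0, Int.ofNat 0, Int.ofNat 0, Int.ofNat 2, Int.ofNat 0, Int.negSucc 1, Int.negSucc 1, Int.ofNat 0, Int.ofNat 2, Int.ofNat 0, Int.ofNat 0, Int.ofNat 0, Int.ofNat 0],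
  [Int.negSucc 1, Int.ofNat 0, Int.ofNat 2, Int.ofNat 0, Int.ofNat 0, Int.negSucc 1, Int.ofNat 0, Int.ofNat 0, Int.ofNat 0, Int.ofNat 0, Int.ofNat 0, Int.negSucc 1, Int.ofNat 0, Int.negSucc 1, Int.ofNat 0, Int.ofNat 0, Int.ofNat 0, Int.ofNat 2, Int.ofNat 2, Int.ofNat 0, Int.ofNat 0, Int.ofNat 0, Int.ofNat 2, Int.ofNat 0],
  [Int.ofNat 2, Int.ofNat 0, Int.negSucc 1, Int.ofNat 0, Int.ofNat 0, Int.negSucc 1, Int.ofNat 0, Int.ofNat 0, Int.ofNat 0, Int.ofNat 0, Int.ofNat 0, Int.negSucc 1, Int.ofNat 0, Int.negSucc 1, Int.ofNat 0, Int.ofNat 0, Int.ofNat 0, Int.ofNat 2, Int.ofNat 2, Int.ofNat 0, Int.ofNat 0, Int.ofNat 0, Int.ofNat 2, Int.ofNat 0],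
  [Int.ofNat 2, Int.ofNat 0, Int.ofNat 2, Int.ofNat 0, Int.ofNat 0, Int.ofNat 2, Int.ofNat 0, Int.ofNat 0, Int.ofNat 0, Int.ofNat 0, Int.ofNat 0, Int.negSucc 1, Int.ofNat 0, Int.negSucc 1, Int.ofNat 0, Int.ofNat 0, Int.ofNat 0, Int.ofNat 2, Int.negSucc 1, Int.ofNat 0, Int.ofNat 0, Int.ofNat 0, Int.negSucc 1, Int.ofNat 0],
  [Int.ofNat 2, Int.ofNat 0, Int.ofNat 0, Int.ofNat 0, Int.ofNat 0, Int.ofNat 2, Int.ofNat 0, Int.negSucc 1, Int.ofNat 2, Int.ofNat 0, Int.ofNat 0, Int.ofNat 0, Int.ofNat 0, Int.ofNat 0, Int.negSucc 1, Int.ofNat 0, Int.ofNat 0, Int.negSucc 1, Int.ofNat 0, Int.ofNat 0, Int.ofNat 2, Int.ofNat 0, Int.negSucc 1, Int.ofNat 0],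
  [Int.ofNat 2, Int.ofNat 0, Int.ofNat 0, Int.ofNat 0, Int.ofNat 0, Int.negSucc 1, Int.ofNat 0, Int.negSucc 1, Int.ofNat 2, Int.ofNat 0, Int.ofNat 0, Int.ofNat 0, Int.ofNat 0, Int.ofNat 0, Int.negSucc 1, Int.ofNat 0, Int.ofNat 0, Int.negSucc 1, Int.ofNat 0, Int.ofNat 0, Int.ofNat 2, Int.ofNat 0, Int.ofNat 2, Int.ofNat 0],
  [Int.negSucc 0, Int.ofNat 1, Int.ofNat 1, Int.ofNat 3, Int.negSucc 0, Int.ofNat 1, Int.ofNat 1, Int.negSucc 0, Int.ofNat 1, Int.negSucc 0, Int.negSucc 0, Int.negSucc 0, Int.negSucc 0, Int.negSucc 0, Int.ofNat 1, Int.negSucc 0, Int.negSucc 0, Int.ofNat 1, Int.negSucc 0, Int.ofNat 1, Int.ofNat 1, Int.ofNat 1, Int.ofNat 1, Int.ofNat 1],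
  [Int.negSucc 0, Int.negSucc 0, Int.ofNat 1, Int.ofNat 3, Int.ofNat 1, Int.ofNat 1, Int.ofNat 1, Int.ofNat 1, Int.negSucc 0, Int.negSucc 0, Int.negSucc 0, Int.ofNat 1, Int.ofNat 1, Int.negSucc 0, Int.ofNat 1, Int.negSucc 0, Int.negSucc 0, Int.negSucc 0, Int.negSucc 0, Int.ofNat 1, Int.negSucc 0, Int.ofNat 1, Int.ofNat 1, Int.ofNat 1],
  [Int.ofNat 1, Int.ofNat 1, Int.negSucc 0, Int.ofNat 1, Int.ofNat 1, Int.negSucc 0, Int.negSucc 0, Int.negSucc 0, Int.negSucc 0, Int.ofNat 1, Int.ofNat 1, Int.ofNat 1, Int.ofNat 1, Int.negSucc 0, Int.negSucc 0, Int.ofNat 1, Int.negSucc 0, Int.negSucc 2, Int.negSucc 0, Int.negSucc 0, Int.ofNat 1, Int.negSucc 0, Int.ofNat 1, Int.negSucc 0],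
  [Int.ofNat 1, Int.negSucc 0, Int.ofNat 1, Int.ofNat 1, Int.ofNat 1, Int.negSucc 0, Int.ofNat 1, Int.ofNat 1, Int.negSucc 0, Int.negSucc 0, Int.negSucc 0, Int.negSucc 0, Int.ofNat 1, Int.ofNat 1, Int.ofNat 1, Int.ofNat 1, Int.negSucc 0, Int.negSucc 0, Int.ofNat 1, Int.negSucc 0, Int.negSucc 2, Int.negSucc 0, Int.negSucc 0, Int.negSucc 0],
  [Int.negSucc 0, Int.ofNat 1, Int.negSucc 0, Int.ofNat 1, Int.ofNat 1, Int.negSucc 0, Int.ofNat 1, Int.ofNat 1, Int.negSucc 0, Int.ofNat 1, Int.ofNat 1, Int.negSucc 0, Int.ofNat 1, Int.ofNat 1, Int.ofNat 1, Int.ofNat 3, Int.negSucc 0, Int.negSucc 0, Int.ofNat 1, Int.negSucc 0, Int.negSucc 0, Int.negSucc 0, Int.negSucc 0, Int.ofNat 1],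
  [Int.ofNat 1, Int.negSucc 0, Int.ofNat 1, Int.ofNat 1, Int.negSucc 0, Int.ofNat 1, Int.ofNat 1, Int.negSucc 0, Int.ofNat 1, Int.ofNat 1, Int.negSucc 0, Int.ofNat 1, Int.ofNat 1, Int.ofNat 1, Int.ofNat 3, Int.negSucc 0, Int.negSucc 0, Int.ofNat 1, Int.negSucc 0, Int.negSucc 0, Int.negSucc 0, Int.negSucc 0, Int.negSucc 0, Int.ofNat 1],
  [Int.negSucc 0, Int.negSucc 0, Int.negSucc 0, Int.ofNat 1, Int.negSucc 0, Int.ofNat 1, Int.ofNat 1, Int.ofNat 1, Int.ofNat 1, Int.negSucc 0, Int.ofNat 1, Int.negSucc 0, Int.ofNat 1, Int.ofNat 1, Int.ofNat 3, Int.negSucc 0, Int.negSucc 0, Int.ofNat 1, Int.ofNat 1, Int.negSucc 0, Int.negSucc 0, Int.ofNat 1, Int.negSucc 0, Int.ofNat 1],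
  [Int.ofNat 1, Int.negSucc 0, Int.negSucc 0, Int.negSucc 0, Int.ofNat 1, Int.negSucc 0, Int.negSucc 0, Int.ofNat 1, Int.negSucc 0, Int.ofNat 1, Int.negSucc 0, Int.negSucc 0, Int.ofNat 1, Int.ofNat 1, Int.ofNat 1, Int.ofNat 1, Int.ofNat 1, Int.negSucc 0, Int.ofNat 3, Int.ofNat 1, Int.ofNat 1, Int.ofNat 1, Int.negSucc 0, Int.negSucc 0],
  [Int.negSucc 0, Int.negSucc 0, Int.ofNat 1, Int.negSucc 0, Int.ofNat 1, Int.negSucc 0, Int.negSucc 0, Int.negSucc 0, Int.negSucc 0, Int.negSucc 0, Int.ofNat 1, Int.ofNat 1, Int.ofNat 1, Int.ofNat 1, Int.ofNat 1, Int.ofNat 1, Int.ofNat 1, Int.negSucc 0, Int.negSucc 2, Int.ofNat 1, Int.ofNat 1, Int.negSucc 0, Int.negSucc 0, Int.negSucc 0],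
  [Int.negSucc 0, Int.negSucc 0, Int.negSucc 0, Int.ofNat 1, Int.negSucc 0, Int.ofNat 1, Int.negSucc 0, Int.negSucc 0, Int.negSucc 0, Int.negSucc 0, Int.negSucc 0, Int.ofNat 1, Int.ofNat 1, Int.ofNat 1, Int.ofNat 1, Int.ofNat 1, Int.ofNat 1, Int.ofNat 1, Int.negSucc 0, Int.negSucc 2, Int.ofNat 1, Int.ofNat 1, Int.negSucc 0, Int.negSucc 0],
  [Int.negSucc 0, Int.negSucc 0, Int.negSucc 0, Int.negSucc 0, Int.negSucc 0, Int.negSucc 0, Int.ofNat 1, Int.ofNat 1, Int.negSucc 0, Int.negSucc 0, Int.negSucc 0, Int.ofNat 1, Int.ofNat 1, Int.ofNat 1, Int.negSucc 0, Int.ofNat 1, Int.ofNat 1, Int.negSucc 0, Int.negSucc 0, Int.negSucc 0, Int.ofNat 1, Int.ofNat 3, Int.negSucc 0, Int.negSucc 0],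
  [Int.negSucc 0, Int.negSucc 0, Int.negSucc 0, Int.ofNat 1, Int.ofNat 1, Int.negSucc 0, Int.negSucc 0, Int.negSucc 0, Int.ofNat 1, Int.ofNat 1, Int.ofNat 1, Int.negSucc 0, Int.ofNat 1, Int.ofNat 1, Int.negSucc 0, Int.negSucc 0, Int.negSucc 0, Int.ofNat 1, Int.ofNat 3, Int.negSucc 0, Int.negSucc 0, Int.negSucc 0, Int.negSucc 0, Int.negSucc 0],
  [Int.negSucc 0, Int.negSucc 0, Int.negSucc 0, Int.ofNat 1, Int.ofNat 1, Int.negSucc 0, Int.ofNat 1, Int.ofNat 1, Int.negSucc 0, Int.ofNat 1, Int.ofNat 1, Int.negSucc 2, Int.negSucc 0, Int.ofNat 1, Int.negSucc 0, Int.negSucc 0, Int.negSucc 0, Int.ofNat 1, Int.ofNat 1, Int.ofNat 1, Int.negSucc 0, Int.ofNat 1, Int.negSucc 0, Int.negSucc 0],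
  [Int.negSucc 0, Int.ofNat 1, Int.ofNat 1, Int.ofNat 1, Int.ofNat 1, Int.ofNat 1, Int.negSucc 0, Int.ofNat 1, Int.negSucc 0, Int.ofNat 1, Int.negSucc 0, Int.ofNat 1, Int.ofNat 1, Int.negSucc 0, Int.negSucc 0, Int.negSucc 0, Int.negSucc 0, Int.negSucc 0, Int.negSucc 0, Int.negSucc 2, Int.ofNat 1, Int.negSucc 0, Int.ofNat 1, Int.negSucc 0],
  [Int.ofNat 1, Int.negSucc 0, Int.negSucc 0, Int.ofNat 1, Int.ofNat 1, Int.ofNat 1, Int.ofNat 1, Int.ofNat 3, Int.negSucc 0, Int.ofNat 1, Int.negSucc 0, Int.ofNat 1, Int.ofNat 1, Int.negSucc 0, Int.negSucc 0, Int.negSucc 0, Int.negSucc 0, Int.negSucc 0, Int.negSucc 0, Int.negSucc 0, Int.ofNat 1, Int.ofNat 1, Int.ofNat 1, Int.ofNat 1],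
  [Int.ofNat 1, Int.negSucc 0, Int.ofNat 1, Int.ofNat 1, Int.ofNat 1, Int.negSucc 0, Int.negSucc 0, Int.ofNat 3, Int.negSucc 0, Int.negSucc 0, Int.ofNat 1, Int.ofNat 1, Int.ofNat 1, Int.negSucc 0, Int.negSucc 0, Int.ofNat 1, Int.negSucc 0, Int.negSucc 0, Int.ofNat 1, Int.negSucc 0, Int.ofNat 1, Int.ofNat 1, Int.negSucc 0, Int.ofNat 1],
  [Int.negSucc 0, Int.ofNat 1, Int.ofNat 1, Int.negSucc 0, Int.negSucc 0, Int.ofNat 1, Int.negSucc 0, Int.negSucc 0, Int.negSucc 0, Int.ofNat 1, Int.ofNat 3, Int.ofNat 1, Int.negSucc 0, Int.negSucc 0, Int.ofNat 1, Int.ofNat 1, Int.ofNat 1, Int.ofNat 1, Int.negSucc 0, Int.negSucc 0, Int.ofNat 1, Int.ofNat 1, Int.negSucc 0, Int.ofNat 1],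
  [Int.negSucc 0, Int.ofNat 1, Int.negSucc 0, Int.negSucc 0, Int.negSucc 0, Int.negSucc 0, Int.ofNat 1, Int.negSucc 0, Int.negSucc 0, Int.negSucc 0, Int.negSucc 2, Int.ofNat 1, Int.negSucc 0, Int.negSucc 0, Int.ofNat 1, Int.negSucc 0, Int.ofNat 1, Int.ofNat 1, Int.ofNat 1, Int.negSucc 0, Int.ofNat 1, Int.ofNat 1, Int.ofNat 1, Int.ofNat 1],
  [Int.ofNat 1, Int.negSucc 0, Int.ofNat 1, Int.negSucc 0, Int.negSucc 0, Int.negSucc 0, Int.ofNat 1, Int.negSucc 0, Int.negSucc 0, Int.ofNat 1, Int.negSucc 0, Int.ofNat 1, Int.negSucc 0, Int.negSucc 0, Int.ofNat 1, Int.ofNat 1, Int.ofNat 1, Int.ofNat 1, Int.ofNat 1, Int.negSucc 0, Int.ofNat 3, Int.ofNat 1, Int.ofNat 1, Int.negSucc 0],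
  [Int.ofNat 1, Int.ofNat 1, Int.ofNat 1, Int.negSucc 0, Int.ofNat 1, Int.ofNat 1, Int.negSucc 0, Int.negSucc 0, Int.ofNat 1, Int.negSucc 0, Int.negSucc 0, Int.negSucc 0, Int.negSucc 0, Int.ofNat 1, Int.ofNat 1, Int.ofNat 1, Int.negSucc 0, Int.ofNat 1, Int.negSucc 0, Int.ofNat 1, Int.negSucc 0, Int.ofNat 3, Int.ofNat 1, Int.negSucc 0],
  [Int.ofNat 0, Int.ofNat 0, Int.ofNat 0, Int.negSucc 1, Int.ofNat 0, Int.ofNat 0, Int.negSucc 1, Int.negSucc 1, Int.ofNat 2, Int.ofNat 0, Int.ofNat 0, Int.ofNat 0, Int.ofNat 0, Int.ofNat 0, Int.ofNat 0, Int.ofNat 2, Int.negSucc 1, Int.ofNat 0, Int.ofNat 0, Int.ofNat 0, Int.ofNat 0, Int.ofNat 2, Int.ofNat 0, Int.ofNat 2],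
  [Int.ofNat 0, Int.ofNat 2, Int.ofNat 0, Int.ofNat 0, Int.ofNat 0, Int.ofNat 0, Int.negSucc 1, Int.ofNat 0, Int.ofNat 0, Int.negSucc 1, Int.negSucc 1, Int.ofNat 2, Int.ofNat 0, Int.ofNat 0, Int.ofNat 0, Int.ofNat 0, Int.ofNat 0, Int.ofNat 0, Int.ofNat 2, Int.negSucc 1, Int.ofNat 0, Int.ofNat 0, Int.ofNat 0, Int.ofNat 2],
  [Int.ofNat 2, Int.ofNat 0, Int.ofNat 2, Int.ofNat 0, Int.ofNat 0, Int.ofNat 0, Int.ofNat 0, Int.ofNat 2, Int.negSucc 1, Int.ofNat 0, Int.ofNat 0, Int.ofNat 0, Int.negSucc 1, Int.ofNat 0, Int.ofNat 0, Int.ofNat 2, Int.ofNat 0, Int.ofNat 0, Int.ofNat 0, Int.ofNat 0, Int.ofNat 2, Int.ofNat 2, Int.ofNat 0, Int.ofNat 0],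
  [Int.ofNat 0, Int.ofNat 2, Int.ofNat 0, Int.ofNat 0, Int.ofNat 0, Int.ofNat 0, Int.ofNat 2, Int.negSucc 1, Int.ofNat 0, Int.ofNat 0, Int.ofNat 0, Int.negSucc 1, Int.ofNat 0, Int.ofNat 0, Int.ofNat 2, Int.ofNat 0, Int.ofNat 0, Int.ofNat 0, Int.ofNat 0, Int.ofNat 2, Int.ofNat 2, Int.ofNat 0, Int.ofNat 2, Int.ofNat 0],
  [Int.ofNat 0, Int.ofNat 2, Int.ofNat 0, Int.ofNat 0, Int.ofNat 0, Int.ofNat 0, Int.ofNat 2, Int.ofNat 2, Int.ofNat 0, Int.ofNat 0, Int.ofNat 0, Int.ofNat 2, Int.ofNat 0, Int.ofNat 0, Int.ofNat 2, Int.ofNat 0, Int.ofNat 0, Int.ofNat 0, Int.ofNat 0, Int.ofNat 2, Int.ofNat 2, Int.ofNat 0, Int.ofNat 2, Int.ofNat 0],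
  [Int.ofNat 0, Int.ofNat 2, Int.ofNat 2, Int.ofNat 0, Int.ofNat 0, Int.ofNat 0, Int.ofNat 2, Int.ofNat 0, Int.ofNat 2, Int.ofNat 0, Int.ofNat 0, Int.ofNat 0, Int.ofNat 0, Int.ofNat 2, Int.ofNat 0, Int.ofNat 0, Int.ofNat 0, Int.ofNat 0, Int.ofNat 2, Int.ofNat 2, Int.ofNat 0, Int.ofNat 0, Int.ofNat 2, Int.ofNat 0],
  [Int.ofNat 0, Int.ofNat 2, Int.negSucc 1, Int.ofNat 0, Int.ofNat 0, Int.ofNat 0, Int.ofNat 2, Int.ofNat 0, Int.ofNat 2, Int.ofNat 0, Int.ofNat 0, Int.ofNat 0, Int.ofNat 0, Int.ofNat 2, Int.ofNat 0, Int.ofNat 0, Int.ofNat 0, Int.ofNat 0, Int.negSucc 1, Int.ofNat 2, Int.ofNat 0, Int.ofNat 0, Int.ofNat 2, Int.ofNat 0],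
  [Int.ofNat 2, Int.ofNat 0, Int.ofNat 2, Int.negSucc 1, Int.ofNat 0, Int.ofNat 0, Int.ofNat 0, Int.ofNat 2, Int.ofNat 0, Int.ofNat 2, Int.ofNat 0, Int.ofNat 0, Int.ofNat 0, Int.ofNat 0, Int.ofNat 2, Int.ofNat 0, Int.ofNat 0, Int.ofNat 0, Int.ofNat 0, Int.negSucc 1, Int.ofNat 2, Int.ofNat 0, Int.ofNat 0, Int.ofNat 0],
  [Int.ofNat 0, Int.ofNat 2, Int.ofNat 0, Int.negSucc 1, Int.ofNat 0, Int.ofNat 0, Int.ofNat 0, Int.ofNat 2, Int.ofNat 0, Int.ofNat 0, Int.negSucc 1, Int.ofNat 0, Int.ofNat 0, Int.ofNat 0, Int.ofNat 2, Int.negSucc 1, Int.ofNat 0, Int.ofNat 0, Int.ofNat 0, Int.negSucc 1, Int.ofNat 0, Int.ofNat 0, Int.ofNat 0, Int.ofNat 2],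
  [Int.negSucc 1, Int.ofNat 0, Int.ofNat 0, Int.ofNat 0, Int.ofNat 2, Int.ofNat 0, Int.ofNat 0, Int.negSucc 1, Int.ofNat 0, Int.ofNat 0, Int.ofNat 0, Int.ofNat 2, Int.negSucc 1, Int.ofNat 0, Int.ofNat 0, Int.ofNat 0, Int.negSucc 1, Int.ofNat 0, Int.ofNat 0, Int.ofNat 0, Int.ofNat 0, Int.ofNat 2, Int.ofNat 0, Int.ofNat 2],
  [Int.ofNat 2, Int.ofNat 0, Int.ofNat 0, Int.ofNat 0, Int.ofNat 2, Int.ofNat 0, Int.ofNat 0, Int.negSucc 1, Int.ofNat 0, Int.ofNat 0, Int.ofNat 0, Int.ofNat 2, Int.negSucc 1, Int.ofNat 0, Int.ofNat 0, Int.ofNat 0, Int.negSucc 1, Int.ofNat 0, Int.ofNat 0, Int.ofNat 0, Int.ofNat 0, Int.ofNat 2, Int.ofNat 0, Int.negSucc 1],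
  [Int.ofNat 2, Int.ofNat 0, Int.ofNat 2, Int.ofNat 0, Int.ofNat 0, Int.negSucc 1, Int.ofNat 0, Int.ofNat 0, Int.negSucc 1, Int.ofNat 0, Int.ofNat 0, Int.ofNat 0, Int.ofNat 0, Int.negSucc 1, Int.ofNat 0, Int.ofNat 0, Int.ofNat 0, Int.ofNat 0, Int.ofNat 0, Int.ofNat 2, Int.ofNat 2, Int.ofNat 0, Int.ofNat 0, Int.negSucc 1],
  [Int.negSucc 0, Int.ofNat 1, Int.negSucc 0, Int.ofNat 1, Int.ofNat 1, Int.negSucc 0, Int.negSucc 0, Int.negSucc 0, Int.negSucc 0, Int.negSucc 0, Int.negSucc 0, Int.ofNat 1, Int.ofNat 1, Int.negSucc 0, Int.ofNat 1, Int.negSucc 0, Int.ofNat 1, Int.ofNat 1, Int.ofNat 1, Int.ofNat 1, Int.ofNat 1, Int.negSucc 0, Int.ofNat 1, Int.ofNat 3],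
  [Int.negSucc 0, Int.ofNat 1, Int.ofNat 1, Int.ofNat 1, Int.ofNat 1, Int.ofNat 1, Int.ofNat 1, Int.negSucc 0, Int.negSucc 0, Int.ofNat 1, Int.ofNat 1, Int.ofNat 1, Int.ofNat 1, Int.negSucc 0, Int.ofNat 1, Int.ofNat 1, Int.ofNat 1, Int.ofNat 1, Int.negSucc 0, Int.ofNat 1, Int.ofNat 1, Int.negSucc 0, Int.negSucc 0, Int.ofNat 3],
  [Int.ofNat 1, Int.ofNat 1, Int.ofNat 1, Int.ofNat 1, Int.ofNat 1, Int.ofNat 1, Int.ofNat 1, Int.negSucc 0, Int.ofNat 1, Int.negSucc 0, Int.negSucc 0, Int.ofNat 1, Int.ofNat 1, Int.ofNat 1, Int.negSucc 0, Int.ofNat 1, Int.ofNat 1, Int.ofNat 1, Int.negSucc 0, Int.ofNat 1, Int.negSucc 0, Int.ofNat 1, Int.negSucc 0, Int.ofNat 3],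
  [Int.ofNat 1, Int.ofNat 1, Int.negSucc 0, Int.ofNat 1, Int.ofNat 1, Int.negSucc 0, Int.negSucc 0, Int.negSucc 0, Int.ofNat 1, Int.ofNat 1, Int.ofNat 1, Int.ofNat 1, Int.ofNat 1, Int.ofNat 1, Int.negSucc 0, Int.negSucc 0, Int.ofNat 1, Int.ofNat 1, Int.ofNat 1, Int.ofNat 1, Int.negSucc 0, Int.ofNat 1, Int.ofNat 1, Int.ofNat 3],
  [Int.ofNat 1, Int.ofNat 1, Int.ofNat 3, Int.ofNat 1, Int.negSucc 0, Int.negSucc 0, Int.negSucc 0, Int.negSucc 0, Int.negSucc 0, Int.ofNat 1, Int.ofNat 1, Int.negSucc 0, Int.negSucc 0, Int.negSucc 0, Int.negSucc 0, Int.negSucc 0, Int.negSucc 0, Int.ofNat 1, Int.negSucc 0, Int.ofNat 1, Int.negSucc 0, Int.ofNat 1, Int.negSucc 0, Int.negSucc 0],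
  [Int.ofNat 1, Int.negSucc 0, Int.negSucc 0, Int.ofNat 1, Int.ofNat 3, Int.ofNat 1, Int.ofNat 1, Int.negSucc 0, Int.negSucc 0, Int.negSucc 0, Int.negSucc 0, Int.ofNat 1, Int.negSucc 0, Int.ofNat 1, Int.ofNat 1, Int.negSucc 0, Int.negSucc 0, Int.negSucc 0, Int.negSucc 0, Int.negSucc 0, Int.ofNat 1, Int.negSucc 0, Int.negSucc 0, Int.negSucc 0],
  [Int.negSucc 1, Int.ofNat 0, Int.ofNat 0, Int.ofNat 0, Int.ofNat 2, Int.ofNat 0, Int.ofNat 2, Int.ofNat 0, Int.ofNat 0, Int.ofNat 0, Int.ofNat 0, Int.ofNat 2, Int.ofNat 0, Int.ofNat 0, Int.ofNat 0, Int.ofNat 0, Int.negSucc 1, Int.negSucc 1, Int.ofNat 0, Int.ofNat 0, Int.ofNat 2, Int.ofNat 0, Int.negSucc 1, Int.ofNat 0],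
  [Int.ofNat 2, Int.ofNat 0, Int.negSucc 1, Int.negSucc 1, Int.ofNat 0, Int.ofNat 0, Int.ofNat 0, Int.ofNat 2, Int.ofNat 0, Int.ofNat 2, Int.ofNat 0, Int.ofNat 0, Int.ofNat 0, Int.ofNat 0, Int.ofNat 2, Int.ofNat 0, Int.ofNat 0, Int.ofNat 0, Int.ofNat 0, Int.negSucc 1, Int.negSucc 1, Int.ofNat 0, Int.ofNat 0, Int.ofNat 0],
  [Int.negSucc 1, Int.ofNat 0, Int.ofNat 2, Int.negSucc 1, Int.ofNat 0, Int.ofNat 0, Int.ofNat 0, Int.ofNat 2, Int.ofNat 0, Int.ofNat 2, Int.ofNat 0, Int.ofNat 0, Int.ofNat 0, Int.ofNat 0, Int.ofNat 2, Int.ofNat 0, Int.ofNat 0, Int.ofNat 0, Int.ofNat 0, Int.negSucc 1, Int.negSucc 1, Int.ofNat 0, Int.ofNat 0, Int.ofNat 0],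
  [Int.ofNat 0, Int.ofNat 2, Int.negSucc 1, Int.ofNat 0, Int.ofNat 0, Int.ofNat 0, Int.ofNat 2, Int.ofNat 0, Int.ofNat 2, Int.ofNat 0, Int.ofNat 0, Int.ofNat 0, Int.ofNat 0, Int.ofNat 2, Int.ofNat 0, Int.ofNat 0, Int.ofNat 0, Int.ofNat 0, Int.negSucc 1, Int.negSucc 1, Int.ofNat 0, Int.ofNat 0, Int.negSucc 1, Int.ofNat 0],
  [Int.ofNat 0, Int.ofNat 2, Int.ofNat 2, Int.ofNat 0, Int.ofNat 0, Int.ofNat 0, Int.ofNat 2, Int.ofNat 0, Int.ofNat 2, Int.ofNat 0, Int.ofNat 0, Int.ofNat 0, Int.ofNat 0, Int.ofNat 2, Int.ofNat 0, Int.ofNat 0, Int.ofNat 0, Int.ofNat 0, Int.ofNat 2, Int.negSucc 1, Int.ofNat 0, Int.ofNat 0, Int.negSucc 1, Int.ofNat 0],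
  [Int.ofNat 0, Int.negSucc 1, Int.ofNat 0, Int.ofNat 0, Int.ofNat 0, Int.ofNat 0, Int.negSucc 1, Int.ofNat 2, Int.ofNat 0, Int.ofNat 0, Int.ofNat 0, Int.ofNat 2, Int.ofNat 0, Int.ofNat 0, Int.ofNat 2, Int.ofNat 0, Int.ofNat 0, Int.ofNat 0, Int.ofNat 0, Int.ofNat 2, Int.ofNat 2, Int.ofNat 0, Int.ofNat 2, Int.ofNat 0],
  [Int.ofNat 0, Int.negSucc 1, Int.ofNat 0, Int.ofNat 0, Int.ofNat 0, Int.ofNat 0, Int.negSucc 1, Int.negSucc 1, Int.ofNat 0, Int.ofNat 0, Int.ofNat 0, Int.negSucc 1, Int.ofNat 0, Int.ofNat 0, Int.ofNat 2, Int.ofNat 0, Int.ofNat 0, Int.ofNat 0, Int.ofNat 0, Int.ofNat 2, Int.ofNat 2, Int.ofNat 0, Int.ofNat 2, Int.ofNat 0],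
  [Int.ofNat 2, Int.ofNat 0, Int.negSucc 1, Int.ofNat 0, Int.ofNat 0, Int.ofNat 0, Int.ofNat 0, Int.negSucc 1, Int.negSucc 1, Int.ofNat 0, Int.ofNat 0, Int.ofNat 0, Int.negSucc 1, Int.ofNat 0, Int.ofNat 0, Int.ofNat 2, Int.ofNat 0, Int.ofNat 0, Int.ofNat 0, Int.ofNat 0, Int.ofNat 2, Int.ofNat 2, Int.ofNat 0, Int.ofNat 0],
  [Int.negSucc 1, Int.ofNat 0, Int.ofNat 2, Int.ofNat 0, Int.ofNat 0, Int.ofNat 0, Int.ofNat 0, Int.negSucc 1, Int.ofNat 0, Int.negSucc 1, Int.negSucc 1, Int.ofNat 2, Int.ofNat 0, Int.ofNat 0, Int.ofNat 0, Int.ofNat 0, Int.ofNat 0, Int.ofNat 0, Int.ofNat 2, Int.ofNat 0, Int.ofNat 0, Int.ofNat 2, Int.ofNat 0, Int.ofNat 0],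
  [Int.ofNat 0, Int.ofNat 0, Int.ofNat 0, Int.ofNat 0, Int.negSucc 1, Int.ofNat 0, Int.negSucc 1, Int.negSucc 1, Int.ofNat 2, Int.ofNat 0, Int.ofNat 0, Int.ofNat 0, Int.ofNat 0, Int.ofNat 0, Int.ofNat 0, Int.ofNat 2, Int.ofNat 0, Int.ofNat 0, Int.ofNat 2, Int.ofNat 0, Int.negSucc 1, Int.ofNat 0, Int.ofNat 2, Int.ofNat 0],
  [Int.ofNat 0, Int.ofNat 0, Int.ofNat 0, Int.ofNat 0, Int.negSucc 1, Int.ofNat 0, Int.ofNat 0, Int.ofNat 0, Int.ofNat 0, Int.ofNat 0, Int.ofNat 0, Int.negSucc 1, Int.negSucc 1, Int.ofNat 0, Int.ofNat 0, Int.ofNat 2, Int.ofNat 0, Int.ofNat 0, Int.ofNat 0, Int.ofNat 2, Int.negSucc 1, Int.ofNat 2, Int.ofNat 2, Int.ofNat 0],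
  [Int.ofNat 0, Int.ofNat 0, Int.negSucc 1, Int.ofNat 0, Int.ofNat 0, Int.ofNat 0, Int.ofNat 0, Int.ofNat 0, Int.negSucc 1, Int.ofNat 0, Int.negSucc 1, Int.ofNat 0, Int.ofNat 0, Int.ofNat 0, Int.ofNat 2, Int.ofNat 2, Int.ofNat 0, Int.ofNat 0, Int.ofNat 0, Int.negSucc 1, Int.ofNat 2, Int.ofNat 0, Int.ofNat 2, Int.ofNat 0],
  [Int.negSucc 0, Int.negSucc 0, Int.ofNat 1, Int.negSucc 0, Int.negSucc 0, Int.negSucc 0, Int.ofNat 1, Int.ofNat 1, Int.negSucc 0, Int.negSucc 0, Int.negSucc 2, Int.ofNat 1, Int.ofNat 1, Int.negSucc 0, Int.ofNat 1, Int.ofNat 1, Int.negSucc 0, Int.negSucc 0, Int.ofNat 1, Int.negSucc 0, Int.ofNat 1, Int.ofNat 1, Int.ofNat 1, Int.negSucc 0],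
  [Int.negSucc 0, Int.negSucc 0, Int.negSucc 0, Int.negSucc 0, Int.negSucc 0, Int.ofNat 1, Int.negSucc 0, Int.ofNat 1, Int.negSucc 0, Int.ofNat 1, Int.ofNat 3, Int.ofNat 1, Int.ofNat 1, Int.negSucc 0, Int.ofNat 1, Int.negSucc 0, Int.negSucc 0, Int.negSucc 0, Int.negSucc 0, Int.negSucc 0, Int.ofNat 1, Int.ofNat 1, Int.negSucc 0, Int.negSucc 0],
  [Int.ofNat 1, Int.ofNat 1, Int.negSucc 0, Int.ofNat 1, Int.negSucc 0, Int.negSucc 0, Int.negSucc 0, Int.negSucc 0, Int.negSucc 0, Int.ofNat 1, Int.ofNat 1, Int.negSucc 0, Int.negSucc 0, Int.negSucc 0, Int.negSucc 0, Int.ofNat 3, Int.negSucc 0, Int.ofNat 1, Int.negSucc 0, Int.ofNat 1, Int.negSucc 0, Int.ofNat 1, Int.negSucc 0, Int.negSucc 0],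
  [Int.ofNat 1, Int.ofNat 1, Int.ofNat 1, Int.ofNat 1, Int.negSucc 0, Int.ofNat 1, Int.ofNat 1, Int.negSucc 0, Int.negSucc 0, Int.negSucc 0, Int.negSucc 0, Int.negSucc 0, Int.negSucc 0, Int.negSucc 0, Int.negSucc 0, Int.negSucc 2, Int.negSucc 0, Int.ofNat 1, Int.ofNat 1, Int.ofNat 1, Int.negSucc 0, Int.ofNat 1, Int.ofNat 1, Int.negSucc 0],
  [Int.ofNat 0, Int.ofNat 0, Int.ofNat 0, Int.ofNat 0, Int.ofNat 0, Int.ofNat 0, Int.ofNat 0, Int.negSucc 1, Int.ofNat 0, Int.ofNat 2, Int.ofNat 2, Int.ofNat 0, Int.ofNat 0, Int.ofNat 0, Int.negSucc 1, Int.ofNat 0, Int.ofNat 0, Int.ofNat 0, Int.ofNat 2, Int.ofNat 0, Int.ofNat 2, Int.ofNat 0, Int.ofNat 2, Int.ofNat 2],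
  [Int.ofNat 0, Int.ofNat 2, Int.ofNat 0, Int.ofNat 0, Int.ofNat 0, Int.ofNat 0, Int.ofNat 0, Int.ofNat 0, Int.ofNat 0, Int.ofNat 0, Int.negSucc 1, Int.ofNat 0, Int.ofNat 0, Int.ofNat 2, Int.ofNat 0, Int.ofNat 0, Int.ofNat 0, Int.ofNat 0, Int.ofNat 0, Int.ofNat 2, Int.ofNat 2, Int.ofNat 2, Int.negSucc 1, Int.ofNat 2],
  [Int.ofNat 2, Int.ofNat 0, Int.ofNat 2, Int.ofNat 0, Int.ofNat 0, Int.ofNat 0, Int.negSucc 1, Int.negSucc 1, Int.ofNat 0, Int.ofNat 0, Int.negSucc 1, Int.ofNat 0, Int.ofNat 0, Int.ofNat 2, Int.ofNat 0, Int.ofNat 0, Int.ofNat 0, Int.ofNat 0, Int.ofNat 0, Int.ofNat 0, Int.ofNat 2, Int.ofNat 0, Int.negSucc 1, Int.ofNat 0],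
  [Int.ofNat 2, Int.ofNat 0, Int.negSucc 1, Int.ofNat 2, Int.ofNat 0, Int.ofNat 2, Int.ofNat 0, Int.ofNat 0, Int.ofNat 0, Int.negSucc 1, Int.negSucc 1, Int.ofNat 0, Int.ofNat 0, Int.negSucc 1, Int.ofNat 0, Int.ofNat 0, Int.ofNat 2, Int.ofNat 0, Int.ofNat 0, Int.ofNat 0, Int.ofNat 0, Int.ofNat 0, Int.ofNat 0, Int.ofNat 0],
  [Int.negSucc 1, Int.ofNat 0, Int.ofNat 2, Int.ofNat 0, Int.ofNat 0, Int.ofNat 0, Int.ofNat 0, Int.ofNat 0, Int.ofNat 0, Int.ofNat 0, Int.ofNat 0, Int.ofNat 0, Int.ofNat 0, Int.negSucc 1, Int.negSucc 1, Int.ofNat 2, Int.ofNat 2, Int.negSucc 1, Int.ofNat 0, Int.ofNat 0, Int.ofNat 2, Int.ofNat 0, Int.ofNat 0, Int.ofNat 0],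
  [Int.ofNat 0, Int.ofNat 2, Int.ofNat 0, Int.ofNat 0, Int.ofNat 0, Int.ofNat 0, Int.ofNat 0, Int.ofNat 0, Int.ofNat 0, Int.ofNat 0, Int.ofNat 0, Int.ofNat 0, Int.negSucc 1, Int.negSucc 1, Int.ofNat 2, Int.ofNat 2, Int.negSucc 1, Int.ofNat 0, Int.ofNat 0, Int.ofNat 2, Int.ofNat 0, Int.ofNat 0, Int.negSucc 1, Int.ofNat 0],
  [Int.ofNat 0, Int.ofNat 2, Int.ofNat 0, Int.ofNat 0, Int.ofNat 0, Int.ofNat 0, Int.ofNat 0, Int.ofNat 0, Int.ofNat 0, Int.ofNat 0, Int.ofNat 0, Int.ofNat 0, Int.negSucc 1, Int.negSucc 1, Int.ofNat 2, Int.ofNat 2, Int.negSucc 1, Int.ofNat 0, Int.ofNat 0, Int.ofNat 2, Int.ofNat 0, Int.ofNat 0, Int.negSucc 1, Int.ofNat 0],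
  [Int.ofNat 0, Int.negSucc 1, Int.ofNat 0, Int.ofNat 2, Int.ofNat 0, Int.ofNat 0, Int.ofNat 2, Int.negSucc 1, Int.ofNat 0, Int.ofNat 0, Int.negSucc 1, Int.ofNat 0, Int.ofNat 0, Int.ofNat 0, Int.ofNat 0, Int.ofNat 0, Int.ofNat 0, Int.ofNat 0, Int.ofNat 2, Int.ofNat 0, Int.ofNat 0, Int.negSucc 1, Int.ofNat 2, Int.ofNat 0],
  [Int.ofNat 0, Int.negSucc 1, Int.ofNat 0, Int.ofNat 2, Int.ofNat 0, Int.ofNat 0, Int.ofNat 2, Int.ofNat 2, Int.ofNat 0, Int.ofNat 0, Int.ofNat 2, Int.ofNat 0, Int.ofNat 0, Int.ofNat 0, Int.ofNat 0, Int.ofNat 0, Int.ofNat 0, Int.ofNat 0, Int.negSucc 1, Int.ofNat 0, Int.ofNat 0, Int.ofNat 2, Int.ofNat 2, Int.ofNat 0],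
  [Int.ofNat 2, Int.ofNat 0, Int.negSucc 1, Int.ofNat 0, Int.ofNat 2, Int.ofNat 0, Int.ofNat 0, Int.ofNat 2, Int.ofNat 2, Int.ofNat 0, Int.ofNat 0, Int.ofNat 2, Int.ofNat 0, Int.ofNat 0, Int.ofNat 0, Int.ofNat 0, Int.ofNat 0, Int.ofNat 0, Int.ofNat 0, Int.negSucc 1, Int.ofNat 0, Int.ofNat 0, Int.ofNat 2, Int.ofNat 0],
  [Int.negSucc 1, Int.ofNat 0, Int.ofNat 2, Int.ofNat 0, Int.ofNat 0, Int.ofNat 0, Int.ofNat 0, Int.ofNat 2, Int.ofNat 0, Int.ofNat 0, Int.ofNat 0, Int.ofNat 0, Int.negSucc 1, Int.negSucc 1, Int.ofNat 0, Int.ofNat 0, Int.negSucc 1, Int.ofNat 0, Int.negSucc 1, Int.negSucc 1, Int.ofNat 0, Int.ofNat 0, Int.ofNat 0, Int.ofNat 0],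
  [Int.ofNat 0, Int.ofNat 0, Int.ofNat 0, Int.ofNat 0, Int.ofNat 2, Int.ofNat 0, Int.ofNat 0, Int.ofNat 0, Int.ofNat 0, Int.negSucc 1, Int.negSucc 1, Int.ofNat 0, Int.ofNat 0, Int.negSucc 1, Int.ofNat 0, Int.negSucc 1, Int.negSucc 1, Int.ofNat 0, Int.ofNat 0, Int.ofNat 0, Int.negSucc 1, Int.ofNat 0, Int.ofNat 2, Int.ofNat 0],
  [Int.ofNat 0, Int.ofNat 0, Int.ofNat 0, Int.ofNat 0, Int.ofNat 2, Int.ofNat 0, Int.ofNat 0, Int.ofNat 0, Int.ofNat 0, Int.ofNat 2, Int.ofNat 2, Int.ofNat 0, Int.ofNat 0, Int.negSucc 1, Int.ofNat 0, Int.ofNat 2, Int.negSucc 1, Int.ofNat 0, Int.ofNat 0, Int.ofNat 0, Int.ofNat 2, Int.ofNat 0, Int.ofNat 2, Int.ofNat 0],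
  [Int.ofNat 0, Int.ofNat 0, Int.ofNat 2, Int.ofNat 0, Int.ofNat 0, Int.ofNat 0, Int.ofNat 0, Int.ofNat 2, Int.ofNat 0, Int.negSucc 1, Int.ofNat 2, Int.ofNat 0, Int.ofNat 2, Int.negSucc 1, Int.ofNat 2, Int.ofNat 2, Int.ofNat 0, Int.ofNat 0, Int.ofNat 0, Int.ofNat 0, Int.ofNat 0, Int.ofNat 0, Int.ofNat 0, Int.ofNat 0],
  [Int.ofNat 1, Int.ofNat 1, Int.negSucc 0, Int.negSucc 0, Int.ofNat 1, Int.negSucc 0, Int.negSucc 0, Int.ofNat 1, Int.negSucc 0, Int.negSucc 2, Int.ofNat 1, Int.negSucc 0, Int.ofNat 1, Int.negSucc 0, Int.ofNat 1, Int.ofNat 1, Int.ofNat 1, Int.negSucc 0, Int.negSucc 0, Int.negSucc 0, Int.negSucc 0, Int.negSucc 0, Int.ofNat 1, Int.ofNat 1],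
  [Int.ofNat 1, Int.ofNat 1, Int.ofNat 1, Int.negSucc 0, Int.ofNat 1, Int.ofNat 1, Int.ofNat 1, Int.ofNat 1, Int.negSucc 0, Int.ofNat 3, Int.negSucc 0, Int.negSucc 0, Int.ofNat 1, Int.negSucc 0, Int.ofNat 1, Int.negSucc 0, Int.ofNat 1, Int.negSucc 0, Int.ofNat 1, Int.negSucc 0, Int.negSucc 0, Int.negSucc 0, Int.negSucc 0, Int.ofNat 1],
  [Int.ofNat 1, Int.negSucc 0, Int.negSucc 0, Int.ofNat 3, Int.ofNat 1, Int.ofNat 1, Int.negSucc 0, Int.negSucc 0, Int.negSucc 0, Int.negSucc 0, Int.ofNat 1, Int.ofNat 1, Int.ofNat 1, Int.ofNat 1, Int.ofNat 1, Int.negSucc 0, Int.negSucc 0, Int.negSucc 0, Int.negSucc 0, Int.ofNat 1, Int.ofNat 1, Int.ofNat 1, Int.negSucc 0, Int.ofNat 1],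
  [Int.ofNat 1, Int.negSucc 0, Int.ofNat 1, Int.ofNat 3, Int.ofNat 1, Int.negSucc 0, Int.ofNat 1, Int.negSucc 0, Int.negSucc 0, Int.ofNat 1, Int.negSucc 0, Int.ofNat 1, Int.ofNat 1, Int.ofNat 1, Int.ofNat 1, Int.ofNat 1, Int.negSucc 0, Int.negSucc 0, Int.ofNat 1, Int.ofNat 1, Int.ofNat 1, Int.ofNat 1, Int.ofNat 1, Int.ofNat 1],
  [Int.ofNat 0, Int.ofNat 2, Int.ofNat 0, Int.ofNat 2, Int.ofNat 0, Int.negSucc 1, Int.ofNat 0, Int.negSucc 1, Int.negSucc 1, Int.ofNat 0, Int.negSucc 1, Int.ofNat 0, Int.ofNat 0, Int.ofNat 0, Int.ofNat 0, Int.ofNat 0, Int.negSucc 1, Int.negSucc 1, Int.ofNat 0, Int.ofNat 0, Int.ofNat 0, Int.ofNat 0, Int.ofNat 0, Int.ofNat 0],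
  [Int.ofNat 0, Int.ofNat 0, Int.ofNat 0, Int.ofNat 2, Int.ofNat 0, Int.ofNat 0, Int.ofNat 2, Int.negSucc 1, Int.negSucc 1, Int.ofNat 0, Int.negSucc 1, Int.ofNat 0, Int.negSucc 1, Int.ofNat 0, Int.negSucc 1, Int.ofNat 0, Int.ofNat 0, Int.ofNat 0, Int.ofNat 0, Int.ofNat 0, Int.negSucc 1, Int.ofNat 0, Int.ofNat 0, Int.ofNat 0],
  [Int.ofNat 0, Int.ofNat 0, Int.ofNat 0, Int.ofNat 2, Int.ofNat 0, Int.ofNat 0, Int.ofNat 2, Int.negSucc 1, Int.ofNat 0, Int.ofNat 2, Int.ofNat 0, Int.ofNat 2, Int.ofNat 0, Int.ofNat 0, Int.negSucc 1, Int.ofNat 2, Int.ofNat 0, Int.ofNat 0, Int.ofNat 2, Int.ofNat 0, Int.ofNat 0, Int.ofNat 0, Int.ofNat 0, Int.ofNat 0],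
  [Int.ofNat 0, Int.ofNat 0, Int.ofNat 0, Int.ofNat 0, Int.ofNat 0, Int.ofNat 0, Int.ofNat 2, Int.ofNat 0, Int.ofNat 0, Int.ofNat 2, Int.negSucc 1, Int.ofNat 0, Int.ofNat 2, Int.ofNat 0, Int.ofNat 2, Int.ofNat 0, Int.ofNat 0, Int.negSucc 1, Int.ofNat 2, Int.ofNat 0, Int.ofNat 0, Int.ofNat 2, Int.ofNat 0, Int.ofNat 0],
  [Int.ofNat 0, Int.ofNat 0, Int.ofNat 0, Int.ofNat 0, Int.ofNat 0, Int.ofNat 0, Int.ofNat 0, Int.negSucc 1, Int.negSucc 1, Int.ofNat 2, Int.negSucc 1, Int.negSucc 1, Int.ofNat 0, Int.ofNat 0, Int.ofNat 2, Int.ofNat 0, Int.ofNat 0, Int.negSucc 1, Int.ofNat 0, Int.negSucc 1, Int.ofNat 0, Int.ofNat 0, Int.ofNat 0, Int.ofNat 0],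
  [Int.ofNat 0, Int.ofNat 0, Int.ofNat 0, Int.ofNat 0, Int.ofNat 0, Int.ofNat 0, Int.negSucc 1, Int.negSucc 1, Int.ofNat 2, Int.negSucc 1, Int.negSucc 1, Int.ofNat 0, Int.ofNat 0, Int.ofNat 2, Int.ofNat 0, Int.ofNat 0, Int.negSucc 1, Int.ofNat 0, Int.negSucc 1, Int.ofNat 0, Int.ofNat 0, Int.ofNat 0, Int.ofNat 0, Int.ofNat 0],
  [Int.ofNat 0, Int.ofNat 0, Int.ofNat 0, Int.ofNat 0, Int.ofNat 0, Int.ofNat 0, Int.negSucc 1, Int.ofNat 2, Int.ofNat 2, Int.ofNat 2, Int.ofNat 2, Int.ofNat 0, Int.ofNat 0, Int.ofNat 2, Int.ofNat 0, Int.ofNat 0, Int.negSucc 1, Int.ofNat 0, Int.ofNat 2, Int.ofNat 0, Int.ofNat 0, Int.ofNat 0, Int.ofNat 0, Int.ofNat 0],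
  [Int.ofNat 0, Int.ofNat 0, Int.ofNat 0, Int.ofNat 0, Int.ofNat 0, Int.ofNat 2, Int.ofNat 0, Int.ofNat 2, Int.ofNat 0, Int.ofNat 0, Int.negSucc 1, Int.ofNat 0, Int.ofNat 0, Int.ofNat 2, Int.ofNat 2, Int.ofNat 0, Int.ofNat 2, Int.ofNat 0, Int.ofNat 0, Int.negSucc 1, Int.ofNat 2, Int.ofNat 0, Int.ofNat 0, Int.ofNat 0],
  [Int.ofNat 0, Int.ofNat 0, Int.ofNat 0, Int.ofNat 0, Int.ofNat 0, Int.ofNat 2, Int.ofNat 0, Int.negSucc 1, Int.ofNat 0, Int.ofNat 0, Int.ofNat 2, Int.ofNat 0, Int.ofNat 0, Int.ofNat 2, Int.ofNat 2, Int.ofNat 0, Int.ofNat 2, Int.ofNat 0, Int.ofNat 0, Int.negSucc 1, Int.ofNat 2, Int.ofNat 0, Int.ofNat 0, Int.ofNat 0],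
  [Int.ofNat 0, Int.ofNat 0, Int.ofNat 0, Int.ofNat 0, Int.ofNat 0, Int.ofNat 0, Int.ofNat 2, Int.ofNat 0, Int.negSucc 1, Int.ofNat 0, Int.ofNat 0, Int.ofNat 2, Int.ofNat 0, Int.ofNat 0, Int.ofNat 2, Int.ofNat 2, Int.ofNat 0, Int.ofNat 2, Int.ofNat 0, Int.ofNat 0, Int.negSucc 1, Int.ofNat 2, Int.ofNat 0, Int.ofNat 0],
  [Int.ofNat 0, Int.ofNat 0, Int.ofNat 0, Int.negSucc 1, Int.ofNat 0, Int.negSucc 1, Int.ofNat 0, Int.negSucc 1, Int.negSucc 1, Int.ofNat 0, Int.ofNat 0, Int.ofNat 2, Int.ofNat 0, Int.ofNat 0, Int.ofNat 0, Int.ofNat 2, Int.ofNat 0, Int.ofNat 0, Int.ofNat 0, Int.negSucc 1, Int.negSucc 1, Int.ofNat 0, Int.ofNat 0, Int.ofNat 0],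
  [Int.negSucc 1, Int.ofNat 0, Int.negSucc 1, Int.ofNat 0, Int.negSucc 1, Int.negSucc 1, Int.ofNat 0, Int.ofNat 0, Int.ofNat 2, Int.ofNat 0, Int.ofNat 0, Int.ofNat 0, Int.ofNat 2, Int.ofNat 0, Int.ofNat 0, Int.ofNat 0, Int.negSucc 1, Int.negSucc 1, Int.ofNat 0, Int.ofNat 0, Int.ofNat 0, Int.ofNat 0, Int.ofNat 0, Int.ofNat 0],
  [Int.ofNat 0, Int.negSucc 1, Int.ofNat 0, Int.ofNat 2, Int.ofNat 0, Int.ofNat 0, Int.ofNat 0, Int.ofNat 0, Int.ofNat 0, Int.ofNat 0, Int.ofNat 0, Int.negSucc 1, Int.ofNat 0, Int.ofNat 2, Int.ofNat 2, Int.ofNat 0, Int.ofNat 0, Int.ofNat 0, Int.negSucc 1, Int.ofNat 0, Int.ofNat 0, Int.ofNat 0, Int.ofNat 2, Int.negSucc 1],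
  [Int.ofNat 0, Int.ofNat 0, Int.ofNat 0, Int.ofNat 2, Int.negSucc 1, Int.ofNat 0, Int.ofNat 0, Int.ofNat 0, Int.ofNat 0, Int.ofNat 2, Int.ofNat 0, Int.ofNat 0, Int.ofNat 0, Int.ofNat 0, Int.ofNat 2, Int.ofNat 0, Int.ofNat 0, Int.ofNat 2, Int.negSucc 1, Int.negSucc 1, Int.ofNat 0, Int.ofNat 0, Int.ofNat 0, Int.negSucc 1],
  [Int.negSucc 0, Int.negSucc 0, Int.negSucc 0, Int.negSucc 0, Int.negSucc 0, Int.negSucc 2, Int.ofNat 1, Int.ofNat 1, Int.ofNat 1, Int.ofNat 1, Int.negSucc 0, Int.ofNat 1, Int.ofNat 1, Int.ofNat 1, Int.negSucc 0, Int.negSucc 0, Int.ofNat 1, Int.negSucc 0, Int.negSucc 0, Int.negSucc 0, Int.negSucc 0, Int.ofNat 1, Int.ofNat 1, Int.ofNat 1],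
  [Int.negSucc 0, Int.negSucc 0, Int.ofNat 1, Int.negSucc 0, Int.negSucc 0, Int.ofNat 3, Int.negSucc 0, Int.ofNat 1, Int.ofNat 1, Int.negSucc 0, Int.ofNat 1, Int.ofNat 1, Int.ofNat 1, Int.ofNat 1, Int.negSucc 0, Int.ofNat 1, Int.ofNat 1, Int.negSucc 0, Int.ofNat 1, Int.negSucc 0, Int.negSucc 0, Int.ofNat 1, Int.negSucc 0, Int.ofNat 1],
  [Int.ofNat 3, Int.negSucc 0, Int.negSucc 0, Int.negSucc 0, Int.ofNat 1, Int.ofNat 1, Int.negSucc 0, Int.negSucc 0, Int.negSucc 0, Int.ofNat 1, Int.ofNat 1, Int.negSucc 0, Int.negSucc 0, Int.negSucc 0, Int.ofNat 1, Int.ofNat 1, Int.ofNat 1, Int.ofNat 1, Int.ofNat 1, Int.negSucc 0, Int.negSucc 0, Int.ofNat 1, Int.ofNat 1, Int.ofNat 1],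
  [Int.ofNat 3, Int.negSucc 0, Int.ofNat 1, Int.negSucc 0, Int.ofNat 1, Int.negSucc 0, Int.ofNat 1, Int.negSucc 0, Int.negSucc 0, Int.negSucc 0, Int.negSucc 0, Int.negSucc 0, Int.negSucc 0, Int.negSucc 0, Int.ofNat 1, Int.negSucc 0, Int.ofNat 1, Int.ofNat 1, Int.negSucc 0, Int.negSucc 0, Int.negSucc 0, Int.ofNat 1, Int.negSucc 0, Int.ofNat 1],
  [Int.negSucc 0, Int.ofNat 3, Int.ofNat 1, Int.negSucc 0, Int.ofNat 1, Int.negSucc 0, Int.ofNat 1, Int.negSucc 0, Int.ofNat 1, Int.ofNat 1, Int.ofNat 1, Int.ofNat 1, Int.ofNat 1, Int.negSucc 0, Int.ofNat 1, Int.ofNat 1, Int.ofNat 1, Int.ofNat 1, Int.ofNat 1, Int.negSucc 0, Int.ofNat 1, Int.ofNat 1, Int.negSucc 0, Int.ofNat 1],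
  [Int.negSucc 0, Int.ofNat 1, Int.ofNat 1, Int.negSucc 0, Int.ofNat 1, Int.ofNat 1, Int.ofNat 3, Int.negSucc 0, Int.ofNat 1, Int.ofNat 1, Int.negSucc 0, Int.negSucc 0, Int.ofNat 1, Int.ofNat 1, Int.ofNat 1, Int.ofNat 1, Int.negSucc 0, Int.ofNat 1, Int.ofNat 1, Int.negSucc 0, Int.ofNat 1, Int.ofNat 1, Int.ofNat 1, Int.ofNat 1],
  [Int.ofNat 2, Int.ofNat 0, Int.ofNat 0, Int.negSucc 1, Int.ofNat 0, Int.ofNat 0, Int.ofNat 2, Int.negSucc 1, Int.ofNat 0, Int.ofNat 0, Int.negSucc 1, Int.negSucc 1, Int.ofNat 0, Int.ofNat 0, Int.ofNat 0, Int.ofNat 0, Int.negSucc 1, Int.ofNat 0, Int.ofNat 0, Int.negSucc 1, Int.ofNat 0, Int.ofNat 0, Int.ofNat 0, Int.ofNat 0],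
  [Int.ofNat 0, Int.ofNat 0, Int.ofNat 0, Int.ofNat 2, Int.ofNat 0, Int.ofNat 0, Int.negSucc 1, Int.ofNat 0, Int.ofNat 0, Int.ofNat 2, Int.negSucc 1, Int.ofNat 0, Int.ofNat 0, Int.negSucc 1, Int.negSucc 1, Int.ofNat 0, Int.ofNat 0, Int.ofNat 0, Int.ofNat 0, Int.negSucc 1, Int.ofNat 0, Int.ofNat 0, Int.negSucc 1, Int.ofNat 0],
  [Int.ofNat 0, Int.ofNat 0, Int.ofNat 0, Int.ofNat 2, Int.ofNat 2, Int.ofNat 0, Int.ofNat 0, Int.ofNat 2, Int.ofNat 0, Int.ofNat 2, Int.negSucc 1, Int.ofNat 0, Int.ofNat 0, Int.ofNat 0, Int.negSucc 1, Int.ofNat 0, Int.ofNat 2, Int.ofNat 0, Int.ofNat 0, Int.ofNat 0, Int.ofNat 0, Int.ofNat 2, Int.ofNat 0, Int.ofNat 0],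
  [Int.ofNat 0, Int.ofNat 0, Int.ofNat 2, Int.ofNat 2, Int.ofNat 0, Int.ofNat 0, Int.ofNat 2, Int.ofNat 0, Int.ofNat 2, Int.negSucc 1, Int.ofNat 0, Int.ofNat 0, Int.ofNat 0, Int.negSucc 1, Int.ofNat 0, Int.ofNat 2, Int.ofNat 0, Int.ofNat 0, Int.ofNat 0, Int.ofNat 0, Int.ofNat 2, Int.ofNat 0, Int.ofNat 0, Int.ofNat 0],
  [Int.ofNat 0, Int.ofNat 0, Int.negSucc 1, Int.ofNat 2, Int.ofNat 0, Int.ofNat 0, Int.ofNat 2, Int.ofNat 0, Int.ofNat 2, Int.ofNat 2, Int.ofNat 0, Int.ofNat 0, Int.ofNat 0, Int.negSucc 1, Int.ofNat 0, Int.ofNat 2, Int.ofNat 0, Int.ofNat 0, Int.ofNat 0, Int.ofNat 0, Int.ofNat 2, Int.ofNat 0, Int.ofNat 0, Int.ofNat 0],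
  [Int.ofNat 0, Int.ofNat 0, Int.ofNat 0, Int.ofNat 2, Int.ofNat 0, Int.ofNat 2, Int.ofNat 0, Int.negSucc 1, Int.ofNat 2, Int.ofNat 0, Int.ofNat 0, Int.negSucc 1, Int.ofNat 0, Int.ofNat 0, Int.ofNat 0, Int.ofNat 2, Int.ofNat 0, Int.ofNat 0, Int.ofNat 0, Int.ofNat 2, Int.ofNat 2, Int.ofNat 0, Int.ofNat 0, Int.ofNat 0],
  [Int.ofNat 0, Int.ofNat 0, Int.ofNat 0, Int.ofNat 2, Int.ofNat 0, Int.ofNat 2, Int.ofNat 0, Int.ofNat 2, Int.ofNat 2, Int.ofNat 0, Int.ofNat 0, Int.ofNat 2, Int.ofNat 0, Int.ofNat 0, Int.ofNat 0, Int.ofNat 2, Int.ofNat 0, Int.ofNat 0, Int.ofNat 0, Int.ofNat 2, Int.ofNat 2, Int.ofNat 0, Int.ofNat 0, Int.ofNat 0],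
  [Int.ofNat 0, Int.ofNat 0, Int.ofNat 0, Int.ofNat 0, Int.ofNat 2, Int.ofNat 0, Int.ofNat 2, Int.ofNat 0, Int.ofNat 2, Int.ofNat 2, Int.ofNat 0, Int.ofNat 0, Int.ofNat 2, Int.ofNat 0, Int.ofNat 0, Int.ofNat 0, Int.ofNat 2, Int.ofNat 0, Int.ofNat 0, Int.ofNat 0, Int.ofNat 2, Int.ofNat 2, Int.ofNat 0, Int.ofNat 0],
  [Int.ofNat 0, Int.ofNat 0, Int.ofNat 0, Int.ofNat 0, Int.ofNat 0, Int.ofNat 0, Int.ofNat 0, Int.negSucc 1, Int.ofNat 0, Int.ofNat 0, Int.negSucc 1, Int.negSucc 1, Int.ofNat 0, Int.negSucc 1, Int.ofNat 0, Int.negSucc 1, Int.ofNat 0, Int.ofNat 0, Int.negSucc 1, Int.negSucc 1, Int.ofNat 0, Int.ofNat 0, Int.negSucc 1, Int.ofNat 0],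
  [Int.ofNat 0, Int.ofNat 0, Int.ofNat 0, Int.ofNat 0, Int.negSucc 1, Int.ofNat 0, Int.ofNat 0, Int.negSucc 1, Int.negSucc 1, Int.ofNat 0, Int.negSucc 1, Int.ofNat 0, Int.negSucc 1, Int.ofNat 0, Int.ofNat 0, Int.negSucc 1, Int.negSucc 1, Int.ofNat 0, Int.ofNat 0, Int.negSucc 1, Int.ofNat 0, Int.ofNat 0, Int.ofNat 0, Int.ofNat 0],
  [Int.ofNat 0, Int.ofNat 0, Int.ofNat 0, Int.ofNat 0, Int.ofNat 0, Int.ofNat 0, Int.ofNat 2, Int.ofNat 0, Int.ofNat 0, Int.ofNat 2, Int.ofNat 0, Int.ofNat 2, Int.ofNat 0, Int.ofNat 2, Int.ofNat 0, Int.ofNat 0, Int.ofNat 0, Int.ofNat 0, Int.ofNat 2, Int.ofNat 0, Int.ofNat 2, Int.ofNat 2, Int.ofNat 2, Int.ofNat 0],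
  [Int.ofNat 0, Int.ofNat 2, Int.ofNat 0, Int.ofNat 0, Int.ofNat 2, Int.ofNat 0, Int.ofNat 0, Int.ofNat 0, Int.ofNat 0, Int.ofNat 2, Int.ofNat 2, Int.ofNat 0, Int.ofNat 2, Int.ofNat 0, Int.ofNat 2, Int.ofNat 0, Int.ofNat 0, Int.ofNat 0, Int.ofNat 0, Int.ofNat 2, Int.ofNat 2, Int.ofNat 0, Int.ofNat 0, Int.ofNat 0],
  [Int.ofNat 1, Int.negSucc 0, Int.ofNat 1, Int.negSucc 0, Int.ofNat 1, Int.negSucc 0, Int.negSucc 0, Int.negSucc 0, Int.negSucc 0, Int.negSucc 0, Int.negSucc 0, Int.negSucc 0, Int.ofNat 1, Int.negSucc 0, Int.ofNat 1, Int.negSucc 2, Int.negSucc 0, Int.negSucc 0, Int.negSucc 0, Int.ofNat 1, Int.negSucc 0, Int.negSucc 0, Int.negSucc 0, Int.ofNat 1],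
  [Int.ofNat 1, Int.negSucc 0, Int.negSucc 0, Int.negSucc 0, Int.ofNat 1, Int.ofNat 1, Int.ofNat 1, Int.negSucc 0, Int.negSucc 0, Int.ofNat 1, Int.ofNat 1, Int.negSucc 0, Int.ofNat 1, Int.negSucc 0, Int.ofNat 1, Int.ofNat 3, Int.negSucc 0, Int.negSucc 0, Int.ofNat 1, Int.ofNat 1, Int.negSucc 0, Int.negSucc 0, Int.ofNat 1, Int.ofNat 1],
  [Int.ofNat 1, Int.negSucc 0, Int.negSucc 0, Int.ofNat 1, Int.negSucc 0, Int.negSucc 0, Int.ofNat 1, Int.ofNat 1, Int.negSucc 0, Int.negSucc 0, Int.negSucc 0, Int.ofNat 1, Int.ofNat 1, Int.negSucc 0, Int.ofNat 1, Int.ofNat 1, Int.ofNat 3, Int.negSucc 0, Int.negSucc 0, Int.ofNat 1, Int.ofNat 1, Int.ofNat 1, Int.negSucc 0, Int.ofNat 1],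
  [Int.ofNat 1, Int.negSucc 0, Int.ofNat 1, Int.ofNat 1, Int.negSucc 0, Int.ofNat 1, Int.negSucc 0, Int.ofNat 1, Int.negSucc 0, Int.ofNat 1, Int.ofNat 1, Int.ofNat 1, Int.ofNat 1, Int.negSucc 0, Int.ofNat 1, Int.negSucc 0, Int.ofNat 3, Int.negSucc 0, Int.ofNat 1, Int.ofNat 1, Int.ofNat 1, Int.ofNat 1, Int.ofNat 1, Int.ofNat 1],
  [Int.ofNat 0, Int.ofNat 2, Int.ofNat 0, Int.ofNat 0, Int.negSucc 1, Int.ofNat 0, Int.negSucc 1, Int.ofNat 0, Int.negSucc 1, Int.ofNat 0, Int.ofNat 0, Int.ofNat 0, Int.ofNat 0, Int.negSucc 1, Int.ofNat 0, Int.negSucc 1, Int.ofNat 2, Int.negSucc 1, Int.ofNat 0, Int.ofNat 0, Int.ofNat 0, Int.ofNat 0, Int.ofNat 0, Int.ofNat 0],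
  [Int.ofNat 0, Int.ofNat 0, Int.negSucc 1, Int.ofNat 0, Int.ofNat 0, Int.ofNat 0, Int.ofNat 2, Int.ofNat 0, Int.ofNat 2, Int.ofNat 0, Int.ofNat 0, Int.ofNat 0, Int.negSucc 1, Int.ofNat 0, Int.negSucc 1, Int.negSucc 1, Int.negSucc 1, Int.ofNat 0, Int.negSucc 1, Int.ofNat 0, Int.ofNat 0, Int.ofNat 0, Int.ofNat 0, Int.ofNat 0],
  [Int.negSucc 0, Int.negSucc 0, Int.ofNat 1, Int.ofNat 1, Int.ofNat 1, Int.ofNat 1, Int.ofNat 1, Int.negSucc 0, Int.ofNat 3, Int.ofNat 1, Int.ofNat 1, Int.ofNat 1, Int.negSucc 0, Int.ofNat 1, Int.negSucc 0, Int.negSucc 0, Int.negSucc 0, Int.ofNat 1, Int.negSucc 0, Int.negSucc 0, Int.ofNat 1, Int.negSucc 0, Int.ofNat 1, Int.negSucc 0],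
  [Int.ofNat 1, Int.negSucc 0, Int.ofNat 1, Int.negSucc 0, Int.negSucc 0, Int.ofNat 1, Int.ofNat 1, Int.ofNat 1, Int.ofNat 1, Int.ofNat 1, Int.negSucc 0, Int.ofNat 3, Int.ofNat 1, Int.ofNat 1, Int.ofNat 1, Int.negSucc 0, Int.ofNat 1, Int.negSucc 0, Int.negSucc 0, Int.negSucc 0, Int.ofNat 1, Int.negSucc 0, Int.negSucc 0, Int.negSucc 0],
  [Int.negSucc 0, Int.ofNat 1, Int.negSucc 0, Int.negSucc 0, Int.negSucc 0, Int.ofNat 1, Int.ofNat 1, Int.ofNat 1, Int.negSucc 0, Int.ofNat 1, Int.negSucc 0, Int.ofNat 1, Int.negSucc 0, Int.ofNat 1, Int.ofNat 1, Int.negSucc 0, Int.ofNat 1, Int.negSucc 0, Int.negSucc 2, Int.negSucc 0, Int.ofNat 1, Int.negSucc 0, Int.negSucc 0, Int.ofNat 1],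
  [Int.ofNat 1, Int.negSucc 0, Int.negSucc 0, Int.negSucc 0, Int.ofNat 1, Int.ofNat 1, Int.ofNat 1, Int.negSucc 0, Int.ofNat 1, Int.negSucc 0, Int.ofNat 1, Int.negSucc 0, Int.ofNat 1, Int.ofNat 1, Int.negSucc 0, Int.ofNat 1, Int.negSucc 0, Int.negSucc 2, Int.negSucc 0, Int.ofNat 1, Int.negSucc 0, Int.negSucc 0, Int.negSucc 0, Int.ofNat 1],
  [Int.negSucc 0, Int.negSucc 0, Int.ofNat 1, Int.negSucc 0, Int.ofNat 1, Int.ofNat 1, Int.ofNat 1, Int.ofNat 1, Int.ofNat 1, Int.ofNat 1, Int.negSucc 0, Int.ofNat 1, Int.ofNat 1, Int.ofNat 1, Int.negSucc 0, Int.ofNat 1, Int.negSucc 0, Int.negSucc 2, Int.ofNat 1, Int.ofNat 1, Int.negSucc 0, Int.ofNat 1, Int.negSucc 0, Int.ofNat 1],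
  [Int.ofNat 1, Int.negSucc 0, Int.ofNat 1, Int.ofNat 1, Int.negSucc 2, Int.ofNat 1, Int.ofNat 1, Int.ofNat 1, Int.negSucc 0, Int.ofNat 1, Int.negSucc 0, Int.ofNat 1, Int.ofNat 1, Int.ofNat 1, Int.ofNat 1, Int.negSucc 0, Int.negSucc 0, Int.ofNat 1, Int.negSucc 0, Int.ofNat 1, Int.ofNat 1, Int.ofNat 1, Int.negSucc 0, Int.negSucc 0],
  [Int.negSucc 0, Int.negSucc 0, Int.negSucc 0, Int.ofNat 1, Int.negSucc 2, Int.ofNat 1, Int.ofNat 1, Int.negSucc 0, Int.negSucc 0, Int.negSucc 0, Int.ofNat 1, Int.negSucc 0, Int.ofNat 1, Int.ofNat 1, Int.ofNat 1, Int.negSucc 0, Int.negSucc 0, Int.ofNat 1, Int.ofNat 1, Int.ofNat 1, Int.ofNat 1, Int.negSucc 0, Int.negSucc 0, Int.negSucc 0],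
  [Int.negSucc 0, Int.negSucc 0, Int.negSucc 0, Int.negSucc 0, Int.ofNat 1, Int.negSucc 2, Int.ofNat 1, Int.ofNat 1, Int.negSucc 0, Int.negSucc 0, Int.negSucc 0, Int.ofNat 1, Int.negSucc 0, Int.ofNat 1, Int.ofNat 1, Int.ofNat 1, Int.negSucc 0, Int.negSucc 0, Int.ofNat 1, Int.ofNat 1, Int.ofNat 1, Int.ofNat 1, Int.negSucc 0, Int.negSucc 0],
  [Int.negSucc 0, Int.negSucc 0, Int.negSucc 0, Int.ofNat 1, Int.ofNat 1, Int.negSucc 0, Int.negSucc 0, Int.negSucc 0, Int.negSucc 0, Int.negSucc 0, Int.negSucc 0, Int.ofNat 1, Int.negSucc 0, Int.ofNat 1, Int.ofNat 3, Int.ofNat 1, Int.negSucc 0, Int.ofNat 1, Int.ofNat 1, Int.negSucc 0, Int.ofNat 1, Int.negSucc 0, Int.negSucc 0, Int.negSucc 0],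
  [Int.ofNat 1, Int.ofNat 1, Int.negSucc 0, Int.negSucc 0, Int.negSucc 0, Int.negSucc 0, Int.negSucc 0, Int.negSucc 0, Int.ofNat 1, Int.negSucc 0, Int.ofNat 1, Int.ofNat 3, Int.ofNat 1, Int.negSucc 0, Int.ofNat 1, Int.ofNat 1, Int.negSucc 0, Int.ofNat 1, Int.negSucc 0, Int.negSucc 0, Int.negSucc 0, Int.negSucc 0, Int.negSucc 0, Int.negSucc 0],
  [Int.negSucc 0, Int.negSucc 0, Int.ofNat 1, Int.negSucc 0, Int.ofNat 1, Int.negSucc 0, Int.ofNat 1, Int.ofNat 1, Int.negSucc 0, Int.negSucc 0, Int.ofNat 1, Int.ofNat 1, Int.negSucc 0, Int.ofNat 1, Int.ofNat 1, Int.ofNat 1, Int.ofNat 1, Int.ofNat 1, Int.negSucc 2, Int.ofNat 1, Int.negSucc 0, Int.ofNat 1, Int.ofNat 1, Int.ofNat 1],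
  [Int.negSucc 0, Int.ofNat 1, Int.ofNat 1, Int.negSucc 0, Int.negSucc 2, Int.ofNat 1, Int.ofNat 1, Int.ofNat 1, Int.negSucc 0, Int.ofNat 1, Int.negSucc 0, Int.ofNat 1, Int.negSucc 0, Int.ofNat 1, Int.ofNat 1, Int.ofNat 1, Int.negSucc 0, Int.ofNat 1, Int.negSucc 0, Int.ofNat 1, Int.ofNat 1, Int.negSucc 0, Int.ofNat 1, Int.ofNat 1],
  [Int.ofNat 2, Int.ofNat 0, Int.ofNat 0, Int.negSucc 1, Int.negSucc 1, Int.ofNat 0, Int.ofNat 0, Int.ofNat 0, Int.ofNat 0, Int.ofNat 0, Int.negSucc 1, Int.ofNat 2, Int.ofNat 0, Int.ofNat 2, Int.ofNat 0, Int.ofNat 0, Int.ofNat 0, Int.ofNat 0, Int.ofNat 0, Int.ofNat 0, Int.ofNat 0, Int.negSucc 1, Int.ofNat 2, Int.ofNat 0],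
  [Int.ofNat 2, Int.ofNat 0, Int.ofNat 0, Int.negSucc 1, Int.negSucc 1, Int.ofNat 0, Int.ofNat 0, Int.ofNat 0, Int.ofNat 0, Int.ofNat 0, Int.ofNat 2, Int.ofNat 2, Int.ofNat 0, Int.ofNat 2, Int.ofNat 0, Int.ofNat 0, Int.ofNat 0, Int.ofNat 0, Int.ofNat 0, Int.ofNat 0, Int.ofNat 0, Int.negSucc 1, Int.negSucc 1, Int.ofNat 0],
  [Int.ofNat 0, Int.ofNat 0, Int.negSucc 1, Int.ofNat 0, Int.ofNat 0, Int.ofNat 0, Int.ofNat 0, Int.negSucc 1, Int.ofNat 0, Int.negSucc 1, Int.ofNat 0, Int.negSucc 1, Int.ofNat 0, Int.ofNat 0, Int.ofNat 0, Int.ofNat 2, Int.ofNat 0, Int.ofNat 2, Int.ofNat 0, Int.ofNat 0, Int.ofNat 2, Int.ofNat 0, Int.ofNat 2, Int.ofNat 0],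
  [Int.ofNat 0, Int.ofNat 0, Int.ofNat 2, Int.ofNat 0, Int.ofNat 0, Int.ofNat 0, Int.ofNat 0, Int.negSucc 1, Int.ofNat 0, Int.ofNat 2, Int.ofNat 0, Int.negSucc 1, Int.ofNat 0, Int.ofNat 0, Int.ofNat 0, Int.negSucc 1, Int.ofNat 0, Int.ofNat 2, Int.ofNat 0, Int.ofNat 0, Int.ofNat 2, Int.ofNat 0, Int.negSucc 1, Int.ofNat 0],
  [Int.ofNat 1, Int.ofNat 1, Int.negSucc 0, Int.negSucc 0, Int.ofNat 1, Int.negSucc 0, Int.ofNat 1, Int.negSucc 0, Int.ofNat 1, Int.ofNat 1, Int.negSucc 0, Int.negSucc 0, Int.ofNat 1, Int.ofNat 1, Int.negSucc 0, Int.negSucc 2, Int.ofNat 1, Int.ofNat 1, Int.ofNat 1, Int.ofNat 1, Int.ofNat 1, Int.ofNat 1, Int.negSucc 0, Int.ofNat 1],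
  [Int.ofNat 1, Int.ofNat 1, Int.ofNat 1, Int.negSucc 0, Int.negSucc 0, Int.ofNat 1, Int.ofNat 1, Int.negSucc 0, Int.ofNat 1, Int.ofNat 1, Int.negSucc 0, Int.ofNat 1, Int.ofNat 1, Int.ofNat 1, Int.ofNat 1, Int.negSucc 2, Int.ofNat 1, Int.negSucc 0, Int.ofNat 1, Int.negSucc 0, Int.negSucc 0, Int.ofNat 1, Int.negSucc 0, Int.ofNat 1],
  [Int.ofNat 1, Int.ofNat 1, Int.ofNat 1, Int.negSucc 0, Int.negSucc 0, Int.ofNat 1, Int.ofNat 1, Int.negSucc 0, Int.negSucc 0, Int.ofNat 3, Int.ofNat 1, Int.negSucc 0, Int.negSucc 0, Int.ofNat 1, Int.ofNat 1, Int.negSucc 0, Int.ofNat 1, Int.negSucc 0, Int.negSucc 0, Int.negSucc 0, Int.ofNat 1, Int.ofNat 1, Int.negSucc 0, Int.ofNat 1],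
  [Int.ofNat 1, Int.ofNat 1, Int.negSucc 0, Int.ofNat 1, Int.ofNat 1, Int.ofNat 1, Int.negSucc 0, Int.negSucc 0, Int.ofNat 1, Int.ofNat 1, Int.negSucc 0, Int.negSucc 0, Int.ofNat 3, Int.ofNat 1, Int.negSucc 0, Int.negSucc 0, Int.ofNat 1, Int.ofNat 1, Int.negSucc 0, Int.ofNat 1, Int.negSucc 0, Int.negSucc 0, Int.negSucc 0, Int.ofNat 1],
  [Int.ofNat 0, Int.ofNat 0, Int.ofNat 2, Int.ofNat 0, Int.ofNat 0, Int.ofNat 0, Int.ofNat 0, Int.ofNat 0, Int.ofNat 0, Int.ofNat 2, Int.ofNat 0, Int.negSucc 1, Int.ofNat 2, Int.ofNat 0, Int.negSucc 1, Int.ofNat 0, Int.ofNat 0, Int.ofNat 0, Int.negSucc 1, Int.ofNat 2, Int.ofNat 0, Int.ofNat 0, Int.negSucc 1, Int.ofNat 0],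
  [Int.ofNat 0, Int.ofNat 2, Int.ofNat 0, Int.ofNat 0, Int.ofNat 0, Int.ofNat 0, Int.ofNat 0, Int.ofNat 0, Int.ofNat 2, Int.ofNat 0, Int.negSucc 1, Int.ofNat 2, Int.ofNat 0, Int.negSucc 1, Int.ofNat 0, Int.ofNat 0, Int.ofNat 0, Int.negSucc 1, Int.ofNat 2, Int.ofNat 0, Int.ofNat 0, Int.negSucc 1, Int.ofNat 0, Int.ofNat 0],
  [Int.ofNat 0, Int.ofNat 2, Int.ofNat 0, Int.ofNat 0, Int.ofNat 0, Int.ofNat 0, Int.ofNat 0, Int.ofNat 0, Int.ofNat 2, Int.ofNat 0, Int.ofNat 2, Int.negSucc 1, Int.ofNat 0, Int.negSucc 1, Int.ofNat 0, Int.ofNat 0, Int.ofNat 0, Int.negSucc 1, Int.negSucc 1, Int.ofNat 0, Int.ofNat 0, Int.ofNat 2, Int.ofNat 0, Int.ofNat 0],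
  [Int.ofNat 0, Int.ofNat 0, Int.negSucc 1, Int.ofNat 0, Int.negSucc 1, Int.ofNat 0, Int.ofNat 0, Int.negSucc 1, Int.ofNat 0, Int.ofNat 0, Int.ofNat 0, Int.ofNat 0, Int.ofNat 2, Int.ofNat 0, Int.negSucc 1, Int.ofNat 0, Int.ofNat 2, Int.ofNat 0, Int.ofNat 0, Int.ofNat 0, Int.ofNat 2, Int.ofNat 0, Int.ofNat 2, Int.ofNat 0],
  [Int.ofNat 0, Int.ofNat 0, Int.ofNat 2, Int.ofNat 0, Int.negSucc 1, Int.ofNat 0, Int.ofNat 0, Int.ofNat 2, Int.ofNat 0, Int.ofNat 0, Int.ofNat 0, Int.ofNat 0, Int.ofNat 2, Int.ofNat 0, Int.negSucc 1, Int.ofNat 0, Int.ofNat 2, Int.ofNat 0, Int.ofNat 0, Int.ofNat 0, Int.ofNat 2, Int.ofNat 0, Int.ofNat 2, Int.ofNat 0],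
  [Int.ofNat 2, Int.ofNat 0, Int.ofNat 0, Int.ofNat 2, Int.ofNat 0, Int.negSucc 1, Int.ofNat 0, Int.ofNat 0, Int.ofNat 2, Int.ofNat 0, Int.ofNat 0, Int.ofNat 0, Int.ofNat 0, Int.ofNat 2, Int.ofNat 0, Int.negSucc 1, Int.ofNat 0, Int.ofNat 2, Int.ofNat 0, Int.ofNat 0, Int.ofNat 0, Int.ofNat 2, Int.ofNat 0, Int.ofNat 0],
  [Int.negSucc 0, Int.ofNat 1, Int.ofNat 1, Int.ofNat 1, Int.negSucc 0, Int.negSucc 2, Int.negSucc 0, Int.negSucc 0, Int.ofNat 1, Int.ofNat 1, Int.ofNat 1, Int.negSucc 0, Int.negSucc 0, Int.ofNat 1, Int.negSucc 0, Int.negSucc 0, Int.negSucc 0, Int.ofNat 1, Int.negSucc 0, Int.negSucc 0, Int.ofNat 1, Int.ofNat 1, Int.negSucc 0, Int.ofNat 1],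
  [Int.ofNat 1, Int.negSucc 0, Int.negSucc 2, Int.negSucc 0, Int.negSucc 0, Int.ofNat 1, Int.ofNat 1, Int.ofNat 1, Int.negSucc 0, Int.negSucc 0, Int.ofNat 1, Int.negSucc 0, Int.negSucc 0, Int.negSucc 0, Int.ofNat 1, Int.negSucc 0, Int.negSucc 0, Int.ofNat 1, Int.ofNat 1, Int.negSucc 0, Int.negSucc 0, Int.ofNat 1, Int.ofNat 1, Int.ofNat 1],
  [Int.negSucc 1, Int.ofNat 0, Int.ofNat 2, Int.negSucc 1, Int.ofNat 0, Int.ofNat 0, Int.ofNat 0, Int.ofNat 0, Int.ofNat 0, Int.ofNat 0, Int.ofNat 2, Int.ofNat 0, Int.ofNat 0, Int.ofNat 0, Int.ofNat 0, Int.ofNat 0, Int.ofNat 0, Int.ofNat 0, Int.ofNat 2, Int.negSucc 1, Int.ofNat 0, Int.ofNat 0, Int.ofNat 2, Int.negSucc 1],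
  [Int.negSucc 1, Int.ofNat 0, Int.ofNat 0, Int.negSucc 1, Int.ofNat 2, Int.ofNat 0, Int.ofNat 2, Int.ofNat 2, Int.ofNat 0, Int.ofNat 0, Int.ofNat 0, Int.ofNat 0, Int.ofNat 0, Int.ofNat 0, Int.ofNat 2, Int.ofNat 0, Int.ofNat 0, Int.ofNat 0, Int.ofNat 0, Int.ofNat 0, Int.ofNat 0, Int.ofNat 0, Int.negSucc 1, Int.negSucc 1],
  [Int.ofNat 0, Int.negSucc 1, Int.negSucc 1, Int.negSucc 1, Int.ofNat 2, Int.ofNat 0, Int.ofNat 0, Int.ofNat 0, Int.ofNat 0, Int.ofNat 0, Int.ofNat 0, Int.ofNat 0, Int.ofNat 0, Int.ofNat 0, Int.ofNat 2, Int.ofNat 0, Int.ofNat 0, Int.ofNat 0, Int.ofNat 0, Int.negSucc 1, Int.ofNat 0, Int.negSucc 1, Int.negSucc 1, Int.ofNat 0],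
  [Int.ofNat 0, Int.negSucc 1, Int.ofNat 2, Int.negSucc 1, Int.ofNat 2, Int.ofNat 0, Int.ofNat 0, Int.ofNat 0, Int.ofNat 0, Int.ofNat 0, Int.ofNat 0, Int.ofNat 0, Int.ofNat 0, Int.ofNat 0, Int.ofNat 2, Int.ofNat 0, Int.ofNat 0, Int.ofNat 0, Int.ofNat 0, Int.negSucc 1, Int.ofNat 0, Int.negSucc 1, Int.ofNat 2, Int.ofNat 0],
  [Int.ofNat 0, Int.ofNat 0, Int.negSucc 1, Int.ofNat 0, Int.ofNat 0, Int.ofNat 2, Int.negSucc 1, Int.ofNat 2, Int.ofNat 0, Int.negSucc 1, Int.ofNat 0, Int.ofNat 2, Int.ofNat 0, Int.negSucc 1, Int.ofNat 0, Int.ofNat 0, Int.ofNat 0, Int.ofNat 0, Int.ofNat 0, Int.ofNat 2, Int.ofNat 0, Int.ofNat 0, Int.ofNat 0, Int.ofNat 0],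
  [Int.ofNat 0, Int.ofNat 0, Int.ofNat 2, Int.ofNat 0, Int.ofNat 0, Int.negSucc 1, Int.ofNat 2, Int.ofNat 2, Int.ofNat 0, Int.ofNat 2, Int.ofNat 0, Int.ofNat 2, Int.ofNat 0, Int.negSucc 1, Int.ofNat 0, Int.ofNat 0, Int.ofNat 0, Int.ofNat 0, Int.ofNat 0, Int.ofNat 2, Int.ofNat 0, Int.ofNat 0, Int.ofNat 0, Int.ofNat 0],
  [Int.ofNat 1, Int.ofNat 1, Int.negSucc 0, Int.ofNat 1, Int.ofNat 1, Int.negSucc 0, Int.negSucc 0, Int.negSucc 0, Int.negSucc 0, Int.ofNat 1, Int.negSucc 0, Int.ofNat 1, Int.negSucc 0, Int.negSucc 0, Int.ofNat 1, Int.negSucc 0, Int.ofNat 1, Int.ofNat 1, Int.negSucc 0, Int.negSucc 0, Int.negSucc 0, Int.negSucc 2, Int.ofNat 1, Int.ofNat 1],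
  [Int.ofNat 1, Int.negSucc 0, Int.negSucc 0, Int.ofNat 1, Int.negSucc 0, Int.negSucc 2, Int.ofNat 1, Int.negSucc 0, Int.ofNat 1, Int.negSucc 0, Int.negSucc 0, Int.negSucc 0, Int.negSucc 0, Int.ofNat 1, Int.ofNat 1, Int.negSucc 0, Int.negSucc 0, Int.ofNat 1, Int.ofNat 1, Int.ofNat 1, Int.negSucc 0, Int.negSucc 0, Int.ofNat 1, Int.ofNat 1],
  [Int.negSucc 0, Int.ofNat 1, Int.ofNat 1, Int.ofNat 1, Int.negSucc 0, Int.negSucc 2, Int.ofNat 1, Int.negSucc 0, Int.ofNat 1, Int.ofNat 1, Int.ofNat 1, Int.negSucc 0, Int.negSucc 0, Int.ofNat 1, Int.ofNat 1, Int.ofNat 1, Int.negSucc 0, Int.ofNat 1, Int.ofNat 1, Int.ofNat 1, Int.ofNat 1, Int.negSucc 0, Int.ofNat 1, Int.negSucc 0],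
  [Int.ofNat 1, Int.negSucc 0, Int.ofNat 1, Int.negSucc 0, Int.ofNat 1, Int.ofNat 1, Int.ofNat 1, Int.negSucc 0, Int.negSucc 2, Int.ofNat 1, Int.negSucc 0, Int.ofNat 1, Int.ofNat 1, Int.ofNat 1, Int.negSucc 0, Int.negSucc 0, Int.ofNat 1, Int.ofNat 1, Int.ofNat 1, Int.negSucc 0, Int.ofNat 1, Int.ofNat 1, Int.ofNat 1, Int.negSucc 0],
  [Int.negSucc 0, Int.ofNat 1, Int.negSucc 0, Int.negSucc 0, Int.negSucc 0, Int.ofNat 1, Int.ofNat 1, Int.negSucc 0, Int.negSucc 2, Int.ofNat 1, Int.negSucc 0, Int.ofNat 1, Int.ofNat 1, Int.negSucc 0, Int.negSucc 0, Int.negSucc 0, Int.negSucc 0, Int.ofNat 1, Int.ofNat 1, Int.negSucc 0, Int.ofNat 1, Int.ofNat 1, Int.negSucc 0, Int.ofNat 1],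
  [Int.ofNat 1, Int.negSucc 0, Int.negSucc 0, Int.negSucc 0, Int.ofNat 1, Int.ofNat 1, Int.negSucc 0, Int.negSucc 2, Int.ofNat 1, Int.negSucc 0, Int.ofNat 1, Int.ofNat 1, Int.negSucc 0, Int.negSucc 0, Int.negSucc 0, Int.negSucc 0, Int.ofNat 1, Int.ofNat 1, Int.negSucc 0, Int.ofNat 1, Int.ofNat 1, Int.negSucc 0, Int.negSucc 0, Int.ofNat 1],
  [Int.negSucc 0, Int.negSucc 0, Int.ofNat 1, Int.negSucc 0, Int.ofNat 1, Int.ofNat 1, Int.negSucc 0, Int.ofNat 3, Int.ofNat 1, Int.ofNat 1, Int.negSucc 0, Int.negSucc 0, Int.negSucc 0, Int.negSucc 0, Int.negSucc 0, Int.negSucc 0, Int.ofNat 1, Int.ofNat 1, Int.ofNat 1, Int.ofNat 1, Int.ofNat 1, Int.ofNat 1, Int.negSucc 0, Int.ofNat 1],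
  [Int.ofNat 1, Int.negSucc 0, Int.negSucc 0, Int.negSucc 0, Int.ofNat 1, Int.ofNat 1, Int.ofNat 1, Int.negSucc 0, Int.ofNat 1, Int.ofNat 1, Int.ofNat 1, Int.ofNat 1, Int.ofNat 1, Int.ofNat 3, Int.ofNat 1, Int.negSucc 0, Int.negSucc 0, Int.ofNat 1, Int.negSucc 0, Int.negSucc 0, Int.ofNat 1, Int.negSucc 0, Int.negSucc 0, Int.negSucc 0],
  [Int.negSucc 0, Int.negSucc 0, Int.ofNat 1, Int.negSucc 0, Int.ofNat 1, Int.ofNat 1, Int.ofNat 1, Int.ofNat 1, Int.ofNat 1, Int.negSucc 0, Int.negSucc 0, Int.negSucc 0, Int.ofNat 1, Int.ofNat 3, Int.ofNat 1, Int.negSucc 0, Int.negSucc 0, Int.ofNat 1, Int.ofNat 1, Int.negSucc 0, Int.ofNat 1, Int.ofNat 1, Int.negSucc 0, Int.negSucc 0],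
  [Int.negSucc 0, Int.negSucc 0, Int.negSucc 0, Int.ofNat 1, Int.negSucc 0, Int.ofNat 1, Int.ofNat 1, Int.ofNat 1, Int.ofNat 1, Int.ofNat 1, Int.negSucc 0, Int.negSucc 0, Int.negSucc 0, Int.ofNat 1, Int.ofNat 3, Int.ofNat 1, Int.negSucc 0, Int.negSucc 0, Int.ofNat 1, Int.ofNat 1, Int.negSucc 0, Int.ofNat 1, Int.ofNat 1, Int.negSucc 0],
  [Int.negSucc 0, Int.negSucc 0, Int.negSucc 0, Int.negSucc 0, Int.negSucc 0, Int.negSucc 0, Int.negSucc 0, Int.negSucc 0, Int.ofNat 1, Int.ofNat 1, Int.negSucc 0, Int.negSucc 0, Int.negSucc 0, Int.ofNat 1, Int.ofNat 1, Int.ofNat 1, Int.negSucc 0, Int.negSucc 2, Int.ofNat 1, Int.negSucc 0, Int.negSucc 0, Int.negSucc 0, Int.ofNat 1, Int.negSucc 0],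
  [Int.negSucc 0, Int.negSucc 0, Int.negSucc 0, Int.negSucc 0, Int.negSucc 0, Int.ofNat 1, Int.ofNat 1, Int.negSucc 0, Int.negSucc 0, Int.negSucc 0, Int.ofNat 1, Int.ofNat 1, Int.ofNat 1, Int.negSucc 0, Int.negSucc 2, Int.ofNat 1, Int.negSucc 0, Int.negSucc 0, Int.negSucc 0, Int.ofNat 1, Int.negSucc 0, Int.negSucc 0, Int.negSucc 0, Int.negSucc 0],
  [Int.negSucc 0, Int.negSucc 0, Int.negSucc 0, Int.ofNat 1, Int.ofNat 1, Int.ofNat 3, Int.ofNat 1, Int.negSucc 0, Int.negSucc 0, Int.negSucc 0, Int.ofNat 1, Int.ofNat 1, Int.ofNat 1, Int.ofNat 1, Int.negSucc 0, Int.ofNat 1, Int.ofNat 1, Int.ofNat 1, Int.negSucc 0, Int.ofNat 1, Int.negSucc 0, Int.negSucc 0, Int.ofNat 1, Int.negSucc 0],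
  [Int.negSucc 0, Int.ofNat 1, Int.ofNat 1, Int.ofNat 1, Int.negSucc 0, Int.negSucc 0, Int.negSucc 0, Int.ofNat 1, Int.ofNat 1, Int.ofNat 1, Int.negSucc 0, Int.ofNat 1, Int.negSucc 0, Int.ofNat 1, Int.ofNat 1, Int.ofNat 1, Int.negSucc 0, Int.negSucc 0, Int.negSucc 0, Int.ofNat 1, Int.negSucc 0, Int.ofNat 3, Int.ofNat 1, Int.negSucc 0],
  [Int.ofNat 1, Int.negSucc 0, Int.negSucc 0, Int.ofNat 1, Int.negSucc 0, Int.negSucc 0, Int.negSucc 2, Int.negSucc 0, Int.ofNat 1, Int.ofNat 1, Int.negSucc 0, Int.ofNat 1, Int.negSucc 0, Int.ofNat 1, Int.ofNat 1, Int.ofNat 1, Int.negSucc 0, Int.negSucc 0, Int.negSucc 0, Int.negSucc 0, Int.negSucc 0, Int.ofNat 1, Int.ofNat 1, Int.ofNat 1],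
  [Int.ofNat 1, Int.negSucc 0, Int.ofNat 1, Int.ofNat 1, Int.negSucc 0, Int.ofNat 1, Int.ofNat 3, Int.negSucc 0, Int.ofNat 1, Int.negSucc 0, Int.ofNat 1, Int.ofNat 1, Int.negSucc 0, Int.ofNat 1, Int.ofNat 1, Int.negSucc 0, Int.negSucc 0, Int.negSucc 0, Int.ofNat 1, Int.negSucc 0, Int.negSucc 0, Int.ofNat 1, Int.negSucc 0, Int.ofNat 1],
  [Int.ofNat 1, Int.negSucc 0, Int.ofNat 1, Int.negSucc 0, Int.negSucc 0, Int.ofNat 1, Int.negSucc 0, Int.negSucc 0, Int.negSucc 0, Int.ofNat 1, Int.negSucc 0, Int.negSucc 0, Int.ofNat 3, Int.negSucc 0, Int.ofNat 1, Int.ofNat 1, Int.negSucc 0, Int.ofNat 1, Int.ofNat 1, Int.ofNat 1, Int.ofNat 1, Int.negSucc 0, Int.ofNat 1, Int.ofNat 1],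
  [Int.ofNat 1, Int.negSucc 0, Int.negSucc 0, Int.negSucc 0, Int.negSucc 0, Int.negSucc 0, Int.ofNat 1, Int.negSucc 0, Int.negSucc 0, Int.negSucc 0, Int.ofNat 1, Int.negSucc 0, Int.ofNat 3, Int.negSucc 0, Int.ofNat 1, Int.negSucc 0, Int.negSucc 0, Int.ofNat 1, Int.negSucc 0, Int.ofNat 1, Int.ofNat 1, Int.negSucc 0, Int.negSucc 0, Int.ofNat 1],
  [Int.negSucc 0, Int.ofNat 1, Int.ofNat 1, Int.negSucc 0, Int.ofNat 1, Int.negSucc 0, Int.ofNat 1, Int.negSucc 0, Int.negSucc 0, Int.negSucc 0, Int.ofNat 1, Int.negSucc 0, Int.ofNat 3, Int.ofNat 1, Int.ofNat 1, Int.negSucc 0, Int.ofNat 1, Int.ofNat 1, Int.negSucc 0, Int.ofNat 1, Int.ofNat 1, Int.negSucc 0, Int.ofNat 1, Int.negSucc 0],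
  [Int.negSucc 0, Int.negSucc 0, Int.ofNat 1, Int.negSucc 0, Int.ofNat 1, Int.negSucc 0, Int.ofNat 1, Int.negSucc 0, Int.ofNat 1, Int.ofNat 3, Int.negSucc 0, Int.ofNat 1, Int.negSucc 0, Int.negSucc 0, Int.ofNat 1, Int.negSucc 0, Int.ofNat 1, Int.negSucc 0, Int.ofNat 1, Int.ofNat 1, Int.ofNat 1, Int.ofNat 1, Int.ofNat 1, Int.negSucc 0],
  [Int.ofNat 0, Int.ofNat 0, Int.negSucc 1, Int.ofNat 0, Int.ofNat 0, Int.ofNat 0, Int.ofNat 0, Int.negSucc 1, Int.ofNat 0, Int.ofNat 2, Int.negSucc 1, Int.ofNat 0, Int.negSucc 1, Int.negSucc 1, Int.ofNat 2, Int.negSucc 1, Int.ofNat 0, Int.ofNat 0, Int.ofNat 0, Int.ofNat 0, Int.ofNat 0, Int.ofNat 0, Int.ofNat 0, Int.ofNat 0],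
  [Int.ofNat 0, Int.ofNat 0, Int.ofNat 0, Int.ofNat 0, Int.ofNat 0, Int.negSucc 1, Int.ofNat 0, Int.ofNat 0, Int.ofNat 0, Int.ofNat 0, Int.negSucc 1, Int.ofNat 0, Int.ofNat 2, Int.negSucc 1, Int.ofNat 0, Int.negSucc 1, Int.negSucc 1, Int.ofNat 2, Int.negSucc 1, Int.ofNat 0, Int.ofNat 0, Int.ofNat 0, Int.ofNat 0, Int.ofNat 0],
  [Int.ofNat 0, Int.ofNat 0, Int.ofNat 0, Int.ofNat 0, Int.ofNat 2, Int.negSucc 1, Int.ofNat 0, Int.ofNat 0, Int.ofNat 0, Int.ofNat 2, Int.ofNat 0, Int.ofNat 0, Int.ofNat 2, Int.ofNat 0, Int.ofNat 0, Int.ofNat 0, Int.ofNat 0, Int.ofNat 2, Int.negSucc 1, Int.ofNat 0, Int.ofNat 2, Int.ofNat 0, Int.ofNat 2, Int.ofNat 0],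
  [Int.ofNat 0, Int.ofNat 0, Int.ofNat 0, Int.ofNat 2, Int.negSucc 1, Int.ofNat 0, Int.ofNat 0, Int.ofNat 0, Int.ofNat 2, Int.ofNat 0, Int.ofNat 0, Int.ofNat 2, Int.ofNat 0, Int.ofNat 0, Int.ofNat 0, Int.ofNat 0, Int.ofNat 2, Int.negSucc 1, Int.ofNat 0, Int.ofNat 2, Int.ofNat 0, Int.ofNat 2, Int.ofNat 0, Int.ofNat 0],
  [Int.ofNat 0, Int.ofNat 0, Int.ofNat 0, Int.ofNat 2, Int.negSucc 1, Int.ofNat 0, Int.ofNat 0, Int.ofNat 0, Int.ofNat 2, Int.ofNat 0, Int.ofNat 0, Int.negSucc 1, Int.ofNat 0, Int.ofNat 0, Int.ofNat 0, Int.ofNat 0, Int.ofNat 2, Int.negSucc 1, Int.ofNat 0, Int.ofNat 2, Int.ofNat 0, Int.negSucc 1, Int.ofNat 0, Int.ofNat 0],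
  [Int.ofNat 0, Int.ofNat 0, Int.negSucc 1, Int.ofNat 0, Int.negSucc 1, Int.ofNat 0, Int.ofNat 2, Int.ofNat 0, Int.ofNat 0, Int.ofNat 0, Int.ofNat 2, Int.ofNat 0, Int.negSucc 1, Int.ofNat 0, Int.ofNat 0, Int.ofNat 2, Int.ofNat 0, Int.negSucc 1, Int.ofNat 0, Int.ofNat 0, Int.ofNat 2, Int.ofNat 0, Int.ofNat 0, Int.ofNat 0],
  [Int.ofNat 0, Int.ofNat 0, Int.ofNat 2, Int.ofNat 0, Int.negSucc 1, Int.ofNat 0, Int.ofNat 2, Int.ofNat 0, Int.ofNat 0, Int.ofNat 0, Int.negSucc 1, Int.ofNat 0, Int.negSucc 1, Int.ofNat 0, Int.ofNat 0, Int.ofNat 2, Int.ofNat 0, Int.negSucc 1, Int.ofNat 0, Int.ofNat 0, Int.ofNat 2, Int.ofNat 0, Int.ofNat 0, Int.ofNat 0],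
  [Int.ofNat 0, Int.ofNat 0, Int.ofNat 0, Int.ofNat 2, Int.ofNat 0, Int.negSucc 1, Int.ofNat 0, Int.ofNat 2, Int.ofNat 0, Int.ofNat 0, Int.ofNat 0, Int.negSucc 1, Int.ofNat 0, Int.negSucc 1, Int.ofNat 0, Int.ofNat 0, Int.ofNat 2, Int.ofNat 0, Int.negSucc 1, Int.ofNat 0, Int.ofNat 0, Int.ofNat 2, Int.ofNat 0, Int.ofNat 0],
  [Int.ofNat 0, Int.ofNat 0, Int.ofNat 0, Int.ofNat 2, Int.ofNat 0, Int.negSucc 1, Int.negSucc 1, Int.ofNat 0, Int.ofNat 2, Int.ofNat 0, Int.ofNat 0, Int.ofNat 0, Int.ofNat 2, Int.negSucc 1, Int.ofNat 0, Int.ofNat 0, Int.ofNat 2, Int.ofNat 0, Int.ofNat 0, Int.negSucc 1, Int.ofNat 0, Int.ofNat 0, Int.ofNat 0, Int.ofNat 0],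
  [Int.ofNat 2, Int.ofNat 0, Int.negSucc 1, Int.negSucc 1, Int.ofNat 0, Int.ofNat 2, Int.ofNat 0, Int.ofNat 0, Int.ofNat 0, Int.ofNat 2, Int.negSucc 1, Int.ofNat 0, Int.ofNat 0, Int.ofNat 2, Int.ofNat 0, Int.ofNat 0, Int.negSucc 1, Int.ofNat 0, Int.ofNat 0, Int.ofNat 0, Int.ofNat 0, Int.ofNat 0, Int.ofNat 0, Int.ofNat 0],
  [Int.negSucc 1, Int.ofNat 0, Int.ofNat 2, Int.negSucc 1, Int.ofNat 0, Int.ofNat 2, Int.ofNat 0, Int.ofNat 0, Int.ofNat 0, Int.ofNat 2, Int.negSucc 1, Int.ofNat 0, Int.ofNat 0, Int.ofNat 2, Int.ofNat 0, Int.ofNat 0, Int.negSucc 1, Int.ofNat 0, Int.ofNat 0, Int.ofNat 0, Int.ofNat 0, Int.ofNat 0, Int.ofNat 0, Int.ofNat 0],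
  [Int.negSucc 1, Int.ofNat 0, Int.ofNat 0, Int.negSucc 1, Int.ofNat 0, Int.ofNat 0, Int.ofNat 2, Int.negSucc 1, Int.ofNat 0, Int.ofNat 2, Int.ofNat 0, Int.ofNat 0, Int.ofNat 2, Int.negSucc 1, Int.ofNat 0, Int.ofNat 0, Int.ofNat 0, Int.ofNat 0, Int.ofNat 0, Int.ofNat 0, Int.ofNat 0, Int.ofNat 2, Int.ofNat 0, Int.ofNat 0],
  [Int.ofNat 1, Int.negSucc 0, Int.negSucc 0, Int.negSucc 0, Int.ofNat 1, Int.ofNat 1, Int.ofNat 1, Int.negSucc 2, Int.negSucc 0, Int.ofNat 1, Int.negSucc 0, Int.negSucc 0, Int.ofNat 1, Int.negSucc 0, Int.ofNat 1, Int.negSucc 0, Int.ofNat 1, Int.ofNat 1, Int.negSucc 0, Int.negSucc 0, Int.negSucc 0, Int.ofNat 1, Int.ofNat 1, Int.negSucc 0],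
  [Int.ofNat 1, Int.negSucc 0, Int.ofNat 1, Int.negSucc 0, Int.ofNat 1, Int.negSucc 0, Int.negSucc 0, Int.negSucc 2, Int.negSucc 0, Int.negSucc 0, Int.ofNat 1, Int.negSucc 0, Int.ofNat 1, Int.negSucc 0, Int.ofNat 1, Int.ofNat 1, Int.ofNat 1, Int.ofNat 1, Int.ofNat 1, Int.negSucc 0, Int.negSucc 0, Int.ofNat 1, Int.negSucc 0, Int.negSucc 0],
  [Int.negSucc 0, Int.negSucc 0, Int.negSucc 0, Int.negSucc 0, Int.ofNat 1, Int.ofNat 1, Int.negSucc 0, Int.negSucc 0, Int.ofNat 1, Int.ofNat 1, Int.negSucc 2, Int.ofNat 1, Int.negSucc 0, Int.negSucc 0, Int.ofNat 1, Int.ofNat 1, Int.ofNat 1, Int.negSucc 0, Int.negSucc 0, Int.ofNat 1, Int.ofNat 1, Int.ofNat 1, Int.negSucc 0, Int.negSucc 0],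
  [Int.negSucc 0, Int.negSucc 0, Int.ofNat 1, Int.negSucc 0, Int.ofNat 1, Int.negSucc 0, Int.ofNat 1, Int.negSucc 0, Int.ofNat 1, Int.negSucc 0, Int.ofNat 3, Int.ofNat 1, Int.negSucc 0, Int.negSucc 0, Int.ofNat 1, Int.negSucc 0, Int.ofNat 1, Int.negSucc 0, Int.ofNat 1, Int.ofNat 1, Int.ofNat 1, Int.ofNat 1, Int.ofNat 1, Int.negSucc 0],
  [Int.ofNat 0, Int.ofNat 0, Int.negSucc 1, Int.ofNat 0, Int.ofNat 0, Int.ofNat 0, Int.ofNat 0, Int.negSucc 1, Int.ofNat 0, Int.negSucc 1, Int.ofNat 2, Int.ofNat 0, Int.negSucc 1, Int.negSucc 1, Int.ofNat 2, Int.negSucc 1, Int.ofNat 0, Int.ofNat 0, Int.ofNat 0, Int.ofNat 0, Int.ofNat 0, Int.ofNat 0, Int.ofNat 0, Int.ofNat 0],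
  [Int.ofNat 0, Int.ofNat 0, Int.ofNat 0, Int.ofNat 0, Int.negSucc 1, Int.ofNat 0, Int.ofNat 0, Int.ofNat 0, Int.ofNat 0, Int.negSucc 1, Int.negSucc 1, Int.ofNat 0, Int.ofNat 0, Int.negSucc 1, Int.ofNat 0, Int.negSucc 1, Int.negSucc 1, Int.ofNat 0, Int.ofNat 0, Int.ofNat 0, Int.ofNat 2, Int.ofNat 0, Int.ofNat 2, Int.ofNat 0],
  [Int.ofNat 0, Int.ofNat 0, Int.ofNat 0, Int.ofNat 0, Int.ofNat 0, Int.ofNat 0, Int.ofNat 0, Int.ofNat 0, Int.ofNat 0, Int.ofNat 0, Int.ofNat 0, Int.ofNat 0, Int.ofNat 0, Int.ofNat 0, Int.ofNat 0, Int.ofNat 0, Int.ofNat 0, Int.ofNat 0, Int.ofNat 0, Int.ofNat 0, Int.ofNat 4, Int.ofNat 0, Int.ofNat 4, Int.ofNat 0],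
  [Int.ofNat 4, Int.ofNat 0, Int.ofNat 4, Int.ofNat 0, Int.ofNat 0, Int.ofNat 0, Int.ofNat 0, Int.ofNat 0, Int.ofNat 0, Int.ofNat 0, Int.ofNat 0, Int.ofNat 0, Int.ofNat 0, Int.ofNat 0, Int.ofNat 0, Int.ofNat 0, Int.ofNat 0, Int.ofNat 0, Int.ofNat 0, Int.ofNat 0, Int.ofNat 0, Int.ofNat 0, Int.ofNat 0, Int.ofNat 0],
  [Int.ofNat 0, Int.ofNat 4, Int.ofNat 0, Int.ofNat 0, Int.ofNat 0, Int.ofNat 0, Int.ofNat 0, Int.ofNat 0, Int.ofNat 0, Int.ofNat 0, Int.ofNat 0, Int.ofNat 0, Int.ofNat 0, Int.ofNat 0, Int.ofNat 0, Int.ofNat 0, Int.ofNat 0, Int.ofNat 0, Int.ofNat 0, Int.ofNat 0, Int.ofNat 0, Int.ofNat 0, Int.ofNat 0, Int.ofNat 4],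
  [Int.ofNat 4, Int.ofNat 0, Int.ofNat 0, Int.ofNat 0, Int.ofNat 0, Int.ofNat 0, Int.ofNat 0, Int.ofNat 0, Int.ofNat 0, Int.ofNat 0, Int.ofNat 0, Int.ofNat 0, Int.ofNat 0, Int.ofNat 0, Int.ofNat 0, Int.ofNat 0, Int.ofNat 0, Int.ofNat 0, Int.ofNat 0, Int.ofNat 0, Int.ofNat 0, Int.ofNat 0, Int.ofNat 0, Int.ofNat 4],
  [Int.negSucc 3, Int.ofNat 0, Int.ofNat 0, Int.ofNat 0, Int.ofNat 0, Int.ofNat 0, Int.ofNat 0, Int.ofNat 0, Int.ofNat 0, Int.ofNat 0, Int.ofNat 0, Int.ofNat 0, Int.ofNat 0, Int.ofNat 0, Int.ofNat 0, Int.ofNat 0, Int.ofNat 0, Int.ofNat 0, Int.ofNat 0, Int.ofNat 0, Int.ofNat 0, Int.ofNat 0, Int.ofNat 0, Int.ofNat 4]]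

set_option maxRecDepth 100000 in
theorem r1_chk1 : cChk r1W nxL r1M1 nxL = true := by
  decide +kernel

set_option maxRecDepth 100000 in
def r1M2 : List (List ℤ) :=
  [[Int.negSucc 2, Int.ofNat 1, Int.ofNat 1, Int.ofNat 1, Int.ofNat 1, Int.ofNat 1, Int.ofNat 1, Int.ofNat 1, Int.ofNat 1, Int.ofNat 1, Int.ofNat 1, Int.ofNat 1, Int.ofNat 1, Int.ofNat 1, Int.ofNat 1, Int.ofNat 1, Int.ofNat 1, Int.ofNat 1, Int.ofNat 1, Int.ofNat 1, Int.ofNat 1, Int.ofNat 1, Int.ofNat 1, Int.ofNat 1],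
  [Int.ofNat 3, Int.ofNat 1, Int.negSucc 0, Int.ofNat 1, Int.ofNat 1, Int.ofNat 1, Int.ofNat 1, Int.negSucc 0, Int.ofNat 1, Int.negSucc 0, Int.negSucc 0, Int.negSucc 0, Int.ofNat 1, Int.ofNat 1, Int.ofNat 1, Int.ofNat 1, Int.ofNat 1, Int.ofNat 1, Int.negSucc 0, Int.ofNat 1, Int.ofNat 1, Int.negSucc 0, Int.ofNat 1, Int.ofNat 1],
  [Int.ofNat 1, Int.ofNat 3, Int.ofNat 1, Int.negSucc 0, Int.ofNat 1, Int.ofNat 1, Int.ofNat 1, Int.ofNat 1, Int.negSucc 0, Int.ofNat 1, Int.negSucc 0, Int.negSucc 0, Int.negSucc 0, Int.ofNat 1, Int.ofNat 1, Int.ofNat 1, Int.ofNat 1, Int.ofNat 1, Int.ofNat 1, Int.negSucc 0, Int.ofNat 1, Int.ofNat 1, Int.negSucc 0, Int.ofNat 1],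
  [Int.ofNat 2, Int.ofNat 0, Int.ofNat 2, Int.negSucc 1, Int.ofNat 0, Int.ofNat 0, Int.ofNat 0, Int.ofNat 0, Int.ofNat 0, Int.ofNat 0, Int.negSucc 1, Int.ofNat 0, Int.ofNat 0, Int.ofNat 0, Int.ofNat 0, Int.ofNat 0, Int.ofNat 0, Int.ofNat 0, Int.ofNat 2, Int.negSucc 1, Int.ofNat 0, Int.ofNat 0, Int.negSucc 1, Int.ofNat 2],
  [Int.negSucc 1, Int.ofNat 0, Int.ofNat 0, Int.ofNat 0, Int.ofNat 0, Int.ofNat 0, Int.ofNat 0, Int.negSucc 1, Int.ofNat 0, Int.ofNat 0, Int.ofNat 0, Int.ofNat 0, Int.ofNat 0, Int.ofNat 0, Int.ofNat 0, Int.ofNat 2, Int.negSucc 1, Int.ofNat 0, Int.ofNat 0, Int.negSucc 1, Int.ofNat 2, Int.ofNat 0, Int.ofNat 2, Int.ofNat 2],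
  [Int.ofNat 2, Int.ofNat 0, Int.ofNat 0, Int.ofNat 0, Int.ofNat 0, Int.ofNat 0, Int.ofNat 2, Int.ofNat 0, Int.ofNat 0, Int.negSucc 1, Int.negSucc 1, Int.ofNat 0, Int.ofNat 0, Int.ofNat 0, Int.ofNat 0, Int.ofNat 0, Int.negSucc 1, Int.ofNat 0, Int.ofNat 0, Int.ofNat 0, Int.ofNat 0, Int.ofNat 2, Int.ofNat 2, Int.negSucc 1],
  [Int.ofNat 2, Int.ofNat 2, Int.ofNat 0, Int.ofNat 0, Int.ofNat 0, Int.ofNat 0, Int.ofNat 0, Int.negSucc 1, Int.ofNat 0, Int.ofNat 0, Int.ofNat 0, Int.ofNat 0, Int.negSucc 1, Int.negSucc 1, Int.ofNat 2, Int.ofNat 0, Int.ofNat 0, Int.ofNat 0, Int.ofNat 0, Int.ofNat 0, Int.ofNat 2, Int.ofNat 0, Int.ofNat 0, Int.negSucc 1],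
  [Int.negSucc 0, Int.negSucc 0, Int.ofNat 1, Int.negSucc 0, Int.ofNat 1, Int.negSucc 0, Int.ofNat 1, Int.negSucc 0, Int.ofNat 1, Int.negSucc 0, Int.negSucc 0, Int.ofNat 1, Int.negSucc 0, Int.negSucc 0, Int.ofNat 1, Int.negSucc 0, Int.ofNat 1, Int.negSucc 0, Int.ofNat 1, Int.ofNat 1, Int.ofNat 1, Int.ofNat 1, Int.ofNat 1, Int.ofNat 3],
  [Int.negSucc 0, Int.negSucc 0, Int.negSucc 0, Int.negSucc 0, Int.ofNat 1, Int.ofNat 1, Int.negSucc 0, Int.negSucc 0, Int.ofNat 1, Int.ofNat 1, Int.ofNat 1, Int.ofNat 1, Int.negSucc 0, Int.negSucc 0, Int.ofNat 1, Int.ofNat 1, Int.ofNat 1, Int.negSucc 0, Int.negSucc 0, Int.ofNat 1, Int.ofNat 1, Int.ofNat 1, Int.negSucc 0, Int.ofNat 3],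
  [Int.ofNat 1, Int.ofNat 1, Int.negSucc 0, Int.ofNat 1, Int.ofNat 1, Int.negSucc 0, Int.ofNat 1, Int.negSucc 0, Int.negSucc 0, Int.ofNat 1, Int.negSucc 0, Int.ofNat 1, Int.negSucc 0, Int.negSucc 0, Int.negSucc 0, Int.ofNat 1, Int.ofNat 1, Int.ofNat 1, Int.ofNat 1, Int.ofNat 1, Int.negSucc 0, Int.negSucc 0, Int.negSucc 0, Int.ofNat 3],
  [Int.ofNat 1, Int.ofNat 1, Int.ofNat 1, Int.ofNat 1, Int.ofNat 1, Int.ofNat 1, Int.negSucc 0, Int.negSucc 0, Int.negSucc 0, Int.negSucc 0, Int.ofNat 1, Int.ofNat 1, Int.negSucc 0, Int.negSucc 0, Int.negSucc 0, Int.negSucc 0, Int.ofNat 1, Int.ofNat 1, Int.negSucc 0, Int.ofNat 1, Int.negSucc 0, Int.negSucc 0, Int.ofNat 1, Int.ofNat 3],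
  [Int.ofNat 2, Int.ofNat 2, Int.ofNat 2, Int.ofNat 0, Int.ofNat 0, Int.ofNat 0, Int.ofNat 0, Int.ofNat 0, Int.ofNat 0, Int.ofNat 0, Int.ofNat 2, Int.ofNat 2, Int.ofNat 0, Int.negSucc 1, Int.negSucc 1, Int.ofNat 0, Int.ofNat 0, Int.ofNat 0, Int.ofNat 0, Int.ofNat 2, Int.ofNat 0, Int.ofNat 0, Int.ofNat 0, Int.ofNat 0],
  [Int.ofNat 2, Int.ofNat 0, Int.ofNat 0, Int.ofNat 0, Int.ofNat 2, Int.ofNat 0, Int.ofNat 2, Int.ofNat 0, Int.ofNat 0, Int.ofNat 0, Int.ofNat 0, Int.ofNat 2, Int.ofNat 0, Int.ofNat 0, Int.ofNat 0, Int.ofNat 0, Int.negSucc 1, Int.ofNat 2, Int.ofNat 0, Int.ofNat 0, Int.ofNat 2, Int.ofNat 0, Int.negSucc 1, Int.ofNat 0],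
  [Int.negSucc 0, Int.ofNat 1, Int.ofNat 1, Int.negSucc 0, Int.ofNat 3, Int.negSucc 0, Int.ofNat 1, Int.negSucc 0, Int.negSucc 0, Int.negSucc 0, Int.negSucc 0, Int.ofNat 1, Int.negSucc 0, Int.ofNat 1, Int.negSucc 0, Int.negSucc 0, Int.negSucc 0, Int.ofNat 1, Int.negSucc 0, Int.negSucc 0, Int.ofNat 1, Int.negSucc 0, Int.negSucc 0, Int.ofNat 1],
  [Int.ofNat 1, Int.negSucc 0, Int.negSucc 0, Int.negSucc 0, Int.ofNat 1, Int.ofNat 1, Int.negSucc 0, Int.ofNat 3, Int.negSucc 0, Int.ofNat 1, Int.negSucc 0, Int.negSucc 0, Int.negSucc 0, Int.negSucc 0, Int.ofNat 1, Int.negSucc 0, Int.ofNat 1, Int.negSucc 0, Int.negSucc 0, Int.negSucc 0, Int.ofNat 1, Int.negSucc 0, Int.negSucc 0, Int.ofNat 1],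
  [Int.negSucc 0, Int.ofNat 1, Int.ofNat 1, Int.negSucc 0, Int.ofNat 1, Int.ofNat 1, Int.negSucc 0, Int.ofNat 3, Int.ofNat 1, Int.ofNat 1, Int.negSucc 0, Int.ofNat 1, Int.ofNat 1, Int.negSucc 0, Int.ofNat 1, Int.negSucc 0, Int.ofNat 1, Int.negSucc 0, Int.ofNat 1, Int.negSucc 0, Int.ofNat 1, Int.negSucc 0, Int.negSucc 0, Int.negSucc 0],
  [Int.ofNat 1, Int.ofNat 1, Int.negSucc 0, Int.ofNat 1, Int.ofNat 1, Int.negSucc 0, Int.ofNat 3, Int.ofNat 1, Int.ofNat 1, Int.negSucc 0, Int.ofNat 1, Int.ofNat 1, Int.negSucc 0, Int.ofNat 1, Int.negSucc 0, Int.ofNat 1, Int.negSucc 0, Int.ofNat 1, Int.negSucc 0, Int.ofNat 1, Int.negSucc 0, Int.negSucc 0, Int.negSucc 0, Int.negSucc 0],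
  [Int.negSucc 0, Int.ofNat 1, Int.ofNat 1, Int.ofNat 1, Int.ofNat 1, Int.negSucc 0, Int.ofNat 3, Int.negSucc 0, Int.ofNat 1, Int.ofNat 1, Int.negSucc 0, Int.negSucc 0, Int.negSucc 0, Int.ofNat 1, Int.negSucc 0, Int.ofNat 1, Int.negSucc 0, Int.ofNat 1, Int.ofNat 1, Int.ofNat 1, Int.negSucc 0, Int.ofNat 1, Int.negSucc 0, Int.negSucc 0],
  [Int.negSucc 0, Int.negSucc 0, Int.negSucc 0, Int.ofNat 1, Int.ofNat 1, Int.ofNat 1, Int.ofNat 1, Int.ofNat 1, Int.negSucc 0, Int.negSucc 0, Int.negSucc 0, Int.ofNat 1, Int.ofNat 1, Int.negSucc 0, Int.ofNat 1, Int.ofNat 1, Int.negSucc 0, Int.ofNat 1, Int.negSucc 0, Int.ofNat 3, Int.ofNat 1, Int.negSucc 0, Int.ofNat 1, Int.negSucc 0],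
  [Int.ofNat 1, Int.negSucc 0, Int.ofNat 1, Int.ofNat 1, Int.ofNat 1, Int.ofNat 1, Int.ofNat 1, Int.negSucc 0, Int.negSucc 0, Int.ofNat 1, Int.ofNat 1, Int.negSucc 0, Int.ofNat 1, Int.negSucc 0, Int.ofNat 1, Int.ofNat 1, Int.negSucc 0, Int.ofNat 1, Int.ofNat 1, Int.ofNat 3, Int.ofNat 1, Int.ofNat 1, Int.ofNat 1, Int.negSucc 0],
  [Int.ofNat 1, Int.ofNat 1, Int.negSucc 0, Int.ofNat 1, Int.ofNat 1, Int.ofNat 1, Int.ofNat 1, Int.ofNat 1, Int.negSucc 0, Int.negSucc 0, Int.ofNat 1, Int.ofNat 1, Int.negSucc 0, Int.ofNat 1, Int.negSucc 0, Int.ofNat 1, Int.ofNat 1, Int.negSucc 0, Int.ofNat 1, Int.ofNat 1, Int.ofNat 3, Int.ofNat 1, Int.ofNat 1, Int.negSucc 0],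
  [Int.negSucc 0, Int.negSucc 0, Int.ofNat 1, Int.ofNat 1, Int.negSucc 0, Int.ofNat 1, Int.negSucc 0, Int.negSucc 0, Int.negSucc 0, Int.negSucc 2, Int.negSucc 0, Int.ofNat 1, Int.negSucc 0, Int.negSucc 0, Int.negSucc 0, Int.negSucc 0, Int.negSucc 0, Int.negSucc 0, Int.ofNat 1, Int.negSucc 0, Int.ofNat 1, Int.negSucc 0, Int.negSucc 0, Int.ofNat 1],
  [Int.ofNat 1, Int.negSucc 0, Int.ofNat 1, Int.negSucc 0, Int.negSucc 0, Int.negSucc 0, Int.negSucc 2, Int.negSucc 0, Int.ofNat 1, Int.negSucc 0, Int.negSucc 0, Int.negSucc 0, Int.negSucc 0, Int.negSucc 0, Int.negSucc 0, Int.ofNat 1, Int.negSucc 0, Int.ofNat 1, Int.negSucc 0, Int.negSucc 0, Int.negSucc 0, Int.negSucc 0, Int.ofNat 1, Int.ofNat 1],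
  [Int.ofNat 0, Int.ofNat 2, Int.ofNat 0, Int.ofNat 0, Int.ofNat 0, Int.ofNat 0, Int.ofNat 0, Int.ofNat 2, Int.ofNat 2, Int.ofNat 0, Int.ofNat 0, Int.ofNat 0, Int.ofNat 0, Int.ofNat 0, Int.ofNat 0, Int.ofNat 2, Int.ofNat 0, Int.ofNat 2, Int.ofNat 0, Int.ofNat 2, Int.ofNat 0, Int.ofNat 2, Int.ofNat 2, Int.ofNat 0],
  [Int.ofNat 0, Int.ofNat 0, Int.ofNat 0, Int.ofNat 0, Int.ofNat 0, Int.ofNat 2, Int.ofNat 0, Int.ofNat 0, Int.ofNat 0, Int.ofNat 0, Int.ofNat 0, Int.ofNat 2, Int.ofNat 0, Int.ofNat 0, Int.ofNat 2, Int.ofNat 2, Int.ofNat 2, Int.ofNat 0, Int.ofNat 2, Int.ofNat 0, Int.ofNat 2, Int.ofNat 0, Int.ofNat 2, Int.ofNat 0],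
  [Int.ofNat 0, Int.ofNat 0, Int.ofNat 0, Int.negSucc 1, Int.negSucc 1, Int.ofNat 0, Int.ofNat 0, Int.ofNat 0, Int.negSucc 1, Int.negSucc 1, Int.negSucc 1, Int.ofNat 0, Int.negSucc 1, Int.negSucc 1, Int.ofNat 0, Int.ofNat 0, Int.ofNat 0, Int.negSucc 1, Int.ofNat 0, Int.ofNat 0, Int.ofNat 0, Int.ofNat 0, Int.ofNat 0, Int.ofNat 0],
  [Int.ofNat 0, Int.ofNat 0, Int.ofNat 0, Int.negSucc 1, Int.negSucc 1, Int.ofNat 0, Int.ofNat 0, Int.ofNat 0, Int.negSucc 1, Int.ofNat 2, Int.ofNat 2, Int.ofNat 0, Int.negSucc 1, Int.negSucc 1, Int.ofNat 0, Int.ofNat 0, Int.ofNat 0, Int.negSucc 1, Int.ofNat 0, Int.ofNat 0, Int.ofNat 0, Int.ofNat 0, Int.ofNat 0, Int.ofNat 0],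
  [Int.ofNat 0, Int.ofNat 0, Int.negSucc 1, Int.ofNat 2, Int.ofNat 0, Int.ofNat 0, Int.ofNat 0, Int.ofNat 0, Int.negSucc 1, Int.ofNat 0, Int.ofNat 0, Int.negSucc 1, Int.ofNat 0, Int.ofNat 0, Int.ofNat 0, Int.ofNat 2, Int.ofNat 0, Int.ofNat 0, Int.negSucc 1, Int.ofNat 0, Int.ofNat 0, Int.negSucc 1, Int.negSucc 1, Int.ofNat 0],
  [Int.ofNat 0, Int.ofNat 0, Int.ofNat 2, Int.ofNat 2, Int.ofNat 0, Int.ofNat 0, Int.ofNat 0, Int.ofNat 0, Int.negSucc 1, Int.ofNat 0, Int.ofNat 0, Int.negSucc 1, Int.ofNat 0, Int.ofNat 0, Int.ofNat 0, Int.negSucc 1, Int.ofNat 0, Int.ofNat 0, Int.ofNat 2, Int.ofNat 0, Int.ofNat 0, Int.negSucc 1, Int.ofNat 2, Int.ofNat 0],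
  [Int.ofNat 1, Int.ofNat 1, Int.negSucc 0, Int.ofNat 1, Int.negSucc 0, Int.negSucc 0, Int.ofNat 1, Int.ofNat 1, Int.negSucc 0, Int.ofNat 1, Int.ofNat 1, Int.negSucc 0, Int.ofNat 1, Int.negSucc 0, Int.negSucc 0, Int.negSucc 0, Int.negSucc 0, Int.negSucc 0, Int.ofNat 3, Int.ofNat 1, Int.ofNat 1, Int.negSucc 0, Int.ofNat 1, Int.ofNat 1],
  [Int.ofNat 1, Int.ofNat 3, Int.ofNat 1, Int.ofNat 1, Int.negSucc 0, Int.negSucc 0, Int.ofNat 1, Int.negSucc 0, Int.negSucc 0, Int.ofNat 1, Int.ofNat 1, Int.ofNat 1, Int.negSucc 0, Int.ofNat 1, Int.negSucc 0, Int.negSucc 0, Int.negSucc 0, Int.negSucc 0, Int.negSucc 0, Int.ofNat 1, Int.ofNat 1, Int.ofNat 1, Int.negSucc 0, Int.ofNat 1],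
  [Int.ofNat 2, Int.ofNat 0, Int.ofNat 2, Int.ofNat 2, Int.ofNat 0, Int.ofNat 0, Int.ofNat 0, Int.negSucc 1, Int.ofNat 0, Int.ofNat 0, Int.ofNat 0, Int.ofNat 2, Int.ofNat 0, Int.ofNat 2, Int.ofNat 0, Int.negSucc 1, Int.ofNat 0, Int.ofNat 0, Int.ofNat 0, Int.ofNat 0, Int.ofNat 0, Int.ofNat 0, Int.ofNat 0, Int.ofNat 2],
  [Int.ofNat 0, Int.ofNat 0, Int.ofNat 0, Int.ofNat 2, Int.ofNat 0, Int.ofNat 2, Int.ofNat 2, Int.ofNat 0, Int.ofNat 0, Int.ofNat 0, Int.negSucc 1, Int.ofNat 0, Int.ofNat 0, Int.ofNat 0, Int.ofNat 2, Int.ofNat 0, Int.ofNat 2, Int.ofNat 0, Int.negSucc 1, Int.ofNat 0, Int.ofNat 0, Int.ofNat 0, Int.ofNat 0, Int.ofNat 2],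
  [Int.ofNat 1, Int.ofNat 1, Int.ofNat 1, Int.negSucc 0, Int.negSucc 0, Int.negSucc 0, Int.ofNat 1, Int.negSucc 0, Int.ofNat 1, Int.ofNat 1, Int.negSucc 0, Int.ofNat 1, Int.ofNat 1, Int.negSucc 0, Int.negSucc 0, Int.ofNat 1, Int.ofNat 1, Int.negSucc 2, Int.negSucc 0, Int.negSucc 0, Int.ofNat 1, Int.negSucc 0, Int.negSucc 0, Int.negSucc 0],
  [Int.ofNat 1, Int.ofNat 1, Int.negSucc 0, Int.negSucc 0, Int.negSucc 0, Int.ofNat 1, Int.negSucc 0, Int.ofNat 1, Int.ofNat 1, Int.negSucc 0, Int.ofNat 1, Int.ofNat 1, Int.negSucc 0, Int.negSucc 0, Int.ofNat 1, Int.ofNat 1, Int.negSucc 2, Int.negSucc 0, Int.negSucc 0, Int.ofNat 1, Int.negSucc 0, Int.negSucc 0, Int.ofNat 1, Int.negSucc 0],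
  [Int.negSucc 0, Int.ofNat 1, Int.ofNat 1, Int.negSucc 0, Int.negSucc 0, Int.ofNat 1, Int.negSucc 0, Int.negSucc 0, Int.ofNat 1, Int.ofNat 1, Int.negSucc 0, Int.negSucc 0, Int.negSucc 0, Int.negSucc 0, Int.ofNat 1, Int.ofNat 1, Int.negSucc 2, Int.negSucc 0, Int.ofNat 1, Int.ofNat 1, Int.negSucc 0, Int.ofNat 1, Int.ofNat 1, Int.negSucc 0],
  [Int.negSucc 0, Int.ofNat 1, Int.negSucc 0, Int.ofNat 1, Int.negSucc 0, Int.ofNat 1, Int.ofNat 1, Int.negSucc 0, Int.negSucc 0, Int.ofNat 1, Int.negSucc 2, Int.ofNat 1, Int.ofNat 1, Int.negSucc 0, Int.ofNat 1, Int.negSucc 0, Int.negSucc 0, Int.negSucc 0, Int.ofNat 1, Int.negSucc 0, Int.ofNat 1, Int.negSucc 0, Int.ofNat 1, Int.negSucc 0],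
  [Int.ofNat 1, Int.ofNat 1, Int.ofNat 1, Int.ofNat 1, Int.negSucc 0, Int.ofNat 1, Int.ofNat 1, Int.ofNat 1, Int.negSucc 0, Int.negSucc 0, Int.ofNat 3, Int.negSucc 0, Int.ofNat 1, Int.negSucc 0, Int.ofNat 1, Int.negSucc 0, Int.negSucc 0, Int.negSucc 0, Int.negSucc 0, Int.negSucc 0, Int.ofNat 1, Int.ofNat 1, Int.ofNat 1, Int.negSucc 0],
  [Int.ofNat 1, Int.ofNat 1, Int.ofNat 1, Int.ofNat 1, Int.ofNat 1, Int.negSucc 0, Int.ofNat 1, Int.ofNat 1, Int.ofNat 1, Int.negSucc 0, Int.negSucc 0, Int.ofNat 3, Int.negSucc 0, Int.ofNat 1, Int.negSucc 0, Int.ofNat 1, Int.negSucc 0, Int.negSucc 0, Int.negSucc 0, Int.negSucc 0, Int.negSucc 0, Int.ofNat 1, Int.ofNat 1, Int.negSucc 0],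
  [Int.ofNat 0, Int.ofNat 0, Int.ofNat 0, Int.ofNat 2, Int.ofNat 0, Int.ofNat 0, Int.ofNat 0, Int.ofNat 0, Int.ofNat 0, Int.ofNat 0, Int.ofNat 0, Int.ofNat 2, Int.negSucc 1, Int.ofNat 0, Int.ofNat 0, Int.ofNat 2, Int.negSucc 1, Int.ofNat 0, Int.negSucc 1, Int.negSucc 1, Int.ofNat 0, Int.ofNat 0, Int.ofNat 0, Int.ofNat 2],
  [Int.ofNat 2, Int.ofNat 0, Int.ofNat 0, Int.ofNat 0, Int.ofNat 0, Int.ofNat 0, Int.ofNat 0, Int.ofNat 0, Int.ofNat 2, Int.negSucc 1, Int.ofNat 0, Int.ofNat 0, Int.ofNat 2, Int.negSucc 1, Int.ofNat 0, Int.negSucc 1, Int.negSucc 1, Int.ofNat 0, Int.ofNat 0, Int.ofNat 0, Int.ofNat 0, Int.ofNat 0, Int.ofNat 0, Int.ofNat 2],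
  [Int.ofNat 0, Int.ofNat 2, Int.ofNat 2, Int.ofNat 0, Int.ofNat 2, Int.ofNat 0, Int.ofNat 0, Int.ofNat 0, Int.ofNat 0, Int.ofNat 0, Int.ofNat 2, Int.negSucc 1, Int.ofNat 0, Int.ofNat 0, Int.ofNat 0, Int.ofNat 0, Int.ofNat 0, Int.ofNat 0, Int.negSucc 1, Int.ofNat 0, Int.ofNat 2, Int.ofNat 0, Int.ofNat 2, Int.ofNat 0],
  [Int.ofNat 0, Int.ofNat 0, Int.ofNat 2, Int.ofNat 0, Int.negSucc 1, Int.ofNat 0, Int.ofNat 2, Int.ofNat 2, Int.ofNat 0, Int.ofNat 0, Int.ofNat 2, Int.ofNat 0, Int.ofNat 0, Int.ofNat 0, Int.ofNat 2, Int.ofNat 0, Int.ofNat 0, Int.ofNat 0, Int.ofNat 2, Int.negSucc 1, Int.ofNat 0, Int.ofNat 0, Int.ofNat 0, Int.ofNat 0],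
  [Int.ofNat 1, Int.ofNat 1, Int.negSucc 0, Int.negSucc 0, Int.negSucc 0, Int.negSucc 0, Int.ofNat 1, Int.ofNat 1, Int.negSucc 0, Int.negSucc 0, Int.ofNat 1, Int.negSucc 0, Int.negSucc 0, Int.ofNat 1, Int.ofNat 1, Int.negSucc 0, Int.ofNat 1, Int.negSucc 0, Int.ofNat 1, Int.negSucc 2, Int.negSucc 0, Int.negSucc 0, Int.ofNat 1, Int.ofNat 1],
  [Int.ofNat 1, Int.ofNat 1, Int.ofNat 1, Int.negSucc 0, Int.negSucc 0, Int.ofNat 1, Int.negSucc 0, Int.ofNat 1, Int.negSucc 0, Int.ofNat 1, Int.negSucc 0, Int.negSucc 0, Int.negSucc 0, Int.ofNat 1, Int.ofNat 1, Int.ofNat 1, Int.ofNat 1, Int.negSucc 0, Int.negSucc 0, Int.negSucc 2, Int.negSucc 0, Int.negSucc 0, Int.negSucc 0, Int.ofNat 1],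
  [Int.ofNat 1, Int.negSucc 0, Int.negSucc 0, Int.ofNat 1, Int.ofNat 1, Int.ofNat 1, Int.negSucc 2, Int.negSucc 0, Int.negSucc 0, Int.negSucc 0, Int.ofNat 1, Int.negSucc 0, Int.negSucc 0, Int.ofNat 1, Int.negSucc 0, Int.negSucc 0, Int.ofNat 1, Int.negSucc 0, Int.negSucc 0, Int.ofNat 1, Int.ofNat 1, Int.negSucc 0, Int.ofNat 1, Int.ofNat 1],
  [Int.ofNat 1, Int.negSucc 0, Int.ofNat 1, Int.ofNat 1, Int.ofNat 1, Int.negSucc 0, Int.ofNat 3, Int.negSucc 0, Int.negSucc 0, Int.ofNat 1, Int.negSucc 0, Int.negSucc 0, Int.negSucc 0, Int.ofNat 1, Int.negSucc 0, Int.ofNat 1, Int.ofNat 1, Int.negSucc 0, Int.ofNat 1, Int.ofNat 1, Int.ofNat 1, Int.negSucc 0, Int.negSucc 0, Int.ofNat 1],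
  [Int.ofNat 0, Int.ofNat 2, Int.ofNat 0, Int.ofNat 2, Int.ofNat 0, Int.ofNat 0, Int.ofNat 2, Int.negSucc 1, Int.ofNat 0, Int.ofNat 0, Int.negSucc 1, Int.ofNat 0, Int.ofNat 0, Int.ofNat 0, Int.ofNat 0, Int.ofNat 0, Int.ofNat 0, Int.ofNat 0, Int.ofNat 2, Int.ofNat 0, Int.ofNat 0, Int.negSucc 1, Int.negSucc 1, Int.ofNat 0],
  [Int.ofNat 0, Int.ofNat 2, Int.ofNat 2, Int.ofNat 2, Int.ofNat 0, Int.negSucc 1, Int.ofNat 2, Int.ofNat 0, Int.ofNat 0, Int.ofNat 0, Int.negSucc 1, Int.ofNat 0, Int.ofNat 0, Int.ofNat 0, Int.ofNat 0, Int.ofNat 0, Int.ofNat 0, Int.ofNat 0, Int.ofNat 0, Int.negSucc 1, Int.negSucc 1, Int.ofNat 0, Int.ofNat 0, Int.ofNat 0],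
  [Int.ofNat 2, Int.ofNat 0, Int.ofNat 0, Int.ofNat 2, Int.ofNat 0, Int.negSucc 1, Int.ofNat 2, Int.ofNat 0, Int.ofNat 0, Int.ofNat 2, Int.ofNat 0, Int.ofNat 0, Int.ofNat 0, Int.ofNat 0, Int.ofNat 0, Int.ofNat 2, Int.ofNat 0, Int.ofNat 0, Int.ofNat 0, Int.negSucc 1, Int.ofNat 0, Int.ofNat 0, Int.ofNat 0, Int.ofNat 2],
  [Int.ofNat 0, Int.ofNat 0, Int.ofNat 0, Int.ofNat 2, Int.ofNat 0, Int.ofNat 0, Int.ofNat 2, Int.ofNat 0, Int.negSucc 1, Int.ofNat 2, Int.ofNat 0, Int.ofNat 0, Int.ofNat 2, Int.ofNat 0, Int.ofNat 0, Int.ofNat 0, Int.ofNat 0, Int.ofNat 0, Int.ofNat 2, Int.ofNat 0, Int.ofNat 0, Int.ofNat 0, Int.negSucc 1, Int.ofNat 2],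
  [Int.ofNat 1, Int.ofNat 1, Int.ofNat 1, Int.ofNat 1, Int.ofNat 1, Int.negSucc 0, Int.ofNat 1, Int.negSucc 0, Int.negSucc 2, Int.ofNat 1, Int.negSucc 0, Int.negSucc 0, Int.ofNat 1, Int.ofNat 1, Int.negSucc 0, Int.negSucc 0, Int.ofNat 1, Int.negSucc 0, Int.ofNat 1, Int.negSucc 0, Int.negSucc 0, Int.negSucc 0, Int.negSucc 0, Int.negSucc 0],
  [Int.ofNat 1, Int.ofNat 1, Int.ofNat 1, Int.ofNat 1, Int.negSucc 0, Int.ofNat 1, Int.negSucc 0, Int.negSucc 2, Int.ofNat 1, Int.negSucc 0, Int.negSucc 0, Int.ofNat 1, Int.ofNat 1, Int.negSucc 0, Int.negSucc 0, Int.ofNat 1, Int.negSucc 0, Int.ofNat 1, Int.negSucc 0, Int.negSucc 0, Int.negSucc 0, Int.negSucc 0, Int.ofNat 1, Int.negSucc 0],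
  [Int.negSucc 0, Int.ofNat 1, Int.negSucc 0, Int.ofNat 1, Int.negSucc 0, Int.ofNat 1, Int.negSucc 0, Int.ofNat 3, Int.ofNat 1, Int.ofNat 1, Int.ofNat 1, Int.negSucc 0, Int.ofNat 1, Int.negSucc 0, Int.negSucc 0, Int.ofNat 1, Int.negSucc 0, Int.ofNat 1, Int.ofNat 1, Int.negSucc 0, Int.negSucc 0, Int.ofNat 1, Int.ofNat 1, Int.negSucc 0],
  [Int.negSucc 0, Int.ofNat 1, Int.negSucc 0, Int.ofNat 1, Int.ofNat 1, Int.ofNat 1, Int.negSucc 0, Int.negSucc 0, Int.negSucc 0, Int.ofNat 1, Int.negSucc 0, Int.negSucc 0, Int.ofNat 1, Int.ofNat 3, Int.ofNat 1, Int.ofNat 1, Int.ofNat 1, Int.negSucc 0, Int.negSucc 0, Int.negSucc 0, Int.ofNat 1, Int.ofNat 1, Int.ofNat 1, Int.negSucc 0],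
  [Int.ofNat 1, Int.ofNat 1, Int.ofNat 1, Int.ofNat 1, Int.ofNat 1, Int.ofNat 1, Int.negSucc 0, Int.ofNat 1, Int.negSucc 0, Int.negSucc 0, Int.ofNat 1, Int.ofNat 1, Int.ofNat 1, Int.ofNat 3, Int.ofNat 1, Int.ofNat 1, Int.ofNat 1, Int.negSucc 0, Int.ofNat 1, Int.negSucc 0, Int.ofNat 1, Int.negSucc 0, Int.ofNat 1, Int.negSucc 0],
  [Int.ofNat 1, Int.ofNat 1, Int.ofNat 1, Int.ofNat 1, Int.ofNat 1, Int.ofNat 1, Int.ofNat 1, Int.negSucc 0, Int.ofNat 1, Int.negSucc 0, Int.negSucc 0, Int.ofNat 1, Int.ofNat 1, Int.ofNat 1, Int.ofNat 3, Int.ofNat 1, Int.ofNat 1, Int.ofNat 1, Int.negSucc 0, Int.ofNat 1, Int.negSucc 0, Int.ofNat 1, Int.negSucc 0, Int.negSucc 0],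
  [Int.ofNat 0, Int.ofNat 0, Int.ofNat 0, Int.negSucc 1, Int.ofNat 0, Int.negSucc 1, Int.ofNat 0, Int.negSucc 1, Int.ofNat 0, Int.ofNat 0, Int.ofNat 0, Int.ofNat 0, Int.ofNat 0, Int.ofNat 0, Int.ofNat 0, Int.ofNat 2, Int.ofNat 0, Int.negSucc 1, Int.negSucc 1, Int.ofNat 0, Int.ofNat 0, Int.ofNat 0, Int.negSucc 1, Int.ofNat 2],
  [Int.negSucc 1, Int.ofNat 0, Int.negSucc 1, Int.ofNat 0, Int.negSucc 1, Int.ofNat 0, Int.ofNat 0, Int.ofNat 0, Int.ofNat 0, Int.ofNat 0, Int.ofNat 0, Int.ofNat 0, Int.ofNat 2, Int.ofNat 0, Int.negSucc 1, Int.negSucc 1, Int.ofNat 0, Int.ofNat 0, Int.ofNat 0, Int.negSucc 1, Int.ofNat 0, Int.ofNat 0, Int.ofNat 0, Int.ofNat 2],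
  [Int.ofNat 1, Int.negSucc 0, Int.ofNat 1, Int.ofNat 1, Int.negSucc 0, Int.ofNat 1, Int.ofNat 1, Int.ofNat 1, Int.negSucc 0, Int.ofNat 1, Int.ofNat 1, Int.negSucc 0, Int.ofNat 1, Int.ofNat 1, Int.negSucc 0, Int.negSucc 0, Int.ofNat 1, Int.ofNat 1, Int.negSucc 0, Int.negSucc 0, Int.ofNat 1, Int.ofNat 1, Int.ofNat 1, Int.negSucc 2],
  [Int.ofNat 1, Int.ofNat 1, Int.negSucc 0, Int.ofNat 1, Int.negSucc 0, Int.ofNat 1, Int.ofNat 1, Int.ofNat 1, Int.ofNat 1, Int.ofNat 1, Int.ofNat 1, Int.ofNat 1, Int.ofNat 1, Int.ofNat 1, Int.ofNat 1, Int.negSucc 0, Int.negSucc 0, Int.negSucc 0, Int.negSucc 0, Int.negSucc 0, Int.ofNat 1, Int.ofNat 1, Int.negSucc 0, Int.negSucc 2],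
  [Int.negSucc 1, Int.negSucc 1, Int.ofNat 0, Int.ofNat 0, Int.ofNat 0, Int.ofNat 0, Int.ofNat 0, Int.ofNat 0, Int.ofNat 0, Int.ofNat 0, Int.ofNat 0, Int.ofNat 0, Int.ofNat 0, Int.ofNat 2, Int.ofNat 0, Int.negSucc 1, Int.ofNat 0, Int.negSucc 1, Int.negSucc 1, Int.negSucc 1, Int.ofNat 0, Int.ofNat 0, Int.ofNat 0, Int.ofNat 2],
  [Int.negSucc 1, Int.negSucc 1, Int.ofNat 0, Int.ofNat 0, Int.ofNat 0, Int.ofNat 0, Int.ofNat 0, Int.ofNat 0, Int.ofNat 0, Int.ofNat 0, Int.ofNat 0, Int.ofNat 0, Int.ofNat 0, Int.ofNat 2, Int.ofNat 0, Int.ofNat 2, Int.ofNat 0, Int.negSucc 1, Int.ofNat 2, Int.negSucc 1, Int.ofNat 0, Int.ofNat 0, Int.ofNat 0, Int.ofNat 2],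
  [Int.ofNat 0, Int.ofNat 0, Int.ofNat 0, Int.ofNat 0, Int.ofNat 0, Int.ofNat 0, Int.negSucc 1, Int.ofNat 0, Int.negSucc 1, Int.ofNat 0, Int.ofNat 0, Int.ofNat 0, Int.ofNat 0, Int.negSucc 1, Int.ofNat 2, Int.ofNat 0, Int.ofNat 2, Int.ofNat 0, Int.ofNat 0, Int.ofNat 0, Int.negSucc 1, Int.ofNat 0, Int.ofNat 2, Int.ofNat 2],
  [Int.ofNat 0, Int.ofNat 0, Int.ofNat 0, Int.ofNat 0, Int.ofNat 0, Int.ofNat 0, Int.ofNat 2, Int.ofNat 0, Int.negSucc 1, Int.ofNat 0, Int.ofNat 0, Int.ofNat 0, Int.ofNat 0, Int.negSucc 1, Int.ofNat 2, Int.ofNat 0, Int.ofNat 2, Int.ofNat 0, Int.ofNat 0, Int.ofNat 0, Int.negSucc 1, Int.ofNat 0, Int.negSucc 1, Int.ofNat 2],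
  [Int.ofNat 1, Int.ofNat 1, Int.ofNat 1, Int.negSucc 0, Int.ofNat 1, Int.negSucc 0, Int.ofNat 1, Int.negSucc 0, Int.negSucc 0, Int.ofNat 1, Int.ofNat 1, Int.ofNat 1, Int.ofNat 1, Int.negSucc 0, Int.ofNat 1, Int.ofNat 1, Int.ofNat 3, Int.negSucc 0, Int.ofNat 1, Int.negSucc 0, Int.negSucc 0, Int.negSucc 0, Int.negSucc 0, Int.negSucc 0],
  [Int.ofNat 1, Int.ofNat 1, Int.ofNat 1, Int.negSucc 0, Int.ofNat 1, Int.negSucc 0, Int.ofNat 1, Int.negSucc 0, Int.ofNat 3, Int.ofNat 1, Int.negSucc 0, Int.negSucc 0, Int.negSucc 0, Int.ofNat 1, Int.negSucc 0, Int.ofNat 1, Int.negSucc 0, Int.ofNat 1, Int.ofNat 1, Int.negSucc 0, Int.ofNat 1, Int.negSucc 0, Int.ofNat 1, Int.negSucc 0],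
  [Int.ofNat 0, Int.ofNat 0, Int.ofNat 0, Int.ofNat 0, Int.ofNat 0, Int.ofNat 0, Int.ofNat 2, Int.ofNat 0, Int.ofNat 2, Int.ofNat 0, Int.negSucc 1, Int.negSucc 1, Int.negSucc 1, Int.ofNat 0, Int.ofNat 0, Int.ofNat 0, Int.negSucc 1, Int.ofNat 2, Int.ofNat 0, Int.ofNat 0, Int.ofNat 0, Int.ofNat 0, Int.ofNat 0, Int.ofNat 2],
  [Int.ofNat 0, Int.ofNat 0, Int.ofNat 0, Int.ofNat 0, Int.ofNat 0, Int.ofNat 0, Int.ofNat 0, Int.ofNat 0, Int.ofNat 0, Int.ofNat 2, Int.ofNat 0, Int.ofNat 2, Int.ofNat 0, Int.negSucc 1, Int.negSucc 1, Int.negSucc 1, Int.ofNat 0, Int.ofNat 0, Int.ofNat 0, Int.negSucc 1, Int.ofNat 2, Int.ofNat 0, Int.ofNat 0, Int.ofNat 2],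
  [Int.ofNat 1, Int.ofNat 1, Int.ofNat 1, Int.ofNat 1, Int.ofNat 1, Int.ofNat 1, Int.ofNat 1, Int.ofNat 1, Int.negSucc 0, Int.ofNat 1, Int.negSucc 0, Int.ofNat 1, Int.negSucc 0, Int.negSucc 0, Int.negSucc 0, Int.negSucc 2, Int.ofNat 1, Int.ofNat 1, Int.negSucc 0, Int.negSucc 0, Int.ofNat 1, Int.ofNat 1, Int.ofNat 1, Int.negSucc 0],
  [Int.ofNat 1, Int.ofNat 1, Int.ofNat 1, Int.ofNat 1, Int.ofNat 1, Int.ofNat 1, Int.ofNat 1, Int.negSucc 0, Int.ofNat 1, Int.negSucc 0, Int.ofNat 1, Int.negSucc 0, Int.negSucc 0, Int.negSucc 0, Int.negSucc 2, Int.ofNat 1, Int.ofNat 1, Int.negSucc 0, Int.negSucc 0, Int.ofNat 1, Int.ofNat 1, Int.ofNat 1, Int.ofNat 1, Int.negSucc 0],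
  [Int.negSucc 0, Int.ofNat 1, Int.negSucc 0, Int.ofNat 1, Int.ofNat 1, Int.ofNat 1, Int.ofNat 1, Int.ofNat 1, Int.ofNat 1, Int.ofNat 1, Int.negSucc 0, Int.ofNat 1, Int.negSucc 0, Int.negSucc 0, Int.negSucc 2, Int.ofNat 1, Int.ofNat 1, Int.negSucc 0, Int.ofNat 1, Int.ofNat 1, Int.ofNat 1, Int.negSucc 0, Int.ofNat 1, Int.negSucc 0],
  [Int.negSucc 0, Int.ofNat 1, Int.ofNat 1, Int.ofNat 1, Int.negSucc 0, Int.ofNat 1, Int.ofNat 1, Int.negSucc 0, Int.ofNat 1, Int.ofNat 1, Int.ofNat 1, Int.negSucc 0, Int.negSucc 0, Int.ofNat 1, Int.ofNat 1, Int.ofNat 1, Int.negSucc 0, Int.ofNat 1, Int.negSucc 2, Int.ofNat 1, Int.ofNat 1, Int.negSucc 0, Int.ofNat 1, Int.negSucc 0],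
  [Int.ofNat 1, Int.ofNat 1, Int.negSucc 0, Int.ofNat 1, Int.negSucc 0, Int.ofNat 1, Int.ofNat 1, Int.ofNat 1, Int.ofNat 1, Int.negSucc 0, Int.negSucc 0, Int.ofNat 1, Int.negSucc 0, Int.ofNat 1, Int.ofNat 1, Int.ofNat 1, Int.negSucc 0, Int.ofNat 1, Int.ofNat 3, Int.ofNat 1, Int.ofNat 1, Int.ofNat 1, Int.ofNat 1, Int.negSucc 0],
  [Int.ofNat 1, Int.ofNat 1, Int.ofNat 1, Int.negSucc 0, Int.ofNat 1, Int.negSucc 0, Int.ofNat 1, Int.ofNat 1, Int.ofNat 1, Int.ofNat 1, Int.negSucc 0, Int.negSucc 0, Int.ofNat 1, Int.negSucc 0, Int.ofNat 1, Int.ofNat 1, Int.ofNat 1, Int.negSucc 0, Int.ofNat 1, Int.ofNat 3, Int.ofNat 1, Int.ofNat 1, Int.ofNat 1, Int.negSucc 0],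
  [Int.ofNat 0, Int.ofNat 0, Int.ofNat 0, Int.ofNat 0, Int.ofNat 0, Int.ofNat 0, Int.negSucc 1, Int.negSucc 1, Int.ofNat 0, Int.ofNat 0, Int.negSucc 1, Int.negSucc 1, Int.ofNat 0, Int.negSucc 1, Int.ofNat 2, Int.ofNat 0, Int.ofNat 0, Int.ofNat 0, Int.ofNat 0, Int.ofNat 0, Int.ofNat 0, Int.negSucc 1, Int.ofNat 0, Int.ofNat 2],
  [Int.ofNat 0, Int.ofNat 0, Int.ofNat 0, Int.negSucc 1, Int.negSucc 1, Int.ofNat 0, Int.ofNat 0, Int.negSucc 1, Int.negSucc 1, Int.ofNat 0, Int.negSucc 1, Int.ofNat 2, Int.ofNat 0, Int.ofNat 0, Int.ofNat 0, Int.ofNat 0, Int.ofNat 0, Int.ofNat 0, Int.negSucc 1, Int.ofNat 0, Int.ofNat 0, Int.ofNat 0, Int.ofNat 0, Int.ofNat 2],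
  [Int.ofNat 1, Int.ofNat 1, Int.ofNat 1, Int.negSucc 0, Int.negSucc 0, Int.ofNat 1, Int.ofNat 1, Int.negSucc 0, Int.negSucc 0, Int.ofNat 1, Int.negSucc 0, Int.ofNat 3, Int.ofNat 1, Int.ofNat 1, Int.ofNat 1, Int.ofNat 1, Int.ofNat 1, Int.ofNat 1, Int.negSucc 0, Int.ofNat 1, Int.ofNat 1, Int.ofNat 1, Int.ofNat 1, Int.negSucc 0],
  [Int.ofNat 1, Int.ofNat 1, Int.negSucc 0, Int.negSucc 0, Int.negSucc 0, Int.negSucc 0, Int.ofNat 1, Int.negSucc 0, Int.ofNat 1, Int.ofNat 1, Int.ofNat 1, Int.ofNat 1, Int.ofNat 1, Int.ofNat 1, Int.ofNat 1, Int.ofNat 1, Int.negSucc 0, Int.ofNat 1, Int.ofNat 1, Int.ofNat 3, Int.ofNat 1, Int.ofNat 1, Int.ofNat 1, Int.negSucc 0],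
  [Int.negSucc 0, Int.negSucc 0, Int.ofNat 1, Int.negSucc 0, Int.negSucc 0, Int.negSucc 0, Int.negSucc 0, Int.negSucc 2, Int.negSucc 0, Int.negSucc 0, Int.negSucc 0, Int.negSucc 0, Int.negSucc 0, Int.ofNat 1, Int.ofNat 1, Int.negSucc 0, Int.negSucc 0, Int.ofNat 1, Int.negSucc 0, Int.ofNat 1, Int.negSucc 0, Int.negSucc 0, Int.ofNat 1, Int.ofNat 1],
  [Int.negSucc 0, Int.negSucc 0, Int.negSucc 0, Int.negSucc 0, Int.negSucc 0, Int.ofNat 1, Int.ofNat 1, Int.negSucc 2, Int.negSucc 0, Int.ofNat 1, Int.ofNat 1, Int.negSucc 0, Int.negSucc 0, Int.ofNat 1, Int.ofNat 1, Int.ofNat 1, Int.negSucc 0, Int.ofNat 1, Int.ofNat 1, Int.ofNat 1, Int.negSucc 0, Int.negSucc 0, Int.negSucc 0, Int.ofNat 1],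
  [Int.ofNat 1, Int.negSucc 0, Int.negSucc 0, Int.ofNat 1, Int.negSucc 0, Int.negSucc 0, Int.ofNat 1, Int.negSucc 0, Int.ofNat 1, Int.negSucc 0, Int.negSucc 2, Int.negSucc 0, Int.ofNat 1, Int.negSucc 0, Int.ofNat 1, Int.ofNat 1, Int.ofNat 1, Int.negSucc 0, Int.negSucc 0, Int.ofNat 1, Int.negSucc 0, Int.negSucc 0, Int.ofNat 1, Int.ofNat 1],
  [Int.ofNat 1, Int.negSucc 0, Int.ofNat 1, Int.ofNat 1, Int.negSucc 0, Int.ofNat 1, Int.negSucc 0, Int.negSucc 0, Int.ofNat 1, Int.ofNat 1, Int.ofNat 3, Int.negSucc 0, Int.ofNat 1, Int.negSucc 0, Int.ofNat 1, Int.negSucc 0, Int.ofNat 1, Int.negSucc 0, Int.ofNat 1, Int.ofNat 1, Int.negSucc 0, Int.negSucc 0, Int.negSucc 0, Int.ofNat 1],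
  [Int.ofNat 0, Int.ofNat 2, Int.ofNat 0, Int.ofNat 0, Int.ofNat 0, Int.ofNat 0, Int.ofNat 0, Int.ofNat 0, Int.ofNat 0, Int.ofNat 0, Int.ofNat 2, Int.negSucc 1, Int.ofNat 0, Int.ofNat 0, Int.ofNat 0, Int.negSucc 1, Int.ofNat 2, Int.negSucc 1, Int.ofNat 0, Int.ofNat 2, Int.negSucc 1, Int.ofNat 0, Int.ofNat 0, Int.ofNat 0],
  [Int.ofNat 0, Int.ofNat 0, Int.ofNat 0, Int.ofNat 0, Int.ofNat 0, Int.ofNat 0, Int.ofNat 2, Int.ofNat 0, Int.ofNat 2, Int.ofNat 0, Int.ofNat 0, Int.ofNat 2, Int.ofNat 0, Int.ofNat 0, Int.negSucc 1, Int.negSucc 1, Int.ofNat 0, Int.negSucc 1, Int.ofNat 0, Int.ofNat 0, Int.ofNat 2, Int.negSucc 1, Int.ofNat 0, Int.ofNat 0],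
  [Int.ofNat 0, Int.ofNat 0, Int.ofNat 0, Int.ofNat 2, Int.ofNat 0, Int.ofNat 2, Int.ofNat 2, Int.ofNat 0, Int.ofNat 0, Int.ofNat 0, Int.ofNat 0, Int.ofNat 0, Int.negSucc 1, Int.ofNat 0, Int.ofNat 0, Int.negSucc 1, Int.ofNat 0, Int.ofNat 0, Int.negSucc 1, Int.ofNat 0, Int.ofNat 2, Int.negSucc 1, Int.ofNat 0, Int.ofNat 0],
  [Int.ofNat 2, Int.negSucc 1, Int.ofNat 0, Int.ofNat 0, Int.ofNat 0, Int.ofNat 0, Int.ofNat 2, Int.ofNat 0, Int.ofNat 2, Int.ofNat 2, Int.ofNat 0, Int.ofNat 0, Int.ofNat 0, Int.ofNat 0, Int.ofNat 0, Int.negSucc 1, Int.ofNat 0, Int.ofNat 0, Int.negSucc 1, Int.ofNat 0, Int.ofNat 0, Int.negSucc 1, Int.ofNat 0, Int.ofNat 0],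
  [Int.negSucc 1, Int.ofNat 2, Int.ofNat 0, Int.ofNat 0, Int.ofNat 0, Int.ofNat 0, Int.ofNat 2, Int.ofNat 0, Int.ofNat 2, Int.ofNat 2, Int.ofNat 0, Int.ofNat 0, Int.ofNat 0, Int.ofNat 0, Int.ofNat 0, Int.negSucc 1, Int.ofNat 0, Int.ofNat 0, Int.negSucc 1, Int.ofNat 0, Int.ofNat 0, Int.negSucc 1, Int.ofNat 0, Int.ofNat 0],
  [Int.ofNat 2, Int.ofNat 0, Int.ofNat 0, Int.ofNat 0, Int.ofNat 0, Int.ofNat 2, Int.ofNat 0, Int.ofNat 2, Int.ofNat 2, Int.ofNat 0, Int.ofNat 0, Int.ofNat 0, Int.ofNat 0, Int.ofNat 0, Int.negSucc 1, Int.ofNat 0, Int.ofNat 0, Int.negSucc 1, Int.ofNat 0, Int.ofNat 0, Int.negSucc 1, Int.ofNat 0, Int.negSucc 1, Int.ofNat 0],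
  [Int.negSucc 1, Int.ofNat 0, Int.ofNat 0, Int.ofNat 0, Int.ofNat 0, Int.ofNat 2, Int.ofNat 0, Int.negSucc 1, Int.ofNat 2, Int.ofNat 0, Int.ofNat 0, Int.ofNat 0, Int.ofNat 0, Int.ofNat 0, Int.negSucc 1, Int.ofNat 0, Int.ofNat 0, Int.negSucc 1, Int.ofNat 0, Int.ofNat 0, Int.negSucc 1, Int.ofNat 0, Int.negSucc 1, Int.ofNat 0],
  [Int.ofNat 0, Int.negSucc 1, Int.ofNat 0, Int.ofNat 0, Int.negSucc 1, Int.ofNat 0, Int.ofNat 0, Int.ofNat 0, Int.negSucc 1, Int.ofNat 2, Int.ofNat 0, Int.ofNat 0, Int.ofNat 0, Int.negSucc 1, Int.ofNat 0, Int.ofNat 0, Int.ofNat 0, Int.ofNat 0, Int.negSucc 1, Int.ofNat 0, Int.ofNat 2, Int.ofNat 0, Int.ofNat 0, Int.negSucc 1],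
  [Int.ofNat 0, Int.negSucc 1, Int.ofNat 0, Int.ofNat 0, Int.negSucc 1, Int.ofNat 0, Int.ofNat 0, Int.ofNat 0, Int.negSucc 1, Int.negSucc 1, Int.ofNat 0, Int.ofNat 0, Int.ofNat 0, Int.negSucc 1, Int.ofNat 0, Int.ofNat 0, Int.ofNat 0, Int.ofNat 0, Int.ofNat 2, Int.ofNat 0, Int.ofNat 2, Int.ofNat 0, Int.ofNat 0, Int.negSucc 1],
  [Int.ofNat 0, Int.ofNat 0, Int.negSucc 1, Int.ofNat 0, Int.ofNat 0, Int.negSucc 1, Int.ofNat 0, Int.ofNat 0, Int.ofNat 0, Int.negSucc 1, Int.negSucc 1, Int.ofNat 0, Int.ofNat 0, Int.ofNat 0, Int.negSucc 1, Int.ofNat 0, Int.ofNat 0, Int.ofNat 0, Int.ofNat 0, Int.ofNat 2, Int.ofNat 0, Int.ofNat 2, Int.ofNat 0, Int.negSucc 1],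
  [Int.negSucc 1, Int.negSucc 1, Int.ofNat 0, Int.ofNat 2, Int.ofNat 0, Int.ofNat 0, Int.negSucc 1, Int.negSucc 1, Int.ofNat 0, Int.ofNat 0, Int.ofNat 0, Int.ofNat 0, Int.ofNat 0, Int.ofNat 0, Int.ofNat 0, Int.ofNat 2, Int.ofNat 0, Int.ofNat 2, Int.ofNat 0, Int.ofNat 0, Int.ofNat 2, Int.ofNat 0, Int.ofNat 0, Int.ofNat 0],
  [Int.ofNat 2, Int.ofNat 0, Int.ofNat 0, Int.negSucc 1, Int.negSucc 1, Int.ofNat 0, Int.ofNat 0, Int.ofNat 0, Int.ofNat 0, Int.ofNat 0, Int.ofNat 0, Int.ofNat 0, Int.ofNat 2, Int.ofNat 0, Int.ofNat 2, Int.ofNat 0, Int.ofNat 0, Int.ofNat 2, Int.ofNat 0, Int.ofNat 0, Int.negSucc 1, Int.negSucc 1, Int.ofNat 0, Int.ofNat 0],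
  [Int.negSucc 0, Int.ofNat 1, Int.ofNat 1, Int.negSucc 2, Int.negSucc 0, Int.negSucc 0, Int.ofNat 1, Int.ofNat 1, Int.negSucc 0, Int.ofNat 1, Int.ofNat 1, Int.negSucc 0, Int.ofNat 1, Int.ofNat 1, Int.ofNat 1, Int.ofNat 1, Int.ofNat 1, Int.ofNat 1, Int.negSucc 0, Int.ofNat 1, Int.negSucc 0, Int.negSucc 0, Int.ofNat 1, Int.ofNat 1],
  [Int.negSucc 0, Int.ofNat 1, Int.negSucc 0, Int.negSucc 2, Int.negSucc 0, Int.ofNat 1, Int.ofNat 1, Int.ofNat 1, Int.ofNat 1, Int.ofNat 1, Int.negSucc 0, Int.ofNat 1, Int.ofNat 1, Int.ofNat 1, Int.ofNat 1, Int.ofNat 1, Int.negSucc 0, Int.ofNat 1, Int.ofNat 1, Int.negSucc 0, Int.negSucc 0, Int.negSucc 0, Int.ofNat 1, Int.ofNat 1],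
  [Int.ofNat 1, Int.negSucc 0, Int.ofNat 1, Int.negSucc 2, Int.negSucc 0, Int.ofNat 1, Int.ofNat 1, Int.ofNat 1, Int.negSucc 0, Int.ofNat 1, Int.negSucc 0, Int.negSucc 0, Int.negSucc 0, Int.ofNat 1, Int.ofNat 1, Int.ofNat 1, Int.negSucc 0, Int.ofNat 1, Int.negSucc 0, Int.negSucc 0, Int.negSucc 0, Int.negSucc 0, Int.ofNat 1, Int.negSucc 0],
  [Int.ofNat 1, Int.negSucc 0, Int.negSucc 0, Int.negSucc 2, Int.negSucc 0, Int.negSucc 0, Int.negSucc 0, Int.ofNat 1, Int.negSucc 0, Int.negSucc 0, Int.ofNat 1, Int.negSucc 0, Int.negSucc 0, Int.ofNat 1, Int.ofNat 1, Int.negSucc 0, Int.negSucc 0, Int.ofNat 1, Int.ofNat 1, Int.negSucc 0, Int.negSucc 0, Int.negSucc 0, Int.negSucc 0, Int.negSucc 0],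
  [Int.negSucc 0, Int.negSucc 0, Int.negSucc 2, Int.negSucc 0, Int.negSucc 0, Int.negSucc 0, Int.negSucc 0, Int.negSucc 0, Int.ofNat 1, Int.negSucc 0, Int.ofNat 1, Int.negSucc 0, Int.negSucc 0, Int.negSucc 0, Int.ofNat 1, Int.ofNat 1, Int.negSucc 0, Int.negSucc 0, Int.negSucc 0, Int.ofNat 1, Int.ofNat 1, Int.negSucc 0, Int.ofNat 1, Int.negSucc 0],
  [Int.negSucc 0, Int.negSucc 0, Int.ofNat 3, Int.negSucc 0, Int.negSucc 0, Int.ofNat 1, Int.ofNat 1, Int.negSucc 0, Int.ofNat 1, Int.ofNat 1, Int.negSucc 0, Int.negSucc 0, Int.negSucc 0, Int.negSucc 0, Int.ofNat 1, Int.negSucc 0, Int.negSucc 0, Int.negSucc 0, Int.ofNat 1, Int.ofNat 1, Int.ofNat 1, Int.negSucc 0, Int.negSucc 0, Int.negSucc 0],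
  [Int.ofNat 1, Int.ofNat 1, Int.negSucc 2, Int.negSucc 0, Int.ofNat 1, Int.ofNat 1, Int.ofNat 1, Int.negSucc 0, Int.ofNat 1, Int.ofNat 1, Int.negSucc 0, Int.negSucc 0, Int.negSucc 0, Int.ofNat 1, Int.ofNat 1, Int.negSucc 0, Int.ofNat 1, Int.negSucc 0, Int.ofNat 1, Int.ofNat 1, Int.ofNat 1, Int.negSucc 0, Int.ofNat 1, Int.ofNat 1],
  [Int.ofNat 1, Int.ofNat 1, Int.ofNat 1, Int.negSucc 0, Int.negSucc 2, Int.negSucc 0, Int.ofNat 1, Int.ofNat 1, Int.ofNat 1, Int.negSucc 0, Int.negSucc 0, Int.ofNat 1, Int.ofNat 1, Int.ofNat 1, Int.negSucc 0, Int.negSucc 0, Int.ofNat 1, Int.negSucc 0, Int.ofNat 1, Int.ofNat 1, Int.negSucc 0, Int.ofNat 1, Int.ofNat 1, Int.ofNat 1],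
  [Int.ofNat 1, Int.ofNat 1, Int.ofNat 1, Int.ofNat 1, Int.negSucc 2, Int.ofNat 1, Int.negSucc 0, Int.negSucc 0, Int.negSucc 0, Int.ofNat 1, Int.ofNat 1, Int.negSucc 0, Int.negSucc 0, Int.ofNat 1, Int.ofNat 1, Int.ofNat 1, Int.ofNat 1, Int.ofNat 1, Int.negSucc 0, Int.negSucc 0, Int.ofNat 1, Int.negSucc 0, Int.ofNat 1, Int.ofNat 1],
  [Int.ofNat 1, Int.negSucc 0, Int.ofNat 1, Int.ofNat 1, Int.ofNat 1, Int.ofNat 1, Int.ofNat 1, Int.negSucc 2, Int.ofNat 1, Int.negSucc 0, Int.negSucc 0, Int.negSucc 0, Int.ofNat 1, Int.ofNat 1, Int.negSucc 0, Int.negSucc 0, Int.ofNat 1, Int.ofNat 1, Int.ofNat 1, Int.ofNat 1, Int.ofNat 1, Int.negSucc 0, Int.negSucc 0, Int.ofNat 1],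
  [Int.ofNat 0, Int.ofNat 2, Int.ofNat 0, Int.ofNat 0, Int.ofNat 0, Int.ofNat 0, Int.ofNat 2, Int.negSucc 1, Int.ofNat 0, Int.ofNat 0, Int.ofNat 0, Int.negSucc 1, Int.ofNat 0, Int.ofNat 0, Int.negSucc 1, Int.ofNat 0, Int.ofNat 0, Int.ofNat 0, Int.ofNat 0, Int.ofNat 2, Int.ofNat 2, Int.ofNat 0, Int.negSucc 1, Int.ofNat 0],
  [Int.ofNat 2, Int.ofNat 0, Int.ofNat 0, Int.ofNat 0, Int.ofNat 0, Int.ofNat 2, Int.negSucc 1, Int.ofNat 0, Int.ofNat 0, Int.ofNat 0, Int.negSucc 1, Int.ofNat 0, Int.ofNat 0, Int.negSucc 1, Int.ofNat 0, Int.ofNat 0, Int.ofNat 0, Int.ofNat 0, Int.ofNat 2, Int.ofNat 2, Int.ofNat 0, Int.negSucc 1, Int.ofNat 0, Int.ofNat 0],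
  [Int.negSucc 1, Int.ofNat 0, Int.ofNat 0, Int.ofNat 0, Int.ofNat 0, Int.ofNat 2, Int.negSucc 1, Int.ofNat 0, Int.ofNat 0, Int.ofNat 0, Int.ofNat 2, Int.ofNat 0, Int.ofNat 0, Int.negSucc 1, Int.ofNat 0, Int.ofNat 0, Int.ofNat 0, Int.ofNat 0, Int.negSucc 1, Int.ofNat 2, Int.ofNat 0, Int.ofNat 2, Int.ofNat 0, Int.ofNat 0],
  [Int.ofNat 0, Int.ofNat 0, Int.ofNat 0, Int.ofNat 0, Int.ofNat 0, Int.ofNat 0, Int.ofNat 2, Int.negSucc 1, Int.ofNat 0, Int.ofNat 2, Int.ofNat 0, Int.ofNat 0, Int.ofNat 2, Int.ofNat 0, Int.negSucc 1, Int.ofNat 0, Int.ofNat 2, Int.ofNat 0, Int.ofNat 0, Int.negSucc 1, Int.ofNat 0, Int.ofNat 0, Int.ofNat 0, Int.negSucc 1],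
  [Int.ofNat 0, Int.ofNat 0, Int.ofNat 0, Int.ofNat 0, Int.ofNat 0, Int.ofNat 0, Int.ofNat 2, Int.ofNat 2, Int.ofNat 0, Int.negSucc 1, Int.ofNat 0, Int.ofNat 0, Int.ofNat 2, Int.ofNat 0, Int.negSucc 1, Int.ofNat 0, Int.ofNat 2, Int.ofNat 0, Int.ofNat 0, Int.negSucc 1, Int.ofNat 0, Int.ofNat 0, Int.ofNat 0, Int.negSucc 1],
  [Int.ofNat 0, Int.ofNat 0, Int.ofNat 0, Int.ofNat 0, Int.ofNat 0, Int.ofNat 0, Int.ofNat 0, Int.ofNat 2, Int.ofNat 2, Int.ofNat 0, Int.negSucc 1, Int.ofNat 0, Int.ofNat 0, Int.ofNat 2, Int.ofNat 0, Int.negSucc 1, Int.ofNat 0, Int.ofNat 2, Int.ofNat 0, Int.ofNat 0, Int.negSucc 1, Int.ofNat 0, Int.ofNat 0, Int.negSucc 1],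
  [Int.negSucc 0, Int.negSucc 0, Int.negSucc 0, Int.negSucc 0, Int.negSucc 0, Int.negSucc 0, Int.negSucc 0, Int.ofNat 1, Int.ofNat 1, Int.ofNat 3, Int.ofNat 1, Int.negSucc 0, Int.negSucc 0, Int.ofNat 1, Int.negSucc 0, Int.ofNat 1, Int.negSucc 0, Int.ofNat 1, Int.negSucc 0, Int.negSucc 0, Int.ofNat 1, Int.negSucc 0, Int.negSucc 0, Int.ofNat 1],
  [Int.negSucc 0, Int.negSucc 0, Int.negSucc 0, Int.negSucc 0, Int.ofNat 1, Int.ofNat 1, Int.ofNat 3, Int.ofNat 1, Int.negSucc 0, Int.negSucc 0, Int.ofNat 1, Int.negSucc 0, Int.ofNat 1, Int.negSucc 0, Int.ofNat 1, Int.negSucc 0, Int.negSucc 0, Int.ofNat 1, Int.negSucc 0, Int.negSucc 0, Int.negSucc 0, Int.negSucc 0, Int.negSucc 0, Int.ofNat 1],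
  [Int.ofNat 0, Int.ofNat 0, Int.ofNat 0, Int.negSucc 1, Int.ofNat 2, Int.ofNat 0, Int.ofNat 2, Int.ofNat 0, Int.ofNat 0, Int.ofNat 0, Int.ofNat 2, Int.ofNat 0, Int.ofNat 2, Int.ofNat 0, Int.ofNat 0, Int.ofNat 0, Int.ofNat 0, Int.ofNat 0, Int.ofNat 0, Int.negSucc 1, Int.ofNat 0, Int.negSucc 1, Int.ofNat 0, Int.negSucc 1],
  [Int.ofNat 0, Int.ofNat 2, Int.ofNat 2, Int.negSucc 1, Int.ofNat 0, Int.ofNat 0, Int.ofNat 0, Int.ofNat 2, Int.ofNat 2, Int.ofNat 0, Int.ofNat 0, Int.ofNat 0, Int.ofNat 0, Int.ofNat 0, Int.ofNat 0, Int.ofNat 0, Int.ofNat 0, Int.ofNat 0, Int.ofNat 0, Int.ofNat 0, Int.negSucc 1, Int.ofNat 0, Int.negSucc 1, Int.negSucc 1],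
  [Int.ofNat 1, Int.negSucc 0, Int.negSucc 0, Int.negSucc 0, Int.ofNat 1, Int.ofNat 1, Int.negSucc 0, Int.ofNat 1, Int.ofNat 1, Int.ofNat 1, Int.ofNat 1, Int.negSucc 0, Int.negSucc 0, Int.ofNat 1, Int.ofNat 1, Int.ofNat 1, Int.ofNat 1, Int.ofNat 1, Int.negSucc 0, Int.negSucc 0, Int.negSucc 0, Int.negSucc 0, Int.negSucc 0, Int.ofNat 3],
  [Int.ofNat 1, Int.negSucc 0, Int.ofNat 1, Int.negSucc 0, Int.ofNat 1, Int.negSucc 0, Int.ofNat 1, Int.ofNat 1, Int.ofNat 1, Int.negSucc 0, Int.negSucc 0, Int.negSucc 0, Int.negSucc 0, Int.ofNat 1, Int.ofNat 1, Int.negSucc 0, Int.ofNat 1, Int.ofNat 1, Int.ofNat 1, Int.negSucc 0, Int.negSucc 0, Int.negSucc 0, Int.ofNat 1, Int.ofNat 3],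
  [Int.negSucc 0, Int.negSucc 0, Int.negSucc 0, Int.negSucc 0, Int.ofNat 1, Int.ofNat 1, Int.negSucc 0, Int.ofNat 1, Int.ofNat 1, Int.negSucc 0, Int.ofNat 1, Int.ofNat 1, Int.ofNat 1, Int.negSucc 0, Int.ofNat 1, Int.negSucc 0, Int.negSucc 0, Int.negSucc 0, Int.ofNat 1, Int.ofNat 1, Int.ofNat 1, Int.negSucc 0, Int.ofNat 1, Int.ofNat 3],
  [Int.negSucc 0, Int.negSucc 0, Int.ofNat 1, Int.negSucc 0, Int.ofNat 1, Int.negSucc 0, Int.ofNat 1, Int.ofNat 1, Int.ofNat 1, Int.ofNat 1, Int.negSucc 0, Int.ofNat 1, Int.ofNat 1, Int.negSucc 0, Int.ofNat 1, Int.ofNat 1, Int.negSucc 0, Int.negSucc 0, Int.negSucc 0, Int.ofNat 1, Int.ofNat 1, Int.negSucc 0, Int.negSucc 0, Int.ofNat 3],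
  [Int.ofNat 2, Int.ofNat 2, Int.ofNat 0, Int.ofNat 0, Int.ofNat 2, Int.ofNat 0, Int.ofNat 0, Int.ofNat 0, Int.ofNat 0, Int.ofNat 0, Int.negSucc 1, Int.ofNat 0, Int.ofNat 0, Int.ofNat 0, Int.ofNat 2, Int.ofNat 0, Int.ofNat 0, Int.ofNat 0, Int.negSucc 1, Int.ofNat 0, Int.ofNat 0, Int.negSucc 1, Int.ofNat 0, Int.negSucc 1],
  [Int.ofNat 2, Int.negSucc 1, Int.ofNat 0, Int.ofNat 0, Int.ofNat 0, Int.negSucc 1, Int.ofNat 2, Int.ofNat 0, Int.ofNat 0, Int.ofNat 0, Int.ofNat 0, Int.ofNat 0, Int.ofNat 0, Int.ofNat 0, Int.ofNat 0, Int.ofNat 0, Int.ofNat 0, Int.ofNat 0, Int.ofNat 2, Int.ofNat 0, Int.negSucc 1, Int.ofNat 0, Int.ofNat 2, Int.negSucc 1],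
  [Int.negSucc 2, Int.ofNat 1, Int.negSucc 0, Int.ofNat 1, Int.negSucc 0, Int.negSucc 0, Int.ofNat 1, Int.negSucc 0, Int.negSucc 0, Int.ofNat 1, Int.ofNat 1, Int.negSucc 0, Int.negSucc 0, Int.negSucc 0, Int.ofNat 1, Int.ofNat 1, Int.negSucc 0, Int.ofNat 1, Int.ofNat 1, Int.negSucc 0, Int.negSucc 0, Int.negSucc 0, Int.ofNat 1, Int.ofNat 1],
  [Int.negSucc 0, Int.negSucc 0, Int.ofNat 1, Int.negSucc 2, Int.ofNat 1, Int.negSucc 0, Int.ofNat 1, Int.negSucc 0, Int.negSucc 0, Int.ofNat 1, Int.negSucc 0, Int.negSucc 0, Int.ofNat 1, Int.ofNat 1, Int.negSucc 0, Int.negSucc 0, Int.negSucc 0, Int.ofNat 1, Int.ofNat 1, Int.negSucc 0, Int.ofNat 1, Int.ofNat 1, Int.negSucc 0, Int.ofNat 1],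
  [Int.ofNat 1, Int.ofNat 1, Int.negSucc 0, Int.negSucc 0, Int.ofNat 1, Int.ofNat 1, Int.ofNat 1, Int.negSucc 0, Int.negSucc 0, Int.ofNat 1, Int.negSucc 0, Int.negSucc 0, Int.ofNat 1, Int.ofNat 1, Int.ofNat 1, Int.negSucc 0, Int.negSucc 0, Int.ofNat 3, Int.ofNat 1, Int.negSucc 0, Int.ofNat 1, Int.ofNat 1, Int.negSucc 0, Int.negSucc 0],
  [Int.ofNat 1, Int.negSucc 0, Int.negSucc 0, Int.ofNat 1, Int.ofNat 1, Int.ofNat 1, Int.negSucc 0, Int.negSucc 0, Int.ofNat 1, Int.negSucc 0, Int.negSucc 0, Int.ofNat 1, Int.ofNat 1, Int.ofNat 1, Int.negSucc 0, Int.negSucc 0, Int.ofNat 3, Int.ofNat 1, Int.negSucc 0, Int.ofNat 1, Int.ofNat 1, Int.negSucc 0, Int.ofNat 1, Int.negSucc 0],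
  [Int.negSucc 0, Int.negSucc 0, Int.ofNat 1, Int.ofNat 1, Int.ofNat 1, Int.ofNat 1, Int.negSucc 0, Int.ofNat 1, Int.ofNat 1, Int.ofNat 1, Int.ofNat 1, Int.negSucc 0, Int.ofNat 1, Int.ofNat 1, Int.negSucc 0, Int.negSucc 0, Int.ofNat 3, Int.ofNat 1, Int.ofNat 1, Int.ofNat 1, Int.ofNat 1, Int.ofNat 1, Int.ofNat 1, Int.negSucc 0],
  [Int.negSucc 0, Int.ofNat 1, Int.negSucc 0, Int.negSucc 0, Int.ofNat 1, Int.ofNat 1, Int.ofNat 1, Int.ofNat 1, Int.ofNat 1, Int.ofNat 1, Int.ofNat 3, Int.ofNat 1, Int.ofNat 1, Int.ofNat 1, Int.ofNat 1, Int.ofNat 1, Int.ofNat 1, Int.ofNat 1, Int.negSucc 0, Int.negSucc 0, Int.ofNat 1, Int.ofNat 1, Int.negSucc 0, Int.negSucc 0],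
  [Int.ofNat 1, Int.ofNat 1, Int.ofNat 1, Int.negSucc 0, Int.ofNat 1, Int.ofNat 1, Int.ofNat 1, Int.negSucc 0, Int.ofNat 1, Int.negSucc 0, Int.negSucc 2, Int.negSucc 0, Int.ofNat 1, Int.ofNat 1, Int.ofNat 1, Int.ofNat 1, Int.ofNat 1, Int.ofNat 1, Int.ofNat 1, Int.negSucc 0, Int.ofNat 1, Int.negSucc 0, Int.negSucc 0, Int.negSucc 0],
  [Int.negSucc 0, Int.ofNat 1, Int.ofNat 1, Int.ofNat 1, Int.negSucc 0, Int.ofNat 1, Int.ofNat 1, Int.ofNat 1, Int.negSucc 0, Int.ofNat 1, Int.negSucc 0, Int.negSucc 2, Int.negSucc 0, Int.ofNat 1, Int.ofNat 1, Int.ofNat 1, Int.ofNat 1, Int.ofNat 1, Int.ofNat 1, Int.ofNat 1, Int.negSucc 0, Int.ofNat 1, Int.negSucc 0, Int.negSucc 0],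
  [Int.ofNat 1, Int.negSucc 0, Int.negSucc 0, Int.negSucc 0, Int.negSucc 0, Int.negSucc 0, Int.negSucc 0, Int.negSucc 0, Int.ofNat 1, Int.ofNat 1, Int.negSucc 0, Int.negSucc 0, Int.ofNat 1, Int.ofNat 1, Int.negSucc 0, Int.ofNat 1, Int.ofNat 1, Int.negSucc 0, Int.ofNat 3, Int.negSucc 0, Int.negSucc 0, Int.negSucc 0, Int.negSucc 0, Int.ofNat 1],
  [Int.negSucc 0, Int.negSucc 0, Int.negSucc 0, Int.negSucc 0, Int.negSucc 0, Int.ofNat 1, Int.ofNat 1, Int.negSucc 0, Int.negSucc 0, Int.ofNat 1, Int.ofNat 1, Int.negSucc 0, Int.ofNat 1, Int.ofNat 1, Int.negSucc 0, Int.ofNat 3, Int.negSucc 0, Int.negSucc 0, Int.negSucc 0, Int.negSucc 0, Int.ofNat 1, Int.negSucc 0, Int.negSucc 0, Int.ofNat 1],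
  [Int.ofNat 0, Int.ofNat 0, Int.ofNat 0, Int.ofNat 0, Int.ofNat 0, Int.ofNat 2, Int.ofNat 2, Int.ofNat 0, Int.ofNat 0, Int.negSucc 1, Int.negSucc 1, Int.ofNat 0, Int.ofNat 2, Int.ofNat 2, Int.ofNat 0, Int.ofNat 0, Int.ofNat 0, Int.ofNat 0, Int.ofNat 0, Int.ofNat 0, Int.negSucc 1, Int.ofNat 0, Int.ofNat 0, Int.negSucc 1],
  [Int.ofNat 0, Int.ofNat 2, Int.ofNat 0, Int.ofNat 0, Int.ofNat 0, Int.ofNat 0, Int.ofNat 0, Int.negSucc 1, Int.ofNat 2, Int.ofNat 2, Int.negSucc 1, Int.ofNat 0, Int.negSucc 1, Int.ofNat 0, Int.ofNat 0, Int.ofNat 0, Int.ofNat 0, Int.ofNat 0, Int.ofNat 0, Int.ofNat 0, Int.ofNat 0, Int.ofNat 2, Int.ofNat 0, Int.negSucc 1],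
  [Int.ofNat 0, Int.negSucc 1, Int.ofNat 0, Int.ofNat 0, Int.ofNat 0, Int.ofNat 0, Int.ofNat 0, Int.negSucc 1, Int.ofNat 2, Int.ofNat 2, Int.negSucc 1, Int.ofNat 0, Int.negSucc 1, Int.ofNat 0, Int.ofNat 0, Int.ofNat 0, Int.ofNat 0, Int.ofNat 0, Int.ofNat 0, Int.ofNat 0, Int.ofNat 0, Int.ofNat 2, Int.ofNat 0, Int.ofNat 2],
  [Int.ofNat 0, Int.negSucc 1, Int.ofNat 0, Int.ofNat 0, Int.ofNat 0, Int.ofNat 0, Int.ofNat 0, Int.negSucc 1, Int.ofNat 2, Int.negSucc 1, Int.ofNat 2, Int.ofNat 0, Int.negSucc 1, Int.ofNat 0, Int.ofNat 0, Int.ofNat 0, Int.ofNat 0, Int.ofNat 0, Int.ofNat 0, Int.ofNat 0, Int.ofNat 0, Int.ofNat 2, Int.ofNat 0, Int.ofNat 2],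
  [Int.ofNat 0, Int.ofNat 0, Int.ofNat 0, Int.negSucc 1, Int.ofNat 0, Int.ofNat 0, Int.ofNat 0, Int.ofNat 0, Int.ofNat 0, Int.ofNat 2, Int.negSucc 1, Int.ofNat 0, Int.ofNat 0, Int.negSucc 1, Int.ofNat 0, Int.ofNat 2, Int.ofNat 0, Int.ofNat 0, Int.ofNat 2, Int.ofNat 0, Int.ofNat 0, Int.negSucc 1, Int.ofNat 0, Int.ofNat 2],
  [Int.ofNat 0, Int.ofNat 0, Int.ofNat 0, Int.negSucc 1, Int.ofNat 0, Int.ofNat 0, Int.ofNat 0, Int.ofNat 0, Int.ofNat 0, Int.negSucc 1, Int.ofNat 2, Int.ofNat 0, Int.ofNat 0, Int.negSucc 1, Int.ofNat 0, Int.negSucc 1, Int.ofNat 0, Int.ofNat 0, Int.negSucc 1, Int.ofNat 0, Int.ofNat 0, Int.negSucc 1, Int.ofNat 0, Int.ofNat 2],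
  [Int.ofNat 1, Int.ofNat 1, Int.ofNat 1, Int.negSucc 0, Int.ofNat 1, Int.ofNat 1, Int.ofNat 1, Int.ofNat 1, Int.ofNat 1, Int.negSucc 0, Int.ofNat 3, Int.ofNat 1, Int.ofNat 1, Int.negSucc 0, Int.ofNat 1, Int.negSucc 0, Int.ofNat 1, Int.ofNat 1, Int.negSucc 0, Int.ofNat 1, Int.ofNat 1, Int.negSucc 0, Int.ofNat 1, Int.negSucc 0],
  [Int.ofNat 1, Int.negSucc 0, Int.ofNat 1, Int.negSucc 0, Int.ofNat 1, Int.negSucc 0, Int.ofNat 1, Int.ofNat 1, Int.ofNat 1, Int.ofNat 1, Int.ofNat 1, Int.ofNat 1, Int.ofNat 1, Int.negSucc 0, Int.ofNat 1, Int.negSucc 0, Int.negSucc 0, Int.ofNat 1, Int.ofNat 1, Int.ofNat 1, Int.ofNat 3, Int.ofNat 1, Int.ofNat 1, Int.negSucc 0],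
  [Int.negSucc 0, Int.ofNat 1, Int.negSucc 0, Int.negSucc 0, Int.ofNat 1, Int.negSucc 0, Int.negSucc 0, Int.negSucc 0, Int.negSucc 0, Int.negSucc 0, Int.negSucc 0, Int.negSucc 0, Int.negSucc 0, Int.negSucc 0, Int.ofNat 1, Int.negSucc 2, Int.negSucc 0, Int.ofNat 1, Int.negSucc 0, Int.negSucc 0, Int.ofNat 1, Int.negSucc 0, Int.ofNat 1, Int.ofNat 1],
  [Int.ofNat 1, Int.negSucc 0, Int.ofNat 1, Int.negSucc 0, Int.ofNat 1, Int.negSucc 0, Int.negSucc 0, Int.ofNat 1, Int.negSucc 0, Int.negSucc 0, Int.negSucc 0, Int.negSucc 0, Int.negSucc 0, Int.negSucc 0, Int.negSucc 0, Int.negSucc 0, Int.negSucc 0, Int.ofNat 1, Int.negSucc 2, Int.negSucc 0, Int.ofNat 1, Int.negSucc 0, Int.negSucc 0, Int.ofNat 1],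
  [Int.ofNat 0, Int.ofNat 2, Int.ofNat 0, Int.ofNat 0, Int.ofNat 2, Int.ofNat 0, Int.ofNat 0, Int.ofNat 2, Int.ofNat 2, Int.ofNat 0, Int.ofNat 0, Int.ofNat 2, Int.ofNat 2, Int.ofNat 0, Int.ofNat 0, Int.ofNat 0, Int.ofNat 0, Int.ofNat 2, Int.ofNat 0, Int.ofNat 0, Int.ofNat 2, Int.ofNat 0, Int.ofNat 0, Int.ofNat 0],
  [Int.ofNat 2, Int.ofNat 0, Int.ofNat 0, Int.ofNat 2, Int.ofNat 0, Int.ofNat 0, Int.ofNat 2, Int.ofNat 2, Int.ofNat 0, Int.ofNat 0, Int.ofNat 2, Int.ofNat 2, Int.ofNat 0, Int.ofNat 0, Int.ofNat 0, Int.ofNat 0, Int.ofNat 2, Int.ofNat 0, Int.ofNat 0, Int.ofNat 2, Int.ofNat 0, Int.ofNat 0, Int.ofNat 0, Int.ofNat 0],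
  [Int.negSucc 1, Int.ofNat 0, Int.ofNat 0, Int.ofNat 2, Int.ofNat 0, Int.ofNat 0, Int.ofNat 2, Int.negSucc 1, Int.ofNat 0, Int.ofNat 0, Int.negSucc 1, Int.negSucc 1, Int.ofNat 0, Int.ofNat 0, Int.ofNat 0, Int.ofNat 0, Int.ofNat 2, Int.ofNat 0, Int.ofNat 0, Int.ofNat 2, Int.ofNat 0, Int.ofNat 0, Int.ofNat 0, Int.ofNat 0],
  [Int.ofNat 0, Int.ofNat 0, Int.negSucc 1, Int.ofNat 0, Int.ofNat 0, Int.ofNat 0, Int.ofNat 2, Int.ofNat 0, Int.ofNat 0, Int.ofNat 0, Int.ofNat 2, Int.ofNat 0, Int.ofNat 0, Int.negSucc 1, Int.ofNat 0, Int.ofNat 2, Int.negSucc 1, Int.ofNat 0, Int.ofNat 0, Int.ofNat 2, Int.ofNat 0, Int.ofNat 0, Int.ofNat 0, Int.negSucc 1],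
  [Int.ofNat 0, Int.ofNat 0, Int.ofNat 2, Int.ofNat 0, Int.ofNat 0, Int.ofNat 0, Int.ofNat 2, Int.ofNat 0, Int.ofNat 0, Int.ofNat 0, Int.negSucc 1, Int.ofNat 0, Int.ofNat 0, Int.negSucc 1, Int.ofNat 0, Int.ofNat 2, Int.negSucc 1, Int.ofNat 0, Int.ofNat 0, Int.ofNat 2, Int.ofNat 0, Int.ofNat 0, Int.ofNat 0, Int.negSucc 1],
  [Int.ofNat 0, Int.ofNat 0, Int.ofNat 0, Int.ofNat 2, Int.ofNat 0, Int.ofNat 0, Int.ofNat 0, Int.ofNat 2, Int.ofNat 0, Int.ofNat 0, Int.ofNat 0, Int.negSucc 1, Int.ofNat 0, Int.ofNat 0, Int.negSucc 1, Int.ofNat 0, Int.ofNat 2, Int.negSucc 1, Int.ofNat 0, Int.ofNat 0, Int.ofNat 2, Int.ofNat 0, Int.ofNat 0, Int.negSucc 1],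
  [Int.negSucc 0, Int.negSucc 0, Int.negSucc 0, Int.ofNat 3, Int.negSucc 0, Int.ofNat 1, Int.negSucc 0, Int.ofNat 1, Int.ofNat 1, Int.negSucc 0, Int.negSucc 0, Int.negSucc 0, Int.ofNat 1, Int.negSucc 0, Int.negSucc 0, Int.negSucc 0, Int.ofNat 1, Int.negSucc 0, Int.ofNat 1, Int.negSucc 0, Int.ofNat 1, Int.negSucc 0, Int.negSucc 0, Int.ofNat 1],
  [Int.ofNat 3, Int.negSucc 0, Int.ofNat 1, Int.negSucc 0, Int.ofNat 1, Int.ofNat 1, Int.negSucc 0, Int.negSucc 0, Int.negSucc 0, Int.ofNat 1, Int.negSucc 0, Int.negSucc 0, Int.negSucc 0, Int.ofNat 1, Int.negSucc 0, Int.ofNat 1, Int.negSucc 0, Int.ofNat 1, Int.negSucc 0, Int.negSucc 0, Int.negSucc 0, Int.negSucc 0, Int.negSucc 0, Int.ofNat 1],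
  [Int.negSucc 0, Int.ofNat 3, Int.ofNat 1, Int.negSucc 0, Int.ofNat 1, Int.ofNat 1, Int.ofNat 1, Int.ofNat 1, Int.ofNat 1, Int.ofNat 1, Int.negSucc 0, Int.ofNat 1, Int.ofNat 1, Int.ofNat 1, Int.negSucc 0, Int.ofNat 1, Int.negSucc 0, Int.ofNat 1, Int.ofNat 1, Int.ofNat 1, Int.negSucc 0, Int.ofNat 1, Int.negSucc 0, Int.ofNat 1],
  [Int.negSucc 0, Int.ofNat 1, Int.ofNat 1, Int.negSucc 0, Int.ofNat 1, Int.ofNat 1, Int.ofNat 1, Int.negSucc 0, Int.ofNat 1, Int.ofNat 1, Int.negSucc 0, Int.ofNat 1, Int.ofNat 1, Int.negSucc 0, Int.negSucc 0, Int.ofNat 1, Int.ofNat 1, Int.negSucc 0, Int.ofNat 3, Int.ofNat 1, Int.ofNat 1, Int.ofNat 1, Int.ofNat 1, Int.ofNat 1],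
  [Int.ofNat 2, Int.ofNat 0, Int.ofNat 0, Int.ofNat 0, Int.ofNat 0, Int.ofNat 2, Int.ofNat 0, Int.negSucc 1, Int.negSucc 1, Int.ofNat 0, Int.negSucc 1, Int.negSucc 1, Int.negSucc 1, Int.negSucc 1, Int.ofNat 0, Int.ofNat 0, Int.ofNat 0, Int.ofNat 0, Int.ofNat 0, Int.ofNat 0, Int.ofNat 0, Int.ofNat 0, Int.ofNat 0, Int.ofNat 0],
  [Int.ofNat 2, Int.ofNat 0, Int.ofNat 0, Int.ofNat 0, Int.ofNat 0, Int.negSucc 1, Int.ofNat 0, Int.negSucc 1, Int.negSucc 1, Int.ofNat 0, Int.ofNat 2, Int.negSucc 1, Int.negSucc 1, Int.negSucc 1, Int.ofNat 0, Int.ofNat 0, Int.ofNat 0, Int.ofNat 0, Int.ofNat 0, Int.ofNat 0, Int.ofNat 0, Int.ofNat 0, Int.ofNat 0, Int.ofNat 0],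
  [Int.negSucc 1, Int.ofNat 0, Int.ofNat 0, Int.ofNat 0, Int.ofNat 0, Int.ofNat 0, Int.ofNat 0, Int.ofNat 0, Int.ofNat 0, Int.ofNat 0, Int.negSucc 1, Int.ofNat 0, Int.ofNat 0, Int.ofNat 0, Int.ofNat 0, Int.ofNat 2, Int.ofNat 0, Int.negSucc 1, Int.negSucc 1, Int.ofNat 0, Int.ofNat 2, Int.negSucc 1, Int.negSucc 1, Int.ofNat 0],
  [Int.negSucc 1, Int.ofNat 0, Int.ofNat 0, Int.ofNat 0, Int.ofNat 0, Int.ofNat 0, Int.ofNat 0, Int.ofNat 0, Int.ofNat 0, Int.ofNat 0, Int.ofNat 2, Int.ofNat 0, Int.ofNat 0, Int.ofNat 0, Int.ofNat 0, Int.negSucc 1, Int.ofNat 0, Int.negSucc 1, Int.ofNat 2, Int.ofNat 0, Int.ofNat 2, Int.negSucc 1, Int.ofNat 2, Int.ofNat 0],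
  [Int.ofNat 1, Int.negSucc 0, Int.negSucc 0, Int.ofNat 1, Int.negSucc 0, Int.ofNat 1, Int.ofNat 1, Int.ofNat 1, Int.negSucc 0, Int.negSucc 0, Int.ofNat 1, Int.negSucc 0, Int.negSucc 0, Int.negSucc 0, Int.ofNat 1, Int.negSucc 2, Int.negSucc 0, Int.negSucc 0, Int.ofNat 1, Int.ofNat 1, Int.ofNat 1, Int.negSucc 0, Int.ofNat 1, Int.negSucc 0],
  [Int.ofNat 1, Int.ofNat 1, Int.ofNat 1, Int.ofNat 1, Int.negSucc 0, Int.negSucc 0, Int.negSucc 0, Int.ofNat 1, Int.negSucc 0, Int.negSucc 0, Int.ofNat 1, Int.ofNat 1, Int.negSucc 0, Int.negSucc 0, Int.negSucc 0, Int.negSucc 2, Int.negSucc 0, Int.negSucc 0, Int.negSucc 0, Int.ofNat 1, Int.ofNat 1, Int.ofNat 1, Int.ofNat 1, Int.negSucc 0],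
  [Int.ofNat 0, Int.ofNat 0, Int.ofNat 0, Int.ofNat 2, Int.ofNat 0, Int.ofNat 0, Int.negSucc 1, Int.ofNat 0, Int.ofNat 0, Int.ofNat 0, Int.ofNat 2, Int.ofNat 2, Int.ofNat 0, Int.ofNat 0, Int.ofNat 0, Int.negSucc 1, Int.ofNat 0, Int.ofNat 0, Int.ofNat 0, Int.ofNat 0, Int.ofNat 2, Int.ofNat 0, Int.ofNat 2, Int.ofNat 2],
  [Int.ofNat 2, Int.ofNat 0, Int.ofNat 2, Int.ofNat 0, Int.ofNat 0, Int.ofNat 0, Int.ofNat 2, Int.ofNat 0, Int.ofNat 0, Int.negSucc 1, Int.ofNat 0, Int.ofNat 0, Int.ofNat 0, Int.ofNat 2, Int.ofNat 2, Int.ofNat 0, Int.ofNat 0, Int.ofNat 0, Int.negSucc 1, Int.ofNat 0, Int.ofNat 0, Int.ofNat 0, Int.ofNat 0, Int.ofNat 2],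
  [Int.ofNat 1, Int.ofNat 3, Int.ofNat 1, Int.negSucc 0, Int.negSucc 0, Int.negSucc 0, Int.ofNat 1, Int.negSucc 0, Int.ofNat 1, Int.negSucc 0, Int.ofNat 1, Int.ofNat 1, Int.ofNat 1, Int.ofNat 1, Int.ofNat 1, Int.ofNat 1, Int.negSucc 0, Int.negSucc 0, Int.negSucc 0, Int.negSucc 0, Int.ofNat 1, Int.negSucc 0, Int.negSucc 0, Int.ofNat 1],
  [Int.ofNat 3, Int.ofNat 1, Int.negSucc 0, Int.negSucc 0, Int.negSucc 0, Int.ofNat 1, Int.negSucc 0, Int.ofNat 1, Int.negSucc 0, Int.ofNat 1, Int.ofNat 1, Int.ofNat 1, Int.ofNat 1, Int.ofNat 1, Int.ofNat 1, Int.negSucc 0, Int.negSucc 0, Int.negSucc 0, Int.negSucc 0, Int.ofNat 1, Int.negSucc 0, Int.negSucc 0, Int.ofNat 1, Int.ofNat 1],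
  [Int.negSucc 2, Int.ofNat 1, Int.ofNat 1, Int.negSucc 0, Int.negSucc 0, Int.ofNat 1, Int.negSucc 0, Int.negSucc 0, Int.negSucc 0, Int.negSucc 0, Int.negSucc 0, Int.negSucc 0, Int.ofNat 1, Int.ofNat 1, Int.ofNat 1, Int.negSucc 0, Int.negSucc 0, Int.negSucc 0, Int.ofNat 1, Int.ofNat 1, Int.negSucc 0, Int.ofNat 1, Int.ofNat 1, Int.ofNat 1],
  [Int.ofNat 1, Int.ofNat 1, Int.negSucc 0, Int.negSucc 0, Int.negSucc 0, Int.negSucc 0, Int.ofNat 1, Int.ofNat 1, Int.negSucc 0, Int.ofNat 1, Int.negSucc 0, Int.ofNat 1, Int.ofNat 1, Int.negSucc 0, Int.ofNat 1, Int.negSucc 0, Int.negSucc 0, Int.negSucc 0, Int.ofNat 1, Int.negSucc 0, Int.negSucc 0, Int.ofNat 1, Int.ofNat 1, Int.negSucc 2],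
  [Int.negSucc 0, Int.ofNat 1, Int.ofNat 1, Int.negSucc 0, Int.negSucc 0, Int.negSucc 0, Int.ofNat 1, Int.negSucc 0, Int.negSucc 0, Int.negSucc 0, Int.ofNat 1, Int.negSucc 0, Int.ofNat 1, Int.negSucc 0, Int.ofNat 1, Int.negSucc 0, Int.negSucc 0, Int.negSucc 0, Int.negSucc 0, Int.negSucc 0, Int.negSucc 0, Int.negSucc 0, Int.ofNat 1, Int.negSucc 2],
  [Int.ofNat 1, Int.negSucc 0, Int.ofNat 1, Int.ofNat 1, Int.negSucc 0, Int.negSucc 0, Int.negSucc 0, Int.ofNat 1, Int.negSucc 0, Int.negSucc 0, Int.negSucc 0, Int.ofNat 1, Int.negSucc 0, Int.ofNat 1, Int.negSucc 0, Int.ofNat 1, Int.negSucc 0, Int.negSucc 0, Int.negSucc 0, Int.negSucc 0, Int.negSucc 0, Int.negSucc 0, Int.negSucc 0, Int.negSucc 2],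
  [Int.negSucc 1, Int.ofNat 0, Int.negSucc 1, Int.ofNat 2, Int.ofNat 0, Int.ofNat 0, Int.ofNat 0, Int.ofNat 2, Int.ofNat 0, Int.ofNat 0, Int.ofNat 0, Int.ofNat 2, Int.ofNat 0, Int.ofNat 2, Int.ofNat 0, Int.ofNat 2, Int.ofNat 0, Int.ofNat 0, Int.ofNat 0, Int.ofNat 0, Int.ofNat 0, Int.ofNat 0, Int.ofNat 0, Int.ofNat 2],
  [Int.ofNat 2, Int.ofNat 0, Int.ofNat 0, Int.ofNat 0, Int.ofNat 2, Int.ofNat 0, Int.ofNat 0, Int.ofNat 0, Int.ofNat 2, Int.ofNat 0, Int.ofNat 2, Int.ofNat 0, Int.ofNat 2, Int.ofNat 0, Int.ofNat 0, Int.ofNat 0, Int.ofNat 0, Int.ofNat 0, Int.ofNat 0, Int.ofNat 0, Int.negSucc 1, Int.ofNat 0, Int.negSucc 1, Int.ofNat 2],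
  [Int.ofNat 0, Int.ofNat 2, Int.ofNat 2, Int.ofNat 0, Int.ofNat 2, Int.ofNat 0, Int.ofNat 0, Int.ofNat 0, Int.ofNat 0, Int.ofNat 0, Int.ofNat 2, Int.negSucc 1, Int.ofNat 0, Int.ofNat 0, Int.ofNat 0, Int.ofNat 0, Int.ofNat 0, Int.ofNat 0, Int.negSucc 1, Int.ofNat 0, Int.negSucc 1, Int.ofNat 0, Int.negSucc 1, Int.ofNat 0],
  [Int.ofNat 0, Int.ofNat 0, Int.ofNat 2, Int.ofNat 0, Int.negSucc 1, Int.ofNat 0, Int.ofNat 2, Int.ofNat 2, Int.ofNat 0, Int.ofNat 0, Int.negSucc 1, Int.ofNat 0, Int.ofNat 0, Int.ofNat 0, Int.negSucc 1, Int.ofNat 0, Int.ofNat 0, Int.ofNat 0, Int.ofNat 2, Int.negSucc 1, Int.ofNat 0, Int.ofNat 0, Int.ofNat 0, Int.ofNat 0],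
  [Int.ofNat 1, Int.ofNat 1, Int.negSucc 0, Int.ofNat 1, Int.negSucc 0, Int.ofNat 1, Int.ofNat 1, Int.ofNat 1, Int.negSucc 0, Int.ofNat 1, Int.negSucc 0, Int.negSucc 0, Int.negSucc 0, Int.ofNat 1, Int.negSucc 0, Int.ofNat 1, Int.ofNat 1, Int.ofNat 1, Int.ofNat 1, Int.negSucc 2, Int.ofNat 1, Int.negSucc 0, Int.ofNat 1, Int.ofNat 1],
  [Int.ofNat 1, Int.ofNat 1, Int.ofNat 1, Int.ofNat 1, Int.negSucc 0, Int.negSucc 0, Int.negSucc 0, Int.ofNat 1, Int.negSucc 0, Int.negSucc 0, Int.ofNat 1, Int.negSucc 0, Int.negSucc 0, Int.ofNat 1, Int.negSucc 0, Int.negSucc 0, Int.ofNat 1, Int.ofNat 1, Int.negSucc 0, Int.negSucc 2, Int.ofNat 1, Int.negSucc 0, Int.negSucc 0, Int.ofNat 1],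
  [Int.negSucc 0, Int.ofNat 1, Int.ofNat 1, Int.negSucc 0, Int.ofNat 1, Int.ofNat 1, Int.negSucc 2, Int.negSucc 0, Int.ofNat 1, Int.negSucc 0, Int.ofNat 1, Int.negSucc 0, Int.negSucc 0, Int.ofNat 1, Int.negSucc 0, Int.ofNat 1, Int.negSucc 0, Int.negSucc 0, Int.negSucc 0, Int.negSucc 0, Int.ofNat 1, Int.negSucc 0, Int.ofNat 1, Int.ofNat 1],
  [Int.negSucc 0, Int.ofNat 1, Int.negSucc 0, Int.negSucc 0, Int.ofNat 1, Int.negSucc 0, Int.ofNat 3, Int.negSucc 0, Int.ofNat 1, Int.ofNat 1, Int.negSucc 0, Int.negSucc 0, Int.negSucc 0, Int.ofNat 1, Int.negSucc 0, Int.negSucc 0, Int.negSucc 0, Int.negSucc 0, Int.ofNat 1, Int.negSucc 0, Int.ofNat 1, Int.negSucc 0, Int.negSucc 0, Int.ofNat 1],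
  [Int.ofNat 1, Int.negSucc 0, Int.ofNat 1, Int.ofNat 1, Int.ofNat 1, Int.ofNat 1, Int.ofNat 3, Int.negSucc 0, Int.ofNat 1, Int.ofNat 1, Int.negSucc 0, Int.negSucc 0, Int.negSucc 0, Int.ofNat 1, Int.ofNat 1, Int.negSucc 0, Int.negSucc 0, Int.ofNat 1, Int.ofNat 1, Int.negSucc 0, Int.ofNat 1, Int.negSucc 0, Int.negSucc 0, Int.negSucc 0],
  [Int.ofNat 1, Int.ofNat 1, Int.ofNat 3, Int.ofNat 1, Int.ofNat 1, Int.negSucc 0, Int.negSucc 0, Int.ofNat 1, Int.negSucc 0, Int.negSucc 0, Int.negSucc 0, Int.negSucc 0, Int.ofNat 1, Int.ofNat 1, Int.ofNat 1, Int.negSucc 0, Int.ofNat 1, Int.negSucc 0, Int.ofNat 1, Int.negSucc 0, Int.negSucc 0, Int.ofNat 1, Int.ofNat 1, Int.negSucc 0],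
  [Int.ofNat 1, Int.ofNat 1, Int.negSucc 0, Int.ofNat 1, Int.negSucc 0, Int.negSucc 0, Int.negSucc 0, Int.ofNat 1, Int.negSucc 0, Int.ofNat 1, Int.ofNat 1, Int.negSucc 0, Int.ofNat 1, Int.negSucc 0, Int.ofNat 1, Int.ofNat 1, Int.negSucc 0, Int.negSucc 0, Int.ofNat 1, Int.negSucc 0, Int.ofNat 1, Int.ofNat 1, Int.negSucc 0, Int.ofNat 3],
  [Int.ofNat 1, Int.ofNat 1, Int.negSucc 0, Int.ofNat 1, Int.ofNat 1, Int.negSucc 0, Int.ofNat 1, Int.negSucc 0, Int.negSucc 0, Int.negSucc 0, Int.ofNat 1, Int.negSucc 0, Int.ofNat 1, Int.ofNat 1, Int.negSucc 0, Int.ofNat 1, Int.negSucc 0, Int.ofNat 1, Int.ofNat 1, Int.negSucc 0, Int.negSucc 0, Int.ofNat 1, Int.negSucc 0, Int.ofNat 3],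
  [Int.ofNat 1, Int.ofNat 1, Int.ofNat 3, Int.ofNat 1, Int.ofNat 1, Int.negSucc 0, Int.ofNat 1, Int.negSucc 0, Int.negSucc 0, Int.negSucc 0, Int.ofNat 1, Int.negSucc 0, Int.ofNat 1, Int.ofNat 1, Int.negSucc 0, Int.ofNat 1, Int.negSucc 0, Int.ofNat 1, Int.ofNat 1, Int.negSucc 0, Int.negSucc 0, Int.ofNat 1, Int.negSucc 0, Int.negSucc 0],
  [Int.ofNat 1, Int.ofNat 3, Int.ofNat 1, Int.ofNat 1, Int.negSucc 0, Int.ofNat 1, Int.negSucc 0, Int.negSucc 0, Int.negSucc 0, Int.ofNat 1, Int.negSucc 0, Int.ofNat 1, Int.ofNat 1, Int.negSucc 0, Int.ofNat 1, Int.negSucc 0, Int.ofNat 1, Int.ofNat 1, Int.negSucc 0, Int.negSucc 0, Int.ofNat 1, Int.negSucc 0, Int.ofNat 1, Int.negSucc 0],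
  [Int.negSucc 0, Int.ofNat 3, Int.negSucc 0, Int.ofNat 1, Int.negSucc 0, Int.ofNat 1, Int.negSucc 0, Int.ofNat 1, Int.negSucc 0, Int.negSucc 0, Int.ofNat 1, Int.negSucc 0, Int.ofNat 1, Int.negSucc 0, Int.ofNat 1, Int.negSucc 0, Int.ofNat 1, Int.ofNat 1, Int.ofNat 1, Int.negSucc 0, Int.ofNat 1, Int.ofNat 1, Int.ofNat 1, Int.negSucc 0],
  [Int.negSucc 0, Int.ofNat 1, Int.negSucc 0, Int.negSucc 0, Int.ofNat 1, Int.negSucc 0, Int.negSucc 0, Int.negSucc 0, Int.ofNat 1, Int.ofNat 1, Int.ofNat 1, Int.negSucc 0, Int.ofNat 1, Int.ofNat 1, Int.ofNat 1, Int.ofNat 1, Int.ofNat 1, Int.negSucc 0, Int.ofNat 1, Int.negSucc 0, Int.negSucc 0, Int.ofNat 1, Int.ofNat 3, Int.negSucc 0],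
  [Int.ofNat 1, Int.ofNat 1, Int.ofNat 1, Int.negSucc 0, Int.ofNat 1, Int.negSucc 0, Int.negSucc 0, Int.ofNat 1, Int.ofNat 1, Int.negSucc 0, Int.negSucc 0, Int.ofNat 1, Int.ofNat 1, Int.ofNat 1, Int.ofNat 1, Int.ofNat 1, Int.ofNat 1, Int.negSucc 0, Int.negSucc 0, Int.negSucc 0, Int.negSucc 0, Int.negSucc 0, Int.ofNat 3, Int.negSucc 0],
  [Int.ofNat 3, Int.ofNat 1, Int.ofNat 1, Int.ofNat 1, Int.negSucc 0, Int.ofNat 1, Int.negSucc 0, Int.negSucc 0, Int.ofNat 1, Int.ofNat 1, Int.negSucc 0, Int.negSucc 0, Int.ofNat 1, Int.ofNat 1, Int.ofNat 1, Int.ofNat 1, Int.ofNat 1, Int.ofNat 1, Int.negSucc 0, Int.negSucc 0, Int.negSucc 0, Int.negSucc 0, Int.negSucc 0, Int.negSucc 0],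
  [Int.negSucc 0, Int.ofNat 1, Int.ofNat 1, Int.negSucc 0, Int.negSucc 0, Int.negSucc 0, Int.ofNat 1, Int.ofNat 1, Int.ofNat 1, Int.ofNat 1, Int.negSucc 0, Int.negSucc 0, Int.ofNat 1, Int.ofNat 1, Int.negSucc 0, Int.ofNat 1, Int.ofNat 1, Int.negSucc 0, Int.negSucc 0, Int.ofNat 1, Int.negSucc 0, Int.ofNat 1, Int.negSucc 0, Int.ofNat 3],
  [Int.negSucc 0, Int.negSucc 0, Int.negSucc 0, Int.ofNat 1, Int.ofNat 1, Int.ofNat 1, Int.ofNat 1, Int.negSucc 0, Int.negSucc 0, Int.ofNat 1, Int.ofNat 1, Int.negSucc 0, Int.ofNat 1, Int.ofNat 1, Int.negSucc 0, Int.negSucc 0, Int.ofNat 1, Int.negSucc 0, Int.ofNat 1, Int.negSucc 0, Int.negSucc 0, Int.ofNat 1, Int.ofNat 1, Int.ofNat 3],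
  [Int.ofNat 1, Int.ofNat 1, Int.ofNat 1, Int.ofNat 1, Int.negSucc 0, Int.ofNat 1, Int.ofNat 1, Int.negSucc 0, Int.negSucc 0, Int.ofNat 1, Int.ofNat 1, Int.negSucc 0, Int.ofNat 1, Int.negSucc 0, Int.negSucc 0, Int.negSucc 0, Int.negSucc 0, Int.negSucc 0, Int.ofNat 1, Int.negSucc 0, Int.negSucc 0, Int.ofNat 1, Int.negSucc 0, Int.negSucc 2],
  [Int.ofNat 1, Int.ofNat 1, Int.negSucc 0, Int.ofNat 1, Int.ofNat 1, Int.negSucc 0, Int.ofNat 1, Int.ofNat 1, Int.ofNat 1, Int.negSucc 0, Int.negSucc 0, Int.negSucc 0, Int.ofNat 1, Int.negSucc 0, Int.negSucc 0, Int.negSucc 0, Int.negSucc 0, Int.negSucc 0, Int.ofNat 1, Int.negSucc 0, Int.ofNat 1, Int.ofNat 1, Int.negSucc 0, Int.negSucc 2],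
  [Int.negSucc 1, Int.negSucc 1, Int.ofNat 0, Int.ofNat 2, Int.ofNat 2, Int.ofNat 0, Int.ofNat 0, Int.ofNat 0, Int.ofNat 0, Int.ofNat 0, Int.ofNat 0, Int.negSucc 1, Int.ofNat 0, Int.ofNat 0, Int.ofNat 0, Int.ofNat 0, Int.ofNat 0, Int.ofNat 0, Int.ofNat 0, Int.negSucc 1, Int.ofNat 2, Int.ofNat 0, Int.ofNat 0, Int.ofNat 2],
  [Int.negSucc 1, Int.negSucc 1, Int.ofNat 0, Int.ofNat 2, Int.ofNat 2, Int.ofNat 0, Int.ofNat 0, Int.ofNat 0, Int.ofNat 0, Int.ofNat 0, Int.ofNat 0, Int.negSucc 1, Int.ofNat 0, Int.ofNat 0, Int.ofNat 0, Int.ofNat 0, Int.ofNat 0, Int.ofNat 0, Int.ofNat 0, Int.negSucc 1, Int.ofNat 2, Int.ofNat 0, Int.ofNat 0, Int.ofNat 2],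
  [Int.ofNat 0, Int.ofNat 2, Int.ofNat 2, Int.ofNat 0, Int.ofNat 0, Int.ofNat 0, Int.negSucc 1, Int.ofNat 0, Int.ofNat 0, Int.ofNat 0, Int.ofNat 0, Int.ofNat 2, Int.ofNat 0, Int.negSucc 1, Int.ofNat 0, Int.ofNat 0, Int.ofNat 0, Int.negSucc 1, Int.ofNat 0, Int.ofNat 0, Int.negSucc 1, Int.ofNat 0, Int.ofNat 0, Int.ofNat 2],
  [Int.ofNat 0, Int.ofNat 2, Int.negSucc 1, Int.ofNat 0, Int.ofNat 0, Int.ofNat 0, Int.ofNat 2, Int.ofNat 0, Int.ofNat 0, Int.ofNat 0, Int.ofNat 0, Int.ofNat 2, Int.ofNat 0, Int.negSucc 1, Int.ofNat 0, Int.ofNat 0, Int.ofNat 0, Int.negSucc 1, Int.ofNat 0, Int.ofNat 0, Int.negSucc 1, Int.ofNat 0, Int.ofNat 0, Int.ofNat 2],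
  [Int.ofNat 1, Int.negSucc 0, Int.ofNat 3, Int.ofNat 1, Int.ofNat 1, Int.ofNat 1, Int.ofNat 1, Int.negSucc 0, Int.negSucc 0, Int.ofNat 1, Int.ofNat 1, Int.ofNat 1, Int.negSucc 0, Int.negSucc 0, Int.ofNat 1, Int.ofNat 1, Int.ofNat 1, Int.negSucc 0, Int.negSucc 0, Int.negSucc 0, Int.negSucc 0, Int.negSucc 0, Int.ofNat 1, Int.negSucc 0],
  [Int.ofNat 1, Int.negSucc 0, Int.ofNat 1, Int.ofNat 1, Int.ofNat 3, Int.negSucc 0, Int.negSucc 0, Int.ofNat 1, Int.ofNat 1, Int.negSucc 0, Int.negSucc 0, Int.negSucc 0, Int.negSucc 0, Int.ofNat 1, Int.negSucc 0, Int.ofNat 1, Int.negSucc 0, Int.ofNat 1, Int.ofNat 1, Int.ofNat 1, Int.ofNat 1, Int.negSucc 0, Int.ofNat 1, Int.negSucc 0],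
  [Int.negSucc 0, Int.ofNat 1, Int.negSucc 0, Int.ofNat 1, Int.ofNat 1, Int.negSucc 0, Int.negSucc 0, Int.ofNat 1, Int.ofNat 1, Int.negSucc 0, Int.negSucc 0, Int.negSucc 0, Int.negSucc 0, Int.negSucc 0, Int.negSucc 0, Int.ofNat 1, Int.negSucc 2, Int.ofNat 1, Int.ofNat 1, Int.ofNat 1, Int.ofNat 1, Int.negSucc 0, Int.negSucc 0, Int.ofNat 1],
  [Int.ofNat 1, Int.negSucc 0, Int.negSucc 0, Int.negSucc 0, Int.ofNat 1, Int.negSucc 0, Int.ofNat 1, Int.ofNat 1, Int.negSucc 0, Int.negSucc 0, Int.ofNat 1, Int.ofNat 1, Int.negSucc 0, Int.negSucc 0, Int.negSucc 0, Int.negSucc 0, Int.negSucc 0, Int.negSucc 0, Int.ofNat 1, Int.negSucc 2, Int.ofNat 1, Int.ofNat 1, Int.ofNat 1, Int.ofNat 1],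
  [Int.negSucc 0, Int.ofNat 1, Int.ofNat 1, Int.ofNat 1, Int.ofNat 1, Int.ofNat 1, Int.ofNat 1, Int.ofNat 1, Int.negSucc 0, Int.negSucc 0, Int.ofNat 1, Int.ofNat 1, Int.negSucc 0, Int.negSucc 0, Int.ofNat 1, Int.negSucc 0, Int.negSucc 0, Int.ofNat 1, Int.ofNat 1, Int.negSucc 2, Int.ofNat 1, Int.ofNat 1, Int.ofNat 1, Int.negSucc 0],
  [Int.ofNat 1, Int.ofNat 1, Int.ofNat 1, Int.ofNat 1, Int.ofNat 1, Int.ofNat 1, Int.ofNat 1, Int.negSucc 0, Int.negSucc 0, Int.ofNat 1, Int.ofNat 1, Int.negSucc 0, Int.negSucc 0, Int.ofNat 1, Int.negSucc 0, Int.negSucc 0, Int.ofNat 1, Int.ofNat 1, Int.negSucc 2, Int.ofNat 1, Int.ofNat 1, Int.ofNat 1, Int.negSucc 0, Int.negSucc 0],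
  [Int.negSucc 0, Int.ofNat 1, Int.negSucc 0, Int.ofNat 1, Int.ofNat 1, Int.ofNat 1, Int.ofNat 1, Int.ofNat 1, Int.negSucc 0, Int.negSucc 0, Int.negSucc 0, Int.ofNat 1, Int.negSucc 0, Int.ofNat 1, Int.negSucc 0, Int.negSucc 0, Int.ofNat 1, Int.ofNat 1, Int.ofNat 3, Int.ofNat 1, Int.ofNat 1, Int.negSucc 0, Int.negSucc 0, Int.negSucc 0],
  [Int.negSucc 0, Int.negSucc 0, Int.ofNat 1, Int.negSucc 0, Int.ofNat 1, Int.negSucc 0, Int.ofNat 1, Int.ofNat 1, Int.ofNat 1, Int.ofNat 1, Int.ofNat 1, Int.negSucc 0, Int.negSucc 0, Int.ofNat 1, Int.ofNat 3, Int.ofNat 1, Int.negSucc 0, Int.ofNat 1, Int.negSucc 0, Int.ofNat 1, Int.negSucc 0, Int.negSucc 0, Int.ofNat 1, Int.negSucc 0],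
  [Int.ofNat 1, Int.negSucc 0, Int.negSucc 0, Int.negSucc 0, Int.ofNat 1, Int.negSucc 0, Int.ofNat 1, Int.negSucc 0, Int.ofNat 1, Int.negSucc 0, Int.negSucc 0, Int.ofNat 1, Int.negSucc 0, Int.ofNat 1, Int.ofNat 3, Int.ofNat 1, Int.negSucc 0, Int.ofNat 1, Int.ofNat 1, Int.ofNat 1, Int.negSucc 0, Int.ofNat 1, Int.ofNat 1, Int.negSucc 0],
  [Int.ofNat 1, Int.ofNat 1, Int.negSucc 0, Int.negSucc 0, Int.negSucc 0, Int.ofNat 1, Int.negSucc 0, Int.ofNat 1, Int.negSucc 0, Int.ofNat 1, Int.negSucc 0, Int.negSucc 0, Int.ofNat 1, Int.negSucc 0, Int.ofNat 1, Int.ofNat 3, Int.ofNat 1, Int.negSucc 0, Int.ofNat 1, Int.ofNat 1, Int.ofNat 1, Int.negSucc 0, Int.ofNat 1, Int.negSucc 0],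
  [Int.negSucc 0, Int.negSucc 0, Int.ofNat 1, Int.negSucc 0, Int.negSucc 0, Int.ofNat 1, Int.negSucc 0, Int.ofNat 1, Int.negSucc 0, Int.negSucc 0, Int.negSucc 2, Int.negSucc 0, Int.ofNat 1, Int.negSucc 0, Int.ofNat 1, Int.ofNat 1, Int.ofNat 1, Int.negSucc 0, Int.ofNat 1, Int.ofNat 1, Int.negSucc 0, Int.negSucc 0, Int.ofNat 1, Int.ofNat 1],
  [Int.negSucc 0, Int.negSucc 0, Int.ofNat 1, Int.negSucc 0, Int.ofNat 1, Int.negSucc 0, Int.negSucc 0, Int.negSucc 2, Int.negSucc 0, Int.ofNat 1, Int.negSucc 0, Int.ofNat 1, Int.ofNat 1, Int.ofNat 1, Int.negSucc 0, Int.ofNat 1, Int.ofNat 1, Int.negSucc 0, Int.negSucc 0, Int.ofNat 1, Int.negSucc 0, Int.negSucc 0, Int.ofNat 1, Int.ofNat 1],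
  [Int.ofNat 1, Int.ofNat 1, Int.negSucc 0, Int.ofNat 1, Int.negSucc 0, Int.ofNat 1, Int.ofNat 1, Int.negSucc 0, Int.negSucc 0, Int.ofNat 1, Int.negSucc 0, Int.ofNat 1, Int.ofNat 1, Int.negSucc 0, Int.ofNat 1, Int.ofNat 1, Int.negSucc 0, Int.ofNat 1, Int.negSucc 0, Int.ofNat 3, Int.negSucc 0, Int.ofNat 1, Int.negSucc 0, Int.negSucc 0],
  [Int.ofNat 1, Int.ofNat 1, Int.negSucc 0, Int.ofNat 1, Int.negSucc 0, Int.negSucc 0, Int.negSucc 0, Int.negSucc 0, Int.ofNat 1, Int.negSucc 0, Int.negSucc 0, Int.ofNat 1, Int.ofNat 1, Int.negSucc 0, Int.negSucc 0, Int.ofNat 1, Int.negSucc 0, Int.ofNat 1, Int.ofNat 1, Int.ofNat 1, Int.ofNat 1, Int.ofNat 1, Int.ofNat 3, Int.negSucc 0],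
  [Int.negSucc 0, Int.negSucc 0, Int.ofNat 1, Int.ofNat 1, Int.negSucc 0, Int.negSucc 0, Int.negSucc 0, Int.negSucc 0, Int.negSucc 0, Int.negSucc 0, Int.negSucc 0, Int.negSucc 0, Int.negSucc 0, Int.negSucc 0, Int.negSucc 0, Int.ofNat 1, Int.negSucc 0, Int.ofNat 1, Int.negSucc 0, Int.ofNat 1, Int.ofNat 1, Int.ofNat 1, Int.ofNat 3, Int.ofNat 1],
  [Int.negSucc 0, Int.negSucc 0, Int.negSucc 0, Int.ofNat 1, Int.negSucc 0, Int.ofNat 1, Int.ofNat 1, Int.negSucc 0, Int.negSucc 0, Int.ofNat 1, Int.ofNat 1, Int.negSucc 0, Int.negSucc 0, Int.negSucc 0, Int.negSucc 0, Int.negSucc 0, Int.negSucc 0, Int.ofNat 1, Int.ofNat 1, Int.ofNat 1, Int.ofNat 1, Int.ofNat 1, Int.negSucc 2, Int.ofNat 1],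
  [Int.ofNat 1, Int.ofNat 1, Int.ofNat 1, Int.ofNat 1, Int.negSucc 0, Int.negSucc 0, Int.ofNat 1, Int.negSucc 2, Int.ofNat 1, Int.ofNat 1, Int.negSucc 0, Int.negSucc 0, Int.ofNat 1, Int.negSucc 0, Int.ofNat 1, Int.ofNat 1, Int.negSucc 0, Int.negSucc 0, Int.negSucc 0, Int.negSucc 0, Int.negSucc 0, Int.negSucc 0, Int.negSucc 0, Int.ofNat 1],
  [Int.ofNat 1, Int.ofNat 1, Int.negSucc 0, Int.ofNat 1, Int.negSucc 0, Int.ofNat 1, Int.negSucc 0, Int.negSucc 2, Int.ofNat 1, Int.negSucc 0, Int.ofNat 1, Int.negSucc 0, Int.ofNat 1, Int.negSucc 0, Int.ofNat 1, Int.negSucc 0, Int.negSucc 0, Int.negSucc 0, Int.ofNat 1, Int.negSucc 0, Int.negSucc 0, Int.negSucc 0, Int.ofNat 1, Int.ofNat 1],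
  [Int.ofNat 0, Int.ofNat 0, Int.ofNat 2, Int.ofNat 0, Int.ofNat 0, Int.ofNat 0, Int.ofNat 2, Int.ofNat 0, Int.ofNat 0, Int.ofNat 0, Int.ofNat 2, Int.negSucc 1, Int.ofNat 0, Int.ofNat 0, Int.ofNat 0, Int.ofNat 0, Int.ofNat 0, Int.negSucc 1, Int.ofNat 0, Int.ofNat 2, Int.ofNat 0, Int.ofNat 2, Int.ofNat 2, Int.ofNat 0],
  [Int.ofNat 0, Int.ofNat 0, Int.ofNat 2, Int.ofNat 0, Int.ofNat 2, Int.ofNat 2, Int.ofNat 0, Int.ofNat 0, Int.ofNat 0, Int.ofNat 0, Int.ofNat 0, Int.ofNat 2, Int.ofNat 0, Int.ofNat 0, Int.negSucc 1, Int.ofNat 0, Int.ofNat 0, Int.negSucc 1, Int.ofNat 0, Int.ofNat 2, Int.ofNat 2, Int.ofNat 0, Int.ofNat 0, Int.ofNat 0],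
  [Int.ofNat 1, Int.ofNat 1, Int.negSucc 0, Int.ofNat 1, Int.ofNat 1, Int.ofNat 3, Int.negSucc 0, Int.negSucc 0, Int.negSucc 0, Int.negSucc 0, Int.negSucc 0, Int.ofNat 1, Int.negSucc 0, Int.negSucc 0, Int.negSucc 0, Int.negSucc 0, Int.negSucc 0, Int.negSucc 0, Int.negSucc 0, Int.ofNat 1, Int.ofNat 1, Int.negSucc 0, Int.negSucc 0, Int.ofNat 1],
  [Int.ofNat 1, Int.negSucc 0, Int.negSucc 0, Int.ofNat 1, Int.ofNat 1, Int.negSucc 0, Int.ofNat 1, Int.ofNat 1, Int.ofNat 3, Int.negSucc 0, Int.negSucc 0, Int.negSucc 0, Int.negSucc 0, Int.negSucc 0, Int.ofNat 1, Int.negSucc 0, Int.negSucc 0, Int.negSucc 0, Int.negSucc 0, Int.negSucc 0, Int.negSucc 0, Int.negSucc 0, Int.ofNat 1, Int.ofNat 1],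
  [Int.negSucc 0, Int.ofNat 1, Int.ofNat 1, Int.ofNat 1, Int.ofNat 1, Int.negSucc 0, Int.ofNat 1, Int.ofNat 1, Int.ofNat 3, Int.ofNat 1, Int.ofNat 1, Int.negSucc 0, Int.negSucc 0, Int.negSucc 0, Int.ofNat 1, Int.ofNat 1, Int.negSucc 0, Int.negSucc 0, Int.negSucc 0, Int.negSucc 0, Int.ofNat 1, Int.negSucc 0, Int.ofNat 1, Int.negSucc 0],
  [Int.ofNat 1, Int.ofNat 1, Int.ofNat 1, Int.ofNat 1, Int.negSucc 0, Int.ofNat 1, Int.ofNat 1, Int.ofNat 3, Int.ofNat 1, Int.ofNat 1, Int.negSucc 0, Int.negSucc 0, Int.negSucc 0, Int.ofNat 1, Int.ofNat 1, Int.negSucc 0, Int.negSucc 0, Int.negSucc 0, Int.negSucc 0, Int.ofNat 1, Int.negSucc 0, Int.ofNat 1, Int.negSucc 0, Int.negSucc 0],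
  [Int.negSucc 0, Int.ofNat 1, Int.negSucc 0, Int.ofNat 1, Int.negSucc 0, Int.ofNat 1, Int.ofNat 1, Int.negSucc 2, Int.ofNat 1, Int.negSucc 0, Int.ofNat 1, Int.ofNat 1, Int.negSucc 0, Int.ofNat 1, Int.ofNat 1, Int.negSucc 0, Int.negSucc 0, Int.negSucc 0, Int.ofNat 1, Int.ofNat 1, Int.negSucc 0, Int.negSucc 0, Int.negSucc 0, Int.negSucc 0],
  [Int.negSucc 0, Int.negSucc 0, Int.ofNat 1, Int.negSucc 0, Int.negSucc 0, Int.negSucc 0, Int.ofNat 1, Int.ofNat 1, Int.negSucc 0, Int.ofNat 1, Int.negSucc 0, Int.negSucc 0, Int.negSucc 0, Int.negSucc 2, Int.ofNat 1, Int.ofNat 1, Int.ofNat 1, Int.negSucc 0, Int.ofNat 1, Int.ofNat 1, Int.ofNat 1, Int.negSucc 0, Int.ofNat 1, Int.negSucc 0],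
  [Int.ofNat 1, Int.negSucc 0, Int.negSucc 0, Int.negSucc 0, Int.negSucc 0, Int.negSucc 0, Int.ofNat 1, Int.negSucc 0, Int.negSucc 0, Int.negSucc 0, Int.ofNat 1, Int.ofNat 1, Int.negSucc 0, Int.negSucc 2, Int.ofNat 1, Int.ofNat 1, Int.ofNat 1, Int.negSucc 0, Int.negSucc 0, Int.ofNat 1, Int.ofNat 1, Int.ofNat 1, Int.ofNat 1, Int.negSucc 0],
  [Int.ofNat 1, Int.ofNat 1, Int.negSucc 0, Int.negSucc 0, Int.negSucc 0, Int.negSucc 0, Int.negSucc 0, Int.ofNat 1, Int.negSucc 0, Int.negSucc 0, Int.negSucc 0, Int.ofNat 1, Int.ofNat 1, Int.negSucc 0, Int.negSucc 2, Int.ofNat 1, Int.ofNat 1, Int.ofNat 1, Int.negSucc 0, Int.negSucc 0, Int.ofNat 1, Int.ofNat 1, Int.ofNat 1, Int.negSucc 0],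
  [Int.negSucc 0, Int.negSucc 0, Int.ofNat 1, Int.ofNat 1, Int.negSucc 0, Int.ofNat 1, Int.negSucc 0, Int.ofNat 1, Int.negSucc 0, Int.negSucc 0, Int.negSucc 0, Int.ofNat 1, Int.ofNat 1, Int.negSucc 0, Int.negSucc 0, Int.ofNat 1, Int.ofNat 1, Int.ofNat 3, Int.negSucc 0, Int.negSucc 0, Int.ofNat 1, Int.ofNat 1, Int.ofNat 1, Int.ofNat 1],
  [Int.ofNat 1, Int.negSucc 0, Int.ofNat 1, Int.negSucc 0, Int.ofNat 1, Int.negSucc 0, Int.negSucc 0, Int.negSucc 0, Int.ofNat 1, Int.ofNat 1, Int.negSucc 0, Int.negSucc 0, Int.ofNat 1, Int.ofNat 1, Int.ofNat 3, Int.negSucc 0, Int.negSucc 0, Int.ofNat 1, Int.ofNat 1, Int.ofNat 1, Int.negSucc 0, Int.negSucc 0, Int.ofNat 1, Int.ofNat 1],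
  [Int.ofNat 0, Int.ofNat 2, Int.ofNat 0, Int.negSucc 1, Int.ofNat 0, Int.negSucc 1, Int.ofNat 0, Int.ofNat 0, Int.ofNat 0, Int.ofNat 2, Int.ofNat 0, Int.negSucc 1, Int.ofNat 0, Int.ofNat 0, Int.ofNat 2, Int.ofNat 0, Int.negSucc 1, Int.ofNat 0, Int.ofNat 0, Int.ofNat 2, Int.ofNat 0, Int.ofNat 0, Int.ofNat 0, Int.ofNat 0],
  [Int.ofNat 0, Int.ofNat 0, Int.ofNat 0, Int.negSucc 1, Int.ofNat 0, Int.ofNat 0, Int.ofNat 0, Int.ofNat 0, Int.ofNat 0, Int.ofNat 0, Int.ofNat 0, Int.ofNat 0, Int.ofNat 2, Int.negSucc 1, Int.ofNat 0, Int.ofNat 0, Int.ofNat 0, Int.ofNat 2, Int.ofNat 2, Int.negSucc 1, Int.ofNat 0, Int.negSucc 1, Int.ofNat 2, Int.ofNat 0],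
  [Int.ofNat 0, Int.ofNat 0, Int.ofNat 0, Int.negSucc 1, Int.ofNat 0, Int.ofNat 0, Int.ofNat 2, Int.ofNat 2, Int.negSucc 1, Int.ofNat 0, Int.ofNat 0, Int.negSucc 1, Int.ofNat 0, Int.negSucc 1, Int.ofNat 0, Int.ofNat 0, Int.ofNat 0, Int.ofNat 2, Int.ofNat 0, Int.ofNat 0, Int.ofNat 0, Int.ofNat 0, Int.ofNat 2, Int.ofNat 0],
  [Int.ofNat 0, Int.ofNat 0, Int.ofNat 0, Int.negSucc 1, Int.ofNat 0, Int.ofNat 0, Int.negSucc 1, Int.ofNat 2, Int.negSucc 1, Int.ofNat 0, Int.ofNat 0, Int.negSucc 1, Int.ofNat 0, Int.negSucc 1, Int.ofNat 0, Int.ofNat 0, Int.ofNat 0, Int.ofNat 2, Int.ofNat 0, Int.ofNat 0, Int.ofNat 0, Int.ofNat 0, Int.negSucc 1, Int.ofNat 0],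
  [Int.ofNat 0, Int.ofNat 0, Int.negSucc 1, Int.ofNat 0, Int.ofNat 0, Int.ofNat 0, Int.ofNat 0, Int.negSucc 1, Int.ofNat 2, Int.ofNat 0, Int.ofNat 2, Int.ofNat 0, Int.negSucc 1, Int.ofNat 0, Int.ofNat 0, Int.ofNat 0, Int.ofNat 0, Int.negSucc 1, Int.negSucc 1, Int.ofNat 0, Int.ofNat 0, Int.ofNat 0, Int.negSucc 1, Int.ofNat 0],
  [Int.ofNat 0, Int.ofNat 0, Int.ofNat 2, Int.ofNat 0, Int.ofNat 0, Int.ofNat 0, Int.ofNat 0, Int.negSucc 1, Int.ofNat 2, Int.ofNat 0, Int.negSucc 1, Int.ofNat 0, Int.negSucc 1, Int.ofNat 0, Int.ofNat 0, Int.ofNat 0, Int.ofNat 0, Int.negSucc 1, Int.ofNat 2, Int.ofNat 0, Int.ofNat 0, Int.ofNat 0, Int.ofNat 2, Int.ofNat 0],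
  [Int.ofNat 1, Int.ofNat 1, Int.negSucc 0, Int.ofNat 1, Int.negSucc 0, Int.ofNat 1, Int.ofNat 1, Int.negSucc 0, Int.ofNat 1, Int.ofNat 1, Int.negSucc 0, Int.negSucc 0, Int.negSucc 2, Int.negSucc 0, Int.ofNat 1, Int.ofNat 1, Int.negSucc 0, Int.negSucc 0, Int.ofNat 1, Int.ofNat 1, Int.ofNat 1, Int.ofNat 1, Int.ofNat 1, Int.ofNat 1],
  [Int.ofNat 1, Int.ofNat 1, Int.ofNat 1, Int.ofNat 1, Int.negSucc 0, Int.ofNat 1, Int.ofNat 1, Int.ofNat 1, Int.negSucc 0, Int.negSucc 2, Int.negSucc 0, Int.ofNat 1, Int.ofNat 1, Int.ofNat 1, Int.negSucc 0, Int.ofNat 1, Int.negSucc 0, Int.negSucc 0, Int.negSucc 0, Int.ofNat 1, Int.negSucc 0, Int.ofNat 1, Int.ofNat 1, Int.ofNat 1],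
  [Int.ofNat 1, Int.ofNat 1, Int.ofNat 1, Int.ofNat 1, Int.negSucc 0, Int.ofNat 1, Int.negSucc 0, Int.negSucc 0, Int.negSucc 0, Int.negSucc 0, Int.ofNat 1, Int.ofNat 1, Int.ofNat 1, Int.ofNat 1, Int.negSucc 0, Int.ofNat 3, Int.negSucc 0, Int.negSucc 0, Int.negSucc 0, Int.negSucc 0, Int.ofNat 1, Int.negSucc 0, Int.ofNat 1, Int.ofNat 1],
  [Int.ofNat 1, Int.negSucc 0, Int.ofNat 1, Int.ofNat 1, Int.ofNat 1, Int.ofNat 1, Int.ofNat 1, Int.negSucc 0, Int.ofNat 1, Int.negSucc 0, Int.negSucc 0, Int.negSucc 0, Int.negSucc 0, Int.ofNat 1, Int.ofNat 1, Int.ofNat 1, Int.ofNat 1, Int.negSucc 0, Int.ofNat 3, Int.negSucc 0, Int.negSucc 0, Int.negSucc 0, Int.negSucc 0, Int.ofNat 1],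
  [Int.ofNat 0, Int.ofNat 2, Int.ofNat 0, Int.ofNat 0, Int.ofNat 0, Int.ofNat 0, Int.ofNat 2, Int.ofNat 0, Int.ofNat 0, Int.ofNat 0, Int.ofNat 0, Int.negSucc 1, Int.negSucc 1, Int.ofNat 0, Int.ofNat 0, Int.ofNat 2, Int.ofNat 0, Int.negSucc 1, Int.ofNat 2, Int.ofNat 0, Int.ofNat 0, Int.ofNat 0, Int.negSucc 1, Int.ofNat 0],
  [Int.ofNat 2, Int.ofNat 0, Int.ofNat 0, Int.ofNat 0, Int.ofNat 0, Int.ofNat 2, Int.ofNat 0, Int.ofNat 0, Int.ofNat 0, Int.ofNat 0, Int.negSucc 1, Int.negSucc 1, Int.ofNat 0, Int.ofNat 0, Int.ofNat 2, Int.ofNat 0, Int.negSucc 1, Int.ofNat 2, Int.ofNat 0, Int.ofNat 0, Int.ofNat 0, Int.negSucc 1, Int.ofNat 0, Int.ofNat 0],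
  [Int.negSucc 1, Int.ofNat 0, Int.ofNat 0, Int.ofNat 0, Int.ofNat 0, Int.ofNat 2, Int.ofNat 0, Int.ofNat 0, Int.ofNat 0, Int.ofNat 0, Int.ofNat 2, Int.ofNat 2, Int.ofNat 0, Int.ofNat 0, Int.ofNat 2, Int.ofNat 0, Int.negSucc 1, Int.ofNat 2, Int.ofNat 0, Int.ofNat 0, Int.ofNat 0, Int.ofNat 2, Int.ofNat 0, Int.ofNat 0],
  [Int.ofNat 0, Int.ofNat 0, Int.ofNat 2, Int.ofNat 0, Int.ofNat 2, Int.ofNat 0, Int.ofNat 0, Int.ofNat 0, Int.ofNat 0, Int.ofNat 2, Int.negSucc 1, Int.ofNat 0, Int.ofNat 2, Int.ofNat 0, Int.ofNat 0, Int.ofNat 0, Int.ofNat 2, Int.ofNat 0, Int.ofNat 2, Int.ofNat 0, Int.ofNat 0, Int.ofNat 0, Int.ofNat 0, Int.negSucc 1],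
  [Int.ofNat 0, Int.ofNat 0, Int.negSucc 1, Int.ofNat 0, Int.ofNat 2, Int.ofNat 0, Int.ofNat 0, Int.ofNat 0, Int.ofNat 0, Int.negSucc 1, Int.ofNat 2, Int.ofNat 0, Int.ofNat 2, Int.ofNat 0, Int.ofNat 0, Int.ofNat 0, Int.ofNat 2, Int.ofNat 0, Int.negSucc 1, Int.ofNat 0, Int.ofNat 0, Int.ofNat 0, Int.ofNat 0, Int.negSucc 1],
  [Int.ofNat 0, Int.ofNat 0, Int.ofNat 0, Int.negSucc 1, Int.ofNat 0, Int.ofNat 2, Int.ofNat 0, Int.ofNat 0, Int.ofNat 0, Int.ofNat 0, Int.negSucc 1, Int.ofNat 2, Int.ofNat 0, Int.ofNat 2, Int.ofNat 0, Int.ofNat 0, Int.ofNat 0, Int.ofNat 2, Int.ofNat 0, Int.negSucc 1, Int.ofNat 0, Int.ofNat 0, Int.ofNat 0, Int.negSucc 1],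
  [Int.negSucc 0, Int.negSucc 0, Int.negSucc 0, Int.negSucc 2, Int.negSucc 0, Int.ofNat 1, Int.ofNat 1, Int.ofNat 1, Int.negSucc 0, Int.ofNat 1, Int.negSucc 0, Int.ofNat 1, Int.negSucc 0, Int.ofNat 1, Int.negSucc 0, Int.ofNat 1, Int.negSucc 0, Int.ofNat 1, Int.negSucc 0, Int.negSucc 0, Int.ofNat 1, Int.ofNat 1, Int.negSucc 0, Int.ofNat 1],
  [Int.negSucc 2, Int.negSucc 0, Int.ofNat 1, Int.ofNat 1, Int.ofNat 1, Int.negSucc 0, Int.ofNat 1, Int.negSucc 0, Int.ofNat 1, Int.negSucc 0, Int.ofNat 1, Int.negSucc 0, Int.ofNat 1, Int.negSucc 0, Int.ofNat 1, Int.negSucc 0, Int.negSucc 0, Int.ofNat 1, Int.ofNat 1, Int.negSucc 0, Int.negSucc 0, Int.negSucc 0, Int.negSucc 0, Int.ofNat 1],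
  [Int.ofNat 2, Int.ofNat 0, Int.negSucc 1, Int.ofNat 0, Int.ofNat 2, Int.negSucc 1, Int.ofNat 2, Int.ofNat 0, Int.ofNat 0, Int.ofNat 0, Int.ofNat 2, Int.negSucc 1, Int.ofNat 0, Int.ofNat 0, Int.ofNat 0, Int.ofNat 0, Int.ofNat 0, Int.ofNat 0, Int.ofNat 0, Int.ofNat 0, Int.ofNat 0, Int.ofNat 0, Int.ofNat 0, Int.negSucc 1],
  [Int.ofNat 2, Int.ofNat 2, Int.ofNat 2, Int.ofNat 0, Int.ofNat 0, Int.ofNat 0, Int.negSucc 1, Int.ofNat 2, Int.ofNat 0, Int.ofNat 0, Int.ofNat 0, Int.ofNat 0, Int.ofNat 0, Int.ofNat 0, Int.ofNat 0, Int.ofNat 0, Int.ofNat 0, Int.ofNat 0, Int.ofNat 0, Int.negSucc 1, Int.ofNat 0, Int.negSucc 1, Int.ofNat 0, Int.negSucc 1],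
  [Int.ofNat 0, Int.ofNat 0, Int.ofNat 0, Int.ofNat 0, Int.ofNat 0, Int.ofNat 0, Int.ofNat 0, Int.ofNat 4, Int.ofNat 0, Int.ofNat 0, Int.ofNat 0, Int.ofNat 0, Int.ofNat 0, Int.ofNat 0, Int.ofNat 0, Int.ofNat 0, Int.ofNat 0, Int.ofNat 0, Int.ofNat 0, Int.ofNat 0, Int.ofNat 0, Int.ofNat 0, Int.ofNat 0, Int.ofNat 4],
  [Int.ofNat 0, Int.ofNat 0, Int.ofNat 0, Int.ofNat 0, Int.ofNat 0, Int.ofNat 0, Int.ofNat 0, Int.ofNat 4, Int.ofNat 0, Int.ofNat 0, Int.ofNat 0, Int.ofNat 0, Int.ofNat 0, Int.ofNat 0, Int.ofNat 0, Int.ofNat 0, Int.ofNat 0, Int.ofNat 0, Int.ofNat 0, Int.ofNat 0, Int.ofNat 0, Int.ofNat 0, Int.ofNat 0, Int.ofNat 4],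
  [Int.ofNat 0, Int.ofNat 0, Int.ofNat 0, Int.ofNat 0, Int.ofNat 0, Int.ofNat 0, Int.ofNat 0, Int.ofNat 0, Int.ofNat 0, Int.ofNat 0, Int.ofNat 4, Int.ofNat 0, Int.ofNat 0, Int.ofNat 0, Int.ofNat 0, Int.ofNat 0, Int.ofNat 0, Int.ofNat 0, Int.ofNat 0, Int.ofNat 0, Int.ofNat 0, Int.ofNat 0, Int.ofNat 0, Int.ofNat 4],
  [Int.ofNat 0, Int.ofNat 0, Int.ofNat 0, Int.ofNat 0, Int.ofNat 0, Int.ofNat 0, Int.ofNat 0, Int.ofNat 0, Int.ofNat 0, Int.ofNat 0, Int.negSucc 3, Int.ofNat 0, Int.ofNat 0, Int.ofNat 0, Int.ofNat 0, Int.ofNat 0, Int.ofNat 0, Int.ofNat 0, Int.ofNat 0, Int.ofNat 0, Int.ofNat 0, Int.ofNat 0, Int.ofNat 0, Int.ofNat 4],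
  [Int.ofNat 2, Int.ofNat 2, Int.ofNat 2, Int.ofNat 0, Int.ofNat 0, Int.ofNat 0, Int.ofNat 0, Int.ofNat 0, Int.ofNat 0, Int.ofNat 2, Int.negSucc 1, Int.ofNat 0, Int.ofNat 0, Int.ofNat 0, Int.ofNat 0, Int.ofNat 2, Int.ofNat 0, Int.ofNat 0, Int.ofNat 0, Int.ofNat 0, Int.ofNat 2, Int.ofNat 0, Int.ofNat 0, Int.negSucc 1],
  [Int.ofNat 2, Int.ofNat 0, Int.ofNat 0, Int.ofNat 0, Int.ofNat 2, Int.ofNat 0, Int.ofNat 2, Int.ofNat 0, Int.ofNat 0, Int.ofNat 0, Int.ofNat 0, Int.ofNat 0, Int.ofNat 0, Int.ofNat 2, Int.ofNat 0, Int.ofNat 2, Int.ofNat 0, Int.ofNat 0, Int.ofNat 0, Int.ofNat 0, Int.negSucc 1, Int.ofNat 2, Int.ofNat 0, Int.negSucc 1],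
  [Int.negSucc 1, Int.ofNat 0, Int.ofNat 0, Int.ofNat 0, Int.ofNat 0, Int.ofNat 0, Int.ofNat 0, Int.negSucc 1, Int.ofNat 0, Int.ofNat 0, Int.ofNat 0, Int.ofNat 0, Int.ofNat 0, Int.ofNat 0, Int.ofNat 0, Int.ofNat 2, Int.negSucc 1, Int.ofNat 0, Int.ofNat 0, Int.negSucc 1, Int.negSucc 1, Int.ofNat 0, Int.negSucc 1, Int.ofNat 2],
  [Int.negSucc 1, Int.ofNat 0, Int.negSucc 1, Int.negSucc 1, Int.ofNat 0, Int.ofNat 0, Int.ofNat 0, Int.ofNat 0, Int.ofNat 0, Int.ofNat 0, Int.negSucc 1, Int.ofNat 0, Int.ofNat 0, Int.ofNat 0, Int.ofNat 0, Int.ofNat 0, Int.ofNat 0, Int.ofNat 0, Int.ofNat 2, Int.negSucc 1, Int.ofNat 0, Int.ofNat 0, Int.negSucc 1, Int.ofNat 2],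
  [Int.ofNat 1, Int.negSucc 0, Int.ofNat 1, Int.negSucc 0, Int.ofNat 1, Int.ofNat 1, Int.ofNat 1, Int.ofNat 1, Int.negSucc 0, Int.ofNat 1, Int.negSucc 0, Int.negSucc 0, Int.negSucc 0, Int.ofNat 1, Int.ofNat 1, Int.ofNat 1, Int.ofNat 1, Int.ofNat 1, Int.ofNat 1, Int.negSucc 0, Int.ofNat 1, Int.ofNat 1, Int.negSucc 0, Int.negSucc 2],
  [Int.negSucc 0, Int.ofNat 1, Int.negSucc 0, Int.ofNat 1, Int.ofNat 1, Int.ofNat 1, Int.ofNat 1, Int.negSucc 0, Int.ofNat 1, Int.negSucc 0, Int.negSucc 0, Int.negSucc 0, Int.ofNat 1, Int.ofNat 1, Int.ofNat 1, Int.ofNat 1, Int.ofNat 1, Int.ofNat 1, Int.negSucc 0, Int.ofNat 1, Int.ofNat 1, Int.negSucc 0, Int.ofNat 1, Int.negSucc 2],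
  [Int.ofNat 1, Int.ofNat 1, Int.ofNat 1, Int.ofNat 1, Int.ofNat 1, Int.ofNat 1, Int.ofNat 1, Int.ofNat 1, Int.ofNat 1, Int.ofNat 1, Int.ofNat 1, Int.ofNat 1, Int.ofNat 1, Int.ofNat 1, Int.ofNat 1, Int.ofNat 1, Int.ofNat 1, Int.ofNat 1, Int.ofNat 1, Int.ofNat 1, Int.ofNat 1, Int.ofNat 1, Int.ofNat 1, Int.negSucc 2]]

set_option maxRecDepth 100000 in
theorem r1_chk2 : cChk r1W w3L r1M2 w3L = true := by
  decide +kernel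

set_option maxRecDepth 100000 in
def r1M3 : List (List ℤ) :=
  [[Int.negSucc 1011, Int.ofNat 88, Int.ofNat 44, Int.ofNat 60, Int.ofNat 68, Int.ofNat 36, Int.ofNat 76, Int.ofNat 52, Int.ofNat 80, Int.ofNat 20, Int.ofNat 64, Int.ofNat 8, Int.ofNat 84, Int.ofNat 28, Int.ofNat 72, Int.ofNat 12, Int.ofNat 40, Int.ofNat 16, Int.ofNat 56, Int.ofNat 24, Int.ofNat 32, Int.ofNat 48, Int.ofNat 4, Int.ofNat 0],
  [Int.ofNat 1012, Int.ofNat 88, Int.negSucc 43, Int.ofNat 60, Int.ofNat 68, Int.ofNat 36, Int.ofNat 76, Int.negSucc 51, Int.ofNat 80, Int.negSucc 19, Int.negSucc 63, Int.negSucc 7, Int.ofNat 84, Int.ofNat 28, Int.ofNat 72, Int.ofNat 12, Int.ofNat 40, Int.ofNat 16, Int.negSucc 55, Int.ofNat 24, Int.ofNat 32, Int.negSucc 47, Int.ofNat 4, Int.ofNat 0],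
  [Int.ofNat 4, Int.ofNat 1012, Int.ofNat 88, Int.negSucc 43, Int.ofNat 60, Int.ofNat 68, Int.ofNat 36, Int.ofNat 76, Int.negSucc 51, Int.ofNat 80, Int.negSucc 19, Int.negSucc 63, Int.negSucc 7, Int.ofNat 84, Int.ofNat 28, Int.ofNat 72, Int.ofNat 12, Int.ofNat 40, Int.ofNat 16, Int.negSucc 55, Int.ofNat 24, Int.ofNat 32, Int.negSucc 47, Int.ofNat 0],
  [Int.ofNat 548, Int.negSucc 459, Int.ofNat 464, Int.negSucc 89, Int.ofNat 6, Int.ofNat 22, Int.negSucc 7, Int.ofNat 32, Int.ofNat 2, Int.ofNat 2, Int.negSucc 97, Int.negSucc 9, Int.ofNat 46, Int.ofNat 30, Int.negSucc 17, Int.negSucc 5, Int.negSucc 41, Int.negSucc 5, Int.ofNat 70, Int.negSucc 99, Int.negSucc 53, Int.negSucc 11, Int.negSucc 101, Int.ofNat 552],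
  [Int.negSucc 89, Int.ofNat 6, Int.ofNat 22, Int.negSucc 7, Int.ofNat 32, Int.ofNat 2, Int.ofNat 2, Int.negSucc 97, Int.negSucc 9, Int.ofNat 46, Int.ofNat 30, Int.negSucc 17, Int.negSucc 5, Int.negSucc 41, Int.negSucc 5, Int.ofNat 70, Int.negSucc 99, Int.negSucc 53, Int.negSucc 11, Int.negSucc 101, Int.ofNat 548, Int.negSucc 459, Int.ofNat 464, Int.ofNat 552],
  [Int.ofNat 335, Int.ofNat 239, Int.ofNat 223, Int.ofNat 25, Int.negSucc 144, Int.ofNat 35, Int.ofNat 331, Int.ofNat 231, Int.ofNat 13, Int.negSucc 300, Int.negSucc 316, Int.ofNat 5, Int.ofNat 17, Int.negSucc 218, Int.ofNat 27, Int.negSucc 276, Int.negSucc 276, Int.negSucc 20, Int.ofNat 11, Int.ofNat 227, Int.ofNat 201, Int.negSucc 130, Int.ofNat 287, Int.negSucc 306],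
  [Int.ofNat 335, Int.ofNat 331, Int.negSucc 144, Int.ofNat 25, Int.ofNat 11, Int.ofNat 231, Int.ofNat 223, Int.negSucc 316, Int.ofNat 17, Int.negSucc 218, Int.ofNat 201, Int.negSucc 20, Int.negSucc 300, Int.negSucc 276, Int.ofNat 287, Int.negSucc 276, Int.ofNat 13, Int.ofNat 27, Int.ofNat 239, Int.ofNat 5, Int.negSucc 130, Int.ofNat 35, Int.ofNat 227, Int.negSucc 306],
  [Int.negSucc 227, Int.negSucc 223, Int.ofNat 252, Int.negSucc 259, Int.ofNat 24, Int.negSucc 53, Int.ofNat 250, Int.negSucc 289, Int.ofNat 50, Int.negSucc 5, Int.ofNat 414, Int.ofNat 12, Int.negSucc 267, Int.negSucc 263, Int.ofNat 2, Int.negSucc 63, Int.ofNat 26, Int.negSucc 257, Int.ofNat 272, Int.ofNat 32, Int.ofNat 82, Int.ofNat 62, Int.ofNat 240, Int.ofNat 414],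
  [Int.negSucc 227, Int.negSucc 223, Int.negSucc 251, Int.negSucc 259, Int.ofNat 24, Int.ofNat 54, Int.negSucc 249, Int.negSucc 289, Int.ofNat 50, Int.ofNat 6, Int.negSucc 413, Int.ofNat 12, Int.negSucc 267, Int.negSucc 263, Int.ofNat 2, Int.ofNat 64, Int.ofNat 26, Int.negSucc 257, Int.negSucc 271, Int.ofNat 32, Int.ofNat 82, Int.ofNat 62, Int.negSucc 239, Int.ofNat 414],
  [Int.ofNat 54, Int.ofNat 82, Int.negSucc 259, Int.ofNat 6, Int.ofNat 26, Int.negSucc 251, Int.ofNat 32, Int.negSucc 239, Int.negSucc 257, Int.ofNat 62, Int.negSucc 289, Int.ofNat 24, Int.negSucc 249, Int.negSucc 223, Int.negSucc 271, Int.negSucc 413, Int.ofNat 64, Int.ofNat 12, Int.ofNat 50, Int.ofNat 2, Int.negSucc 227, Int.negSucc 267, Int.negSucc 263, Int.ofNat 414],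
  [Int.ofNat 54, Int.ofNat 82, Int.ofNat 260, Int.ofNat 6, Int.ofNat 26, Int.ofNat 252, Int.negSucc 31, Int.negSucc 239, Int.negSucc 257, Int.negSucc 61, Int.ofNat 290, Int.ofNat 24, Int.negSucc 249, Int.negSucc 223, Int.negSucc 271, Int.ofNat 414, Int.ofNat 64, Int.ofNat 12, Int.negSucc 49, Int.ofNat 2, Int.negSucc 227, Int.negSucc 267, Int.ofNat 264, Int.ofNat 414],
  [Int.ofNat 351, Int.ofNat 323, Int.ofNat 145, Int.ofNat 7, Int.negSucc 38, Int.ofNat 253, Int.ofNat 237, Int.ofNat 29, Int.ofNat 9, Int.negSucc 268, Int.ofNat 83, Int.ofNat 291, Int.ofNat 17, Int.negSucc 288, Int.negSucc 270, Int.ofNat 207, Int.negSucc 0, Int.ofNat 13, Int.ofNat 217, Int.ofNat 271, Int.negSucc 434, Int.ofNat 1, Int.ofNat 199, Int.negSucc 8],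
  [Int.ofNat 351, Int.ofNat 217, Int.ofNat 237, Int.ofNat 7, Int.ofNat 145, Int.ofNat 1, Int.ofNat 323, Int.ofNat 253, Int.negSucc 0, Int.ofNat 17, Int.ofNat 29, Int.ofNat 271, Int.ofNat 9, Int.negSucc 268, Int.ofNat 13, Int.ofNat 207, Int.negSucc 288, Int.ofNat 291, Int.negSucc 38, Int.ofNat 199, Int.ofNat 83, Int.negSucc 434, Int.negSucc 270, Int.negSucc 8],
  [Int.ofNat 47, Int.ofNat 181, Int.ofNat 161, Int.negSucc 148, Int.ofNat 487, Int.negSucc 154, Int.ofNat 153, Int.ofNat 83, Int.negSucc 120, Int.negSucc 150, Int.negSucc 138, Int.ofNat 151, Int.negSucc 110, Int.ofNat 73, Int.negSucc 142, Int.ofNat 39, Int.ofNat 53, Int.ofNat 135, Int.negSucc 158, Int.ofNat 29, Int.negSucc 84, Int.negSucc 604, Int.ofNat 71, Int.ofNat 407],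
  [Int.negSucc 84, Int.negSucc 604, Int.ofNat 71, Int.ofNat 47, Int.ofNat 181, Int.ofNat 161, Int.negSucc 148, Int.ofNat 487, Int.negSucc 154, Int.ofNat 153, Int.ofNat 83, Int.negSucc 120, Int.negSucc 150, Int.negSucc 138, Int.ofNat 151, Int.negSucc 110, Int.ofNat 73, Int.negSucc 142, Int.ofNat 39, Int.ofNat 53, Int.ofNat 135, Int.negSucc 158, Int.ofNat 29, Int.ofNat 407],
  [Int.negSucc 20, Int.ofNat 499, Int.negSucc 176, Int.negSucc 60, Int.ofNat 109, Int.ofNat 53, Int.negSucc 264, Int.ofNat 371, Int.ofNat 39, Int.ofNat 23, Int.negSucc 46, Int.ofNat 73, Int.ofNat 43, Int.negSucc 210, Int.ofNat 43, Int.negSucc 240, Int.ofNat 1, Int.negSucc 250, Int.ofNat 233, Int.negSucc 62, Int.ofNat 5, Int.negSucc 274, Int.negSucc 42, Int.negSucc 512],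
  [Int.ofNat 499, Int.negSucc 176, Int.negSucc 60, Int.ofNat 109, Int.ofNat 53, Int.negSucc 264, Int.ofNat 371, Int.ofNat 39, Int.ofNat 23, Int.negSucc 46, Int.ofNat 73, Int.ofNat 43, Int.negSucc 210, Int.ofNat 43, Int.negSucc 240, Int.ofNat 1, Int.negSucc 250, Int.ofNat 233, Int.negSucc 62, Int.ofNat 5, Int.negSucc 274, Int.negSucc 42, Int.negSucc 20, Int.negSucc 512],
  [Int.negSucc 498, Int.negSucc 176, Int.ofNat 61, Int.ofNat 109, Int.ofNat 53, Int.negSucc 264, Int.ofNat 371, Int.negSucc 38, Int.ofNat 23, Int.ofNat 47, Int.negSucc 72, Int.negSucc 42, Int.negSucc 210, Int.ofNat 43, Int.negSucc 240, Int.ofNat 1, Int.negSucc 250, Int.ofNat 233, Int.ofNat 63, Int.ofNat 5, Int.negSucc 274, Int.ofNat 43, Int.negSucc 20, Int.negSucc 512],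
  [Int.negSucc 512, Int.negSucc 20, Int.negSucc 42, Int.ofNat 1, Int.ofNat 233, Int.ofNat 47, Int.ofNat 5, Int.ofNat 43, Int.negSucc 274, Int.negSucc 264, Int.negSucc 250, Int.ofNat 61, Int.ofNat 43, Int.negSucc 38, Int.ofNat 63, Int.ofNat 109, Int.negSucc 72, Int.ofNat 53, Int.negSucc 240, Int.ofNat 371, Int.ofNat 23, Int.negSucc 210, Int.negSucc 176, Int.negSucc 498],
  [Int.ofNat 513, Int.negSucc 20, Int.ofNat 43, Int.ofNat 1, Int.ofNat 233, Int.ofNat 47, Int.ofNat 5, Int.negSucc 42, Int.negSucc 274, Int.ofNat 265, Int.ofNat 251, Int.negSucc 60, Int.ofNat 43, Int.negSucc 38, Int.ofNat 63, Int.ofNat 109, Int.negSucc 72, Int.ofNat 53, Int.ofNat 241, Int.ofNat 371, Int.ofNat 23, Int.ofNat 211, Int.negSucc 176, Int.negSucc 498],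
  [Int.negSucc 176, Int.ofNat 513, Int.negSucc 20, Int.ofNat 43, Int.ofNat 1, Int.ofNat 233, Int.ofNat 47, Int.ofNat 5, Int.negSucc 42, Int.negSucc 274, Int.ofNat 265, Int.ofNat 251, Int.negSucc 60, Int.ofNat 43, Int.negSucc 38, Int.ofNat 63, Int.ofNat 109, Int.negSucc 72, Int.ofNat 53, Int.ofNat 241, Int.ofNat 371, Int.ofNat 23, Int.ofNat 211, Int.negSucc 498],
  [Int.ofNat 85, Int.negSucc 604, Int.negSucc 70, Int.negSucc 38, Int.negSucc 180, Int.ofNat 151, Int.negSucc 110, Int.negSucc 152, Int.negSucc 142, Int.negSucc 486, Int.ofNat 53, Int.ofNat 151, Int.negSucc 160, Int.negSucc 138, Int.negSucc 120, Int.negSucc 148, Int.negSucc 72, Int.negSucc 154, Int.negSucc 46, Int.ofNat 83, Int.ofNat 159, Int.negSucc 134, Int.ofNat 29, Int.ofNat 407],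
  [Int.negSucc 38, Int.negSucc 180, Int.ofNat 151, Int.negSucc 110, Int.negSucc 152, Int.negSucc 142, Int.negSucc 486, Int.ofNat 53, Int.ofNat 151, Int.negSucc 160, Int.negSucc 138, Int.negSucc 120, Int.negSucc 148, Int.negSucc 72, Int.negSucc 154, Int.negSucc 46, Int.ofNat 83, Int.ofNat 159, Int.negSucc 134, Int.ofNat 29, Int.ofNat 85, Int.negSucc 604, Int.negSucc 70, Int.ofNat 407],
  [Int.ofNat 208, Int.ofNat 350, Int.ofNat 18, Int.ofNat 14, Int.negSucc 45, Int.negSucc 17, Int.ofNat 18, Int.ofNat 558, Int.ofNat 278, Int.negSucc 29, Int.negSucc 7, Int.ofNat 6, Int.negSucc 21, Int.ofNat 34, Int.negSucc 29, Int.ofNat 84, Int.ofNat 190, Int.ofNat 284, Int.negSucc 7, Int.ofNat 534, Int.ofNat 216, Int.negSucc 99, Int.ofNat 36, Int.negSucc 237],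
  [Int.ofNat 208, Int.ofNat 18, Int.negSucc 45, Int.ofNat 14, Int.negSucc 7, Int.ofNat 558, Int.ofNat 18, Int.negSucc 7, Int.negSucc 21, Int.ofNat 34, Int.ofNat 216, Int.ofNat 284, Int.negSucc 29, Int.ofNat 190, Int.ofNat 36, Int.ofNat 84, Int.ofNat 278, Int.negSucc 29, Int.ofNat 350, Int.ofNat 6, Int.negSucc 99, Int.negSucc 17, Int.ofNat 534, Int.negSucc 237],
  [Int.negSucc 236, Int.negSucc 46, Int.ofNat 17, Int.negSucc 274, Int.negSucc 504, Int.ofNat 269, Int.ofNat 19, Int.negSucc 6, Int.negSucc 312, Int.negSucc 82, Int.ofNat 99, Int.negSucc 6, Int.negSucc 320, Int.negSucc 306, Int.negSucc 252, Int.negSucc 32, Int.negSucc 218, Int.negSucc 318, Int.ofNat 59, Int.ofNat 7, Int.negSucc 216, Int.negSucc 16, Int.ofNat 37, Int.ofNat 209],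
  [Int.negSucc 236, Int.negSucc 46, Int.negSucc 16, Int.negSucc 274, Int.negSucc 504, Int.negSucc 268, Int.negSucc 18, Int.negSucc 6, Int.negSucc 312, Int.ofNat 83, Int.negSucc 98, Int.negSucc 6, Int.negSucc 320, Int.negSucc 306, Int.negSucc 252, Int.ofNat 33, Int.negSucc 218, Int.negSucc 318, Int.negSucc 58, Int.ofNat 7, Int.negSucc 216, Int.negSucc 16, Int.negSucc 36, Int.ofNat 209],
  [Int.negSucc 268, Int.negSucc 216, Int.negSucc 274, Int.ofNat 83, Int.negSucc 218, Int.negSucc 16, Int.ofNat 7, Int.negSucc 36, Int.negSucc 318, Int.negSucc 16, Int.negSucc 6, Int.negSucc 504, Int.negSucc 18, Int.negSucc 46, Int.negSucc 58, Int.negSucc 98, Int.ofNat 33, Int.negSucc 6, Int.negSucc 312, Int.negSucc 252, Int.negSucc 236, Int.negSucc 320, Int.negSucc 306, Int.ofNat 209],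
  [Int.negSucc 268, Int.negSucc 216, Int.ofNat 275, Int.ofNat 83, Int.negSucc 218, Int.ofNat 17, Int.negSucc 6, Int.negSucc 36, Int.negSucc 318, Int.ofNat 17, Int.ofNat 7, Int.negSucc 504, Int.negSucc 18, Int.negSucc 46, Int.negSucc 58, Int.ofNat 99, Int.ofNat 33, Int.negSucc 6, Int.ofNat 313, Int.negSucc 252, Int.negSucc 236, Int.negSucc 320, Int.ofNat 307, Int.ofNat 209],
  [Int.ofNat 268, Int.ofNat 216, Int.negSucc 275, Int.ofNat 66, Int.negSucc 255, Int.ofNat 0, Int.ofNat 302, Int.ofNat 272, Int.negSucc 53, Int.ofNat 74, Int.ofNat 64, Int.negSucc 239, Int.ofNat 246, Int.negSucc 83, Int.negSucc 75, Int.ofNat 156, Int.negSucc 3, Int.negSucc 23, Int.ofNat 578, Int.ofNat 56, Int.negSucc 179, Int.negSucc 11, Int.ofNat 270, Int.negSucc 209],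
  [Int.ofNat 268, Int.ofNat 578, Int.ofNat 302, Int.ofNat 66, Int.negSucc 275, Int.negSucc 11, Int.ofNat 216, Int.ofNat 0, Int.negSucc 3, Int.ofNat 246, Int.ofNat 272, Int.ofNat 56, Int.negSucc 53, Int.ofNat 74, Int.negSucc 23, Int.ofNat 156, Int.negSucc 83, Int.negSucc 239, Int.negSucc 255, Int.ofNat 270, Int.ofNat 64, Int.negSucc 179, Int.negSucc 75, Int.negSucc 209],
  [Int.ofNat 201, Int.negSucc 108, Int.ofNat 167, Int.ofNat 171, Int.negSucc 94, Int.ofNat 93, Int.ofNat 63, Int.negSucc 152, Int.ofNat 125, Int.negSucc 122, Int.negSucc 96, Int.ofNat 185, Int.ofNat 75, Int.ofNat 255, Int.ofNat 81, Int.negSucc 212, Int.ofNat 97, Int.negSucc 134, Int.negSucc 126, Int.ofNat 117, Int.negSucc 304, Int.negSucc 332, Int.ofNat 105, Int.ofNat 679],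
  [Int.negSucc 304, Int.negSucc 332, Int.ofNat 105, Int.ofNat 201, Int.negSucc 108, Int.ofNat 167, Int.ofNat 171, Int.negSucc 94, Int.ofNat 93, Int.ofNat 63, Int.negSucc 152, Int.ofNat 125, Int.negSucc 122, Int.negSucc 96, Int.ofNat 185, Int.ofNat 75, Int.ofNat 255, Int.ofNat 81, Int.negSucc 212, Int.ofNat 97, Int.negSucc 134, Int.negSucc 126, Int.ofNat 117, Int.ofNat 679],
  [Int.ofNat 378, Int.ofNat 406, Int.negSucc 31, Int.negSucc 115, Int.negSucc 191, Int.negSucc 149, Int.ofNat 148, Int.negSucc 117, Int.ofNat 152, Int.ofNat 138, Int.negSucc 77, Int.ofNat 184, Int.negSucc 63, Int.negSucc 179, Int.negSucc 131, Int.ofNat 150, Int.ofNat 172, Int.negSucc 235, Int.negSucc 153, Int.ofNat 74, Int.negSucc 59, Int.negSucc 149, Int.ofNat 34, Int.negSucc 605],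
  [Int.ofNat 406, Int.negSucc 31, Int.negSucc 115, Int.negSucc 191, Int.negSucc 149, Int.ofNat 148, Int.negSucc 117, Int.ofNat 152, Int.ofNat 138, Int.negSucc 77, Int.ofNat 184, Int.negSucc 63, Int.negSucc 179, Int.negSucc 131, Int.ofNat 150, Int.ofNat 172, Int.negSucc 235, Int.negSucc 153, Int.ofNat 74, Int.negSucc 59, Int.negSucc 149, Int.ofNat 34, Int.ofNat 378, Int.negSucc 605],
  [Int.negSucc 405, Int.negSucc 31, Int.ofNat 116, Int.negSucc 191, Int.negSucc 149, Int.ofNat 148, Int.negSucc 117, Int.negSucc 151, Int.ofNat 138, Int.ofNat 78, Int.negSucc 183, Int.ofNat 64, Int.negSucc 179, Int.negSucc 131, Int.ofNat 150, Int.ofNat 172, Int.negSucc 235, Int.negSucc 153, Int.negSucc 73, Int.negSucc 59, Int.negSucc 149, Int.negSucc 33, Int.ofNat 378, Int.negSucc 605],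
  [Int.negSucc 605, Int.ofNat 378, Int.ofNat 64, Int.ofNat 172, Int.negSucc 153, Int.ofNat 78, Int.negSucc 59, Int.negSucc 131, Int.negSucc 149, Int.ofNat 148, Int.negSucc 235, Int.ofNat 116, Int.negSucc 33, Int.negSucc 151, Int.negSucc 73, Int.negSucc 191, Int.negSucc 183, Int.negSucc 149, Int.ofNat 150, Int.negSucc 117, Int.ofNat 138, Int.negSucc 179, Int.negSucc 31, Int.negSucc 405],
  [Int.ofNat 606, Int.ofNat 378, Int.negSucc 63, Int.ofNat 172, Int.negSucc 153, Int.ofNat 78, Int.negSucc 59, Int.ofNat 132, Int.negSucc 149, Int.negSucc 147, Int.ofNat 236, Int.negSucc 115, Int.negSucc 33, Int.negSucc 151, Int.negSucc 73, Int.negSucc 191, Int.negSucc 183, Int.negSucc 149, Int.negSucc 149, Int.negSucc 117, Int.ofNat 138, Int.ofNat 180, Int.negSucc 31, Int.negSucc 405],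
  [Int.negSucc 31, Int.ofNat 606, Int.ofNat 378, Int.negSucc 63, Int.ofNat 172, Int.negSucc 153, Int.ofNat 78, Int.negSucc 59, Int.ofNat 132, Int.negSucc 149, Int.negSucc 147, Int.ofNat 236, Int.negSucc 115, Int.negSucc 33, Int.negSucc 151, Int.negSucc 73, Int.negSucc 191, Int.negSucc 183, Int.negSucc 149, Int.negSucc 149, Int.negSucc 117, Int.ofNat 138, Int.ofNat 180, Int.negSucc 405],
  [Int.ofNat 305, Int.negSucc 332, Int.negSucc 104, Int.ofNat 213, Int.ofNat 109, Int.ofNat 123, Int.ofNat 75, Int.negSucc 62, Int.ofNat 81, Int.ofNat 95, Int.ofNat 97, Int.ofNat 185, Int.negSucc 166, Int.negSucc 96, Int.ofNat 125, Int.ofNat 171, Int.negSucc 254, Int.ofNat 93, Int.negSucc 200, Int.negSucc 152, Int.ofNat 127, Int.ofNat 135, Int.ofNat 117, Int.ofNat 679],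
  [Int.ofNat 213, Int.ofNat 109, Int.ofNat 123, Int.ofNat 75, Int.negSucc 62, Int.ofNat 81, Int.ofNat 95, Int.ofNat 97, Int.ofNat 185, Int.negSucc 166, Int.negSucc 96, Int.ofNat 125, Int.ofNat 171, Int.negSucc 254, Int.ofNat 93, Int.negSucc 200, Int.negSucc 152, Int.ofNat 127, Int.ofNat 135, Int.ofNat 117, Int.ofNat 305, Int.negSucc 332, Int.negSucc 104, Int.ofNat 679],
  [Int.ofNat 349, Int.ofNat 453, Int.ofNat 439, Int.negSucc 112, Int.ofNat 225, Int.negSucc 106, Int.ofNat 107, Int.ofNat 109, Int.negSucc 122, Int.negSucc 86, Int.negSucc 16, Int.negSucc 182, Int.negSucc 136, Int.ofNat 33, Int.negSucc 94, Int.negSucc 120, Int.ofNat 135, Int.negSucc 60, Int.negSucc 172, Int.ofNat 129, Int.ofNat 385, Int.negSucc 320, Int.ofNat 183, Int.negSucc 116],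
  [Int.ofNat 349, Int.ofNat 107, Int.ofNat 225, Int.negSucc 112, Int.negSucc 172, Int.ofNat 109, Int.ofNat 439, Int.negSucc 16, Int.negSucc 136, Int.ofNat 33, Int.ofNat 385, Int.negSucc 60, Int.negSucc 86, Int.ofNat 135, Int.ofNat 183, Int.negSucc 120, Int.negSucc 122, Int.negSucc 94, Int.ofNat 453, Int.negSucc 182, Int.negSucc 320, Int.negSucc 106, Int.ofNat 129, Int.negSucc 116],
  [Int.negSucc 66, Int.ofNat 175, Int.ofNat 57, Int.negSucc 154, Int.negSucc 156, Int.ofNat 67, Int.ofNat 373, Int.negSucc 82, Int.negSucc 220, Int.ofNat 45, Int.ofNat 397, Int.negSucc 144, Int.negSucc 170, Int.ofNat 151, Int.ofNat 141, Int.negSucc 108, Int.negSucc 106, Int.negSucc 136, Int.ofNat 369, Int.negSucc 248, Int.negSucc 308, Int.negSucc 172, Int.ofNat 145, Int.ofNat 399],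
  [Int.negSucc 66, Int.ofNat 175, Int.negSucc 56, Int.negSucc 154, Int.negSucc 156, Int.negSucc 66, Int.negSucc 372, Int.negSucc 82, Int.negSucc 220, Int.negSucc 44, Int.negSucc 396, Int.negSucc 144, Int.negSucc 170, Int.ofNat 151, Int.ofNat 141, Int.ofNat 109, Int.negSucc 106, Int.negSucc 136, Int.negSucc 368, Int.negSucc 248, Int.negSucc 308, Int.negSucc 172, Int.negSucc 144, Int.ofNat 399],
  [Int.negSucc 66, Int.negSucc 308, Int.negSucc 154, Int.negSucc 44, Int.negSucc 106, Int.negSucc 56, Int.negSucc 248, Int.negSucc 144, Int.negSucc 136, Int.negSucc 172, Int.negSucc 82, Int.negSucc 156, Int.negSucc 372, Int.ofNat 175, Int.negSucc 368, Int.negSucc 396, Int.ofNat 109, Int.negSucc 144, Int.negSucc 220, Int.ofNat 141, Int.negSucc 66, Int.negSucc 170, Int.ofNat 151, Int.ofNat 399],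
  [Int.negSucc 66, Int.negSucc 308, Int.ofNat 155, Int.negSucc 44, Int.negSucc 106, Int.ofNat 57, Int.ofNat 249, Int.negSucc 144, Int.negSucc 136, Int.ofNat 173, Int.ofNat 83, Int.negSucc 156, Int.negSucc 372, Int.ofNat 175, Int.negSucc 368, Int.ofNat 397, Int.ofNat 109, Int.negSucc 144, Int.ofNat 221, Int.ofNat 141, Int.negSucc 66, Int.negSucc 170, Int.negSucc 150, Int.ofNat 399],
  [Int.ofNat 156, Int.ofNat 398, Int.negSucc 65, Int.ofNat 206, Int.negSucc 119, Int.ofNat 308, Int.ofNat 212, Int.negSucc 181, Int.ofNat 86, Int.negSucc 119, Int.negSucc 209, Int.ofNat 66, Int.negSucc 149, Int.ofNat 162, Int.negSucc 117, Int.ofNat 104, Int.ofNat 96, Int.ofNat 106, Int.ofNat 444, Int.ofNat 104, Int.negSucc 359, Int.negSucc 207, Int.negSucc 163, Int.negSucc 309],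
  [Int.ofNat 156, Int.ofNat 444, Int.ofNat 212, Int.ofNat 206, Int.negSucc 65, Int.negSucc 207, Int.ofNat 398, Int.ofNat 308, Int.ofNat 96, Int.negSucc 149, Int.negSucc 181, Int.ofNat 104, Int.ofNat 86, Int.negSucc 119, Int.ofNat 106, Int.ofNat 104, Int.ofNat 162, Int.ofNat 66, Int.negSucc 119, Int.negSucc 163, Int.negSucc 209, Int.negSucc 359, Int.negSucc 117, Int.negSucc 309],
  [Int.ofNat 95, Int.negSucc 192, Int.ofNat 39, Int.ofNat 121, Int.ofNat 5, Int.negSucc 292, Int.ofNat 307, Int.ofNat 217, Int.ofNat 13, Int.ofNat 69, Int.ofNat 37, Int.ofNat 21, Int.ofNat 3, Int.negSucc 48, Int.ofNat 21, Int.ofNat 323, Int.ofNat 233, Int.negSucc 18, Int.negSucc 202, Int.negSucc 254, Int.ofNat 9, Int.negSucc 450, Int.negSucc 46, Int.ofNat 561],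
  [Int.ofNat 9, Int.negSucc 450, Int.negSucc 46, Int.ofNat 95, Int.negSucc 192, Int.ofNat 39, Int.ofNat 121, Int.ofNat 5, Int.negSucc 292, Int.ofNat 307, Int.ofNat 217, Int.ofNat 13, Int.ofNat 69, Int.ofNat 37, Int.ofNat 21, Int.ofNat 3, Int.negSucc 48, Int.ofNat 21, Int.ofNat 323, Int.ofNat 233, Int.negSucc 18, Int.negSucc 202, Int.negSucc 254, Int.ofNat 561],
  [Int.ofNat 27, Int.ofNat 487, Int.ofNat 83, Int.ofNat 7, Int.ofNat 37, Int.negSucc 48, Int.ofNat 43, Int.negSucc 72, Int.negSucc 348, Int.ofNat 53, Int.negSucc 36, Int.negSucc 42, Int.ofNat 13, Int.ofNat 267, Int.negSucc 66, Int.negSucc 250, Int.ofNat 181, Int.negSucc 66, Int.ofNat 267, Int.ofNat 155, Int.negSucc 272, Int.negSucc 280, Int.negSucc 24, Int.negSucc 524],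
  [Int.ofNat 487, Int.ofNat 83, Int.ofNat 7, Int.ofNat 37, Int.negSucc 48, Int.ofNat 43, Int.negSucc 72, Int.negSucc 348, Int.ofNat 53, Int.negSucc 36, Int.negSucc 42, Int.ofNat 13, Int.ofNat 267, Int.negSucc 66, Int.negSucc 250, Int.ofNat 181, Int.negSucc 66, Int.ofNat 267, Int.ofNat 155, Int.negSucc 272, Int.negSucc 280, Int.negSucc 24, Int.ofNat 27, Int.negSucc 524],
  [Int.negSucc 486, Int.ofNat 83, Int.negSucc 6, Int.ofNat 37, Int.negSucc 48, Int.ofNat 43, Int.negSucc 72, Int.ofNat 349, Int.ofNat 53, Int.ofNat 37, Int.ofNat 43, Int.negSucc 12, Int.ofNat 267, Int.negSucc 66, Int.negSucc 250, Int.ofNat 181, Int.negSucc 66, Int.ofNat 267, Int.negSucc 154, Int.negSucc 272, Int.negSucc 280, Int.ofNat 25, Int.ofNat 27, Int.negSucc 524],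
  [Int.negSucc 524, Int.ofNat 27, Int.negSucc 12, Int.ofNat 181, Int.ofNat 267, Int.ofNat 37, Int.negSucc 272, Int.negSucc 66, Int.negSucc 280, Int.ofNat 43, Int.negSucc 66, Int.negSucc 6, Int.ofNat 25, Int.ofNat 349, Int.negSucc 154, Int.ofNat 37, Int.ofNat 43, Int.negSucc 48, Int.negSucc 250, Int.negSucc 72, Int.ofNat 53, Int.ofNat 267, Int.ofNat 83, Int.negSucc 486],
  [Int.ofNat 525, Int.ofNat 27, Int.ofNat 13, Int.ofNat 181, Int.ofNat 267, Int.ofNat 37, Int.negSucc 272, Int.ofNat 67, Int.negSucc 280, Int.negSucc 42, Int.ofNat 67, Int.ofNat 7, Int.ofNat 25, Int.ofNat 349, Int.negSucc 154, Int.ofNat 37, Int.ofNat 43, Int.negSucc 48, Int.ofNat 251, Int.negSucc 72, Int.ofNat 53, Int.negSucc 266, Int.ofNat 83, Int.negSucc 486],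
  [Int.ofNat 83, Int.ofNat 525, Int.ofNat 27, Int.ofNat 13, Int.ofNat 181, Int.ofNat 267, Int.ofNat 37, Int.negSucc 272, Int.ofNat 67, Int.negSucc 280, Int.negSucc 42, Int.ofNat 67, Int.ofNat 7, Int.ofNat 25, Int.ofNat 349, Int.negSucc 154, Int.ofNat 37, Int.ofNat 43, Int.negSucc 48, Int.ofNat 251, Int.negSucc 72, Int.ofNat 53, Int.negSucc 266, Int.negSucc 486],
  [Int.negSucc 8, Int.negSucc 450, Int.ofNat 47, Int.negSucc 322, Int.ofNat 193, Int.negSucc 68, Int.ofNat 3, Int.negSucc 306, Int.ofNat 21, Int.negSucc 4, Int.ofNat 233, Int.ofNat 21, Int.negSucc 38, Int.ofNat 37, Int.ofNat 13, Int.ofNat 121, Int.ofNat 49, Int.negSucc 292, Int.negSucc 94, Int.ofNat 217, Int.ofNat 203, Int.ofNat 19, Int.negSucc 254, Int.ofNat 561],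
  [Int.negSucc 322, Int.ofNat 193, Int.negSucc 68, Int.ofNat 3, Int.negSucc 306, Int.ofNat 21, Int.negSucc 4, Int.ofNat 233, Int.ofNat 21, Int.negSucc 38, Int.ofNat 37, Int.ofNat 13, Int.ofNat 121, Int.ofNat 49, Int.negSucc 292, Int.negSucc 94, Int.ofNat 217, Int.ofNat 203, Int.ofNat 19, Int.negSucc 254, Int.negSucc 8, Int.negSucc 450, Int.ofNat 47, Int.ofNat 561],
  [Int.ofNat 504, Int.negSucc 11, Int.ofNat 250, Int.ofNat 36, Int.negSucc 309, Int.ofNat 54, Int.ofNat 234, Int.ofNat 472, Int.negSucc 65, Int.ofNat 14, Int.ofNat 90, Int.negSucc 73, Int.ofNat 34, Int.ofNat 46, Int.negSucc 259, Int.negSucc 41, Int.ofNat 214, Int.ofNat 236, Int.negSucc 67, Int.negSucc 15, Int.ofNat 44, Int.negSucc 211, Int.ofNat 44, Int.negSucc 379],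
  [Int.ofNat 504, Int.ofNat 234, Int.negSucc 309, Int.ofNat 36, Int.negSucc 67, Int.ofNat 472, Int.ofNat 250, Int.ofNat 90, Int.ofNat 34, Int.ofNat 46, Int.ofNat 44, Int.ofNat 236, Int.ofNat 14, Int.ofNat 214, Int.ofNat 44, Int.negSucc 41, Int.negSucc 65, Int.negSucc 259, Int.negSucc 11, Int.negSucc 73, Int.negSucc 211, Int.ofNat 54, Int.negSucc 15, Int.negSucc 379],
  [Int.negSucc 479, Int.negSucc 209, Int.ofNat 334, Int.negSucc 109, Int.negSucc 99, Int.ofNat 326, Int.ofNat 90, Int.negSucc 69, Int.negSucc 101, Int.ofNat 128, Int.ofNat 126, Int.ofNat 100, Int.negSucc 121, Int.ofNat 182, Int.negSucc 101, Int.ofNat 40, Int.negSucc 97, Int.negSucc 405, Int.negSucc 147, Int.negSucc 233, Int.negSucc 129, Int.negSucc 105, Int.negSucc 47, Int.ofNat 404],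
  [Int.negSucc 479, Int.negSucc 209, Int.negSucc 333, Int.negSucc 109, Int.negSucc 99, Int.negSucc 325, Int.negSucc 89, Int.negSucc 69, Int.negSucc 101, Int.negSucc 127, Int.negSucc 125, Int.ofNat 100, Int.negSucc 121, Int.ofNat 182, Int.negSucc 101, Int.negSucc 39, Int.negSucc 97, Int.negSucc 405, Int.ofNat 148, Int.negSucc 233, Int.negSucc 129, Int.negSucc 105, Int.ofNat 48, Int.ofNat 404],
  [Int.negSucc 325, Int.negSucc 129, Int.negSucc 109, Int.negSucc 127, Int.negSucc 97, Int.negSucc 333, Int.negSucc 233, Int.ofNat 48, Int.negSucc 405, Int.negSucc 105, Int.negSucc 69, Int.negSucc 99, Int.negSucc 89, Int.negSucc 209, Int.ofNat 148, Int.negSucc 125, Int.negSucc 39, Int.ofNat 100, Int.negSucc 101, Int.negSucc 101, Int.negSucc 479, Int.negSucc 121, Int.ofNat 182, Int.ofNat 404],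
  [Int.negSucc 325, Int.negSucc 129, Int.ofNat 110, Int.negSucc 127, Int.negSucc 97, Int.ofNat 334, Int.ofNat 234, Int.ofNat 48, Int.negSucc 405, Int.ofNat 106, Int.ofNat 70, Int.negSucc 99, Int.negSucc 89, Int.negSucc 209, Int.ofNat 148, Int.ofNat 126, Int.negSucc 39, Int.ofNat 100, Int.ofNat 102, Int.negSucc 101, Int.negSucc 479, Int.negSucc 121, Int.negSucc 181, Int.ofNat 404],
  [Int.ofNat 355, Int.ofNat 159, Int.negSucc 80, Int.negSucc 354, Int.ofNat 167, Int.ofNat 107, Int.ofNat 205, Int.ofNat 19, Int.negSucc 158, Int.ofNat 195, Int.ofNat 159, Int.ofNat 147, Int.ofNat 157, Int.ofNat 55, Int.negSucc 78, Int.ofNat 215, Int.ofNat 225, Int.negSucc 126, Int.ofNat 349, Int.negSucc 130, Int.negSucc 390, Int.negSucc 150, Int.ofNat 83, Int.negSucc 374],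
  [Int.ofNat 355, Int.ofNat 349, Int.ofNat 205, Int.negSucc 354, Int.negSucc 80, Int.negSucc 150, Int.ofNat 159, Int.ofNat 107, Int.ofNat 225, Int.ofNat 157, Int.ofNat 19, Int.negSucc 130, Int.negSucc 158, Int.ofNat 195, Int.negSucc 126, Int.ofNat 215, Int.ofNat 55, Int.ofNat 147, Int.ofNat 167, Int.ofNat 83, Int.ofNat 159, Int.negSucc 390, Int.negSucc 78, Int.negSucc 374],
  [Int.negSucc 87, Int.negSucc 81, Int.ofNat 62, Int.negSucc 111, Int.negSucc 125, Int.ofNat 92, Int.ofNat 180, Int.ofNat 128, Int.ofNat 174, Int.negSucc 117, Int.negSucc 255, Int.negSucc 181, Int.negSucc 209, Int.ofNat 150, Int.ofNat 116, Int.negSucc 59, Int.ofNat 10, Int.ofNat 390, Int.ofNat 116, Int.ofNat 104, Int.negSucc 115, Int.negSucc 369, Int.negSucc 123, Int.ofNat 642],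
  [Int.negSucc 115, Int.negSucc 369, Int.negSucc 123, Int.negSucc 87, Int.negSucc 81, Int.ofNat 62, Int.negSucc 111, Int.negSucc 125, Int.ofNat 92, Int.ofNat 180, Int.ofNat 128, Int.ofNat 174, Int.negSucc 117, Int.negSucc 255, Int.negSucc 181, Int.negSucc 209, Int.ofNat 150, Int.ofNat 116, Int.negSucc 59, Int.ofNat 10, Int.ofNat 390, Int.ofNat 116, Int.ofNat 104, Int.ofNat 642],
  [Int.ofNat 132, Int.ofNat 386, Int.ofNat 140, Int.negSucc 41, Int.negSucc 39, Int.ofNat 108, Int.negSucc 55, Int.negSucc 69, Int.ofNat 48, Int.negSucc 63, Int.negSucc 115, Int.ofNat 130, Int.negSucc 161, Int.negSucc 213, Int.negSucc 135, Int.negSucc 453, Int.ofNat 192, Int.ofNat 162, Int.negSucc 103, Int.ofNat 66, Int.ofNat 146, Int.ofNat 172, Int.ofNat 146, Int.negSucc 625],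
  [Int.ofNat 386, Int.ofNat 140, Int.negSucc 41, Int.negSucc 39, Int.ofNat 108, Int.negSucc 55, Int.negSucc 69, Int.ofNat 48, Int.negSucc 63, Int.negSucc 115, Int.ofNat 130, Int.negSucc 161, Int.negSucc 213, Int.negSucc 135, Int.negSucc 453, Int.ofNat 192, Int.ofNat 162, Int.negSucc 103, Int.ofNat 66, Int.ofNat 146, Int.ofNat 172, Int.ofNat 146, Int.ofNat 132, Int.negSucc 625],
  [Int.negSucc 385, Int.ofNat 140, Int.ofNat 42, Int.negSucc 39, Int.ofNat 108, Int.negSucc 55, Int.negSucc 69, Int.negSucc 47, Int.negSucc 63, Int.ofNat 116, Int.negSucc 129, Int.ofNat 162, Int.negSucc 213, Int.negSucc 135, Int.negSucc 453, Int.ofNat 192, Int.ofNat 162, Int.negSucc 103, Int.negSucc 65, Int.ofNat 146, Int.ofNat 172, Int.negSucc 145, Int.ofNat 132, Int.negSucc 625],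
  [Int.negSucc 625, Int.ofNat 132, Int.ofNat 162, Int.ofNat 192, Int.negSucc 103, Int.ofNat 116, Int.ofNat 146, Int.negSucc 135, Int.ofNat 172, Int.negSucc 55, Int.ofNat 162, Int.ofNat 42, Int.negSucc 145, Int.negSucc 47, Int.negSucc 65, Int.negSucc 39, Int.negSucc 129, Int.ofNat 108, Int.negSucc 453, Int.negSucc 69, Int.negSucc 63, Int.negSucc 213, Int.ofNat 140, Int.negSucc 385],
  [Int.ofNat 626, Int.ofNat 132, Int.negSucc 161, Int.ofNat 192, Int.negSucc 103, Int.ofNat 116, Int.ofNat 146, Int.ofNat 136, Int.ofNat 172, Int.ofNat 56, Int.negSucc 161, Int.negSucc 41, Int.negSucc 145, Int.negSucc 47, Int.negSucc 65, Int.negSucc 39, Int.negSucc 129, Int.ofNat 108, Int.ofNat 454, Int.negSucc 69, Int.negSucc 63, Int.ofNat 214, Int.ofNat 140, Int.negSucc 385],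
  [Int.ofNat 140, Int.ofNat 626, Int.ofNat 132, Int.negSucc 161, Int.ofNat 192, Int.negSucc 103, Int.ofNat 116, Int.ofNat 146, Int.ofNat 136, Int.ofNat 172, Int.ofNat 56, Int.negSucc 161, Int.negSucc 41, Int.negSucc 145, Int.negSucc 47, Int.negSucc 65, Int.negSucc 39, Int.negSucc 129, Int.ofNat 108, Int.ofNat 454, Int.negSucc 69, Int.negSucc 63, Int.ofNat 214, Int.negSucc 385],
  [Int.ofNat 116, Int.negSucc 369, Int.ofNat 124, Int.ofNat 60, Int.ofNat 82, Int.ofNat 118, Int.negSucc 209, Int.negSucc 179, Int.ofNat 116, Int.ofNat 126, Int.ofNat 10, Int.negSucc 181, Int.negSucc 61, Int.negSucc 255, Int.ofNat 174, Int.negSucc 111, Int.negSucc 149, Int.ofNat 92, Int.ofNat 88, Int.ofNat 128, Int.negSucc 115, Int.negSucc 389, Int.ofNat 104, Int.ofNat 642],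
  [Int.ofNat 60, Int.ofNat 82, Int.ofNat 118, Int.negSucc 209, Int.negSucc 179, Int.ofNat 116, Int.ofNat 126, Int.ofNat 10, Int.negSucc 181, Int.negSucc 61, Int.negSucc 255, Int.ofNat 174, Int.negSucc 111, Int.negSucc 149, Int.ofNat 92, Int.ofNat 88, Int.ofNat 128, Int.negSucc 115, Int.negSucc 389, Int.ofNat 104, Int.ofNat 116, Int.negSucc 369, Int.ofNat 124, Int.ofNat 642],
  [Int.ofNat 391, Int.ofNat 369, Int.ofNat 333, Int.negSucc 150, Int.negSucc 140, Int.ofNat 175, Int.ofNat 191, Int.ofNat 75, Int.ofNat 73, Int.negSucc 4, Int.negSucc 198, Int.ofNat 429, Int.ofNat 143, Int.negSucc 110, Int.ofNat 151, Int.ofNat 145, Int.ofNat 167, Int.negSucc 56, Int.negSucc 134, Int.ofNat 169, Int.ofNat 173, Int.negSucc 304, Int.ofNat 163, Int.negSucc 190],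
  [Int.ofNat 391, Int.ofNat 191, Int.negSucc 140, Int.negSucc 150, Int.negSucc 134, Int.ofNat 75, Int.ofNat 333, Int.negSucc 198, Int.ofNat 143, Int.negSucc 110, Int.ofNat 173, Int.negSucc 56, Int.negSucc 4, Int.ofNat 167, Int.ofNat 163, Int.ofNat 145, Int.ofNat 73, Int.ofNat 151, Int.ofNat 369, Int.ofNat 429, Int.negSucc 304, Int.ofNat 175, Int.ofNat 169, Int.negSucc 190],
  [Int.negSucc 265, Int.negSucc 65, Int.ofNat 266, Int.negSucc 269, Int.negSucc 271, Int.negSucc 43, Int.negSucc 35, Int.negSucc 567, Int.negSucc 81, Int.negSucc 61, Int.ofNat 222, Int.negSucc 281, Int.negSucc 229, Int.ofNat 30, Int.ofNat 44, Int.ofNat 194, Int.negSucc 63, Int.ofNat 32, Int.ofNat 144, Int.ofNat 60, Int.negSucc 255, Int.negSucc 193, Int.ofNat 32, Int.ofNat 316],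
  [Int.negSucc 265, Int.negSucc 65, Int.negSucc 265, Int.negSucc 269, Int.negSucc 271, Int.ofNat 44, Int.ofNat 36, Int.negSucc 567, Int.negSucc 81, Int.ofNat 62, Int.negSucc 221, Int.negSucc 281, Int.negSucc 229, Int.ofNat 30, Int.ofNat 44, Int.negSucc 193, Int.negSucc 63, Int.ofNat 32, Int.negSucc 143, Int.ofNat 60, Int.negSucc 255, Int.negSucc 193, Int.negSucc 31, Int.ofNat 316],
  [Int.ofNat 44, Int.negSucc 255, Int.negSucc 269, Int.ofNat 62, Int.negSucc 63, Int.negSucc 265, Int.ofNat 60, Int.negSucc 31, Int.ofNat 32, Int.negSucc 193, Int.negSucc 567, Int.negSucc 271, Int.ofNat 36, Int.negSucc 65, Int.negSucc 143, Int.negSucc 221, Int.negSucc 193, Int.negSucc 281, Int.negSucc 81, Int.ofNat 44, Int.negSucc 265, Int.negSucc 229, Int.ofNat 30, Int.ofNat 316],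
  [Int.ofNat 44, Int.negSucc 255, Int.ofNat 270, Int.ofNat 62, Int.negSucc 63, Int.ofNat 266, Int.negSucc 59, Int.negSucc 31, Int.ofNat 32, Int.ofNat 194, Int.ofNat 568, Int.negSucc 271, Int.ofNat 36, Int.negSucc 65, Int.negSucc 143, Int.ofNat 222, Int.negSucc 193, Int.negSucc 281, Int.ofNat 82, Int.ofNat 44, Int.negSucc 265, Int.negSucc 229, Int.negSucc 29, Int.ofNat 316],
  [Int.ofNat 143, Int.ofNat 443, Int.negSucc 82, Int.ofNat 111, Int.ofNat 113, Int.ofNat 315, Int.ofNat 79, Int.ofNat 107, Int.ofNat 93, Int.negSucc 164, Int.ofNat 209, Int.negSucc 210, Int.ofNat 97, Int.ofNat 111, Int.negSucc 94, Int.negSucc 136, Int.negSucc 16, Int.negSucc 232, Int.ofNat 143, Int.ofNat 183, Int.negSucc 624, Int.negSucc 90, Int.ofNat 147, Int.negSucc 128],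
  [Int.ofNat 143, Int.ofNat 143, Int.ofNat 79, Int.ofNat 111, Int.negSucc 82, Int.negSucc 90, Int.ofNat 443, Int.ofNat 315, Int.negSucc 16, Int.ofNat 97, Int.ofNat 107, Int.ofNat 183, Int.ofNat 93, Int.negSucc 164, Int.negSucc 232, Int.negSucc 136, Int.ofNat 111, Int.negSucc 210, Int.ofNat 113, Int.ofNat 147, Int.ofNat 209, Int.negSucc 624, Int.negSucc 94, Int.negSucc 128],
  [Int.negSucc 24, Int.negSucc 24, Int.ofNat 39, Int.ofNat 323, Int.ofNat 33, Int.ofNat 121, Int.ofNat 303, Int.ofNat 175, Int.negSucc 202, Int.negSucc 40, Int.negSucc 30, Int.negSucc 2, Int.negSucc 92, Int.negSucc 48, Int.negSucc 20, Int.negSucc 274, Int.ofNat 227, Int.ofNat 1, Int.negSucc 72, Int.ofNat 7, Int.ofNat 71, Int.negSucc 764, Int.ofNat 21, Int.ofNat 247],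
  [Int.ofNat 71, Int.negSucc 764, Int.ofNat 21, Int.negSucc 24, Int.negSucc 24, Int.ofNat 39, Int.ofNat 323, Int.ofNat 33, Int.ofNat 121, Int.ofNat 303, Int.ofNat 175, Int.negSucc 202, Int.negSucc 40, Int.negSucc 30, Int.negSucc 2, Int.negSucc 92, Int.negSucc 48, Int.negSucc 20, Int.negSucc 274, Int.ofNat 227, Int.ofNat 1, Int.negSucc 72, Int.ofNat 7, Int.ofNat 247],
  [Int.negSucc 283, Int.ofNat 552, Int.negSucc 233, Int.negSucc 19, Int.ofNat 24, Int.ofNat 44, Int.ofNat 68, Int.negSucc 221, Int.ofNat 320, Int.ofNat 110, Int.negSucc 17, Int.negSucc 3, Int.ofNat 158, Int.ofNat 18, Int.ofNat 2, Int.negSucc 285, Int.ofNat 0, Int.negSucc 15, Int.negSucc 75, Int.negSucc 27, Int.negSucc 191, Int.negSucc 327, Int.ofNat 56, Int.negSucc 459],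
  [Int.ofNat 552, Int.negSucc 233, Int.negSucc 19, Int.ofNat 24, Int.ofNat 44, Int.ofNat 68, Int.negSucc 221, Int.ofNat 320, Int.ofNat 110, Int.negSucc 17, Int.negSucc 3, Int.ofNat 158, Int.ofNat 18, Int.ofNat 2, Int.negSucc 285, Int.ofNat 0, Int.negSucc 15, Int.negSucc 75, Int.negSucc 27, Int.negSucc 191, Int.negSucc 327, Int.ofNat 56, Int.negSucc 283, Int.negSucc 459],
  [Int.negSucc 551, Int.negSucc 233, Int.ofNat 20, Int.ofNat 24, Int.ofNat 44, Int.ofNat 68, Int.negSucc 221, Int.negSucc 319, Int.ofNat 110, Int.ofNat 18, Int.ofNat 4, Int.negSucc 157, Int.ofNat 18, Int.ofNat 2, Int.negSucc 285, Int.ofNat 0, Int.negSucc 15, Int.negSucc 75, Int.ofNat 28, Int.negSucc 191, Int.negSucc 327, Int.negSucc 55, Int.negSucc 283, Int.negSucc 459],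
  [Int.negSucc 459, Int.negSucc 283, Int.negSucc 157, Int.ofNat 0, Int.negSucc 75, Int.ofNat 18, Int.negSucc 191, Int.ofNat 2, Int.negSucc 327, Int.ofNat 68, Int.negSucc 15, Int.ofNat 20, Int.negSucc 55, Int.negSucc 319, Int.ofNat 28, Int.ofNat 24, Int.ofNat 4, Int.ofNat 44, Int.negSucc 285, Int.negSucc 221, Int.ofNat 110, Int.ofNat 18, Int.negSucc 233, Int.negSucc 551],
  [Int.ofNat 460, Int.negSucc 283, Int.ofNat 158, Int.ofNat 0, Int.negSucc 75, Int.ofNat 18, Int.negSucc 191, Int.negSucc 1, Int.negSucc 327, Int.negSucc 67, Int.ofNat 16, Int.negSucc 19, Int.negSucc 55, Int.negSucc 319, Int.ofNat 28, Int.ofNat 24, Int.ofNat 4, Int.ofNat 44, Int.ofNat 286, Int.negSucc 221, Int.ofNat 110, Int.negSucc 17, Int.negSucc 233, Int.negSucc 551],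
  [Int.negSucc 233, Int.ofNat 460, Int.negSucc 283, Int.ofNat 158, Int.ofNat 0, Int.negSucc 75, Int.ofNat 18, Int.negSucc 191, Int.negSucc 1, Int.negSucc 327, Int.negSucc 67, Int.ofNat 16, Int.negSucc 19, Int.negSucc 55, Int.negSucc 319, Int.ofNat 28, Int.ofNat 24, Int.ofNat 4, Int.ofNat 44, Int.ofNat 286, Int.negSucc 221, Int.ofNat 110, Int.negSucc 17, Int.negSucc 551],
  [Int.negSucc 70, Int.negSucc 764, Int.negSucc 20, Int.ofNat 275, Int.ofNat 25, Int.ofNat 41, Int.negSucc 92, Int.negSucc 302, Int.negSucc 20, Int.negSucc 32, Int.ofNat 227, Int.negSucc 2, Int.negSucc 38, Int.negSucc 30, Int.negSucc 202, Int.ofNat 323, Int.ofNat 49, Int.ofNat 121, Int.ofNat 25, Int.ofNat 175, Int.ofNat 73, Int.negSucc 0, Int.ofNat 7, Int.ofNat 247],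
  [Int.ofNat 275, Int.ofNat 25, Int.ofNat 41, Int.negSucc 92, Int.negSucc 302, Int.negSucc 20, Int.negSucc 32, Int.ofNat 227, Int.negSucc 2, Int.negSucc 38, Int.negSucc 30, Int.negSucc 202, Int.ofNat 323, Int.ofNat 49, Int.ofNat 121, Int.ofNat 25, Int.ofNat 175, Int.ofNat 73, Int.negSucc 0, Int.ofNat 7, Int.negSucc 70, Int.negSucc 764, Int.negSucc 20, Int.ofNat 247],
  [Int.ofNat 19, Int.ofNat 269, Int.ofNat 253, Int.negSucc 132, Int.negSucc 252, Int.negSucc 60, Int.ofNat 249, Int.ofNat 509, Int.negSucc 60, Int.ofNat 19, Int.ofNat 27, Int.negSucc 260, Int.ofNat 265, Int.ofNat 99, Int.ofNat 81, Int.ofNat 83, Int.ofNat 225, Int.ofNat 33, Int.negSucc 58, Int.ofNat 289, Int.negSucc 12, Int.negSucc 482, Int.ofNat 29, Int.ofNat 47],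
  [Int.ofNat 19, Int.ofNat 249, Int.negSucc 252, Int.negSucc 132, Int.negSucc 58, Int.ofNat 509, Int.ofNat 253, Int.ofNat 27, Int.ofNat 265, Int.ofNat 99, Int.negSucc 12, Int.ofNat 33, Int.ofNat 19, Int.ofNat 225, Int.ofNat 29, Int.ofNat 83, Int.negSucc 60, Int.ofNat 81, Int.ofNat 269, Int.negSucc 260, Int.negSucc 482, Int.negSucc 60, Int.ofNat 289, Int.ofNat 47],
  [Int.ofNat 12, Int.negSucc 217, Int.ofNat 284, Int.negSucc 375, Int.negSucc 255, Int.ofNat 266, Int.ofNat 274, Int.ofNat 48, Int.negSucc 27, Int.ofNat 256, Int.ofNat 144, Int.negSucc 259, Int.negSucc 273, Int.ofNat 28, Int.negSucc 213, Int.ofNat 240, Int.negSucc 257, Int.negSucc 161, Int.negSucc 23, Int.negSucc 239, Int.negSucc 325, Int.negSucc 39, Int.ofNat 92, Int.negSucc 15],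
  [Int.ofNat 12, Int.negSucc 217, Int.negSucc 283, Int.negSucc 375, Int.negSucc 255, Int.negSucc 265, Int.negSucc 273, Int.ofNat 48, Int.negSucc 27, Int.negSucc 255, Int.negSucc 143, Int.negSucc 259, Int.negSucc 273, Int.ofNat 28, Int.negSucc 213, Int.negSucc 239, Int.negSucc 257, Int.negSucc 161, Int.ofNat 24, Int.negSucc 239, Int.negSucc 325, Int.negSucc 39, Int.negSucc 91, Int.negSucc 15],
  [Int.negSucc 265, Int.negSucc 325, Int.negSucc 375, Int.negSucc 255, Int.negSucc 257, Int.negSucc 283, Int.negSucc 239, Int.negSucc 91, Int.negSucc 161, Int.negSucc 39, Int.ofNat 48, Int.negSucc 255, Int.negSucc 273, Int.negSucc 217, Int.ofNat 24, Int.negSucc 143, Int.negSucc 239, Int.negSucc 259, Int.negSucc 27, Int.negSucc 213, Int.ofNat 12, Int.negSucc 273, Int.ofNat 28, Int.negSucc 15],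
  [Int.negSucc 265, Int.negSucc 325, Int.ofNat 376, Int.negSucc 255, Int.negSucc 257, Int.ofNat 284, Int.ofNat 240, Int.negSucc 91, Int.negSucc 161, Int.ofNat 40, Int.negSucc 47, Int.negSucc 255, Int.negSucc 273, Int.negSucc 217, Int.ofNat 24, Int.ofNat 144, Int.negSucc 239, Int.negSucc 259, Int.ofNat 28, Int.negSucc 213, Int.ofNat 12, Int.negSucc 273, Int.negSucc 27, Int.negSucc 15],
  [Int.ofNat 150, Int.ofNat 210, Int.negSucc 491, Int.negSucc 151, Int.ofNat 114, Int.ofNat 388, Int.ofNat 410, Int.ofNat 78, Int.ofNat 170, Int.negSucc 33, Int.negSucc 121, Int.ofNat 76, Int.ofNat 58, Int.ofNat 154, Int.ofNat 128, Int.ofNat 70, Int.ofNat 132, Int.negSucc 155, Int.ofNat 360, Int.negSucc 43, Int.negSucc 61, Int.negSucc 103, Int.ofNat 344, Int.negSucc 99],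
  [Int.ofNat 150, Int.ofNat 360, Int.ofNat 410, Int.negSucc 151, Int.negSucc 491, Int.negSucc 103, Int.ofNat 210, Int.ofNat 388, Int.ofNat 132, Int.ofNat 58, Int.ofNat 78, Int.negSucc 43, Int.ofNat 170, Int.negSucc 33, Int.negSucc 155, Int.ofNat 70, Int.ofNat 154, Int.ofNat 76, Int.ofNat 114, Int.ofNat 344, Int.negSucc 121, Int.negSucc 61, Int.ofNat 128, Int.negSucc 99],
  [Int.ofNat 260, Int.ofNat 50, Int.ofNat 0, Int.ofNat 16, Int.negSucc 369, Int.ofNat 64, Int.negSucc 229, Int.negSucc 51, Int.negSucc 53, Int.ofNat 16, Int.ofNat 36, Int.negSucc 229, Int.negSucc 15, Int.ofNat 88, Int.ofNat 12, Int.ofNat 28, Int.ofNat 276, Int.ofNat 244, Int.negSucc 71, Int.negSucc 95, Int.negSucc 163, Int.negSucc 501, Int.ofNat 250, Int.ofNat 510],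
  [Int.negSucc 163, Int.negSucc 501, Int.ofNat 250, Int.ofNat 260, Int.ofNat 50, Int.ofNat 0, Int.ofNat 16, Int.negSucc 369, Int.ofNat 64, Int.negSucc 229, Int.negSucc 51, Int.negSucc 53, Int.ofNat 16, Int.ofNat 36, Int.negSucc 229, Int.negSucc 15, Int.ofNat 88, Int.ofNat 12, Int.ofNat 28, Int.ofNat 276, Int.ofNat 244, Int.negSucc 71, Int.negSucc 95, Int.ofNat 510],
  [Int.ofNat 211, Int.ofNat 549, Int.negSucc 202, Int.ofNat 239, Int.ofNat 11, Int.negSucc 20, Int.ofNat 91, Int.negSucc 294, Int.ofNat 37, Int.negSucc 202, Int.negSucc 24, Int.negSucc 80, Int.negSucc 10, Int.negSucc 2, Int.negSucc 250, Int.ofNat 11, Int.ofNat 49, Int.negSucc 8, Int.ofNat 1, Int.ofNat 351, Int.ofNat 271, Int.ofNat 3, Int.negSucc 134, Int.negSucc 462],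
  [Int.ofNat 549, Int.negSucc 202, Int.ofNat 239, Int.ofNat 11, Int.negSucc 20, Int.ofNat 91, Int.negSucc 294, Int.ofNat 37, Int.negSucc 202, Int.negSucc 24, Int.negSucc 80, Int.negSucc 10, Int.negSucc 2, Int.negSucc 250, Int.ofNat 11, Int.ofNat 49, Int.negSucc 8, Int.ofNat 1, Int.ofNat 351, Int.ofNat 271, Int.ofNat 3, Int.negSucc 134, Int.ofNat 211, Int.negSucc 462],
  [Int.negSucc 548, Int.negSucc 202, Int.negSucc 238, Int.ofNat 11, Int.negSucc 20, Int.ofNat 91, Int.negSucc 294, Int.negSucc 36, Int.negSucc 202, Int.ofNat 25, Int.ofNat 81, Int.ofNat 11, Int.negSucc 2, Int.negSucc 250, Int.ofNat 11, Int.ofNat 49, Int.negSucc 8, Int.ofNat 1, Int.negSucc 350, Int.ofNat 271, Int.ofNat 3, Int.ofNat 135, Int.ofNat 211, Int.negSucc 462],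
  [Int.negSucc 462, Int.ofNat 211, Int.ofNat 11, Int.ofNat 49, Int.ofNat 1, Int.ofNat 25, Int.ofNat 271, Int.negSucc 250, Int.ofNat 3, Int.ofNat 91, Int.negSucc 8, Int.negSucc 238, Int.ofNat 135, Int.negSucc 36, Int.negSucc 350, Int.ofNat 11, Int.ofNat 81, Int.negSucc 20, Int.ofNat 11, Int.negSucc 294, Int.negSucc 202, Int.negSucc 2, Int.negSucc 202, Int.negSucc 548],
  [Int.ofNat 463, Int.ofNat 211, Int.negSucc 10, Int.ofNat 49, Int.ofNat 1, Int.ofNat 25, Int.ofNat 271, Int.ofNat 251, Int.ofNat 3, Int.negSucc 90, Int.ofNat 9, Int.ofNat 239, Int.ofNat 135, Int.negSucc 36, Int.negSucc 350, Int.ofNat 11, Int.ofNat 81, Int.negSucc 20, Int.negSucc 10, Int.negSucc 294, Int.negSucc 202, Int.ofNat 3, Int.negSucc 202, Int.negSucc 548],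
  [Int.negSucc 202, Int.ofNat 463, Int.ofNat 211, Int.negSucc 10, Int.ofNat 49, Int.ofNat 1, Int.ofNat 25, Int.ofNat 271, Int.ofNat 251, Int.ofNat 3, Int.negSucc 90, Int.ofNat 9, Int.ofNat 239, Int.ofNat 135, Int.negSucc 36, Int.negSucc 350, Int.ofNat 11, Int.ofNat 81, Int.negSucc 20, Int.negSucc 10, Int.negSucc 294, Int.negSucc 202, Int.ofNat 3, Int.negSucc 548],
  [Int.ofNat 164, Int.negSucc 501, Int.negSucc 249, Int.negSucc 27, Int.negSucc 49, Int.negSucc 15, Int.negSucc 15, Int.ofNat 230, Int.ofNat 12, Int.ofNat 370, Int.ofNat 276, Int.negSucc 229, Int.ofNat 0, Int.ofNat 36, Int.negSucc 53, Int.ofNat 16, Int.negSucc 87, Int.ofNat 64, Int.negSucc 259, Int.negSucc 51, Int.ofNat 72, Int.negSucc 243, Int.negSucc 95, Int.ofNat 510],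
  [Int.negSucc 27, Int.negSucc 49, Int.negSucc 15, Int.negSucc 15, Int.ofNat 230, Int.ofNat 12, Int.ofNat 370, Int.ofNat 276, Int.negSucc 229, Int.ofNat 0, Int.ofNat 36, Int.negSucc 53, Int.ofNat 16, Int.negSucc 87, Int.ofNat 64, Int.negSucc 259, Int.negSucc 51, Int.ofNat 72, Int.negSucc 243, Int.negSucc 95, Int.ofNat 164, Int.negSucc 501, Int.negSucc 249, Int.ofNat 510],
  [Int.ofNat 236, Int.ofNat 258, Int.ofNat 224, Int.negSucc 81, Int.ofNat 310, Int.negSucc 53, Int.ofNat 346, Int.ofNat 252, Int.ofNat 26, Int.ofNat 30, Int.ofNat 66, Int.ofNat 202, Int.ofNat 272, Int.negSucc 7, Int.negSucc 1, Int.negSucc 229, Int.ofNat 28, Int.ofNat 6, Int.ofNat 12, Int.negSucc 119, Int.ofNat 194, Int.negSucc 525, Int.negSucc 169, Int.negSucc 301],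
  [Int.ofNat 236, Int.ofNat 346, Int.ofNat 310, Int.negSucc 81, Int.ofNat 12, Int.ofNat 252, Int.ofNat 224, Int.ofNat 66, Int.ofNat 272, Int.negSucc 7, Int.ofNat 194, Int.ofNat 6, Int.ofNat 30, Int.ofNat 28, Int.negSucc 169, Int.negSucc 229, Int.ofNat 26, Int.negSucc 1, Int.ofNat 258, Int.ofNat 202, Int.negSucc 525, Int.negSucc 53, Int.negSucc 119, Int.negSucc 301],
  [Int.ofNat 59, Int.negSucc 50, Int.negSucc 14, Int.negSucc 80, Int.ofNat 39, Int.ofNat 253, Int.ofNat 5, Int.negSucc 152, Int.negSucc 10, Int.ofNat 277, Int.ofNat 479, Int.negSucc 276, Int.negSucc 252, Int.ofNat 55, Int.negSucc 168, Int.ofNat 55, Int.ofNat 53, Int.negSucc 0, Int.negSucc 24, Int.negSucc 16, Int.negSucc 240, Int.negSucc 272, Int.negSucc 92, Int.ofNat 597],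
  [Int.ofNat 59, Int.negSucc 50, Int.ofNat 15, Int.negSucc 80, Int.ofNat 39, Int.negSucc 252, Int.negSucc 4, Int.negSucc 152, Int.negSucc 10, Int.negSucc 276, Int.negSucc 478, Int.negSucc 276, Int.negSucc 252, Int.ofNat 55, Int.negSucc 168, Int.negSucc 54, Int.ofNat 53, Int.negSucc 0, Int.ofNat 25, Int.negSucc 16, Int.negSucc 240, Int.negSucc 272, Int.ofNat 93, Int.ofNat 597],
  [Int.negSucc 252, Int.negSucc 240, Int.negSucc 80, Int.negSucc 276, Int.ofNat 53, Int.ofNat 15, Int.negSucc 16, Int.ofNat 93, Int.negSucc 0, Int.negSucc 272, Int.negSucc 152, Int.ofNat 39, Int.negSucc 4, Int.negSucc 50, Int.ofNat 25, Int.negSucc 478, Int.negSucc 54, Int.negSucc 276, Int.negSucc 10, Int.negSucc 168, Int.ofNat 59, Int.negSucc 252, Int.ofNat 55, Int.ofNat 597],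
  [Int.negSucc 252, Int.negSucc 240, Int.ofNat 81, Int.negSucc 276, Int.ofNat 53, Int.negSucc 14, Int.ofNat 17, Int.ofNat 93, Int.negSucc 0, Int.ofNat 273, Int.ofNat 153, Int.ofNat 39, Int.negSucc 4, Int.negSucc 50, Int.ofNat 25, Int.ofNat 479, Int.negSucc 54, Int.negSucc 276, Int.ofNat 11, Int.negSucc 168, Int.ofNat 59, Int.negSucc 252, Int.negSucc 54, Int.ofNat 597],
  [Int.ofNat 345, Int.ofNat 333, Int.ofNat 11, Int.negSucc 4, Int.ofNat 107, Int.ofNat 257, Int.ofNat 173, Int.ofNat 249, Int.negSucc 22, Int.negSucc 208, Int.negSucc 328, Int.ofNat 17, Int.negSucc 26, Int.ofNat 3, Int.ofNat 297, Int.negSucc 2, Int.negSucc 0, Int.negSucc 4, Int.negSucc 10, Int.negSucc 12, Int.negSucc 422, Int.negSucc 96, Int.negSucc 0, Int.negSucc 504],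
  [Int.ofNat 345, Int.negSucc 10, Int.ofNat 173, Int.negSucc 4, Int.ofNat 11, Int.negSucc 96, Int.ofNat 333, Int.ofNat 257, Int.negSucc 0, Int.negSucc 26, Int.ofNat 249, Int.negSucc 12, Int.negSucc 22, Int.negSucc 208, Int.negSucc 4, Int.negSucc 2, Int.ofNat 3, Int.ofNat 17, Int.ofNat 107, Int.negSucc 0, Int.negSucc 328, Int.negSucc 422, Int.ofNat 297, Int.negSucc 504],
  [Int.negSucc 343, Int.ofNat 12, Int.negSucc 171, Int.ofNat 40, Int.negSucc 39, Int.negSucc 51, Int.ofNat 250, Int.ofNat 174, Int.negSucc 35, Int.ofNat 28, Int.ofNat 304, Int.negSucc 47, Int.negSucc 57, Int.negSucc 259, Int.ofNat 40, Int.ofNat 52, Int.negSucc 47, Int.ofNat 62, Int.ofNat 72, Int.negSucc 83, Int.negSucc 273, Int.negSucc 505, Int.ofNat 246, Int.ofNat 506],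
  [Int.negSucc 273, Int.negSucc 505, Int.ofNat 246, Int.negSucc 343, Int.ofNat 12, Int.negSucc 171, Int.ofNat 40, Int.negSucc 39, Int.negSucc 51, Int.ofNat 250, Int.ofNat 174, Int.negSucc 35, Int.ofNat 28, Int.ofNat 304, Int.negSucc 47, Int.negSucc 57, Int.negSucc 259, Int.ofNat 40, Int.ofNat 52, Int.negSucc 47, Int.ofNat 62, Int.ofNat 72, Int.negSucc 83, Int.ofNat 506],
  [Int.ofNat 260, Int.ofNat 492, Int.negSucc 259, Int.negSucc 81, Int.ofNat 26, Int.ofNat 90, Int.ofNat 28, Int.negSucc 51, Int.negSucc 47, Int.ofNat 36, Int.negSucc 39, Int.negSucc 31, Int.ofNat 32, Int.ofNat 318, Int.ofNat 214, Int.negSucc 271, Int.negSucc 245, Int.ofNat 302, Int.ofNat 56, Int.negSucc 59, Int.negSucc 151, Int.ofNat 60, Int.negSucc 69, Int.negSucc 519],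
  [Int.ofNat 492, Int.negSucc 259, Int.negSucc 81, Int.ofNat 26, Int.ofNat 90, Int.ofNat 28, Int.negSucc 51, Int.negSucc 47, Int.ofNat 36, Int.negSucc 39, Int.negSucc 31, Int.ofNat 32, Int.ofNat 318, Int.ofNat 214, Int.negSucc 271, Int.negSucc 245, Int.ofNat 302, Int.ofNat 56, Int.negSucc 59, Int.negSucc 151, Int.ofNat 60, Int.negSucc 69, Int.ofNat 260, Int.negSucc 519],
  [Int.negSucc 491, Int.negSucc 259, Int.ofNat 82, Int.ofNat 26, Int.ofNat 90, Int.ofNat 28, Int.negSucc 51, Int.ofNat 48, Int.ofNat 36, Int.ofNat 40, Int.ofNat 32, Int.negSucc 31, Int.ofNat 318, Int.ofNat 214, Int.negSucc 271, Int.negSucc 245, Int.ofNat 302, Int.ofNat 56, Int.ofNat 60, Int.negSucc 151, Int.ofNat 60, Int.ofNat 70, Int.ofNat 260, Int.negSucc 519],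
  [Int.negSucc 519, Int.ofNat 260, Int.negSucc 31, Int.negSucc 245, Int.ofNat 56, Int.ofNat 40, Int.negSucc 151, Int.ofNat 214, Int.ofNat 60, Int.ofNat 28, Int.ofNat 302, Int.ofNat 82, Int.ofNat 70, Int.ofNat 48, Int.ofNat 60, Int.ofNat 26, Int.ofNat 32, Int.ofNat 90, Int.negSucc 271, Int.negSucc 51, Int.ofNat 36, Int.ofNat 318, Int.negSucc 259, Int.negSucc 491],
  [Int.ofNat 520, Int.ofNat 260, Int.ofNat 32, Int.negSucc 245, Int.ofNat 56, Int.ofNat 40, Int.negSucc 151, Int.negSucc 213, Int.ofNat 60, Int.negSucc 27, Int.negSucc 301, Int.negSucc 81, Int.ofNat 70, Int.ofNat 48, Int.ofNat 60, Int.ofNat 26, Int.ofNat 32, Int.ofNat 90, Int.ofNat 272, Int.negSucc 51, Int.ofNat 36, Int.negSucc 317, Int.negSucc 259, Int.negSucc 491],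
  [Int.negSucc 259, Int.ofNat 520, Int.ofNat 260, Int.ofNat 32, Int.negSucc 245, Int.ofNat 56, Int.ofNat 40, Int.negSucc 151, Int.negSucc 213, Int.ofNat 60, Int.negSucc 27, Int.negSucc 301, Int.negSucc 81, Int.ofNat 70, Int.ofNat 48, Int.ofNat 60, Int.ofNat 26, Int.ofNat 32, Int.ofNat 90, Int.ofNat 272, Int.negSucc 51, Int.ofNat 36, Int.negSucc 317, Int.negSucc 491],
  [Int.ofNat 274, Int.negSucc 505, Int.negSucc 245, Int.negSucc 51, Int.negSucc 11, Int.negSucc 27, Int.negSucc 57, Int.negSucc 249, Int.ofNat 40, Int.ofNat 40, Int.negSucc 47, Int.negSucc 47, Int.ofNat 172, Int.ofNat 304, Int.negSucc 35, Int.ofNat 40, Int.ofNat 260, Int.negSucc 51, Int.ofNat 344, Int.ofNat 174, Int.negSucc 71, Int.negSucc 61, Int.negSucc 83, Int.ofNat 506],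
  [Int.negSucc 51, Int.negSucc 11, Int.negSucc 27, Int.negSucc 57, Int.negSucc 249, Int.ofNat 40, Int.ofNat 40, Int.negSucc 47, Int.negSucc 47, Int.ofNat 172, Int.ofNat 304, Int.negSucc 35, Int.ofNat 40, Int.ofNat 260, Int.negSucc 51, Int.ofNat 344, Int.ofNat 174, Int.negSucc 71, Int.negSucc 61, Int.negSucc 83, Int.ofNat 274, Int.negSucc 505, Int.negSucc 245, Int.ofNat 506],
  [Int.ofNat 259, Int.ofNat 219, Int.ofNat 235, Int.ofNat 13, Int.negSucc 218, Int.ofNat 111, Int.ofNat 339, Int.ofNat 251, Int.ofNat 5, Int.negSucc 374, Int.negSucc 242, Int.ofNat 17, Int.ofNat 93, Int.ofNat 291, Int.ofNat 19, Int.negSucc 202, Int.ofNat 205, Int.negSucc 0, Int.negSucc 8, Int.ofNat 215, Int.negSucc 272, Int.negSucc 206, Int.negSucc 214, Int.negSucc 298],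
  [Int.ofNat 259, Int.ofNat 339, Int.negSucc 218, Int.ofNat 13, Int.negSucc 8, Int.ofNat 251, Int.ofNat 235, Int.negSucc 242, Int.ofNat 93, Int.ofNat 291, Int.negSucc 272, Int.negSucc 0, Int.negSucc 374, Int.ofNat 205, Int.negSucc 214, Int.negSucc 202, Int.ofNat 5, Int.ofNat 19, Int.ofNat 219, Int.ofNat 17, Int.negSucc 206, Int.ofNat 111, Int.ofNat 215, Int.negSucc 298],
  [Int.negSucc 218, Int.negSucc 298, Int.ofNat 259, Int.negSucc 20, Int.negSucc 216, Int.ofNat 217, Int.ofNat 175, Int.negSucc 302, Int.ofNat 125, Int.ofNat 487, Int.negSucc 76, Int.ofNat 31, Int.negSucc 342, Int.negSucc 2, Int.negSucc 248, Int.negSucc 6, Int.negSucc 202, Int.negSucc 14, Int.ofNat 251, Int.negSucc 42, Int.negSucc 10, Int.ofNat 51, Int.ofNat 7, Int.ofNat 339],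
  [Int.negSucc 218, Int.negSucc 298, Int.negSucc 258, Int.negSucc 20, Int.negSucc 216, Int.negSucc 216, Int.negSucc 174, Int.negSucc 302, Int.ofNat 125, Int.negSucc 486, Int.ofNat 77, Int.ofNat 31, Int.negSucc 342, Int.negSucc 2, Int.negSucc 248, Int.ofNat 7, Int.negSucc 202, Int.negSucc 14, Int.negSucc 250, Int.negSucc 42, Int.negSucc 10, Int.ofNat 51, Int.negSucc 6, Int.ofNat 339],
  [Int.negSucc 216, Int.negSucc 10, Int.negSucc 20, Int.negSucc 486, Int.negSucc 202, Int.negSucc 258, Int.negSucc 42, Int.negSucc 6, Int.negSucc 14, Int.ofNat 51, Int.negSucc 302, Int.negSucc 216, Int.negSucc 174, Int.negSucc 298, Int.negSucc 250, Int.ofNat 77, Int.ofNat 7, Int.ofNat 31, Int.ofNat 125, Int.negSucc 248, Int.negSucc 218, Int.negSucc 342, Int.negSucc 2, Int.ofNat 339],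
  [Int.negSucc 216, Int.negSucc 10, Int.ofNat 21, Int.negSucc 486, Int.negSucc 202, Int.ofNat 259, Int.ofNat 43, Int.negSucc 6, Int.negSucc 14, Int.negSucc 50, Int.ofNat 303, Int.negSucc 216, Int.negSucc 174, Int.negSucc 298, Int.negSucc 250, Int.negSucc 76, Int.ofNat 7, Int.ofNat 31, Int.negSucc 124, Int.negSucc 248, Int.negSucc 218, Int.negSucc 342, Int.ofNat 3, Int.ofNat 339],
  [Int.ofNat 283, Int.ofNat 77, Int.ofNat 45, Int.negSucc 262, Int.ofNat 43, Int.ofNat 483, Int.ofNat 321, Int.ofNat 271, Int.ofNat 251, Int.negSucc 28, Int.ofNat 325, Int.ofNat 49, Int.ofNat 91, Int.negSucc 52, Int.negSucc 26, Int.negSucc 54, Int.ofNat 253, Int.ofNat 255, Int.ofNat 141, Int.ofNat 29, Int.negSucc 196, Int.negSucc 64, Int.ofNat 249, Int.negSucc 272],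
  [Int.ofNat 283, Int.ofNat 141, Int.ofNat 321, Int.negSucc 262, Int.ofNat 45, Int.negSucc 64, Int.ofNat 77, Int.ofNat 483, Int.ofNat 253, Int.ofNat 91, Int.ofNat 271, Int.ofNat 29, Int.ofNat 251, Int.negSucc 28, Int.ofNat 255, Int.negSucc 54, Int.negSucc 52, Int.ofNat 49, Int.ofNat 43, Int.ofNat 249, Int.ofNat 325, Int.negSucc 196, Int.negSucc 26, Int.negSucc 272],
  [Int.negSucc 46, Int.ofNat 95, Int.negSucc 84, Int.negSucc 250, Int.ofNat 77, Int.negSucc 52, Int.negSucc 228, Int.ofNat 177, Int.negSucc 34, Int.negSucc 224, Int.negSucc 44, Int.negSucc 258, Int.negSucc 36, Int.ofNat 3, Int.ofNat 267, Int.negSucc 370, Int.negSucc 20, Int.ofNat 61, Int.negSucc 244, Int.negSucc 56, Int.ofNat 9, Int.negSucc 502, Int.ofNat 5, Int.ofNat 509],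
  [Int.ofNat 9, Int.negSucc 502, Int.ofNat 5, Int.negSucc 46, Int.ofNat 95, Int.negSucc 84, Int.negSucc 250, Int.ofNat 77, Int.negSucc 52, Int.negSucc 228, Int.ofNat 177, Int.negSucc 34, Int.negSucc 224, Int.negSucc 44, Int.negSucc 258, Int.negSucc 36, Int.ofNat 3, Int.ofNat 267, Int.negSucc 370, Int.negSucc 20, Int.ofNat 61, Int.negSucc 244, Int.negSucc 56, Int.ofNat 509],
  [Int.ofNat 1, Int.ofNat 513, Int.ofNat 5, Int.ofNat 15, Int.ofNat 97, Int.negSucc 22, Int.negSucc 30, Int.ofNat 297, Int.ofNat 289, Int.negSucc 214, Int.ofNat 191, Int.ofNat 307, Int.ofNat 117, Int.negSucc 42, Int.negSucc 196, Int.negSucc 22, Int.ofNat 5, Int.ofNat 329, Int.negSucc 28, Int.ofNat 199, Int.ofNat 75, Int.negSucc 24, Int.negSucc 54, Int.negSucc 498],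
  [Int.ofNat 513, Int.ofNat 5, Int.ofNat 15, Int.ofNat 97, Int.negSucc 22, Int.negSucc 30, Int.ofNat 297, Int.ofNat 289, Int.negSucc 214, Int.ofNat 191, Int.ofNat 307, Int.ofNat 117, Int.negSucc 42, Int.negSucc 196, Int.negSucc 22, Int.ofNat 5, Int.ofNat 329, Int.negSucc 28, Int.ofNat 199, Int.ofNat 75, Int.negSucc 24, Int.negSucc 54, Int.ofNat 1, Int.negSucc 498],
  [Int.negSucc 512, Int.ofNat 5, Int.negSucc 14, Int.ofNat 97, Int.negSucc 22, Int.negSucc 30, Int.ofNat 297, Int.negSucc 288, Int.negSucc 214, Int.negSucc 190, Int.negSucc 306, Int.negSucc 116, Int.negSucc 42, Int.negSucc 196, Int.negSucc 22, Int.ofNat 5, Int.ofNat 329, Int.negSucc 28, Int.negSucc 198, Int.ofNat 75, Int.negSucc 24, Int.ofNat 55, Int.ofNat 1, Int.negSucc 498],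
  [Int.negSucc 498, Int.ofNat 1, Int.negSucc 116, Int.ofNat 5, Int.negSucc 28, Int.negSucc 190, Int.ofNat 75, Int.negSucc 196, Int.negSucc 24, Int.negSucc 30, Int.ofNat 329, Int.negSucc 14, Int.ofNat 55, Int.negSucc 288, Int.negSucc 198, Int.ofNat 97, Int.negSucc 306, Int.negSucc 22, Int.negSucc 22, Int.ofNat 297, Int.negSucc 214, Int.negSucc 42, Int.ofNat 5, Int.negSucc 512],
  [Int.ofNat 499, Int.ofNat 1, Int.ofNat 117, Int.ofNat 5, Int.negSucc 28, Int.negSucc 190, Int.ofNat 75, Int.ofNat 197, Int.negSucc 24, Int.ofNat 31, Int.negSucc 328, Int.ofNat 15, Int.ofNat 55, Int.negSucc 288, Int.negSucc 198, Int.ofNat 97, Int.negSucc 306, Int.negSucc 22, Int.ofNat 23, Int.ofNat 297, Int.negSucc 214, Int.ofNat 43, Int.ofNat 5, Int.negSucc 512],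
  [Int.ofNat 5, Int.ofNat 499, Int.ofNat 1, Int.ofNat 117, Int.ofNat 5, Int.negSucc 28, Int.negSucc 190, Int.ofNat 75, Int.ofNat 197, Int.negSucc 24, Int.ofNat 31, Int.negSucc 328, Int.ofNat 15, Int.ofNat 55, Int.negSucc 288, Int.negSucc 198, Int.ofNat 97, Int.negSucc 306, Int.negSucc 22, Int.ofNat 23, Int.ofNat 297, Int.negSucc 214, Int.ofNat 43, Int.negSucc 512],
  [Int.negSucc 8, Int.negSucc 502, Int.negSucc 4, Int.ofNat 371, Int.negSucc 94, Int.ofNat 225, Int.negSucc 36, Int.ofNat 229, Int.ofNat 267, Int.negSucc 76, Int.negSucc 20, Int.negSucc 258, Int.ofNat 85, Int.negSucc 44, Int.negSucc 34, Int.negSucc 250, Int.negSucc 2, Int.negSucc 52, Int.ofNat 47, Int.ofNat 177, Int.ofNat 245, Int.negSucc 60, Int.negSucc 56, Int.ofNat 509],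
  [Int.ofNat 371, Int.negSucc 94, Int.ofNat 225, Int.negSucc 36, Int.ofNat 229, Int.ofNat 267, Int.negSucc 76, Int.negSucc 20, Int.negSucc 258, Int.ofNat 85, Int.negSucc 44, Int.negSucc 34, Int.negSucc 250, Int.negSucc 2, Int.negSucc 52, Int.ofNat 47, Int.ofNat 177, Int.ofNat 245, Int.negSucc 60, Int.negSucc 56, Int.negSucc 8, Int.negSucc 502, Int.negSucc 4, Int.ofNat 509],
  [Int.ofNat 134, Int.ofNat 600, Int.ofNat 280, Int.negSucc 247, Int.ofNat 30, Int.ofNat 56, Int.ofNat 252, Int.ofNat 308, Int.ofNat 44, Int.ofNat 46, Int.negSucc 83, Int.ofNat 268, Int.ofNat 52, Int.negSucc 201, Int.negSucc 263, Int.ofNat 8, Int.negSucc 21, Int.ofNat 34, Int.ofNat 242, Int.ofNat 272, Int.negSucc 47, Int.negSucc 173, Int.negSucc 203, Int.negSucc 3],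
  [Int.ofNat 134, Int.ofNat 252, Int.ofNat 30, Int.negSucc 247, Int.ofNat 242, Int.ofNat 308, Int.ofNat 280, Int.negSucc 83, Int.ofNat 52, Int.negSucc 201, Int.negSucc 47, Int.ofNat 34, Int.ofNat 46, Int.negSucc 21, Int.negSucc 203, Int.ofNat 8, Int.ofNat 44, Int.negSucc 263, Int.ofNat 600, Int.ofNat 268, Int.negSucc 173, Int.ofNat 56, Int.ofNat 272, Int.negSucc 3],
  [Int.ofNat 72, Int.negSucc 45, Int.ofNat 176, Int.negSucc 43, Int.negSucc 25, Int.ofNat 512, Int.ofNat 20, Int.negSucc 343, Int.negSucc 313, Int.ofNat 6, Int.ofNat 160, Int.negSucc 331, Int.negSucc 319, Int.negSucc 289, Int.ofNat 0, Int.ofNat 216, Int.negSucc 223, Int.negSucc 59, Int.ofNat 234, Int.ofNat 8, Int.ofNat 34, Int.negSucc 203, Int.ofNat 4, Int.ofNat 210],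
  [Int.ofNat 72, Int.negSucc 45, Int.negSucc 175, Int.negSucc 43, Int.negSucc 25, Int.negSucc 511, Int.negSucc 19, Int.negSucc 343, Int.negSucc 313, Int.negSucc 5, Int.negSucc 159, Int.negSucc 331, Int.negSucc 319, Int.negSucc 289, Int.ofNat 0, Int.negSucc 215, Int.negSucc 223, Int.negSucc 59, Int.negSucc 233, Int.ofNat 8, Int.ofNat 34, Int.negSucc 203, Int.negSucc 3, Int.ofNat 210],
  [Int.negSucc 511, Int.ofNat 34, Int.negSucc 43, Int.negSucc 5, Int.negSucc 223, Int.negSucc 175, Int.ofNat 8, Int.negSucc 3, Int.negSucc 59, Int.negSucc 203, Int.negSucc 343, Int.negSucc 25, Int.negSucc 19, Int.negSucc 45, Int.negSucc 233, Int.negSucc 159, Int.negSucc 215, Int.negSucc 331, Int.negSucc 313, Int.ofNat 0, Int.ofNat 72, Int.negSucc 319, Int.negSucc 289, Int.ofNat 210],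
  [Int.negSucc 511, Int.ofNat 34, Int.ofNat 44, Int.negSucc 5, Int.negSucc 223, Int.ofNat 176, Int.negSucc 7, Int.negSucc 3, Int.negSucc 59, Int.ofNat 204, Int.ofNat 344, Int.negSucc 25, Int.negSucc 19, Int.negSucc 45, Int.negSucc 233, Int.ofNat 160, Int.negSucc 215, Int.negSucc 331, Int.ofNat 314, Int.ofNat 0, Int.ofNat 72, Int.negSucc 319, Int.ofNat 290, Int.ofNat 210],
  [Int.ofNat 400, Int.negSucc 145, Int.negSucc 155, Int.ofNat 192, Int.negSucc 125, Int.ofNat 374, Int.ofNat 158, Int.ofNat 162, Int.negSucc 163, Int.negSucc 185, Int.negSucc 45, Int.negSucc 129, Int.negSucc 123, Int.ofNat 52, Int.negSucc 35, Int.negSucc 229, Int.negSucc 117, Int.negSucc 133, Int.ofNat 210, Int.ofNat 166, Int.negSucc 317, Int.negSucc 153, Int.ofNat 388, Int.negSucc 321],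
  [Int.ofNat 400, Int.ofNat 210, Int.ofNat 158, Int.ofNat 192, Int.negSucc 155, Int.negSucc 153, Int.negSucc 145, Int.ofNat 374, Int.negSucc 117, Int.negSucc 123, Int.ofNat 162, Int.ofNat 166, Int.negSucc 163, Int.negSucc 185, Int.negSucc 133, Int.negSucc 229, Int.ofNat 52, Int.negSucc 129, Int.negSucc 125, Int.ofNat 388, Int.negSucc 45, Int.negSucc 317, Int.negSucc 35, Int.negSucc 321],
  [Int.negSucc 176, Int.ofNat 13, Int.ofNat 65, Int.ofNat 305, Int.ofNat 7, Int.negSucc 40, Int.negSucc 294, Int.ofNat 225, Int.ofNat 3, Int.negSucc 4, Int.ofNat 281, Int.ofNat 287, Int.negSucc 42, Int.negSucc 22, Int.negSucc 20, Int.negSucc 110, Int.ofNat 215, Int.negSucc 16, Int.negSucc 4, Int.ofNat 239, Int.ofNat 73, Int.negSucc 466, Int.ofNat 127, Int.ofNat 545],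
  [Int.ofNat 73, Int.negSucc 466, Int.ofNat 127, Int.negSucc 176, Int.ofNat 13, Int.ofNat 65, Int.ofNat 305, Int.ofNat 7, Int.negSucc 40, Int.negSucc 294, Int.ofNat 225, Int.ofNat 3, Int.negSucc 4, Int.ofNat 281, Int.ofNat 287, Int.negSucc 42, Int.negSucc 22, Int.negSucc 20, Int.negSucc 110, Int.ofNat 215, Int.negSucc 16, Int.negSucc 4, Int.ofNat 239, Int.ofNat 545],
  [Int.ofNat 66, Int.ofNat 606, Int.ofNat 12, Int.negSucc 253, Int.negSucc 241, Int.negSucc 11, Int.ofNat 44, Int.negSucc 253, Int.ofNat 36, Int.negSucc 229, Int.ofNat 290, Int.ofNat 80, Int.ofNat 72, Int.ofNat 26, Int.ofNat 210, Int.ofNat 22, Int.negSucc 277, Int.negSucc 97, Int.negSucc 33, Int.negSucc 45, Int.ofNat 48, Int.negSucc 265, Int.negSucc 15, Int.negSucc 405],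
  [Int.ofNat 606, Int.ofNat 12, Int.negSucc 253, Int.negSucc 241, Int.negSucc 11, Int.ofNat 44, Int.negSucc 253, Int.ofNat 36, Int.negSucc 229, Int.ofNat 290, Int.ofNat 80, Int.ofNat 72, Int.ofNat 26, Int.ofNat 210, Int.ofNat 22, Int.negSucc 277, Int.negSucc 97, Int.negSucc 33, Int.negSucc 45, Int.ofNat 48, Int.negSucc 265, Int.negSucc 15, Int.ofNat 66, Int.negSucc 405],
  [Int.negSucc 605, Int.ofNat 12, Int.ofNat 254, Int.negSucc 241, Int.negSucc 11, Int.ofNat 44, Int.negSucc 253, Int.negSucc 35, Int.negSucc 229, Int.negSucc 289, Int.negSucc 79, Int.negSucc 71, Int.ofNat 26, Int.ofNat 210, Int.ofNat 22, Int.negSucc 277, Int.negSucc 97, Int.negSucc 33, Int.ofNat 46, Int.ofNat 48, Int.negSucc 265, Int.ofNat 16, Int.ofNat 66, Int.negSucc 405],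
  [Int.negSucc 405, Int.ofNat 66, Int.negSucc 71, Int.negSucc 277, Int.negSucc 33, Int.negSucc 289, Int.ofNat 48, Int.ofNat 210, Int.negSucc 265, Int.ofNat 44, Int.negSucc 97, Int.ofNat 254, Int.ofNat 16, Int.negSucc 35, Int.ofNat 46, Int.negSucc 241, Int.negSucc 79, Int.negSucc 11, Int.ofNat 22, Int.negSucc 253, Int.negSucc 229, Int.ofNat 26, Int.ofNat 12, Int.negSucc 605],
  [Int.ofNat 406, Int.ofNat 66, Int.ofNat 72, Int.negSucc 277, Int.negSucc 33, Int.negSucc 289, Int.ofNat 48, Int.negSucc 209, Int.negSucc 265, Int.negSucc 43, Int.ofNat 98, Int.negSucc 253, Int.ofNat 16, Int.negSucc 35, Int.ofNat 46, Int.negSucc 241, Int.negSucc 79, Int.negSucc 11, Int.negSucc 21, Int.negSucc 253, Int.negSucc 229, Int.negSucc 25, Int.ofNat 12, Int.negSucc 605],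
  [Int.ofNat 12, Int.ofNat 406, Int.ofNat 66, Int.ofNat 72, Int.negSucc 277, Int.negSucc 33, Int.negSucc 289, Int.ofNat 48, Int.negSucc 209, Int.negSucc 265, Int.negSucc 43, Int.ofNat 98, Int.negSucc 253, Int.ofNat 16, Int.negSucc 35, Int.ofNat 46, Int.negSucc 241, Int.negSucc 79, Int.negSucc 11, Int.negSucc 21, Int.negSucc 253, Int.negSucc 229, Int.negSucc 25, Int.negSucc 605],
  [Int.negSucc 72, Int.negSucc 466, Int.negSucc 126, Int.ofNat 111, Int.negSucc 12, Int.ofNat 5, Int.negSucc 42, Int.ofNat 295, Int.negSucc 20, Int.negSucc 6, Int.ofNat 215, Int.ofNat 287, Int.negSucc 64, Int.ofNat 281, Int.ofNat 3, Int.ofNat 305, Int.ofNat 23, Int.negSucc 40, Int.ofNat 177, Int.ofNat 225, Int.ofNat 5, Int.ofNat 17, Int.ofNat 239, Int.ofNat 545],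
  [Int.ofNat 111, Int.negSucc 12, Int.ofNat 5, Int.negSucc 42, Int.ofNat 295, Int.negSucc 20, Int.negSucc 6, Int.ofNat 215, Int.ofNat 287, Int.negSucc 64, Int.ofNat 281, Int.ofNat 3, Int.ofNat 305, Int.ofNat 23, Int.negSucc 40, Int.ofNat 177, Int.ofNat 225, Int.ofNat 5, Int.ofNat 17, Int.ofNat 239, Int.negSucc 72, Int.negSucc 466, Int.negSucc 126, Int.ofNat 545],
  [Int.ofNat 213, Int.ofNat 337, Int.ofNat 319, Int.ofNat 7, Int.ofNat 87, Int.ofNat 29, Int.ofNat 3, Int.ofNat 225, Int.negSucc 18, Int.negSucc 224, Int.ofNat 121, Int.negSucc 302, Int.negSucc 0, Int.negSucc 184, Int.ofNat 9, Int.ofNat 17, Int.ofNat 17, Int.ofNat 55, Int.negSucc 288, Int.ofNat 249, Int.negSucc 232, Int.negSucc 456, Int.negSucc 334, Int.negSucc 220],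
  [Int.ofNat 213, Int.ofNat 3, Int.ofNat 87, Int.ofNat 7, Int.negSucc 288, Int.ofNat 225, Int.ofNat 319, Int.ofNat 121, Int.negSucc 0, Int.negSucc 184, Int.negSucc 232, Int.ofNat 55, Int.negSucc 224, Int.ofNat 17, Int.negSucc 334, Int.ofNat 17, Int.negSucc 18, Int.ofNat 9, Int.ofNat 337, Int.negSucc 302, Int.negSucc 456, Int.ofNat 29, Int.ofNat 249, Int.negSucc 220],
  [Int.negSucc 171, Int.ofNat 38, Int.negSucc 45, Int.ofNat 54, Int.negSucc 267, Int.ofNat 272, Int.ofNat 236, Int.ofNat 38, Int.negSucc 83, Int.ofNat 244, Int.ofNat 196, Int.negSucc 27, Int.negSucc 307, Int.ofNat 38, Int.negSucc 287, Int.ofNat 446, Int.ofNat 2, Int.ofNat 56, Int.ofNat 254, Int.negSucc 385, Int.negSucc 27, Int.negSucc 53, Int.ofNat 270, Int.ofNat 262],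
  [Int.negSucc 171, Int.ofNat 38, Int.ofNat 46, Int.ofNat 54, Int.negSucc 267, Int.negSucc 271, Int.negSucc 235, Int.ofNat 38, Int.negSucc 83, Int.negSucc 243, Int.negSucc 195, Int.negSucc 27, Int.negSucc 307, Int.ofNat 38, Int.negSucc 287, Int.negSucc 445, Int.ofNat 2, Int.ofNat 56, Int.negSucc 253, Int.negSucc 385, Int.negSucc 27, Int.negSucc 53, Int.negSucc 269, Int.ofNat 262],
  [Int.negSucc 271, Int.negSucc 27, Int.ofNat 54, Int.negSucc 243, Int.ofNat 2, Int.ofNat 46, Int.negSucc 385, Int.negSucc 269, Int.ofNat 56, Int.negSucc 53, Int.ofNat 38, Int.negSucc 267, Int.negSucc 235, Int.ofNat 38, Int.negSucc 253, Int.negSucc 195, Int.negSucc 445, Int.negSucc 27, Int.negSucc 83, Int.negSucc 287, Int.negSucc 171, Int.negSucc 307, Int.ofNat 38, Int.ofNat 262],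
  [Int.negSucc 271, Int.negSucc 27, Int.negSucc 53, Int.negSucc 243, Int.ofNat 2, Int.negSucc 45, Int.ofNat 386, Int.negSucc 269, Int.ofNat 56, Int.ofNat 54, Int.negSucc 37, Int.negSucc 267, Int.negSucc 235, Int.ofNat 38, Int.negSucc 253, Int.ofNat 196, Int.negSucc 445, Int.negSucc 27, Int.ofNat 84, Int.negSucc 287, Int.negSucc 171, Int.negSucc 307, Int.negSucc 37, Int.ofNat 262],
  [Int.ofNat 226, Int.negSucc 17, Int.ofNat 8, Int.ofNat 42, Int.ofNat 224, Int.ofNat 240, Int.ofNat 626, Int.negSucc 29, Int.ofNat 238, Int.ofNat 34, Int.negSucc 57, Int.negSucc 85, Int.negSucc 53, Int.ofNat 260, Int.ofNat 32, Int.ofNat 176, Int.negSucc 223, Int.ofNat 258, Int.ofNat 266, Int.negSucc 47, Int.negSucc 191, Int.negSucc 67, Int.ofNat 184, Int.negSucc 307],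
  [Int.ofNat 226, Int.ofNat 266, Int.ofNat 626, Int.ofNat 42, Int.ofNat 8, Int.negSucc 67, Int.negSucc 17, Int.ofNat 240, Int.negSucc 223, Int.negSucc 53, Int.negSucc 29, Int.negSucc 47, Int.ofNat 238, Int.ofNat 34, Int.ofNat 258, Int.ofNat 176, Int.ofNat 260, Int.negSucc 85, Int.ofNat 224, Int.ofNat 184, Int.negSucc 57, Int.negSucc 191, Int.ofNat 32, Int.negSucc 307],
  [Int.ofNat 179, Int.ofNat 139, Int.negSucc 220, Int.negSucc 30, Int.negSucc 158, Int.negSucc 140, Int.negSucc 124, Int.ofNat 133, Int.negSucc 318, Int.negSucc 70, Int.negSucc 46, Int.negSucc 142, Int.ofNat 143, Int.negSucc 132, Int.ofNat 185, Int.ofNat 159, Int.ofNat 93, Int.negSucc 158, Int.ofNat 129, Int.ofNat 77, Int.negSucc 74, Int.negSucc 298, Int.negSucc 134, Int.ofNat 713],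
  [Int.negSucc 74, Int.negSucc 298, Int.negSucc 134, Int.ofNat 179, Int.ofNat 139, Int.negSucc 220, Int.negSucc 30, Int.negSucc 158, Int.negSucc 140, Int.negSucc 124, Int.ofNat 133, Int.negSucc 318, Int.negSucc 70, Int.negSucc 46, Int.negSucc 142, Int.ofNat 143, Int.negSucc 132, Int.ofNat 185, Int.ofNat 159, Int.ofNat 93, Int.negSucc 158, Int.ofNat 129, Int.ofNat 77, Int.ofNat 713],
  [Int.ofNat 177, Int.ofNat 401, Int.ofNat 237, Int.ofNat 179, Int.ofNat 121, Int.negSucc 220, Int.negSucc 46, Int.negSucc 174, Int.ofNat 45, Int.negSucc 120, Int.ofNat 137, Int.negSucc 132, Int.ofNat 115, Int.negSucc 64, Int.negSucc 142, Int.ofNat 147, Int.negSucc 150, Int.ofNat 185, Int.ofNat 345, Int.ofNat 77, Int.negSucc 154, Int.ofNat 113, Int.ofNat 59, Int.negSucc 610],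
  [Int.ofNat 401, Int.ofNat 237, Int.ofNat 179, Int.ofNat 121, Int.negSucc 220, Int.negSucc 46, Int.negSucc 174, Int.ofNat 45, Int.negSucc 120, Int.ofNat 137, Int.negSucc 132, Int.ofNat 115, Int.negSucc 64, Int.negSucc 142, Int.ofNat 147, Int.negSucc 150, Int.ofNat 185, Int.ofNat 345, Int.ofNat 77, Int.negSucc 154, Int.ofNat 113, Int.ofNat 59, Int.ofNat 177, Int.negSucc 610],
  [Int.negSucc 400, Int.ofNat 237, Int.negSucc 178, Int.ofNat 121, Int.negSucc 220, Int.negSucc 46, Int.negSucc 174, Int.negSucc 44, Int.negSucc 120, Int.negSucc 136, Int.ofNat 133, Int.negSucc 114, Int.negSucc 64, Int.negSucc 142, Int.ofNat 147, Int.negSucc 150, Int.ofNat 185, Int.ofNat 345, Int.negSucc 76, Int.negSucc 154, Int.ofNat 113, Int.negSucc 58, Int.ofNat 177, Int.negSucc 610],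
  [Int.negSucc 610, Int.ofNat 177, Int.negSucc 114, Int.negSucc 150, Int.ofNat 345, Int.negSucc 136, Int.negSucc 154, Int.negSucc 142, Int.ofNat 113, Int.negSucc 46, Int.ofNat 185, Int.negSucc 178, Int.negSucc 58, Int.negSucc 44, Int.negSucc 76, Int.ofNat 121, Int.ofNat 133, Int.negSucc 220, Int.ofNat 147, Int.negSucc 174, Int.negSucc 120, Int.negSucc 64, Int.ofNat 237, Int.negSucc 400],
  [Int.ofNat 611, Int.ofNat 177, Int.ofNat 115, Int.negSucc 150, Int.ofNat 345, Int.negSucc 136, Int.negSucc 154, Int.ofNat 143, Int.ofNat 113, Int.ofNat 47, Int.negSucc 184, Int.ofNat 179, Int.negSucc 58, Int.negSucc 44, Int.negSucc 76, Int.ofNat 121, Int.ofNat 133, Int.negSucc 220, Int.negSucc 146, Int.negSucc 174, Int.negSucc 120, Int.ofNat 65, Int.ofNat 237, Int.negSucc 400],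
  [Int.ofNat 237, Int.ofNat 611, Int.ofNat 177, Int.ofNat 115, Int.negSucc 150, Int.ofNat 345, Int.negSucc 136, Int.negSucc 154, Int.ofNat 143, Int.ofNat 113, Int.ofNat 47, Int.negSucc 184, Int.ofNat 179, Int.negSucc 58, Int.negSucc 44, Int.negSucc 76, Int.ofNat 121, Int.ofNat 133, Int.negSucc 220, Int.negSucc 146, Int.negSucc 174, Int.negSucc 120, Int.ofNat 65, Int.negSucc 400],
  [Int.ofNat 75, Int.negSucc 298, Int.ofNat 135, Int.negSucc 158, Int.negSucc 138, Int.ofNat 71, Int.ofNat 143, Int.ofNat 125, Int.ofNat 185, Int.ofNat 159, Int.ofNat 93, Int.negSucc 142, Int.ofNat 221, Int.negSucc 46, Int.negSucc 318, Int.negSucc 30, Int.ofNat 133, Int.negSucc 140, Int.negSucc 178, Int.ofNat 133, Int.negSucc 128, Int.ofNat 159, Int.ofNat 77, Int.ofNat 713],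
  [Int.negSucc 158, Int.negSucc 138, Int.ofNat 71, Int.ofNat 143, Int.ofNat 125, Int.ofNat 185, Int.ofNat 159, Int.ofNat 93, Int.negSucc 142, Int.ofNat 221, Int.negSucc 46, Int.negSucc 318, Int.negSucc 30, Int.ofNat 133, Int.negSucc 140, Int.negSucc 178, Int.ofNat 133, Int.negSucc 128, Int.ofNat 159, Int.ofNat 77, Int.ofNat 75, Int.negSucc 298, Int.ofNat 135, Int.ofNat 713],
  [Int.ofNat 402, Int.ofNat 382, Int.ofNat 172, Int.ofNat 114, Int.negSucc 137, Int.ofNat 156, Int.ofNat 144, Int.ofNat 78, Int.ofNat 24, Int.ofNat 186, Int.negSucc 81, Int.negSucc 151, Int.ofNat 136, Int.negSucc 129, Int.negSucc 169, Int.negSucc 213, Int.negSucc 129, Int.negSucc 157, Int.ofNat 326, Int.ofNat 62, Int.ofNat 40, Int.negSucc 313, Int.negSucc 127, Int.negSucc 469],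
  [Int.ofNat 402, Int.ofNat 144, Int.negSucc 137, Int.ofNat 114, Int.ofNat 326, Int.ofNat 78, Int.ofNat 172, Int.negSucc 81, Int.ofNat 136, Int.negSucc 129, Int.ofNat 40, Int.negSucc 157, Int.ofNat 186, Int.negSucc 129, Int.negSucc 127, Int.negSucc 213, Int.ofNat 24, Int.negSucc 169, Int.ofNat 382, Int.negSucc 151, Int.negSucc 313, Int.ofNat 156, Int.ofNat 62, Int.negSucc 469],
  [Int.negSucc 432, Int.negSucc 174, Int.ofNat 107, Int.ofNat 167, Int.ofNat 185, Int.ofNat 131, Int.ofNat 125, Int.negSucc 128, Int.negSucc 136, Int.ofNat 179, Int.ofNat 349, Int.negSucc 430, Int.negSucc 86, Int.negSucc 270, Int.negSucc 74, Int.ofNat 95, Int.negSucc 116, Int.negSucc 116, Int.ofNat 109, Int.negSucc 198, Int.negSucc 4, Int.ofNat 109, Int.negSucc 78, Int.ofNat 439],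
  [Int.negSucc 432, Int.negSucc 174, Int.negSucc 106, Int.ofNat 167, Int.ofNat 185, Int.negSucc 130, Int.negSucc 124, Int.negSucc 128, Int.negSucc 136, Int.negSucc 178, Int.negSucc 348, Int.negSucc 430, Int.negSucc 86, Int.negSucc 270, Int.negSucc 74, Int.negSucc 94, Int.negSucc 116, Int.negSucc 116, Int.negSucc 108, Int.negSucc 198, Int.negSucc 4, Int.ofNat 109, Int.ofNat 79, Int.ofNat 439],
  [Int.negSucc 130, Int.negSucc 4, Int.ofNat 167, Int.negSucc 178, Int.negSucc 116, Int.negSucc 106, Int.negSucc 198, Int.ofNat 79, Int.negSucc 116, Int.ofNat 109, Int.negSucc 128, Int.ofNat 185, Int.negSucc 124, Int.negSucc 174, Int.negSucc 108, Int.negSucc 348, Int.negSucc 94, Int.negSucc 430, Int.negSucc 136, Int.negSucc 74, Int.negSucc 432, Int.negSucc 86, Int.negSucc 270, Int.ofNat 439],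
  [Int.negSucc 130, Int.negSucc 4, Int.negSucc 166, Int.negSucc 178, Int.negSucc 116, Int.ofNat 107, Int.ofNat 199, Int.ofNat 79, Int.negSucc 116, Int.negSucc 108, Int.ofNat 129, Int.ofNat 185, Int.negSucc 124, Int.negSucc 174, Int.negSucc 108, Int.ofNat 349, Int.negSucc 94, Int.negSucc 430, Int.ofNat 137, Int.negSucc 74, Int.negSucc 432, Int.negSucc 86, Int.ofNat 271, Int.ofNat 439],
  [Int.ofNat 199, Int.ofNat 73, Int.ofNat 235, Int.ofNat 127, Int.negSucc 58, Int.ofNat 413, Int.ofNat 141, Int.ofNat 21, Int.negSucc 156, Int.negSucc 76, Int.ofNat 161, Int.ofNat 145, Int.negSucc 164, Int.negSucc 116, Int.ofNat 197, Int.ofNat 381, Int.negSucc 36, Int.negSucc 124, Int.ofNat 97, Int.negSucc 132, Int.negSucc 400, Int.negSucc 144, Int.ofNat 329, Int.negSucc 370],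
  [Int.ofNat 199, Int.ofNat 97, Int.ofNat 141, Int.ofNat 127, Int.ofNat 235, Int.negSucc 144, Int.ofNat 73, Int.ofNat 413, Int.negSucc 36, Int.negSucc 164, Int.ofNat 21, Int.negSucc 132, Int.negSucc 156, Int.negSucc 76, Int.negSucc 124, Int.ofNat 381, Int.negSucc 116, Int.ofNat 145, Int.negSucc 58, Int.ofNat 329, Int.ofNat 161, Int.negSucc 400, Int.ofNat 197, Int.negSucc 370],
  [Int.negSucc 165, Int.negSucc 63, Int.negSucc 107, Int.ofNat 126, Int.ofNat 116, Int.negSucc 145, Int.negSucc 133, Int.ofNat 206, Int.ofNat 156, Int.negSucc 363, Int.negSucc 177, Int.ofNat 60, Int.ofNat 36, Int.negSucc 195, Int.negSucc 125, Int.ofNat 182, Int.negSucc 235, Int.ofNat 144, Int.ofNat 134, Int.ofNat 122, Int.negSucc 37, Int.negSucc 607, Int.ofNat 78, Int.ofNat 404],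
  [Int.negSucc 37, Int.negSucc 607, Int.ofNat 78, Int.negSucc 165, Int.negSucc 63, Int.negSucc 107, Int.ofNat 126, Int.ofNat 116, Int.negSucc 145, Int.negSucc 133, Int.ofNat 206, Int.ofNat 156, Int.negSucc 363, Int.negSucc 177, Int.ofNat 60, Int.ofNat 36, Int.negSucc 195, Int.negSucc 125, Int.ofNat 182, Int.negSucc 235, Int.ofNat 144, Int.ofNat 134, Int.ofNat 122, Int.ofNat 404],
  [Int.negSucc 43, Int.ofNat 526, Int.negSucc 159, Int.ofNat 4, Int.ofNat 94, Int.ofNat 62, Int.ofNat 56, Int.ofNat 46, Int.negSucc 59, Int.negSucc 259, Int.ofNat 80, Int.ofNat 242, Int.negSucc 277, Int.negSucc 19, Int.ofNat 230, Int.negSucc 89, Int.negSucc 37, Int.ofNat 44, Int.ofNat 268, Int.negSucc 305, Int.ofNat 18, Int.ofNat 64, Int.ofNat 280, Int.negSucc 485],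
  [Int.ofNat 526, Int.negSucc 159, Int.ofNat 4, Int.ofNat 94, Int.ofNat 62, Int.ofNat 56, Int.ofNat 46, Int.negSucc 59, Int.negSucc 259, Int.ofNat 80, Int.ofNat 242, Int.negSucc 277, Int.negSucc 19, Int.ofNat 230, Int.negSucc 89, Int.negSucc 37, Int.ofNat 44, Int.ofNat 268, Int.negSucc 305, Int.ofNat 18, Int.ofNat 64, Int.ofNat 280, Int.negSucc 43, Int.negSucc 485],
  [Int.negSucc 525, Int.negSucc 159, Int.negSucc 3, Int.ofNat 94, Int.ofNat 62, Int.ofNat 56, Int.ofNat 46, Int.ofNat 60, Int.negSucc 259, Int.negSucc 79, Int.negSucc 241, Int.ofNat 278, Int.negSucc 19, Int.ofNat 230, Int.negSucc 89, Int.negSucc 37, Int.ofNat 44, Int.ofNat 268, Int.ofNat 306, Int.ofNat 18, Int.ofNat 64, Int.negSucc 279, Int.negSucc 43, Int.negSucc 485],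
  [Int.negSucc 485, Int.negSucc 43, Int.ofNat 278, Int.negSucc 37, Int.ofNat 268, Int.negSucc 79, Int.ofNat 18, Int.ofNat 230, Int.ofNat 64, Int.ofNat 56, Int.ofNat 44, Int.negSucc 3, Int.negSucc 279, Int.ofNat 60, Int.ofNat 306, Int.ofNat 94, Int.negSucc 241, Int.ofNat 62, Int.negSucc 89, Int.ofNat 46, Int.negSucc 259, Int.negSucc 19, Int.negSucc 159, Int.negSucc 525],
  [Int.ofNat 486, Int.negSucc 43, Int.negSucc 277, Int.negSucc 37, Int.ofNat 268, Int.negSucc 79, Int.ofNat 18, Int.negSucc 229, Int.ofNat 64, Int.negSucc 55, Int.negSucc 43, Int.ofNat 4, Int.negSucc 279, Int.ofNat 60, Int.ofNat 306, Int.ofNat 94, Int.negSucc 241, Int.ofNat 62, Int.ofNat 90, Int.ofNat 46, Int.negSucc 259, Int.ofNat 20, Int.negSucc 159, Int.negSucc 525],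
  [Int.negSucc 159, Int.ofNat 486, Int.negSucc 43, Int.negSucc 277, Int.negSucc 37, Int.ofNat 268, Int.negSucc 79, Int.ofNat 18, Int.negSucc 229, Int.ofNat 64, Int.negSucc 55, Int.negSucc 43, Int.ofNat 4, Int.negSucc 279, Int.ofNat 60, Int.ofNat 306, Int.ofNat 94, Int.negSucc 241, Int.ofNat 62, Int.ofNat 90, Int.ofNat 46, Int.negSucc 259, Int.ofNat 20, Int.negSucc 525],
  [Int.ofNat 38, Int.negSucc 607, Int.negSucc 77, Int.negSucc 181, Int.ofNat 64, Int.ofNat 364, Int.ofNat 36, Int.ofNat 134, Int.negSucc 125, Int.negSucc 115, Int.negSucc 235, Int.ofNat 60, Int.ofNat 108, Int.negSucc 177, Int.ofNat 156, Int.ofNat 126, Int.ofNat 196, Int.negSucc 145, Int.ofNat 166, Int.ofNat 206, Int.negSucc 133, Int.negSucc 143, Int.ofNat 122, Int.ofNat 404],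
  [Int.negSucc 181, Int.ofNat 64, Int.ofNat 364, Int.ofNat 36, Int.ofNat 134, Int.negSucc 125, Int.negSucc 115, Int.negSucc 235, Int.ofNat 60, Int.ofNat 108, Int.negSucc 177, Int.ofNat 156, Int.ofNat 126, Int.ofNat 196, Int.negSucc 145, Int.ofNat 166, Int.ofNat 206, Int.negSucc 133, Int.negSucc 143, Int.ofNat 122, Int.ofNat 38, Int.negSucc 607, Int.negSucc 77, Int.ofNat 404],
  [Int.ofNat 507, Int.ofNat 261, Int.negSucc 38, Int.ofNat 221, Int.negSucc 94, Int.ofNat 59, Int.ofNat 303, Int.ofNat 183, Int.negSucc 38, Int.ofNat 41, Int.negSucc 244, Int.ofNat 57, Int.ofNat 27, Int.negSucc 32, Int.ofNat 39, Int.ofNat 99, Int.negSucc 22, Int.ofNat 51, Int.negSucc 242, Int.ofNat 541, Int.negSucc 28, Int.negSucc 188, Int.negSucc 306, Int.negSucc 78],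
  [Int.ofNat 507, Int.ofNat 303, Int.negSucc 94, Int.ofNat 221, Int.negSucc 242, Int.ofNat 183, Int.negSucc 38, Int.negSucc 244, Int.ofNat 27, Int.negSucc 32, Int.negSucc 28, Int.ofNat 51, Int.ofNat 41, Int.negSucc 22, Int.negSucc 306, Int.ofNat 99, Int.negSucc 38, Int.ofNat 39, Int.ofNat 261, Int.ofNat 57, Int.negSucc 188, Int.ofNat 59, Int.ofNat 541, Int.negSucc 78],
  [Int.negSucc 188, Int.ofNat 15, Int.ofNat 413, Int.ofNat 153, Int.negSucc 360, Int.ofNat 115, Int.ofNat 45, Int.negSucc 160, Int.negSucc 162, Int.ofNat 43, Int.ofNat 47, Int.negSucc 138, Int.negSucc 148, Int.negSucc 140, Int.negSucc 374, Int.ofNat 175, Int.negSucc 156, Int.negSucc 28, Int.ofNat 71, Int.ofNat 141, Int.negSucc 112, Int.ofNat 143, Int.ofNat 423, Int.ofNat 397],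
  [Int.negSucc 188, Int.ofNat 15, Int.negSucc 412, Int.ofNat 153, Int.negSucc 360, Int.negSucc 114, Int.negSucc 44, Int.negSucc 160, Int.negSucc 162, Int.negSucc 42, Int.negSucc 46, Int.negSucc 138, Int.negSucc 148, Int.negSucc 140, Int.negSucc 374, Int.negSucc 174, Int.negSucc 156, Int.negSucc 28, Int.negSucc 70, Int.ofNat 141, Int.negSucc 112, Int.ofNat 143, Int.negSucc 422, Int.ofNat 397],
  [Int.negSucc 114, Int.negSucc 112, Int.ofNat 153, Int.negSucc 42, Int.negSucc 156, Int.negSucc 412, Int.ofNat 141, Int.negSucc 422, Int.negSucc 28, Int.ofNat 143, Int.negSucc 160, Int.negSucc 360, Int.negSucc 44, Int.ofNat 15, Int.negSucc 70, Int.negSucc 46, Int.negSucc 174, Int.negSucc 138, Int.negSucc 162, Int.negSucc 374, Int.negSucc 188, Int.negSucc 148, Int.negSucc 140, Int.ofNat 397],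
  [Int.negSucc 114, Int.negSucc 112, Int.negSucc 152, Int.negSucc 42, Int.negSucc 156, Int.ofNat 413, Int.negSucc 140, Int.negSucc 422, Int.negSucc 28, Int.negSucc 142, Int.ofNat 161, Int.negSucc 360, Int.negSucc 44, Int.ofNat 15, Int.negSucc 70, Int.ofNat 47, Int.negSucc 174, Int.negSucc 138, Int.ofNat 163, Int.negSucc 374, Int.negSucc 188, Int.negSucc 148, Int.ofNat 141, Int.ofNat 397],
  [Int.ofNat 123, Int.ofNat 121, Int.ofNat 161, Int.negSucc 122, Int.negSucc 68, Int.ofNat 333, Int.ofNat 403, Int.ofNat 121, Int.ofNat 107, Int.negSucc 80, Int.ofNat 223, Int.negSucc 224, Int.ofNat 91, Int.ofNat 103, Int.negSucc 150, Int.ofNat 109, Int.negSucc 86, Int.negSucc 218, Int.ofNat 299, Int.ofNat 169, Int.negSucc 126, Int.ofNat 395, Int.ofNat 229, Int.negSucc 388],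
  [Int.ofNat 123, Int.ofNat 299, Int.ofNat 403, Int.negSucc 122, Int.ofNat 161, Int.ofNat 395, Int.ofNat 121, Int.ofNat 333, Int.negSucc 86, Int.ofNat 91, Int.ofNat 121, Int.ofNat 169, Int.ofNat 107, Int.negSucc 80, Int.negSucc 218, Int.ofNat 109, Int.ofNat 103, Int.negSucc 224, Int.negSucc 68, Int.ofNat 229, Int.ofNat 223, Int.negSucc 126, Int.negSucc 150, Int.negSucc 388],
  [Int.ofNat 95, Int.negSucc 80, Int.negSucc 184, Int.negSucc 36, Int.ofNat 145, Int.ofNat 481, Int.negSucc 156, Int.ofNat 55, Int.negSucc 146, Int.negSucc 180, Int.negSucc 150, Int.ofNat 109, Int.ofNat 47, Int.negSucc 96, Int.negSucc 132, Int.negSucc 162, Int.ofNat 87, Int.negSucc 138, Int.negSucc 128, Int.negSucc 48, Int.negSucc 48, Int.negSucc 404, Int.negSucc 166, Int.ofNat 607],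
  [Int.negSucc 48, Int.negSucc 404, Int.negSucc 166, Int.ofNat 95, Int.negSucc 80, Int.negSucc 184, Int.negSucc 36, Int.ofNat 145, Int.ofNat 481, Int.negSucc 156, Int.ofNat 55, Int.negSucc 146, Int.negSucc 180, Int.negSucc 150, Int.ofNat 109, Int.ofNat 47, Int.negSucc 96, Int.negSucc 132, Int.negSucc 162, Int.ofNat 87, Int.negSucc 138, Int.negSucc 128, Int.negSucc 48, Int.ofNat 607],
  [Int.ofNat 42, Int.ofNat 398, Int.ofNat 160, Int.ofNat 152, Int.ofNat 108, Int.negSucc 127, Int.negSucc 69, Int.ofNat 112, Int.ofNat 486, Int.negSucc 59, Int.ofNat 152, Int.negSucc 141, Int.negSucc 175, Int.ofNat 38, Int.ofNat 166, Int.ofNat 144, Int.ofNat 92, Int.negSucc 75, Int.negSucc 157, Int.ofNat 54, Int.negSucc 41, Int.negSucc 161, Int.ofNat 140, Int.negSucc 613],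
  [Int.ofNat 398, Int.ofNat 160, Int.ofNat 152, Int.ofNat 108, Int.negSucc 127, Int.negSucc 69, Int.ofNat 112, Int.ofNat 486, Int.negSucc 59, Int.ofNat 152, Int.negSucc 141, Int.negSucc 175, Int.ofNat 38, Int.ofNat 166, Int.ofNat 144, Int.ofNat 92, Int.negSucc 75, Int.negSucc 157, Int.ofNat 54, Int.negSucc 41, Int.negSucc 161, Int.ofNat 140, Int.ofNat 42, Int.negSucc 613],
  [Int.negSucc 397, Int.ofNat 160, Int.negSucc 151, Int.ofNat 108, Int.negSucc 127, Int.negSucc 69, Int.ofNat 112, Int.negSucc 485, Int.negSucc 59, Int.negSucc 151, Int.ofNat 142, Int.ofNat 176, Int.ofNat 38, Int.ofNat 166, Int.ofNat 144, Int.ofNat 92, Int.negSucc 75, Int.negSucc 157, Int.negSucc 53, Int.negSucc 41, Int.negSucc 161, Int.negSucc 139, Int.ofNat 42, Int.negSucc 613],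
  [Int.negSucc 613, Int.ofNat 42, Int.ofNat 176, Int.ofNat 92, Int.negSucc 157, Int.negSucc 151, Int.negSucc 41, Int.ofNat 166, Int.negSucc 161, Int.negSucc 69, Int.negSucc 75, Int.negSucc 151, Int.negSucc 139, Int.negSucc 485, Int.negSucc 53, Int.ofNat 108, Int.ofNat 142, Int.negSucc 127, Int.ofNat 144, Int.ofNat 112, Int.negSucc 59, Int.ofNat 38, Int.ofNat 160, Int.negSucc 397],
  [Int.ofNat 614, Int.ofNat 42, Int.negSucc 175, Int.ofNat 92, Int.negSucc 157, Int.negSucc 151, Int.negSucc 41, Int.negSucc 165, Int.negSucc 161, Int.ofNat 70, Int.ofNat 76, Int.ofNat 152, Int.negSucc 139, Int.negSucc 485, Int.negSucc 53, Int.ofNat 108, Int.ofNat 142, Int.negSucc 127, Int.negSucc 143, Int.ofNat 112, Int.negSucc 59, Int.negSucc 37, Int.ofNat 160, Int.negSucc 397],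
  [Int.ofNat 160, Int.ofNat 614, Int.ofNat 42, Int.negSucc 175, Int.ofNat 92, Int.negSucc 157, Int.negSucc 151, Int.negSucc 41, Int.negSucc 165, Int.negSucc 161, Int.ofNat 70, Int.ofNat 76, Int.ofNat 152, Int.negSucc 139, Int.negSucc 485, Int.negSucc 53, Int.ofNat 108, Int.ofNat 142, Int.negSucc 127, Int.negSucc 143, Int.ofNat 112, Int.negSucc 59, Int.negSucc 37, Int.negSucc 397],
  [Int.ofNat 49, Int.negSucc 404, Int.ofNat 167, Int.ofNat 163, Int.ofNat 81, Int.ofNat 181, Int.ofNat 47, Int.ofNat 157, Int.negSucc 132, Int.negSucc 144, Int.ofNat 87, Int.ofNat 109, Int.ofNat 185, Int.negSucc 150, Int.negSucc 146, Int.negSucc 36, Int.ofNat 97, Int.ofNat 481, Int.negSucc 94, Int.ofNat 55, Int.ofNat 129, Int.ofNat 139, Int.negSucc 48, Int.ofNat 607],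
  [Int.ofNat 163, Int.ofNat 81, Int.ofNat 181, Int.ofNat 47, Int.ofNat 157, Int.negSucc 132, Int.negSucc 144, Int.ofNat 87, Int.ofNat 109, Int.ofNat 185, Int.negSucc 150, Int.negSucc 146, Int.negSucc 36, Int.ofNat 97, Int.ofNat 481, Int.negSucc 94, Int.ofNat 55, Int.ofNat 129, Int.ofNat 139, Int.negSucc 48, Int.ofNat 49, Int.negSucc 404, Int.ofNat 167, Int.ofNat 607],
  [Int.ofNat 353, Int.ofNat 435, Int.ofNat 335, Int.negSucc 214, Int.negSucc 80, Int.negSucc 394, Int.ofNat 111, Int.ofNat 343, Int.ofNat 77, Int.ofNat 191, Int.negSucc 144, Int.negSucc 178, Int.negSucc 68, Int.negSucc 140, Int.ofNat 219, Int.negSucc 88, Int.negSucc 182, Int.negSucc 132, Int.ofNat 107, Int.ofNat 207, Int.ofNat 55, Int.negSucc 148, Int.negSucc 70, Int.negSucc 90],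
  [Int.ofNat 353, Int.ofNat 111, Int.negSucc 80, Int.negSucc 214, Int.ofNat 107, Int.ofNat 343, Int.ofNat 335, Int.negSucc 144, Int.negSucc 68, Int.negSucc 140, Int.ofNat 55, Int.negSucc 132, Int.ofNat 191, Int.negSucc 182, Int.negSucc 70, Int.negSucc 88, Int.ofNat 77, Int.ofNat 219, Int.ofNat 435, Int.negSucc 178, Int.negSucc 148, Int.negSucc 394, Int.ofNat 207, Int.negSucc 90],
  [Int.negSucc 206, Int.ofNat 35, Int.ofNat 227, Int.negSucc 352, Int.ofNat 3, Int.ofNat 205, Int.ofNat 527, Int.ofNat 47, Int.negSucc 280, Int.ofNat 21, Int.ofNat 217, Int.negSucc 344, Int.negSucc 20, Int.negSucc 286, Int.negSucc 208, Int.ofNat 73, Int.negSucc 26, Int.ofNat 81, Int.ofNat 223, Int.ofNat 13, Int.ofNat 13, Int.negSucc 202, Int.ofNat 103, Int.ofNat 237],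
  [Int.negSucc 206, Int.ofNat 35, Int.negSucc 226, Int.negSucc 352, Int.ofNat 3, Int.negSucc 204, Int.negSucc 526, Int.ofNat 47, Int.negSucc 280, Int.negSucc 20, Int.negSucc 216, Int.negSucc 344, Int.negSucc 20, Int.negSucc 286, Int.negSucc 208, Int.negSucc 72, Int.negSucc 26, Int.ofNat 81, Int.negSucc 222, Int.ofNat 13, Int.ofNat 13, Int.negSucc 202, Int.negSucc 102, Int.ofNat 237],
  [Int.negSucc 204, Int.ofNat 13, Int.negSucc 352, Int.negSucc 20, Int.negSucc 26, Int.negSucc 226, Int.ofNat 13, Int.negSucc 102, Int.ofNat 81, Int.negSucc 202, Int.ofNat 47, Int.ofNat 3, Int.negSucc 526, Int.ofNat 35, Int.negSucc 222, Int.negSucc 216, Int.negSucc 72, Int.negSucc 344, Int.negSucc 280, Int.negSucc 208, Int.negSucc 206, Int.negSucc 20, Int.negSucc 286, Int.ofNat 237],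
  [Int.negSucc 204, Int.ofNat 13, Int.ofNat 353, Int.negSucc 20, Int.negSucc 26, Int.ofNat 227, Int.negSucc 12, Int.negSucc 102, Int.ofNat 81, Int.ofNat 203, Int.negSucc 46, Int.ofNat 3, Int.negSucc 526, Int.ofNat 35, Int.negSucc 222, Int.ofNat 217, Int.negSucc 72, Int.negSucc 344, Int.ofNat 281, Int.negSucc 208, Int.negSucc 206, Int.negSucc 20, Int.ofNat 287, Int.ofNat 237],
  [Int.ofNat 404, Int.ofNat 186, Int.negSucc 153, Int.ofNat 160, Int.negSucc 137, Int.ofNat 408, Int.ofNat 160, Int.ofNat 70, Int.ofNat 162, Int.ofNat 120, Int.negSucc 129, Int.ofNat 84, Int.negSucc 445, Int.negSucc 75, Int.negSucc 41, Int.ofNat 134, Int.negSucc 183, Int.negSucc 163, Int.ofNat 362, Int.negSucc 35, Int.negSucc 289, Int.ofNat 152, Int.ofNat 176, Int.negSucc 37],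
  [Int.ofNat 404, Int.ofNat 362, Int.ofNat 160, Int.ofNat 160, Int.negSucc 153, Int.ofNat 152, Int.ofNat 186, Int.ofNat 408, Int.negSucc 183, Int.negSucc 445, Int.ofNat 70, Int.negSucc 35, Int.ofNat 162, Int.ofNat 120, Int.negSucc 163, Int.ofNat 134, Int.negSucc 75, Int.ofNat 84, Int.negSucc 137, Int.ofNat 176, Int.negSucc 129, Int.negSucc 289, Int.negSucc 41, Int.negSucc 37],
  [Int.ofNat 40, Int.ofNat 82, Int.ofNat 284, Int.ofNat 44, Int.negSucc 77, Int.ofNat 36, Int.negSucc 53, Int.ofNat 168, Int.negSucc 85, Int.negSucc 259, Int.ofNat 256, Int.ofNat 62, Int.ofNat 260, Int.ofNat 196, Int.negSucc 279, Int.ofNat 320, Int.ofNat 0, Int.negSucc 31, Int.negSucc 39, Int.negSucc 63, Int.ofNat 56, Int.negSucc 529, Int.ofNat 34, Int.ofNat 482],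
  [Int.ofNat 56, Int.negSucc 529, Int.ofNat 34, Int.ofNat 40, Int.ofNat 82, Int.ofNat 284, Int.ofNat 44, Int.negSucc 77, Int.ofNat 36, Int.negSucc 53, Int.ofNat 168, Int.negSucc 85, Int.negSucc 259, Int.ofNat 256, Int.ofNat 62, Int.ofNat 260, Int.ofNat 196, Int.negSucc 279, Int.ofNat 320, Int.ofNat 0, Int.negSucc 31, Int.negSucc 39, Int.negSucc 63, Int.ofNat 482],
  [Int.negSucc 34, Int.ofNat 551, Int.negSucc 12, Int.negSucc 12, Int.negSucc 152, Int.ofNat 231, Int.ofNat 81, Int.negSucc 40, Int.ofNat 31, Int.negSucc 224, Int.negSucc 2, Int.negSucc 90, Int.negSucc 264, Int.ofNat 21, Int.ofNat 9, Int.ofNat 89, Int.negSucc 38, Int.negSucc 332, Int.ofNat 315, Int.ofNat 37, Int.negSucc 202, Int.negSucc 2, Int.negSucc 298, Int.negSucc 460],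
  [Int.ofNat 551, Int.negSucc 12, Int.negSucc 12, Int.negSucc 152, Int.ofNat 231, Int.ofNat 81, Int.negSucc 40, Int.ofNat 31, Int.negSucc 224, Int.negSucc 2, Int.negSucc 90, Int.negSucc 264, Int.ofNat 21, Int.ofNat 9, Int.ofNat 89, Int.negSucc 38, Int.negSucc 332, Int.ofNat 315, Int.ofNat 37, Int.negSucc 202, Int.negSucc 2, Int.negSucc 298, Int.negSucc 34, Int.negSucc 460],
  [Int.negSucc 550, Int.negSucc 12, Int.ofNat 13, Int.negSucc 152, Int.ofNat 231, Int.ofNat 81, Int.negSucc 40, Int.negSucc 30, Int.negSucc 224, Int.ofNat 3, Int.ofNat 91, Int.ofNat 265, Int.ofNat 21, Int.ofNat 9, Int.ofNat 89, Int.negSucc 38, Int.negSucc 332, Int.ofNat 315, Int.negSucc 36, Int.negSucc 202, Int.negSucc 2, Int.ofNat 299, Int.negSucc 34, Int.negSucc 460],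
  [Int.negSucc 460, Int.negSucc 34, Int.ofNat 265, Int.negSucc 38, Int.ofNat 315, Int.ofNat 3, Int.negSucc 202, Int.ofNat 9, Int.negSucc 2, Int.ofNat 81, Int.negSucc 332, Int.ofNat 13, Int.ofNat 299, Int.negSucc 30, Int.negSucc 36, Int.negSucc 152, Int.ofNat 91, Int.ofNat 231, Int.ofNat 89, Int.negSucc 40, Int.negSucc 224, Int.ofNat 21, Int.negSucc 12, Int.negSucc 550],
  [Int.ofNat 461, Int.negSucc 34, Int.negSucc 264, Int.negSucc 38, Int.ofNat 315, Int.ofNat 3, Int.negSucc 202, Int.negSucc 8, Int.negSucc 2, Int.negSucc 80, Int.ofNat 333, Int.negSucc 12, Int.ofNat 299, Int.negSucc 30, Int.negSucc 36, Int.negSucc 152, Int.ofNat 91, Int.ofNat 231, Int.negSucc 88, Int.negSucc 40, Int.negSucc 224, Int.negSucc 20, Int.negSucc 12, Int.negSucc 550],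
  [Int.negSucc 12, Int.ofNat 461, Int.negSucc 34, Int.negSucc 264, Int.negSucc 38, Int.ofNat 315, Int.ofNat 3, Int.negSucc 202, Int.negSucc 8, Int.negSucc 2, Int.negSucc 80, Int.ofNat 333, Int.negSucc 12, Int.ofNat 299, Int.negSucc 30, Int.negSucc 36, Int.negSucc 152, Int.ofNat 91, Int.ofNat 231, Int.negSucc 88, Int.negSucc 40, Int.negSucc 224, Int.negSucc 20, Int.negSucc 550],
  [Int.negSucc 55, Int.negSucc 529, Int.negSucc 33, Int.negSucc 319, Int.negSucc 81, Int.ofNat 260, Int.ofNat 260, Int.ofNat 54, Int.negSucc 279, Int.ofNat 78, Int.ofNat 0, Int.ofNat 62, Int.negSucc 283, Int.ofNat 256, Int.negSucc 85, Int.ofNat 44, Int.negSucc 195, Int.ofNat 36, Int.negSucc 39, Int.ofNat 168, Int.ofNat 40, Int.ofNat 32, Int.negSucc 63, Int.ofNat 482],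
  [Int.negSucc 319, Int.negSucc 81, Int.ofNat 260, Int.ofNat 260, Int.ofNat 54, Int.negSucc 279, Int.ofNat 78, Int.ofNat 0, Int.ofNat 62, Int.negSucc 283, Int.ofNat 256, Int.negSucc 85, Int.ofNat 44, Int.negSucc 195, Int.ofNat 36, Int.negSucc 39, Int.ofNat 168, Int.ofNat 40, Int.ofNat 32, Int.negSucc 63, Int.negSucc 55, Int.negSucc 529, Int.negSucc 33, Int.ofNat 482],
  [Int.ofNat 490, Int.ofNat 252, Int.negSucc 89, Int.ofNat 232, Int.ofNat 58, Int.negSucc 307, Int.ofNat 336, Int.ofNat 258, Int.ofNat 36, Int.negSucc 221, Int.ofNat 318, Int.negSucc 111, Int.ofNat 18, Int.negSucc 191, Int.ofNat 8, Int.ofNat 22, Int.ofNat 172, Int.ofNat 12, Int.ofNat 6, Int.ofNat 194, Int.ofNat 6, Int.negSucc 271, Int.negSucc 29, Int.negSucc 311],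
  [Int.ofNat 490, Int.ofNat 336, Int.ofNat 58, Int.ofNat 232, Int.ofNat 6, Int.ofNat 258, Int.negSucc 89, Int.ofNat 318, Int.ofNat 18, Int.negSucc 191, Int.ofNat 6, Int.ofNat 12, Int.negSucc 221, Int.ofNat 172, Int.negSucc 29, Int.ofNat 22, Int.ofNat 36, Int.ofNat 8, Int.ofNat 252, Int.negSucc 111, Int.negSucc 271, Int.negSucc 307, Int.ofNat 194, Int.negSucc 311],
  [Int.negSucc 203, Int.negSucc 49, Int.ofNat 228, Int.negSucc 1, Int.negSucc 197, Int.ofNat 24, Int.ofNat 6, Int.ofNat 414, Int.negSucc 11, Int.ofNat 26, Int.ofNat 224, Int.negSucc 17, Int.negSucc 251, Int.negSucc 31, Int.negSucc 263, Int.ofNat 240, Int.negSucc 167, Int.negSucc 225, Int.ofNat 222, Int.negSucc 15, Int.negSucc 53, Int.negSucc 211, Int.negSucc 9, Int.ofNat 598],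
  [Int.negSucc 203, Int.negSucc 49, Int.negSucc 227, Int.negSucc 1, Int.negSucc 197, Int.negSucc 23, Int.negSucc 5, Int.ofNat 414, Int.negSucc 11, Int.negSucc 25, Int.negSucc 223, Int.negSucc 17, Int.negSucc 251, Int.negSucc 31, Int.negSucc 263, Int.negSucc 239, Int.negSucc 167, Int.negSucc 225, Int.negSucc 221, Int.negSucc 15, Int.negSucc 53, Int.negSucc 211, Int.ofNat 10, Int.ofNat 598],
  [Int.negSucc 23, Int.negSucc 53, Int.negSucc 1, Int.negSucc 25, Int.negSucc 167, Int.negSucc 227, Int.negSucc 15, Int.ofNat 10, Int.negSucc 225, Int.negSucc 211, Int.ofNat 414, Int.negSucc 197, Int.negSucc 5, Int.negSucc 49, Int.negSucc 221, Int.negSucc 223, Int.negSucc 239, Int.negSucc 17, Int.negSucc 11, Int.negSucc 263, Int.negSucc 203, Int.negSucc 251, Int.negSucc 31, Int.ofNat 598],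
  [Int.negSucc 23, Int.negSucc 53, Int.ofNat 2, Int.negSucc 25, Int.negSucc 167, Int.ofNat 228, Int.ofNat 16, Int.ofNat 10, Int.negSucc 225, Int.ofNat 212, Int.negSucc 413, Int.negSucc 197, Int.negSucc 5, Int.negSucc 49, Int.negSucc 221, Int.ofNat 224, Int.negSucc 239, Int.negSucc 17, Int.ofNat 12, Int.negSucc 263, Int.negSucc 203, Int.negSucc 251, Int.ofNat 32, Int.ofNat 598],
  [Int.ofNat 285, Int.ofNat 315, Int.ofNat 259, Int.negSucc 6, Int.ofNat 45, Int.ofNat 247, Int.ofNat 261, Int.ofNat 255, Int.negSucc 16, Int.ofNat 303, Int.negSucc 322, Int.ofNat 11, Int.ofNat 203, Int.ofNat 163, Int.negSucc 202, Int.ofNat 315, Int.negSucc 26, Int.ofNat 1, Int.ofNat 221, Int.negSucc 18, Int.negSucc 112, Int.negSucc 6, Int.ofNat 245, Int.negSucc 336],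
  [Int.ofNat 285, Int.ofNat 221, Int.ofNat 261, Int.negSucc 6, Int.ofNat 259, Int.negSucc 6, Int.ofNat 315, Int.ofNat 247, Int.negSucc 26, Int.ofNat 203, Int.ofNat 255, Int.negSucc 18, Int.negSucc 16, Int.ofNat 303, Int.ofNat 1, Int.ofNat 315, Int.ofNat 163, Int.ofNat 11, Int.ofNat 45, Int.ofNat 245, Int.negSucc 322, Int.negSucc 112, Int.negSucc 202, Int.negSucc 336],
  [Int.negSucc 69, Int.negSucc 5, Int.negSucc 45, Int.negSucc 5, Int.negSucc 1, Int.negSucc 5, Int.negSucc 31, Int.negSucc 99, Int.negSucc 17, Int.negSucc 21, Int.ofNat 30, Int.negSucc 9, Int.negSucc 7, Int.ofNat 42, Int.ofNat 2, Int.ofNat 90, Int.negSucc 97, Int.ofNat 12, Int.ofNat 54, Int.negSucc 101, Int.negSucc 547, Int.negSucc 459, Int.negSucc 463, Int.ofNat 552],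
  [Int.negSucc 547, Int.negSucc 459, Int.negSucc 463, Int.negSucc 69, Int.negSucc 5, Int.negSucc 45, Int.negSucc 5, Int.negSucc 1, Int.negSucc 5, Int.negSucc 31, Int.negSucc 99, Int.negSucc 17, Int.negSucc 21, Int.ofNat 30, Int.negSucc 9, Int.negSucc 7, Int.ofNat 42, Int.ofNat 2, Int.ofNat 90, Int.negSucc 97, Int.ofNat 12, Int.ofNat 54, Int.negSucc 101, Int.ofNat 552],
  [Int.ofNat 88, Int.ofNat 0, Int.ofNat 4, Int.negSucc 7, Int.ofNat 12, Int.ofNat 16, Int.ofNat 20, Int.ofNat 24, Int.negSucc 27, Int.ofNat 32, Int.negSucc 35, Int.negSucc 39, Int.negSucc 43, Int.ofNat 48, Int.ofNat 52, Int.ofNat 56, Int.ofNat 60, Int.ofNat 64, Int.ofNat 68, Int.negSucc 71, Int.ofNat 76, Int.ofNat 80, Int.negSucc 83, Int.negSucc 1011],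
  [Int.ofNat 0, Int.ofNat 4, Int.negSucc 7, Int.ofNat 12, Int.ofNat 16, Int.ofNat 20, Int.ofNat 24, Int.negSucc 27, Int.ofNat 32, Int.negSucc 35, Int.negSucc 39, Int.negSucc 43, Int.ofNat 48, Int.ofNat 52, Int.ofNat 56, Int.ofNat 60, Int.ofNat 64, Int.ofNat 68, Int.negSucc 71, Int.ofNat 76, Int.ofNat 80, Int.negSucc 83, Int.ofNat 88, Int.negSucc 1011],
  [Int.ofNat 0, Int.ofNat 4, Int.ofNat 8, Int.ofNat 12, Int.ofNat 16, Int.ofNat 20, Int.ofNat 24, Int.ofNat 28, Int.ofNat 32, Int.ofNat 36, Int.ofNat 40, Int.ofNat 44, Int.ofNat 48, Int.ofNat 52, Int.ofNat 56, Int.ofNat 60, Int.ofNat 64, Int.ofNat 68, Int.ofNat 72, Int.ofNat 76, Int.ofNat 80, Int.ofNat 84, Int.ofNat 88, Int.negSucc 1011]]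

set_option maxRecDepth 100000 in
theorem r1_chk3 : cChk r1W vdL r1M3 vdL = true := by
  decide +kernel

theorem r1_one : wE letE r1W = 1 :=
  eq_one_of_c4 r1_chk0 r1_chk1 r1_chk2 r1_chk3

/-- A word which is trivial. -/
def rxW : List ℕ := [22, 1]

set_option maxRecDepth 100000 in
def rxM0 : List (List ℤ) :=
  [[Int.negSucc 3, Int.ofNat 0, Int.ofNat 0, Int.ofNat 0, Int.ofNat 0, Int.ofNat 0, Int.ofNat 0, Int.ofNat 0, Int.ofNat 0, Int.ofNat 0, Int.ofNat 0, Int.ofNat 0, Int.ofNat 0, Int.ofNat 0, Int.ofNat 0, Int.ofNat 0, Int.ofNat 0, Int.ofNat 0, Int.ofNat 0, Int.ofNat 0, Int.ofNat 0, Int.ofNat 0, Int.ofNat 0, Int.ofNat 4],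
  [Int.ofNat 0, Int.negSucc 3, Int.ofNat 0, Int.ofNat 0, Int.ofNat 0, Int.ofNat 0, Int.ofNat 0, Int.ofNat 0, Int.ofNat 0, Int.ofNat 0, Int.ofNat 0, Int.ofNat 0, Int.ofNat 0, Int.ofNat 0, Int.ofNat 0, Int.ofNat 0, Int.ofNat 0, Int.ofNat 0, Int.ofNat 0, Int.ofNat 0, Int.ofNat 0, Int.ofNat 0, Int.ofNat 0, Int.ofNat 4],
  [Int.ofNat 0, Int.ofNat 4, Int.ofNat 0, Int.ofNat 0, Int.ofNat 0, Int.ofNat 0, Int.ofNat 0, Int.ofNat 0, Int.ofNat 0, Int.ofNat 0, Int.ofNat 0, Int.ofNat 0, Int.ofNat 0, Int.ofNat 0, Int.ofNat 0, Int.ofNat 0, Int.ofNat 0, Int.ofNat 0, Int.ofNat 0, Int.ofNat 0, Int.ofNat 0, Int.ofNat 0, Int.ofNat 0, Int.negSucc 3],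
  [Int.ofNat 0, Int.ofNat 0, Int.ofNat 0, Int.ofNat 0, Int.ofNat 0, Int.ofNat 0, Int.ofNat 0, Int.ofNat 0, Int.ofNat 0, Int.ofNat 0, Int.ofNat 0, Int.ofNat 0, Int.ofNat 0, Int.ofNat 0, Int.ofNat 0, Int.ofNat 0, Int.ofNat 0, Int.ofNat 0, Int.ofNat 0, Int.ofNat 0, Int.ofNat 0, Int.ofNat 4, Int.ofNat 0, Int.negSucc 3],
  [Int.negSucc 1, Int.negSucc 1, Int.negSucc 1, Int.ofNat 0, Int.ofNat 0, Int.ofNat 0, Int.negSucc 1, Int.negSucc 1, Int.ofNat 0, Int.ofNat 0, Int.ofNat 0, Int.ofNat 0, Int.ofNat 0, Int.ofNat 0, Int.ofNat 0, Int.ofNat 0, Int.ofNat 0, Int.ofNat 0, Int.ofNat 0, Int.negSucc 1, Int.ofNat 0, Int.ofNat 2, Int.ofNat 0, Int.ofNat 2],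
  [Int.negSucc 1, Int.negSucc 1, Int.ofNat 0, Int.ofNat 0, Int.ofNat 0, Int.negSucc 1, Int.negSucc 1, Int.ofNat 0, Int.ofNat 0, Int.ofNat 0, Int.ofNat 0, Int.ofNat 0, Int.ofNat 0, Int.ofNat 0, Int.ofNat 0, Int.ofNat 0, Int.ofNat 0, Int.ofNat 0, Int.negSucc 1, Int.ofNat 0, Int.ofNat 2, Int.ofNat 0, Int.negSucc 1, Int.ofNat 2],
  [Int.ofNat 1, Int.ofNat 1, Int.negSucc 0, Int.ofNat 1, Int.ofNat 1, Int.negSucc 0, Int.negSucc 0, Int.ofNat 1, Int.ofNat 1, Int.negSucc 0, Int.negSucc 0, Int.ofNat 1, Int.ofNat 1, Int.ofNat 1, Int.ofNat 1, Int.negSucc 0, Int.ofNat 1, Int.ofNat 1, Int.negSucc 0, Int.ofNat 1, Int.ofNat 1, Int.ofNat 1, Int.negSucc 0, Int.negSucc 2],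
  [Int.ofNat 1, Int.ofNat 1, Int.ofNat 1, Int.ofNat 1, Int.ofNat 1, Int.ofNat 1, Int.ofNat 1, Int.ofNat 1, Int.ofNat 1, Int.ofNat 1, Int.ofNat 1, Int.ofNat 1, Int.ofNat 1, Int.ofNat 1, Int.ofNat 1, Int.ofNat 1, Int.ofNat 1, Int.ofNat 1, Int.ofNat 1, Int.ofNat 1, Int.ofNat 1, Int.ofNat 1, Int.ofNat 1, Int.negSucc 2],
  [Int.ofNat 1, Int.ofNat 1, Int.ofNat 1, Int.ofNat 1, Int.ofNat 1, Int.ofNat 1, Int.ofNat 1, Int.ofNat 1, Int.ofNat 1, Int.ofNat 1, Int.ofNat 1, Int.ofNat 1, Int.ofNat 1, Int.ofNat 1, Int.ofNat 1, Int.ofNat 1, Int.ofNat 1, Int.ofNat 1, Int.ofNat 1, Int.ofNat 1, Int.ofNat 1, Int.ofNat 1, Int.ofNat 1, Int.negSucc 2],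
  [Int.ofNat 1, Int.ofNat 1, Int.negSucc 0, Int.ofNat 1, Int.ofNat 1, Int.negSucc 0, Int.negSucc 0, Int.ofNat 1, Int.ofNat 1, Int.negSucc 0, Int.negSucc 0, Int.ofNat 1, Int.ofNat 1, Int.ofNat 1, Int.ofNat 1, Int.negSucc 0, Int.ofNat 1, Int.ofNat 1, Int.negSucc 0, Int.ofNat 1, Int.ofNat 1, Int.ofNat 1, Int.negSucc 0, Int.negSucc 2],
  [Int.negSucc 1, Int.negSucc 1, Int.ofNat 0, Int.ofNat 0, Int.ofNat 0, Int.negSucc 1, Int.negSucc 1, Int.ofNat 0, Int.ofNat 0, Int.ofNat 0, Int.ofNat 0, Int.ofNat 0, Int.ofNat 0, Int.ofNat 0, Int.ofNat 0, Int.ofNat 0, Int.ofNat 0, Int.ofNat 0, Int.negSucc 1, Int.ofNat 0, Int.ofNat 2, Int.ofNat 0, Int.negSucc 1, Int.ofNat 2],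
  [Int.negSucc 1, Int.negSucc 1, Int.negSucc 1, Int.ofNat 0, Int.ofNat 0, Int.ofNat 0, Int.negSucc 1, Int.negSucc 1, Int.ofNat 0, Int.ofNat 0, Int.ofNat 0, Int.ofNat 0, Int.ofNat 0, Int.ofNat 0, Int.ofNat 0, Int.ofNat 0, Int.ofNat 0, Int.ofNat 0, Int.ofNat 0, Int.negSucc 1, Int.ofNat 0, Int.ofNat 2, Int.ofNat 0, Int.ofNat 2],
  [Int.ofNat 0, Int.ofNat 0, Int.ofNat 0, Int.ofNat 0, Int.ofNat 0, Int.ofNat 0, Int.ofNat 0, Int.ofNat 0, Int.ofNat 0, Int.ofNat 0, Int.ofNat 0, Int.ofNat 0, Int.ofNat 0, Int.ofNat 0, Int.ofNat 0, Int.ofNat 0, Int.ofNat 0, Int.ofNat 0, Int.ofNat 0, Int.ofNat 0, Int.ofNat 0, Int.ofNat 4, Int.ofNat 0, Int.negSucc 3],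
  [Int.ofNat 0, Int.ofNat 4, Int.ofNat 0, Int.ofNat 0, Int.ofNat 0, Int.ofNat 0, Int.ofNat 0, Int.ofNat 0, Int.ofNat 0, Int.ofNat 0, Int.ofNat 0, Int.ofNat 0, Int.ofNat 0, Int.ofNat 0, Int.ofNat 0, Int.ofNat 0, Int.ofNat 0, Int.ofNat 0, Int.ofNat 0, Int.ofNat 0, Int.ofNat 0, Int.ofNat 0, Int.ofNat 0, Int.negSucc 3],
  [Int.ofNat 0, Int.negSucc 3, Int.ofNat 0, Int.ofNat 0, Int.ofNat 0, Int.ofNat 0, Int.ofNat 0, Int.ofNat 0, Int.ofNat 0, Int.ofNat 0, Int.ofNat 0, Int.ofNat 0, Int.ofNat 0, Int.ofNat 0, Int.ofNat 0, Int.ofNat 0, Int.ofNat 0, Int.ofNat 0, Int.ofNat 0, Int.ofNat 0, Int.ofNat 0, Int.ofNat 0, Int.ofNat 0, Int.ofNat 4],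
  [Int.negSucc 3, Int.ofNat 0, Int.ofNat 0, Int.ofNat 0, Int.ofNat 0, Int.ofNat 0, Int.ofNat 0, Int.ofNat 0, Int.ofNat 0, Int.ofNat 0, Int.ofNat 0, Int.ofNat 0, Int.ofNat 0, Int.ofNat 0, Int.ofNat 0, Int.ofNat 0, Int.ofNat 0, Int.ofNat 0, Int.ofNat 0, Int.ofNat 0, Int.ofNat 0, Int.ofNat 0, Int.ofNat 0, Int.ofNat 4],
  [Int.ofNat 4, Int.ofNat 0, Int.ofNat 0, Int.ofNat 0, Int.ofNat 0, Int.ofNat 0, Int.ofNat 0, Int.ofNat 0, Int.ofNat 0, Int.ofNat 0, Int.ofNat 0, Int.ofNat 0, Int.ofNat 0, Int.ofNat 0, Int.ofNat 0, Int.ofNat 0, Int.ofNat 0, Int.ofNat 0, Int.ofNat 0, Int.ofNat 0, Int.ofNat 0, Int.ofNat 0, Int.ofNat 0, Int.ofNat 4],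
  [Int.negSucc 3, Int.ofNat 0, Int.ofNat 0, Int.ofNat 0, Int.ofNat 0, Int.ofNat 0, Int.ofNat 0, Int.ofNat 0, Int.ofNat 0, Int.ofNat 0, Int.ofNat 0, Int.ofNat 0, Int.ofNat 0, Int.ofNat 0, Int.ofNat 0, Int.ofNat 0, Int.ofNat 0, Int.ofNat 0, Int.ofNat 0, Int.ofNat 0, Int.ofNat 0, Int.ofNat 0, Int.ofNat 0, Int.ofNat 4],
  [Int.ofNat 0, Int.negSucc 3, Int.ofNat 0, Int.ofNat 0, Int.ofNat 0, Int.ofNat 0, Int.ofNat 0, Int.ofNat 0, Int.ofNat 0, Int.ofNat 0, Int.ofNat 0, Int.ofNat 0, Int.ofNat 0, Int.ofNat 0, Int.ofNat 0, Int.ofNat 0, Int.ofNat 0, Int.ofNat 0, Int.ofNat 0, Int.ofNat 0, Int.ofNat 0, Int.ofNat 0, Int.ofNat 0, Int.ofNat 4],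
  [Int.ofNat 0, Int.ofNat 4, Int.ofNat 0, Int.ofNat 0, Int.ofNat 0, Int.ofNat 0, Int.ofNat 0, Int.ofNat 0, Int.ofNat 0, Int.ofNat 0, Int.ofNat 0, Int.ofNat 0, Int.ofNat 0, Int.ofNat 0, Int.ofNat 0, Int.ofNat 0, Int.ofNat 0, Int.ofNat 0, Int.ofNat 0, Int.ofNat 0, Int.ofNat 0, Int.ofNat 0, Int.ofNat 0, Int.negSucc 3],
  [Int.ofNat 0, Int.ofNat 0, Int.ofNat 0, Int.ofNat 0, Int.ofNat 0, Int.ofNat 0, Int.ofNat 0, Int.ofNat 0, Int.ofNat 0, Int.ofNat 0, Int.ofNat 0, Int.ofNat 0, Int.ofNat 0, Int.ofNat 0, Int.ofNat 0, Int.ofNat 0, Int.ofNat 0, Int.ofNat 0, Int.ofNat 0, Int.ofNat 0, Int.ofNat 0, Int.ofNat 4, Int.ofNat 0, Int.negSucc 3],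
  [Int.negSucc 1, Int.negSucc 1, Int.negSucc 1, Int.ofNat 0, Int.ofNat 0, Int.ofNat 0, Int.negSucc 1, Int.negSucc 1, Int.ofNat 0, Int.ofNat 0, Int.ofNat 0, Int.ofNat 0, Int.ofNat 0, Int.ofNat 0, Int.ofNat 0, Int.ofNat 0, Int.ofNat 0, Int.ofNat 0, Int.ofNat 0, Int.negSucc 1, Int.ofNat 0, Int.ofNat 2, Int.ofNat 0, Int.ofNat 2],
  [Int.negSucc 1, Int.negSucc 1, Int.ofNat 0, Int.ofNat 0, Int.ofNat 0, Int.negSucc 1, Int.negSucc 1, Int.ofNat 0, Int.ofNat 0, Int.ofNat 0, Int.ofNat 0, Int.ofNat 0, Int.ofNat 0, Int.ofNat 0, Int.ofNat 0, Int.ofNat 0, Int.ofNat 0, Int.ofNat 0, Int.negSucc 1, Int.ofNat 0, Int.ofNat 2, Int.ofNat 0, Int.negSucc 1, Int.ofNat 2],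
  [Int.ofNat 1, Int.ofNat 1, Int.negSucc 0, Int.ofNat 1, Int.ofNat 1, Int.negSucc 0, Int.negSucc 0, Int.ofNat 1, Int.ofNat 1, Int.negSucc 0, Int.negSucc 0, Int.ofNat 1, Int.ofNat 1, Int.ofNat 1, Int.ofNat 1, Int.negSucc 0, Int.ofNat 1, Int.ofNat 1, Int.negSucc 0, Int.ofNat 1, Int.ofNat 1, Int.ofNat 1, Int.negSucc 0, Int.negSucc 2],
  [Int.ofNat 1, Int.ofNat 1, Int.ofNat 1, Int.ofNat 1, Int.ofNat 1, Int.ofNat 1, Int.ofNat 1, Int.ofNat 1, Int.ofNat 1, Int.ofNat 1, Int.ofNat 1, Int.ofNat 1, Int.ofNat 1, Int.ofNat 1, Int.ofNat 1, Int.ofNat 1, Int.ofNat 1, Int.ofNat 1, Int.ofNat 1, Int.ofNat 1, Int.ofNat 1, Int.ofNat 1, Int.ofNat 1, Int.negSucc 2],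
  [Int.ofNat 1, Int.ofNat 1, Int.ofNat 1, Int.ofNat 1, Int.ofNat 1, Int.ofNat 1, Int.ofNat 1, Int.ofNat 1, Int.ofNat 1, Int.ofNat 1, Int.ofNat 1, Int.ofNat 1, Int.ofNat 1, Int.ofNat 1, Int.ofNat 1, Int.ofNat 1, Int.ofNat 1, Int.ofNat 1, Int.ofNat 1, Int.ofNat 1, Int.ofNat 1, Int.ofNat 1, Int.ofNat 1, Int.negSucc 2],
  [Int.ofNat 1, Int.ofNat 1, Int.negSucc 0, Int.ofNat 1, Int.ofNat 1, Int.negSucc 0, Int.negSucc 0, Int.ofNat 1, Int.ofNat 1, Int.negSucc 0, Int.negSucc 0, Int.ofNat 1, Int.ofNat 1, Int.ofNat 1, Int.ofNat 1, Int.negSucc 0, Int.ofNat 1, Int.ofNat 1, Int.negSucc 0, Int.ofNat 1, Int.ofNat 1, Int.ofNat 1, Int.negSucc 0, Int.negSucc 2],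
  [Int.negSucc 1, Int.negSucc 1, Int.ofNat 0, Int.ofNat 0, Int.ofNat 0, Int.negSucc 1, Int.negSucc 1, Int.ofNat 0, Int.ofNat 0, Int.ofNat 0, Int.ofNat 0, Int.ofNat 0, Int.ofNat 0, Int.ofNat 0, Int.ofNat 0, Int.ofNat 0, Int.ofNat 0, Int.ofNat 0, Int.negSucc 1, Int.ofNat 0, Int.ofNat 2, Int.ofNat 0, Int.negSucc 1, Int.ofNat 2],
  [Int.negSucc 1, Int.negSucc 1, Int.negSucc 1, Int.ofNat 0, Int.ofNat 0, Int.ofNat 0, Int.negSucc 1, Int.negSucc 1, Int.ofNat 0, Int.ofNat 0, Int.ofNat 0, Int.ofNat 0, Int.ofNat 0, Int.ofNat 0, Int.ofNat 0, Int.ofNat 0, Int.ofNat 0, Int.ofNat 0, Int.ofNat 0, Int.negSucc 1, Int.ofNat 0, Int.ofNat 2, Int.ofNat 0, Int.ofNat 2],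
  [Int.ofNat 0, Int.ofNat 0, Int.ofNat 0, Int.ofNat 0, Int.ofNat 0, Int.ofNat 0, Int.ofNat 0, Int.ofNat 0, Int.ofNat 0, Int.ofNat 0, Int.ofNat 0, Int.ofNat 0, Int.ofNat 0, Int.ofNat 0, Int.ofNat 0, Int.ofNat 0, Int.ofNat 0, Int.ofNat 0, Int.ofNat 0, Int.ofNat 0, Int.ofNat 0, Int.ofNat 4, Int.ofNat 0, Int.negSucc 3],
  [Int.ofNat 0, Int.ofNat 4, Int.ofNat 0, Int.ofNat 0, Int.ofNat 0, Int.ofNat 0, Int.ofNat 0, Int.ofNat 0, Int.ofNat 0, Int.ofNat 0, Int.ofNat 0, Int.ofNat 0, Int.ofNat 0, Int.ofNat 0, Int.ofNat 0, Int.ofNat 0, Int.ofNat 0, Int.ofNat 0, Int.ofNat 0, Int.ofNat 0, Int.ofNat 0, Int.ofNat 0, Int.ofNat 0, Int.negSucc 3],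
  [Int.ofNat 0, Int.negSucc 3, Int.ofNat 0, Int.ofNat 0, Int.ofNat 0, Int.ofNat 0, Int.ofNat 0, Int.ofNat 0, Int.ofNat 0, Int.ofNat 0, Int.ofNat 0, Int.ofNat 0, Int.ofNat 0, Int.ofNat 0, Int.ofNat 0, Int.ofNat 0, Int.ofNat 0, Int.ofNat 0, Int.ofNat 0, Int.ofNat 0, Int.ofNat 0, Int.ofNat 0, Int.ofNat 0, Int.ofNat 4],
  [Int.negSucc 3, Int.ofNat 0, Int.ofNat 0, Int.ofNat 0, Int.ofNat 0, Int.ofNat 0, Int.ofNat 0, Int.ofNat 0, Int.ofNat 0, Int.ofNat 0, Int.ofNat 0, Int.ofNat 0, Int.ofNat 0, Int.ofNat 0, Int.ofNat 0, Int.ofNat 0, Int.ofNat 0, Int.ofNat 0, Int.ofNat 0, Int.ofNat 0, Int.ofNat 0, Int.ofNat 0, Int.ofNat 0, Int.ofNat 4],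
  [Int.ofNat 4, Int.ofNat 0, Int.ofNat 0, Int.ofNat 0, Int.ofNat 0, Int.ofNat 0, Int.ofNat 0, Int.ofNat 0, Int.ofNat 0, Int.ofNat 0, Int.ofNat 0, Int.ofNat 0, Int.ofNat 0, Int.ofNat 0, Int.ofNat 0, Int.ofNat 0, Int.ofNat 0, Int.ofNat 0, Int.ofNat 0, Int.ofNat 0, Int.ofNat 0, Int.ofNat 0, Int.ofNat 0, Int.ofNat 4]]

set_option maxRecDepth 100000 in
theorem rx_chk0 : cChk rxW a0L rxM0 a0L = true := by
  decide +kernel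

set_option maxRecDepth 100000 in
def rxM1 : List (List ℤ) :=
  [[Int.ofNat 4, Int.ofNat 0, Int.ofNat 0, Int.ofNat 0, Int.ofNat 0, Int.ofNat 0, Int.ofNat 0, Int.ofNat 0, Int.ofNat 0, Int.ofNat 0, Int.ofNat 0, Int.ofNat 0, Int.ofNat 0, Int.ofNat 0, Int.ofNat 0, Int.ofNat 0, Int.ofNat 0, Int.ofNat 0, Int.ofNat 0, Int.ofNat 0, Int.ofNat 0, Int.ofNat 0, Int.ofNat 0, Int.ofNat 4],
  [Int.ofNat 0, Int.ofNat 4, Int.ofNat 0, Int.ofNat 0, Int.ofNat 0, Int.ofNat 0, Int.ofNat 0, Int.ofNat 0, Int.ofNat 0, Int.ofNat 0, Int.ofNat 0, Int.ofNat 0, Int.ofNat 0, Int.ofNat 0, Int.ofNat 0, Int.ofNat 0, Int.ofNat 0, Int.ofNat 0, Int.ofNat 0, Int.ofNat 0, Int.ofNat 0, Int.ofNat 0, Int.ofNat 0, Int.ofNat 4],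
  [Int.ofNat 4, Int.ofNat 0, Int.ofNat 4, Int.ofNat 0, Int.ofNat 0, Int.ofNat 0, Int.ofNat 0, Int.ofNat 0, Int.ofNat 0, Int.ofNat 0, Int.ofNat 0, Int.ofNat 0, Int.ofNat 0, Int.ofNat 0, Int.ofNat 0, Int.ofNat 0, Int.ofNat 0, Int.ofNat 0, Int.ofNat 0, Int.ofNat 0, Int.ofNat 0, Int.ofNat 0, Int.ofNat 0, Int.ofNat 0],
  [Int.ofNat 0, Int.ofNat 0, Int.ofNat 0, Int.ofNat 0, Int.ofNat 0, Int.ofNat 0, Int.ofNat 0, Int.ofNat 0, Int.ofNat 0, Int.ofNat 0, Int.ofNat 0, Int.ofNat 0, Int.ofNat 0, Int.ofNat 0, Int.ofNat 0, Int.ofNat 0, Int.ofNat 0, Int.ofNat 0, Int.ofNat 0, Int.ofNat 0, Int.ofNat 4, Int.ofNat 0, Int.ofNat 4, Int.ofNat 0],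
  [Int.ofNat 0, Int.ofNat 0, Int.ofNat 0, Int.ofNat 0, Int.negSucc 1, Int.ofNat 0, Int.ofNat 0, Int.ofNat 0, Int.ofNat 0, Int.negSucc 1, Int.negSucc 1, Int.ofNat 0, Int.ofNat 0, Int.negSucc 1, Int.ofNat 0, Int.negSucc 1, Int.negSucc 1, Int.ofNat 0, Int.ofNat 0, Int.ofNat 0, Int.ofNat 2, Int.ofNat 0, Int.ofNat 2, Int.ofNat 0],
  [Int.ofNat 0, Int.ofNat 0, Int.negSucc 1, Int.ofNat 0, Int.ofNat 0, Int.ofNat 0, Int.ofNat 0, Int.negSucc 1, Int.ofNat 0, Int.negSucc 1, Int.ofNat 2, Int.ofNat 0, Int.negSucc 1, Int.negSucc 1, Int.ofNat 2, Int.negSucc 1, Int.ofNat 0, Int.ofNat 0, Int.ofNat 0, Int.ofNat 0, Int.ofNat 0, Int.ofNat 0, Int.ofNat 0, Int.ofNat 0],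
  [Int.negSucc 0, Int.negSucc 0, Int.ofNat 1, Int.negSucc 0, Int.ofNat 1, Int.negSucc 0, Int.ofNat 1, Int.negSucc 0, Int.ofNat 1, Int.negSucc 0, Int.ofNat 3, Int.ofNat 1, Int.negSucc 0, Int.negSucc 0, Int.ofNat 1, Int.negSucc 0, Int.ofNat 1, Int.negSucc 0, Int.ofNat 1, Int.ofNat 1, Int.ofNat 1, Int.ofNat 1, Int.ofNat 1, Int.negSucc 0],
  [Int.negSucc 0, Int.negSucc 0, Int.negSucc 0, Int.negSucc 0, Int.ofNat 1, Int.ofNat 1, Int.negSucc 0, Int.negSucc 0, Int.ofNat 1, Int.ofNat 1, Int.negSucc 2, Int.ofNat 1, Int.negSucc 0, Int.negSucc 0, Int.ofNat 1, Int.ofNat 1, Int.ofNat 1, Int.negSucc 0, Int.negSucc 0, Int.ofNat 1, Int.ofNat 1, Int.ofNat 1, Int.negSucc 0, Int.negSucc 0],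
  [Int.ofNat 1, Int.ofNat 1, Int.negSucc 0, Int.ofNat 1, Int.ofNat 1, Int.negSucc 0, Int.ofNat 1, Int.negSucc 0, Int.negSucc 0, Int.ofNat 1, Int.negSucc 0, Int.ofNat 1, Int.negSucc 0, Int.negSucc 0, Int.negSucc 0, Int.negSucc 2, Int.ofNat 1, Int.ofNat 1, Int.ofNat 1, Int.ofNat 1, Int.negSucc 0, Int.negSucc 0, Int.negSucc 0, Int.negSucc 0],
  [Int.ofNat 1, Int.ofNat 1, Int.ofNat 1, Int.ofNat 1, Int.ofNat 1, Int.ofNat 1, Int.negSucc 0, Int.negSucc 0, Int.negSucc 0, Int.negSucc 0, Int.ofNat 1, Int.ofNat 1, Int.negSucc 0, Int.negSucc 0, Int.negSucc 0, Int.ofNat 3, Int.ofNat 1, Int.ofNat 1, Int.negSucc 0, Int.ofNat 1, Int.negSucc 0, Int.negSucc 0, Int.ofNat 1, Int.negSucc 0],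
  [Int.ofNat 0, Int.ofNat 0, Int.ofNat 0, Int.ofNat 0, Int.ofNat 0, Int.ofNat 0, Int.ofNat 0, Int.ofNat 0, Int.ofNat 0, Int.negSucc 1, Int.ofNat 0, Int.ofNat 2, Int.ofNat 0, Int.negSucc 1, Int.negSucc 1, Int.ofNat 2, Int.ofNat 0, Int.ofNat 0, Int.ofNat 0, Int.ofNat 2, Int.negSucc 1, Int.ofNat 0, Int.ofNat 0, Int.ofNat 2],
  [Int.ofNat 0, Int.ofNat 0, Int.ofNat 0, Int.ofNat 0, Int.ofNat 0, Int.ofNat 0, Int.ofNat 0, Int.ofNat 0, Int.ofNat 0, Int.ofNat 0, Int.ofNat 0, Int.ofNat 2, Int.ofNat 0, Int.negSucc 1, Int.ofNat 0, Int.ofNat 2, Int.negSucc 1, Int.ofNat 2, Int.ofNat 0, Int.ofNat 0, Int.ofNat 0, Int.negSucc 1, Int.negSucc 1, Int.ofNat 2],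
  [Int.ofNat 1, Int.ofNat 1, Int.ofNat 1, Int.negSucc 0, Int.ofNat 3, Int.negSucc 0, Int.ofNat 1, Int.ofNat 1, Int.negSucc 0, Int.negSucc 0, Int.negSucc 0, Int.ofNat 1, Int.negSucc 0, Int.ofNat 1, Int.negSucc 0, Int.ofNat 1, Int.ofNat 1, Int.ofNat 1, Int.negSucc 0, Int.ofNat 1, Int.negSucc 0, Int.negSucc 0, Int.ofNat 1, Int.negSucc 0],
  [Int.negSucc 0, Int.negSucc 0, Int.ofNat 1, Int.ofNat 1, Int.ofNat 1, Int.ofNat 1, Int.negSucc 0, Int.ofNat 3, Int.negSucc 0, Int.ofNat 1, Int.ofNat 1, Int.negSucc 0, Int.negSucc 0, Int.negSucc 0, Int.ofNat 1, Int.negSucc 0, Int.ofNat 1, Int.negSucc 0, Int.ofNat 1, Int.ofNat 1, Int.ofNat 1, Int.negSucc 0, Int.ofNat 1, Int.negSucc 0],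
  [Int.ofNat 0, Int.ofNat 0, Int.negSucc 1, Int.ofNat 0, Int.ofNat 0, Int.ofNat 0, Int.negSucc 1, Int.ofNat 2, Int.ofNat 0, Int.ofNat 0, Int.ofNat 0, Int.ofNat 0, Int.ofNat 0, Int.negSucc 1, Int.ofNat 0, Int.negSucc 1, Int.ofNat 0, Int.negSucc 1, Int.ofNat 2, Int.ofNat 0, Int.ofNat 0, Int.negSucc 1, Int.ofNat 0, Int.ofNat 0],
  [Int.ofNat 0, Int.negSucc 1, Int.ofNat 0, Int.ofNat 0, Int.ofNat 0, Int.negSucc 1, Int.ofNat 2, Int.ofNat 0, Int.ofNat 0, Int.ofNat 0, Int.ofNat 0, Int.ofNat 0, Int.negSucc 1, Int.ofNat 0, Int.negSucc 1, Int.ofNat 0, Int.negSucc 1, Int.ofNat 2, Int.ofNat 0, Int.ofNat 0, Int.negSucc 1, Int.ofNat 0, Int.ofNat 0, Int.ofNat 0],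
  [Int.ofNat 0, Int.negSucc 1, Int.ofNat 0, Int.ofNat 0, Int.ofNat 0, Int.negSucc 1, Int.ofNat 2, Int.ofNat 0, Int.ofNat 0, Int.ofNat 0, Int.ofNat 0, Int.ofNat 0, Int.negSucc 1, Int.ofNat 0, Int.negSucc 1, Int.ofNat 0, Int.negSucc 1, Int.ofNat 2, Int.ofNat 0, Int.ofNat 0, Int.negSucc 1, Int.ofNat 0, Int.ofNat 0, Int.ofNat 0],
  [Int.ofNat 0, Int.negSucc 1, Int.ofNat 0, Int.ofNat 0, Int.ofNat 0, Int.negSucc 1, Int.ofNat 2, Int.ofNat 0, Int.ofNat 0, Int.ofNat 0, Int.ofNat 0, Int.ofNat 0, Int.negSucc 1, Int.ofNat 0, Int.negSucc 1, Int.ofNat 0, Int.negSucc 1, Int.ofNat 2, Int.ofNat 0, Int.ofNat 0, Int.negSucc 1, Int.ofNat 0, Int.ofNat 0, Int.ofNat 0],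
  [Int.ofNat 0, Int.ofNat 0, Int.negSucc 1, Int.ofNat 0, Int.ofNat 0, Int.ofNat 0, Int.negSucc 1, Int.ofNat 2, Int.ofNat 0, Int.ofNat 0, Int.ofNat 0, Int.ofNat 0, Int.ofNat 0, Int.negSucc 1, Int.ofNat 0, Int.negSucc 1, Int.ofNat 0, Int.negSucc 1, Int.ofNat 2, Int.ofNat 0, Int.ofNat 0, Int.negSucc 1, Int.ofNat 0, Int.ofNat 0],
  [Int.negSucc 0, Int.negSucc 0, Int.ofNat 1, Int.ofNat 1, Int.ofNat 1, Int.ofNat 1, Int.negSucc 0, Int.ofNat 3, Int.negSucc 0, Int.ofNat 1, Int.ofNat 1, Int.negSucc 0, Int.negSucc 0, Int.negSucc 0, Int.ofNat 1, Int.negSucc 0, Int.ofNat 1, Int.negSucc 0, Int.ofNat 1, Int.ofNat 1, Int.ofNat 1, Int.negSucc 0, Int.ofNat 1, Int.negSucc 0],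
  [Int.ofNat 1, Int.ofNat 1, Int.ofNat 1, Int.negSucc 0, Int.ofNat 3, Int.negSucc 0, Int.ofNat 1, Int.ofNat 1, Int.negSucc 0, Int.negSucc 0, Int.negSucc 0, Int.ofNat 1, Int.negSucc 0, Int.ofNat 1, Int.negSucc 0, Int.ofNat 1, Int.ofNat 1, Int.ofNat 1, Int.negSucc 0, Int.ofNat 1, Int.negSucc 0, Int.negSucc 0, Int.ofNat 1, Int.negSucc 0],
  [Int.ofNat 0, Int.ofNat 0, Int.ofNat 0, Int.ofNat 0, Int.ofNat 0, Int.ofNat 0, Int.ofNat 0, Int.ofNat 0, Int.ofNat 0, Int.ofNat 0, Int.ofNat 0, Int.ofNat 2, Int.ofNat 0, Int.negSucc 1, Int.ofNat 0, Int.ofNat 2, Int.negSucc 1, Int.ofNat 2, Int.ofNat 0, Int.ofNat 0, Int.ofNat 0, Int.negSucc 1, Int.negSucc 1, Int.ofNat 2],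
  [Int.ofNat 0, Int.ofNat 0, Int.ofNat 0, Int.ofNat 0, Int.ofNat 0, Int.ofNat 0, Int.ofNat 0, Int.ofNat 0, Int.ofNat 0, Int.negSucc 1, Int.ofNat 0, Int.ofNat 2, Int.ofNat 0, Int.negSucc 1, Int.negSucc 1, Int.ofNat 2, Int.ofNat 0, Int.ofNat 0, Int.ofNat 0, Int.ofNat 2, Int.negSucc 1, Int.ofNat 0, Int.ofNat 0, Int.ofNat 2],
  [Int.ofNat 1, Int.ofNat 1, Int.ofNat 1, Int.ofNat 1, Int.ofNat 1, Int.ofNat 1, Int.negSucc 0, Int.negSucc 0, Int.negSucc 0, Int.negSucc 0, Int.ofNat 1, Int.ofNat 1, Int.negSucc 0, Int.negSucc 0, Int.negSucc 0, Int.ofNat 3, Int.ofNat 1, Int.ofNat 1, Int.negSucc 0, Int.ofNat 1, Int.negSucc 0, Int.negSucc 0, Int.ofNat 1, Int.negSucc 0],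
  [Int.ofNat 1, Int.ofNat 1, Int.negSucc 0, Int.ofNat 1, Int.ofNat 1, Int.negSucc 0, Int.ofNat 1, Int.negSucc 0, Int.negSucc 0, Int.ofNat 1, Int.negSucc 0, Int.ofNat 1, Int.negSucc 0, Int.negSucc 0, Int.negSucc 0, Int.negSucc 2, Int.ofNat 1, Int.ofNat 1, Int.ofNat 1, Int.ofNat 1, Int.negSucc 0, Int.negSucc 0, Int.negSucc 0, Int.negSucc 0],
  [Int.negSucc 0, Int.negSucc 0, Int.negSucc 0, Int.negSucc 0, Int.ofNat 1, Int.ofNat 1, Int.negSucc 0, Int.negSucc 0, Int.ofNat 1, Int.ofNat 1, Int.negSucc 2, Int.ofNat 1, Int.negSucc 0, Int.negSucc 0, Int.ofNat 1, Int.ofNat 1, Int.ofNat 1, Int.negSucc 0, Int.negSucc 0, Int.ofNat 1, Int.ofNat 1, Int.ofNat 1, Int.negSucc 0, Int.negSucc 0],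
  [Int.negSucc 0, Int.negSucc 0, Int.ofNat 1, Int.negSucc 0, Int.ofNat 1, Int.negSucc 0, Int.ofNat 1, Int.negSucc 0, Int.ofNat 1, Int.negSucc 0, Int.ofNat 3, Int.ofNat 1, Int.negSucc 0, Int.negSucc 0, Int.ofNat 1, Int.negSucc 0, Int.ofNat 1, Int.negSucc 0, Int.ofNat 1, Int.ofNat 1, Int.ofNat 1, Int.ofNat 1, Int.ofNat 1, Int.negSucc 0],
  [Int.ofNat 0, Int.ofNat 0, Int.negSucc 1, Int.ofNat 0, Int.ofNat 0, Int.ofNat 0, Int.ofNat 0, Int.negSucc 1, Int.ofNat 0, Int.negSucc 1, Int.ofNat 2, Int.ofNat 0, Int.negSucc 1, Int.negSucc 1, Int.ofNat 2, Int.negSucc 1, Int.ofNat 0, Int.ofNat 0, Int.ofNat 0, Int.ofNat 0, Int.ofNat 0, Int.ofNat 0, Int.ofNat 0, Int.ofNat 0],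
  [Int.ofNat 0, Int.ofNat 0, Int.ofNat 0, Int.ofNat 0, Int.negSucc 1, Int.ofNat 0, Int.ofNat 0, Int.ofNat 0, Int.ofNat 0, Int.negSucc 1, Int.negSucc 1, Int.ofNat 0, Int.ofNat 0, Int.negSucc 1, Int.ofNat 0, Int.negSucc 1, Int.negSucc 1, Int.ofNat 0, Int.ofNat 0, Int.ofNat 0, Int.ofNat 2, Int.ofNat 0, Int.ofNat 2, Int.ofNat 0],
  [Int.ofNat 0, Int.ofNat 0, Int.ofNat 0, Int.ofNat 0, Int.ofNat 0, Int.ofNat 0, Int.ofNat 0, Int.ofNat 0, Int.ofNat 0, Int.ofNat 0, Int.ofNat 0, Int.ofNat 0, Int.ofNat 0, Int.ofNat 0, Int.ofNat 0, Int.ofNat 0, Int.ofNat 0, Int.ofNat 0, Int.ofNat 0, Int.ofNat 0, Int.ofNat 4, Int.ofNat 0, Int.ofNat 4, Int.ofNat 0],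
  [Int.ofNat 4, Int.ofNat 0, Int.ofNat 4, Int.ofNat 0, Int.ofNat 0, Int.ofNat 0, Int.ofNat 0, Int.ofNat 0, Int.ofNat 0, Int.ofNat 0, Int.ofNat 0, Int.ofNat 0, Int.ofNat 0, Int.ofNat 0, Int.ofNat 0, Int.ofNat 0, Int.ofNat 0, Int.ofNat 0, Int.ofNat 0, Int.ofNat 0, Int.ofNat 0, Int.ofNat 0, Int.ofNat 0, Int.ofNat 0],
  [Int.ofNat 0, Int.ofNat 4, Int.ofNat 0, Int.ofNat 0, Int.ofNat 0, Int.ofNat 0, Int.ofNat 0, Int.ofNat 0, Int.ofNat 0, Int.ofNat 0, Int.ofNat 0, Int.ofNat 0, Int.ofNat 0, Int.ofNat 0, Int.ofNat 0, Int.ofNat 0, Int.ofNat 0, Int.ofNat 0, Int.ofNat 0, Int.ofNat 0, Int.ofNat 0, Int.ofNat 0, Int.ofNat 0, Int.ofNat 4],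
  [Int.ofNat 4, Int.ofNat 0, Int.ofNat 0, Int.ofNat 0, Int.ofNat 0, Int.ofNat 0, Int.ofNat 0, Int.ofNat 0, Int.ofNat 0, Int.ofNat 0, Int.ofNat 0, Int.ofNat 0, Int.ofNat 0, Int.ofNat 0, Int.ofNat 0, Int.ofNat 0, Int.ofNat 0, Int.ofNat 0, Int.ofNat 0, Int.ofNat 0, Int.ofNat 0, Int.ofNat 0, Int.ofNat 0, Int.ofNat 4],
  [Int.negSucc 3, Int.ofNat 0, Int.ofNat 0, Int.ofNat 0, Int.ofNat 0, Int.ofNat 0, Int.ofNat 0, Int.ofNat 0, Int.ofNat 0, Int.ofNat 0, Int.ofNat 0, Int.ofNat 0, Int.ofNat 0, Int.ofNat 0, Int.ofNat 0, Int.ofNat 0, Int.ofNat 0, Int.ofNat 0, Int.ofNat 0, Int.ofNat 0, Int.ofNat 0, Int.ofNat 0, Int.ofNat 0, Int.ofNat 4]]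

set_option maxRecDepth 100000 in
theorem rx_chk1 : cChk rxW nxL rxM1 nxL = true := by
  decide +kernel

set_option maxRecDepth 100000 in
def rxM2 : List (List ℤ) :=
  [[Int.negSucc 0, Int.ofNat 1, Int.negSucc 0, Int.ofNat 1, Int.ofNat 1, Int.ofNat 1, Int.ofNat 1, Int.negSucc 0, Int.ofNat 1, Int.negSucc 0, Int.negSucc 0, Int.negSucc 0, Int.ofNat 1, Int.ofNat 1, Int.ofNat 1, Int.ofNat 1, Int.ofNat 1, Int.ofNat 1, Int.negSucc 0, Int.ofNat 1, Int.ofNat 1, Int.negSucc 0, Int.ofNat 1, Int.negSucc 2],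
  [Int.ofNat 1, Int.negSucc 0, Int.ofNat 1, Int.negSucc 0, Int.ofNat 1, Int.ofNat 1, Int.ofNat 1, Int.ofNat 1, Int.negSucc 0, Int.ofNat 1, Int.negSucc 0, Int.negSucc 0, Int.negSucc 0, Int.ofNat 1, Int.ofNat 1, Int.ofNat 1, Int.ofNat 1, Int.ofNat 1, Int.ofNat 1, Int.negSucc 0, Int.ofNat 1, Int.ofNat 1, Int.negSucc 0, Int.negSucc 2],
  [Int.negSucc 1, Int.ofNat 0, Int.negSucc 1, Int.negSucc 1, Int.ofNat 0, Int.ofNat 0, Int.ofNat 0, Int.ofNat 0, Int.ofNat 0, Int.ofNat 0, Int.negSucc 1, Int.ofNat 0, Int.ofNat 0, Int.ofNat 0, Int.ofNat 0, Int.ofNat 0, Int.ofNat 0, Int.ofNat 0, Int.ofNat 2, Int.negSucc 1, Int.ofNat 0, Int.ofNat 0, Int.negSucc 1, Int.ofNat 2],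
  [Int.negSucc 1, Int.ofNat 0, Int.ofNat 0, Int.ofNat 0, Int.ofNat 0, Int.ofNat 0, Int.ofNat 0, Int.negSucc 1, Int.ofNat 0, Int.ofNat 0, Int.ofNat 0, Int.ofNat 0, Int.ofNat 0, Int.ofNat 0, Int.ofNat 0, Int.ofNat 2, Int.negSucc 1, Int.ofNat 0, Int.ofNat 0, Int.negSucc 1, Int.negSucc 1, Int.ofNat 0, Int.negSucc 1, Int.ofNat 2],
  [Int.ofNat 2, Int.ofNat 0, Int.ofNat 0, Int.ofNat 0, Int.ofNat 2, Int.ofNat 0, Int.ofNat 2, Int.ofNat 0, Int.ofNat 0, Int.ofNat 0, Int.ofNat 0, Int.ofNat 0, Int.ofNat 0, Int.ofNat 2, Int.ofNat 0, Int.ofNat 2, Int.ofNat 0, Int.ofNat 0, Int.ofNat 0, Int.ofNat 0, Int.negSucc 1, Int.ofNat 2, Int.ofNat 0, Int.negSucc 1],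
  [Int.ofNat 2, Int.ofNat 2, Int.ofNat 2, Int.ofNat 0, Int.ofNat 0, Int.ofNat 0, Int.ofNat 0, Int.ofNat 0, Int.ofNat 0, Int.ofNat 2, Int.negSucc 1, Int.ofNat 0, Int.ofNat 0, Int.ofNat 0, Int.ofNat 0, Int.ofNat 2, Int.ofNat 0, Int.ofNat 0, Int.ofNat 0, Int.ofNat 0, Int.ofNat 2, Int.ofNat 0, Int.ofNat 0, Int.negSucc 1],
  [Int.ofNat 0, Int.ofNat 0, Int.ofNat 0, Int.ofNat 0, Int.ofNat 0, Int.ofNat 0, Int.ofNat 0, Int.ofNat 0, Int.ofNat 0, Int.ofNat 0, Int.negSucc 3, Int.ofNat 0, Int.ofNat 0, Int.ofNat 0, Int.ofNat 0, Int.ofNat 0, Int.ofNat 0, Int.ofNat 0, Int.ofNat 0, Int.ofNat 0, Int.ofNat 0, Int.ofNat 0, Int.ofNat 0, Int.ofNat 4],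
  [Int.ofNat 0, Int.ofNat 0, Int.ofNat 0, Int.ofNat 0, Int.ofNat 0, Int.ofNat 0, Int.ofNat 0, Int.ofNat 0, Int.ofNat 0, Int.ofNat 0, Int.ofNat 4, Int.ofNat 0, Int.ofNat 0, Int.ofNat 0, Int.ofNat 0, Int.ofNat 0, Int.ofNat 0, Int.ofNat 0, Int.ofNat 0, Int.ofNat 0, Int.ofNat 0, Int.ofNat 0, Int.ofNat 0, Int.ofNat 4],
  [Int.ofNat 0, Int.ofNat 0, Int.ofNat 0, Int.ofNat 0, Int.ofNat 0, Int.ofNat 0, Int.ofNat 0, Int.ofNat 0, Int.ofNat 0, Int.ofNat 0, Int.ofNat 0, Int.ofNat 0, Int.ofNat 0, Int.ofNat 0, Int.ofNat 0, Int.ofNat 4, Int.ofNat 0, Int.ofNat 0, Int.ofNat 0, Int.ofNat 0, Int.ofNat 0, Int.ofNat 0, Int.ofNat 0, Int.ofNat 4],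
  [Int.ofNat 0, Int.ofNat 0, Int.ofNat 0, Int.ofNat 0, Int.ofNat 0, Int.ofNat 0, Int.ofNat 0, Int.ofNat 0, Int.ofNat 0, Int.ofNat 0, Int.ofNat 0, Int.ofNat 0, Int.ofNat 0, Int.ofNat 0, Int.ofNat 0, Int.negSucc 3, Int.ofNat 0, Int.ofNat 0, Int.ofNat 0, Int.ofNat 0, Int.ofNat 0, Int.ofNat 0, Int.ofNat 0, Int.ofNat 4],
  [Int.ofNat 2, Int.ofNat 2, Int.ofNat 2, Int.ofNat 0, Int.ofNat 0, Int.ofNat 0, Int.ofNat 0, Int.ofNat 0, Int.ofNat 0, Int.ofNat 2, Int.ofNat 2, Int.ofNat 0, Int.ofNat 0, Int.ofNat 0, Int.ofNat 0, Int.negSucc 1, Int.ofNat 0, Int.ofNat 0, Int.ofNat 0, Int.ofNat 0, Int.ofNat 2, Int.ofNat 0, Int.ofNat 0, Int.negSucc 1],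
  [Int.ofNat 2, Int.ofNat 0, Int.ofNat 0, Int.ofNat 0, Int.ofNat 2, Int.ofNat 0, Int.ofNat 2, Int.ofNat 0, Int.ofNat 0, Int.ofNat 0, Int.ofNat 0, Int.ofNat 0, Int.ofNat 0, Int.ofNat 2, Int.ofNat 0, Int.negSucc 1, Int.ofNat 0, Int.ofNat 0, Int.ofNat 0, Int.ofNat 0, Int.ofNat 2, Int.ofNat 2, Int.ofNat 0, Int.negSucc 1],
  [Int.negSucc 1, Int.ofNat 0, Int.ofNat 0, Int.ofNat 0, Int.ofNat 0, Int.ofNat 0, Int.ofNat 0, Int.negSucc 1, Int.ofNat 0, Int.ofNat 0, Int.ofNat 0, Int.ofNat 0, Int.ofNat 0, Int.ofNat 0, Int.ofNat 0, Int.negSucc 1, Int.negSucc 1, Int.ofNat 0, Int.ofNat 0, Int.negSucc 1, Int.ofNat 2, Int.ofNat 0, Int.negSucc 1, Int.ofNat 2],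
  [Int.ofNat 2, Int.ofNat 0, Int.negSucc 1, Int.negSucc 1, Int.ofNat 0, Int.ofNat 0, Int.ofNat 0, Int.ofNat 0, Int.ofNat 0, Int.ofNat 0, Int.negSucc 1, Int.ofNat 0, Int.ofNat 0, Int.ofNat 0, Int.ofNat 0, Int.ofNat 0, Int.ofNat 0, Int.ofNat 0, Int.negSucc 1, Int.negSucc 1, Int.ofNat 0, Int.ofNat 0, Int.negSucc 1, Int.ofNat 2],
  [Int.negSucc 0, Int.ofNat 1, Int.ofNat 3, Int.negSucc 0, Int.ofNat 1, Int.ofNat 1, Int.ofNat 1, Int.ofNat 1, Int.ofNat 1, Int.ofNat 1, Int.negSucc 0, Int.ofNat 1, Int.ofNat 1, Int.ofNat 1, Int.ofNat 1, Int.ofNat 1, Int.ofNat 1, Int.ofNat 1, Int.negSucc 0, Int.negSucc 0, Int.ofNat 1, Int.ofNat 1, Int.negSucc 0, Int.negSucc 0],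
  [Int.ofNat 1, Int.ofNat 3, Int.negSucc 0, Int.ofNat 1, Int.ofNat 1, Int.ofNat 1, Int.ofNat 1, Int.ofNat 1, Int.ofNat 1, Int.negSucc 0, Int.ofNat 1, Int.ofNat 1, Int.ofNat 1, Int.ofNat 1, Int.ofNat 1, Int.ofNat 1, Int.ofNat 1, Int.negSucc 0, Int.negSucc 0, Int.ofNat 1, Int.ofNat 1, Int.negSucc 0, Int.negSucc 0, Int.negSucc 0],
  [Int.negSucc 0, Int.ofNat 3, Int.ofNat 1, Int.ofNat 1, Int.ofNat 1, Int.ofNat 1, Int.ofNat 1, Int.negSucc 0, Int.ofNat 1, Int.ofNat 1, Int.negSucc 0, Int.negSucc 0, Int.ofNat 1, Int.ofNat 1, Int.ofNat 1, Int.ofNat 1, Int.ofNat 1, Int.negSucc 0, Int.ofNat 1, Int.ofNat 1, Int.ofNat 1, Int.ofNat 1, Int.negSucc 0, Int.negSucc 0],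
  [Int.ofNat 1, Int.ofNat 3, Int.negSucc 0, Int.ofNat 1, Int.ofNat 1, Int.ofNat 1, Int.ofNat 1, Int.ofNat 1, Int.ofNat 1, Int.negSucc 0, Int.ofNat 1, Int.ofNat 1, Int.ofNat 1, Int.ofNat 1, Int.ofNat 1, Int.ofNat 1, Int.ofNat 1, Int.negSucc 0, Int.negSucc 0, Int.ofNat 1, Int.ofNat 1, Int.negSucc 0, Int.negSucc 0, Int.negSucc 0],
  [Int.negSucc 0, Int.ofNat 1, Int.ofNat 3, Int.negSucc 0, Int.ofNat 1, Int.ofNat 1, Int.ofNat 1, Int.ofNat 1, Int.ofNat 1, Int.ofNat 1, Int.negSucc 0, Int.ofNat 1, Int.ofNat 1, Int.ofNat 1, Int.ofNat 1, Int.ofNat 1, Int.ofNat 1, Int.ofNat 1, Int.negSucc 0, Int.negSucc 0, Int.ofNat 1, Int.ofNat 1, Int.negSucc 0, Int.negSucc 0],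
  [Int.ofNat 2, Int.ofNat 0, Int.negSucc 1, Int.negSucc 1, Int.ofNat 0, Int.ofNat 0, Int.ofNat 0, Int.ofNat 0, Int.ofNat 0, Int.ofNat 0, Int.negSucc 1, Int.ofNat 0, Int.ofNat 0, Int.ofNat 0, Int.ofNat 0, Int.ofNat 0, Int.ofNat 0, Int.ofNat 0, Int.negSucc 1, Int.negSucc 1, Int.ofNat 0, Int.ofNat 0, Int.negSucc 1, Int.ofNat 2],
  [Int.negSucc 1, Int.ofNat 0, Int.ofNat 0, Int.ofNat 0, Int.ofNat 0, Int.ofNat 0, Int.ofNat 0, Int.negSucc 1, Int.ofNat 0, Int.ofNat 0, Int.ofNat 0, Int.ofNat 0, Int.ofNat 0, Int.ofNat 0, Int.ofNat 0, Int.negSucc 1, Int.negSucc 1, Int.ofNat 0, Int.ofNat 0, Int.negSucc 1, Int.ofNat 2, Int.ofNat 0, Int.negSucc 1, Int.ofNat 2],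
  [Int.ofNat 2, Int.ofNat 0, Int.ofNat 0, Int.ofNat 0, Int.ofNat 2, Int.ofNat 0, Int.ofNat 2, Int.ofNat 0, Int.ofNat 0, Int.ofNat 0, Int.ofNat 0, Int.ofNat 0, Int.ofNat 0, Int.ofNat 2, Int.ofNat 0, Int.negSucc 1, Int.ofNat 0, Int.ofNat 0, Int.ofNat 0, Int.ofNat 0, Int.ofNat 2, Int.ofNat 2, Int.ofNat 0, Int.negSucc 1],
  [Int.ofNat 2, Int.ofNat 2, Int.ofNat 2, Int.ofNat 0, Int.ofNat 0, Int.ofNat 0, Int.ofNat 0, Int.ofNat 0, Int.ofNat 0, Int.ofNat 2, Int.ofNat 2, Int.ofNat 0, Int.ofNat 0, Int.ofNat 0, Int.ofNat 0, Int.negSucc 1, Int.ofNat 0, Int.ofNat 0, Int.ofNat 0, Int.ofNat 0, Int.ofNat 2, Int.ofNat 0, Int.ofNat 0, Int.negSucc 1],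
  [Int.ofNat 0, Int.ofNat 0, Int.ofNat 0, Int.ofNat 0, Int.ofNat 0, Int.ofNat 0, Int.ofNat 0, Int.ofNat 0, Int.ofNat 0, Int.ofNat 0, Int.ofNat 0, Int.ofNat 0, Int.ofNat 0, Int.ofNat 0, Int.ofNat 0, Int.negSucc 3, Int.ofNat 0, Int.ofNat 0, Int.ofNat 0, Int.ofNat 0, Int.ofNat 0, Int.ofNat 0, Int.ofNat 0, Int.ofNat 4],
  [Int.ofNat 0, Int.ofNat 0, Int.ofNat 0, Int.ofNat 0, Int.ofNat 0, Int.ofNat 0, Int.ofNat 0, Int.ofNat 0, Int.ofNat 0, Int.ofNat 0, Int.ofNat 0, Int.ofNat 0, Int.ofNat 0, Int.ofNat 0, Int.ofNat 0, Int.ofNat 4, Int.ofNat 0, Int.ofNat 0, Int.ofNat 0, Int.ofNat 0, Int.ofNat 0, Int.ofNat 0, Int.ofNat 0, Int.ofNat 4],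
  [Int.ofNat 0, Int.ofNat 0, Int.ofNat 0, Int.ofNat 0, Int.ofNat 0, Int.ofNat 0, Int.ofNat 0, Int.ofNat 0, Int.ofNat 0, Int.ofNat 0, Int.ofNat 4, Int.ofNat 0, Int.ofNat 0, Int.ofNat 0, Int.ofNat 0, Int.ofNat 0, Int.ofNat 0, Int.ofNat 0, Int.ofNat 0, Int.ofNat 0, Int.ofNat 0, Int.ofNat 0, Int.ofNat 0, Int.ofNat 4],
  [Int.ofNat 0, Int.ofNat 0, Int.ofNat 0, Int.ofNat 0, Int.ofNat 0, Int.ofNat 0, Int.ofNat 0, Int.ofNat 0, Int.ofNat 0, Int.ofNat 0, Int.negSucc 3, Int.ofNat 0, Int.ofNat 0, Int.ofNat 0, Int.ofNat 0, Int.ofNat 0, Int.ofNat 0, Int.ofNat 0, Int.ofNat 0, Int.ofNat 0, Int.ofNat 0, Int.ofNat 0, Int.ofNat 0, Int.ofNat 4],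
  [Int.ofNat 2, Int.ofNat 2, Int.ofNat 2, Int.ofNat 0, Int.ofNat 0, Int.ofNat 0, Int.ofNat 0, Int.ofNat 0, Int.ofNat 0, Int.ofNat 2, Int.negSucc 1, Int.ofNat 0, Int.ofNat 0, Int.ofNat 0, Int.ofNat 0, Int.ofNat 2, Int.ofNat 0, Int.ofNat 0, Int.ofNat 0, Int.ofNat 0, Int.ofNat 2, Int.ofNat 0, Int.ofNat 0, Int.negSucc 1],
  [Int.ofNat 2, Int.ofNat 0, Int.ofNat 0, Int.ofNat 0, Int.ofNat 2, Int.ofNat 0, Int.ofNat 2, Int.ofNat 0, Int.ofNat 0, Int.ofNat 0, Int.ofNat 0, Int.ofNat 0, Int.ofNat 0, Int.ofNat 2, Int.ofNat 0, Int.ofNat 2, Int.ofNat 0, Int.ofNat 0, Int.ofNat 0, Int.ofNat 0, Int.negSucc 1, Int.ofNat 2, Int.ofNat 0, Int.negSucc 1],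
  [Int.negSucc 1, Int.ofNat 0, Int.ofNat 0, Int.ofNat 0, Int.ofNat 0, Int.ofNat 0, Int.ofNat 0, Int.negSucc 1, Int.ofNat 0, Int.ofNat 0, Int.ofNat 0, Int.ofNat 0, Int.ofNat 0, Int.ofNat 0, Int.ofNat 0, Int.ofNat 2, Int.negSucc 1, Int.ofNat 0, Int.ofNat 0, Int.negSucc 1, Int.negSucc 1, Int.ofNat 0, Int.negSucc 1, Int.ofNat 2],
  [Int.negSucc 1, Int.ofNat 0, Int.negSucc 1, Int.negSucc 1, Int.ofNat 0, Int.ofNat 0, Int.ofNat 0, Int.ofNat 0, Int.ofNat 0, Int.ofNat 0, Int.negSucc 1, Int.ofNat 0, Int.ofNat 0, Int.ofNat 0, Int.ofNat 0, Int.ofNat 0, Int.ofNat 0, Int.ofNat 0, Int.ofNat 2, Int.negSucc 1, Int.ofNat 0, Int.ofNat 0, Int.negSucc 1, Int.ofNat 2],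
  [Int.ofNat 1, Int.negSucc 0, Int.ofNat 1, Int.negSucc 0, Int.ofNat 1, Int.ofNat 1, Int.ofNat 1, Int.ofNat 1, Int.negSucc 0, Int.ofNat 1, Int.negSucc 0, Int.negSucc 0, Int.negSucc 0, Int.ofNat 1, Int.ofNat 1, Int.ofNat 1, Int.ofNat 1, Int.ofNat 1, Int.ofNat 1, Int.negSucc 0, Int.ofNat 1, Int.ofNat 1, Int.negSucc 0, Int.negSucc 2],
  [Int.negSucc 0, Int.ofNat 1, Int.negSucc 0, Int.ofNat 1, Int.ofNat 1, Int.ofNat 1, Int.ofNat 1, Int.negSucc 0, Int.ofNat 1, Int.negSucc 0, Int.negSucc 0, Int.negSucc 0, Int.ofNat 1, Int.ofNat 1, Int.ofNat 1, Int.ofNat 1, Int.ofNat 1, Int.ofNat 1, Int.negSucc 0, Int.ofNat 1, Int.ofNat 1, Int.negSucc 0, Int.ofNat 1, Int.negSucc 2],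
  [Int.ofNat 1, Int.ofNat 1, Int.ofNat 1, Int.ofNat 1, Int.ofNat 1, Int.ofNat 1, Int.ofNat 1, Int.ofNat 1, Int.ofNat 1, Int.ofNat 1, Int.ofNat 1, Int.ofNat 1, Int.ofNat 1, Int.ofNat 1, Int.ofNat 1, Int.ofNat 1, Int.ofNat 1, Int.ofNat 1, Int.ofNat 1, Int.ofNat 1, Int.ofNat 1, Int.ofNat 1, Int.ofNat 1, Int.negSucc 2]]

set_option maxRecDepth 100000 in
theorem rx_chk2 : cChk rxW w3L rxM2 w3L = true := by
  decide +kernel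

set_option maxRecDepth 100000 in
def rxM3 : List (List ℤ) :=
  [[Int.ofNat 0, Int.ofNat 4, Int.negSucc 7, Int.ofNat 12, Int.ofNat 16, Int.ofNat 20, Int.ofNat 24, Int.negSucc 27, Int.ofNat 32, Int.negSucc 35, Int.negSucc 39, Int.negSucc 43, Int.ofNat 48, Int.ofNat 52, Int.ofNat 56, Int.ofNat 60, Int.ofNat 64, Int.ofNat 68, Int.negSucc 71, Int.ofNat 76, Int.ofNat 80, Int.negSucc 83, Int.ofNat 88, Int.negSucc 1011],
  [Int.ofNat 88, Int.ofNat 0, Int.ofNat 4, Int.negSucc 7, Int.ofNat 12, Int.ofNat 16, Int.ofNat 20, Int.ofNat 24, Int.negSucc 27, Int.ofNat 32, Int.negSucc 35, Int.negSucc 39, Int.negSucc 43, Int.ofNat 48, Int.ofNat 52, Int.ofNat 56, Int.ofNat 60, Int.ofNat 64, Int.ofNat 68, Int.negSucc 71, Int.ofNat 76, Int.ofNat 80, Int.negSucc 83, Int.negSucc 1011],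
  [Int.negSucc 547, Int.negSucc 459, Int.negSucc 463, Int.negSucc 69, Int.negSucc 5, Int.negSucc 45, Int.negSucc 5, Int.negSucc 1, Int.negSucc 5, Int.negSucc 31, Int.negSucc 99, Int.negSucc 17, Int.negSucc 21, Int.ofNat 30, Int.negSucc 9, Int.negSucc 7, Int.ofNat 42, Int.ofNat 2, Int.ofNat 90, Int.negSucc 97, Int.ofNat 12, Int.ofNat 54, Int.negSucc 101, Int.ofNat 552],
  [Int.negSucc 69, Int.negSucc 5, Int.negSucc 45, Int.negSucc 5, Int.negSucc 1, Int.negSucc 5, Int.negSucc 31, Int.negSucc 99, Int.negSucc 17, Int.negSucc 21, Int.ofNat 30, Int.negSucc 9, Int.negSucc 7, Int.ofNat 42, Int.ofNat 2, Int.ofNat 90, Int.negSucc 97, Int.ofNat 12, Int.ofNat 54, Int.negSucc 101, Int.negSucc 547, Int.negSucc 459, Int.negSucc 463, Int.ofNat 552],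
  [Int.ofNat 285, Int.ofNat 221, Int.ofNat 261, Int.negSucc 6, Int.ofNat 259, Int.negSucc 6, Int.ofNat 315, Int.ofNat 247, Int.negSucc 26, Int.ofNat 203, Int.ofNat 255, Int.negSucc 18, Int.negSucc 16, Int.ofNat 303, Int.ofNat 1, Int.ofNat 315, Int.ofNat 163, Int.ofNat 11, Int.ofNat 45, Int.ofNat 245, Int.negSucc 322, Int.negSucc 112, Int.negSucc 202, Int.negSucc 336],
  [Int.ofNat 285, Int.ofNat 315, Int.ofNat 259, Int.negSucc 6, Int.ofNat 45, Int.ofNat 247, Int.ofNat 261, Int.ofNat 255, Int.negSucc 16, Int.ofNat 303, Int.negSucc 322, Int.ofNat 11, Int.ofNat 203, Int.ofNat 163, Int.negSucc 202, Int.ofNat 315, Int.negSucc 26, Int.ofNat 1, Int.ofNat 221, Int.negSucc 18, Int.negSucc 112, Int.negSucc 6, Int.ofNat 245, Int.negSucc 336],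
  [Int.negSucc 23, Int.negSucc 53, Int.ofNat 2, Int.negSucc 25, Int.negSucc 167, Int.ofNat 228, Int.ofNat 16, Int.ofNat 10, Int.negSucc 225, Int.ofNat 212, Int.negSucc 413, Int.negSucc 197, Int.negSucc 5, Int.negSucc 49, Int.negSucc 221, Int.ofNat 224, Int.negSucc 239, Int.negSucc 17, Int.ofNat 12, Int.negSucc 263, Int.negSucc 203, Int.negSucc 251, Int.ofNat 32, Int.ofNat 598],
  [Int.negSucc 23, Int.negSucc 53, Int.negSucc 1, Int.negSucc 25, Int.negSucc 167, Int.negSucc 227, Int.negSucc 15, Int.ofNat 10, Int.negSucc 225, Int.negSucc 211, Int.ofNat 414, Int.negSucc 197, Int.negSucc 5, Int.negSucc 49, Int.negSucc 221, Int.negSucc 223, Int.negSucc 239, Int.negSucc 17, Int.negSucc 11, Int.negSucc 263, Int.negSucc 203, Int.negSucc 251, Int.negSucc 31, Int.ofNat 598],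
  [Int.negSucc 227, Int.negSucc 203, Int.negSucc 25, Int.negSucc 211, Int.negSucc 239, Int.negSucc 1, Int.negSucc 263, Int.negSucc 31, Int.negSucc 17, Int.negSucc 251, Int.ofNat 10, Int.negSucc 167, Int.negSucc 15, Int.negSucc 53, Int.negSucc 11, Int.ofNat 414, Int.negSucc 223, Int.negSucc 197, Int.negSucc 225, Int.negSucc 221, Int.negSucc 23, Int.negSucc 5, Int.negSucc 49, Int.ofNat 598],
  [Int.negSucc 227, Int.negSucc 203, Int.ofNat 26, Int.negSucc 211, Int.negSucc 239, Int.ofNat 2, Int.ofNat 264, Int.negSucc 31, Int.negSucc 17, Int.ofNat 252, Int.negSucc 9, Int.negSucc 167, Int.negSucc 15, Int.negSucc 53, Int.negSucc 11, Int.negSucc 413, Int.negSucc 223, Int.negSucc 197, Int.ofNat 226, Int.negSucc 221, Int.negSucc 23, Int.negSucc 5, Int.ofNat 50, Int.ofNat 598],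
  [Int.ofNat 324, Int.ofNat 300, Int.ofNat 70, Int.negSucc 1, Int.negSucc 5, Int.ofNat 212, Int.ofNat 262, Int.negSucc 33, Int.negSucc 29, Int.ofNat 350, Int.ofNat 88, Int.negSucc 179, Int.negSucc 27, Int.ofNat 180, Int.ofNat 198, Int.negSucc 315, Int.ofNat 10, Int.ofNat 12, Int.ofNat 214, Int.negSucc 223, Int.ofNat 74, Int.negSucc 7, Int.ofNat 284, Int.negSucc 501],
  [Int.ofNat 324, Int.ofNat 214, Int.ofNat 262, Int.negSucc 1, Int.ofNat 70, Int.negSucc 7, Int.ofNat 300, Int.ofNat 212, Int.ofNat 10, Int.negSucc 27, Int.negSucc 33, Int.negSucc 223, Int.negSucc 29, Int.ofNat 350, Int.ofNat 12, Int.negSucc 315, Int.ofNat 180, Int.negSucc 179, Int.negSucc 5, Int.ofNat 284, Int.ofNat 88, Int.ofNat 74, Int.ofNat 198, Int.negSucc 501],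
  [Int.negSucc 174, Int.negSucc 64, Int.negSucc 112, Int.ofNat 87, Int.negSucc 328, Int.ofNat 81, Int.negSucc 134, Int.negSucc 222, Int.ofNat 135, Int.ofNat 117, Int.ofNat 111, Int.negSucc 98, Int.ofNat 95, Int.negSucc 48, Int.ofNat 101, Int.negSucc 170, Int.negSucc 218, Int.negSucc 90, Int.ofNat 119, Int.negSucc 150, Int.ofNat 233, Int.negSucc 360, Int.negSucc 200, Int.ofNat 651],
  [Int.ofNat 233, Int.negSucc 360, Int.negSucc 200, Int.negSucc 174, Int.negSucc 64, Int.negSucc 112, Int.ofNat 87, Int.negSucc 328, Int.ofNat 81, Int.negSucc 134, Int.negSucc 222, Int.ofNat 135, Int.ofNat 117, Int.ofNat 111, Int.negSucc 98, Int.ofNat 95, Int.negSucc 48, Int.ofNat 101, Int.negSucc 170, Int.negSucc 218, Int.negSucc 90, Int.ofNat 119, Int.negSucc 150, Int.ofNat 651],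
  [Int.negSucc 71, Int.ofNat 522, Int.ofNat 362, Int.negSucc 31, Int.ofNat 12, Int.ofNat 30, Int.ofNat 258, Int.negSucc 157, Int.ofNat 0, Int.ofNat 42, Int.negSucc 45, Int.ofNat 54, Int.ofNat 36, Int.ofNat 188, Int.ofNat 44, Int.ofNat 272, Int.ofNat 28, Int.ofNat 244, Int.negSucc 251, Int.negSucc 47, Int.ofNat 86, Int.ofNat 290, Int.negSucc 73, Int.negSucc 489],
  [Int.ofNat 522, Int.ofNat 362, Int.negSucc 31, Int.ofNat 12, Int.ofNat 30, Int.ofNat 258, Int.negSucc 157, Int.ofNat 0, Int.ofNat 42, Int.negSucc 45, Int.ofNat 54, Int.ofNat 36, Int.ofNat 188, Int.ofNat 44, Int.ofNat 272, Int.ofNat 28, Int.ofNat 244, Int.negSucc 251, Int.negSucc 47, Int.ofNat 86, Int.ofNat 290, Int.negSucc 73, Int.negSucc 71, Int.negSucc 489],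
  [Int.negSucc 521, Int.ofNat 362, Int.ofNat 32, Int.ofNat 12, Int.ofNat 30, Int.ofNat 258, Int.negSucc 157, Int.ofNat 0, Int.ofNat 42, Int.ofNat 46, Int.negSucc 53, Int.negSucc 35, Int.ofNat 188, Int.ofNat 44, Int.ofNat 272, Int.ofNat 28, Int.ofNat 244, Int.negSucc 251, Int.ofNat 48, Int.ofNat 86, Int.ofNat 290, Int.ofNat 74, Int.negSucc 71, Int.negSucc 489],
  [Int.ofNat 522, Int.ofNat 362, Int.negSucc 31, Int.ofNat 12, Int.ofNat 30, Int.ofNat 258, Int.negSucc 157, Int.ofNat 0, Int.ofNat 42, Int.negSucc 45, Int.ofNat 54, Int.ofNat 36, Int.ofNat 188, Int.ofNat 44, Int.ofNat 272, Int.ofNat 28, Int.ofNat 244, Int.negSucc 251, Int.negSucc 47, Int.ofNat 86, Int.ofNat 290, Int.negSucc 73, Int.negSucc 71, Int.negSucc 489],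
  [Int.negSucc 71, Int.ofNat 522, Int.ofNat 362, Int.negSucc 31, Int.ofNat 12, Int.ofNat 30, Int.ofNat 258, Int.negSucc 157, Int.ofNat 0, Int.ofNat 42, Int.negSucc 45, Int.ofNat 54, Int.ofNat 36, Int.ofNat 188, Int.ofNat 44, Int.ofNat 272, Int.ofNat 28, Int.ofNat 244, Int.negSucc 251, Int.negSucc 47, Int.ofNat 86, Int.ofNat 290, Int.negSucc 73, Int.negSucc 489],
  [Int.ofNat 233, Int.negSucc 360, Int.negSucc 200, Int.negSucc 174, Int.negSucc 64, Int.negSucc 112, Int.ofNat 87, Int.negSucc 328, Int.ofNat 81, Int.negSucc 134, Int.negSucc 222, Int.ofNat 135, Int.ofNat 117, Int.ofNat 111, Int.negSucc 98, Int.ofNat 95, Int.negSucc 48, Int.ofNat 101, Int.negSucc 170, Int.negSucc 218, Int.negSucc 90, Int.ofNat 119, Int.negSucc 150, Int.ofNat 651],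
  [Int.negSucc 174, Int.negSucc 64, Int.negSucc 112, Int.ofNat 87, Int.negSucc 328, Int.ofNat 81, Int.negSucc 134, Int.negSucc 222, Int.ofNat 135, Int.ofNat 117, Int.ofNat 111, Int.negSucc 98, Int.ofNat 95, Int.negSucc 48, Int.ofNat 101, Int.negSucc 170, Int.negSucc 218, Int.negSucc 90, Int.ofNat 119, Int.negSucc 150, Int.ofNat 233, Int.negSucc 360, Int.negSucc 200, Int.ofNat 651],
  [Int.ofNat 324, Int.ofNat 214, Int.ofNat 262, Int.negSucc 1, Int.ofNat 70, Int.negSucc 7, Int.ofNat 300, Int.ofNat 212, Int.ofNat 10, Int.negSucc 27, Int.negSucc 33, Int.negSucc 223, Int.negSucc 29, Int.ofNat 350, Int.ofNat 12, Int.negSucc 315, Int.ofNat 180, Int.negSucc 179, Int.negSucc 5, Int.ofNat 284, Int.ofNat 88, Int.ofNat 74, Int.ofNat 198, Int.negSucc 501],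
  [Int.ofNat 324, Int.ofNat 300, Int.ofNat 70, Int.negSucc 1, Int.negSucc 5, Int.ofNat 212, Int.ofNat 262, Int.negSucc 33, Int.negSucc 29, Int.ofNat 350, Int.ofNat 88, Int.negSucc 179, Int.negSucc 27, Int.ofNat 180, Int.ofNat 198, Int.negSucc 315, Int.ofNat 10, Int.ofNat 12, Int.ofNat 214, Int.negSucc 223, Int.ofNat 74, Int.negSucc 7, Int.ofNat 284, Int.negSucc 501],
  [Int.negSucc 227, Int.negSucc 203, Int.ofNat 26, Int.negSucc 211, Int.negSucc 239, Int.ofNat 2, Int.ofNat 264, Int.negSucc 31, Int.negSucc 17, Int.ofNat 252, Int.negSucc 9, Int.negSucc 167, Int.negSucc 15, Int.negSucc 53, Int.negSucc 11, Int.negSucc 413, Int.negSucc 223, Int.negSucc 197, Int.ofNat 226, Int.negSucc 221, Int.negSucc 23, Int.negSucc 5, Int.ofNat 50, Int.ofNat 598],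
  [Int.negSucc 227, Int.negSucc 203, Int.negSucc 25, Int.negSucc 211, Int.negSucc 239, Int.negSucc 1, Int.negSucc 263, Int.negSucc 31, Int.negSucc 17, Int.negSucc 251, Int.ofNat 10, Int.negSucc 167, Int.negSucc 15, Int.negSucc 53, Int.negSucc 11, Int.ofNat 414, Int.negSucc 223, Int.negSucc 197, Int.negSucc 225, Int.negSucc 221, Int.negSucc 23, Int.negSucc 5, Int.negSucc 49, Int.ofNat 598],
  [Int.negSucc 23, Int.negSucc 53, Int.negSucc 1, Int.negSucc 25, Int.negSucc 167, Int.negSucc 227, Int.negSucc 15, Int.ofNat 10, Int.negSucc 225, Int.negSucc 211, Int.ofNat 414, Int.negSucc 197, Int.negSucc 5, Int.negSucc 49, Int.negSucc 221, Int.negSucc 223, Int.negSucc 239, Int.negSucc 17, Int.negSucc 11, Int.negSucc 263, Int.negSucc 203, Int.negSucc 251, Int.negSucc 31, Int.ofNat 598],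
  [Int.negSucc 23, Int.negSucc 53, Int.ofNat 2, Int.negSucc 25, Int.negSucc 167, Int.ofNat 228, Int.ofNat 16, Int.ofNat 10, Int.negSucc 225, Int.ofNat 212, Int.negSucc 413, Int.negSucc 197, Int.negSucc 5, Int.negSucc 49, Int.negSucc 221, Int.ofNat 224, Int.negSucc 239, Int.negSucc 17, Int.ofNat 12, Int.negSucc 263, Int.negSucc 203, Int.negSucc 251, Int.ofNat 32, Int.ofNat 598],
  [Int.ofNat 285, Int.ofNat 315, Int.ofNat 259, Int.negSucc 6, Int.ofNat 45, Int.ofNat 247, Int.ofNat 261, Int.ofNat 255, Int.negSucc 16, Int.ofNat 303, Int.negSucc 322, Int.ofNat 11, Int.ofNat 203, Int.ofNat 163, Int.negSucc 202, Int.ofNat 315, Int.negSucc 26, Int.ofNat 1, Int.ofNat 221, Int.negSucc 18, Int.negSucc 112, Int.negSucc 6, Int.ofNat 245, Int.negSucc 336],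
  [Int.ofNat 285, Int.ofNat 221, Int.ofNat 261, Int.negSucc 6, Int.ofNat 259, Int.negSucc 6, Int.ofNat 315, Int.ofNat 247, Int.negSucc 26, Int.ofNat 203, Int.ofNat 255, Int.negSucc 18, Int.negSucc 16, Int.ofNat 303, Int.ofNat 1, Int.ofNat 315, Int.ofNat 163, Int.ofNat 11, Int.ofNat 45, Int.ofNat 245, Int.negSucc 322, Int.negSucc 112, Int.negSucc 202, Int.negSucc 336],
  [Int.negSucc 69, Int.negSucc 5, Int.negSucc 45, Int.negSucc 5, Int.negSucc 1, Int.negSucc 5, Int.negSucc 31, Int.negSucc 99, Int.negSucc 17, Int.negSucc 21, Int.ofNat 30, Int.negSucc 9, Int.negSucc 7, Int.ofNat 42, Int.ofNat 2, Int.ofNat 90, Int.negSucc 97, Int.ofNat 12, Int.ofNat 54, Int.negSucc 101, Int.negSucc 547, Int.negSucc 459, Int.negSucc 463, Int.ofNat 552],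
  [Int.negSucc 547, Int.negSucc 459, Int.negSucc 463, Int.negSucc 69, Int.negSucc 5, Int.negSucc 45, Int.negSucc 5, Int.negSucc 1, Int.negSucc 5, Int.negSucc 31, Int.negSucc 99, Int.negSucc 17, Int.negSucc 21, Int.ofNat 30, Int.negSucc 9, Int.negSucc 7, Int.ofNat 42, Int.ofNat 2, Int.ofNat 90, Int.negSucc 97, Int.ofNat 12, Int.ofNat 54, Int.negSucc 101, Int.ofNat 552],
  [Int.ofNat 88, Int.ofNat 0, Int.ofNat 4, Int.negSucc 7, Int.ofNat 12, Int.ofNat 16, Int.ofNat 20, Int.ofNat 24, Int.negSucc 27, Int.ofNat 32, Int.negSucc 35, Int.negSucc 39, Int.negSucc 43, Int.ofNat 48, Int.ofNat 52, Int.ofNat 56, Int.ofNat 60, Int.ofNat 64, Int.ofNat 68, Int.negSucc 71, Int.ofNat 76, Int.ofNat 80, Int.negSucc 83, Int.negSucc 1011],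
  [Int.ofNat 0, Int.ofNat 4, Int.negSucc 7, Int.ofNat 12, Int.ofNat 16, Int.ofNat 20, Int.ofNat 24, Int.negSucc 27, Int.ofNat 32, Int.negSucc 35, Int.negSucc 39, Int.negSucc 43, Int.ofNat 48, Int.ofNat 52, Int.ofNat 56, Int.ofNat 60, Int.ofNat 64, Int.ofNat 68, Int.negSucc 71, Int.ofNat 76, Int.ofNat 80, Int.negSucc 83, Int.ofNat 88, Int.negSucc 1011],
  [Int.ofNat 0, Int.ofNat 4, Int.ofNat 8, Int.ofNat 12, Int.ofNat 16, Int.ofNat 20, Int.ofNat 24, Int.ofNat 28, Int.ofNat 32, Int.ofNat 36, Int.ofNat 40, Int.ofNat 44, Int.ofNat 48, Int.ofNat 52, Int.ofNat 56, Int.ofNat 60, Int.ofNat 64, Int.ofNat 68, Int.ofNat 72, Int.ofNat 76, Int.ofNat 80, Int.ofNat 84, Int.ofNat 88, Int.negSucc 1011]]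

set_option maxRecDepth 100000 in
theorem rx_chk3 : cChk rxW vdL rxM3 vdL = true := by
  decide +kernel

theorem rx_one : wE letE rxW = 1 :=
  eq_one_of_c4 rx_chk0 rx_chk1 rx_chk2 rx_chk3

/-- A word which is trivial. -/
def rnW : List ℕ := [23, 1, 24, 14]

set_option maxRecDepth 100000 in
def rnM0 : List (List ℤ) :=
  [[Int.negSucc 3, Int.ofNat 0, Int.ofNat 0, Int.ofNat 0, Int.ofNat 0, Int.ofNat 0, Int.ofNat 0, Int.ofNat 0, Int.ofNat 0, Int.ofNat 0, Int.ofNat 0, Int.ofNat 0, Int.ofNat 0, Int.ofNat 0, Int.ofNat 0, Int.ofNat 0, Int.ofNat 0, Int.ofNat 0, Int.ofNat 0, Int.ofNat 0, Int.ofNat 0, Int.ofNat 0, Int.ofNat 0, Int.ofNat 4],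
  [Int.ofNat 0, Int.negSucc 3, Int.ofNat 0, Int.ofNat 0, Int.ofNat 0, Int.ofNat 0, Int.ofNat 0, Int.ofNat 0, Int.ofNat 0, Int.ofNat 0, Int.ofNat 0, Int.ofNat 0, Int.ofNat 0, Int.ofNat 0, Int.ofNat 0, Int.ofNat 0, Int.ofNat 0, Int.ofNat 0, Int.ofNat 0, Int.ofNat 0, Int.ofNat 0, Int.ofNat 0, Int.ofNat 0, Int.ofNat 4],
  [Int.ofNat 0, Int.ofNat 4, Int.ofNat 0, Int.ofNat 0, Int.ofNat 0, Int.ofNat 0, Int.ofNat 0, Int.ofNat 0, Int.ofNat 0, Int.ofNat 0, Int.ofNat 0, Int.ofNat 0, Int.ofNat 0, Int.ofNat 0, Int.ofNat 0, Int.ofNat 0, Int.ofNat 0, Int.ofNat 0, Int.ofNat 0, Int.ofNat 0, Int.ofNat 0, Int.ofNat 0, Int.ofNat 0, Int.negSucc 3],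
  [Int.ofNat 0, Int.ofNat 0, Int.ofNat 0, Int.ofNat 0, Int.ofNat 0, Int.ofNat 0, Int.ofNat 0, Int.ofNat 0, Int.ofNat 0, Int.ofNat 0, Int.ofNat 0, Int.ofNat 0, Int.ofNat 0, Int.ofNat 0, Int.ofNat 0, Int.ofNat 0, Int.ofNat 0, Int.ofNat 0, Int.ofNat 0, Int.ofNat 0, Int.ofNat 0, Int.ofNat 4, Int.ofNat 0, Int.negSucc 3],
  [Int.negSucc 1, Int.negSucc 1, Int.negSucc 1, Int.ofNat 0, Int.ofNat 0, Int.ofNat 0, Int.negSucc 1, Int.negSucc 1, Int.ofNat 0, Int.ofNat 0, Int.ofNat 0, Int.ofNat 0, Int.ofNat 0, Int.ofNat 0, Int.ofNat 0, Int.ofNat 0, Int.ofNat 0, Int.ofNat 0, Int.ofNat 0, Int.negSucc 1, Int.ofNat 0, Int.ofNat 2, Int.ofNat 0, Int.ofNat 2],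
  [Int.negSucc 1, Int.negSucc 1, Int.ofNat 0, Int.ofNat 0, Int.ofNat 0, Int.negSucc 1, Int.negSucc 1, Int.ofNat 0, Int.ofNat 0, Int.ofNat 0, Int.ofNat 0, Int.ofNat 0, Int.ofNat 0, Int.ofNat 0, Int.ofNat 0, Int.ofNat 0, Int.ofNat 0, Int.ofNat 0, Int.negSucc 1, Int.ofNat 0, Int.ofNat 2, Int.ofNat 0, Int.negSucc 1, Int.ofNat 2],
  [Int.ofNat 1, Int.ofNat 1, Int.negSucc 0, Int.ofNat 1, Int.ofNat 1, Int.negSucc 0, Int.negSucc 0, Int.ofNat 1, Int.ofNat 1, Int.negSucc 0, Int.negSucc 0, Int.ofNat 1, Int.ofNat 1, Int.ofNat 1, Int.ofNat 1, Int.negSucc 0, Int.ofNat 1, Int.ofNat 1, Int.negSucc 0, Int.ofNat 1, Int.ofNat 1, Int.ofNat 1, Int.negSucc 0, Int.negSucc 2],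
  [Int.ofNat 1, Int.ofNat 1, Int.ofNat 1, Int.ofNat 1, Int.ofNat 1, Int.ofNat 1, Int.ofNat 1, Int.ofNat 1, Int.ofNat 1, Int.ofNat 1, Int.ofNat 1, Int.ofNat 1, Int.ofNat 1, Int.ofNat 1, Int.ofNat 1, Int.ofNat 1, Int.ofNat 1, Int.ofNat 1, Int.ofNat 1, Int.ofNat 1, Int.ofNat 1, Int.ofNat 1, Int.ofNat 1, Int.negSucc 2],
  [Int.ofNat 1, Int.ofNat 1, Int.ofNat 1, Int.ofNat 1, Int.ofNat 1, Int.ofNat 1, Int.ofNat 1, Int.ofNat 1, Int.ofNat 1, Int.ofNat 1, Int.ofNat 1, Int.ofNat 1, Int.ofNat 1, Int.ofNat 1, Int.ofNat 1, Int.ofNat 1, Int.ofNat 1, Int.ofNat 1, Int.ofNat 1, Int.ofNat 1, Int.ofNat 1, Int.ofNat 1, Int.ofNat 1, Int.negSucc 2],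
  [Int.ofNat 1, Int.ofNat 1, Int.negSucc 0, Int.ofNat 1, Int.ofNat 1, Int.negSucc 0, Int.negSucc 0, Int.ofNat 1, Int.ofNat 1, Int.negSucc 0, Int.negSucc 0, Int.ofNat 1, Int.ofNat 1, Int.ofNat 1, Int.ofNat 1, Int.negSucc 0, Int.ofNat 1, Int.ofNat 1, Int.negSucc 0, Int.ofNat 1, Int.ofNat 1, Int.ofNat 1, Int.negSucc 0, Int.negSucc 2],
  [Int.negSucc 1, Int.negSucc 1, Int.ofNat 0, Int.ofNat 0, Int.ofNat 0, Int.negSucc 1, Int.negSucc 1, Int.ofNat 0, Int.ofNat 0, Int.ofNat 0, Int.ofNat 0, Int.ofNat 0, Int.ofNat 0, Int.ofNat 0, Int.ofNat 0, Int.ofNat 0, Int.ofNat 0, Int.ofNat 0, Int.negSucc 1, Int.ofNat 0, Int.ofNat 2, Int.ofNat 0, Int.negSucc 1, Int.ofNat 2],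
  [Int.negSucc 1, Int.negSucc 1, Int.negSucc 1, Int.ofNat 0, Int.ofNat 0, Int.ofNat 0, Int.negSucc 1, Int.negSucc 1, Int.ofNat 0, Int.ofNat 0, Int.ofNat 0, Int.ofNat 0, Int.ofNat 0, Int.ofNat 0, Int.ofNat 0, Int.ofNat 0, Int.ofNat 0, Int.ofNat 0, Int.ofNat 0, Int.negSucc 1, Int.ofNat 0, Int.ofNat 2, Int.ofNat 0, Int.ofNat 2],
  [Int.ofNat 0, Int.ofNat 0, Int.ofNat 0, Int.ofNat 0, Int.ofNat 0, Int.ofNat 0, Int.ofNat 0, Int.ofNat 0, Int.ofNat 0, Int.ofNat 0, Int.ofNat 0, Int.ofNat 0, Int.ofNat 0, Int.ofNat 0, Int.ofNat 0, Int.ofNat 0, Int.ofNat 0, Int.ofNat 0, Int.ofNat 0, Int.ofNat 0, Int.ofNat 0, Int.ofNat 4, Int.ofNat 0, Int.negSucc 3],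
  [Int.ofNat 0, Int.ofNat 4, Int.ofNat 0, Int.ofNat 0, Int.ofNat 0, Int.ofNat 0, Int.ofNat 0, Int.ofNat 0, Int.ofNat 0, Int.ofNat 0, Int.ofNat 0, Int.ofNat 0, Int.ofNat 0, Int.ofNat 0, Int.ofNat 0, Int.ofNat 0, Int.ofNat 0, Int.ofNat 0, Int.ofNat 0, Int.ofNat 0, Int.ofNat 0, Int.ofNat 0, Int.ofNat 0, Int.negSucc 3],
  [Int.ofNat 0, Int.negSucc 3, Int.ofNat 0, Int.ofNat 0, Int.ofNat 0, Int.ofNat 0, Int.ofNat 0, Int.ofNat 0, Int.ofNat 0, Int.ofNat 0, Int.ofNat 0, Int.ofNat 0, Int.ofNat 0, Int.ofNat 0, Int.ofNat 0, Int.ofNat 0, Int.ofNat 0, Int.ofNat 0, Int.ofNat 0, Int.ofNat 0, Int.ofNat 0, Int.ofNat 0, Int.ofNat 0, Int.ofNat 4],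
  [Int.negSucc 3, Int.ofNat 0, Int.ofNat 0, Int.ofNat 0, Int.ofNat 0, Int.ofNat 0, Int.ofNat 0, Int.ofNat 0, Int.ofNat 0, Int.ofNat 0, Int.ofNat 0, Int.ofNat 0, Int.ofNat 0, Int.ofNat 0, Int.ofNat 0, Int.ofNat 0, Int.ofNat 0, Int.ofNat 0, Int.ofNat 0, Int.ofNat 0, Int.ofNat 0, Int.ofNat 0, Int.ofNat 0, Int.ofNat 4],
  [Int.ofNat 4, Int.ofNat 0, Int.ofNat 0, Int.ofNat 0, Int.ofNat 0, Int.ofNat 0, Int.ofNat 0, Int.ofNat 0, Int.ofNat 0, Int.ofNat 0, Int.ofNat 0, Int.ofNat 0, Int.ofNat 0, Int.ofNat 0, Int.ofNat 0, Int.ofNat 0, Int.ofNat 0, Int.ofNat 0, Int.ofNat 0, Int.ofNat 0, Int.ofNat 0, Int.ofNat 0, Int.ofNat 0, Int.ofNat 4],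
  [Int.ofNat 4, Int.ofNat 0, Int.ofNat 0, Int.ofNat 0, Int.ofNat 0, Int.ofNat 0, Int.ofNat 0, Int.ofNat 0, Int.ofNat 0, Int.ofNat 0, Int.ofNat 0, Int.ofNat 0, Int.ofNat 0, Int.ofNat 0, Int.ofNat 0, Int.ofNat 0, Int.ofNat 0, Int.ofNat 0, Int.ofNat 0, Int.ofNat 0, Int.ofNat 0, Int.ofNat 0, Int.ofNat 0, Int.ofNat 4],
  [Int.negSucc 3, Int.ofNat 0, Int.ofNat 0, Int.ofNat 0, Int.ofNat 0, Int.ofNat 0, Int.ofNat 0, Int.ofNat 0, Int.ofNat 0, Int.ofNat 0, Int.ofNat 0, Int.ofNat 0, Int.ofNat 0, Int.ofNat 0, Int.ofNat 0, Int.ofNat 0, Int.ofNat 0, Int.ofNat 0, Int.ofNat 0, Int.ofNat 0, Int.ofNat 0, Int.ofNat 0, Int.ofNat 0, Int.ofNat 4],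
  [Int.ofNat 0, Int.negSucc 3, Int.ofNat 0, Int.ofNat 0, Int.ofNat 0, Int.ofNat 0, Int.ofNat 0, Int.ofNat 0, Int.ofNat 0, Int.ofNat 0, Int.ofNat 0, Int.ofNat 0, Int.ofNat 0, Int.ofNat 0, Int.ofNat 0, Int.ofNat 0, Int.ofNat 0, Int.ofNat 0, Int.ofNat 0, Int.ofNat 0, Int.ofNat 0, Int.ofNat 0, Int.ofNat 0, Int.ofNat 4],
  [Int.ofNat 0, Int.ofNat 4, Int.ofNat 0, Int.ofNat 0, Int.ofNat 0, Int.ofNat 0, Int.ofNat 0, Int.ofNat 0, Int.ofNat 0, Int.ofNat 0, Int.ofNat 0, Int.ofNat 0, Int.ofNat 0, Int.ofNat 0, Int.ofNat 0, Int.ofNat 0, Int.ofNat 0, Int.ofNat 0, Int.ofNat 0, Int.ofNat 0, Int.ofNat 0, Int.ofNat 0, Int.ofNat 0, Int.negSucc 3],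
  [Int.ofNat 0, Int.ofNat 0, Int.ofNat 0, Int.ofNat 0, Int.ofNat 0, Int.ofNat 0, Int.ofNat 0, Int.ofNat 0, Int.ofNat 0, Int.ofNat 0, Int.ofNat 0, Int.ofNat 0, Int.ofNat 0, Int.ofNat 0, Int.ofNat 0, Int.ofNat 0, Int.ofNat 0, Int.ofNat 0, Int.ofNat 0, Int.ofNat 0, Int.ofNat 0, Int.ofNat 4, Int.ofNat 0, Int.negSucc 3],
  [Int.negSucc 1, Int.negSucc 1, Int.negSucc 1, Int.ofNat 0, Int.ofNat 0, Int.ofNat 0, Int.negSucc 1, Int.negSucc 1, Int.ofNat 0, Int.ofNat 0, Int.ofNat 0, Int.ofNat 0, Int.ofNat 0, Int.ofNat 0, Int.ofNat 0, Int.ofNat 0, Int.ofNat 0, Int.ofNat 0, Int.ofNat 0, Int.negSucc 1, Int.ofNat 0, Int.ofNat 2, Int.ofNat 0, Int.ofNat 2],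
  [Int.negSucc 1, Int.negSucc 1, Int.ofNat 0, Int.ofNat 0, Int.ofNat 0, Int.negSucc 1, Int.negSucc 1, Int.ofNat 0, Int.ofNat 0, Int.ofNat 0, Int.ofNat 0, Int.ofNat 0, Int.ofNat 0, Int.ofNat 0, Int.ofNat 0, Int.ofNat 0, Int.ofNat 0, Int.ofNat 0, Int.negSucc 1, Int.ofNat 0, Int.ofNat 2, Int.ofNat 0, Int.negSucc 1, Int.ofNat 2],
  [Int.ofNat 1, Int.ofNat 1, Int.negSucc 0, Int.ofNat 1, Int.ofNat 1, Int.negSucc 0, Int.negSucc 0, Int.ofNat 1, Int.ofNat 1, Int.negSucc 0, Int.negSucc 0, Int.ofNat 1, Int.ofNat 1, Int.ofNat 1, Int.ofNat 1, Int.negSucc 0, Int.ofNat 1, Int.ofNat 1, Int.negSucc 0, Int.ofNat 1, Int.ofNat 1, Int.ofNat 1, Int.negSucc 0, Int.negSucc 2],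
  [Int.ofNat 1, Int.ofNat 1, Int.ofNat 1, Int.ofNat 1, Int.ofNat 1, Int.ofNat 1, Int.ofNat 1, Int.ofNat 1, Int.ofNat 1, Int.ofNat 1, Int.ofNat 1, Int.ofNat 1, Int.ofNat 1, Int.ofNat 1, Int.ofNat 1, Int.ofNat 1, Int.ofNat 1, Int.ofNat 1, Int.ofNat 1, Int.ofNat 1, Int.ofNat 1, Int.ofNat 1, Int.ofNat 1, Int.negSucc 2],
  [Int.ofNat 1, Int.ofNat 1, Int.ofNat 1, Int.ofNat 1, Int.ofNat 1, Int.ofNat 1, Int.ofNat 1, Int.ofNat 1, Int.ofNat 1, Int.ofNat 1, Int.ofNat 1, Int.ofNat 1, Int.ofNat 1, Int.ofNat 1, Int.ofNat 1, Int.ofNat 1, Int.ofNat 1, Int.ofNat 1, Int.ofNat 1, Int.ofNat 1, Int.ofNat 1, Int.ofNat 1, Int.ofNat 1, Int.negSucc 2],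
  [Int.ofNat 1, Int.ofNat 1, Int.negSucc 0, Int.ofNat 1, Int.ofNat 1, Int.negSucc 0, Int.negSucc 0, Int.ofNat 1, Int.ofNat 1, Int.negSucc 0, Int.negSucc 0, Int.ofNat 1, Int.ofNat 1, Int.ofNat 1, Int.ofNat 1, Int.negSucc 0, Int.ofNat 1, Int.ofNat 1, Int.negSucc 0, Int.ofNat 1, Int.ofNat 1, Int.ofNat 1, Int.negSucc 0, Int.negSucc 2],
  [Int.negSucc 1, Int.negSucc 1, Int.ofNat 0, Int.ofNat 0, Int.ofNat 0, Int.negSucc 1, Int.negSucc 1, Int.ofNat 0, Int.ofNat 0, Int.ofNat 0, Int.ofNat 0, Int.ofNat 0, Int.ofNat 0, Int.ofNat 0, Int.ofNat 0, Int.ofNat 0, Int.ofNat 0, Int.ofNat 0, Int.negSucc 1, Int.ofNat 0, Int.ofNat 2, Int.ofNat 0, Int.negSucc 1, Int.ofNat 2],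
  [Int.negSucc 1, Int.negSucc 1, Int.negSucc 1, Int.ofNat 0, Int.ofNat 0, Int.ofNat 0, Int.negSucc 1, Int.negSucc 1, Int.ofNat 0, Int.ofNat 0, Int.ofNat 0, Int.ofNat 0, Int.ofNat 0, Int.ofNat 0, Int.ofNat 0, Int.ofNat 0, Int.ofNat 0, Int.ofNat 0, Int.ofNat 0, Int.negSucc 1, Int.ofNat 0, Int.ofNat 2, Int.ofNat 0, Int.ofNat 2],
  [Int.ofNat 0, Int.ofNat 0, Int.ofNat 0, Int.ofNat 0, Int.ofNat 0, Int.ofNat 0, Int.ofNat 0, Int.ofNat 0, Int.ofNat 0, Int.ofNat 0, Int.ofNat 0, Int.ofNat 0, Int.ofNat 0, Int.ofNat 0, Int.ofNat 0, Int.ofNat 0, Int.ofNat 0, Int.ofNat 0, Int.ofNat 0, Int.ofNat 0, Int.ofNat 0, Int.ofNat 4, Int.ofNat 0, Int.negSucc 3],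
  [Int.ofNat 0, Int.ofNat 4, Int.ofNat 0, Int.ofNat 0, Int.ofNat 0, Int.ofNat 0, Int.ofNat 0, Int.ofNat 0, Int.ofNat 0, Int.ofNat 0, Int.ofNat 0, Int.ofNat 0, Int.ofNat 0, Int.ofNat 0, Int.ofNat 0, Int.ofNat 0, Int.ofNat 0, Int.ofNat 0, Int.ofNat 0, Int.ofNat 0, Int.ofNat 0, Int.ofNat 0, Int.ofNat 0, Int.negSucc 3],
  [Int.ofNat 0, Int.negSucc 3, Int.ofNat 0, Int.ofNat 0, Int.ofNat 0, Int.ofNat 0, Int.ofNat 0, Int.ofNat 0, Int.ofNat 0, Int.ofNat 0, Int.ofNat 0, Int.ofNat 0, Int.ofNat 0, Int.ofNat 0, Int.ofNat 0, Int.ofNat 0, Int.ofNat 0, Int.ofNat 0, Int.ofNat 0, Int.ofNat 0, Int.ofNat 0, Int.ofNat 0, Int.ofNat 0, Int.ofNat 4],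
  [Int.negSucc 3, Int.ofNat 0, Int.ofNat 0, Int.ofNat 0, Int.ofNat 0, Int.ofNat 0, Int.ofNat 0, Int.ofNat 0, Int.ofNat 0, Int.ofNat 0, Int.ofNat 0, Int.ofNat 0, Int.ofNat 0, Int.ofNat 0, Int.ofNat 0, Int.ofNat 0, Int.ofNat 0, Int.ofNat 0, Int.ofNat 0, Int.ofNat 0, Int.ofNat 0, Int.ofNat 0, Int.ofNat 0, Int.ofNat 4],
  [Int.ofNat 4, Int.ofNat 0, Int.ofNat 0, Int.ofNat 0, Int.ofNat 0, Int.ofNat 0, Int.ofNat 0, Int.ofNat 0, Int.ofNat 0, Int.ofNat 0, Int.ofNat 0, Int.ofNat 0, Int.ofNat 0, Int.ofNat 0, Int.ofNat 0, Int.ofNat 0, Int.ofNat 0, Int.ofNat 0, Int.ofNat 0, Int.ofNat 0, Int.ofNat 0, Int.ofNat 0, Int.ofNat 0, Int.ofNat 4],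
  [Int.ofNat 4, Int.ofNat 0, Int.ofNat 0, Int.ofNat 0, Int.ofNat 0, Int.ofNat 0, Int.ofNat 0, Int.ofNat 0, Int.ofNat 0, Int.ofNat 0, Int.ofNat 0, Int.ofNat 0, Int.ofNat 0, Int.ofNat 0, Int.ofNat 0, Int.ofNat 0, Int.ofNat 0, Int.ofNat 0, Int.ofNat 0, Int.ofNat 0, Int.ofNat 0, Int.ofNat 0, Int.ofNat 0, Int.ofNat 4]]

set_option maxRecDepth 100000 in
theorem rn_chk0 : cChk rnW a0L rnM0 a0L = true := by
  decide +kernel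

set_option maxRecDepth 100000 in
def rnM1 : List (List ℤ) :=
  [[Int.ofNat 4, Int.ofNat 0, Int.ofNat 0, Int.ofNat 0, Int.ofNat 0, Int.ofNat 0, Int.ofNat 0, Int.ofNat 0, Int.ofNat 0, Int.ofNat 0, Int.ofNat 0, Int.ofNat 0, Int.ofNat 0, Int.ofNat 0, Int.ofNat 0, Int.ofNat 0, Int.ofNat 0, Int.ofNat 0, Int.ofNat 0, Int.ofNat 0, Int.ofNat 0, Int.ofNat 0, Int.ofNat 0, Int.ofNat 4],
  [Int.ofNat 0, Int.ofNat 4, Int.ofNat 0, Int.ofNat 0, Int.ofNat 0, Int.ofNat 0, Int.ofNat 0, Int.ofNat 0, Int.ofNat 0, Int.ofNat 0, Int.ofNat 0, Int.ofNat 0, Int.ofNat 0, Int.ofNat 0, Int.ofNat 0, Int.ofNat 0, Int.ofNat 0, Int.ofNat 0, Int.ofNat 0, Int.ofNat 0, Int.ofNat 0, Int.ofNat 0, Int.ofNat 0, Int.ofNat 4],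
  [Int.ofNat 4, Int.ofNat 0, Int.ofNat 4, Int.ofNat 0, Int.ofNat 0, Int.ofNat 0, Int.ofNat 0, Int.ofNat 0, Int.ofNat 0, Int.ofNat 0, Int.ofNat 0, Int.ofNat 0, Int.ofNat 0, Int.ofNat 0, Int.ofNat 0, Int.ofNat 0, Int.ofNat 0, Int.ofNat 0, Int.ofNat 0, Int.ofNat 0, Int.ofNat 0, Int.ofNat 0, Int.ofNat 0, Int.ofNat 0],
  [Int.ofNat 0, Int.ofNat 0, Int.ofNat 0, Int.ofNat 0, Int.ofNat 0, Int.ofNat 0, Int.ofNat 0, Int.ofNat 0, Int.ofNat 0, Int.ofNat 0, Int.ofNat 0, Int.ofNat 0, Int.ofNat 0, Int.ofNat 0, Int.ofNat 0, Int.ofNat 0, Int.ofNat 0, Int.ofNat 0, Int.ofNat 0, Int.ofNat 0, Int.ofNat 4, Int.ofNat 0, Int.ofNat 4, Int.ofNat 0],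
  [Int.ofNat 0, Int.ofNat 0, Int.ofNat 0, Int.ofNat 0, Int.negSucc 1, Int.ofNat 0, Int.ofNat 0, Int.ofNat 0, Int.ofNat 0, Int.negSucc 1, Int.negSucc 1, Int.ofNat 0, Int.ofNat 0, Int.negSucc 1, Int.ofNat 0, Int.negSucc 1, Int.negSucc 1, Int.ofNat 0, Int.ofNat 0, Int.ofNat 0, Int.ofNat 2, Int.ofNat 0, Int.ofNat 2, Int.ofNat 0],
  [Int.ofNat 0, Int.ofNat 0, Int.negSucc 1, Int.ofNat 0, Int.ofNat 0, Int.ofNat 0, Int.ofNat 0, Int.negSucc 1, Int.ofNat 0, Int.negSucc 1, Int.ofNat 2, Int.ofNat 0, Int.negSucc 1, Int.negSucc 1, Int.ofNat 2, Int.negSucc 1, Int.ofNat 0, Int.ofNat 0, Int.ofNat 0, Int.ofNat 0, Int.ofNat 0, Int.ofNat 0, Int.ofNat 0, Int.ofNat 0],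
  [Int.negSucc 0, Int.negSucc 0, Int.ofNat 1, Int.negSucc 0, Int.ofNat 1, Int.negSucc 0, Int.ofNat 1, Int.negSucc 0, Int.ofNat 1, Int.negSucc 0, Int.ofNat 3, Int.ofNat 1, Int.negSucc 0, Int.negSucc 0, Int.ofNat 1, Int.negSucc 0, Int.ofNat 1, Int.negSucc 0, Int.ofNat 1, Int.ofNat 1, Int.ofNat 1, Int.ofNat 1, Int.ofNat 1, Int.negSucc 0],
  [Int.negSucc 0, Int.negSucc 0, Int.negSucc 0, Int.negSucc 0, Int.ofNat 1, Int.ofNat 1, Int.negSucc 0, Int.negSucc 0, Int.ofNat 1, Int.ofNat 1, Int.negSucc 2, Int.ofNat 1, Int.negSucc 0, Int.negSucc 0, Int.ofNat 1, Int.ofNat 1, Int.ofNat 1, Int.negSucc 0, Int.negSucc 0, Int.ofNat 1, Int.ofNat 1, Int.ofNat 1, Int.negSucc 0, Int.negSucc 0],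
  [Int.ofNat 1, Int.negSucc 0, Int.ofNat 1, Int.negSucc 2, Int.ofNat 1, Int.ofNat 1, Int.negSucc 0, Int.ofNat 1, Int.negSucc 0, Int.negSucc 0, Int.ofNat 1, Int.ofNat 1, Int.negSucc 0, Int.ofNat 1, Int.negSucc 0, Int.negSucc 0, Int.negSucc 0, Int.negSucc 0, Int.ofNat 1, Int.ofNat 1, Int.ofNat 1, Int.negSucc 0, Int.negSucc 0, Int.negSucc 0],
  [Int.ofNat 1, Int.negSucc 0, Int.negSucc 0, Int.negSucc 2, Int.ofNat 1, Int.negSucc 0, Int.ofNat 1, Int.ofNat 1, Int.negSucc 0, Int.ofNat 1, Int.negSucc 0, Int.ofNat 1, Int.negSucc 0, Int.ofNat 1, Int.negSucc 0, Int.ofNat 1, Int.negSucc 0, Int.negSucc 0, Int.negSucc 0, Int.ofNat 1, Int.ofNat 1, Int.negSucc 0, Int.ofNat 1, Int.negSucc 0],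
  [Int.negSucc 1, Int.ofNat 0, Int.ofNat 0, Int.ofNat 0, Int.ofNat 0, Int.ofNat 2, Int.ofNat 0, Int.ofNat 0, Int.ofNat 0, Int.ofNat 0, Int.negSucc 1, Int.ofNat 2, Int.ofNat 0, Int.ofNat 0, Int.ofNat 2, Int.ofNat 0, Int.negSucc 1, Int.ofNat 2, Int.ofNat 0, Int.ofNat 0, Int.ofNat 0, Int.negSucc 1, Int.ofNat 0, Int.ofNat 0],
  [Int.negSucc 1, Int.ofNat 0, Int.ofNat 0, Int.ofNat 0, Int.ofNat 0, Int.negSucc 1, Int.ofNat 0, Int.ofNat 2, Int.negSucc 1, Int.ofNat 0, Int.ofNat 0, Int.ofNat 0, Int.ofNat 0, Int.ofNat 0, Int.ofNat 2, Int.ofNat 0, Int.ofNat 0, Int.ofNat 2, Int.ofNat 0, Int.ofNat 0, Int.negSucc 1, Int.ofNat 0, Int.ofNat 2, Int.ofNat 0],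
  [Int.ofNat 1, Int.negSucc 0, Int.negSucc 0, Int.negSucc 0, Int.negSucc 0, Int.negSucc 2, Int.negSucc 0, Int.ofNat 1, Int.negSucc 0, Int.ofNat 1, Int.ofNat 1, Int.ofNat 1, Int.ofNat 1, Int.negSucc 0, Int.ofNat 1, Int.ofNat 1, Int.negSucc 0, Int.ofNat 1, Int.ofNat 1, Int.negSucc 0, Int.negSucc 0, Int.negSucc 0, Int.ofNat 1, Int.negSucc 0],
  [Int.negSucc 0, Int.negSucc 0, Int.ofNat 1, Int.ofNat 1, Int.negSucc 0, Int.negSucc 0, Int.negSucc 0, Int.negSucc 0, Int.negSucc 2, Int.negSucc 0, Int.ofNat 1, Int.negSucc 0, Int.ofNat 1, Int.ofNat 1, Int.ofNat 1, Int.ofNat 1, Int.negSucc 0, Int.ofNat 1, Int.ofNat 1, Int.negSucc 0, Int.ofNat 1, Int.ofNat 1, Int.negSucc 0, Int.negSucc 0],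
  [Int.ofNat 0, Int.ofNat 0, Int.negSucc 1, Int.ofNat 0, Int.ofNat 0, Int.negSucc 1, Int.ofNat 0, Int.ofNat 0, Int.negSucc 1, Int.negSucc 1, Int.ofNat 0, Int.ofNat 0, Int.ofNat 2, Int.ofNat 2, Int.ofNat 0, Int.ofNat 0, Int.ofNat 0, Int.ofNat 0, Int.ofNat 2, Int.ofNat 0, Int.ofNat 0, Int.ofNat 2, Int.ofNat 0, Int.ofNat 0],
  [Int.ofNat 0, Int.negSucc 1, Int.ofNat 0, Int.ofNat 0, Int.negSucc 1, Int.ofNat 0, Int.ofNat 0, Int.negSucc 1, Int.negSucc 1, Int.ofNat 0, Int.ofNat 0, Int.ofNat 2, Int.ofNat 2, Int.ofNat 0, Int.ofNat 0, Int.ofNat 0, Int.ofNat 0, Int.ofNat 2, Int.ofNat 0, Int.ofNat 0, Int.ofNat 2, Int.ofNat 0, Int.ofNat 0, Int.ofNat 0],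
  [Int.ofNat 0, Int.negSucc 1, Int.ofNat 0, Int.ofNat 0, Int.negSucc 1, Int.ofNat 0, Int.ofNat 0, Int.ofNat 2, Int.negSucc 1, Int.ofNat 0, Int.ofNat 0, Int.negSucc 1, Int.ofNat 2, Int.ofNat 0, Int.ofNat 0, Int.ofNat 0, Int.ofNat 0, Int.ofNat 2, Int.ofNat 0, Int.ofNat 0, Int.ofNat 2, Int.ofNat 0, Int.ofNat 0, Int.ofNat 0],
  [Int.ofNat 0, Int.ofNat 0, Int.negSucc 1, Int.ofNat 0, Int.negSucc 1, Int.ofNat 0, Int.ofNat 2, Int.ofNat 0, Int.ofNat 0, Int.ofNat 0, Int.ofNat 2, Int.ofNat 0, Int.negSucc 1, Int.ofNat 0, Int.ofNat 0, Int.ofNat 2, Int.ofNat 0, Int.negSucc 1, Int.ofNat 0, Int.ofNat 0, Int.ofNat 2, Int.ofNat 0, Int.ofNat 0, Int.ofNat 0],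
  [Int.ofNat 0, Int.ofNat 0, Int.ofNat 2, Int.ofNat 0, Int.negSucc 1, Int.ofNat 0, Int.ofNat 2, Int.ofNat 0, Int.ofNat 0, Int.ofNat 0, Int.negSucc 1, Int.ofNat 0, Int.negSucc 1, Int.ofNat 0, Int.ofNat 0, Int.ofNat 2, Int.ofNat 0, Int.negSucc 1, Int.ofNat 0, Int.ofNat 0, Int.ofNat 2, Int.ofNat 0, Int.ofNat 0, Int.ofNat 0],
  [Int.ofNat 0, Int.ofNat 0, Int.ofNat 0, Int.ofNat 2, Int.ofNat 0, Int.negSucc 1, Int.ofNat 0, Int.ofNat 2, Int.ofNat 0, Int.ofNat 0, Int.ofNat 0, Int.negSucc 1, Int.ofNat 0, Int.negSucc 1, Int.ofNat 0, Int.ofNat 0, Int.ofNat 2, Int.ofNat 0, Int.negSucc 1, Int.ofNat 0, Int.ofNat 0, Int.ofNat 2, Int.ofNat 0, Int.ofNat 0],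
  [Int.ofNat 0, Int.ofNat 0, Int.ofNat 0, Int.ofNat 2, Int.ofNat 0, Int.negSucc 1, Int.negSucc 1, Int.ofNat 0, Int.ofNat 2, Int.ofNat 0, Int.ofNat 0, Int.ofNat 0, Int.ofNat 2, Int.negSucc 1, Int.ofNat 0, Int.ofNat 0, Int.ofNat 2, Int.ofNat 0, Int.ofNat 0, Int.negSucc 1, Int.ofNat 0, Int.ofNat 0, Int.ofNat 0, Int.ofNat 0],
  [Int.ofNat 2, Int.ofNat 0, Int.negSucc 1, Int.negSucc 1, Int.ofNat 0, Int.ofNat 2, Int.ofNat 0, Int.ofNat 0, Int.ofNat 0, Int.ofNat 2, Int.negSucc 1, Int.ofNat 0, Int.ofNat 0, Int.ofNat 2, Int.ofNat 0, Int.ofNat 0, Int.negSucc 1, Int.ofNat 0, Int.ofNat 0, Int.ofNat 0, Int.ofNat 0, Int.ofNat 0, Int.ofNat 0, Int.ofNat 0],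
  [Int.negSucc 1, Int.ofNat 0, Int.ofNat 2, Int.negSucc 1, Int.ofNat 0, Int.ofNat 2, Int.ofNat 0, Int.ofNat 0, Int.ofNat 0, Int.ofNat 2, Int.negSucc 1, Int.ofNat 0, Int.ofNat 0, Int.ofNat 2, Int.ofNat 0, Int.ofNat 0, Int.negSucc 1, Int.ofNat 0, Int.ofNat 0, Int.ofNat 0, Int.ofNat 0, Int.ofNat 0, Int.ofNat 0, Int.ofNat 0],
  [Int.negSucc 1, Int.ofNat 0, Int.ofNat 0, Int.negSucc 1, Int.ofNat 0, Int.ofNat 0, Int.ofNat 2, Int.negSucc 1, Int.ofNat 0, Int.ofNat 2, Int.ofNat 0, Int.ofNat 0, Int.ofNat 2, Int.negSucc 1, Int.ofNat 0, Int.ofNat 0, Int.ofNat 0, Int.ofNat 0, Int.ofNat 0, Int.ofNat 0, Int.ofNat 0, Int.ofNat 2, Int.ofNat 0, Int.ofNat 0],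
  [Int.ofNat 1, Int.negSucc 0, Int.negSucc 0, Int.negSucc 0, Int.ofNat 1, Int.ofNat 1, Int.ofNat 1, Int.negSucc 2, Int.negSucc 0, Int.ofNat 1, Int.negSucc 0, Int.negSucc 0, Int.ofNat 1, Int.negSucc 0, Int.ofNat 1, Int.negSucc 0, Int.ofNat 1, Int.ofNat 1, Int.negSucc 0, Int.negSucc 0, Int.negSucc 0, Int.ofNat 1, Int.ofNat 1, Int.negSucc 0],
  [Int.ofNat 1, Int.negSucc 0, Int.ofNat 1, Int.negSucc 0, Int.ofNat 1, Int.negSucc 0, Int.negSucc 0, Int.negSucc 2, Int.negSucc 0, Int.negSucc 0, Int.ofNat 1, Int.negSucc 0, Int.ofNat 1, Int.negSucc 0, Int.ofNat 1, Int.ofNat 1, Int.ofNat 1, Int.ofNat 1, Int.ofNat 1, Int.negSucc 0, Int.negSucc 0, Int.ofNat 1, Int.negSucc 0, Int.negSucc 0],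
  [Int.negSucc 0, Int.negSucc 0, Int.negSucc 0, Int.negSucc 0, Int.ofNat 1, Int.ofNat 1, Int.negSucc 0, Int.negSucc 0, Int.ofNat 1, Int.ofNat 1, Int.negSucc 2, Int.ofNat 1, Int.negSucc 0, Int.negSucc 0, Int.ofNat 1, Int.ofNat 1, Int.ofNat 1, Int.negSucc 0, Int.negSucc 0, Int.ofNat 1, Int.ofNat 1, Int.ofNat 1, Int.negSucc 0, Int.negSucc 0],
  [Int.negSucc 0, Int.negSucc 0, Int.ofNat 1, Int.negSucc 0, Int.ofNat 1, Int.negSucc 0, Int.ofNat 1, Int.negSucc 0, Int.ofNat 1, Int.negSucc 0, Int.ofNat 3, Int.ofNat 1, Int.negSucc 0, Int.negSucc 0, Int.ofNat 1, Int.negSucc 0, Int.ofNat 1, Int.negSucc 0, Int.ofNat 1, Int.ofNat 1, Int.ofNat 1, Int.ofNat 1, Int.ofNat 1, Int.negSucc 0],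
  [Int.ofNat 0, Int.ofNat 0, Int.negSucc 1, Int.ofNat 0, Int.ofNat 0, Int.ofNat 0, Int.ofNat 0, Int.negSucc 1, Int.ofNat 0, Int.negSucc 1, Int.ofNat 2, Int.ofNat 0, Int.negSucc 1, Int.negSucc 1, Int.ofNat 2, Int.negSucc 1, Int.ofNat 0, Int.ofNat 0, Int.ofNat 0, Int.ofNat 0, Int.ofNat 0, Int.ofNat 0, Int.ofNat 0, Int.ofNat 0],
  [Int.ofNat 0, Int.ofNat 0, Int.ofNat 0, Int.ofNat 0, Int.negSucc 1, Int.ofNat 0, Int.ofNat 0, Int.ofNat 0, Int.ofNat 0, Int.negSucc 1, Int.negSucc 1, Int.ofNat 0, Int.ofNat 0, Int.negSucc 1, Int.ofNat 0, Int.negSucc 1, Int.negSucc 1, Int.ofNat 0, Int.ofNat 0, Int.ofNat 0, Int.ofNat 2, Int.ofNat 0, Int.ofNat 2, Int.ofNat 0],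
  [Int.ofNat 0, Int.ofNat 0, Int.ofNat 0, Int.ofNat 0, Int.ofNat 0, Int.ofNat 0, Int.ofNat 0, Int.ofNat 0, Int.ofNat 0, Int.ofNat 0, Int.ofNat 0, Int.ofNat 0, Int.ofNat 0, Int.ofNat 0, Int.ofNat 0, Int.ofNat 0, Int.ofNat 0, Int.ofNat 0, Int.ofNat 0, Int.ofNat 0, Int.ofNat 4, Int.ofNat 0, Int.ofNat 4, Int.ofNat 0],
  [Int.ofNat 4, Int.ofNat 0, Int.ofNat 4, Int.ofNat 0, Int.ofNat 0, Int.ofNat 0, Int.ofNat 0, Int.ofNat 0, Int.ofNat 0, Int.ofNat 0, Int.ofNat 0, Int.ofNat 0, Int.ofNat 0, Int.ofNat 0, Int.ofNat 0, Int.ofNat 0, Int.ofNat 0, Int.ofNat 0, Int.ofNat 0, Int.ofNat 0, Int.ofNat 0, Int.ofNat 0, Int.ofNat 0, Int.ofNat 0],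
  [Int.ofNat 0, Int.ofNat 4, Int.ofNat 0, Int.ofNat 0, Int.ofNat 0, Int.ofNat 0, Int.ofNat 0, Int.ofNat 0, Int.ofNat 0, Int.ofNat 0, Int.ofNat 0, Int.ofNat 0, Int.ofNat 0, Int.ofNat 0, Int.ofNat 0, Int.ofNat 0, Int.ofNat 0, Int.ofNat 0, Int.ofNat 0, Int.ofNat 0, Int.ofNat 0, Int.ofNat 0, Int.ofNat 0, Int.ofNat 4],
  [Int.ofNat 4, Int.ofNat 0, Int.ofNat 0, Int.ofNat 0, Int.ofNat 0, Int.ofNat 0, Int.ofNat 0, Int.ofNat 0, Int.ofNat 0, Int.ofNat 0, Int.ofNat 0, Int.ofNat 0, Int.ofNat 0, Int.ofNat 0, Int.ofNat 0, Int.ofNat 0, Int.ofNat 0, Int.ofNat 0, Int.ofNat 0, Int.ofNat 0, Int.ofNat 0, Int.ofNat 0, Int.ofNat 0, Int.ofNat 4],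
  [Int.negSucc 3, Int.ofNat 0, Int.ofNat 0, Int.ofNat 0, Int.ofNat 0, Int.ofNat 0, Int.ofNat 0, Int.ofNat 0, Int.ofNat 0, Int.ofNat 0, Int.ofNat 0, Int.ofNat 0, Int.ofNat 0, Int.ofNat 0, Int.ofNat 0, Int.ofNat 0, Int.ofNat 0, Int.ofNat 0, Int.ofNat 0, Int.ofNat 0, Int.ofNat 0, Int.ofNat 0, Int.ofNat 0, Int.ofNat 4],
  [Int.negSucc 3, Int.ofNat 0, Int.ofNat 0, Int.ofNat 0, Int.ofNat 0, Int.ofNat 0, Int.ofNat 0, Int.ofNat 0, Int.ofNat 0, Int.ofNat 0, Int.ofNat 0, Int.ofNat 0, Int.ofNat 0, Int.ofNat 0, Int.ofNat 0, Int.ofNat 0, Int.ofNat 0, Int.ofNat 0, Int.ofNat 0, Int.ofNat 0, Int.ofNat 0, Int.ofNat 0, Int.ofNat 0, Int.ofNat 4]]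

set_option maxRecDepth 100000 in
theorem rn_chk1 : cChk rnW nxL rnM1 nxL = true := by
  decide +kernel

set_option maxRecDepth 100000 in
def rnM2 : List (List ℤ) :=
  [[Int.negSucc 0, Int.ofNat 1, Int.negSucc 0, Int.ofNat 1, Int.ofNat 1, Int.ofNat 1, Int.ofNat 1, Int.negSucc 0, Int.ofNat 1, Int.negSucc 0, Int.negSucc 0, Int.negSucc 0, Int.ofNat 1, Int.ofNat 1, Int.ofNat 1, Int.ofNat 1, Int.ofNat 1, Int.ofNat 1, Int.negSucc 0, Int.ofNat 1, Int.ofNat 1, Int.negSucc 0, Int.ofNat 1, Int.negSucc 2],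
  [Int.ofNat 1, Int.negSucc 0, Int.ofNat 1, Int.negSucc 0, Int.ofNat 1, Int.ofNat 1, Int.ofNat 1, Int.ofNat 1, Int.negSucc 0, Int.ofNat 1, Int.negSucc 0, Int.negSucc 0, Int.negSucc 0, Int.ofNat 1, Int.ofNat 1, Int.ofNat 1, Int.ofNat 1, Int.ofNat 1, Int.ofNat 1, Int.negSucc 0, Int.ofNat 1, Int.ofNat 1, Int.negSucc 0, Int.negSucc 2],
  [Int.negSucc 1, Int.ofNat 0, Int.negSucc 1, Int.negSucc 1, Int.ofNat 0, Int.ofNat 0, Int.ofNat 0, Int.ofNat 0, Int.ofNat 0, Int.ofNat 0, Int.negSucc 1, Int.ofNat 0, Int.ofNat 0, Int.ofNat 0, Int.ofNat 0, Int.ofNat 0, Int.ofNat 0, Int.ofNat 0, Int.ofNat 2, Int.negSucc 1, Int.ofNat 0, Int.ofNat 0, Int.negSucc 1, Int.ofNat 2],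
  [Int.negSucc 1, Int.ofNat 0, Int.ofNat 0, Int.ofNat 0, Int.ofNat 0, Int.ofNat 0, Int.ofNat 0, Int.negSucc 1, Int.ofNat 0, Int.ofNat 0, Int.ofNat 0, Int.ofNat 0, Int.ofNat 0, Int.ofNat 0, Int.ofNat 0, Int.ofNat 2, Int.negSucc 1, Int.ofNat 0, Int.ofNat 0, Int.negSucc 1, Int.negSucc 1, Int.ofNat 0, Int.negSucc 1, Int.ofNat 2],
  [Int.ofNat 2, Int.ofNat 0, Int.ofNat 0, Int.ofNat 0, Int.ofNat 2, Int.ofNat 0, Int.ofNat 2, Int.ofNat 0, Int.ofNat 0, Int.ofNat 0, Int.ofNat 0, Int.ofNat 0, Int.ofNat 0, Int.ofNat 2, Int.ofNat 0, Int.ofNat 2, Int.ofNat 0, Int.ofNat 0, Int.ofNat 0, Int.ofNat 0, Int.negSucc 1, Int.ofNat 2, Int.ofNat 0, Int.negSucc 1],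
  [Int.ofNat 2, Int.ofNat 2, Int.ofNat 2, Int.ofNat 0, Int.ofNat 0, Int.ofNat 0, Int.ofNat 0, Int.ofNat 0, Int.ofNat 0, Int.ofNat 2, Int.negSucc 1, Int.ofNat 0, Int.ofNat 0, Int.ofNat 0, Int.ofNat 0, Int.ofNat 2, Int.ofNat 0, Int.ofNat 0, Int.ofNat 0, Int.ofNat 0, Int.ofNat 2, Int.ofNat 0, Int.ofNat 0, Int.negSucc 1],
  [Int.ofNat 0, Int.ofNat 0, Int.ofNat 0, Int.ofNat 0, Int.ofNat 0, Int.ofNat 0, Int.ofNat 0, Int.ofNat 0, Int.ofNat 0, Int.ofNat 0, Int.negSucc 3, Int.ofNat 0, Int.ofNat 0, Int.ofNat 0, Int.ofNat 0, Int.ofNat 0, Int.ofNat 0, Int.ofNat 0, Int.ofNat 0, Int.ofNat 0, Int.ofNat 0, Int.ofNat 0, Int.ofNat 0, Int.ofNat 4],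
  [Int.ofNat 0, Int.ofNat 0, Int.ofNat 0, Int.ofNat 0, Int.ofNat 0, Int.ofNat 0, Int.ofNat 0, Int.ofNat 0, Int.ofNat 0, Int.ofNat 0, Int.ofNat 4, Int.ofNat 0, Int.ofNat 0, Int.ofNat 0, Int.ofNat 0, Int.ofNat 0, Int.ofNat 0, Int.ofNat 0, Int.ofNat 0, Int.ofNat 0, Int.ofNat 0, Int.ofNat 0, Int.ofNat 0, Int.ofNat 4],
  [Int.ofNat 0, Int.ofNat 0, Int.ofNat 0, Int.ofNat 4, Int.ofNat 0, Int.ofNat 0, Int.ofNat 0, Int.ofNat 0, Int.ofNat 0, Int.ofNat 0, Int.ofNat 0, Int.ofNat 0, Int.ofNat 0, Int.ofNat 0, Int.ofNat 0, Int.ofNat 0, Int.ofNat 0, Int.ofNat 0, Int.ofNat 0, Int.ofNat 0, Int.ofNat 0, Int.ofNat 0, Int.ofNat 0, Int.ofNat 4],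
  [Int.ofNat 0, Int.ofNat 0, Int.ofNat 0, Int.ofNat 4, Int.ofNat 0, Int.ofNat 0, Int.ofNat 0, Int.ofNat 0, Int.ofNat 0, Int.ofNat 0, Int.ofNat 0, Int.ofNat 0, Int.ofNat 0, Int.ofNat 0, Int.ofNat 0, Int.ofNat 0, Int.ofNat 0, Int.ofNat 0, Int.ofNat 0, Int.ofNat 0, Int.ofNat 0, Int.ofNat 0, Int.ofNat 0, Int.ofNat 4],
  [Int.ofNat 2, Int.ofNat 2, Int.ofNat 2, Int.ofNat 2, Int.ofNat 0, Int.negSucc 1, Int.ofNat 0, Int.ofNat 0, Int.ofNat 0, Int.ofNat 0, Int.ofNat 0, Int.ofNat 0, Int.ofNat 0, Int.ofNat 0, Int.negSucc 1, Int.ofNat 0, Int.ofNat 0, Int.negSucc 1, Int.ofNat 0, Int.ofNat 0, Int.ofNat 0, Int.ofNat 0, Int.ofNat 0, Int.negSucc 1],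
  [Int.ofNat 2, Int.ofNat 0, Int.ofNat 0, Int.ofNat 2, Int.ofNat 2, Int.ofNat 0, Int.ofNat 2, Int.negSucc 1, Int.ofNat 0, Int.ofNat 0, Int.ofNat 0, Int.ofNat 0, Int.ofNat 0, Int.ofNat 0, Int.negSucc 1, Int.ofNat 0, Int.ofNat 0, Int.ofNat 0, Int.ofNat 0, Int.ofNat 0, Int.ofNat 0, Int.ofNat 0, Int.negSucc 1, Int.negSucc 1],
  [Int.negSucc 1, Int.ofNat 0, Int.ofNat 0, Int.ofNat 2, Int.ofNat 2, Int.ofNat 0, Int.ofNat 2, Int.negSucc 1, Int.ofNat 0, Int.ofNat 0, Int.ofNat 0, Int.ofNat 0, Int.ofNat 0, Int.ofNat 0, Int.negSucc 1, Int.ofNat 0, Int.ofNat 0, Int.ofNat 0, Int.ofNat 0, Int.ofNat 0, Int.ofNat 0, Int.ofNat 0, Int.negSucc 1, Int.ofNat 2],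
  [Int.ofNat 0, Int.ofNat 0, Int.negSucc 1, Int.negSucc 1, Int.ofNat 0, Int.ofNat 0, Int.ofNat 2, Int.ofNat 2, Int.ofNat 0, Int.ofNat 2, Int.negSucc 1, Int.ofNat 0, Int.ofNat 0, Int.ofNat 0, Int.ofNat 0, Int.ofNat 0, Int.ofNat 0, Int.negSucc 1, Int.ofNat 0, Int.ofNat 0, Int.ofNat 0, Int.ofNat 0, Int.ofNat 0, Int.ofNat 2],
  [Int.ofNat 0, Int.ofNat 0, Int.ofNat 2, Int.ofNat 0, Int.ofNat 0, Int.ofNat 2, Int.ofNat 0, Int.ofNat 0, Int.ofNat 0, Int.ofNat 2, Int.negSucc 1, Int.ofNat 0, Int.ofNat 0, Int.ofNat 0, Int.ofNat 2, Int.ofNat 0, Int.ofNat 0, Int.ofNat 0, Int.ofNat 0, Int.negSucc 1, Int.ofNat 0, Int.negSucc 1, Int.ofNat 0, Int.negSucc 1],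
  [Int.ofNat 0, Int.ofNat 2, Int.ofNat 0, Int.ofNat 0, Int.ofNat 2, Int.ofNat 0, Int.ofNat 0, Int.ofNat 0, Int.ofNat 2, Int.negSucc 1, Int.ofNat 0, Int.ofNat 0, Int.ofNat 0, Int.ofNat 2, Int.ofNat 0, Int.ofNat 0, Int.ofNat 0, Int.ofNat 0, Int.negSucc 1, Int.ofNat 0, Int.negSucc 1, Int.ofNat 0, Int.ofNat 0, Int.negSucc 1],
  [Int.ofNat 0, Int.ofNat 2, Int.ofNat 0, Int.ofNat 0, Int.ofNat 2, Int.ofNat 0, Int.ofNat 0, Int.ofNat 0, Int.ofNat 2, Int.ofNat 2, Int.ofNat 0, Int.ofNat 0, Int.ofNat 0, Int.ofNat 2, Int.ofNat 0, Int.ofNat 0, Int.ofNat 0, Int.ofNat 0, Int.ofNat 2, Int.ofNat 0, Int.negSucc 1, Int.ofNat 0, Int.ofNat 0, Int.negSucc 1],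
  [Int.ofNat 0, Int.ofNat 0, Int.ofNat 2, Int.ofNat 0, Int.ofNat 2, Int.ofNat 0, Int.ofNat 0, Int.ofNat 0, Int.ofNat 0, Int.ofNat 2, Int.negSucc 1, Int.ofNat 0, Int.ofNat 2, Int.ofNat 0, Int.ofNat 0, Int.ofNat 0, Int.ofNat 2, Int.ofNat 0, Int.ofNat 2, Int.ofNat 0, Int.ofNat 0, Int.ofNat 0, Int.ofNat 0, Int.negSucc 1],
  [Int.ofNat 0, Int.ofNat 0, Int.negSucc 1, Int.ofNat 0, Int.ofNat 2, Int.ofNat 0, Int.ofNat 0, Int.ofNat 0, Int.ofNat 0, Int.negSucc 1, Int.ofNat 2, Int.ofNat 0, Int.ofNat 2, Int.ofNat 0, Int.ofNat 0, Int.ofNat 0, Int.ofNat 2, Int.ofNat 0, Int.negSucc 1, Int.ofNat 0, Int.ofNat 0, Int.ofNat 0, Int.ofNat 0, Int.negSucc 1],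
  [Int.ofNat 0, Int.ofNat 0, Int.ofNat 0, Int.negSucc 1, Int.ofNat 0, Int.ofNat 2, Int.ofNat 0, Int.ofNat 0, Int.ofNat 0, Int.ofNat 0, Int.negSucc 1, Int.ofNat 2, Int.ofNat 0, Int.ofNat 2, Int.ofNat 0, Int.ofNat 0, Int.ofNat 0, Int.ofNat 2, Int.ofNat 0, Int.negSucc 1, Int.ofNat 0, Int.ofNat 0, Int.ofNat 0, Int.negSucc 1],
  [Int.negSucc 0, Int.negSucc 0, Int.negSucc 0, Int.negSucc 2, Int.negSucc 0, Int.ofNat 1, Int.ofNat 1, Int.ofNat 1, Int.negSucc 0, Int.ofNat 1, Int.negSucc 0, Int.ofNat 1, Int.negSucc 0, Int.ofNat 1, Int.negSucc 0, Int.ofNat 1, Int.negSucc 0, Int.ofNat 1, Int.negSucc 0, Int.negSucc 0, Int.ofNat 1, Int.ofNat 1, Int.negSucc 0, Int.ofNat 1],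
  [Int.negSucc 2, Int.negSucc 0, Int.ofNat 1, Int.ofNat 1, Int.ofNat 1, Int.negSucc 0, Int.ofNat 1, Int.negSucc 0, Int.ofNat 1, Int.negSucc 0, Int.ofNat 1, Int.negSucc 0, Int.ofNat 1, Int.negSucc 0, Int.ofNat 1, Int.negSucc 0, Int.negSucc 0, Int.ofNat 1, Int.ofNat 1, Int.negSucc 0, Int.negSucc 0, Int.negSucc 0, Int.negSucc 0, Int.ofNat 1],
  [Int.ofNat 2, Int.ofNat 0, Int.negSucc 1, Int.ofNat 0, Int.ofNat 2, Int.negSucc 1, Int.ofNat 2, Int.ofNat 0, Int.ofNat 0, Int.ofNat 0, Int.ofNat 2, Int.negSucc 1, Int.ofNat 0, Int.ofNat 0, Int.ofNat 0, Int.ofNat 0, Int.ofNat 0, Int.ofNat 0, Int.ofNat 0, Int.ofNat 0, Int.ofNat 0, Int.ofNat 0, Int.ofNat 0, Int.negSucc 1],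
  [Int.ofNat 2, Int.ofNat 2, Int.ofNat 2, Int.ofNat 0, Int.ofNat 0, Int.ofNat 0, Int.negSucc 1, Int.ofNat 2, Int.ofNat 0, Int.ofNat 0, Int.ofNat 0, Int.ofNat 0, Int.ofNat 0, Int.ofNat 0, Int.ofNat 0, Int.ofNat 0, Int.ofNat 0, Int.ofNat 0, Int.ofNat 0, Int.negSucc 1, Int.ofNat 0, Int.negSucc 1, Int.ofNat 0, Int.negSucc 1],
  [Int.ofNat 0, Int.ofNat 0, Int.ofNat 0, Int.ofNat 0, Int.ofNat 0, Int.ofNat 0, Int.ofNat 0, Int.ofNat 4, Int.ofNat 0, Int.ofNat 0, Int.ofNat 0, Int.ofNat 0, Int.ofNat 0, Int.ofNat 0, Int.ofNat 0, Int.ofNat 0, Int.ofNat 0, Int.ofNat 0, Int.ofNat 0, Int.ofNat 0, Int.ofNat 0, Int.ofNat 0, Int.ofNat 0, Int.ofNat 4],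
  [Int.ofNat 0, Int.ofNat 0, Int.ofNat 0, Int.ofNat 0, Int.ofNat 0, Int.ofNat 0, Int.ofNat 0, Int.ofNat 4, Int.ofNat 0, Int.ofNat 0, Int.ofNat 0, Int.ofNat 0, Int.ofNat 0, Int.ofNat 0, Int.ofNat 0, Int.ofNat 0, Int.ofNat 0, Int.ofNat 0, Int.ofNat 0, Int.ofNat 0, Int.ofNat 0, Int.ofNat 0, Int.ofNat 0, Int.ofNat 4],
  [Int.ofNat 0, Int.ofNat 0, Int.ofNat 0, Int.ofNat 0, Int.ofNat 0, Int.ofNat 0, Int.ofNat 0, Int.ofNat 0, Int.ofNat 0, Int.ofNat 0, Int.ofNat 4, Int.ofNat 0, Int.ofNat 0, Int.ofNat 0, Int.ofNat 0, Int.ofNat 0, Int.ofNat 0, Int.ofNat 0, Int.ofNat 0, Int.ofNat 0, Int.ofNat 0, Int.ofNat 0, Int.ofNat 0, Int.ofNat 4],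
  [Int.ofNat 0, Int.ofNat 0, Int.ofNat 0, Int.ofNat 0, Int.ofNat 0, Int.ofNat 0, Int.ofNat 0, Int.ofNat 0, Int.ofNat 0, Int.ofNat 0, Int.negSucc 3, Int.ofNat 0, Int.ofNat 0, Int.ofNat 0, Int.ofNat 0, Int.ofNat 0, Int.ofNat 0, Int.ofNat 0, Int.ofNat 0, Int.ofNat 0, Int.ofNat 0, Int.ofNat 0, Int.ofNat 0, Int.ofNat 4],
  [Int.ofNat 2, Int.ofNat 2, Int.ofNat 2, Int.ofNat 0, Int.ofNat 0, Int.ofNat 0, Int.ofNat 0, Int.ofNat 0, Int.ofNat 0, Int.ofNat 2, Int.negSucc 1, Int.ofNat 0, Int.ofNat 0, Int.ofNat 0, Int.ofNat 0, Int.ofNat 2, Int.ofNat 0, Int.ofNat 0, Int.ofNat 0, Int.ofNat 0, Int.ofNat 2, Int.ofNat 0, Int.ofNat 0, Int.negSucc 1],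
  [Int.ofNat 2, Int.ofNat 0, Int.ofNat 0, Int.ofNat 0, Int.ofNat 2, Int.ofNat 0, Int.ofNat 2, Int.ofNat 0, Int.ofNat 0, Int.ofNat 0, Int.ofNat 0, Int.ofNat 0, Int.ofNat 0, Int.ofNat 2, Int.ofNat 0, Int.ofNat 2, Int.ofNat 0, Int.ofNat 0, Int.ofNat 0, Int.ofNat 0, Int.negSucc 1, Int.ofNat 2, Int.ofNat 0, Int.negSucc 1],
  [Int.negSucc 1, Int.ofNat 0, Int.ofNat 0, Int.ofNat 0, Int.ofNat 0, Int.ofNat 0, Int.ofNat 0, Int.negSucc 1, Int.ofNat 0, Int.ofNat 0, Int.ofNat 0, Int.ofNat 0, Int.ofNat 0, Int.ofNat 0, Int.ofNat 0, Int.ofNat 2, Int.negSucc 1, Int.ofNat 0, Int.ofNat 0, Int.negSucc 1, Int.negSucc 1, Int.ofNat 0, Int.negSucc 1, Int.ofNat 2],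
  [Int.negSucc 1, Int.ofNat 0, Int.negSucc 1, Int.negSucc 1, Int.ofNat 0, Int.ofNat 0, Int.ofNat 0, Int.ofNat 0, Int.ofNat 0, Int.ofNat 0, Int.negSucc 1, Int.ofNat 0, Int.ofNat 0, Int.ofNat 0, Int.ofNat 0, Int.ofNat 0, Int.ofNat 0, Int.ofNat 0, Int.ofNat 2, Int.negSucc 1, Int.ofNat 0, Int.ofNat 0, Int.negSucc 1, Int.ofNat 2],
  [Int.ofNat 1, Int.negSucc 0, Int.ofNat 1, Int.negSucc 0, Int.ofNat 1, Int.ofNat 1, Int.ofNat 1, Int.ofNat 1, Int.negSucc 0, Int.ofNat 1, Int.negSucc 0, Int.negSucc 0, Int.negSucc 0, Int.ofNat 1, Int.ofNat 1, Int.ofNat 1, Int.ofNat 1, Int.ofNat 1, Int.ofNat 1, Int.negSucc 0, Int.ofNat 1, Int.ofNat 1, Int.negSucc 0, Int.negSucc 2],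
  [Int.negSucc 0, Int.ofNat 1, Int.negSucc 0, Int.ofNat 1, Int.ofNat 1, Int.ofNat 1, Int.ofNat 1, Int.negSucc 0, Int.ofNat 1, Int.negSucc 0, Int.negSucc 0, Int.negSucc 0, Int.ofNat 1, Int.ofNat 1, Int.ofNat 1, Int.ofNat 1, Int.ofNat 1, Int.ofNat 1, Int.negSucc 0, Int.ofNat 1, Int.ofNat 1, Int.negSucc 0, Int.ofNat 1, Int.negSucc 2],
  [Int.ofNat 1, Int.ofNat 1, Int.ofNat 1, Int.ofNat 1, Int.ofNat 1, Int.ofNat 1, Int.ofNat 1, Int.ofNat 1, Int.ofNat 1, Int.ofNat 1, Int.ofNat 1, Int.ofNat 1, Int.ofNat 1, Int.ofNat 1, Int.ofNat 1, Int.ofNat 1, Int.ofNat 1, Int.ofNat 1, Int.ofNat 1, Int.ofNat 1, Int.ofNat 1, Int.ofNat 1, Int.ofNat 1, Int.negSucc 2],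
  [Int.ofNat 1, Int.ofNat 1, Int.ofNat 1, Int.ofNat 1, Int.ofNat 1, Int.ofNat 1, Int.ofNat 1, Int.ofNat 1, Int.ofNat 1, Int.ofNat 1, Int.ofNat 1, Int.ofNat 1, Int.ofNat 1, Int.ofNat 1, Int.ofNat 1, Int.ofNat 1, Int.ofNat 1, Int.ofNat 1, Int.ofNat 1, Int.ofNat 1, Int.ofNat 1, Int.ofNat 1, Int.ofNat 1, Int.negSucc 2]]

set_option maxRecDepth 100000 in
theorem rn_chk2 : cChk rnW w3L rnM2 w3L = true := by
  decide +kernel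

set_option maxRecDepth 100000 in
def rnM3 : List (List ℤ) :=
  [[Int.ofNat 0, Int.ofNat 4, Int.negSucc 7, Int.ofNat 12, Int.ofNat 16, Int.ofNat 20, Int.ofNat 24, Int.negSucc 27, Int.ofNat 32, Int.negSucc 35, Int.negSucc 39, Int.negSucc 43, Int.ofNat 48, Int.ofNat 52, Int.ofNat 56, Int.ofNat 60, Int.ofNat 64, Int.ofNat 68, Int.negSucc 71, Int.ofNat 76, Int.ofNat 80, Int.negSucc 83, Int.ofNat 88, Int.negSucc 1011],
  [Int.ofNat 88, Int.ofNat 0, Int.ofNat 4, Int.negSucc 7, Int.ofNat 12, Int.ofNat 16, Int.ofNat 20, Int.ofNat 24, Int.negSucc 27, Int.ofNat 32, Int.negSucc 35, Int.negSucc 39, Int.negSucc 43, Int.ofNat 48, Int.ofNat 52, Int.ofNat 56, Int.ofNat 60, Int.ofNat 64, Int.ofNat 68, Int.negSucc 71, Int.ofNat 76, Int.ofNat 80, Int.negSucc 83, Int.negSucc 1011],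
  [Int.negSucc 547, Int.negSucc 459, Int.negSucc 463, Int.negSucc 69, Int.negSucc 5, Int.negSucc 45, Int.negSucc 5, Int.negSucc 1, Int.negSucc 5, Int.negSucc 31, Int.negSucc 99, Int.negSucc 17, Int.negSucc 21, Int.ofNat 30, Int.negSucc 9, Int.negSucc 7, Int.ofNat 42, Int.ofNat 2, Int.ofNat 90, Int.negSucc 97, Int.ofNat 12, Int.ofNat 54, Int.negSucc 101, Int.ofNat 552],
  [Int.negSucc 69, Int.negSucc 5, Int.negSucc 45, Int.negSucc 5, Int.negSucc 1, Int.negSucc 5, Int.negSucc 31, Int.negSucc 99, Int.negSucc 17, Int.negSucc 21, Int.ofNat 30, Int.negSucc 9, Int.negSucc 7, Int.ofNat 42, Int.ofNat 2, Int.ofNat 90, Int.negSucc 97, Int.ofNat 12, Int.ofNat 54, Int.negSucc 101, Int.negSucc 547, Int.negSucc 459, Int.negSucc 463, Int.ofNat 552],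
  [Int.ofNat 285, Int.ofNat 221, Int.ofNat 261, Int.negSucc 6, Int.ofNat 259, Int.negSucc 6, Int.ofNat 315, Int.ofNat 247, Int.negSucc 26, Int.ofNat 203, Int.ofNat 255, Int.negSucc 18, Int.negSucc 16, Int.ofNat 303, Int.ofNat 1, Int.ofNat 315, Int.ofNat 163, Int.ofNat 11, Int.ofNat 45, Int.ofNat 245, Int.negSucc 322, Int.negSucc 112, Int.negSucc 202, Int.negSucc 336],
  [Int.ofNat 285, Int.ofNat 315, Int.ofNat 259, Int.negSucc 6, Int.ofNat 45, Int.ofNat 247, Int.ofNat 261, Int.ofNat 255, Int.negSucc 16, Int.ofNat 303, Int.negSucc 322, Int.ofNat 11, Int.ofNat 203, Int.ofNat 163, Int.negSucc 202, Int.ofNat 315, Int.negSucc 26, Int.ofNat 1, Int.ofNat 221, Int.negSucc 18, Int.negSucc 112, Int.negSucc 6, Int.ofNat 245, Int.negSucc 336],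
  [Int.negSucc 23, Int.negSucc 53, Int.ofNat 2, Int.negSucc 25, Int.negSucc 167, Int.ofNat 228, Int.ofNat 16, Int.ofNat 10, Int.negSucc 225, Int.ofNat 212, Int.negSucc 413, Int.negSucc 197, Int.negSucc 5, Int.negSucc 49, Int.negSucc 221, Int.ofNat 224, Int.negSucc 239, Int.negSucc 17, Int.ofNat 12, Int.negSucc 263, Int.negSucc 203, Int.negSucc 251, Int.ofNat 32, Int.ofNat 598],
  [Int.negSucc 23, Int.negSucc 53, Int.negSucc 1, Int.negSucc 25, Int.negSucc 167, Int.negSucc 227, Int.negSucc 15, Int.ofNat 10, Int.negSucc 225, Int.negSucc 211, Int.ofNat 414, Int.negSucc 197, Int.negSucc 5, Int.negSucc 49, Int.negSucc 221, Int.negSucc 223, Int.negSucc 239, Int.negSucc 17, Int.negSucc 11, Int.negSucc 263, Int.negSucc 203, Int.negSucc 251, Int.negSucc 31, Int.ofNat 598],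
  [Int.negSucc 167, Int.negSucc 17, Int.negSucc 223, Int.ofNat 414, Int.negSucc 251, Int.negSucc 239, Int.negSucc 53, Int.negSucc 221, Int.negSucc 1, Int.ofNat 10, Int.negSucc 263, Int.negSucc 211, Int.negSucc 49, Int.negSucc 225, Int.negSucc 23, Int.negSucc 15, Int.negSucc 5, Int.negSucc 25, Int.negSucc 227, Int.negSucc 203, Int.negSucc 197, Int.negSucc 31, Int.negSucc 11, Int.ofNat 598],
  [Int.negSucc 167, Int.negSucc 17, Int.ofNat 224, Int.ofNat 414, Int.negSucc 251, Int.ofNat 240, Int.ofNat 54, Int.negSucc 221, Int.negSucc 1, Int.negSucc 9, Int.ofNat 264, Int.negSucc 211, Int.negSucc 49, Int.negSucc 225, Int.negSucc 23, Int.ofNat 16, Int.negSucc 5, Int.negSucc 25, Int.ofNat 228, Int.negSucc 203, Int.negSucc 197, Int.negSucc 31, Int.ofNat 12, Int.ofNat 598],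
  [Int.ofNat 486, Int.ofNat 336, Int.ofNat 94, Int.ofNat 112, Int.negSucc 15, Int.negSucc 61, Int.ofNat 256, Int.negSucc 19, Int.ofNat 16, Int.negSucc 45, Int.ofNat 228, Int.negSucc 193, Int.negSucc 31, Int.ofNat 10, Int.negSucc 325, Int.negSucc 19, Int.ofNat 230, Int.negSucc 327, Int.ofNat 246, Int.negSucc 1, Int.negSucc 233, Int.ofNat 170, Int.ofNat 248, Int.negSucc 279],
  [Int.ofNat 486, Int.ofNat 246, Int.ofNat 256, Int.ofNat 112, Int.ofNat 94, Int.ofNat 170, Int.ofNat 336, Int.negSucc 61, Int.ofNat 230, Int.negSucc 31, Int.negSucc 19, Int.negSucc 1, Int.ofNat 16, Int.negSucc 45, Int.negSucc 327, Int.negSucc 19, Int.ofNat 10, Int.negSucc 193, Int.negSucc 15, Int.ofNat 248, Int.ofNat 228, Int.negSucc 233, Int.negSucc 325, Int.negSucc 279],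
  [Int.negSucc 131, Int.ofNat 108, Int.ofNat 98, Int.ofNat 232, Int.ofNat 228, Int.ofNat 290, Int.ofNat 192, Int.negSucc 205, Int.ofNat 116, Int.negSucc 109, Int.negSucc 97, Int.negSucc 115, Int.negSucc 97, Int.ofNat 88, Int.negSucc 207, Int.negSucc 97, Int.ofNat 144, Int.negSucc 73, Int.negSucc 129, Int.ofNat 104, Int.ofNat 150, Int.negSucc 377, Int.negSucc 191, Int.ofNat 634],
  [Int.ofNat 150, Int.negSucc 377, Int.negSucc 191, Int.negSucc 131, Int.ofNat 108, Int.ofNat 98, Int.ofNat 232, Int.ofNat 228, Int.ofNat 290, Int.ofNat 192, Int.negSucc 205, Int.ofNat 116, Int.negSucc 109, Int.negSucc 97, Int.negSucc 115, Int.negSucc 97, Int.ofNat 88, Int.negSucc 207, Int.negSucc 97, Int.ofNat 144, Int.negSucc 73, Int.negSucc 129, Int.ofNat 104, Int.ofNat 634],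
  [Int.negSucc 42, Int.ofNat 485, Int.ofNat 299, Int.ofNat 47, Int.ofNat 7, Int.ofNat 277, Int.negSucc 4, Int.negSucc 8, Int.ofNat 191, Int.ofNat 285, Int.negSucc 112, Int.ofNat 17, Int.negSucc 208, Int.negSucc 198, Int.ofNat 63, Int.negSucc 4, Int.negSucc 12, Int.negSucc 28, Int.negSucc 196, Int.negSucc 92, Int.ofNat 19, Int.negSucc 366, Int.ofNat 3, Int.negSucc 526],
  [Int.ofNat 485, Int.ofNat 299, Int.ofNat 47, Int.ofNat 7, Int.ofNat 277, Int.negSucc 4, Int.negSucc 8, Int.ofNat 191, Int.ofNat 285, Int.negSucc 112, Int.ofNat 17, Int.negSucc 208, Int.negSucc 198, Int.ofNat 63, Int.negSucc 4, Int.negSucc 12, Int.negSucc 28, Int.negSucc 196, Int.negSucc 92, Int.ofNat 19, Int.negSucc 366, Int.ofNat 3, Int.negSucc 42, Int.negSucc 526],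
  [Int.negSucc 484, Int.ofNat 299, Int.negSucc 46, Int.ofNat 7, Int.ofNat 277, Int.negSucc 4, Int.negSucc 8, Int.negSucc 190, Int.ofNat 285, Int.ofNat 113, Int.negSucc 16, Int.ofNat 209, Int.negSucc 198, Int.ofNat 63, Int.negSucc 4, Int.negSucc 12, Int.negSucc 28, Int.negSucc 196, Int.ofNat 93, Int.ofNat 19, Int.negSucc 366, Int.negSucc 2, Int.negSucc 42, Int.negSucc 526],
  [Int.negSucc 484, Int.negSucc 46, Int.ofNat 277, Int.negSucc 8, Int.ofNat 285, Int.negSucc 16, Int.negSucc 198, Int.negSucc 4, Int.negSucc 28, Int.ofNat 93, Int.negSucc 366, Int.negSucc 42, Int.ofNat 299, Int.ofNat 7, Int.negSucc 4, Int.negSucc 190, Int.ofNat 113, Int.ofNat 209, Int.ofNat 63, Int.negSucc 12, Int.negSucc 196, Int.ofNat 19, Int.negSucc 2, Int.negSucc 526],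
  [Int.ofNat 485, Int.negSucc 46, Int.negSucc 276, Int.negSucc 8, Int.ofNat 285, Int.negSucc 16, Int.negSucc 198, Int.ofNat 5, Int.negSucc 28, Int.negSucc 92, Int.ofNat 367, Int.ofNat 43, Int.ofNat 299, Int.ofNat 7, Int.negSucc 4, Int.negSucc 190, Int.ofNat 113, Int.ofNat 209, Int.negSucc 62, Int.negSucc 12, Int.negSucc 196, Int.negSucc 18, Int.negSucc 2, Int.negSucc 526],
  [Int.negSucc 2, Int.ofNat 485, Int.negSucc 46, Int.negSucc 276, Int.negSucc 8, Int.ofNat 285, Int.negSucc 16, Int.negSucc 198, Int.ofNat 5, Int.negSucc 28, Int.negSucc 92, Int.ofNat 367, Int.ofNat 43, Int.ofNat 299, Int.ofNat 7, Int.negSucc 4, Int.negSucc 190, Int.ofNat 113, Int.ofNat 209, Int.negSucc 62, Int.negSucc 12, Int.negSucc 196, Int.negSucc 18, Int.negSucc 526],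
  [Int.negSucc 42, Int.negSucc 530, Int.ofNat 1, Int.negSucc 340, Int.negSucc 48, Int.ofNat 221, Int.ofNat 221, Int.ofNat 39, Int.negSucc 306, Int.ofNat 41, Int.negSucc 22, Int.ofNat 55, Int.negSucc 268, Int.ofNat 259, Int.negSucc 56, Int.ofNat 65, Int.negSucc 230, Int.ofNat 49, Int.negSucc 102, Int.ofNat 175, Int.ofNat 57, Int.ofNat 41, Int.negSucc 58, Int.ofNat 481],
  [Int.negSucc 340, Int.negSucc 48, Int.ofNat 221, Int.ofNat 221, Int.ofNat 39, Int.negSucc 306, Int.ofNat 41, Int.negSucc 22, Int.ofNat 55, Int.negSucc 268, Int.ofNat 259, Int.negSucc 56, Int.ofNat 65, Int.negSucc 230, Int.ofNat 49, Int.negSucc 102, Int.ofNat 175, Int.ofNat 57, Int.ofNat 41, Int.negSucc 58, Int.negSucc 42, Int.negSucc 530, Int.ofNat 1, Int.ofNat 481],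
  [Int.ofNat 497, Int.ofNat 205, Int.negSucc 64, Int.ofNat 211, Int.ofNat 47, Int.negSucc 316, Int.ofNat 327, Int.ofNat 263, Int.ofNat 3, Int.negSucc 190, Int.ofNat 337, Int.negSucc 108, Int.ofNat 13, Int.negSucc 222, Int.ofNat 39, Int.negSucc 24, Int.ofNat 183, Int.ofNat 47, Int.negSucc 10, Int.ofNat 227, Int.ofNat 35, Int.negSucc 244, Int.ofNat 9, Int.negSucc 324],
  [Int.ofNat 497, Int.ofNat 327, Int.ofNat 47, Int.ofNat 211, Int.negSucc 10, Int.ofNat 263, Int.negSucc 64, Int.ofNat 337, Int.ofNat 13, Int.negSucc 222, Int.ofNat 35, Int.ofNat 47, Int.negSucc 190, Int.ofNat 183, Int.ofNat 9, Int.negSucc 24, Int.ofNat 3, Int.ofNat 39, Int.ofNat 205, Int.negSucc 108, Int.negSucc 244, Int.negSucc 316, Int.ofNat 227, Int.negSucc 324],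
  [Int.negSucc 223, Int.negSucc 53, Int.ofNat 226, Int.negSucc 49, Int.negSucc 211, Int.ofNat 2, Int.ofNat 12, Int.ofNat 414, Int.negSucc 23, Int.ofNat 6, Int.ofNat 264, Int.ofNat 10, Int.negSucc 227, Int.negSucc 17, Int.negSucc 251, Int.ofNat 204, Int.negSucc 197, Int.negSucc 221, Int.ofNat 168, Int.negSucc 31, Int.negSucc 15, Int.negSucc 239, Int.ofNat 26, Int.ofNat 598],
  [Int.negSucc 223, Int.negSucc 53, Int.negSucc 225, Int.negSucc 49, Int.negSucc 211, Int.negSucc 1, Int.negSucc 11, Int.ofNat 414, Int.negSucc 23, Int.negSucc 5, Int.negSucc 263, Int.ofNat 10, Int.negSucc 227, Int.negSucc 17, Int.negSucc 251, Int.negSucc 203, Int.negSucc 197, Int.negSucc 221, Int.negSucc 167, Int.negSucc 31, Int.negSucc 15, Int.negSucc 239, Int.negSucc 25, Int.ofNat 598],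
  [Int.negSucc 1, Int.negSucc 15, Int.negSucc 49, Int.negSucc 5, Int.negSucc 197, Int.negSucc 225, Int.negSucc 31, Int.negSucc 25, Int.negSucc 221, Int.negSucc 239, Int.ofNat 414, Int.negSucc 211, Int.negSucc 11, Int.negSucc 53, Int.negSucc 167, Int.negSucc 263, Int.negSucc 203, Int.ofNat 10, Int.negSucc 23, Int.negSucc 251, Int.negSucc 223, Int.negSucc 227, Int.negSucc 17, Int.ofNat 598],
  [Int.negSucc 1, Int.negSucc 15, Int.ofNat 50, Int.negSucc 5, Int.negSucc 197, Int.ofNat 226, Int.ofNat 32, Int.negSucc 25, Int.negSucc 221, Int.ofNat 240, Int.negSucc 413, Int.negSucc 211, Int.negSucc 11, Int.negSucc 53, Int.negSucc 167, Int.ofNat 264, Int.negSucc 203, Int.ofNat 10, Int.ofNat 24, Int.negSucc 251, Int.negSucc 223, Int.negSucc 227, Int.ofNat 18, Int.ofNat 598],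
  [Int.ofNat 317, Int.ofNat 331, Int.ofNat 265, Int.negSucc 36, Int.ofNat 21, Int.ofNat 195, Int.ofNat 269, Int.ofNat 211, Int.negSucc 10, Int.ofNat 307, Int.negSucc 346, Int.negSucc 0, Int.ofNat 199, Int.ofNat 165, Int.negSucc 198, Int.ofNat 331, Int.ofNat 15, Int.negSucc 20, Int.ofNat 235, Int.negSucc 14, Int.negSucc 156, Int.ofNat 9, Int.ofNat 237, Int.negSucc 282],
  [Int.ofNat 317, Int.ofNat 235, Int.ofNat 269, Int.negSucc 36, Int.ofNat 265, Int.ofNat 9, Int.ofNat 331, Int.ofNat 195, Int.ofNat 15, Int.ofNat 199, Int.ofNat 211, Int.negSucc 14, Int.negSucc 10, Int.ofNat 307, Int.negSucc 20, Int.ofNat 331, Int.ofNat 165, Int.negSucc 0, Int.ofNat 21, Int.ofNat 237, Int.negSucc 346, Int.negSucc 156, Int.negSucc 198, Int.negSucc 282],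
  [Int.negSucc 47, Int.ofNat 34, Int.ofNat 0, Int.negSucc 11, Int.negSucc 3, Int.ofNat 34, Int.ofNat 28, Int.negSucc 107, Int.ofNat 10, Int.ofNat 2, Int.ofNat 14, Int.negSucc 19, Int.negSucc 15, Int.ofNat 38, Int.ofNat 4, Int.ofNat 134, Int.negSucc 103, Int.ofNat 24, Int.ofNat 16, Int.negSucc 65, Int.negSucc 543, Int.negSucc 459, Int.negSucc 467, Int.ofNat 552],
  [Int.negSucc 543, Int.negSucc 459, Int.negSucc 467, Int.negSucc 47, Int.ofNat 34, Int.ofNat 0, Int.negSucc 11, Int.negSucc 3, Int.ofNat 34, Int.ofNat 28, Int.negSucc 107, Int.ofNat 10, Int.ofNat 2, Int.ofNat 14, Int.negSucc 19, Int.negSucc 15, Int.ofNat 38, Int.ofNat 4, Int.ofNat 134, Int.negSucc 103, Int.ofNat 24, Int.ofNat 16, Int.negSucc 65, Int.ofNat 552],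
  [Int.ofNat 84, Int.ofNat 0, Int.ofNat 8, Int.negSucc 15, Int.ofNat 24, Int.ofNat 32, Int.ofNat 40, Int.ofNat 48, Int.negSucc 55, Int.ofNat 64, Int.negSucc 71, Int.negSucc 79, Int.negSucc 87, Int.ofNat 4, Int.ofNat 12, Int.ofNat 20, Int.ofNat 28, Int.ofNat 36, Int.ofNat 44, Int.negSucc 51, Int.ofNat 60, Int.ofNat 68, Int.negSucc 75, Int.negSucc 1011],
  [Int.ofNat 0, Int.ofNat 8, Int.negSucc 15, Int.ofNat 24, Int.ofNat 32, Int.ofNat 40, Int.ofNat 48, Int.negSucc 55, Int.ofNat 64, Int.negSucc 71, Int.negSucc 79, Int.negSucc 87, Int.ofNat 4, Int.ofNat 12, Int.ofNat 20, Int.ofNat 28, Int.ofNat 36, Int.ofNat 44, Int.negSucc 51, Int.ofNat 60, Int.ofNat 68, Int.negSucc 75, Int.ofNat 84, Int.negSucc 1011],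
  [Int.ofNat 0, Int.ofNat 8, Int.ofNat 16, Int.ofNat 24, Int.ofNat 32, Int.ofNat 40, Int.ofNat 48, Int.ofNat 56, Int.ofNat 64, Int.ofNat 72, Int.ofNat 80, Int.ofNat 88, Int.ofNat 4, Int.ofNat 12, Int.ofNat 20, Int.ofNat 28, Int.ofNat 36, Int.ofNat 44, Int.ofNat 52, Int.ofNat 60, Int.ofNat 68, Int.ofNat 76, Int.ofNat 84, Int.negSucc 1011],
  [Int.ofNat 0, Int.ofNat 4, Int.ofNat 8, Int.ofNat 12, Int.ofNat 16, Int.ofNat 20, Int.ofNat 24, Int.ofNat 28, Int.ofNat 32, Int.ofNat 36, Int.ofNat 40, Int.ofNat 44, Int.ofNat 48, Int.ofNat 52, Int.ofNat 56, Int.ofNat 60, Int.ofNat 64, Int.ofNat 68, Int.ofNat 72, Int.ofNat 76, Int.ofNat 80, Int.ofNat 84, Int.ofNat 88, Int.negSucc 1011]]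

set_option maxRecDepth 100000 in
theorem rn_chk3 : cChk rnW vdL rnM3 vdL = true := by
  decide +kernel

theorem rn_one : wE letE rnW = 1 :=
  eq_one_of_c4 rn_chk0 rn_chk1 rn_chk2 rn_chk3

/-- A word which is trivial. -/
def rzW : List ℕ := [0, 23, 0, 23]

set_option maxRecDepth 100000 in
def rzM0 : List (List ℤ) :=
  [[Int.ofNat 4, Int.ofNat 0, Int.ofNat 0, Int.ofNat 0, Int.ofNat 0, Int.ofNat 0, Int.ofNat 0, Int.ofNat 0, Int.ofNat 0, Int.ofNat 0, Int.ofNat 0, Int.ofNat 0, Int.ofNat 0, Int.ofNat 0, Int.ofNat 0, Int.ofNat 0, Int.ofNat 0, Int.ofNat 0, Int.ofNat 0, Int.ofNat 0, Int.ofNat 0, Int.ofNat 0, Int.ofNat 0, Int.ofNat 4],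
  [Int.ofNat 4, Int.ofNat 0, Int.ofNat 0, Int.ofNat 0, Int.ofNat 0, Int.ofNat 0, Int.ofNat 0, Int.ofNat 0, Int.ofNat 0, Int.ofNat 0, Int.ofNat 0, Int.ofNat 0, Int.ofNat 0, Int.ofNat 0, Int.ofNat 0, Int.ofNat 0, Int.ofNat 0, Int.ofNat 0, Int.ofNat 0, Int.ofNat 0, Int.ofNat 0, Int.ofNat 0, Int.ofNat 0, Int.ofNat 4],
  [Int.ofNat 4, Int.ofNat 0, Int.ofNat 0, Int.ofNat 0, Int.ofNat 0, Int.ofNat 0, Int.ofNat 0, Int.ofNat 0, Int.ofNat 0, Int.ofNat 0, Int.ofNat 0, Int.ofNat 0, Int.ofNat 0, Int.ofNat 0, Int.ofNat 0, Int.ofNat 0, Int.ofNat 0, Int.ofNat 0, Int.ofNat 0, Int.ofNat 0, Int.ofNat 0, Int.ofNat 0, Int.ofNat 0, Int.ofNat 4],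
  [Int.ofNat 4, Int.ofNat 0, Int.ofNat 0, Int.ofNat 0, Int.ofNat 0, Int.ofNat 0, Int.ofNat 0, Int.ofNat 0, Int.ofNat 0, Int.ofNat 0, Int.ofNat 0, Int.ofNat 0, Int.ofNat 0, Int.ofNat 0, Int.ofNat 0, Int.ofNat 0, Int.ofNat 0, Int.ofNat 0, Int.ofNat 0, Int.ofNat 0, Int.ofNat 0, Int.ofNat 0, Int.ofNat 0, Int.ofNat 4]]

set_option maxRecDepth 100000 in
theorem rz_chk0 : cChk rzW a0L rzM0 a0L = true := by
  decide +kernel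

set_option maxRecDepth 100000 in
def rzM1 : List (List ℤ) :=
  [[Int.negSucc 3, Int.ofNat 0, Int.ofNat 0, Int.ofNat 0, Int.ofNat 0, Int.ofNat 0, Int.ofNat 0, Int.ofNat 0, Int.ofNat 0, Int.ofNat 0, Int.ofNat 0, Int.ofNat 0, Int.ofNat 0, Int.ofNat 0, Int.ofNat 0, Int.ofNat 0, Int.ofNat 0, Int.ofNat 0, Int.ofNat 0, Int.ofNat 0, Int.ofNat 0, Int.ofNat 0, Int.ofNat 0, Int.ofNat 4],
  [Int.ofNat 4, Int.ofNat 0, Int.ofNat 0, Int.ofNat 0, Int.ofNat 0, Int.ofNat 0, Int.ofNat 0, Int.ofNat 0, Int.ofNat 0, Int.ofNat 0, Int.ofNat 0, Int.ofNat 0, Int.ofNat 0, Int.ofNat 0, Int.ofNat 0, Int.ofNat 0, Int.ofNat 0, Int.ofNat 0, Int.ofNat 0, Int.ofNat 0, Int.ofNat 0, Int.ofNat 0, Int.ofNat 0, Int.negSucc 3],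
  [Int.ofNat 4, Int.ofNat 0, Int.ofNat 0, Int.ofNat 0, Int.ofNat 0, Int.ofNat 0, Int.ofNat 0, Int.ofNat 0, Int.ofNat 0, Int.ofNat 0, Int.ofNat 0, Int.ofNat 0, Int.ofNat 0, Int.ofNat 0, Int.ofNat 0, Int.ofNat 0, Int.ofNat 0, Int.ofNat 0, Int.ofNat 0, Int.ofNat 0, Int.ofNat 0, Int.ofNat 0, Int.ofNat 0, Int.negSucc 3],
  [Int.negSucc 3, Int.ofNat 0, Int.ofNat 0, Int.ofNat 0, Int.ofNat 0, Int.ofNat 0, Int.ofNat 0, Int.ofNat 0, Int.ofNat 0, Int.ofNat 0, Int.ofNat 0, Int.ofNat 0, Int.ofNat 0, Int.ofNat 0, Int.ofNat 0, Int.ofNat 0, Int.ofNat 0, Int.ofNat 0, Int.ofNat 0, Int.ofNat 0, Int.ofNat 0, Int.ofNat 0, Int.ofNat 0, Int.ofNat 4]]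

set_option maxRecDepth 100000 in
theorem rz_chk1 : cChk rzW nxL rzM1 nxL = true := by
  decide +kernel

set_option maxRecDepth 100000 in
def rzM2 : List (List ℤ) :=
  [[Int.ofNat 1, Int.ofNat 1, Int.ofNat 1, Int.ofNat 1, Int.ofNat 1, Int.ofNat 1, Int.ofNat 1, Int.ofNat 1, Int.ofNat 1, Int.ofNat 1, Int.ofNat 1, Int.ofNat 1, Int.ofNat 1, Int.ofNat 1, Int.ofNat 1, Int.ofNat 1, Int.ofNat 1, Int.ofNat 1, Int.ofNat 1, Int.ofNat 1, Int.ofNat 1, Int.ofNat 1, Int.ofNat 1, Int.negSucc 2],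
  [Int.negSucc 2, Int.ofNat 1, Int.ofNat 1, Int.ofNat 1, Int.ofNat 1, Int.ofNat 1, Int.ofNat 1, Int.ofNat 1, Int.ofNat 1, Int.ofNat 1, Int.ofNat 1, Int.ofNat 1, Int.ofNat 1, Int.ofNat 1, Int.ofNat 1, Int.ofNat 1, Int.ofNat 1, Int.ofNat 1, Int.ofNat 1, Int.ofNat 1, Int.ofNat 1, Int.ofNat 1, Int.ofNat 1, Int.ofNat 1],
  [Int.negSucc 2, Int.ofNat 1, Int.ofNat 1, Int.ofNat 1, Int.ofNat 1, Int.ofNat 1, Int.ofNat 1, Int.ofNat 1, Int.ofNat 1, Int.ofNat 1, Int.ofNat 1, Int.ofNat 1, Int.ofNat 1, Int.ofNat 1, Int.ofNat 1, Int.ofNat 1, Int.ofNat 1, Int.ofNat 1, Int.ofNat 1, Int.ofNat 1, Int.ofNat 1, Int.ofNat 1, Int.ofNat 1, Int.ofNat 1],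
  [Int.ofNat 1, Int.ofNat 1, Int.ofNat 1, Int.ofNat 1, Int.ofNat 1, Int.ofNat 1, Int.ofNat 1, Int.ofNat 1, Int.ofNat 1, Int.ofNat 1, Int.ofNat 1, Int.ofNat 1, Int.ofNat 1, Int.ofNat 1, Int.ofNat 1, Int.ofNat 1, Int.ofNat 1, Int.ofNat 1, Int.ofNat 1, Int.ofNat 1, Int.ofNat 1, Int.ofNat 1, Int.ofNat 1, Int.negSucc 2]]

set_option maxRecDepth 100000 in
theorem rz_chk2 : cChk rzW w3L rzM2 w3L = true := by
  decide +kernel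

set_option maxRecDepth 100000 in
def rzM3 : List (List ℤ) :=
  [[Int.ofNat 0, Int.ofNat 48, Int.ofNat 4, Int.ofNat 52, Int.ofNat 8, Int.ofNat 56, Int.ofNat 12, Int.ofNat 60, Int.ofNat 16, Int.ofNat 64, Int.ofNat 20, Int.ofNat 68, Int.ofNat 24, Int.ofNat 72, Int.ofNat 28, Int.ofNat 76, Int.ofNat 32, Int.ofNat 80, Int.ofNat 36, Int.ofNat 84, Int.ofNat 40, Int.ofNat 88, Int.ofNat 44, Int.negSucc 1011],
  [Int.negSucc 1011, Int.ofNat 44, Int.ofNat 68, Int.ofNat 76, Int.ofNat 80, Int.ofNat 64, Int.ofNat 84, Int.ofNat 72, Int.ofNat 40, Int.ofNat 56, Int.ofNat 32, Int.ofNat 4, Int.ofNat 88, Int.ofNat 60, Int.ofNat 36, Int.ofNat 52, Int.ofNat 20, Int.ofNat 8, Int.ofNat 28, Int.ofNat 12, Int.ofNat 16, Int.ofNat 24, Int.ofNat 48, Int.ofNat 0],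
  [Int.negSucc 1011, Int.ofNat 88, Int.ofNat 44, Int.ofNat 60, Int.ofNat 68, Int.ofNat 36, Int.ofNat 76, Int.ofNat 52, Int.ofNat 80, Int.ofNat 20, Int.ofNat 64, Int.ofNat 8, Int.ofNat 84, Int.ofNat 28, Int.ofNat 72, Int.ofNat 12, Int.ofNat 40, Int.ofNat 16, Int.ofNat 56, Int.ofNat 24, Int.ofNat 32, Int.ofNat 48, Int.ofNat 4, Int.ofNat 0],
  [Int.ofNat 0, Int.ofNat 4, Int.ofNat 8, Int.ofNat 12, Int.ofNat 16, Int.ofNat 20, Int.ofNat 24, Int.ofNat 28, Int.ofNat 32, Int.ofNat 36, Int.ofNat 40, Int.ofNat 44, Int.ofNat 48, Int.ofNat 52, Int.ofNat 56, Int.ofNat 60, Int.ofNat 64, Int.ofNat 68, Int.ofNat 72, Int.ofNat 76, Int.ofNat 80, Int.ofNat 84, Int.ofNat 88, Int.negSucc 1011]]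

set_option maxRecDepth 100000 in
theorem rz_chk3 : cChk rzW vdL rzM3 vdL = true := by
  decide +kernel

theorem rz_one : wE letE rzW = 1 :=
  eq_one_of_c4 rz_chk0 rz_chk1 rz_chk2 rz_chk3

/-- A word which is trivial. -/
def rzzW : List ℕ := [0, 0]

set_option maxRecDepth 100000 in
def rzzM0 : List (List ℤ) :=
  [[Int.ofNat 4, Int.ofNat 0, Int.ofNat 0, Int.ofNat 0, Int.ofNat 0, Int.ofNat 0, Int.ofNat 0, Int.ofNat 0, Int.ofNat 0, Int.ofNat 0, Int.ofNat 0, Int.ofNat 0, Int.ofNat 0, Int.ofNat 0, Int.ofNat 0, Int.ofNat 0, Int.ofNat 0, Int.ofNat 0, Int.ofNat 0, Int.ofNat 0, Int.ofNat 0, Int.ofNat 0, Int.ofNat 0, Int.ofNat 4],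
  [Int.ofNat 4, Int.ofNat 0, Int.ofNat 0, Int.ofNat 0, Int.ofNat 0, Int.ofNat 0, Int.ofNat 0, Int.ofNat 0, Int.ofNat 0, Int.ofNat 0, Int.ofNat 0, Int.ofNat 0, Int.ofNat 0, Int.ofNat 0, Int.ofNat 0, Int.ofNat 0, Int.ofNat 0, Int.ofNat 0, Int.ofNat 0, Int.ofNat 0, Int.ofNat 0, Int.ofNat 0, Int.ofNat 0, Int.ofNat 4]]

set_option maxRecDepth 100000 in
theorem rzz_chk0 : cChk rzzW a0L rzzM0 a0L = true := by
  decide +kernel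

set_option maxRecDepth 100000 in
def rzzM1 : List (List ℤ) :=
  [[Int.ofNat 4, Int.ofNat 0, Int.ofNat 0, Int.ofNat 0, Int.ofNat 0, Int.ofNat 0, Int.ofNat 0, Int.ofNat 0, Int.ofNat 0, Int.ofNat 0, Int.ofNat 0, Int.ofNat 0, Int.ofNat 0, Int.ofNat 0, Int.ofNat 0, Int.ofNat 0, Int.ofNat 0, Int.ofNat 0, Int.ofNat 0, Int.ofNat 0, Int.ofNat 0, Int.ofNat 0, Int.ofNat 0, Int.negSucc 3],
  [Int.negSucc 3, Int.ofNat 0, Int.ofNat 0, Int.ofNat 0, Int.ofNat 0, Int.ofNat 0, Int.ofNat 0, Int.ofNat 0, Int.ofNat 0, Int.ofNat 0, Int.ofNat 0, Int.ofNat 0, Int.ofNat 0, Int.ofNat 0, Int.ofNat 0, Int.ofNat 0, Int.ofNat 0, Int.ofNat 0, Int.ofNat 0, Int.ofNat 0, Int.ofNat 0, Int.ofNat 0, Int.ofNat 0, Int.ofNat 4]]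

set_option maxRecDepth 100000 in
theorem rzz_chk1 : cChk rzzW nxL rzzM1 nxL = true := by
  decide +kernel

set_option maxRecDepth 100000 in
def rzzM2 : List (List ℤ) :=
  [[Int.negSucc 2, Int.ofNat 1, Int.ofNat 1, Int.ofNat 1, Int.ofNat 1, Int.ofNat 1, Int.ofNat 1, Int.ofNat 1, Int.ofNat 1, Int.ofNat 1, Int.ofNat 1, Int.ofNat 1, Int.ofNat 1, Int.ofNat 1, Int.ofNat 1, Int.ofNat 1, Int.ofNat 1, Int.ofNat 1, Int.ofNat 1, Int.ofNat 1, Int.ofNat 1, Int.ofNat 1, Int.ofNat 1, Int.ofNat 1],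
  [Int.ofNat 1, Int.ofNat 1, Int.ofNat 1, Int.ofNat 1, Int.ofNat 1, Int.ofNat 1, Int.ofNat 1, Int.ofNat 1, Int.ofNat 1, Int.ofNat 1, Int.ofNat 1, Int.ofNat 1, Int.ofNat 1, Int.ofNat 1, Int.ofNat 1, Int.ofNat 1, Int.ofNat 1, Int.ofNat 1, Int.ofNat 1, Int.ofNat 1, Int.ofNat 1, Int.ofNat 1, Int.ofNat 1, Int.negSucc 2]]

set_option maxRecDepth 100000 in
theorem rzz_chk2 : cChk rzzW w3L rzzM2 w3L = true := by
  decide +kernel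

set_option maxRecDepth 100000 in
def rzzM3 : List (List ℤ) :=
  [[Int.negSucc 1011, Int.ofNat 88, Int.ofNat 44, Int.ofNat 60, Int.ofNat 68, Int.ofNat 36, Int.ofNat 76, Int.ofNat 52, Int.ofNat 80, Int.ofNat 20, Int.ofNat 64, Int.ofNat 8, Int.ofNat 84, Int.ofNat 28, Int.ofNat 72, Int.ofNat 12, Int.ofNat 40, Int.ofNat 16, Int.ofNat 56, Int.ofNat 24, Int.ofNat 32, Int.ofNat 48, Int.ofNat 4, Int.ofNat 0],
  [Int.ofNat 0, Int.ofNat 4, Int.ofNat 8, Int.ofNat 12, Int.ofNat 16, Int.ofNat 20, Int.ofNat 24, Int.ofNat 28, Int.ofNat 32, Int.ofNat 36, Int.ofNat 40, Int.ofNat 44, Int.ofNat 48, Int.ofNat 52, Int.ofNat 56, Int.ofNat 60, Int.ofNat 64, Int.ofNat 68, Int.ofNat 72, Int.ofNat 76, Int.ofNat 80, Int.ofNat 84, Int.ofNat 88, Int.negSucc 1011]]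

set_option maxRecDepth 100000 in
theorem rzz_chk3 : cChk rzzW vdL rzzM3 vdL = true := by
  decide +kernel

theorem rzz_one : wE letE rzzW = 1 :=
  eq_one_of_c4 rzz_chk0 rzz_chk1 rzz_chk2 rzz_chk3

/-- A word which is trivial. -/
def rnnW : List ℕ := [23, 24]

set_option maxRecDepth 100000 in
def rnnM0 : List (List ℤ) :=
  [[Int.ofNat 4, Int.ofNat 0, Int.ofNat 0, Int.ofNat 0, Int.ofNat 0, Int.ofNat 0, Int.ofNat 0, Int.ofNat 0, Int.ofNat 0, Int.ofNat 0, Int.ofNat 0, Int.ofNat 0, Int.ofNat 0, Int.ofNat 0, Int.ofNat 0, Int.ofNat 0, Int.ofNat 0, Int.ofNat 0, Int.ofNat 0, Int.ofNat 0, Int.ofNat 0, Int.ofNat 0, Int.ofNat 0, Int.ofNat 4],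
  [Int.ofNat 4, Int.ofNat 0, Int.ofNat 0, Int.ofNat 0, Int.ofNat 0, Int.ofNat 0, Int.ofNat 0, Int.ofNat 0, Int.ofNat 0, Int.ofNat 0, Int.ofNat 0, Int.ofNat 0, Int.ofNat 0, Int.ofNat 0, Int.ofNat 0, Int.ofNat 0, Int.ofNat 0, Int.ofNat 0, Int.ofNat 0, Int.ofNat 0, Int.ofNat 0, Int.ofNat 0, Int.ofNat 0, Int.ofNat 4]]

set_option maxRecDepth 100000 in
theorem rnn_chk0 : cChk rnnW a0L rnnM0 a0L = true := by
  decide +kernel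

set_option maxRecDepth 100000 in
def rnnM1 : List (List ℤ) :=
  [[Int.negSucc 3, Int.ofNat 0, Int.ofNat 0, Int.ofNat 0, Int.ofNat 0, Int.ofNat 0, Int.ofNat 0, Int.ofNat 0, Int.ofNat 0, Int.ofNat 0, Int.ofNat 0, Int.ofNat 0, Int.ofNat 0, Int.ofNat 0, Int.ofNat 0, Int.ofNat 0, Int.ofNat 0, Int.ofNat 0, Int.ofNat 0, Int.ofNat 0, Int.ofNat 0, Int.ofNat 0, Int.ofNat 0, Int.ofNat 4],
  [Int.negSucc 3, Int.ofNat 0, Int.ofNat 0, Int.ofNat 0, Int.ofNat 0, Int.ofNat 0, Int.ofNat 0, Int.ofNat 0, Int.ofNat 0, Int.ofNat 0, Int.ofNat 0, Int.ofNat 0, Int.ofNat 0, Int.ofNat 0, Int.ofNat 0, Int.ofNat 0, Int.ofNat 0, Int.ofNat 0, Int.ofNat 0, Int.ofNat 0, Int.ofNat 0, Int.ofNat 0, Int.ofNat 0, Int.ofNat 4]]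

set_option maxRecDepth 100000 in
theorem rnn_chk1 : cChk rnnW nxL rnnM1 nxL = true := by
  decide +kernel

set_option maxRecDepth 100000 in
def rnnM2 : List (List ℤ) :=
  [[Int.ofNat 1, Int.ofNat 1, Int.ofNat 1, Int.ofNat 1, Int.ofNat 1, Int.ofNat 1, Int.ofNat 1, Int.ofNat 1, Int.ofNat 1, Int.ofNat 1, Int.ofNat 1, Int.ofNat 1, Int.ofNat 1, Int.ofNat 1, Int.ofNat 1, Int.ofNat 1, Int.ofNat 1, Int.ofNat 1, Int.ofNat 1, Int.ofNat 1, Int.ofNat 1, Int.ofNat 1, Int.ofNat 1, Int.negSucc 2],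
  [Int.ofNat 1, Int.ofNat 1, Int.ofNat 1, Int.ofNat 1, Int.ofNat 1, Int.ofNat 1, Int.ofNat 1, Int.ofNat 1, Int.ofNat 1, Int.ofNat 1, Int.ofNat 1, Int.ofNat 1, Int.ofNat 1, Int.ofNat 1, Int.ofNat 1, Int.ofNat 1, Int.ofNat 1, Int.ofNat 1, Int.ofNat 1, Int.ofNat 1, Int.ofNat 1, Int.ofNat 1, Int.ofNat 1, Int.negSucc 2]]

set_option maxRecDepth 100000 in
theorem rnn_chk2 : cChk rnnW w3L rnnM2 w3L = true := by
  decide +kernel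

set_option maxRecDepth 100000 in
def rnnM3 : List (List ℤ) :=
  [[Int.ofNat 0, Int.ofNat 8, Int.ofNat 16, Int.ofNat 24, Int.ofNat 32, Int.ofNat 40, Int.ofNat 48, Int.ofNat 56, Int.ofNat 64, Int.ofNat 72, Int.ofNat 80, Int.ofNat 88, Int.ofNat 4, Int.ofNat 12, Int.ofNat 20, Int.ofNat 28, Int.ofNat 36, Int.ofNat 44, Int.ofNat 52, Int.ofNat 60, Int.ofNat 68, Int.ofNat 76, Int.ofNat 84, Int.negSucc 1011],
  [Int.ofNat 0, Int.ofNat 4, Int.ofNat 8, Int.ofNat 12, Int.ofNat 16, Int.ofNat 20, Int.ofNat 24, Int.ofNat 28, Int.ofNat 32, Int.ofNat 36, Int.ofNat 40, Int.ofNat 44, Int.ofNat 48, Int.ofNat 52, Int.ofNat 56, Int.ofNat 60, Int.ofNat 64, Int.ofNat 68, Int.ofNat 72, Int.ofNat 76, Int.ofNat 80, Int.ofNat 84, Int.ofNat 88, Int.negSucc 1011]]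

set_option maxRecDepth 100000 in
theorem rnn_chk3 : cChk rnnW vdL rnnM3 vdL = true := by
  decide +kernel

theorem rnn_one : wE letE rnnW = 1 :=
  eq_one_of_c4 rnn_chk0 rnn_chk1 rnn_chk2 rnn_chk3

/-- A word which is trivial. -/
def rn11W : List ℕ := [23, 23, 23, 23, 23, 23, 23, 23, 23, 23, 23]

set_option maxRecDepth 100000 in
def rn11M0 : List (List ℤ) :=
  [[Int.ofNat 4, Int.ofNat 0, Int.ofNat 0, Int.ofNat 0, Int.ofNat 0, Int.ofNat 0, Int.ofNat 0, Int.ofNat 0, Int.ofNat 0, Int.ofNat 0, Int.ofNat 0, Int.ofNat 0, Int.ofNat 0, Int.ofNat 0, Int.ofNat 0, Int.ofNat 0, Int.ofNat 0, Int.ofNat 0, Int.ofNat 0, Int.ofNat 0, Int.ofNat 0, Int.ofNat 0, Int.ofNat 0, Int.ofNat 4],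
  [Int.ofNat 4, Int.ofNat 0, Int.ofNat 0, Int.ofNat 0, Int.ofNat 0, Int.ofNat 0, Int.ofNat 0, Int.ofNat 0, Int.ofNat 0, Int.ofNat 0, Int.ofNat 0, Int.ofNat 0, Int.ofNat 0, Int.ofNat 0, Int.ofNat 0, Int.ofNat 0, Int.ofNat 0, Int.ofNat 0, Int.ofNat 0, Int.ofNat 0, Int.ofNat 0, Int.ofNat 0, Int.ofNat 0, Int.ofNat 4],
  [Int.ofNat 4, Int.ofNat 0, Int.ofNat 0, Int.ofNat 0, Int.ofNat 0, Int.ofNat 0, Int.ofNat 0, Int.ofNat 0, Int.ofNat 0, Int.ofNat 0, Int.ofNat 0, Int.ofNat 0, Int.ofNat 0, Int.ofNat 0, Int.ofNat 0, Int.ofNat 0, Int.ofNat 0, Int.ofNat 0, Int.ofNat 0, Int.ofNat 0, Int.ofNat 0, Int.ofNat 0, Int.ofNat 0, Int.ofNat 4],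
  [Int.ofNat 4, Int.ofNat 0, Int.ofNat 0, Int.ofNat 0, Int.ofNat 0, Int.ofNat 0, Int.ofNat 0, Int.ofNat 0, Int.ofNat 0, Int.ofNat 0, Int.ofNat 0, Int.ofNat 0, Int.ofNat 0, Int.ofNat 0, Int.ofNat 0, Int.ofNat 0, Int.ofNat 0, Int.ofNat 0, Int.ofNat 0, Int.ofNat 0, Int.ofNat 0, Int.ofNat 0, Int.ofNat 0, Int.ofNat 4],
  [Int.ofNat 4, Int.ofNat 0, Int.ofNat 0, Int.ofNat 0, Int.ofNat 0, Int.ofNat 0, Int.ofNat 0, Int.ofNat 0, Int.ofNat 0, Int.ofNat 0, Int.ofNat 0, Int.ofNat 0, Int.ofNat 0, Int.ofNat 0, Int.ofNat 0, Int.ofNat 0, Int.ofNat 0, Int.ofNat 0, Int.ofNat 0, Int.ofNat 0, Int.ofNat 0, Int.ofNat 0, Int.ofNat 0, Int.ofNat 4],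
  [Int.ofNat 4, Int.ofNat 0, Int.ofNat 0, Int.ofNat 0, Int.ofNat 0, Int.ofNat 0, Int.ofNat 0, Int.ofNat 0, Int.ofNat 0, Int.ofNat 0, Int.ofNat 0, Int.ofNat 0, Int.ofNat 0, Int.ofNat 0, Int.ofNat 0, Int.ofNat 0, Int.ofNat 0, Int.ofNat 0, Int.ofNat 0, Int.ofNat 0, Int.ofNat 0, Int.ofNat 0, Int.ofNat 0, Int.ofNat 4],
  [Int.ofNat 4, Int.ofNat 0, Int.ofNat 0, Int.ofNat 0, Int.ofNat 0, Int.ofNat 0, Int.ofNat 0, Int.ofNat 0, Int.ofNat 0, Int.ofNat 0, Int.ofNat 0, Int.ofNat 0, Int.ofNat 0, Int.ofNat 0, Int.ofNat 0, Int.ofNat 0, Int.ofNat 0, Int.ofNat 0, Int.ofNat 0, Int.ofNat 0, Int.ofNat 0, Int.ofNat 0, Int.ofNat 0, Int.ofNat 4],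
  [Int.ofNat 4, Int.ofNat 0, Int.ofNat 0, Int.ofNat 0, Int.ofNat 0, Int.ofNat 0, Int.ofNat 0, Int.ofNat 0, Int.ofNat 0, Int.ofNat 0, Int.ofNat 0, Int.ofNat 0, Int.ofNat 0, Int.ofNat 0, Int.ofNat 0, Int.ofNat 0, Int.ofNat 0, Int.ofNat 0, Int.ofNat 0, Int.ofNat 0, Int.ofNat 0, Int.ofNat 0, Int.ofNat 0, Int.ofNat 4],
  [Int.ofNat 4, Int.ofNat 0, Int.ofNat 0, Int.ofNat 0, Int.ofNat 0, Int.ofNat 0, Int.ofNat 0, Int.ofNat 0, Int.ofNat 0, Int.ofNat 0, Int.ofNat 0, Int.ofNat 0, Int.ofNat 0, Int.ofNat 0, Int.ofNat 0, Int.ofNat 0, Int.ofNat 0, Int.ofNat 0, Int.ofNat 0, Int.ofNat 0, Int.ofNat 0, Int.ofNat 0, Int.ofNat 0, Int.ofNat 4],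
  [Int.ofNat 4, Int.ofNat 0, Int.ofNat 0, Int.ofNat 0, Int.ofNat 0, Int.ofNat 0, Int.ofNat 0, Int.ofNat 0, Int.ofNat 0, Int.ofNat 0, Int.ofNat 0, Int.ofNat 0, Int.ofNat 0, Int.ofNat 0, Int.ofNat 0, Int.ofNat 0, Int.ofNat 0, Int.ofNat 0, Int.ofNat 0, Int.ofNat 0, Int.ofNat 0, Int.ofNat 0, Int.ofNat 0, Int.ofNat 4],
  [Int.ofNat 4, Int.ofNat 0, Int.ofNat 0, Int.ofNat 0, Int.ofNat 0, Int.ofNat 0, Int.ofNat 0, Int.ofNat 0, Int.ofNat 0, Int.ofNat 0, Int.ofNat 0, Int.ofNat 0, Int.ofNat 0, Int.ofNat 0, Int.ofNat 0, Int.ofNat 0, Int.ofNat 0, Int.ofNat 0, Int.ofNat 0, Int.ofNat 0, Int.ofNat 0, Int.ofNat 0, Int.ofNat 0, Int.ofNat 4]]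

set_option maxRecDepth 100000 in
theorem rn11_chk0 : cChk rn11W a0L rn11M0 a0L = true := by
  decide +kernel

set_option maxRecDepth 100000 in
def rn11M1 : List (List ℤ) :=
  [[Int.negSucc 3, Int.ofNat 0, Int.ofNat 0, Int.ofNat 0, Int.ofNat 0, Int.ofNat 0, Int.ofNat 0, Int.ofNat 0, Int.ofNat 0, Int.ofNat 0, Int.ofNat 0, Int.ofNat 0, Int.ofNat 0, Int.ofNat 0, Int.ofNat 0, Int.ofNat 0, Int.ofNat 0, Int.ofNat 0, Int.ofNat 0, Int.ofNat 0, Int.ofNat 0, Int.ofNat 0, Int.ofNat 0, Int.ofNat 4],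
  [Int.negSucc 3, Int.ofNat 0, Int.ofNat 0, Int.ofNat 0, Int.ofNat 0, Int.ofNat 0, Int.ofNat 0, Int.ofNat 0, Int.ofNat 0, Int.ofNat 0, Int.ofNat 0, Int.ofNat 0, Int.ofNat 0, Int.ofNat 0, Int.ofNat 0, Int.ofNat 0, Int.ofNat 0, Int.ofNat 0, Int.ofNat 0, Int.ofNat 0, Int.ofNat 0, Int.ofNat 0, Int.ofNat 0, Int.ofNat 4],
  [Int.negSucc 3, Int.ofNat 0, Int.ofNat 0, Int.ofNat 0, Int.ofNat 0, Int.ofNat 0, Int.ofNat 0, Int.ofNat 0, Int.ofNat 0, Int.ofNat 0, Int.ofNat 0, Int.ofNat 0, Int.ofNat 0, Int.ofNat 0, Int.ofNat 0, Int.ofNat 0, Int.ofNat 0, Int.ofNat 0, Int.ofNat 0, Int.ofNat 0, Int.ofNat 0, Int.ofNat 0, Int.ofNat 0, Int.ofNat 4],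
  [Int.negSucc 3, Int.ofNat 0, Int.ofNat 0, Int.ofNat 0, Int.ofNat 0, Int.ofNat 0, Int.ofNat 0, Int.ofNat 0, Int.ofNat 0, Int.ofNat 0, Int.ofNat 0, Int.ofNat 0, Int.ofNat 0, Int.ofNat 0, Int.ofNat 0, Int.ofNat 0, Int.ofNat 0, Int.ofNat 0, Int.ofNat 0, Int.ofNat 0, Int.ofNat 0, Int.ofNat 0, Int.ofNat 0, Int.ofNat 4],
  [Int.negSucc 3, Int.ofNat 0, Int.ofNat 0, Int.ofNat 0, Int.ofNat 0, Int.ofNat 0, Int.ofNat 0, Int.ofNat 0, Int.ofNat 0, Int.ofNat 0, Int.ofNat 0, Int.ofNat 0, Int.ofNat 0, Int.ofNat 0, Int.ofNat 0, Int.ofNat 0, Int.ofNat 0, Int.ofNat 0, Int.ofNat 0, Int.ofNat 0, Int.ofNat 0, Int.ofNat 0, Int.ofNat 0, Int.ofNat 4],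
  [Int.negSucc 3, Int.ofNat 0, Int.ofNat 0, Int.ofNat 0, Int.ofNat 0, Int.ofNat 0, Int.ofNat 0, Int.ofNat 0, Int.ofNat 0, Int.ofNat 0, Int.ofNat 0, Int.ofNat 0, Int.ofNat 0, Int.ofNat 0, Int.ofNat 0, Int.ofNat 0, Int.ofNat 0, Int.ofNat 0, Int.ofNat 0, Int.ofNat 0, Int.ofNat 0, Int.ofNat 0, Int.ofNat 0, Int.ofNat 4],
  [Int.negSucc 3, Int.ofNat 0, Int.ofNat 0, Int.ofNat 0, Int.ofNat 0, Int.ofNat 0, Int.ofNat 0, Int.ofNat 0, Int.ofNat 0, Int.ofNat 0, Int.ofNat 0, Int.ofNat 0, Int.ofNat 0, Int.ofNat 0, Int.ofNat 0, Int.ofNat 0, Int.ofNat 0, Int.ofNat 0, Int.ofNat 0, Int.ofNat 0, Int.ofNat 0, Int.ofNat 0, Int.ofNat 0, Int.ofNat 4],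
  [Int.negSucc 3, Int.ofNat 0, Int.ofNat 0, Int.ofNat 0, Int.ofNat 0, Int.ofNat 0, Int.ofNat 0, Int.ofNat 0, Int.ofNat 0, Int.ofNat 0, Int.ofNat 0, Int.ofNat 0, Int.ofNat 0, Int.ofNat 0, Int.ofNat 0, Int.ofNat 0, Int.ofNat 0, Int.ofNat 0, Int.ofNat 0, Int.ofNat 0, Int.ofNat 0, Int.ofNat 0, Int.ofNat 0, Int.ofNat 4],
  [Int.negSucc 3, Int.ofNat 0, Int.ofNat 0, Int.ofNat 0, Int.ofNat 0, Int.ofNat 0, Int.ofNat 0, Int.ofNat 0, Int.ofNat 0, Int.ofNat 0, Int.ofNat 0, Int.ofNat 0, Int.ofNat 0, Int.ofNat 0, Int.ofNat 0, Int.ofNat 0, Int.ofNat 0, Int.ofNat 0, Int.ofNat 0, Int.ofNat 0, Int.ofNat 0, Int.ofNat 0, Int.ofNat 0, Int.ofNat 4],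
  [Int.negSucc 3, Int.ofNat 0, Int.ofNat 0, Int.ofNat 0, Int.ofNat 0, Int.ofNat 0, Int.ofNat 0, Int.ofNat 0, Int.ofNat 0, Int.ofNat 0, Int.ofNat 0, Int.ofNat 0, Int.ofNat 0, Int.ofNat 0, Int.ofNat 0, Int.ofNat 0, Int.ofNat 0, Int.ofNat 0, Int.ofNat 0, Int.ofNat 0, Int.ofNat 0, Int.ofNat 0, Int.ofNat 0, Int.ofNat 4],
  [Int.negSucc 3, Int.ofNat 0, Int.ofNat 0, Int.ofNat 0, Int.ofNat 0, Int.ofNat 0, Int.ofNat 0, Int.ofNat 0, Int.ofNat 0, Int.ofNat 0, Int.ofNat 0, Int.ofNat 0, Int.ofNat 0, Int.ofNat 0, Int.ofNat 0, Int.ofNat 0, Int.ofNat 0, Int.ofNat 0, Int.ofNat 0, Int.ofNat 0, Int.ofNat 0, Int.ofNat 0, Int.ofNat 0, Int.ofNat 4]]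

set_option maxRecDepth 100000 in
theorem rn11_chk1 : cChk rn11W nxL rn11M1 nxL = true := by
  decide +kernel

set_option maxRecDepth 100000 in
def rn11M2 : List (List ℤ) :=
  [[Int.ofNat 1, Int.ofNat 1, Int.ofNat 1, Int.ofNat 1, Int.ofNat 1, Int.ofNat 1, Int.ofNat 1, Int.ofNat 1, Int.ofNat 1, Int.ofNat 1, Int.ofNat 1, Int.ofNat 1, Int.ofNat 1, Int.ofNat 1, Int.ofNat 1, Int.ofNat 1, Int.ofNat 1, Int.ofNat 1, Int.ofNat 1, Int.ofNat 1, Int.ofNat 1, Int.ofNat 1, Int.ofNat 1, Int.negSucc 2],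
  [Int.ofNat 1, Int.ofNat 1, Int.ofNat 1, Int.ofNat 1, Int.ofNat 1, Int.ofNat 1, Int.ofNat 1, Int.ofNat 1, Int.ofNat 1, Int.ofNat 1, Int.ofNat 1, Int.ofNat 1, Int.ofNat 1, Int.ofNat 1, Int.ofNat 1, Int.ofNat 1, Int.ofNat 1, Int.ofNat 1, Int.ofNat 1, Int.ofNat 1, Int.ofNat 1, Int.ofNat 1, Int.ofNat 1, Int.negSucc 2],
  [Int.ofNat 1, Int.ofNat 1, Int.ofNat 1, Int.ofNat 1, Int.ofNat 1, Int.ofNat 1, Int.ofNat 1, Int.ofNat 1, Int.ofNat 1, Int.ofNat 1, Int.ofNat 1, Int.ofNat 1, Int.ofNat 1, Int.ofNat 1, Int.ofNat 1, Int.ofNat 1, Int.ofNat 1, Int.ofNat 1, Int.ofNat 1, Int.ofNat 1, Int.ofNat 1, Int.ofNat 1, Int.ofNat 1, Int.negSucc 2],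
  [Int.ofNat 1, Int.ofNat 1, Int.ofNat 1, Int.ofNat 1, Int.ofNat 1, Int.ofNat 1, Int.ofNat 1, Int.ofNat 1, Int.ofNat 1, Int.ofNat 1, Int.ofNat 1, Int.ofNat 1, Int.ofNat 1, Int.ofNat 1, Int.ofNat 1, Int.ofNat 1, Int.ofNat 1, Int.ofNat 1, Int.ofNat 1, Int.ofNat 1, Int.ofNat 1, Int.ofNat 1, Int.ofNat 1, Int.negSucc 2],
  [Int.ofNat 1, Int.ofNat 1, Int.ofNat 1, Int.ofNat 1, Int.ofNat 1, Int.ofNat 1, Int.ofNat 1, Int.ofNat 1, Int.ofNat 1, Int.ofNat 1, Int.ofNat 1, Int.ofNat 1, Int.ofNat 1, Int.ofNat 1, Int.ofNat 1, Int.ofNat 1, Int.ofNat 1, Int.ofNat 1, Int.ofNat 1, Int.ofNat 1, Int.ofNat 1, Int.ofNat 1, Int.ofNat 1, Int.negSucc 2],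
  [Int.ofNat 1, Int.ofNat 1, Int.ofNat 1, Int.ofNat 1, Int.ofNat 1, Int.ofNat 1, Int.ofNat 1, Int.ofNat 1, Int.ofNat 1, Int.ofNat 1, Int.ofNat 1, Int.ofNat 1, Int.ofNat 1, Int.ofNat 1, Int.ofNat 1, Int.ofNat 1, Int.ofNat 1, Int.ofNat 1, Int.ofNat 1, Int.ofNat 1, Int.ofNat 1, Int.ofNat 1, Int.ofNat 1, Int.negSucc 2],
  [Int.ofNat 1, Int.ofNat 1, Int.ofNat 1, Int.ofNat 1, Int.ofNat 1, Int.ofNat 1, Int.ofNat 1, Int.ofNat 1, Int.ofNat 1, Int.ofNat 1, Int.ofNat 1, Int.ofNat 1, Int.ofNat 1, Int.ofNat 1, Int.ofNat 1, Int.ofNat 1, Int.ofNat 1, Int.ofNat 1, Int.ofNat 1, Int.ofNat 1, Int.ofNat 1, Int.ofNat 1, Int.ofNat 1, Int.negSucc 2],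
  [Int.ofNat 1, Int.ofNat 1, Int.ofNat 1, Int.ofNat 1, Int.ofNat 1, Int.ofNat 1, Int.ofNat 1, Int.ofNat 1, Int.ofNat 1, Int.ofNat 1, Int.ofNat 1, Int.ofNat 1, Int.ofNat 1, Int.ofNat 1, Int.ofNat 1, Int.ofNat 1, Int.ofNat 1, Int.ofNat 1, Int.ofNat 1, Int.ofNat 1, Int.ofNat 1, Int.ofNat 1, Int.ofNat 1, Int.negSucc 2],
  [Int.ofNat 1, Int.ofNat 1, Int.ofNat 1, Int.ofNat 1, Int.ofNat 1, Int.ofNat 1, Int.ofNat 1, Int.ofNat 1, Int.ofNat 1, Int.ofNat 1, Int.ofNat 1, Int.ofNat 1, Int.ofNat 1, Int.ofNat 1, Int.ofNat 1, Int.ofNat 1, Int.ofNat 1, Int.ofNat 1, Int.ofNat 1, Int.ofNat 1, Int.ofNat 1, Int.ofNat 1, Int.ofNat 1, Int.negSucc 2],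
  [Int.ofNat 1, Int.ofNat 1, Int.ofNat 1, Int.ofNat 1, Int.ofNat 1, Int.ofNat 1, Int.ofNat 1, Int.ofNat 1, Int.ofNat 1, Int.ofNat 1, Int.ofNat 1, Int.ofNat 1, Int.ofNat 1, Int.ofNat 1, Int.ofNat 1, Int.ofNat 1, Int.ofNat 1, Int.ofNat 1, Int.ofNat 1, Int.ofNat 1, Int.ofNat 1, Int.ofNat 1, Int.ofNat 1, Int.negSucc 2],
  [Int.ofNat 1, Int.ofNat 1, Int.ofNat 1, Int.ofNat 1, Int.ofNat 1, Int.ofNat 1, Int.ofNat 1, Int.ofNat 1, Int.ofNat 1, Int.ofNat 1, Int.ofNat 1, Int.ofNat 1, Int.ofNat 1, Int.ofNat 1, Int.ofNat 1, Int.ofNat 1, Int.ofNat 1, Int.ofNat 1, Int.ofNat 1, Int.ofNat 1, Int.ofNat 1, Int.ofNat 1, Int.ofNat 1, Int.negSucc 2]]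

set_option maxRecDepth 100000 in
theorem rn11_chk2 : cChk rn11W w3L rn11M2 w3L = true := by
  decide +kernel

set_option maxRecDepth 100000 in
def rn11M3 : List (List ℤ) :=
  [[Int.ofNat 0, Int.ofNat 48, Int.ofNat 4, Int.ofNat 52, Int.ofNat 8, Int.ofNat 56, Int.ofNat 12, Int.ofNat 60, Int.ofNat 16, Int.ofNat 64, Int.ofNat 20, Int.ofNat 68, Int.ofNat 24, Int.ofNat 72, Int.ofNat 28, Int.ofNat 76, Int.ofNat 32, Int.ofNat 80, Int.ofNat 36, Int.ofNat 84, Int.ofNat 40, Int.ofNat 88, Int.ofNat 44, Int.negSucc 1011],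
  [Int.ofNat 0, Int.ofNat 24, Int.ofNat 48, Int.ofNat 72, Int.ofNat 4, Int.ofNat 28, Int.ofNat 52, Int.ofNat 76, Int.ofNat 8, Int.ofNat 32, Int.ofNat 56, Int.ofNat 80, Int.ofNat 12, Int.ofNat 36, Int.ofNat 60, Int.ofNat 84, Int.ofNat 16, Int.ofNat 40, Int.ofNat 64, Int.ofNat 88, Int.ofNat 20, Int.ofNat 44, Int.ofNat 68, Int.negSucc 1011],
  [Int.ofNat 0, Int.ofNat 12, Int.ofNat 24, Int.ofNat 36, Int.ofNat 48, Int.ofNat 60, Int.ofNat 72, Int.ofNat 84, Int.ofNat 4, Int.ofNat 16, Int.ofNat 28, Int.ofNat 40, Int.ofNat 52, Int.ofNat 64, Int.ofNat 76, Int.ofNat 88, Int.ofNat 8, Int.ofNat 20, Int.ofNat 32, Int.ofNat 44, Int.ofNat 56, Int.ofNat 68, Int.ofNat 80, Int.negSucc 1011],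
  [Int.ofNat 0, Int.ofNat 52, Int.ofNat 12, Int.ofNat 64, Int.ofNat 24, Int.ofNat 76, Int.ofNat 36, Int.ofNat 88, Int.ofNat 48, Int.ofNat 8, Int.ofNat 60, Int.ofNat 20, Int.ofNat 72, Int.ofNat 32, Int.ofNat 84, Int.ofNat 44, Int.ofNat 4, Int.ofNat 56, Int.ofNat 16, Int.ofNat 68, Int.ofNat 28, Int.ofNat 80, Int.ofNat 40, Int.negSucc 1011],
  [Int.ofNat 0, Int.ofNat 72, Int.ofNat 52, Int.ofNat 32, Int.ofNat 12, Int.ofNat 84, Int.ofNat 64, Int.ofNat 44, Int.ofNat 24, Int.ofNat 4, Int.ofNat 76, Int.ofNat 56, Int.ofNat 36, Int.ofNat 16, Int.ofNat 88, Int.ofNat 68, Int.ofNat 48, Int.ofNat 28, Int.ofNat 8, Int.ofNat 80, Int.ofNat 60, Int.ofNat 40, Int.ofNat 20, Int.negSucc 1011],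
  [Int.ofNat 0, Int.ofNat 36, Int.ofNat 72, Int.ofNat 16, Int.ofNat 52, Int.ofNat 88, Int.ofNat 32, Int.ofNat 68, Int.ofNat 12, Int.ofNat 48, Int.ofNat 84, Int.ofNat 28, Int.ofNat 64, Int.ofNat 8, Int.ofNat 44, Int.ofNat 80, Int.ofNat 24, Int.ofNat 60, Int.ofNat 4, Int.ofNat 40, Int.ofNat 76, Int.ofNat 20, Int.ofNat 56, Int.negSucc 1011],
  [Int.ofNat 0, Int.ofNat 64, Int.ofNat 36, Int.ofNat 8, Int.ofNat 72, Int.ofNat 44, Int.ofNat 16, Int.ofNat 80, Int.ofNat 52, Int.ofNat 24, Int.ofNat 88, Int.ofNat 60, Int.ofNat 32, Int.ofNat 4, Int.ofNat 68, Int.ofNat 40, Int.ofNat 12, Int.ofNat 76, Int.ofNat 48, Int.ofNat 20, Int.ofNat 84, Int.ofNat 56, Int.ofNat 28, Int.negSucc 1011],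
  [Int.ofNat 0, Int.ofNat 32, Int.ofNat 64, Int.ofNat 4, Int.ofNat 36, Int.ofNat 68, Int.ofNat 8, Int.ofNat 40, Int.ofNat 72, Int.ofNat 12, Int.ofNat 44, Int.ofNat 76, Int.ofNat 16, Int.ofNat 48, Int.ofNat 80, Int.ofNat 20, Int.ofNat 52, Int.ofNat 84, Int.ofNat 24, Int.ofNat 56, Int.ofNat 88, Int.ofNat 28, Int.ofNat 60, Int.negSucc 1011],
  [Int.ofNat 0, Int.ofNat 16, Int.ofNat 32, Int.ofNat 48, Int.ofNat 64, Int.ofNat 80, Int.ofNat 4, Int.ofNat 20, Int.ofNat 36, Int.ofNat 52, Int.ofNat 68, Int.ofNat 84, Int.ofNat 8, Int.ofNat 24, Int.ofNat 40, Int.ofNat 56, Int.ofNat 72, Int.ofNat 88, Int.ofNat 12, Int.ofNat 28, Int.ofNat 44, Int.ofNat 60, Int.ofNat 76, Int.negSucc 1011],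
  [Int.ofNat 0, Int.ofNat 8, Int.ofNat 16, Int.ofNat 24, Int.ofNat 32, Int.ofNat 40, Int.ofNat 48, Int.ofNat 56, Int.ofNat 64, Int.ofNat 72, Int.ofNat 80, Int.ofNat 88, Int.ofNat 4, Int.ofNat 12, Int.ofNat 20, Int.ofNat 28, Int.ofNat 36, Int.ofNat 44, Int.ofNat 52, Int.ofNat 60, Int.ofNat 68, Int.ofNat 76, Int.ofNat 84, Int.negSucc 1011],
  [Int.ofNat 0, Int.ofNat 4, Int.ofNat 8, Int.ofNat 12, Int.ofNat 16, Int.ofNat 20, Int.ofNat 24, Int.ofNat 28, Int.ofNat 32, Int.ofNat 36, Int.ofNat 40, Int.ofNat 44, Int.ofNat 48, Int.ofNat 52, Int.ofNat 56, Int.ofNat 60, Int.ofNat 64, Int.ofNat 68, Int.ofNat 72, Int.ofNat 76, Int.ofNat 80, Int.ofNat 84, Int.ofNat 88, Int.negSucc 1011]]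

set_option maxRecDepth 100000 in
theorem rn11_chk3 : cChk rn11W vdL rn11M3 vdL = true := by
  decide +kernel

theorem rn11_one : wE letE rn11W = 1 :=
  eq_one_of_c4 rn11_chk0 rn11_chk1 rn11_chk2 rn11_chk3

end Cfsg.Agent.Lib.Helper92.OC2
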