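import Cfsg.Agent.Lib.Helper92.OutCo2S
import Cfsg.Agent.Lib.Helper92.OutCo2R1
import Cfsg.Agent.Lib.Helper92.OutCo2R2
import Cfsg.Agent.Lib.Helper92.OutCo2R3

set_option autoImplicit false

open scoped Pointwise

namespace Cfsg.Agent.Lib.Helper92.OC2

open Cfsg Cfsg.Spor Cfsg.Agent.Lib.Helper7 Cfsg.Agent.Lib.Helper92

/-! ### The relations -/

theorem wE_cons (E : ℕ → Co0) (k : ℕ) (w : List ℕ) : wE E (k :: w) = E k * wE E w := by
  unfold wE
  rw [List.map_cons, List.prod_cons]

theorem wE_nil (E : ℕ → Co0) : wE E [] = 1 := rfl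

theorem xE_pow23 : xE ^ 23 = 1 := by
  have h := rx_one
  simp only [rxW, wE_cons, wE_nil, mul_one] at h
  rw [letE_x (by norm_num) (by norm_num), letE_x (by norm_num) (by norm_num), ← pow_add] at h
  exact h

theorem xE_ne : xE ≠ 1 := by
  have h := nx1_ne
  simp only [nx1W, wE_cons, wE_nil, mul_one] at h
  rw [letE_x (by norm_num) (by norm_num), pow_one] at h
  exact h

theorem nE_pow11 : nE ^ 11 = 1 := by
  have h := rn11_one
  have e : rn11W = (List.replicate 11 [23]).flatten := by decide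
  rw [e, ← wE_pow] at h
  simp only [wE_cons, wE_nil, mul_one] at h
  rw [letE_n] at h
  exact h

theorem nE_ne : nE ≠ 1 := by
  have h := nn1_ne
  simp only [nn1W, wE_cons, wE_nil, mul_one] at h
  rw [letE_n] at h
  exact h

theorem zE_sq : zE * zE = 1 := by
  have h := rzz_one
  simp only [rzzW, wE_cons, wE_nil, mul_one] at h
  rw [letE_zero] at h
  exact h

theorem zE_ne : zE ≠ 1 := by
  have h := nz1_ne
  simp only [nz1W, wE_cons, wE_nil, mul_one] at h
  rw [letE_zero] at h
  exact h

theorem zn_rel : zE * nE * zE * nE = 1 := by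
  have h := rz_one
  simp only [rzW, wE_cons, wE_nil, mul_one, ← mul_assoc] at h
  rw [letE_zero, letE_n] at h
  exact h

theorem nI_eq : nI = nE⁻¹ := by
  have h := rnn_one
  simp only [rnnW, wE_cons, wE_nil, mul_one] at h
  rw [letE_n, letE_ni] at h
  exact eq_inv_of_mul_eq_one_right h

theorem nx_rel : nE * xE * nE⁻¹ = xE ^ 9 := by
  have h := rn_one
  simp only [rnW, wE_cons, wE_nil, mul_one, ← mul_assoc] at h
  rw [letE_n, letE_ni, letE_x (by norm_num) (by norm_num), letE_x (by norm_num) (by norm_num),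
    pow_one, nI_eq] at h
  have h2 : (xE ^ 14)⁻¹ = xE ^ 9 := by
    apply inv_eq_of_mul_eq_one_right
    rw [← pow_add]
    exact xE_pow23
  rw [← h2]
  exact eq_inv_of_mul_eq_one_left h

theorem xz_rel : (xE * zE) ^ 14 = 1 := by
  have h := r1_one
  have e : r1W = (List.replicate 14 [1, 0]).flatten := by decide
  rw [e, ← wE_pow] at h
  simp only [wE_cons, wE_nil, mul_one] at h
  rw [letE_x (by norm_num) (by norm_num), letE_zero, pow_one] at h
  exact h

theorem xz_rel2 : (xE * zE * xE ^ 3 * zE * xE ^ 2 * zE) ^ 14 = 1 := by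
  have h := r2_one
  have e : r2W = (List.replicate 14 [1, 0, 3, 0, 2, 0]).flatten := by decide
  rw [e, ← wE_pow] at h
  simp only [wE_cons, wE_nil, mul_one, ← mul_assoc] at h
  rw [letE_x (k := 1) (by norm_num) (by norm_num), letE_x (k := 3) (by norm_num) (by norm_num),
    letE_x (k := 2) (by norm_num) (by norm_num), letE_zero, pow_one] at h
  exact h

theorem xz_ne2 : (xE ^ 22 * zE * xE ^ 20 * zE * xE ^ 21 * zE) ^ 14 ≠ 1 := by
  have h := n2_ne
  have e : n2W = (List.replicate 14 [22, 0, 20, 0, 21, 0]).flatten := by decide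
  rw [e, ← wE_pow] at h
  simp only [wE_cons, wE_nil, mul_one, ← mul_assoc] at h
  rw [letE_x (k := 22) (by norm_num) (by norm_num), letE_x (k := 20) (by norm_num) (by norm_num),
    letE_x (k := 21) (by norm_num) (by norm_num), letE_zero] at h
  exact h

theorem ne_of_word {t : ℕ} (h0 : t ≠ 0) (ht : t ≤ 22)
    (h : wE letE (List.replicate 14 [t, 0]).flatten ≠ 1) : (xE ^ t * zE) ^ 14 ≠ 1 := by
  intro e
  apply h
  rw [← wE_pow]
  simp only [wE_cons, wE_nil, mul_one]
  rw [letE_x h0 ht, letE_zero]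
  exact e

theorem xz_ne : ∀ t, 2 ≤ t → t ≤ 21 → (xE ^ t * zE) ^ 14 ≠ 1 := by
  intro t h2 h21
  interval_cases t
  · exact ne_of_word (by norm_num) (by norm_num) ne_k2
  · exact ne_of_word (by norm_num) (by norm_num) ne_k3
  · exact ne_of_word (by norm_num) (by norm_num) ne_k4
  · exact ne_of_word (by norm_num) (by norm_num) ne_k5
  · exact ne_of_word (by norm_num) (by norm_num) ne_k6
  · exact ne_of_word (by norm_num) (by norm_num) ne_k7
  · exact ne_of_word (by norm_num) (by norm_num) ne_k8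
  · exact ne_of_word (by norm_num) (by norm_num) ne_k9
  · exact ne_of_word (by norm_num) (by norm_num) ne_k10
  · exact ne_of_word (by norm_num) (by norm_num) ne_k11
  · exact ne_of_word (by norm_num) (by norm_num) ne_k12
  · exact ne_of_word (by norm_num) (by norm_num) ne_k13
  · exact ne_of_word (by norm_num) (by norm_num) ne_k14
  · exact ne_of_word (by norm_num) (by norm_num) ne_k15
  · exact ne_of_word (by norm_num) (by norm_num) ne_k16
  · exact ne_of_word (by norm_num) (by norm_num) ne_k17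
  · exact ne_of_word (by norm_num) (by norm_num) ne_k18
  · exact ne_of_word (by norm_num) (by norm_num) ne_k19
  · exact ne_of_word (by norm_num) (by norm_num) ne_k20
  · exact ne_of_word (by norm_num) (by norm_num) ne_k21

theorem nE_fix : nE • crx = crx :=
  fix_of_acts nE_acts a0L_mem ((listEqB_iff _ _).mp (by decide +kernel))

/-! ### Generation -/

theorem sg_mem : wE letE sg0W ∈ FG ∧ wE letE sg1W ∈ FG ∧ wE letE sg2W ∈ FG :=
  ⟨wE_mem_FG (by decide), wE_mem_FG (by decide), wE_mem_FG (by decide)⟩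

theorem sg_inv : validTab sg0Ti = true ∧ listEqB (compTab sg0T sg0Ti) idTab = true ∧
    validTab sg1Ti = true ∧ listEqB (compTab sg1T sg1Ti) idTab = true ∧
    validTab sg2Ti = true ∧ listEqB (compTab sg2T sg2Ti) idTab = true := by
  decide +kernel

theorem sg_SP : ∀ k, ∃ t ∈ FG, SP t (sgT.getD k idTab) := by
  intro k
  match k with
  | 0 => exact ⟨_, sg_mem.1, sg0_SP⟩
  | 1 => exact ⟨_, FG.inv_mem sg_mem.1, sg0_SP.inv sg_inv.1 ((listEqB_iff _ _).mp sg_inv.2.1)⟩
  | 2 => exact ⟨_, sg_mem.2.1, sg1_SP⟩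
  | 3 => exact ⟨_, FG.inv_mem sg_mem.2.1,
      sg1_SP.inv sg_inv.2.2.1 ((listEqB_iff _ _).mp sg_inv.2.2.2.1)⟩
  | 4 => exact ⟨_, sg_mem.2.2, sg2_SP⟩
  | 5 => exact ⟨_, FG.inv_mem sg_mem.2.2,
      sg2_SP.inv sg_inv.2.2.2.2.1 ((listEqB_iff _ _).mp sg_inv.2.2.2.2.2)⟩
  | (k + 6) => exact ⟨1, FG.one_mem, SP.one⟩

theorem let_chk : (List.range 10).all (fun q => (List.range 24).all (fun i =>
    ((tabW sgT (letW.getD q [])).getD i 0).natAbs - 1 == nlane (ltabs.getD (q + 2) idT) i)) =
    true := by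
  decide +kernel

theorem perm_le : selGrp [2, 3, 4, 5, 6, 7, 8, 9, 10, 11] ≤ monoSub := by
  unfold selGrp
  rw [Subgroup.closure_le]
  intro σ hσ
  obtain ⟨l, hl, rfl⟩ := List.mem_map.mp hσ
  obtain ⟨t, ht, hsp⟩ := SP.word sg_SP (letW.getD (l - 2) [])
  have hl2 : 2 ≤ l ∧ l ≤ 11 := by
    simp only [List.mem_cons, List.not_mem_nil, or_false] at hl
    omega
  refine mem_monoSub.mpr ⟨t, ht, Mono.of_SP hsp (repT_getD letters_rep l) (fun i hi => ?_)⟩
  have := List.all_eq_true.mp (List.all_eq_true.mp let_chk (l - 2)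
    (List.mem_range.mpr (by omega))) i (List.mem_range.mpr hi)
  rw [beq_iff_eq] at this
  have e : l - 2 + 2 = l := by omega
  rw [e] at this
  exact this

theorem sig_chk : (List.range 10).all (fun q =>
    listEqB (tabW sgT (sigW.getD q [])) (sgnTab (sigM.getD q 0))) = true := by
  decide +kernel

theorem sig_q : ∀ q < 10, SgnIn (wordOf (sigM.getD q 0)) := by
  intro q hq
  obtain ⟨t, ht, hsp⟩ := SP.word sg_SP (sigW.getD q [])
  have e := (listEqB_iff _ _).mp (List.all_eq_true.mp sig_chk q (List.mem_range.mpr hq))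
  rw [e] at hsp
  exact SgnIn.of_SP ht hsp

theorem sig_in : ∀ b ∈ sigM, SgnIn (wordOf b) := by
  intro b hb
  simp only [sigM, List.mem_cons, List.not_mem_nil, or_false] at hb
  rcases hb with rfl | rfl | rfl | rfl | rfl | rfl | rfl | rfl | rfl | rfl
  · exact sig_q 0 (by norm_num)
  · exact sig_q 1 (by norm_num)
  · exact sig_q 2 (by norm_num)
  · exact sig_q 3 (by norm_num)
  · exact sig_q 4 (by norm_num)
  · exact sig_q 5 (by norm_num)
  · exact sig_q 6 (by norm_num)
  · exact sig_q 7 (by norm_num)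
  · exact sig_q 8 (by norm_num)
  · exact sig_q 9 (by norm_num)

theorem span_chk : (List.range 4096).all (fun k => (enc k).testBit 0 || (enc k).testBit 23 ||
    (spanL sigM).contains (enc k)) = true := by
  decide +kernel

theorem sig_all : ∀ u ∈ golayCode, u none = 0 → u (pt 0) = 0 → SgnIn u :=
  sgnIn_of_span sig_in (by
    intro k hk h0 h23
    have := List.all_eq_true.mp span_chk k (List.mem_range.mpr hk)
    rw [h0, h23] at this
    simpa using this)

instance fact23 : Fact (Nat.Prime 23) := ⟨by norm_num⟩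

instance fact11 : Fact (Nat.Prime 11) := ⟨by norm_num⟩

theorem xE_order : orderOf xE = 23 := orderOf_eq_prime xE_pow23 xE_ne

theorem nE_order : orderOf nE = 11 := orderOf_eq_prime nE_pow11 nE_ne

/-- The two elements generate the stabiliser of the first base vector. -/
theorem FG_eq : FG = MulAction.stabilizer Co0 crx := by
  apply FG_eq_of (stab2_le perm_le sig_all)
  have h := orderOf_dvd_natCard (⟨xE, xE_mem⟩ : ↥FG)
  rw [Subgroup.orderOf_mk, xE_order] at h
  exact h

end Cfsg.Agent.Lib.Helper92.OC2
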