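import Cfsg.Agent.Lib.Helper92.OutCo2W

set_option autoImplicit false

open scoped Pointwise

namespace Cfsg.Agent.Lib.Helper92.OC2

open Cfsg Cfsg.Spor Cfsg.Agent.Lib.Helper7 Cfsg.Agent.Lib.Helper92

/-! ### The subgroup generated by the two elements -/

/-- The subgroup generated by the element of order `23` and the involution. -/
noncomputable def FG : Subgroup Co0 := Subgroup.closure {xE, zE}

theorem xE_mem : xE ∈ FG := Subgroup.subset_closure (Set.mem_insert _ _)

theorem zE_mem : zE ∈ FG := Subgroup.subset_closure (Set.mem_insert_of_mem _ rfl)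

theorem letE_zero : letE 0 = zE := by
  unfold letE
  rw [if_pos rfl]

theorem letE_x {k : ℕ} (h0 : k ≠ 0) (hk : k ≤ 22) : letE k = xE ^ k := by
  unfold letE
  rw [if_neg h0, if_pos hk]

theorem letE_n : letE 23 = nE := by
  unfold letE
  rw [if_neg (by norm_num), if_neg (by norm_num), if_pos rfl]

theorem letE_ni : letE 24 = nI := by
  unfold letE
  rw [if_neg (by norm_num), if_neg (by norm_num), if_neg (by norm_num), if_pos rfl]

theorem letE_mem {k : ℕ} (hk : k ≤ 22) : letE k ∈ FG := by
  by_cases h0 : k = 0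
  · rw [h0, letE_zero]
    exact zE_mem
  · rw [letE_x h0 hk]
    exact FG.pow_mem xE_mem k

theorem wE_mem' {E : ℕ → Co0} {F : Subgroup Co0} {w : List ℕ} (h : ∀ k ∈ w, E k ∈ F) :
    wE E w ∈ F := by
  unfold wE
  apply Subgroup.list_prod_mem
  intro x hx
  obtain ⟨k, hk, rfl⟩ := List.mem_map.mp hx
  exact h k hk

theorem wE_mem_FG {w : List ℕ} (h : w.all (fun k => decide (k ≤ 22)) = true) :
    wE letE w ∈ FG :=
  wE_mem' (fun k hk => letE_mem (by simpa using List.all_eq_true.mp h k hk))

theorem letL_fix : listEqB (letL 0 a0L) a0L = true ∧ listEqB (letL 1 a0L) a0L = true := by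
  decide +kernel

theorem zE_fix : zE • crx = crx := by
  have := fix_of_acts (letE_acts 0) a0L_mem ((listEqB_iff _ _).mp letL_fix.1)
  rwa [letE_zero] at this

theorem xE_fix : xE • crx = crx := by
  have := fix_of_acts (letE_acts 1) a0L_mem ((listEqB_iff _ _).mp letL_fix.2)
  rwa [letE_x (by norm_num) (by norm_num), pow_one] at this

theorem FG_le : FG ≤ MulAction.stabilizer Co0 crx := by
  unfold FG
  rw [Subgroup.closure_le]
  intro g hg
  rcases hg with rfl | rfl
  · exact MulAction.mem_stabilizer_iff.mpr xE_fix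
  · exact MulAction.mem_stabilizer_iff.mpr zE_fix

theorem FG_fix {t : Co0} (h : t ∈ FG) : t • crx = crx := MulAction.mem_stabilizer_iff.mp (FG_le h)

/-! ### Monomial elements -/

/-- The element maps the frame to itself up to signs, along the permutation. -/
def Mono (t : Co0) (π : Equiv.Perm GolayPt) : Prop :=
  ∀ p, t • latEight p = latEight (π p) ∨ t • latEight p = -latEight (π p)

theorem Mono.one : Mono 1 1 := fun _ => Or.inl (one_smul _ _)

theorem Mono.mul {t1 t2 : Co0} {π1 π2 : Equiv.Perm GolayPt} (h1 : Mono t1 π1) (h2 : Mono t2 π2) :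
    Mono (t1 * t2) (π1 * π2) := by
  intro p
  rw [mul_smul, Equiv.Perm.mul_apply]
  rcases h2 p with e2 | e2 <;> rcases h1 (π2 p) with e1 | e1
  · left
    rw [e2, e1]
  · right
    rw [e2, e1]
  · right
    rw [e2, co0_smul_neg, e1]
  · left
    rw [e2, co0_smul_neg, e1, neg_neg]

theorem Mono.inv {t : Co0} {π : Equiv.Perm GolayPt} (h : Mono t π) : Mono t⁻¹ π⁻¹ := by
  intro p
  have hp : π (π⁻¹ p) = p := π.apply_symm_apply p
  rcases h (π⁻¹ p) with e | e
  · left
    rw [hp] at e
    rw [inv_smul_eq_iff, e]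
  · right
    rw [hp] at e
    rw [inv_smul_eq_iff, co0_smul_neg, e, neg_neg]

/-- The permutations realised by monomial elements of the subgroup. -/
def monoSub : Subgroup (Equiv.Perm GolayPt) where
  carrier := {π | ∃ t ∈ FG, Mono t π}
  one_mem' := ⟨1, FG.one_mem, Mono.one⟩
  mul_mem' := by
    rintro a b ⟨t1, m1, h1⟩ ⟨t2, m2, h2⟩
    exact ⟨t1 * t2, FG.mul_mem m1 m2, h1.mul h2⟩
  inv_mem' := by
    rintro a ⟨t, m, h⟩
    exact ⟨t⁻¹, FG.inv_mem m, h.inv⟩

theorem mem_monoSub {π : Equiv.Perm GolayPt} : π ∈ monoSub ↔ ∃ t ∈ FG, Mono t π := Iff.rfl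

theorem Mono.of_SP {t : Co0} {tab : List ℤ} {π : Equiv.Perm GolayPt} {T : ℕ} (h : SP t tab)
    (hπ : RepT π T) (hc : ∀ i < 24, (tab.getD i 0).natAbs - 1 = nlane T i) : Mono t π := by
  intro p
  have hi := idx_lt p
  obtain ⟨⟨a1, a2⟩, e⟩ := h (idx p) hi
  rw [pt_idx] at e
  have hp : π p = pt ((tab.getD (idx p) 0).natAbs - 1) := by rw [hπ p, hc _ hi]
  generalize tab.getD (idx p) 0 = a at a1 a2 e hp
  have hj : a.natAbs - 1 < 24 := by omega
  rcases lt_trichotomy a 0 with ha | ha | ha
  · right
    apply Subtype.ext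
    have ea : a = -(((a.natAbs - 1 : ℕ) : ℤ) + 1) := by omega
    rw [e, hp]
    show sE a = -vecEight (pt (a.natAbs - 1))
    rw [← sE_succ hj, ← sE_neg, ← ea]
  · omega
  · left
    apply Subtype.ext
    have ea : a = ((a.natAbs - 1 : ℕ) : ℤ) + 1 := by omega
    rw [e, hp]
    show sE a = vecEight (pt (a.natAbs - 1))
    rw [← sE_succ hj, ← ea]

/-! ### Sign changes -/

/-- The sign change of a word is realised in the subgroup. -/
def SgnIn (u : GolayPt → ZMod 2) : Prop :=
  ∃ t ∈ FG, ∀ p, ((t • latEight p : leechLattice) : GolayPt → ℤ) = Pi.single p (sgn u p * 8)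

theorem sgnIn_zero : SgnIn 0 := by
  refine ⟨1, FG.one_mem, fun p => ?_⟩
  rw [one_smul]
  have : sgn 0 p = 1 := by
    unfold sgn
    simp
  rw [this, one_mul]
  exact vecEight_eq_single p

theorem SgnIn.add {u1 u2 : GolayPt → ZMod 2} (h1 : SgnIn u1) (h2 : SgnIn u2) :
    SgnIn (u1 + u2) := by
  obtain ⟨t1, m1, e1⟩ := h1
  obtain ⟨t2, m2, e2⟩ := h2
  refine ⟨t1 * t2, FG.mul_mem m1 m2, fun p => ?_⟩
  rw [mul_smul]
  have a1 := e1 p
  have a2 := e2 p
  unfold sgn at a1 a2 ⊢
  rw [Pi.add_apply]
  rcases zmod2_cases (u2 p) with h2 | h2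
  · have e3 : t2 • latEight p = latEight p := by
      apply Subtype.ext
      rw [a2, h2, if_neg (by decide), one_mul]
      exact (vecEight_eq_single p).symm
    rw [e3, a1, h2, add_zero]
  · have e3 : t2 • latEight p = -latEight p := by
      apply Subtype.ext
      rw [a2, if_pos h2]
      show _ = -vecEight p
      rw [vecEight_eq_single, ← Pi.single_neg]
      norm_num
    rw [e3, co0_smul_neg]
    show -((t1 • latEight p : leechLattice) : GolayPt → ℤ) = _
    rw [a1, h2, ← Pi.single_neg]
    rcases zmod2_cases (u1 p) with h1 | h1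
    · rw [h1, if_neg (by decide), if_pos (by decide)]
      norm_num
    · rw [h1, if_pos rfl, if_neg (by decide)]
      norm_num

/-- The table of a sign change. -/
def sgnTab (m : ℕ) : List ℤ :=
  (List.range 24).map (fun i => if m.testBit i then -((i : ℤ) + 1) else (i : ℤ) + 1)

theorem SgnIn.of_SP {t : Co0} {m : ℕ} (ht : t ∈ FG) (h : SP t (sgnTab m)) : SgnIn (wordOf m) := by
  refine ⟨t, ht, fun p => ?_⟩
  have hi := idx_lt p
  obtain ⟨-, e⟩ := h (idx p) hi
  rw [pt_idx] at e
  have hg : (sgnTab m).getD (idx p) 0 =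
      if m.testBit (idx p) then -((idx p : ℤ) + 1) else (idx p : ℤ) + 1 :=
    getD_map_range24 (fun i => if m.testBit i then -((i : ℤ) + 1) else (i : ℤ) + 1) hi
  rw [e, hg]
  unfold sgn wordOf
  by_cases hb : m.testBit (idx p) = true
  · rw [if_pos hb, if_pos hb, if_pos rfl, sE_neg, sE_succ hi, pt_idx, vecEight_eq_single,
      ← Pi.single_neg]
    norm_num
  · rw [if_neg hb, if_neg hb, if_neg (by decide), sE_succ hi, pt_idx, vecEight_eq_single, one_mul]

/-- All sums of the masks. -/
def spanL : List ℕ → List ℕ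
  | [] => [0]
  | b :: bs => spanL bs ++ (spanL bs).map (fun m => m ^^^ b)

theorem sgnIn_spanL {bs : List ℕ} (h : ∀ b ∈ bs, SgnIn (wordOf b)) :
    ∀ m ∈ spanL bs, SgnIn (wordOf m) := by
  induction bs with
  | nil =>
    intro m hm
    simp only [spanL, List.mem_singleton] at hm
    rw [hm, wordOf_zero]
    exact sgnIn_zero
  | cons b bs ih =>
    intro m hm
    have ih' := ih (fun b' hb' => h b' (List.mem_cons_of_mem _ hb'))
    simp only [spanL, List.mem_append, List.mem_map] at hm
    rcases hm with hm | ⟨m', hm', rfl⟩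
    · exact ih' m hm
    · rw [wordOf_xor]
      exact (ih' m' hm').add (h b List.mem_cons_self)

/-- If the masks of the code words vanishing at the two points are sums of the given masks,
then the sign changes of these code words are in the subgroup. -/
theorem sgnIn_of_span {bs : List ℕ} (h : ∀ b ∈ bs, SgnIn (wordOf b))
    (hs : ∀ k < 4096, (enc k).testBit 0 = false → (enc k).testBit 23 = false →
      (spanL bs).contains (enc k) = true)
    (u : GolayPt → ZMod 2) (hu : u ∈ golayCode) (un : u none = 0) (u0 : u (pt 0) = 0) :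
    SgnIn u := by
  have hc := (mem_golayCode_iff_isCode u).mp hu
  unfold isCode at hc
  rw [beq_iff_eq] at hc
  have hlt := maskOf_lt u
  have hk : maskOf u >>> 12 < 4096 := by
    rw [Nat.shiftRight_eq_div_pow]
    omega
  have hw := wordOf_maskOf u
  have b0 : (maskOf u).testBit 0 = false := by
    by_contra hb
    have h1 : wordOf (maskOf u) (pt 0) = 1 := by
      unfold wordOf
      rw [idx_pt (by norm_num), if_pos (by simpa using hb)]
    rw [hw, u0] at h1
    exact absurd h1 (by decide)
  have b23 : (maskOf u).testBit 23 = false := by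
    by_contra hb
    have h1 : wordOf (maskOf u) (pt 23) = 1 := by
      unfold wordOf
      rw [idx_pt (by norm_num), if_pos (by simpa using hb)]
    rw [hw, pt_23, un] at h1
    exact absurd h1 (by decide)
  have hmem := hs _ hk (by rw [hc]; exact b0) (by rw [hc]; exact b23)
  rw [hc, List.contains_eq_mem, decide_eq_true_eq] at hmem
  rw [← hw]
  exact sgnIn_spanL h _ hmem

/-! ### The stabiliser of the two base vectors -/

theorem a0L_none : vecOf a0L none = 4 := by
  rw [← pt_23, vecOf_pt _ (by norm_num)]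
  decide

theorem fixSub2_bits : ∀ i < 24, (8388609 : ℕ).testBit i = true → i = 0 ∨ i = 23 := by decide

/-- If the permutations fixing the two points and the sign changes of the code words vanishing
at the two points are realised in the subgroup, then it contains the stabiliser of the two base
vectors. -/
theorem stab2_le (hperm : selGrp [2, 3, 4, 5, 6, 7, 8, 9, 10, 11] ≤ monoSub)
    (hsig : ∀ u ∈ golayCode, u none = 0 → u (pt 0) = 0 → SgnIn u)
    (k : Co0) (h1 : k • crx = crx) (h2 : k • crz = crz) : k ∈ FG := by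
  obtain ⟨π, hπ, u, hu, hform, hn, h0, un, u0⟩ := mono_of_fix k h1 h2
  have hπF : π ∈ fixSub 8388609 := by
    refine ⟨hπ, fun i hi hb => ?_⟩
    rcases fixSub2_bits i hi hb with rfl | rfl
    · exact h0
    · rw [pt_23]
      exact hn
  rw [fixSub2_eq] at hπF
  obtain ⟨t, ht, hmono⟩ := mem_monoSub.mp (hperm hπF)
  have hd : ∀ p, (t⁻¹ * k) • latEight p = latEight p ∨ (t⁻¹ * k) • latEight p = -latEight p := by
    intro p
    rw [mul_smul]
    have e := mono_frame hform p
    have hk : k • latEight p = latEight (π p) ∨ k • latEight p = -latEight (π p) := by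
      unfold sgn at e
      rcases zmod2_cases (u (π p)) with hz | hz
      · left
        apply Subtype.ext
        rw [e, hz, if_neg (by decide), one_mul]
        exact (vecEight_eq_single _).symm
      · right
        apply Subtype.ext
        rw [e, if_pos hz]
        show _ = -vecEight (π p)
        rw [vecEight_eq_single, ← Pi.single_neg]
        norm_num
    have ht' := hmono.inv (π p)
    have hpp : π⁻¹ (π p) = p := π.symm_apply_apply p
    rw [hpp] at ht'
    rcases hk with hk | hk <;> rcases ht' with ht' | ht'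
    · left
      rw [hk, ht']
    · right
      rw [hk, ht']
    · right
      rw [hk, co0_smul_neg, ht']
    · left
      rw [hk, co0_smul_neg, ht', neg_neg]
  have hdx : (t⁻¹ * k) • crx = crx := by
    rw [mul_smul, h1, inv_smul_eq_iff, FG_fix ht]
  have hdn : (t⁻¹ * k) • latEight none = latEight none := by
    rcases hd none with e | e
    · exact e
    · exfalso
      have h3 := co0_smul_dotInt (t⁻¹ * k) crx (latEight none)
      rw [hdx, e] at h3
      have h4 : dotInt (vecOf a0L) (vecEight none) = 32 := by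
        rw [dotInt_vecEight, a0L_none]
        norm_num
      have h5 : dotInt (vecOf a0L) (-vecEight none) = -32 := by
        rw [dotInt_neg_right, h4]
      change dotInt (vecOf a0L) (-vecEight none) = dotInt (vecOf a0L) (vecEight none) at h3
      rw [h4, h5] at h3
      norm_num at h3
  have hcz : crz = latEight none - crx := by
    rw [← crx_add]
    abel
  have hdz : (t⁻¹ * k) • crz = crz := by
    rw [hcz, co0_smul_sub, hdn, hdx]
  obtain ⟨π', -, u', hu', hform', -, -, un', u0'⟩ := mono_of_fix _ hdx hdz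
  obtain ⟨s, hs, hsp⟩ := hsig u' hu' un' u0'
  have hds : t⁻¹ * k = s := by
    apply co0_ext8
    intro p
    apply Subtype.ext
    have e := mono_frame hform' p
    have hp : π' p = p := by
      rcases hd p with e1 | e1
      · rw [e1] at e
        have e2 : (Pi.single (π' p) (sgn u' (π' p) * 8) : GolayPt → ℤ) = Pi.single p 8 := by
          rw [← e]
          exact vecEight_eq_single p
        exact (single_inj (by norm_num) e2).1
      · rw [e1] at e
        have e2 : (Pi.single (π' p) (sgn u' (π' p) * 8) : GolayPt → ℤ) = Pi.single p (-8) := by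
          rw [← e, Pi.single_neg, ← vecEight_eq_single]
          rfl
        exact (single_inj (by norm_num) e2).1
    rw [hp] at e
    rw [e, hsp p]
  have : k = t * s := by
    rw [← hds, mul_inv_cancel_left]
  rw [this]
  exact FG.mul_mem ht hs

/-! ### The order of the subgroup -/

/-- The subgroup is the stabiliser of the first base vector, if it contains the stabiliser of
the two base vectors and its order is divisible by `23`. -/
theorem FG_eq_of (hT : ∀ k : Co0, k • crx = crx → k • crz = crz → k ∈ FG)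
    (h23 : 23 ∣ Nat.card ↥FG) : FG = MulAction.stabilizer Co0 crx := by
  classical
  have : Finite Co0 := Nat.finite_of_card_ne_zero (by rw [card_co0]; norm_num)
  have D := co1_data crx crx_norm
  have c1 : Nat.card Co0 = 196560 * Nat.card ↥(MulAction.stabilizer Co0 crx) := by
    rw [D.card, ncard_min]
  have hZorb : ∀ y, y ∈ crZ ↔ ∃ g ∈ MulAction.stabilizer Co0 crx, g • crz = y := by
    intro y
    constructor
    · intro hy
      obtain ⟨g, hg, e⟩ := D.hcol_tr crz crz_norm y hy.1 (crz_mem.1.2.trans hy.2.symm)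
      exact ⟨g, MulAction.mem_stabilizer_iff.mpr hg, e⟩
    · rintro ⟨g, hg, rfl⟩
      have hg' : g • crx = crx := MulAction.mem_stabilizer_iff.mp hg
      exact ⟨(co0_smul_sqNorm g crz).trans crz_norm, (dot_smul_fix hg' crz).trans crz_mem.1.2⟩
  have c2 : Nat.card ↥(MulAction.stabilizer Co0 crx) = 93150 *
      Nat.card ↥(MulAction.stabilizer Co0 crx ⊓ MulAction.stabilizer Co0 crz) := by
    rw [card_sub_orbit (MulAction.stabilizer Co0 crx) crz crZ hZorb, crZ_ncard]
  have cT : Nat.card ↥(MulAction.stabilizer Co0 crx ⊓ MulAction.stabilizer Co0 crz) =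
      454164480 := by
    have := card_co0
    rw [c1, c2] at this
    omega
  have cM := card_sub_orbit FG crz (orbOf FG crz) (fun y => Iff.rfl)
  have eT : FG ⊓ MulAction.stabilizer Co0 crz =
      MulAction.stabilizer Co0 crx ⊓ MulAction.stabilizer Co0 crz := by
    apply le_antisymm
    · exact inf_le_inf_right _ FG_le
    · intro g hg
      have g1 := MulAction.mem_stabilizer_iff.mp (Subgroup.mem_inf.mp hg).1
      have g2 := MulAction.mem_stabilizer_iff.mp (Subgroup.mem_inf.mp hg).2
      exact Subgroup.mem_inf.mpr ⟨hT g g1 g2, (Subgroup.mem_inf.mp hg).2⟩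
  rw [eT, cT] at cM
  have d1 : (orbOf FG crz).ncard ∣ 93150 := by
    have h := Subgroup.card_dvd_of_le FG_le
    rw [cM, c2, cT] at h
    exact Nat.dvd_of_mul_dvd_mul_right (by norm_num) h
  have d2 : 23 ∣ (orbOf FG crz).ncard := by
    rw [cM] at h23
    exact (Nat.Coprime.dvd_mul_right (by norm_num : Nat.Coprime 23 454164480)).mp h23
  have hBsZ : orbOf FG crz ⊆ crZ := by
    rintro y ⟨g, hg, rfl⟩
    exact (hZorb _).mpr ⟨g, FG_le hg, rfl⟩
  have hsumT : ∑ d ∈ ({32, -32, 16, -16, 8, -8, 0, 1} : Finset ℤ), crMT d = crZ.ncard := by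
    rw [crZ_ncard]
    decide
  have hmT := fun d hd => (crT_classes d hd).1
  obtain ⟨IT, hIT, hITmem, -, hITcard⟩ := pieces_union crZ_finite hmT hsumT
    (orbOf FG crz) hBsZ (by
      intro y hy y' hy' hc
      have hyc := cover_of_card crZ_finite hmT hsumT y (hBsZ hy)
      obtain ⟨k, ⟨k1, k2⟩, e⟩ := (crT_classes _ hyc).2 y ⟨hBsZ hy, rfl⟩ y' ⟨hy', hc⟩
      obtain ⟨g, hg, rfl⟩ := hy
      exact ⟨k * g, Subgroup.mul_mem _ (hT k k1 k2) hg, by rw [mul_smul, e]⟩)
  have h32 : (32 : ℤ) ∈ IT := by
    have h1 : crz ∈ orbOf FG crz := ⟨1, Subgroup.one_mem _, one_smul _ _⟩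
    have h2 := (hITmem crz crz_mem.1).mp h1
    have h3 : crCT crz = 32 :=
      (col2_eq_of_ne crz (by norm_num) (by norm_num) (by norm_num)).mpr crz_mem.2
    rw [h3] at h2
    exact h2
  have hb := crT_num IT (Finset.mem_powerset.mpr hIT) h32 (by rw [← hITcard]; exact d1)
  rw [← hITcard] at hb
  have hO : (orbOf FG crz).ncard = 93150 := by
    rcases hb with hb | hb | hb
    · rw [hb] at d2
      norm_num at d2
    · rw [hb] at d2
      norm_num at d2
    · exact hb
  apply Subgroup.eq_of_le_of_card_ge FG_le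
  rw [cM, hO, c2, cT]

/-! ### Tables checked in ranges -/

/-- The check that a word acts on a range of the frame by a table. -/
def tabChkS (w : List ℕ) (mids : List (List (List ℤ))) (tab : List ℤ) (lo n : ℕ) : Bool :=
  (List.range n).all (fun i => decide (1 ≤ (tab.getD (lo + i) 0).natAbs) &&
    decide ((tab.getD (lo + i) 0).natAbs ≤ 24) &&
    cChk w (e8 (lo + i)) (mids.getD i []) (sL (tab.getD (lo + i) 0)))

theorem SP.of_chkS {w : List ℕ} {tab : List ℤ} {m0 m1 m2 m3 : List (List (List ℤ))}
    (h0 : tabChkS w m0 tab 0 6 = true) (h1 : tabChkS w m1 tab 6 6 = true)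
    (h2 : tabChkS w m2 tab 12 6 = true) (h3 : tabChkS w m3 tab 18 6 = true) :
    SP (wE letE w) tab := by
  have key : ∀ (m : List (List (List ℤ))) (lo : ℕ), tabChkS w m tab lo 6 = true →
      ∀ i, lo ≤ i → i < lo + 6 → i < 24 →
      (1 ≤ (tab.getD i 0).natAbs ∧ (tab.getD i 0).natAbs ≤ 24) ∧
      ((wE letE w • latEight (pt i) : leechLattice) : GolayPt → ℤ) = sE (tab.getD i 0) := by
    intro m lo h i h1 h2 hi
    have := List.all_eq_true.mp h (i - lo) (List.mem_range.mpr (by omega))
    have e : lo + (i - lo) = i := by omega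
    rw [e] at this
    simp only [Bool.and_eq_true, decide_eq_true_eq] at this
    obtain ⟨⟨c1, c2⟩, c3⟩ := this
    refine ⟨⟨c1, c2⟩, ?_⟩
    rw [latEight_pt hi, wE_acts letE_acts w _ _, cChk_sound c3, vecOf_sL]
  intro i hi
  by_cases a : i < 6
  · exact key m0 0 h0 i (by omega) (by omega) hi
  · by_cases b : i < 12
    · exact key m1 6 h1 i (by omega) (by omega) hi
    · by_cases c : i < 18
      · exact key m2 12 h2 i (by omega) (by omega) hi
      · exact key m3 18 h3 i (by omega) (by omega) hi

end Cfsg.Agent.Lib.Helper92.OC2
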