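import Cfsg.Agent.Lib.Helper92.OutCo2A

set_option autoImplicit false

open scoped Pointwise

namespace Cfsg.Agent.Lib.Helper92.OC2

open Cfsg Cfsg.Spor Cfsg.Agent.Lib.Helper7 Cfsg.Agent.Lib.Helper92

/-! ### The monomial form of the elements fixing the two base vectors -/

theorem single_inj {i j : GolayPt} {a b : ℤ} (hb : b ≠ 0)
    (h : (Pi.single i a : GolayPt → ℤ) = Pi.single j b) : i = j ∧ a = b := by
  have h1 := congrFun h j
  rw [Pi.single_eq_same] at h1
  by_cases hij : i = j
  · subst hij
    rw [Pi.single_eq_same] at h1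
    exact ⟨rfl, h1⟩
  · rw [Pi.single_eq_of_ne (fun e => hij e.symm)] at h1
    exact absurd h1.symm hb

theorem sgn_ne_zero (u : GolayPt → ZMod 2) (p : GolayPt) : sgn u p * 8 ≠ 0 := by
  unfold sgn
  split_ifs <;> norm_num

theorem sgn_eq_one {u : GolayPt → ZMod 2} {p : GolayPt} (h : sgn u p = 1) : u p = 0 := by
  unfold sgn at h
  rcases zmod2_cases (u p) with h0 | h0
  · exact h0
  · rw [if_pos h0] at h
    norm_num at h

theorem latEight_zero : latEight (pt 0) = crx - crz := by
  apply Subtype.ext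
  show vecEight (pt 0) = vecOf a0L - vecOf nxL
  funext p
  rw [← pt_idx p, Pi.sub_apply, vecOf_pt _ (idx_lt p), vecOf_pt _ (idx_lt p)]
  unfold vecEight
  have key : ∀ j < 24, (if pt j = pt 0 then (8 : ℤ) else 0) = a0L.getD j 0 - nxL.getD j 0 := by
    decide +kernel
  exact key _ (idx_lt p)

/-- The monomial form. -/
theorem mono_of_fix (g : Co0) (h1 : g • crx = crx) (h2 : g • crz = crz) :
    ∃ π ∈ M24, ∃ u ∈ golayCode, (∀ v : leechLattice,
      ((g • v : leechLattice) : GolayPt → ℤ) = signVec u (permVec π (v : GolayPt → ℤ))) ∧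
      π none = none ∧ π (pt 0) = pt 0 ∧ u none = 0 ∧ u (pt 0) = 0 := by
  have h8 : g • latEight none = latEight none := by rw [← crx_add, co0_smul_add, h1, h2]
  have h0 : g • latEight (pt 0) = latEight (pt 0) := by
    rw [latEight_zero, co0_smul_sub, h1, h2]
  obtain ⟨π, hπ, u, hu, hform⟩ := stab_cross_struct g (stab_imp_stabCross g h8)
  have hL : ∀ i, ((g • latEight i : leechLattice) : GolayPt → ℤ) =
      Pi.single (π i) (sgn u (π i) * 8) := by
    intro i
    have e : ((latEight i : leechLattice) : GolayPt → ℤ) = Pi.single i 8 := vecEight_eq_single i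
    have := hform (latEight i)
    rw [e, signVec_permVec_single] at this
    exact this
  have e1 := hL none
  rw [h8] at e1
  have e1' : (Pi.single none 8 : GolayPt → ℤ) = Pi.single (π none) (sgn u (π none) * 8) := by
    rw [← e1]
    exact (vecEight_eq_single none).symm
  obtain ⟨a1, a2⟩ := single_inj (sgn_ne_zero u _) e1'
  have e2 := hL (pt 0)
  rw [h0] at e2
  have e2' : (Pi.single (pt 0) 8 : GolayPt → ℤ) = Pi.single (π (pt 0)) (sgn u (π (pt 0)) * 8) := by
    rw [← e2]
    exact (vecEight_eq_single (pt 0)).symm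
  obtain ⟨b1, b2⟩ := single_inj (sgn_ne_zero u _) e2'
  refine ⟨π, hπ, u, hu, hform, a1.symm, b1.symm, ?_, ?_⟩
  · apply sgn_eq_one
    rw [← a1] at a2
    omega
  · apply sgn_eq_one
    rw [← b1] at b2
    omega

/-- The action of a monomial element on the frame. -/
theorem mono_frame {g : Co0} {π : Equiv.Perm GolayPt} {u : GolayPt → ZMod 2}
    (hform : ∀ v : leechLattice,
      ((g • v : leechLattice) : GolayPt → ℤ) = signVec u (permVec π (v : GolayPt → ℤ)))
    (i : GolayPt) : ((g • latEight i : leechLattice) : GolayPt → ℤ) =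
      Pi.single (π i) (sgn u (π i) * 8) := by
  have e : ((latEight i : leechLattice) : GolayPt → ℤ) = Pi.single i 8 := vecEight_eq_single i
  have := hform (latEight i)
  rw [e, signVec_permVec_single] at this
  exact this

/-! ### Four vectors with trivial stabiliser -/

/-- The vector `(1, ..., 1, -3)`. -/
def w3L : List ℤ := [1, 1, 1, 1, 1, 1, 1, 1, 1, 1, 1, 1, 1, 1, 1, 1, 1, 1, 1, 1, 1, 1, 1, -3]

/-- A vector with distinct coordinates. -/
def vdL : List ℤ := [0, 4, 8, 12, 16, 20, 24, 28, 32, 36, 40, 44, 48, 52, 56, 60, 64, 68, 72, 76,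
  80, 84, 88, -1012]

theorem w3L_mem : vecOf w3L ∈ leechLattice := leechB_sound (by decide +kernel)

theorem vdL_mem : vecOf vdL ∈ leechLattice := leechB_sound (by decide +kernel)

theorem w3L_eq : vecOf w3L = fun p => if p = pt 23 then -3 else 1 :=
  vecOf_eq_of_forall (by decide +kernel)

theorem pt_23 : pt 23 = none := by decide

theorem vdL_inj : ∀ i < 24, ∀ j < 24, vdL.getD i 0 = vdL.getD j 0 → i = j := by decide +kernel

/-- An element fixing the four vectors is trivial. -/
theorem eq_one_of_fix4 (g : Co0) (h1 : g • crx = crx) (h2 : g • crz = crz)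
    (h3 : g • (⟨vecOf w3L, w3L_mem⟩ : leechLattice) = ⟨vecOf w3L, w3L_mem⟩)
    (h4 : g • (⟨vecOf vdL, vdL_mem⟩ : leechLattice) = ⟨vecOf vdL, vdL_mem⟩) : g = 1 := by
  obtain ⟨π, hπ, u, hu, hform, hn, -, un, -⟩ := mono_of_fix g h1 h2
  have hu0 : u = 0 := by
    funext p
    have e := congrFun ((hform _).symm.trans (congrArg Subtype.val h3)) p
    change sgn u p * vecOf w3L (π.symm p) = vecOf w3L p at e
    rw [w3L_eq, pt_23] at e
    simp only at e
    by_cases hp : p = none
    · rw [hp]
      exact un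
    · have hp' : π.symm p ≠ none := fun e' => hp ((symm_eq_iff hn p).mp e')
      rw [if_neg hp', if_neg hp, mul_one] at e
      exact sgn_eq_one e
  have hπ1 : ∀ p, π.symm p = p := by
    intro p
    have e := congrFun ((hform _).symm.trans (congrArg Subtype.val h4)) p
    change sgn u p * vecOf vdL (π.symm p) = vecOf vdL p at e
    have hs : sgn u p = 1 := by
      unfold sgn
      rw [hu0]
      simp
    rw [hs, one_mul] at e
    have a := vecOf_pt vdL (idx_lt (π.symm p))
    have b := vecOf_pt vdL (idx_lt p)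
    rw [pt_idx] at a b
    rw [a, b] at e
    have := vdL_inj _ (idx_lt _) _ (idx_lt _) e
    calc π.symm p = pt (idx (π.symm p)) := (pt_idx _).symm
      _ = pt (idx p) := by rw [this]
      _ = p := pt_idx p
  apply Subtype.ext
  apply Equiv.ext
  intro v
  apply Subtype.ext
  have e := hform v
  rw [hu0] at e
  change ((g • v : leechLattice) : GolayPt → ℤ) = (v : GolayPt → ℤ)
  rw [e]
  funext p
  show sgn 0 p * (v : GolayPt → ℤ) (π.symm p) = (v : GolayPt → ℤ) p
  rw [hπ1 p]
  unfold sgn
  simp

end Cfsg.Agent.Lib.Helper92.OC2
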