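import Cfsg.Agent.Lib.Helper92.OutCo2Data

set_option autoImplicit false

open scoped Pointwise

namespace Cfsg.Agent.Lib.Helper92.OC2

open Cfsg Cfsg.Spor Cfsg.Agent.Lib.Helper7 Cfsg.Agent.Lib.Helper92

/-! ### Coordinate permutations given by words -/

/-- The five letters. -/
noncomputable def L5 : List (Equiv.Perm GolayPt) :=
  [shiftPerm, Cfsg.projInv, Cfsg.cubeTwist, shiftPerm⁻¹, Cfsg.cubeTwist⁻¹]

theorem L5_mem (w : List ℕ) : evalW L5 w ∈ M24 := by
  apply evalW_mem
  intro σ hσ
  simp only [L5, List.mem_cons, List.not_mem_nil, or_false] at hσ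
  rcases hσ with rfl | rfl | rfl | rfl | rfl
  · exact shiftPerm_mem
  · exact projInv_mem
  · exact cubeTwist_mem
  · exact M24.inv_mem shiftPerm_mem
  · exact M24.inv_mem cubeTwist_mem

theorem L5_rep : List.Forall₂ RepT L5 T5 := by
  have h1 : RepT shiftPerm⁻¹ tAi := tAi_eq ▸ repT_shift.inv
  have h2 : RepT Cfsg.cubeTwist⁻¹ tCi := tCi_eq ▸ repT_cubeTwist.inv
  exact List.Forall₂.cons repT_shift (List.Forall₂.cons repT_projInv
      (List.Forall₂.cons repT_cubeTwist (List.Forall₂.cons h1
        (List.Forall₂.cons h2 List.Forall₂.nil))))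

theorem L5_repW (w : List ℕ) : RepT (evalW L5 w) (evalT T5 w) := repT_evalW L5_rep w

/-- The element of the group of the lattice of a word. -/
noncomputable def pcE (w : List ℕ) : Co0 := ⟨permCo (evalW L5 w) (L5_mem w), permCo_mem _ _⟩

theorem pcE_coe (w : List ℕ) (v : leechLattice) :
    ((pcE w • v : leechLattice) : GolayPt → ℤ) = permVec (evalW L5 w) (v : GolayPt → ℤ) := rfl

theorem pcE_acts {t : ℕ} (w : List ℕ) (h : invT (evalT T5 w) = t) : Acts (pcE w) (permL t) := by
  intro l hl
  rw [← h]
  exact permVec_vecOf (L5_repW w).inv l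

theorem pcE_append (w w' : List ℕ) : pcE (w ++ w') = pcE w * pcE w' := by
  have e : evalW L5 (w ++ w') = evalW L5 w * evalW L5 w' := by
    unfold evalW
    rw [List.map_append, List.prod_append]
  apply Subtype.ext
  apply Equiv.ext
  intro v
  apply Subtype.ext
  show permVec (evalW L5 (w ++ w')) (v : GolayPt → ℤ) =
    permVec (evalW L5 w) (permVec (evalW L5 w') (v : GolayPt → ℤ))
  rw [e]
  rfl

theorem pcE_nil : pcE [] = 1 := by
  apply Subtype.ext
  apply Equiv.ext
  intro v
  apply Subtype.ext
  show permVec (evalW L5 []) (v : GolayPt → ℤ) = (v : GolayPt → ℤ)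
  have e : evalW L5 [] = 1 := by simp [evalW]
  rw [e]
  rfl

/-- The word of a power. -/
def wAk (k : ℕ) : List ℕ := (List.replicate k wA).flatten

theorem pcE_pow (k : ℕ) : pcE wA ^ k = pcE (wAk k) := by
  induction k with
  | zero =>
    rw [pow_zero]
    exact pcE_nil.symm
  | succ k ih =>
    rw [pow_succ', ih, ← pcE_append]
    rfl

/-! ### Elements given by primitives -/

theorem exists_acts (ps : List Prim) (h : ps.all Prim.valid = true) :
    ∃ g : Co0, Acts g (opsApp (ps.map Prim.fn)) := by
  apply good_opsApp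
  intro f hf
  obtain ⟨p, hp, rfl⟩ := List.mem_map.mp hf
  exact Prim.good (List.all_eq_true.mp h p hp)

theorem hP_valid : hP.all Prim.valid = true := by decide +kernel

theorem hIP_valid : hIP.all Prim.valid = true := by decide +kernel

/-- The conjugating element and its inverse. -/
noncomputable def hE : Co0 := Classical.choose (exists_acts hP hP_valid)

noncomputable def hI : Co0 := Classical.choose (exists_acts hIP hIP_valid)

/-- Their maps. -/
def hL : List ℤ → List ℤ := opsApp (hP.map Prim.fn)

def hIL : List ℤ → List ℤ := opsApp (hIP.map Prim.fn)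

theorem hE_acts : Acts hE hL := Classical.choose_spec (exists_acts hP hP_valid)

theorem hI_acts : Acts hI hIL := Classical.choose_spec (exists_acts hIP hIP_valid)

theorem hE_hI : hE * hI = 1 := eq_one_of_chk (hE_acts.mul hI_acts) (by decide +kernel)

theorem hI_eq : hI = hE⁻¹ := (inv_eq_of_mul_eq_one_right hE_hI).symm

/-! ### The elements -/

theorem tAks_ok : ∀ k ≤ 22, invT (evalT T5 (wAk k)) = tAks.getD k 0 := by decide +kernel

theorem tSi_eq : invT (evalT T5 wS) = tSi := by decide +kernel

theorem tS_eq : evalT T5 wS = tS := by decide +kernel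

theorem tS_eq' : invT (evalT T5 wSi) = tS := by decide +kernel

theorem tB_eq : invT (evalT T5 [1]) = tB := by decide +kernel

/-- The element of order `23`. -/
noncomputable def xE : Co0 := hE * pcE wA * hI

/-- The element of order `11` and its inverse. -/
noncomputable def nE : Co0 := pcE wS

noncomputable def nI : Co0 := pcE wSi

/-- The involution. -/
noncomputable def zE : Co0 := pcE [1]

theorem nE_acts : Acts nE (permL tSi) := pcE_acts wS tSi_eq

theorem nI_acts : Acts nI (permL tS) := pcE_acts wSi tS_eq'

theorem zE_acts : Acts zE (permL tB) := pcE_acts [1] tB_eq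

/-- The primitives of the letters: `0` is the involution, `k ≤ 22` is the `k`-th power of the
element of order `23`, `23` and `24` are the element of order `11` and its inverse. -/
def letP (k : ℕ) : List Prim :=
  if k = 0 then [Prim.P tB [1]]
  else if k ≤ 22 then hIP ++ [Prim.P (tAks.getD k 0) (wAk k)] ++ hP
  else if k = 23 then [Prim.P tSi wS]
  else if k = 24 then [Prim.P tS wSi] else []

/-- The maps of the letters. -/
def letL (k : ℕ) : List ℤ → List ℤ := opsApp ((letP k).map Prim.fn)

/-- The letters. -/
noncomputable def letE (k : ℕ) : Co0 :=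
  if k = 0 then zE else if k ≤ 22 then xE ^ k else if k = 23 then nE else if k = 24 then nI
  else 1

theorem acts_congr {g : Co0} {f f' : List ℤ → List ℤ} (h : Acts g f) (e : ∀ l, f l = f' l) :
    Acts g f' := fun l hl => by
  rw [← e]
  exact h l hl

theorem xE_pow (k : ℕ) : xE ^ k = hE * pcE wA ^ k * hI := by
  unfold xE
  rw [hI_eq, conj_pow]

theorem opsApp_append (a b : List (List ℤ → List ℤ)) (l : List ℤ) :
    opsApp (a ++ b) l = opsApp b (opsApp a l) := List.foldl_append ..

theorem letE_acts (k : ℕ) : Acts (letE k) (letL k) := by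
  unfold letE letL letP
  by_cases h0 : k = 0
  · rw [if_pos h0, if_pos h0]
    exact acts_congr zE_acts (fun l => rfl)
  · rw [if_neg h0, if_neg h0]
    by_cases h22 : k ≤ 22
    · rw [if_pos h22, if_pos h22, xE_pow, pcE_pow]
      refine acts_congr ((hE_acts.mul (pcE_acts (wAk k) (tAks_ok k h22))).mul hI_acts)
        (fun l => ?_)
      rw [List.map_append, List.map_append, opsApp_append, opsApp_append]
      rfl
    · rw [if_neg h22, if_neg h22]
      by_cases h23 : k = 23
      · rw [if_pos h23, if_pos h23]
        exact acts_congr nE_acts (fun l => rfl)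
      · rw [if_neg h23, if_neg h23]
        by_cases h24 : k = 24
        · rw [if_pos h24, if_pos h24]
          exact acts_congr nI_acts (fun l => rfl)
        · rw [if_neg h24, if_neg h24]
          exact acts_one

/-! ### Words with intermediate vectors -/

/-- The primitives of a word. -/
def wP (w : List ℕ) : List Prim := (w.reverse.map letP).flatten

theorem wL_eq (w : List ℕ) (l : List ℤ) : wL letL w l = opsApp ((wP w).map Prim.fn) l := by
  induction w with
  | nil => rfl
  | cons k w ih =>
    have e : wP (k :: w) = wP w ++ letP k := by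
      unfold wP
      rw [List.reverse_cons, List.map_append, List.flatten_append]
      simp
    rw [e, List.map_append, opsApp_append, ← ih]
    rfl

/-- The check that a word maps a list to a list, with the intermediate lists. -/
def cChk (w : List ℕ) (v : List ℤ) (mids : List (List ℤ)) (t : List ℤ) : Bool :=
  match chain (wP w) v mids with
  | some v' => listEqB v' t
  | none => false

theorem cChk_sound {w : List ℕ} {v : List ℤ} {mids : List (List ℤ)} {t : List ℤ}
    (h : cChk w v mids t = true) : wL letL w v = t := by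
  unfold cChk at h
  cases hc : chain (wP w) v mids with
  | none =>
    rw [hc] at h
    simp at h
  | some v' =>
    rw [hc] at h
    rw [wL_eq, chain_eq _ _ _ _ hc]
    exact (listEqB_iff _ _).mp h

theorem fix_of_acts {g : Co0} {f : List ℤ → List ℤ} (hg : Acts g f) {l : List ℤ}
    (hl : vecOf l ∈ leechLattice) (h : f l = l) :
    g • (⟨vecOf l, hl⟩ : leechLattice) = ⟨vecOf l, hl⟩ := by
  apply Subtype.ext
  rw [hg l hl, h]

/-- A word fixing the four vectors is trivial. -/
theorem eq_one_of_c4 {w : List ℕ} {m1 m2 m3 m4 : List (List ℤ)}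
    (h1 : cChk w a0L m1 a0L = true) (h2 : cChk w nxL m2 nxL = true)
    (h3 : cChk w w3L m3 w3L = true) (h4 : cChk w vdL m4 vdL = true) : wE letE w = 1 :=
  eq_one_of_fix4 _ (fix_of_acts (wE_acts letE_acts w) a0L_mem (cChk_sound h1))
    (fix_of_acts (wE_acts letE_acts w) nxL_mem (cChk_sound h2))
    (fix_of_acts (wE_acts letE_acts w) w3L_mem (cChk_sound h3))
    (fix_of_acts (wE_acts letE_acts w) vdL_mem (cChk_sound h4))

/-- The check that a word moves a list. -/
def neChk (w : List ℕ) (v : List ℤ) (mids : List (List ℤ)) (j : ℕ) : Bool :=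
  match chain (wP w) v mids with
  | some v' => !(intEqB (v'.getD j 0) (v.getD j 0))
  | none => false

theorem ne_one_of_neChk {w : List ℕ} {v : List ℤ} {mids : List (List ℤ)} {j : ℕ}
    (hv : vecOf v ∈ leechLattice) (hj : j < 24) (h : neChk w v mids j = true) :
    wE letE w ≠ 1 := by
  intro e
  unfold neChk at h
  cases hc : chain (wP w) v mids with
  | none =>
    rw [hc] at h
    simp at h
  | some v' =>
    rw [hc] at h
    have h1 := wE_acts letE_acts w v hv
    rw [e, one_smul, wL_eq, chain_eq _ _ _ _ hc] at h1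
    have h2 : vecOf v (pt j) = vecOf v' (pt j) := congrFun h1 (pt j)
    rw [vecOf_pt _ hj, vecOf_pt _ hj] at h2
    simp only [Bool.not_eq_true'] at h
    rw [(intEqB_iff _ _).mpr h2.symm] at h
    exact absurd h (by simp)

/-- The check that a word acts on the frame by a table, with the intermediate lists. -/
def tabChkC (w : List ℕ) (mids : List (List (List ℤ))) (tab : List ℤ) : Bool :=
  (List.range 24).all (fun i => decide (1 ≤ (tab.getD i 0).natAbs) &&
    decide ((tab.getD i 0).natAbs ≤ 24) && cChk w (e8 i) (mids.getD i []) (sL (tab.getD i 0)))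

theorem SP.of_chkC {w : List ℕ} {mids : List (List (List ℤ))} {tab : List ℤ}
    (h : tabChkC w mids tab = true) : SP (wE letE w) tab := by
  intro i hi
  have := List.all_eq_true.mp h i (List.mem_range.mpr hi)
  simp only [Bool.and_eq_true, decide_eq_true_eq] at this
  obtain ⟨⟨c1, c2⟩, c3⟩ := this
  refine ⟨⟨c1, c2⟩, ?_⟩
  rw [latEight_pt hi, wE_acts letE_acts w _ _, cChk_sound c3, vecOf_sL]

/-- Validity of a table. -/
def validTab (tab : List ℤ) : Bool :=
  (List.range 24).all (fun i => decide (1 ≤ (tab.getD i 0).natAbs) &&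
    decide ((tab.getD i 0).natAbs ≤ 24))

theorem SP.inv {t : Co0} {tab tab' : List ℤ} (h : SP t tab) (hv : validTab tab' = true)
    (hc : compTab tab tab' = idTab) : SP t⁻¹ tab' := by
  intro j hj
  have hv' := List.all_eq_true.mp hv j (List.mem_range.mpr hj)
  simp only [Bool.and_eq_true, decide_eq_true_eq] at hv'
  obtain ⟨a1, a2⟩ := hv'
  refine ⟨⟨a1, a2⟩, ?_⟩
  have hi : (tab'.getD j 0).natAbs - 1 < 24 := by omega
  obtain ⟨-, e1⟩ := h _ hi
  have hcj : (compTab tab tab').getD j 0 =
      (tab'.getD j 0).sign * tab.getD ((tab'.getD j 0).natAbs - 1) 0 := getD_map_range24 _ hj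
  have hid : idTab.getD j 0 = (j : ℤ) + 1 := getD_map_range24 (fun i => (i : ℤ) + 1) hj
  rw [hc, hid] at hcj
  generalize tab'.getD j 0 = a at a1 a2 hi e1 hcj
  generalize tab.getD (a.natAbs - 1) 0 = b at e1 hcj
  rcases lt_trichotomy a 0 with ha | ha | ha
  · have hs : a.sign = -1 := Int.sign_eq_neg_one_of_neg ha
    have ea : a = -(((a.natAbs - 1 : ℕ) : ℤ) + 1) := by omega
    rw [hs] at hcj
    have hb : b = -((j : ℤ) + 1) := by omega
    have e2 : t • latEight (pt (a.natAbs - 1)) = -latEight (pt j) := by
      apply Subtype.ext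
      rw [e1, hb, sE_neg, sE_succ hj]
      rfl
    have e3 : t⁻¹ • latEight (pt j) = -latEight (pt (a.natAbs - 1)) := by
      rw [inv_smul_eq_iff, co0_smul_neg, e2, neg_neg]
    rw [e3]
    show -vecEight (pt (a.natAbs - 1)) = sE a
    rw [← sE_succ hi, ← sE_neg, ← ea]
  · omega
  · have hs : a.sign = 1 := Int.sign_eq_one_of_pos ha
    have ea : a = ((a.natAbs - 1 : ℕ) : ℤ) + 1 := by omega
    rw [hs, one_mul] at hcj
    have e2 : t • latEight (pt (a.natAbs - 1)) = latEight (pt j) := by
      apply Subtype.ext
      rw [e1, ← hcj, sE_succ hj]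
      rfl
    have e3 : t⁻¹ • latEight (pt j) = latEight (pt (a.natAbs - 1)) := by
      rw [inv_smul_eq_iff, e2]
    rw [e3]
    show vecEight (pt (a.natAbs - 1)) = sE a
    rw [← sE_succ hi, ← ea]

end Cfsg.Agent.Lib.Helper92.OC2
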