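import Mathlib
import Cfsg.Prelude.Def_Spor_Ru

/-!
Basic coordinates for the Rudvalis lattice: the 56 real coordinates of a vector of `RuVec`,
list representation, integer bilinear form.
-/

set_option autoImplicit false

namespace Cfsg.Agent.Lib.Helper92.Ru

open Cfsg.Spor

/-- The `j`-th real coordinate of a vector (`j < 56`): index `8 n + 2 t + e` is the real (`e = 0`)
or imaginary (`e = 1`) part of the entry `(n, t)`. -/
def rc (x : RuVec) (j : ℕ) : ℤ :=
  if j % 2 = 0 then
    (x (⟨j / 8 % 7, Nat.mod_lt _ (by norm_num)⟩, ⟨j / 2 % 4, Nat.mod_lt _ (by norm_num)⟩)).re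
  else
    (x (⟨j / 8 % 7, Nat.mod_lt _ (by norm_num)⟩, ⟨j / 2 % 4, Nat.mod_lt _ (by norm_num)⟩)).im

/-- The vector with a given list of 56 real coordinates. -/
def toRu (l : List ℤ) : RuVec := fun p =>
  ⟨l.getD (8 * p.1.val + 2 * p.2.val) 0, l.getD (8 * p.1.val + 2 * p.2.val + 1) 0⟩

/-- The list of the 56 real coordinates of a vector. -/
def ofRu (x : RuVec) : List ℤ := (List.range 56).map (rc x)

theorem toRu_ofRu (x : RuVec) : toRu (ofRu x) = x := by
  funext ⟨n, t⟩
  fin_cases n <;> fin_cases t <;> rfl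

theorem rc_toRu (l : List ℤ) (j : ℕ) (hj : j < 56) : rc (toRu l) j = l.getD j 0 := by
  interval_cases j <;> rfl

theorem rc_add (x y : RuVec) (j : ℕ) : rc (x + y) j = rc x j + rc y j := by
  unfold rc; split <;> simp

theorem rc_neg (x : RuVec) (j : ℕ) : rc (-x) j = - rc x j := by
  unfold rc; split <;> simp

theorem rc_zero (j : ℕ) : rc 0 j = 0 := by
  unfold rc; split <;> simp

/-- The integer bilinear form `Re Σ x ȳ`. -/
def ipR (x y : RuVec) : ℤ := ∑ j ∈ Finset.range 56, rc x j * rc y j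

theorem ipR_add_left (x y z : RuVec) : ipR (x + y) z = ipR x z + ipR y z := by
  simp [ipR, rc_add, add_mul, Finset.sum_add_distrib]

theorem ipR_add_right (x y z : RuVec) : ipR x (y + z) = ipR x y + ipR x z := by
  simp [ipR, rc_add, mul_add, Finset.sum_add_distrib]

theorem ipR_neg_left (x y : RuVec) : ipR (-x) y = - ipR x y := by
  simp [ipR, rc_neg, Finset.sum_neg_distrib]

theorem ipR_neg_right (x y : RuVec) : ipR x (-y) = - ipR x y := by
  simp [ipR, rc_neg, Finset.sum_neg_distrib]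

theorem ipR_zero_left (y : RuVec) : ipR 0 y = 0 := by
  simp [ipR, rc_zero]

theorem ipR_zero_right (x : RuVec) : ipR x 0 = 0 := by
  simp [ipR, rc_zero]

theorem ipR_comm (x y : RuVec) : ipR x y = ipR y x := by
  simp [ipR, mul_comm]

theorem norm_rc (x : RuVec) (n : Fin 7) (t : Fin 4) :
    (x (n, t)).norm = rc x (8 * n.val + 2 * t.val) * rc x (8 * n.val + 2 * t.val)
      + rc x (8 * n.val + 2 * t.val + 1) * rc x (8 * n.val + 2 * t.val + 1) := by
  have h : ∀ z : GaussianInt, z.norm = z.re * z.re + z.im * z.im := fun z => by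
    simp [Zsqrtd.norm]
  rw [h]
  fin_cases n <;> fin_cases t <;> rfl

theorem ruNorm_eq (x : RuVec) : ruNorm x = ipR x x := by
  unfold ruNorm ipR
  rw [Fintype.sum_prod_type]
  simp only [norm_rc]
  simp only [Fin.sum_univ_seven, Fin.sum_univ_four, Finset.sum_range_succ, Finset.sum_range_zero]
  norm_num
  ring

theorem ruNorm_add (x y : RuVec) : ruNorm (x + y) = ruNorm x + ruNorm y + 2 * ipR x y := by
  rw [ruNorm_eq, ruNorm_eq, ruNorm_eq, ipR_add_left, ipR_add_right, ipR_add_right, ipR_comm y x]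
  ring

theorem ruNorm_neg (x : RuVec) : ruNorm (-x) = ruNorm x := by
  rw [ruNorm_eq, ruNorm_eq, ipR_neg_left, ipR_neg_right]; ring

theorem ruNorm_zero : ruNorm 0 = 0 := by
  rw [ruNorm_eq, ipR_zero_left]

theorem ipR_toRu (l l' : List ℤ) :
    ipR (toRu l) (toRu l') = ∑ j ∈ Finset.range 56, l.getD j 0 * l'.getD j 0 := by
  unfold ipR
  refine Finset.sum_congr rfl (fun j hj => ?_)
  rw [rc_toRu _ _ (Finset.mem_range.mp hj), rc_toRu _ _ (Finset.mem_range.mp hj)]

theorem ipR_toRu_right (x : RuVec) (l : List ℤ) :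
    ipR x (toRu l) = ∑ j ∈ Finset.range 56, l.getD j 0 * rc x j := by
  unfold ipR
  refine Finset.sum_congr rfl (fun j hj => ?_)
  rw [rc_toRu _ _ (Finset.mem_range.mp hj), mul_comm]

end Cfsg.Agent.Lib.Helper92.Ru
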