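import Mathlib

/-!
Data for the Rudvalis lattice `2Λ ⊂ ℤ[i]²⁸ = ℤ⁵⁶`: a generating set modulo `4ℤ⁵⁶`
(19 vectors with odd entries, in systematic form on 19 coordinates, and 37 vectors `2 t`),
the parity masks of the first 19, and one test vector per block.
-/

set_option autoImplicit false

namespace Cfsg.Agent.Lib.Helper92.Ru

/-- Reduction steps: (generator, pivot coordinate, divisor). -/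
def steps : List (List ℤ × ℕ × ℤ) := [
  (([-1, 0, 0, 2, 0, 2, 2, 1, 0, 0, 0, 1, 0, 2, 2, -1, 0, 2, 2, 2, 2, 0, 1, -1, 2, 0, 2, -1, -1, 2, 2, 2, 2, -1, 1, 2, 0, 2, 1, 1, 2, -1, 0, 1, 1, 1, 0, 2, 2, -1, 2, 0, 1, 0, 1, -1] : List ℤ), 0, 1),
  (([0, -1, 0, 0, 0, 2, 0, -1, 2, 0, 2, 0, 2, -1, 1, 2, 2, 0, 0, 0, 0, 1, 0, 1, 2, 1, 1, -1, 2, 1, -1, -1, 2, 2, -1, 0, -1, 0, 2, 2, 2, -1, 0, 2, 1, 0, 2, 2, 0, -1, 0, -1, 2, -1, 0, -1] : List ℤ), 1, 1),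
  (([0, 0, -1, 0, 0, 0, 0, 1, 0, 0, 0, -1, 2, -1, 0, 0, 2, 0, 2, 1, 2, 0, 0, 1, 0, -1, -1, 0, 2, 1, -1, 2, 2, 1, 2, 0, 2, 2, 0, 1, 2, 2, 0, 2, 1, 2, 2, 1, 0, 2, 0, 2, 1, 0, 1, 2] : List ℤ), 2, 1),
  (([0, 0, 2, -1, 2, 2, 2, -1, 0, 0, 2, 2, 2, 2, -1, 1, 2, 0, 2, 1, 0, -1, 1, -1, 0, -1, -1, 0, 0, 0, -1, -1, 2, 0, 2, 0, -1, 0, 1, 2, 0, 2, -1, 0, 0, 0, 2, -1, 2, 1, 0, 0, 1, -1, 2, 1] : List ℤ), 3, 1),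
  (([0, 0, 0, 0, -1, 0, 2, 1, 2, 0, 2, 0, 2, 1, 2, 1, 2, 2, 0, -1, 0, 2, 1, 2, 0, 1, 0, 0, 2, 2, 1, 2, 0, 0, -1, 2, 2, 2, -1, 0, 0, -1, 2, 1, 1, 0, -1, 0, 2, 0, 1, 0, 2, 1, 0, 0] : List ℤ), 4, 1),
  (([0, 0, 0, 0, 2, -1, 2, 1, 0, 0, 0, -1, 0, 2, -1, 0, 0, 0, 2, 1, 0, 1, 2, 2, 0, 2, -1, 0, 2, 2, -1, 0, 0, -1, 1, 2, -1, 2, 0, -1, 0, 2, 2, -1, -1, 2, 0, 0, 0, -1, 2, -1, 0, 2, 0, 0] : List ℤ), 5, 1),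
  (([0, 0, 0, 0, 0, 0, 1, 1, 0, 0, 2, -1, 2, 1, 1, -1, 2, 0, 2, 0, 2, -1, -1, 2, 2, 2, 0, 0, 1, 2, 1, 0, 2, -1, 2, 0, -1, 0, 1, -1, 0, 1, 1, 1, 1, 1, 1, 2, 0, 2, 1, 2, -1, 1, 0, 1] : List ℤ), 6, 1),
  (([0, 0, 0, 0, 0, 0, 0, 0, -1, 0, 0, -1, 0, 1, 2, -1, 0, 0, 0, 0, 0, 2, 0, 0, 2, 0, -1, -1, 1, 1, 0, 2, 0, -1, 2, -1, 1, 0, 2, 1, 0, 0, 0, 0, 1, -1, 1, 1, 0, 2, 2, 2, 2, 0, 2, 2] : List ℤ), 8, 1),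
  (([0, 0, 0, 0, 0, 2, 0, 2, 2, -1, 0, 1, 0, 1, -1, 2, 2, 2, 2, 0, 2, 2, 2, 0, 0, 2, 1, 1, 0, 2, -1, -1, 2, 0, -1, -1, 1, 1, 2, 2, 2, -1, 0, 1, -1, 0, 2, 1, 2, 0, 2, 2, 2, 2, 0, 0] : List ℤ), 9, 1),
  (([0, 0, 0, 0, 0, 2, 0, 2, 2, 0, -1, 1, 0, 0, -1, 1, 2, 0, 2, 2, 2, 2, 0, 0, 2, -1, 2, 1, 1, 0, 0, -1, 2, 2, 2, 2, 1, -1, -1, 1, 2, -1, 1, 2, 0, 1, 0, -1, 2, 0, 0, 2, 2, 0, 2, 0] : List ℤ), 10, 1),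
  (([0, 0, 0, 0, 0, 0, 2, 0, 2, 0, 2, 0, 1, -1, -1, -1, 0, 0, 0, 2, 0, 2, 2, 0, 2, 1, 2, -1, 0, 1, 1, 0, 2, 1, -1, 2, 1, 0, -1, 0, 2, 2, -1, -1, 2, 2, -1, -1, 0, 2, 0, 0, 2, 0, 2, 2] : List ℤ), 12, 1),
  (([0, 0, 0, 0, 0, 2, 2, 0, 0, 0, 0, 0, 2, 0, 0, 2, 1, 2, 2, 1, 0, -1, 2, 1, 2, 0, 2, 2, 0, 0, 2, 2, 0, 0, 1, -1, -1, 1, 2, 2, 0, -1, 2, 1, 1, 0, 2, -1, 2, 2, 0, 0, -1, -1, -1, 1] : List ℤ), 16, 1),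
  (([0, 0, 0, 0, 2, 0, 2, 2, 0, 0, 2, 0, 2, 2, 2, 0, 2, -1, 0, -1, 2, 1, -1, 2, 0, 0, 0, 2, 2, 0, 2, 2, 2, 2, 1, 1, 2, 2, -1, -1, 2, 2, -1, -1, -1, -1, 2, 0, 2, -1, 0, -1, 1, 0, 0, -1] : List ℤ), 17, 1),
  (([0, 0, 0, 0, 0, 2, 2, 0, 0, 0, 0, 2, 2, 2, 2, 0, 2, 0, -1, 1, 2, 0, 1, 1, 0, 2, 2, 2, 2, 0, 2, 0, 0, -1, 0, -1, -1, 2, 2, -1, 0, 2, 2, 2, 1, -1, -1, -1, 2, 1, -1, 0, 0, 1, 2, -1] : List ℤ), 18, 1),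
  (([0, 0, 0, 0, 2, 0, 0, 2, 2, 0, 0, 2, 2, 0, 0, 0, 2, 2, 0, 2, -1, 1, -1, 1, 2, 0, 0, 0, 2, 0, 0, 2, 0, 1, 2, -1, 0, -1, 1, 0, 0, 1, -1, 2, -1, 2, -1, 2, 0, 2, 1, -1, 2, 2, 1, 1] : List ℤ), 20, 1),
  (([0, 0, 0, 0, 0, 0, 2, 0, 2, 0, 2, 0, 0, 0, 0, 2, 0, 2, 0, 0, 2, 0, 2, 0, 1, 1, -1, 1, -1, -1, 1, -1, 2, 2, 2, 2, 0, 0, 2, 0, 2, 0, 2, 0, 0, 0, 2, 0, 2, 0, 0, 2, 2, 2, 2, 0] : List ℤ), 24, 1),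
  (([0, 0, 0, 0, 0, 0, 2, 0, 2, 0, 2, 0, 2, 2, 2, 0, 0, 0, 2, 0, 0, 2, 0, 2, 0, 0, 0, 0, 2, 0, 2, 2, -1, 1, -1, -1, 1, -1, -1, -1, 0, 2, 0, 2, 2, 2, 0, 2, 0, 2, 0, 2, 2, 2, 0, 2] : List ℤ), 32, 1),
  (([0, 0, 0, 0, 2, 2, 0, 2, 0, 0, 2, 0, 0, 0, 0, 0, 0, 2, 2, 2, 0, 2, 2, 0, 0, 2, 2, 0, 0, 0, 0, 2, 2, 2, 2, 2, 0, 0, 2, 0, -1, -1, 1, 1, 1, 1, -1, -1, 0, 2, 0, 0, 2, 0, 2, 0] : List ℤ), 40, 1),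
  (([0, 0, 0, 0, 0, 0, 0, 2, 2, 0, 2, 0, 2, 2, 0, 2, 2, 0, 0, 0, 0, 2, 0, 2, 0, 0, 0, 0, 0, 0, 0, 2, 2, 2, 0, 0, 2, 2, 0, 2, 0, 2, 2, 2, 0, 2, 0, 2, -1, 1, -1, -1, 1, -1, 1, 1] : List ℤ), 48, 1),
  (([2, 2, 2, 2, 2, 2, 2, 2, 0, 0, 0, 0, 0, 0, 0, 0, 0, 0, 0, 0, 0, 0, 0, 0, 0, 0, 0, 0, 0, 0, 0, 0, 0, 0, 0, 0, 0, 0, 0, 0, 0, 0, 0, 0, 0, 0, 0, 0, 0, 0, 0, 0, 0, 0, 0, 0] : List ℤ), 7, 2),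
  (([2, 0, 2, 0, 0, 2, 2, 0, 2, 2, 2, 2, 0, 0, 0, 0, 0, 0, 0, 0, 0, 0, 0, 0, 0, 0, 0, 0, 0, 0, 0, 0, 0, 0, 0, 0, 0, 0, 0, 0, 0, 0, 0, 0, 0, 0, 0, 0, 0, 0, 0, 0, 0, 0, 0, 0] : List ℤ), 11, 2),
  (([0, 2, 2, 0, 2, 0, 2, 0, 2, 2, 0, 0, 2, 2, 0, 0, 0, 0, 0, 0, 0, 0, 0, 0, 0, 0, 0, 0, 0, 0, 0, 0, 0, 0, 0, 0, 0, 0, 0, 0, 0, 0, 0, 0, 0, 0, 0, 0, 0, 0, 0, 0, 0, 0, 0, 0] : List ℤ), 13, 2),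
  (([0, 2, 0, 2, 0, 2, 2, 0, 0, 2, 2, 0, 2, 0, 2, 0, 0, 0, 0, 0, 0, 0, 0, 0, 0, 0, 0, 0, 0, 0, 0, 0, 0, 0, 0, 0, 0, 0, 0, 0, 0, 0, 0, 0, 0, 0, 0, 0, 0, 0, 0, 0, 0, 0, 0, 0] : List ℤ), 14, 2),
  (([2, 0, 0, 2, 2, 0, 2, 0, 2, 0, 2, 0, 2, 0, 0, 2, 0, 0, 0, 0, 0, 0, 0, 0, 0, 0, 0, 0, 0, 0, 0, 0, 0, 0, 0, 0, 0, 0, 0, 0, 0, 0, 0, 0, 0, 0, 0, 0, 0, 0, 0, 0, 0, 0, 0, 0] : List ℤ), 15, 2),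
  (([0, 0, 2, 2, 2, 2, 0, 0, 0, 0, 0, 0, 0, 0, 0, 0, 2, 2, 2, 2, 0, 0, 0, 0, 0, 0, 0, 0, 0, 0, 0, 0, 0, 0, 0, 0, 0, 0, 0, 0, 0, 0, 0, 0, 0, 0, 0, 0, 0, 0, 0, 0, 0, 0, 0, 0] : List ℤ), 19, 2),
  (([0, 2, 0, 2, 0, 2, 2, 0, 0, 0, 0, 0, 0, 0, 0, 0, 2, 2, 0, 0, 2, 2, 0, 0, 0, 0, 0, 0, 0, 0, 0, 0, 0, 0, 0, 0, 0, 0, 0, 0, 0, 0, 0, 0, 0, 0, 0, 0, 0, 0, 0, 0, 0, 0, 0, 0] : List ℤ), 21, 2),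
  (([2, 0, 0, 2, 2, 0, 2, 0, 0, 0, 0, 0, 0, 0, 0, 0, 0, 2, 2, 0, 2, 0, 2, 0, 0, 0, 0, 0, 0, 0, 0, 0, 0, 0, 0, 0, 0, 0, 0, 0, 0, 0, 0, 0, 0, 0, 0, 0, 0, 0, 0, 0, 0, 0, 0, 0] : List ℤ), 22, 2),
  (([2, 2, 2, 2, 0, 0, 0, 0, 0, 0, 0, 0, 0, 0, 0, 0, 2, 0, 2, 0, 2, 0, 0, 2, 0, 0, 0, 0, 0, 0, 0, 0, 0, 0, 0, 0, 0, 0, 0, 0, 0, 0, 0, 0, 0, 0, 0, 0, 0, 0, 0, 0, 0, 0, 0, 0] : List ℤ), 23, 2),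
  (([0, 2, 2, 2, 2, 0, 0, 0, 0, 0, 2, 0, 2, 0, 0, 0, 0, 0, 0, 0, 0, 0, 0, 0, 2, 2, 0, 0, 0, 0, 0, 0, 0, 0, 0, 0, 0, 0, 0, 0, 0, 0, 0, 0, 0, 0, 0, 0, 0, 0, 0, 0, 0, 0, 0, 0] : List ℤ), 25, 2),
  (([0, 2, 2, 2, 0, 2, 0, 0, 2, 2, 0, 0, 0, 0, 0, 0, 0, 0, 0, 0, 0, 0, 0, 0, 2, 0, 2, 0, 0, 0, 0, 0, 0, 0, 0, 0, 0, 0, 0, 0, 0, 0, 0, 0, 0, 0, 0, 0, 0, 0, 0, 0, 0, 0, 0, 0] : List ℤ), 26, 2),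
  (([2, 2, 0, 0, 0, 0, 0, 0, 2, 2, 2, 0, 2, 0, 0, 0, 0, 0, 0, 0, 0, 0, 0, 0, 2, 0, 0, 2, 0, 0, 0, 0, 0, 0, 0, 0, 0, 0, 0, 0, 0, 0, 0, 0, 0, 0, 0, 0, 0, 0, 0, 0, 0, 0, 0, 0] : List ℤ), 27, 2),
  (([2, 0, 0, 0, 0, 0, 2, 0, 2, 0, 2, 0, 0, 0, 0, 0, 0, 0, 0, 0, 0, 0, 0, 0, 2, 0, 0, 0, 2, 0, 0, 0, 0, 0, 0, 0, 0, 0, 0, 0, 0, 0, 0, 0, 0, 0, 0, 0, 0, 0, 0, 0, 0, 0, 0, 0] : List ℤ), 28, 2),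
  (([0, 2, 2, 0, 0, 0, 0, 0, 2, 0, 0, 0, 2, 0, 0, 0, 0, 0, 0, 0, 0, 0, 0, 0, 2, 0, 0, 0, 0, 2, 0, 0, 0, 0, 0, 0, 0, 0, 0, 0, 0, 0, 0, 0, 0, 0, 0, 0, 0, 0, 0, 0, 0, 0, 0, 0] : List ℤ), 29, 2),
  (([0, 2, 2, 2, 2, 2, 2, 0, 0, 2, 0, 0, 2, 0, 0, 0, 0, 0, 0, 0, 0, 0, 0, 0, 2, 0, 0, 0, 0, 0, 2, 0, 0, 0, 0, 0, 0, 0, 0, 0, 0, 0, 0, 0, 0, 0, 0, 0, 0, 0, 0, 0, 0, 0, 0, 0] : List ℤ), 30, 2),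
  (([0, 2, 0, 2, 0, 0, 0, 0, 0, 2, 2, 0, 0, 0, 0, 0, 0, 0, 0, 0, 0, 0, 0, 0, 2, 0, 0, 0, 0, 0, 0, 2, 0, 0, 0, 0, 0, 0, 0, 0, 0, 0, 0, 0, 0, 0, 0, 0, 0, 0, 0, 0, 0, 0, 0, 0] : List ℤ), 31, 2),
  (([2, 0, 2, 0, 0, 2, 2, 0, 2, 0, 0, 0, 2, 0, 0, 0, 0, 0, 2, 0, 2, 0, 0, 0, 0, 0, 0, 0, 0, 0, 0, 0, 2, 2, 0, 0, 0, 0, 0, 0, 0, 0, 0, 0, 0, 0, 0, 0, 0, 0, 0, 0, 0, 0, 0, 0] : List ℤ), 33, 2),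
  (([2, 2, 0, 0, 2, 2, 0, 0, 0, 2, 0, 0, 2, 0, 0, 0, 2, 2, 0, 0, 0, 0, 0, 0, 0, 0, 0, 0, 0, 0, 0, 0, 2, 0, 2, 0, 0, 0, 0, 0, 0, 0, 0, 0, 0, 0, 0, 0, 0, 0, 0, 0, 0, 0, 0, 0] : List ℤ), 34, 2),
  (([0, 0, 0, 0, 0, 0, 0, 0, 2, 2, 0, 0, 0, 0, 0, 0, 2, 2, 2, 0, 2, 0, 0, 0, 0, 0, 0, 0, 0, 0, 0, 0, 2, 0, 0, 2, 0, 0, 0, 0, 0, 0, 0, 0, 0, 0, 0, 0, 0, 0, 0, 0, 0, 0, 0, 0] : List ℤ), 35, 2),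
  (([0, 2, 0, 2, 0, 2, 2, 0, 2, 2, 2, 0, 2, 0, 0, 0, 2, 0, 2, 0, 0, 0, 0, 0, 0, 0, 0, 0, 0, 0, 0, 0, 2, 0, 0, 0, 2, 0, 0, 0, 0, 0, 0, 0, 0, 0, 0, 0, 0, 0, 0, 0, 0, 0, 0, 0] : List ℤ), 36, 2),
  (([0, 0, 0, 0, 0, 0, 0, 0, 0, 2, 2, 0, 0, 0, 0, 0, 2, 0, 0, 0, 2, 0, 0, 0, 0, 0, 0, 0, 0, 0, 0, 0, 2, 0, 0, 0, 0, 2, 0, 0, 0, 0, 0, 0, 0, 0, 0, 0, 0, 0, 0, 0, 0, 0, 0, 0] : List ℤ), 37, 2),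
  (([2, 0, 0, 2, 2, 0, 2, 0, 0, 0, 2, 0, 2, 0, 0, 0, 0, 2, 0, 0, 2, 0, 0, 0, 0, 0, 0, 0, 0, 0, 0, 0, 2, 0, 0, 0, 0, 0, 2, 0, 0, 0, 0, 0, 0, 0, 0, 0, 0, 0, 0, 0, 0, 0, 0, 0] : List ℤ), 38, 2),
  (([2, 0, 2, 0, 0, 2, 2, 0, 2, 0, 2, 0, 0, 0, 0, 0, 0, 2, 2, 0, 0, 0, 0, 0, 0, 0, 0, 0, 0, 0, 0, 0, 2, 0, 0, 0, 0, 0, 0, 2, 0, 0, 0, 0, 0, 0, 0, 0, 0, 0, 0, 0, 0, 0, 0, 0] : List ℤ), 39, 2),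
  (([2, 2, 0, 0, 2, 0, 2, 0, 0, 2, 2, 0, 0, 0, 0, 0, 2, 0, 0, 0, 2, 0, 0, 0, 0, 0, 0, 0, 0, 0, 0, 0, 0, 0, 0, 0, 0, 0, 0, 0, 2, 2, 0, 0, 0, 0, 0, 0, 0, 0, 0, 0, 0, 0, 0, 0] : List ℤ), 41, 2),
  (([0, 0, 0, 2, 0, 0, 2, 0, 0, 0, 2, 0, 2, 0, 0, 0, 0, 2, 0, 0, 2, 0, 0, 0, 0, 0, 0, 0, 0, 0, 0, 0, 0, 0, 0, 0, 0, 0, 0, 0, 2, 0, 2, 0, 0, 0, 0, 0, 0, 0, 0, 0, 0, 0, 0, 0] : List ℤ), 42, 2),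
  (([2, 0, 0, 0, 2, 2, 2, 0, 0, 2, 0, 0, 2, 0, 0, 0, 2, 2, 0, 0, 0, 0, 0, 0, 0, 0, 0, 0, 0, 0, 0, 0, 0, 0, 0, 0, 0, 0, 0, 0, 2, 0, 0, 2, 0, 0, 0, 0, 0, 0, 0, 0, 0, 0, 0, 0] : List ℤ), 43, 2),
  (([2, 2, 2, 0, 2, 2, 2, 0, 2, 2, 0, 0, 0, 0, 0, 0, 2, 2, 2, 0, 2, 0, 0, 0, 0, 0, 0, 0, 0, 0, 0, 0, 0, 0, 0, 0, 0, 0, 0, 0, 2, 0, 0, 0, 2, 0, 0, 0, 0, 0, 0, 0, 0, 0, 0, 0] : List ℤ), 44, 2),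
  (([2, 0, 0, 0, 0, 0, 2, 0, 2, 0, 2, 0, 0, 0, 0, 0, 0, 2, 2, 0, 0, 0, 0, 0, 0, 0, 0, 0, 0, 0, 0, 0, 0, 0, 0, 0, 0, 0, 0, 0, 2, 0, 0, 0, 0, 2, 0, 0, 0, 0, 0, 0, 0, 0, 0, 0] : List ℤ), 45, 2),
  (([0, 0, 0, 0, 2, 0, 2, 0, 2, 0, 0, 0, 2, 0, 0, 0, 0, 0, 2, 0, 2, 0, 0, 0, 0, 0, 0, 0, 0, 0, 0, 0, 0, 0, 0, 0, 0, 0, 0, 0, 2, 0, 0, 0, 0, 0, 2, 0, 0, 0, 0, 0, 0, 0, 0, 0] : List ℤ), 46, 2),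
  (([0, 0, 2, 2, 0, 0, 0, 0, 2, 2, 2, 0, 2, 0, 0, 0, 2, 0, 2, 0, 0, 0, 0, 0, 0, 0, 0, 0, 0, 0, 0, 0, 0, 0, 0, 0, 0, 0, 0, 0, 2, 0, 0, 0, 0, 0, 0, 2, 0, 0, 0, 0, 0, 0, 0, 0] : List ℤ), 47, 2),
  (([2, 2, 0, 2, 0, 2, 0, 0, 0, 0, 0, 0, 0, 0, 0, 0, 0, 2, 2, 0, 0, 0, 0, 0, 0, 0, 0, 0, 0, 0, 0, 0, 0, 0, 0, 0, 0, 0, 0, 0, 0, 0, 0, 0, 0, 0, 0, 0, 2, 2, 0, 0, 0, 0, 0, 0] : List ℤ), 49, 2),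
  (([0, 0, 0, 0, 2, 0, 2, 0, 0, 0, 0, 0, 0, 0, 0, 0, 0, 0, 2, 0, 2, 0, 0, 0, 0, 0, 0, 0, 0, 0, 0, 0, 0, 0, 0, 0, 0, 0, 0, 0, 0, 0, 0, 0, 0, 0, 0, 0, 2, 0, 2, 0, 0, 0, 0, 0] : List ℤ), 50, 2),
  (([0, 2, 0, 0, 0, 2, 0, 0, 0, 0, 0, 0, 0, 0, 0, 0, 0, 2, 0, 0, 2, 0, 0, 0, 0, 0, 0, 0, 0, 0, 0, 0, 0, 0, 0, 0, 0, 0, 0, 0, 0, 0, 0, 0, 0, 0, 0, 0, 2, 0, 0, 2, 0, 0, 0, 0] : List ℤ), 51, 2),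
  (([2, 0, 2, 2, 0, 0, 2, 0, 0, 0, 0, 0, 0, 0, 0, 0, 2, 2, 0, 0, 0, 0, 0, 0, 0, 0, 0, 0, 0, 0, 0, 0, 0, 0, 0, 0, 0, 0, 0, 0, 0, 0, 0, 0, 0, 0, 0, 0, 2, 0, 0, 0, 2, 0, 0, 0] : List ℤ), 52, 2),
  (([0, 2, 0, 2, 2, 0, 2, 0, 0, 0, 0, 0, 0, 0, 0, 0, 2, 0, 2, 0, 0, 0, 0, 0, 0, 0, 0, 0, 0, 0, 0, 0, 0, 0, 0, 0, 0, 0, 0, 0, 0, 0, 0, 0, 0, 0, 0, 0, 2, 0, 0, 0, 0, 2, 0, 0] : List ℤ), 53, 2),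
  (([2, 0, 2, 0, 0, 0, 0, 0, 0, 0, 0, 0, 0, 0, 0, 0, 2, 0, 0, 0, 2, 0, 0, 0, 0, 0, 0, 0, 0, 0, 0, 0, 0, 0, 0, 0, 0, 0, 0, 0, 0, 0, 0, 0, 0, 0, 0, 0, 2, 0, 0, 0, 0, 0, 2, 0] : List ℤ), 54, 2),
  (([2, 2, 0, 2, 0, 0, 2, 0, 0, 0, 0, 0, 0, 0, 0, 0, 2, 2, 2, 0, 2, 0, 0, 0, 0, 0, 0, 0, 0, 0, 0, 0, 0, 0, 0, 0, 0, 0, 0, 0, 0, 0, 0, 0, 0, 0, 0, 0, 2, 0, 0, 0, 0, 0, 0, 2] : List ℤ), 55, 2)]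

/-- The generators (as lists of 56 integers). -/
def gens : List (List ℤ) := steps.map (fun s => s.1)

/-- Parity masks of the first 19 generators, with their pivot coordinates. -/
def GP : List (ℕ × ℕ) := [
  (59174367602444417, 0),
  (47870627152945282, 1),
  (22676887877200004, 2),
  (50248028323889288, 3),
  (10232348377915536, 4),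
  (2841783434758304, 5),
  (50804937564678336, 6),
  (264545222306048, 8),
  (169585911294464, 9),
  (183552306105344, 10),
  (224671517700096, 12),
  (67723576910348288, 16),
  (43413993291382784, 17),
  (46989390362968064, 18),
  (57515908531224576, 20),
  (4278190080, 24),
  (1095216660480, 32),
  (280375465082880, 40),
  (71776119061217280, 48)]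

/-- One test vector per block. -/
def blockW : List (List ℤ) := [
  ([0, 0, 0, 0, 0, 0, 2, 0, 2, 0, 2, 0, 1, -1, -1, -1, 0, 0, 0, 2, 0, 2, 2, 0, 2, 1, 2, -1, 0, 1, 1, 0, 2, 1, -1, 2, 1, 0, -1, 0, 2, 2, -1, -1, 2, 2, -1, -1, 0, 2, 0, 0, 2, 0, 2, 2] : List ℤ),
  ([0, 0, 0, 0, 2, 0, 0, 2, 2, 0, 0, 2, 2, 0, 0, 0, 2, 2, 0, 2, -1, 1, -1, 1, 2, 0, 0, 0, 2, 0, 0, 2, 0, 1, 2, -1, 0, -1, 1, 0, 0, 1, -1, 2, -1, 2, -1, 2, 0, 2, 1, -1, 2, 2, 1, 1] : List ℤ),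
  ([0, 0, 0, 0, 0, 0, 0, 0, -1, 0, 0, -1, 0, 1, 2, -1, 0, 0, 0, 0, 0, 2, 0, 0, 2, 0, -1, -1, 1, 1, 0, 2, 0, -1, 2, -1, 1, 0, 2, 1, 0, 0, 0, 0, 1, -1, 1, 1, 0, 2, 2, 2, 2, 0, 2, 2] : List ℤ),
  ([0, 0, 0, 0, 0, 2, 2, 0, 0, 0, 0, 0, 2, 0, 0, 2, 1, 2, 2, 1, 0, -1, 2, 1, 2, 0, 2, 2, 0, 0, 2, 2, 0, 0, 1, -1, -1, 1, 2, 2, 0, -1, 2, 1, 1, 0, 2, -1, 2, 2, 0, 0, -1, -1, -1, 1] : List ℤ),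
  ([0, 0, 0, 0, 0, 0, 2, 0, 2, 0, 2, 0, 0, 0, 0, 2, 0, 2, 0, 0, 2, 0, 2, 0, 1, 1, -1, 1, -1, -1, 1, -1, 2, 2, 2, 2, 0, 0, 2, 0, 2, 0, 2, 0, 0, 0, 2, 0, 2, 0, 0, 2, 2, 2, 2, 0] : List ℤ),
  ([0, 0, 0, 0, 0, 0, 2, 0, 2, 0, 2, 0, 0, 0, 0, 2, 0, 2, 0, 0, 2, 0, 2, 0, 1, 1, -1, 1, -1, -1, 1, -1, 2, 2, 2, 2, 0, 0, 2, 0, 2, 0, 2, 0, 0, 0, 2, 0, 2, 0, 0, 2, 2, 2, 2, 0] : List ℤ),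
  ([0, 0, 0, 0, 0, 2, 0, 2, 2, -1, 0, 1, 0, 1, -1, 2, 2, 2, 2, 0, 2, 2, 2, 0, 0, 2, 1, 1, 0, 2, -1, -1, 2, 0, -1, -1, 1, 1, 2, 2, 2, -1, 0, 1, -1, 0, 2, 1, 2, 0, 2, 2, 2, 2, 0, 0] : List ℤ)]

end Cfsg.Agent.Lib.Helper92.Ru
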