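import Mathlib
import Cfsg.Prelude.Def_Spor_Ru
import Cfsg.Agent.Lib.Helper92.RuBasic
import Cfsg.Agent.Lib.Helper92.RuData

/-!
The explicit lattice `K ⊇ ruLattice`: the additive closure of 56 generators and `4ℤ⁵⁶`.
Membership certificates by reduction; closure under the five generating maps.
-/

set_option autoImplicit false

namespace Cfsg.Agent.Lib.Helper92.Ru

open Cfsg.Spor

/-- Vectors all of whose coordinates are divisible by 4. -/
def Four : Set RuVec := {x | ∀ p, (4 : ℤ) ∣ (x p).re ∧ (4 : ℤ) ∣ (x p).im}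

/-- Generating set of `K`. -/
def genSet : Set RuVec := {x | ∃ l ∈ gens, x = toRu l} ∪ Four

/-- The explicit lattice. -/
def K : AddSubgroup RuVec := AddSubgroup.closure genSet

theorem four_rc {x : RuVec} (hx : x ∈ Four) (j : ℕ) : (4 : ℤ) ∣ rc x j := by
  unfold rc
  split
  · exact (hx _).1
  · exact (hx _).2

theorem four_mem_K {x : RuVec} (hx : x ∈ Four) : x ∈ K :=
  AddSubgroup.subset_closure (Or.inr hx)

theorem gen_mem_K {l : List ℤ} (hl : l ∈ gens) : toRu l ∈ K :=
  AddSubgroup.subset_closure (Or.inl ⟨l, hl, rfl⟩)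

theorem getD_dvd (v : List ℤ) (h : ∀ a ∈ v, (4 : ℤ) ∣ a) (k : ℕ) : (4 : ℤ) ∣ v.getD k 0 := by
  rw [List.getD_eq_getElem?_getD]
  cases hk : v[k]? with
  | none => simp
  | some a => simpa using h a (List.mem_of_getElem? hk)

theorem toRu_four (v : List ℤ) (h : ∀ a ∈ v, (4 : ℤ) ∣ a) : toRu v ∈ Four :=
  fun _ => ⟨getD_dvd v h _, getD_dvd v h _⟩

/-- One reduction step. -/
def redStep (v : List ℤ) (s : List ℤ × ℕ × ℤ) : List ℤ :=
  if v.getD s.2.1 0 / s.2.2 % 2 = 0 then v else List.zipWith (fun a b => a - b) v s.1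

/-- Reduce a vector by all the generators. -/
def reduce (v : List ℤ) : List ℤ := steps.foldl redStep v

theorem getD_zipWith_sub : ∀ (v g : List ℤ), v.length = g.length → ∀ j,
    (List.zipWith (fun a b => a - b) v g).getD j 0 = v.getD j 0 - g.getD j 0
  | [], [], _, j => by simp
  | a :: v, b :: g, _, 0 => by simp
  | a :: v, b :: g, h, j+1 => by simpa using getD_zipWith_sub v g (by simpa using h) j
  | [], _ :: _, h, _ => by simp at h
  | _ :: _, [], h, _ => by simp at h

theorem toRu_zipWith_sub (v g : List ℤ) (h : v.length = g.length) :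
    toRu v = toRu (List.zipWith (fun a b => a - b) v g) + toRu g := by
  funext p
  have h1 := getD_zipWith_sub v g h (8 * p.1.val + 2 * p.2.val)
  have h2 := getD_zipWith_sub v g h (8 * p.1.val + 2 * p.2.val + 1)
  simp only [List.getD_eq_getElem?_getD] at h1 h2
  ext
  · simp [toRu]; linarith
  · simp [toRu]; linarith

theorem mem_K_of_foldl : ∀ (S : List (List ℤ × ℕ × ℤ)),
    (∀ s ∈ S, s.1.length = 56 ∧ toRu s.1 ∈ K) → ∀ v : List ℤ, v.length = 56 →
    toRu (S.foldl redStep v) ∈ K → toRu v ∈ K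
  | [], _, _, _, h => h
  | s :: S, hS, v, hv, h => by
    have hs := hS s (List.mem_cons_self ..)
    have hS' : ∀ t ∈ S, t.1.length = 56 ∧ toRu t.1 ∈ K := fun t ht => hS t (List.mem_cons_of_mem _ ht)
    rw [List.foldl_cons] at h
    by_cases hc : v.getD s.2.1 0 / s.2.2 % 2 = 0
    · rw [redStep, if_pos hc] at h
      exact mem_K_of_foldl S hS' v hv h
    · rw [redStep, if_neg hc] at h
      have hlen : (List.zipWith (fun a b => a - b) v s.1).length = 56 := by simp [hv, hs.1]
      have h1 := mem_K_of_foldl S hS' _ hlen h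
      rw [toRu_zipWith_sub v s.1 (by rw [hv, hs.1])]
      exact K.add_mem h1 hs.2

theorem steps_len : ∀ s ∈ steps, s.1.length = 56 := by decide +kernel

theorem mem_K_of_reduce (v : List ℤ) (hv : v.length = 56) (h : ∀ a ∈ reduce v, (4 : ℤ) ∣ a) :
    toRu v ∈ K := by
  refine mem_K_of_foldl steps (fun s hs => ⟨steps_len s hs, ?_⟩) v hv (four_mem_K (toRu_four _ h))
  exact gen_mem_K (List.mem_map_of_mem hs)

theorem ofRu_len (x : RuVec) : (ofRu x).length = 56 := by simp [ofRu]

theorem mem_K_of_reduce' (x : RuVec) (h : ∀ a ∈ reduce (ofRu x), (4 : ℤ) ∣ a) : x ∈ K := by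
  rw [← toRu_ofRu x]
  exact mem_K_of_reduce _ (ofRu_len x) h

end Cfsg.Agent.Lib.Helper92.Ru
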