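import Mathlib
import Cfsg.Prelude.Def_Spor_Ru
import Cfsg.Agent.Lib.Helper92.RuK

/-!
`K` contains the generating vectors of the Rudvalis lattice and is closed under the five maps;
hence `ruLattice ≤ K`.
-/

set_option autoImplicit false

namespace Cfsg.Agent.Lib.Helper92.Ru

open Cfsg.Spor

theorem table_red : ∀ v ∈ ruTable, ∀ a ∈ reduce (ofRu v), (4 : ℤ) ∣ a := by decide +kernel

theorem table_mem_K : ∀ v ∈ ruTable, v ∈ K := fun v hv => mem_K_of_reduce' v (table_red v hv)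

theorem gI_red : ∀ l ∈ gens, ∀ a ∈ reduce (ofRu (gI • toRu l)), (4 : ℤ) ∣ a := by decide +kernel
theorem rj_red : ∀ l ∈ gens, ∀ a ∈ reduce (ofRu (ruRj (toRu l))), (4 : ℤ) ∣ a := by decide +kernel
theorem rk_red : ∀ l ∈ gens, ∀ a ∈ reduce (ofRu (ruRk (toRu l))), (4 : ℤ) ∣ a := by decide +kernel
theorem sign_red : ∀ l ∈ gens, ∀ a ∈ reduce (ofRu (ruSign (toRu l))), (4 : ℤ) ∣ a := by
  decide +kernel
theorem shift_red : ∀ l ∈ gens, ∀ a ∈ reduce (ofRu (ruShift (toRu l))), (4 : ℤ) ∣ a := by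
  decide +kernel

end Cfsg.Agent.Lib.Helper92.Ru
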