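import Mathlib
import Cfsg.Agent.Lib.Helper92.RuData

/-!
Enumeration of the binary residue code of the Rudvalis lattice (2^19 words): every word of weight
at most 8 is zero or one of the seven block words.  Definitions, the weight function and the
splitting lemma.
-/

set_option autoImplicit false

namespace Cfsg.Agent.Lib.Helper92.Ru

/-- Table of the numbers of set bits of the 256 bytes, 4 bits each. -/
def pcT : ℕ := 95125173855764218123276304889944061997689682402263585766959741291920687686033329201817409157123347502415384089435969498586180241031507595463600295898153685276653211633572815512294064538494957912327413386667662218713394765509704508661031522276467630197481635010039778342554499416459730172574551513689147646224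

/-- Number of set bits among the bits `s, …, s + 7` of `m`. -/
def pcb (m s : ℕ) : ℕ :=
  Nat.mod (Nat.shiftRight pcT (Nat.mul 4 (Nat.mod (Nat.shiftRight m s) 256))) 16

/-- Weight of the three lowest bytes. -/
def w3 (m : ℕ) : ℕ := Nat.add (Nat.add (pcb m 0) (pcb m 8)) (pcb m 16)

/-- Weight of the next four bytes. -/
def w4 (m : ℕ) : ℕ := Nat.add (Nat.add (Nat.add (pcb m 24) (pcb m 32)) (pcb m 40)) (pcb m 48)

/-- The zero word and the seven block words. -/
def specials : List ℕ :=
  [0, 255, 255 <<< 8, 255 <<< 16, 255 <<< 24, 255 <<< 32, 255 <<< 40, 255 <<< 48]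

/-- A word is good if it has weight more than 8 or is special. -/
def good (m : ℕ) : Bool :=
  Nat.blt 8 (w3 m) || Nat.blt 8 (Nat.add (w3 m) (w4 m)) || specials.contains m

/-- All words in the coset `acc + span L` are good. -/
def allGood : List (ℕ × ℕ) → ℕ → Bool
  | [], acc => good acc
  | gp :: L, acc => allGood L acc && allGood L (Nat.xor acc gp.1)

/-- All the sums of sub-families of `P`, added to `a`. -/
def accs : List (ℕ × ℕ) → ℕ → List ℕ
  | [], a => [a]
  | gp :: P, a => accs P a ++ accs P (Nat.xor a gp.1)

theorem allGood_append : ∀ (P L : List (ℕ × ℕ)) (a : ℕ),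
    allGood (P ++ L) a = (accs P a).all (fun b => allGood L b)
  | [], L, a => by simp [accs]
  | gp :: P, L, a => by simp [allGood, accs, allGood_append P L, List.all_append]

theorem pcT_spec : ∀ v < 256, (pcT >>> (4 * v)) % 16
    = ∑ b ∈ Finset.range 8, if v.testBit b then 1 else 0 := by decide +kernel

theorem pcb_eq (m s : ℕ) : pcb m s = ∑ b ∈ Finset.range 8, if m.testBit (s + b) then 1 else 0 := by
  have hv : (m >>> s) % 256 < 256 := Nat.mod_lt _ (by norm_num)
  have h := pcT_spec _ hv
  show (pcT >>> (4 * ((m >>> s) % 256))) % 16 = _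
  rw [h]
  refine Finset.sum_congr rfl (fun b hb => ?_)
  have hb8 : b < 8 := Finset.mem_range.mp hb
  have : ((m >>> s) % 256).testBit b = m.testBit (s + b) := by
    rw [show (256 : ℕ) = 2 ^ 8 by norm_num, Nat.testBit_mod_two_pow, Nat.testBit_shiftRight]
    simp [hb8]
  rw [this]

theorem sum_blocks {M : Type*} [AddCommMonoid M] (f : ℕ → M) (k : ℕ) :
    ∑ j ∈ Finset.range (8 * k), f j = ∑ i ∈ Finset.range k, ∑ b ∈ Finset.range 8, f (8 * i + b) := by
  induction k with
  | zero => simp
  | succ k ih => rw [Nat.mul_succ, Finset.sum_range_add, ih, Finset.sum_range_succ _ k]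

theorem wt_eq (m : ℕ) :
    w3 m + w4 m = ∑ j ∈ Finset.range 56, if m.testBit j then 1 else 0 := by
  rw [show (56 : ℕ) = 8 * 7 by norm_num, sum_blocks]
  show pcb m 0 + pcb m 8 + pcb m 16 + (pcb m 24 + pcb m 32 + pcb m 40 + pcb m 48) = _
  simp only [pcb_eq, Finset.sum_range_succ (n := 6), Finset.sum_range_succ (n := 5),
    Finset.sum_range_succ (n := 4), Finset.sum_range_succ (n := 3), Finset.sum_range_succ (n := 2),
    Finset.sum_range_succ (n := 1), Finset.sum_range_succ (n := 0), Finset.sum_range_zero]
  norm_num
  ring

theorem good_imp {m : ℕ} (h : good m = true) : 8 < w3 m + w4 m ∨ m ∈ specials := by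
  unfold good at h
  rcases Bool.or_eq_true_iff.mp h with h | h
  · rcases Bool.or_eq_true_iff.mp h with h | h
    · left
      have : 8 < w3 m := Nat.blt_eq.mp h
      omega
    · left
      exact Nat.blt_eq.mp h
  · right
    simpa using h

end Cfsg.Agent.Lib.Helper92.Ru
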