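import Mathlib
import Cfsg.Agent.Lib.Helper92.RuEnum

/-!
Enumeration of the binary residue code of the Rudvalis lattice, part A.
-/

set_option autoImplicit false

namespace Cfsg.Agent.Lib.Helper92.Ru

set_option maxHeartbeats 0 in
theorem enum_0 : allGood (GP.drop 6) 0 = true := by decide +kernel

set_option maxHeartbeats 0 in
theorem enum_1 : allGood (GP.drop 6) 2841783434758304 = true := by decide +kernel

set_option maxHeartbeats 0 in
theorem enum_2 : allGood (GP.drop 6) 10232348377915536 = true := by decide +kernel

set_option maxHeartbeats 0 in
theorem enum_3 : allGood (GP.drop 6) 13021318746269744 = true := by decide +kernel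

set_option maxHeartbeats 0 in
theorem enum_4 : allGood (GP.drop 6) 50248028323889288 = true := by decide +kernel

set_option maxHeartbeats 0 in
theorem enum_5 : allGood (GP.drop 6) 51963772125874216 = true := by decide +kernel

set_option maxHeartbeats 0 in
theorem enum_6 : allGood (GP.drop 6) 42465426212413464 = true := by decide +kernel

set_option maxHeartbeats 0 in
theorem enum_7 : allGood (GP.drop 6) 44128361245059256 = true := by decide +kernel

set_option maxHeartbeats 0 in
theorem enum_8 : allGood (GP.drop 6) 22676887877200004 = true := by decide +kernel

set_option maxHeartbeats 0 in
theorem enum_9 : allGood (GP.drop 6) 25482367965618212 = true := by decide +kernel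

set_option maxHeartbeats 0 in
theorem enum_10 : allGood (GP.drop 6) 32874049667368980 = true := by decide +kernel

set_option maxHeartbeats 0 in
theorem enum_11 : allGood (GP.drop 6) 35697089730625716 = true := by decide +kernel

set_option maxHeartbeats 0 in
theorem enum_12 : allGood (GP.drop 6) 63636239603001356 = true := by decide +kernel

set_option maxHeartbeats 0 in
theorem enum_13 : allGood (GP.drop 6) 65315684624146604 = true := by decide +kernel

set_option maxHeartbeats 0 in
theorem enum_14 : allGood (GP.drop 6) 55818455335061660 = true := by decide +kernel

set_option maxHeartbeats 0 in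
theorem enum_15 : allGood (GP.drop 6) 57515456033980476 = true := by decide +kernel

end Cfsg.Agent.Lib.Helper92.Ru
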