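import Mathlib
import Cfsg.Agent.Lib.Helper92.RuEnum

/-!
Enumeration of the binary residue code of the Rudvalis lattice, part B.
-/

set_option autoImplicit false

namespace Cfsg.Agent.Lib.Helper92.Ru

set_option maxHeartbeats 0 in
theorem enum_16 : allGood (GP.drop 6) 47870627152945282 = true := by decide +kernel

set_option maxHeartbeats 0 in
theorem enum_17 : allGood (GP.drop 6) 45047552596781090 = true := by decide +kernel

set_option maxHeartbeats 0 in
theorem enum_18 : allGood (GP.drop 6) 40048958028431378 = true := by decide +kernel

set_option maxHeartbeats 0 in
theorem enum_19 : allGood (GP.drop 6) 37243512164485298 = true := by decide +kernel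

set_option maxHeartbeats 0 in
theorem enum_20 : allGood (GP.drop 6) 6920618918846474 = true := by decide +kernel

set_option maxHeartbeats 0 in
theorem enum_21 : allGood (GP.drop 6) 5223583993358506 = true := by decide +kernel

set_option maxHeartbeats 0 in
theorem enum_22 : allGood (GP.drop 6) 17112800753090714 = true := by decide +kernel

set_option maxHeartbeats 0 in
theorem enum_23 : allGood (GP.drop 6) 15433390226950202 = true := by decide +kernel

set_option maxHeartbeats 0 in
theorem enum_24 : allGood (GP.drop 6) 70512327218710534 = true := by decide +kernel

set_option maxHeartbeats 0 in
theorem enum_25 : allGood (GP.drop 6) 67723322623787174 = true := by decide +kernel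

set_option maxHeartbeats 0 in
theorem enum_26 : allGood (GP.drop 6) 62725844679846038 = true := by decide +kernel

set_option maxHeartbeats 0 in
theorem enum_27 : allGood (GP.drop 6) 59884095740092470 = true := by decide +kernel

set_option maxHeartbeats 0 in
theorem enum_28 : allGood (GP.drop 6) 20273647117699214 = true := by decide +kernel

set_option maxHeartbeats 0 in
theorem enum_29 : allGood (GP.drop 6) 18610677592145966 = true := by decide +kernel

set_option maxHeartbeats 0 in
theorem enum_30 : allGood (GP.drop 6) 30501011110504478 = true := by decide +kernel

set_option maxHeartbeats 0 in
theorem enum_31 : allGood (GP.drop 6) 28785301532991678 = true := by decide +kernel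

end Cfsg.Agent.Lib.Helper92.Ru
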