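import Mathlib
import Cfsg.Agent.Lib.Helper92.RuEnum

/-!
Enumeration of the binary residue code of the Rudvalis lattice, part C.
-/

set_option autoImplicit false

namespace Cfsg.Agent.Lib.Helper92.Ru

set_option maxHeartbeats 0 in
theorem enum_32 : allGood (GP.drop 6) 59174367602444417 = true := by decide +kernel

set_option maxHeartbeats 0 in
theorem enum_33 : allGood (GP.drop 6) 60836323520987169 = true := by decide +kernel

set_option maxHeartbeats 0 in
theorem enum_34 : allGood (GP.drop 6) 69348957251708945 = true := by decide +kernel

set_option maxHeartbeats 0 in
theorem enum_35 : allGood (GP.drop 6) 71063721939591345 = true := by decide +kernel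

set_option maxHeartbeats 0 in
theorem enum_36 : allGood (GP.drop 6) 27231152945776649 = true := by decide +kernel

set_option maxHeartbeats 0 in
theorem enum_37 : allGood (GP.drop 6) 30018869045231785 = true := by decide +kernel

set_option maxHeartbeats 0 in
theorem enum_38 : allGood (GP.drop 6) 19391891634186393 = true := by decide +kernel

set_option maxHeartbeats 0 in
theorem enum_39 : allGood (GP.drop 6) 22232420800045113 = true := by decide +kernel

set_option maxHeartbeats 0 in
theorem enum_40 : allGood (GP.drop 6) 36778958125572101 = true := by decide +kernel

set_option maxHeartbeats 0 in
theorem enum_41 : allGood (GP.drop 6) 38477212824955045 = true := by decide +kernel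

set_option maxHeartbeats 0 in
theorem enum_42 : allGood (GP.drop 6) 46988729931268245 = true := by decide +kernel

set_option maxHeartbeats 0 in
theorem enum_43 : allGood (GP.drop 6) 48669428952877109 = true := by decide +kernel

set_option maxHeartbeats 0 in
theorem enum_44 : allGood (GP.drop 6) 13561465413853325 = true := by decide +kernel

set_option maxHeartbeats 0 in
theorem enum_45 : allGood (GP.drop 6) 16385484859648045 = true := by decide +kernel

set_option maxHeartbeats 0 in
theorem enum_46 : allGood (GP.drop 6) 5757390689976349 = true := by decide +kernel

set_option maxHeartbeats 0 in
theorem enum_47 : allGood (GP.drop 6) 8563850160933053 = true := by decide +kernel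

end Cfsg.Agent.Lib.Helper92.Ru
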