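import Mathlib
import Cfsg.Agent.Lib.Helper92.RuEnum

/-!
Enumeration of the binary residue code of the Rudvalis lattice, part D.
-/

set_option autoImplicit false

namespace Cfsg.Agent.Lib.Helper92.Ru

set_option maxHeartbeats 0 in
theorem enum_48 : allGood (GP.drop 6) 33821883747067907 = true := by decide +kernel

set_option maxHeartbeats 0 in
theorem enum_49 : allGood (GP.drop 6) 32141218952028323 = true := by decide +kernel

set_option maxHeartbeats 0 in
theorem enum_50 : allGood (GP.drop 6) 26021689450580115 = true := by decide +kernel

set_option maxHeartbeats 0 in
theorem enum_51 : allGood (GP.drop 6) 24323400256192563 = true := by decide +kernel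

set_option maxHeartbeats 0 in
theorem enum_52 : allGood (GP.drop 6) 57047620455508107 = true := by decide +kernel

set_option maxHeartbeats 0 in
theorem enum_53 : allGood (GP.drop 6) 54241195477458987 = true := by decide +kernel

set_option maxHeartbeats 0 in
theorem enum_54 : allGood (GP.drop 6) 67262376646314011 = true := by decide +kernel

set_option maxHeartbeats 0 in
theorem enum_55 : allGood (GP.drop 6) 64438322976047291 = true := by decide +kernel

set_option maxHeartbeats 0 in
theorem enum_56 : allGood (GP.drop 6) 11461655236493447 = true := by decide +kernel

set_option maxHeartbeats 0 in
theorem enum_57 : allGood (GP.drop 6) 9746925041518631 = true := by decide +kernel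

set_option maxHeartbeats 0 in
theorem enum_58 : allGood (GP.drop 6) 3626278781476887 = true := by decide +kernel

set_option maxHeartbeats 0 in
theorem enum_59 : allGood (GP.drop 6) 1964288638462135 = true := by decide +kernel

set_option maxHeartbeats 0 in
theorem enum_60 : allGood (GP.drop 6) 43413118553948175 = true := by decide +kernel

set_option maxHeartbeats 0 in
theorem enum_61 : allGood (GP.drop 6) 40572623614658735 = true := by decide +kernel

set_option maxHeartbeats 0 in
theorem enum_62 : allGood (GP.drop 6) 53592688159137951 = true := by decide +kernel

set_option maxHeartbeats 0 in
theorem enum_63 : allGood (GP.drop 6) 50804937564678207 = true := by decide +kernel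

end Cfsg.Agent.Lib.Helper92.Ru
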