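import Mathlib
import Cfsg.Agent.Lib.Helper92.RuEnumA
import Cfsg.Agent.Lib.Helper92.RuEnumB
import Cfsg.Agent.Lib.Helper92.RuEnumC
import Cfsg.Agent.Lib.Helper92.RuEnumD

/-!
Enumeration of the binary residue code of the Rudvalis lattice: conclusion.
-/

set_option autoImplicit false

namespace Cfsg.Agent.Lib.Helper92.Ru

theorem accs_six : accs (GP.take 6) 0 = [0, 2841783434758304, 10232348377915536, 13021318746269744, 50248028323889288, 51963772125874216, 42465426212413464, 44128361245059256, 22676887877200004, 25482367965618212, 32874049667368980, 35697089730625716, 63636239603001356, 65315684624146604, 55818455335061660, 57515456033980476, 47870627152945282, 45047552596781090, 40048958028431378, 37243512164485298, 6920618918846474, 5223583993358506, 17112800753090714, 15433390226950202, 70512327218710534, 67723322623787174, 62725844679846038, 59884095740092470, 20273647117699214, 18610677592145966, 30501011110504478, 28785301532991678, 59174367602444417, 60836323520987169, 69348957251708945, 71063721939591345, 27231152945776649, 30018869045231785, 19391891634186393, 22232420800045113, 36778958125572101, 38477212824955045, 46988729931268245, 48669428952877109, 13561465413853325, 16385484859648045,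 5757390689976349, 8563850160933053, 33821883747067907, 32141218952028323, 26021689450580115, 24323400256192563, 57047620455508107, 54241195477458987, 67262376646314011, 64438322976047291, 11461655236493447, 9746925041518631, 3626278781476887, 1964288638462135, 43413118553948175, 40572623614658735, 53592688159137951, 50804937564678207] := by decide +kernel

theorem allGood_GP : allGood GP 0 = true := by
  have h : GP = GP.take 6 ++ GP.drop 6 := (List.take_append_drop 6 GP).symm
  rw [h, allGood_append, accs_six]
  simp only [List.all_cons, List.all_nil, enum_0, enum_1, enum_2, enum_3, enum_4, enum_5, enum_6, enum_7, enum_8, enum_9, enum_10, enum_11, enum_12, enum_13, enum_14, enum_15, enum_16, enum_17, enum_18, enum_19, enum_20, enum_21, enum_22, enum_23, enum_24, enum_25, enum_26, enum_27, enum_28, enum_29, enum_30, enum_31, enum_32, enum_33, enum_34, enum_35, enum_36, enum_37, enum_38, enum_39, enum_40, enum_41, enum_42, enum_43, enum_44, enum_45, enum_46, enum_47, enum_48, enum_49, enum_50, enum_51, enum_52, enum_53, enum_54, enum_55, enum_56, enum_57, enum_58, enum_59, enum_60, enum_61, enum_62, enum_63, Bool.and_self]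

end Cfsg.Agent.Lib.Helper92.Ru
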