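import Mathlib
import Cfsg.Prelude.Def_Spor_Ru
import Cfsg.Agent.Lib.Helper92.RuClosed

/-!
`K` is closed under the five maps generating the monomial group, so `ruLattice ≤ K`.
-/

set_option autoImplicit false

namespace Cfsg.Agent.Lib.Helper92.Ru

open Cfsg.Spor

theorem gI_mul_re (z : GaussianInt) : (gI * z).re = - z.im := by simp [gI]
theorem gI_mul_im (z : GaussianInt) : (gI * z).im = z.re := by simp [gI]

theorem rj_add (x y : RuVec) : ruRj (x + y) = ruRj x + ruRj y := by
  funext ⟨n, t⟩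
  fin_cases t <;> simp [ruRj, mul_add, add_comm]

theorem rj_neg (x : RuVec) : ruRj (-x) = - ruRj x := by
  funext ⟨n, t⟩
  fin_cases t <;> simp [ruRj]

theorem rj_zero : ruRj 0 = 0 := by
  funext ⟨n, t⟩
  fin_cases t <;> simp [ruRj]

theorem rj_four {x : RuVec} (hx : x ∈ Four) : ruRj x ∈ Four := by
  rintro ⟨n, t⟩
  fin_cases t <;> simp [ruRj, gI, (hx _).1, (hx _).2]

theorem rk_add (x y : RuVec) : ruRk (x + y) = ruRk x + ruRk y := by
  funext ⟨n, t⟩
  fin_cases t <;> simp [ruRk, mul_add, add_comm]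

theorem rk_neg (x : RuVec) : ruRk (-x) = - ruRk x := by
  funext ⟨n, t⟩
  fin_cases t <;> simp [ruRk]

theorem rk_zero : ruRk 0 = 0 := by
  funext ⟨n, t⟩
  fin_cases t <;> simp [ruRk]

theorem rk_four {x : RuVec} (hx : x ∈ Four) : ruRk x ∈ Four := by
  rintro ⟨n, t⟩
  fin_cases t <;> simp [ruRk, gI, (hx _).1, (hx _).2]

theorem sign_add (x y : RuVec) : ruSign (x + y) = ruSign x + ruSign y := by
  funext p
  by_cases h : p.1 = 0 ∨ p.1 = 3 ∨ p.1 = 5 ∨ p.1 = 6 <;> simp [ruSign, h, add_comm]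

theorem sign_neg (x : RuVec) : ruSign (-x) = - ruSign x := by
  funext p
  by_cases h : p.1 = 0 ∨ p.1 = 3 ∨ p.1 = 5 ∨ p.1 = 6 <;> simp [ruSign, h]

theorem sign_zero : ruSign 0 = 0 := by
  funext p
  by_cases h : p.1 = 0 ∨ p.1 = 3 ∨ p.1 = 5 ∨ p.1 = 6 <;> simp [ruSign, h]

theorem sign_four {x : RuVec} (hx : x ∈ Four) : ruSign x ∈ Four := by
  intro p
  by_cases h : p.1 = 0 ∨ p.1 = 3 ∨ p.1 = 5 ∨ p.1 = 6 <;> simp [ruSign, h, (hx _).1, (hx _).2]

theorem shift_add (x y : RuVec) : ruShift (x + y) = ruShift x + ruShift y := rfl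
theorem shift_neg (x : RuVec) : ruShift (-x) = - ruShift x := rfl
theorem shift_zero : ruShift 0 = 0 := rfl
theorem shift_four {x : RuVec} (hx : x ∈ Four) : ruShift x ∈ Four := fun _ => hx _

theorem gI_four {x : RuVec} (hx : x ∈ Four) : gI • x ∈ Four := by
  intro p
  simp [gI, (hx _).1, (hx _).2]

theorem gI_mem_K {x : RuVec} (hx : x ∈ K) : gI • x ∈ K := by
  induction hx using AddSubgroup.closure_induction with
  | mem x hx =>
    rcases hx with ⟨l, hl, rfl⟩ | hx
    · exact mem_K_of_reduce' _ (gI_red l hl)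
    · exact four_mem_K (gI_four hx)
  | zero => rw [smul_zero]; exact K.zero_mem
  | add x y _ _ hx hy => rw [smul_add]; exact K.add_mem hx hy
  | neg x _ hx => rw [smul_neg]; exact K.neg_mem hx

theorem rj_mem_K {x : RuVec} (hx : x ∈ K) : ruRj x ∈ K := by
  induction hx using AddSubgroup.closure_induction with
  | mem x hx =>
    rcases hx with ⟨l, hl, rfl⟩ | hx
    · exact mem_K_of_reduce' _ (rj_red l hl)
    · exact four_mem_K (rj_four hx)
  | zero => rw [rj_zero]; exact K.zero_mem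
  | add x y _ _ hx hy => rw [rj_add]; exact K.add_mem hx hy
  | neg x _ hx => rw [rj_neg]; exact K.neg_mem hx

theorem rk_mem_K {x : RuVec} (hx : x ∈ K) : ruRk x ∈ K := by
  induction hx using AddSubgroup.closure_induction with
  | mem x hx =>
    rcases hx with ⟨l, hl, rfl⟩ | hx
    · exact mem_K_of_reduce' _ (rk_red l hl)
    · exact four_mem_K (rk_four hx)
  | zero => rw [rk_zero]; exact K.zero_mem
  | add x y _ _ hx hy => rw [rk_add]; exact K.add_mem hx hy
  | neg x _ hx => rw [rk_neg]; exact K.neg_mem hx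

theorem sign_mem_K {x : RuVec} (hx : x ∈ K) : ruSign x ∈ K := by
  induction hx using AddSubgroup.closure_induction with
  | mem x hx =>
    rcases hx with ⟨l, hl, rfl⟩ | hx
    · exact mem_K_of_reduce' _ (sign_red l hl)
    · exact four_mem_K (sign_four hx)
  | zero => rw [sign_zero]; exact K.zero_mem
  | add x y _ _ hx hy => rw [sign_add]; exact K.add_mem hx hy
  | neg x _ hx => rw [sign_neg]; exact K.neg_mem hx

theorem shift_mem_K {x : RuVec} (hx : x ∈ K) : ruShift x ∈ K := by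
  induction hx using AddSubgroup.closure_induction with
  | mem x hx =>
    rcases hx with ⟨l, hl, rfl⟩ | hx
    · exact mem_K_of_reduce' _ (shift_red l hl)
    · exact four_mem_K (shift_four hx)
  | zero => rw [shift_zero]; exact K.zero_mem
  | add x y _ _ hx hy => rw [shift_add]; exact K.add_mem hx hy
  | neg x _ hx => rw [shift_neg]; exact K.neg_mem hx

theorem K_closed : K ∈ ruClosed :=
  ⟨table_mem_K, fun _ hv => ⟨gI_mem_K hv, rj_mem_K hv, rk_mem_K hv, sign_mem_K hv, shift_mem_K hv⟩⟩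

theorem ruLattice_le_K : ruLattice ≤ K := sInf_le K_closed

end Cfsg.Agent.Lib.Helper92.Ru
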