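import Mathlib
import Cfsg.Prelude.Def_Spor_Ru
import Cfsg.Agent.Lib.Helper92.RuK

/-!
Arithmetic properties of the explicit lattice `K`: inner products divisible by 4, norms divisible
by 8, and the parity of a vector is determined by 19 of its coordinates.
-/

set_option autoImplicit false

namespace Cfsg.Agent.Lib.Helper92.Ru

open Cfsg.Spor

theorem gram_gens : ∀ l ∈ gens, ∀ l' ∈ gens,
    (4 : ℤ) ∣ ∑ j ∈ Finset.range 56, l.getD j 0 * l'.getD j 0 := by decide +kernel

theorem norm_gens : ∀ l ∈ gens, (8 : ℤ) ∣ ∑ j ∈ Finset.range 56, l.getD j 0 * l.getD j 0 := by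
  decide +kernel

theorem ipR_four_left {x : RuVec} (hx : x ∈ Four) (y : RuVec) : (4 : ℤ) ∣ ipR x y :=
  Finset.dvd_sum (fun j _ => Dvd.dvd.mul_right (four_rc hx j) _)

theorem ipR_genSet {x y : RuVec} (hx : x ∈ genSet) (hy : y ∈ genSet) : (4 : ℤ) ∣ ipR x y := by
  rcases hx with ⟨l, hl, rfl⟩ | hx
  · rcases hy with ⟨l', hl', rfl⟩ | hy
    · rw [ipR_toRu]; exact gram_gens l hl l' hl'
    · rw [ipR_comm]; exact ipR_four_left hy _
  · exact ipR_four_left hx _

theorem ipR_K_genSet {x y : RuVec} (hx : x ∈ K) (hy : y ∈ genSet) : (4 : ℤ) ∣ ipR x y := by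
  induction hx using AddSubgroup.closure_induction with
  | mem x hx => exact ipR_genSet hx hy
  | zero => rw [ipR_zero_left]; exact dvd_zero _
  | add x y _ _ hx hy => rw [ipR_add_left]; exact dvd_add hx hy
  | neg x _ hx => rw [ipR_neg_left]; exact (dvd_neg).mpr hx

theorem ipR_K {x y : RuVec} (hx : x ∈ K) (hy : y ∈ K) : (4 : ℤ) ∣ ipR x y := by
  induction hy using AddSubgroup.closure_induction with
  | mem y hy => exact ipR_K_genSet hx hy
  | zero => rw [ipR_zero_right]; exact dvd_zero _
  | add y z _ _ hy hz => rw [ipR_add_right]; exact dvd_add hy hz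
  | neg y _ hy => rw [ipR_neg_right]; exact (dvd_neg).mpr hy

theorem norm_K {x : RuVec} (hx : x ∈ K) : (8 : ℤ) ∣ ruNorm x := by
  induction hx using AddSubgroup.closure_induction with
  | mem x hx =>
    rcases hx with ⟨l, hl, rfl⟩ | hx
    · rw [ruNorm_eq, ipR_toRu]; exact norm_gens l hl
    · rw [ruNorm_eq]
      refine Finset.dvd_sum (fun j _ => ?_)
      obtain ⟨a, ha⟩ := four_rc hx j
      rw [ha]
      exact ⟨2 * a * a, by ring⟩
  | zero => rw [ruNorm_zero]; exact dvd_zero _
  | add x y hx' hy' hx hy =>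
    rw [ruNorm_add]
    obtain ⟨c, hc⟩ := ipR_K hx' hy'
    rw [hc]
    exact dvd_add (dvd_add hx hy) ⟨c, by ring⟩
  | neg x _ hx => rw [ruNorm_neg]; exact hx

/-- `0/1`-valued bit of a mask. -/
def bitZ (m j : ℕ) : ℤ := if m.testBit j then 1 else 0

/-- The parity prediction from the pivot coordinates. -/
def linS (L : List (ℕ × ℕ)) (X : ℕ → ℤ) (j : ℕ) : ℤ :=
  (L.map (fun gp => X gp.2 * bitZ gp.1 j)).sum

theorem linS_add (L : List (ℕ × ℕ)) (X Y : ℕ → ℤ) (j : ℕ) :
    linS L (fun i => X i + Y i) j = linS L X j + linS L Y j := by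
  induction L with
  | nil => simp [linS]
  | cons gp L ih =>
    simp only [linS, List.map_cons, List.sum_cons] at ih ⊢
    rw [ih]; ring

theorem linS_neg (L : List (ℕ × ℕ)) (X : ℕ → ℤ) (j : ℕ) :
    linS L (fun i => - X i) j = - linS L X j := by
  induction L with
  | nil => simp [linS]
  | cons gp L ih =>
    simp only [linS, List.map_cons, List.sum_cons] at ih ⊢
    rw [ih]; ring

theorem linS_even (L : List (ℕ × ℕ)) (X : ℕ → ℤ) (h : ∀ i, (2 : ℤ) ∣ X i) (j : ℕ) :
    (2 : ℤ) ∣ linS L X j := by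
  induction L with
  | nil => simp [linS]
  | cons gp L ih =>
    simp only [linS, List.map_cons, List.sum_cons] at ih ⊢
    exact dvd_add (Dvd.dvd.mul_right (h _) _) ih

theorem linS_congr (L : List (ℕ × ℕ)) (X Y : ℕ → ℤ) (h : ∀ gp ∈ L, X gp.2 = Y gp.2) (j : ℕ) :
    linS L X j = linS L Y j := by
  unfold linS
  congr 1
  exact List.map_congr_left (fun gp hgp => by rw [h gp hgp])

theorem GP_lt : ∀ gp ∈ GP, gp.2 < 56 := by decide

theorem par_gens : ∀ l ∈ gens, ∀ j ∈ List.range 56,
    (2 : ℤ) ∣ l.getD j 0 - linS GP (fun i => l.getD i 0) j := by decide +kernel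

/-- The parity of every coordinate of a vector of `K` is determined by the pivot coordinates. -/
theorem par_K {x : RuVec} (hx : x ∈ K) (j : ℕ) (hj : j < 56) :
    (2 : ℤ) ∣ rc x j - linS GP (rc x) j := by
  induction hx using AddSubgroup.closure_induction with
  | mem x hx =>
    rcases hx with ⟨l, hl, rfl⟩ | hx
    · rw [rc_toRu _ _ hj, linS_congr GP (rc (toRu l)) (fun i => l.getD i 0)
        (fun gp hgp => rc_toRu _ _ (GP_lt gp hgp))]
      exact par_gens l hl j (List.mem_range.mpr hj)
    · have h2 : ∀ i, (2 : ℤ) ∣ rc x i := fun i => Dvd.dvd.trans ⟨2, by norm_num⟩ (four_rc hx i)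
      exact dvd_sub (h2 j) (linS_even GP _ h2 j)
  | zero =>
    have : linS GP (rc 0) j = 0 := by
      have := linS_even GP (rc 0) (fun i => by rw [rc_zero]; exact dvd_zero _) j
      have h0 : rc (0 : RuVec) = fun _ => 0 := funext rc_zero
      rw [h0]
      have h1 := linS_add GP (fun _ => 0) (fun _ => 0) j
      simp only [add_zero] at h1
      linarith
    rw [rc_zero, this]; simp
  | add x y _ _ hx hy =>
    have h0 : rc (x + y) = fun i => rc x i + rc y i := funext (rc_add x y)
    rw [h0, linS_add]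
    have : rc x j + rc y j - (linS GP (rc x) j + linS GP (rc y) j)
        = (rc x j - linS GP (rc x) j) + (rc y j - linS GP (rc y) j) := by ring
    rw [this]; exact dvd_add hx hy
  | neg x _ hx =>
    have h0 : rc (-x) = fun i => - rc x i := funext (rc_neg x)
    rw [h0, linS_neg]
    have : - rc x j - - linS GP (rc x) j = - (rc x j - linS GP (rc x) j) := by ring
    rw [this]; exact (dvd_neg).mpr hx

end Cfsg.Agent.Lib.Helper92.Ru
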