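import Mathlib
import Cfsg.Prelude.Def_Spor_Ru
import Cfsg.Agent.Lib.Helper92.RuProp
import Cfsg.Agent.Lib.Helper92.RuEnumAll

/-!
The explicit lattice `K` has no vector of (stored) norm 8.
-/

set_option autoImplicit false

namespace Cfsg.Agent.Lib.Helper92.Ru

open Cfsg.Spor Finset

/-- The parity word predicted from the pivot coordinates of `X`. -/
def mfold (X : ℕ → ℤ) : List (ℕ × ℕ) → ℕ → ℕ
  | [], acc => acc
  | gp :: L, acc => mfold X L (if X gp.2 % 2 = 1 then Nat.xor acc gp.1 else acc)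

theorem allGood_mfold (X : ℕ → ℤ) : ∀ (L : List (ℕ × ℕ)) (acc : ℕ),
    allGood L acc = true → good (mfold X L acc) = true
  | [], acc, h => h
  | gp :: L, acc, h => by
    simp only [allGood, Bool.and_eq_true] at h
    unfold mfold
    split
    · exact allGood_mfold X L _ h.2
    · exact allGood_mfold X L _ h.1

theorem par_xor (a S : ℤ) (b : Bool) :
    decide ((a * (if b then 1 else 0) + S) % 2 = 1)
      = ((decide (a % 2 = 1) && b) ^^ decide (S % 2 = 1)) := by
  cases b
  · simp
  · simp only [if_true, mul_one, Bool.and_true]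
    rcases Int.emod_two_eq_zero_or_one a with ha | ha <;>
      rcases Int.emod_two_eq_zero_or_one S with hS | hS <;>
      rw [Int.add_emod, ha, hS] <;> decide

theorem mfold_testBit (X : ℕ → ℤ) (j : ℕ) : ∀ (L : List (ℕ × ℕ)) (acc : ℕ),
    (mfold X L acc).testBit j = (acc.testBit j ^^ decide (linS L X j % 2 = 1))
  | [], acc => by simp [mfold, linS]
  | gp :: L, acc => by
    unfold mfold
    rw [mfold_testBit X j L]
    have hl : linS (gp :: L) X j = X gp.2 * (if gp.1.testBit j then 1 else 0) + linS L X j := by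
      simp [linS, bitZ]
    rw [hl, par_xor, ← Bool.xor_assoc]
    congr 1
    by_cases h : X gp.2 % 2 = 1
    · rw [if_pos h]
      show (acc ^^^ gp.1).testBit j = _
      rw [Nat.testBit_xor]
      simp [h]
    · rw [if_neg h]
      simp [h]

theorem key2 : ∀ p < 56, ∀ q < 56, p ≠ q →
    ∃ b ∈ gens, (b.getD p 0 + b.getD q 0) % 2 = 1 := by decide +kernel

theorem blk_w : ∀ n < 7, (blockW.getD n []) ∈ gens ∧
    (∀ b < 8, (2 : ℤ) ∣ (blockW.getD n []).getD (8 * n + b) 0) ∧
    (∑ b ∈ Finset.range 8, (blockW.getD n []).getD (8 * n + b) 0) % 4 = 2 := by decide +kernel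

theorem blk_cnt : ∀ n < 7,
    ∑ j ∈ Finset.range 56, (if 8 * n ≤ j ∧ j < 8 * n + 8 then (1 : ℤ) else 0) = 8 := by
  decide +kernel

theorem blk_bit : ∀ n < 7, ∀ j < 56,
    (255 <<< (8 * n)).testBit j = decide (8 * n ≤ j ∧ j < 8 * n + 8) := by decide +kernel

theorem odd_sq {a : ℤ} (h : a % 2 = 1) : 1 ≤ a * a := by
  rcases (by omega : a ≥ 1 ∨ a ≤ -1) with h | h <;> nlinarith

theorem evenCase (X : ℕ → ℤ)
    (H0 : ∑ j ∈ Finset.range 56, X j * X j = 8)
    (H1 : ∀ b ∈ gens, (4 : ℤ) ∣ ∑ j ∈ Finset.range 56, b.getD j 0 * X j)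
    (hev : ∀ j < 56, (2 : ℤ) ∣ X j) : False := by
  have hsq : ∀ j < 56, X j ≠ 0 → 4 ≤ X j * X j := by
    intro j hj hne
    obtain ⟨c, hc⟩ := hev j hj
    have hc0 : c ≠ 0 := by
      rintro rfl
      exact hne (by simpa using hc)
    have : 1 ≤ c * c := by
      rcases (by omega : c ≥ 1 ∨ c ≤ -1) with h | h <;> nlinarith
    rw [hc]; nlinarith
  have h1 : ∃ p ∈ Finset.range 56, X p ≠ 0 := by
    by_contra hne
    have hne' : ∀ j ∈ Finset.range 56, X j = 0 := fun j hj => by_contra (fun h => hne ⟨j, hj, h⟩)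
    have : ∑ j ∈ Finset.range 56, X j * X j = 0 :=
      Finset.sum_eq_zero (fun j hj => by rw [hne' j hj]; ring)
    omega
  obtain ⟨p, hp, hXp⟩ := h1
  have e1 : X p * X p + ∑ j ∈ (Finset.range 56).erase p, X j * X j = 8 := by
    rw [Finset.add_sum_erase (Finset.range 56) (fun j => X j * X j) hp]; exact H0
  have h2 : ∃ q ∈ (Finset.range 56).erase p, X q ≠ 0 := by
    by_contra hne
    have hne' : ∀ j ∈ (Finset.range 56).erase p, X j = 0 :=
      fun j hj => by_contra (fun h => hne ⟨j, hj, h⟩)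
    have h0 : ∑ j ∈ (Finset.range 56).erase p, X j * X j = 0 :=
      Finset.sum_eq_zero (fun j hj => by rw [hne' j hj]; ring)
    have h8 : X p * X p = 8 := by linarith
    generalize X p = a at h8
    have ha1 : a ≤ 2 := by nlinarith
    have ha2 : -2 ≤ a := by nlinarith
    interval_cases a <;> omega
  obtain ⟨q, hq, hXq⟩ := h2
  have e2 : X q * X q + ∑ j ∈ ((Finset.range 56).erase p).erase q, X j * X j
      = ∑ j ∈ (Finset.range 56).erase p, X j * X j :=
    Finset.add_sum_erase ((Finset.range 56).erase p) (fun j => X j * X j) hq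
  have hnn : 0 ≤ ∑ j ∈ ((Finset.range 56).erase p).erase q, X j * X j :=
    Finset.sum_nonneg (fun j _ => mul_self_nonneg _)
  have hp4 := hsq p (Finset.mem_range.mp hp) hXp
  have hq4 := hsq q (Finset.mem_range.mp (Finset.mem_of_mem_erase hq)) hXq
  have hrest0 : ∑ j ∈ ((Finset.range 56).erase p).erase q, X j * X j = 0 := by linarith
  have hXp4 : X p * X p = 4 := by linarith
  have hXq4 : X q * X q = 4 := by linarith
  have hz : ∀ j ∈ ((Finset.range 56).erase p).erase q, X j = 0 := by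
    intro j hj
    have := (Finset.sum_eq_zero_iff_of_nonneg (fun j _ => mul_self_nonneg (X j))).mp hrest0 j hj
    exact mul_self_eq_zero.mp this
  have hpq : p ≠ q := (Finset.ne_of_mem_erase hq).symm
  obtain ⟨b, hb, hodd⟩ := key2 p (Finset.mem_range.mp hp) q
    (Finset.mem_range.mp (Finset.mem_of_mem_erase hq)) hpq
  have h4 := H1 b hb
  rw [← Finset.add_sum_erase (Finset.range 56) (fun j => b.getD j 0 * X j) hp,
    ← Finset.add_sum_erase ((Finset.range 56).erase p) (fun j => b.getD j 0 * X j) hq] at h4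
  have h0 : ∑ j ∈ ((Finset.range 56).erase p).erase q, b.getD j 0 * X j = 0 :=
    Finset.sum_eq_zero (fun j hj => by rw [hz j hj]; ring)
  rw [h0, add_zero] at h4
  have two : ∀ a : ℤ, a * a = 4 → a = 2 ∨ a = -2 := by
    intro a ha
    have : (a - 2) * (a + 2) = 0 := by ring_nf; linarith
    rcases mul_eq_zero.mp this with h | h
    · left; linarith
    · right; linarith
  rcases two _ hXp4 with h | h <;> rcases two _ hXq4 with h' | h' <;> rw [h, h'] at h4 <;> omega

theorem blockCase (X : ℕ → ℤ) (n : ℕ) (hn : n < 7)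
    (H0 : ∑ j ∈ Finset.range 56, X j * X j = 8)
    (H1 : ∀ b ∈ gens, (4 : ℤ) ∣ ∑ j ∈ Finset.range 56, b.getD j 0 * X j)
    (hodd : ∀ j < 56, (X j % 2 = 1 ↔ 8 * n ≤ j ∧ j < 8 * n + 8)) : False := by
  have hnn : ∀ j ∈ Finset.range 56,
      0 ≤ X j * X j - (if 8 * n ≤ j ∧ j < 8 * n + 8 then (1 : ℤ) else 0) := by
    intro j hj
    by_cases h : 8 * n ≤ j ∧ j < 8 * n + 8
    · have := odd_sq ((hodd j (Finset.mem_range.mp hj)).mpr h)
      rw [if_pos h]; linarith
    · rw [if_neg h]
      have := mul_self_nonneg (X j)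
      linarith
  have hsum : ∑ j ∈ Finset.range 56,
      (X j * X j - (if 8 * n ≤ j ∧ j < 8 * n + 8 then (1 : ℤ) else 0)) = 0 := by
    rw [Finset.sum_sub_distrib, H0, blk_cnt n hn]; norm_num
  have hz := (Finset.sum_eq_zero_iff_of_nonneg hnn).mp hsum
  have hoff : ∀ j < 56, ¬ (8 * n ≤ j ∧ j < 8 * n + 8) → X j = 0 := by
    intro j hj h
    have := hz j (Finset.mem_range.mpr hj)
    rw [if_neg h, sub_zero] at this
    exact mul_self_eq_zero.mp this
  obtain ⟨hw1, hw2, hw3⟩ := blk_w n hn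
  have h4 := H1 _ hw1
  rw [show (56 : ℕ) = 8 * 7 from rfl, sum_blocks] at h4
  rw [Finset.sum_eq_single n (fun i hi hne => ?_) (fun h => absurd (Finset.mem_range.mpr hn) h)]
    at h4
  · have h5 : (4 : ℤ) ∣ ∑ b ∈ Finset.range 8,
        (blockW.getD n []).getD (8 * n + b) 0 * (X (8 * n + b) - 1) := by
      refine Finset.dvd_sum (fun b hb => ?_)
      have hb8 := Finset.mem_range.mp hb
      obtain ⟨c, hc⟩ := hw2 b hb8
      have hX : X (8 * n + b) % 2 = 1 := (hodd _ (by omega)).mpr ⟨by omega, by omega⟩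
      obtain ⟨d, hd⟩ : (2 : ℤ) ∣ X (8 * n + b) - 1 := by omega
      rw [hc, hd]
      exact ⟨c * d, by ring⟩
    have h6 : ∑ b ∈ Finset.range 8, (blockW.getD n []).getD (8 * n + b) 0
        = ∑ b ∈ Finset.range 8, (blockW.getD n []).getD (8 * n + b) 0 * X (8 * n + b)
          - ∑ b ∈ Finset.range 8, (blockW.getD n []).getD (8 * n + b) 0 * (X (8 * n + b) - 1) := by
      rw [← Finset.sum_sub_distrib]
      refine Finset.sum_congr rfl (fun b _ => by ring)
    have h7 : (4 : ℤ) ∣ ∑ b ∈ Finset.range 8, (blockW.getD n []).getD (8 * n + b) 0 := by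
      rw [h6]; exact dvd_sub h4 h5
    omega
  · refine Finset.sum_eq_zero (fun b hb => ?_)
    have hb8 := Finset.mem_range.mp hb
    have hi7 := Finset.mem_range.mp hi
    rw [hoff (8 * i + b) (by omega) (by omega)]; ring

theorem specials_mem {m : ℕ} (h : m ∈ specials) : m = 0 ∨ ∃ n < 7, m = 255 <<< (8 * n) := by
  simp only [specials, List.mem_cons, List.not_mem_nil, or_false] at h
  rcases h with h | h | h | h | h | h | h | h
  · exact Or.inl h
  · exact Or.inr ⟨0, by norm_num, by rw [h]; rfl⟩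
  · exact Or.inr ⟨1, by norm_num, by rw [h]⟩
  · exact Or.inr ⟨2, by norm_num, by rw [h]⟩
  · exact Or.inr ⟨3, by norm_num, by rw [h]⟩
  · exact Or.inr ⟨4, by norm_num, by rw [h]⟩
  · exact Or.inr ⟨5, by norm_num, by rw [h]⟩
  · exact Or.inr ⟨6, by norm_num, by rw [h]⟩

/-- No integer vector satisfying the congruences of the lattice has norm 8. -/
theorem no_norm8 (X : ℕ → ℤ)
    (H0 : ∑ j ∈ Finset.range 56, X j * X j = 8)
    (H1 : ∀ b ∈ gens, (4 : ℤ) ∣ ∑ j ∈ Finset.range 56, b.getD j 0 * X j)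
    (H2 : ∀ j < 56, (2 : ℤ) ∣ X j - linS GP X j) : False := by
  have hbits : ∀ j < 56, (mfold X GP 0).testBit j = decide (X j % 2 = 1) := by
    intro j hj
    rw [mfold_testBit]
    simp only [Nat.zero_testBit, Bool.false_xor]
    have := H2 j hj
    exact decide_eq_decide.mpr (by omega)
  have hgood := allGood_mfold X GP 0 allGood_GP
  have hwt : w3 (mfold X GP 0) + w4 (mfold X GP 0) ≤ 8 := by
    rw [wt_eq]
    have h1 : ((∑ j ∈ Finset.range 56, if (mfold X GP 0).testBit j then 1 else 0 : ℕ) : ℤ)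
        ≤ ∑ j ∈ Finset.range 56, X j * X j := by
      push_cast
      refine Finset.sum_le_sum (fun j hj => ?_)
      rw [hbits j (Finset.mem_range.mp hj)]
      by_cases h : X j % 2 = 1
      · simp only [h, decide_true, if_true]
        exact odd_sq h
      · simp only [h, decide_false, Bool.false_eq_true, if_false]
        exact mul_self_nonneg _
    rw [H0] at h1
    exact_mod_cast h1
  rcases good_imp hgood with h | h
  · omega
  · rcases specials_mem h with h | ⟨n, hn, h⟩
    · refine evenCase X H0 H1 (fun j hj => ?_)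
      have := hbits j hj
      rw [h, Nat.zero_testBit] at this
      have h' : ¬ (X j % 2 = 1) := by simpa using this.symm
      omega
    · refine blockCase X n hn H0 H1 (fun j hj => ?_)
      have := hbits j hj
      rw [h, blk_bit n hn j hj] at this
      exact (decide_eq_decide.mp this).symm

/-- `K` has no vector of norm 8. -/
theorem no8 {x : RuVec} (hx : x ∈ K) (h8 : ruNorm x = 8) : False := by
  refine no_norm8 (rc x) ?_ (fun b hb => ?_) (fun j hj => par_K hx j hj)
  · rw [← h8, ruNorm_eq]; rfl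
  · rw [← ipR_toRu_right]
    exact ipR_K hx (gen_mem_K hb)

end Cfsg.Agent.Lib.Helper92.Ru
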